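import Groth.Statements.S6516
import Groth.Agent.Lib.Seat28FLF

set_option autoImplicit false
universe u
open CategoryTheory
open DCoh

namespace Groth.Agent.S6516

open AlgebraicGeometry in
/-- Schemes; with the bounded finite-locally-free reading of strictly perfect used throughout this
problem's derived-category definitions: the mapping cone of a morphism between strictly perfect
complexes of O_X-modules is strictly perfect. -/
theorem result {X : Scheme.{u}} {E F : CochainComplex X.Modules ℤ} (φ : E ⟶ F)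
    (hE : DCoh.IsStrictlyPerfect E) (hF : DCoh.IsStrictlyPerfect F) :
    DCoh.IsStrictlyPerfect (CochainComplex.mappingCone φ) := by
  obtain ⟨⟨a, b, hab⟩, hEf⟩ := hE
  obtain ⟨⟨a', b', hab'⟩, hFf⟩ := hF
  have key : ∀ i : ℤ, Nonempty ((CochainComplex.mappingCone φ).X i ≅ E.X (i + 1) ⊞ F.X i) := fun i =>
    ⟨HomologicalComplex.homotopyCofiber.XIsoBiprod φ i (i + 1) rfl⟩
  refine ⟨⟨min (a - 1) a', max (b - 1) b', fun i hi => ?_⟩, fun i => ?_⟩
  · obtain ⟨e⟩ := key i
    refine Limits.IsZero.of_iso ?_ e
    have h1 : Limits.IsZero (E.X (i + 1)) := hab (i + 1) (by omega)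
    have h2 : Limits.IsZero (F.X i) := hab' i (by omega)
    rw [Limits.IsZero.iff_id_eq_zero]
    apply Limits.biprod.hom_ext
    · exact h1.eq_of_tgt _ _
    · exact h2.eq_of_tgt _ _
  · obtain ⟨e⟩ := key i
    exact Groth.Agent.Lib.Seat28.FLF.isFinLocFree_of_iso e.symm
      (Groth.Agent.Lib.Seat28.FLF.isFinLocFree_biprod _ _ (hEf (i + 1)) (hFf i))

end Groth.Agent.S6516
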