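import Groth.Statements.S7158
import Groth.Agent.Lib.Seat10DomL
import Groth.Agent.Lib.Seat10DomM
import Groth.Agent.Lib.Seat10ASB

set_option autoImplicit false
universe u
open EtAlg

namespace Groth.Agent.S7158

/-- Let A be a discrete valuation ring whose fraction field K has characteristic p > 0, let ξ be an
element of K and let L = K(z) be obtained by adjoining a root z of z^p - z = ξ. Then L/K is a Galois
extension, and it falls under one of four cases: (1) L = K; (2) L/K has degree p and is unramified
with respect to A; (3) L/K has degree p and is totally ramified with respect to A (ramification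
index p); (4) exactly one valuation ring of L dominates A (so B, the integral closure of A in L, is
itself a discrete valuation ring), the extension A → B is weakly unramified, and its residue field
extension is purely inseparable of degree p. Moreover, with π a uniformizer of A: (A) if ξ lies in
A, case (1) or (2) holds; (B) if ξ = π⁻ⁿa with n > 0 prime to p and a a unit of A, case (3) holds;
(C) if ξ = π⁻ⁿa with n > 0 divisible by p and the residue class of a not a p-th power, case (4)
holds. -/
theorem result (p : ℕ) (hp : p.Prime) (A K L : Type u) [CommRing A] [IsDomain A]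
    [IsDiscreteValuationRing A] [Field K] [Algebra A K] [IsFractionRing A K] [Field L] [Algebra K L] [Algebra A L]
    [IsScalarTower A K L] [CharP K p] (π : A) (hπ : IsLocalRing.maximalIdeal A = Ideal.span {π})
    (ξ : K) (z : L) (hz : z ^ p - z = algebraMap K L ξ) (hgen : IntermediateField.adjoin K {z} = ⊤) :
    let g : A →+* L := algebraMap A L
    let case1 : Prop := Module.finrank K L = 1
    let case2 : Prop := EtRam.IsUnramifiedExt A g ∧ Module.finrank K L = p
    let case3 : Prop := EtRam.IsTotallyRamified A g ∧ Module.finrank K L = p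
    let case4 : Prop := (∃ V : ValuationSubring L, EtRam.Dominates A g V) ∧
      (∀ V V' : ValuationSubring L, EtRam.Dominates A g V → EtRam.Dominates A g V' → V = V') ∧
      ∀ (V : ValuationSubring L) (h : EtRam.Dominates A g V),
        letI : Algebra A V := (RingHom.codRestrict g V h.1).toAlgebra
        ∀ [IsLocalHom (algebraMap A V)],
          EtRam.IsWeaklyUnramified A V ∧
            IsPurelyInseparable (IsLocalRing.ResidueField A) (IsLocalRing.ResidueField V) ∧
            Module.finrank (IsLocalRing.ResidueField A) (IsLocalRing.ResidueField V) = p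
    IsGalois K L ∧ (case1 ∨ case2 ∨ case3 ∨ case4) ∧
      ((∃ a : A, algebraMap A K a = ξ) → case1 ∨ case2) ∧
      (∀ (n : ℕ) (a : Aˣ), 0 < n → ¬ p ∣ n → ξ * algebraMap A K π ^ n = algebraMap A K a → case3) ∧
      (∀ (n : ℕ) (a : A), 0 < n → p ∣ n → (∀ r : A, IsLocalRing.residue A a ≠ IsLocalRing.residue A r ^ p) →
          ξ * algebraMap A K π ^ n = algebraMap A K a → case4) := by
  intro g case1 case2 case3 case4
  haveI : Fact p.Prime := ⟨hp⟩
  have hzint := Groth.Agent.Lib.Seat10.AS.isIntegral_of_eq ξ z hz
  haveI hfd : FiniteDimensional K L :=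
    Groth.Agent.Lib.Seat10.AS.finiteDimensional_of_adjoin_simple_eq_top K hzint hgen
  haveI hgal : IsGalois K L := Groth.Agent.Lib.Seat10.AS.isGalois ξ z hz hgen
  have hdeg := Groth.Agent.Lib.Seat10.AS.finrank_eq_one_or ξ z hz hgen
  have hle : Module.finrank K L ≤ p := by
    rcases hdeg with h | h
    · rw [h]; exact hp.one_lt.le
    · exact h.le
  have hinjAK : Function.Injective (algebraMap A K) := IsFractionRing.injective A K
  haveI hcharA : CharP A p := (algebraMap A K).charP hinjAK p
  -- the residue characteristic
  haveI hchark : CharP (IsLocalRing.ResidueField A) p := by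
    obtain ⟨q, hq⟩ := CharP.exists (IsLocalRing.ResidueField A)
    have h0 : ((p : ℕ) : IsLocalRing.ResidueField A) = 0 := by
      have : ((p : ℕ) : A) = 0 := CharP.cast_eq_zero A p
      rw [← map_natCast (IsLocalRing.residue A), this, map_zero]
    have hdvd : q ∣ p := (CharP.cast_eq_zero_iff (IsLocalRing.ResidueField A) q p).mp h0
    rcases CharP.char_is_prime_or_zero (IsLocalRing.ResidueField A) q with hqp | hq0
    · rw [(Nat.prime_dvd_prime_iff_eq hqp hp).mp hdvd] at hq
      exact hq
    · rw [hq0, zero_dvd_iff] at hdvd
      exact absurd hdvd hp.ne_zero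
  -- the polynomial `X ^ p - X` over `A`
  have hP1 : (Polynomial.X : Polynomial A).natDegree < (Polynomial.X ^ p : Polynomial A).natDegree := by
    rw [Polynomial.natDegree_X_pow, Polynomial.natDegree_X]
    exact hp.one_lt
  have hPm : (Polynomial.X ^ p - Polynomial.X : Polynomial A).Monic := by
    apply (Polynomial.monic_X_pow p).sub_of_left
    rw [Polynomial.degree_X_pow, Polynomial.degree_X]
    exact_mod_cast hp.one_lt
  have hPd : (Polynomial.X ^ p - Polynomial.X : Polynomial A).natDegree = p := by
    rw [Polynomial.natDegree_sub_eq_left_of_natDegree_lt hP1, Polynomial.natDegree_X_pow]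
  have hzP : Polynomial.aeval z (Polynomial.X ^ p - Polynomial.X : Polynomial A) =
      algebraMap K L ξ := by
    rw [map_sub, map_pow, Polynomial.aeval_X, hz]
  refine ⟨hgal, ?_, ?_, ?_, ?_⟩
  · rcases hdeg with h | h
    · exact Or.inl h
    · exact Or.inr (Groth.Agent.Lib.Seat10.Dom.prime_degree_cases A K p hp h)
  · rintro ⟨a, rfl⟩
    have hun : EtRam.IsUnramifiedExt A (algebraMap A L) := by
      apply Groth.Agent.Lib.Seat10.Dom.isUnramifiedExt_of_isUnit_derivative A K
        (Polynomial.X ^ p - Polynomial.X - Polynomial.C a : Polynomial A) ?_ ?_ z ?_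
        (Groth.Agent.Lib.Seat10.AS.algebra_adjoin_eq_top K hzint hgen)
      · apply hPm.sub_of_left
        apply Polynomial.degree_C_le.trans_lt
        rw [Polynomial.degree_eq_natDegree hPm.ne_zero, hPd]
        exact_mod_cast hp.pos
      · have h1 : Polynomial.derivative
            (Polynomial.X ^ p - Polynomial.X - Polynomial.C a : Polynomial A) = -1 := by
          rw [Polynomial.derivative_sub, Polynomial.derivative_sub, Polynomial.derivative_X_pow,
            Polynomial.derivative_X, Polynomial.derivative_C, CharP.cast_eq_zero, map_zero,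
            zero_mul, zero_sub, sub_zero]
        rw [h1, map_neg, map_one]
        exact isUnit_one.neg
      · rw [map_sub, hzP, Polynomial.aeval_C, IsScalarTower.algebraMap_apply A K L, sub_self]
    rcases hdeg with h | h
    · exact Or.inl h
    · exact Or.inr ⟨hun, h⟩
  · intro n a hn hpn hξ
    exact Groth.Agent.Lib.Seat10.Dom.case3_of_pole A K p hp hle π hπ _ hPm hPd ξ z hzP n a hn hpn hξ
  · intro n a hn hpn hnp hξ
    exact Groth.Agent.Lib.Seat10.Dom.case4_of_pole A K p hp hle π hπ _ hPm hPd ξ z hzP n a hn hpn
      hnp hξ

end Groth.Agent.S7158
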