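import Groth.Statements.S9306
import Groth.Agent.Lib.Seat95EtRam
-- import your own Groth.Agent.* helpers here

set_option autoImplicit false
universe u
open EtRam

namespace Groth.Agent.S9306

open TensorProduct in
/-- Let A → B be an injective local homomorphism of discrete valuation rings with fraction fields K ⊆ L,
and let K' be a finite separable extension of K that is unramified relative to A. Then every field F
onto which K' ⊗_K L surjects is, as an extension of L, unramified relative to B. (The published
statement also records that K' ⊗_K L is a finite product of fields, whose factors are these F; this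
row does not state that part.) -/
theorem result (A B K L K' : Type u) [CommRing A] [IsDomain A]
    [IsDiscreteValuationRing A] [CommRing B] [IsDomain B] [IsDiscreteValuationRing B] [Algebra A B]
    [IsLocalHom (algebraMap A B)] (hinj : Function.Injective (algebraMap A B))
    [Field K] [Field L] [Field K'] [Algebra A K] [IsFractionRing A K] [Algebra B L] [IsFractionRing B L]
    [Algebra K L] [Algebra A L] [IsScalarTower A K L] [IsScalarTower A B L]
    [Algebra K K'] [FiniteDimensional K K'] [Algebra.IsSeparable K K']
    (h : EtRam.IsUnramifiedExt A ((algebraMap K K').comp (algebraMap A K)))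
    (F : Type u) [Field F] [Algebra (K' ⊗[K] L) F] (hF : Function.Surjective (algebraMap (K' ⊗[K] L) F)) :
    EtRam.IsUnramifiedExt B ((algebraMap (K' ⊗[K] L) F).comp
      ((Algebra.TensorProduct.includeRight : L →ₐ[K] K' ⊗[K] L).toRingHom.comp (algebraMap B L))) := by
  classical
  letI algAK' : Algebra A K' := ((algebraMap K K').comp (algebraMap A K)).toAlgebra
  haveI : IsScalarTower A K K' := .of_algebraMap_eq' rfl
  haveI het : Algebra.Etale A (integralClosure A K') :=
    Groth.Agent.Lib.Seat95.EtRamLib.etale_integralClosure A K K' h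
  let iK' : K' →+* F := (algebraMap (K' ⊗[K] L) F).comp
    (Algebra.TensorProduct.includeLeft : K' →ₐ[K] K' ⊗[K] L).toRingHom
  let iL : L →+* F := (algebraMap (K' ⊗[K] L) F).comp
    (Algebra.TensorProduct.includeRight : L →ₐ[K] K' ⊗[K] L).toRingHom
  let g : B →+* F := iL.comp (algebraMap B L)
  have hcomp : ∀ k : K, iK' (algebraMap K K' k) = iL (algebraMap K L k) := by
    intro k
    change algebraMap (K' ⊗[K] L) F ((Algebra.TensorProduct.includeLeft : K' →ₐ[K] K' ⊗[K] L)
      (algebraMap K K' k)) = algebraMap (K' ⊗[K] L) F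
      ((Algebra.TensorProduct.includeRight : L →ₐ[K] K' ⊗[K] L) (algebraMap K L k))
    rw [AlgHom.commutes, AlgHom.commutes]
  have hA : ∀ a : A, iK' (algebraMap A K' a) = g (algebraMap A B a) := by
    intro a
    change iK' (algebraMap K K' (algebraMap A K a)) = iL (algebraMap B L (algebraMap A B a))
    rw [hcomp, ← IsScalarTower.algebraMap_apply A K L, ← IsScalarTower.algebraMap_apply A B L]
  letI algAF : Algebra A F := (g.comp (algebraMap A B)).toAlgebra
  let fB : B →ₐ[A] F := { g with commutes' := fun a => rfl }
  let fA' : integralClosure A K' →ₐ[A] F :=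
    { iK'.comp (algebraMap (integralClosure A K') K') with commutes' := fun a => hA a }
  let ψ : B ⊗[A] integralClosure A K' →ₐ[A] F := Algebra.TensorProduct.productMap fB fA'
  have hψtmul : ∀ (b : B) (a' : integralClosure A K'), ψ (b ⊗ₜ a') = g b * iK' (a' : K') :=
    fun b a' => Algebra.TensorProduct.productMap_apply_tmul fB fA' b a'
  have hψ : ∀ b, ψ.toRingHom (algebraMap B (B ⊗[A] integralClosure A K') b) = g b := by
    intro b
    rw [Algebra.TensorProduct.algebraMap_apply]
    change ψ (b ⊗ₜ (1 : integralClosure A K')) = g b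
    rw [hψtmul]
    simp
  have hg : Function.Injective g :=
    iL.injective.comp (IsFractionRing.injective B L)
  intro W hdom
  have hCW : ∀ c, ψ.toRingHom c ∈ W := by
    intro c
    change ψ c ∈ W
    induction c using TensorProduct.induction_on with
    | zero => rw [map_zero]; exact W.zero_mem
    | tmul b a' =>
      rw [hψtmul]
      refine W.mul_mem _ _ (hdom.1 b) ?_
      apply Groth.Agent.Lib.Seat95.EtRamLib.mem_valuationSubring_of_isIntegralElem W
        (iK'.comp (algebraMap A K'))
      · intro a
        rw [RingHom.comp_apply, hA]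
        exact hdom.1 _
      · obtain ⟨p, hp, hpx⟩ := a'.2
        refine ⟨p, hp, ?_⟩
        rw [← Polynomial.hom_eval₂, hpx, map_zero]
    | add x y hx hy => rw [map_add]; exact W.add_mem _ _ hx hy
  have hgen : ∀ x : F, ∃ (c : B ⊗[A] integralClosure A K') (b : B), b ≠ 0 ∧
      x * g b = ψ.toRingHom c := by
    intro x
    obtain ⟨t, rfl⟩ := hF x
    induction t using TensorProduct.induction_on with
    | zero => exact ⟨0, 1, one_ne_zero, by simp⟩
    | tmul k' l =>
      haveI := IsLocalization.isAlgebraic K (nonZeroDivisors A)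
      haveI : Algebra.IsAlgebraic A K' := Algebra.IsAlgebraic.trans A K K'
      obtain ⟨a, ha0, haint⟩ := (Algebra.IsAlgebraic.isAlgebraic (R := A) k').exists_integral_multiple
      obtain ⟨b₁, b₂, hb₂, rfl⟩ := IsFractionRing.div_surjective (A := B) l
      have hb₂0 : b₂ ≠ 0 := nonZeroDivisors.ne_zero hb₂
      have hb₂L : algebraMap B L b₂ ≠ 0 := fun h0 =>
        hb₂0 (IsFractionRing.injective B L (h0.trans (map_zero _).symm))
      refine ⟨b₁ ⊗ₜ (⟨a • k', haint⟩ : integralClosure A K'), algebraMap A B a * b₂,
        mul_ne_zero (fun h0 => ha0 (hinj (h0.trans (map_zero _).symm))) hb₂0, ?_⟩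
      change _ = ψ _
      rw [hψtmul]
      have h1 : algebraMap (K' ⊗[K] L) F (k' ⊗ₜ[K] (algebraMap B L b₁ / algebraMap B L b₂)) =
          iK' k' * iL (algebraMap B L b₁ / algebraMap B L b₂) := by
        change _ = algebraMap (K' ⊗[K] L) F (k' ⊗ₜ 1) * algebraMap (K' ⊗[K] L) F (1 ⊗ₜ _)
        rw [← map_mul, Algebra.TensorProduct.tmul_mul_tmul, mul_one, one_mul]
      rw [h1, map_mul g, ← hA]
      change _ = iL (algebraMap B L b₁) * iK' (a • k')
      rw [Algebra.smul_def, map_mul iK', map_div₀ iL]
      change iK' k' * (iL (algebraMap B L b₁) / iL (algebraMap B L b₂)) *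
        (iK' (algebraMap A K' a) * iL (algebraMap B L b₂)) = _
      have : iL (algebraMap B L b₂) ≠ 0 := fun h0 => hb₂L (iL.injective (h0.trans (map_zero _).symm))
      field_simp
    | add x y hx hy =>
      obtain ⟨c₁, b₁, hb₁, h1⟩ := hx
      obtain ⟨c₂, b₂, hb₂, h2⟩ := hy
      refine ⟨c₁ * algebraMap B _ b₂ + c₂ * algebraMap B _ b₁, b₁ * b₂, mul_ne_zero hb₁ hb₂, ?_⟩
      simp only [map_add, map_mul, hψ]
      rw [← h1, ← h2]
      ring
  intro hloc
  exact Groth.Agent.Lib.Seat95.EtRamLib.core g ψ.toRingHom hψ hg W hdom hCW hgen hloc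

end Groth.Agent.S9306
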