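import Groth.Statements.S9307
import Groth.Agent.Lib.Seat10TowerY

set_option autoImplicit false
universe u
open EtRam

namespace Groth.Agent.S9307

open TensorProduct in
/-- Let A → B be an injective local homomorphism of discrete valuation rings with fraction fields K ⊆ L,
and let K' be a finite separable extension of K that is tamely ramified relative to A. Then every
field F onto which K' ⊗_K L surjects is, as an extension of L, tamely ramified relative to B. (The
published statement also records that K' ⊗_K L is a finite product of fields, whose factors are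
these F; this row does not state that part.) -/
theorem result (A B K L K' : Type u) [CommRing A] [IsDomain A]
    [IsDiscreteValuationRing A] [CommRing B] [IsDomain B] [IsDiscreteValuationRing B] [Algebra A B]
    [IsLocalHom (algebraMap A B)] (hinj : Function.Injective (algebraMap A B))
    [Field K] [Field L] [Field K'] [Algebra A K] [IsFractionRing A K] [Algebra B L] [IsFractionRing B L]
    [Algebra K L] [Algebra A L] [IsScalarTower A K L] [IsScalarTower A B L]
    [Algebra K K'] [FiniteDimensional K K'] [Algebra.IsSeparable K K']
    (h : EtRam.IsTamelyRamified A ((algebraMap K K').comp (algebraMap A K)))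
    (F : Type u) [Field F] [Algebra (K' ⊗[K] L) F] (hF : Function.Surjective (algebraMap (K' ⊗[K] L) F)) :
    EtRam.IsTamelyRamified B ((algebraMap (K' ⊗[K] L) F).comp
      ((Algebra.TensorProduct.includeRight : L →ₐ[K] K' ⊗[K] L).toRingHom.comp (algebraMap B L))) := by
  classical
  let iK' : K' →+* F := (algebraMap (K' ⊗[K] L) F).comp
    (Algebra.TensorProduct.includeLeft : K' →ₐ[K] K' ⊗[K] L).toRingHom
  let iL : L →+* F := (algebraMap (K' ⊗[K] L) F).comp
    (Algebra.TensorProduct.includeRight : L →ₐ[K] K' ⊗[K] L).toRingHom
  have hcomp : ∀ k : K, iK' (algebraMap K K' k) = iL (algebraMap K L k) := by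
    intro k
    change algebraMap (K' ⊗[K] L) F ((Algebra.TensorProduct.includeLeft : K' →ₐ[K] K' ⊗[K] L)
      (algebraMap K K' k)) = algebraMap (K' ⊗[K] L) F
      ((Algebra.TensorProduct.includeRight : L →ₐ[K] K' ⊗[K] L) (algebraMap K L k))
    rw [AlgHom.commutes, AlgHom.commutes]
  letI algLF : Algebra L F := iL.toAlgebra
  letI algK'F : Algebra K' F := iK'.toAlgebra
  letI algKF : Algebra K F := (iL.comp (algebraMap K L)).toAlgebra
  haveI : IsScalarTower K L F := IsScalarTower.of_algebraMap_eq (fun _ => rfl)
  haveI : IsScalarTower K K' F := IsScalarTower.of_algebraMap_eq (fun k => (hcomp k).symm)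
  have hadj : Algebra.adjoin L (Set.range (algebraMap K' F)) = ⊤ := by
    rw [eq_top_iff]
    rintro x -
    obtain ⟨t, rfl⟩ := hF x
    induction t using TensorProduct.induction_on with
    | zero => rw [map_zero]; exact zero_mem _
    | tmul k' l =>
      have h1 : algebraMap (K' ⊗[K] L) F (k' ⊗ₜ[K] l) = iK' k' * iL l := by
        change _ = algebraMap (K' ⊗[K] L) F (k' ⊗ₜ 1) * algebraMap (K' ⊗[K] L) F (1 ⊗ₜ l)
        rw [← map_mul, Algebra.TensorProduct.tmul_mul_tmul, mul_one, one_mul]
      rw [h1]
      exact mul_mem (Algebra.subset_adjoin ⟨k', rfl⟩) (Subalgebra.algebraMap_mem _ l)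
    | add x y hx hy => rw [map_add]; exact add_mem hx hy
  intro W hdom
  have hW : EtRam.Dominates B ((algebraMap L F).comp (algebraMap B L)) W := hdom
  -- the valuation ring of `K'`
  have hcompat : ∀ a : A, algebraMap K' F (algebraMap K K' (algebraMap A K a)) =
      algebraMap L F (algebraMap B L (algebraMap A B a)) := by
    intro a
    rw [← IsScalarTower.algebraMap_apply K K' F, IsScalarTower.algebraMap_apply K L F,
      ← IsScalarTower.algebraMap_apply A K L, ← IsScalarTower.algebraMap_apply A B L]
  have hdomV : EtRam.Dominates A ((algebraMap K K').comp (algebraMap A K))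
      (W.comap (algebraMap K' F)) := by
    rw [← Groth.Agent.Lib.Seat10.ValDom.dominates_comp_iff]
    refine ⟨fun a => ?_, fun a ha => ?_⟩
    · simp only [RingHom.comp_apply]
      rw [hcompat]
      exact hW.1 _
    · simp only [RingHom.comp_apply]
      rw [hcompat]
      apply hW.2
      rw [IsLocalRing.mem_maximalIdeal, mem_nonunits_iff] at ha ⊢
      exact fun h => ha (isUnit_of_map_unit (algebraMap A B) a h)
  intro hloc
  letI algAV : Algebra A (W.comap (algebraMap K' F)) :=
    (RingHom.codRestrict ((algebraMap K K').comp (algebraMap A K)) (W.comap (algebraMap K' F))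
      hdomV.1).toAlgebra
  haveI hlocAV : IsLocalHom (algebraMap A (W.comap (algebraMap K' F))) :=
    Groth.Agent.Lib.Seat10.ValDom.isLocalHom_toVal hdomV
  obtain ⟨hsep, hram⟩ := h (W.comap (algebraMap K' F)) hdomV
  obtain ⟨h1, h2⟩ := Groth.Agent.Lib.Seat10.Tower.tame_localExt A B K L hinj K' F hadj W hW
    hdomV.1 hsep hram
  refine ⟨h1, fun p hp hchar hdvd => ?_⟩
  have hcharA : CharP (IsLocalRing.ResidueField A) p :=
    (algebraMap (IsLocalRing.ResidueField A) (IsLocalRing.ResidueField B)).charP
      (RingHom.injective _) p
  exact hram p hp hcharA (hdvd.trans h2)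

end Groth.Agent.S9307
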