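import Groth.Statements.S1989
import Groth.Agent.Lib.Seat10ValDomD

set_option autoImplicit false
universe u
open EtAlg

namespace Groth.Agent.S1989

open Groth.Agent.Lib.Seat10.ValDom IsLocalRing

/-- Let K be the fraction field of a discrete valuation ring A, and K ⊂ L ⊂ M finite separable
extensions. If M is tamely ramified, respectively unramified, with respect to A, then so is L. -/
theorem result (A K : Type u) [CommRing A] [IsDomain A] [IsDiscreteValuationRing A] [Field K] [Algebra A K] [IsFractionRing A K] (L M : Type u) [Field L] [Field M]
    [Algebra K L] [Algebra K M] [Algebra L M] [IsScalarTower K L M] [FiniteDimensional K M] [Algebra.IsSeparable K M] :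
    (EtRam.IsTamelyRamified A ((algebraMap K M).comp (algebraMap A K)) →
      EtRam.IsTamelyRamified A ((algebraMap K L).comp (algebraMap A K))) ∧
    (EtRam.IsUnramifiedExt A ((algebraMap K M).comp (algebraMap A K)) →
      EtRam.IsUnramifiedExt A ((algebraMap K L).comp (algebraMap A K))) := by
  have hfg : (algebraMap L M).comp ((algebraMap K L).comp (algebraMap A K)) =
      (algebraMap K M).comp (algebraMap A K) := by
    ext a
    simp only [RingHom.comp_apply]
    rw [← IsScalarTower.algebraMap_apply K L M]
  have hfinL : FiniteDimensional K L := FiniteDimensional.left K L M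
  have hsepL : Algebra.IsSeparable K L := Algebra.isSeparable_tower_bot_of_isSeparable K L M
  -- the common construction
  have key : ∀ (V : ValuationSubring L)
      (h : EtRam.Dominates A ((algebraMap K L).comp (algebraMap A K)) V),
      ∃ (W : ValuationSubring M)
        (hW : EtRam.Dominates A ((algebraMap K M).comp (algebraMap A K)) W),
        letI : Algebra A V := (RingHom.codRestrict _ V h.1).toAlgebra
        letI : Algebra A W := (RingHom.codRestrict _ W hW.1).toAlgebra
        IsLocalHom (algebraMap A W) ∧
        ∀ [IsLocalHom (algebraMap A W)] [IsLocalHom (algebraMap A V)],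
        (Algebra.IsSeparable (ResidueField A) (ResidueField W) →
          Algebra.IsSeparable (ResidueField A) (ResidueField V)) ∧
        (Ideal.ramificationIdx' (maximalIdeal A) (maximalIdeal V) ∣
          Ideal.ramificationIdx' (maximalIdeal A) (maximalIdeal W)) ∧
        (EtRam.IsWeaklyUnramified A W → EtRam.IsWeaklyUnramified A V) := by
    intro V h
    obtain ⟨W, hWV⟩ := exists_comap_eq V (algebraMap L M)
    have hW : EtRam.Dominates A ((algebraMap K M).comp (algebraMap A K)) W := by
      rw [← hfg]
      exact dominates_of_comap_eq hWV h
    refine ⟨W, hW, ?_⟩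
    let algAV : Algebra A V := (RingHom.codRestrict _ V h.1).toAlgebra
    let algAW : Algebra A W := (RingHom.codRestrict _ W hW.1).toAlgebra
    let algVW : Algebra V W := (mapOfLE V W (algebraMap L M) hWV.ge).toAlgebra
    have htower : IsScalarTower A V W := by
      refine IsScalarTower.of_algebraMap_eq (fun a => Subtype.ext ?_)
      exact (RingHom.congr_fun hfg a).symm
    have hlocAW : IsLocalHom (algebraMap A W) := isLocalHom_toVal hW
    have hlocVW : IsLocalHom (algebraMap V W) := isLocalHom_mapOfLE V W (algebraMap L M) hWV
    have hdvrV : IsDiscreteValuationRing V := isDiscreteValuationRing_of_dominates A K V h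
    have hdvrW : IsDiscreteValuationRing W := isDiscreteValuationRing_of_dominates A K W hW
    refine ⟨hlocAW, ?_⟩
    intro _ hlocAV
    refine ⟨fun hs => isSeparable_residueField_bot (V := V) (W := W) hs, ?_, ?_⟩
    · have hgL : Function.Injective ((algebraMap K L).comp (algebraMap A K)) :=
        (algebraMap K L).injective.comp (IsFractionRing.injective A K)
      have hinjAV : Function.Injective (algebraMap A V) := toVal_injective h hgL
      have hinjVW : Function.Injective (algebraMap V W) :=
        mapOfLE_injective V W (algebraMap L M) hWV.ge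
      rw [ramificationIdx'_tower (A := A) (V := V) (W := W) hinjAV hinjVW]
      exact dvd_mul_right _ _
    · intro hw
      exact isWeaklyUnramified_bot (A := A) (V := V) (W := W)
        (IsPrincipalIdealRing.principal _) (mapOfLE_dvd V W (algebraMap L M) hWV) hw
  constructor
  · intro hM V h hloc
    obtain ⟨W, hW, hlocW, hkey⟩ := key V h
    obtain ⟨hsepW, hpW⟩ := @hM W hW hlocW
    obtain ⟨k1, k2, -⟩ := @hkey hlocW hloc
    exact ⟨k1 hsepW, fun p hp hchar hdvd => hpW p hp hchar (dvd_trans hdvd k2)⟩
  · intro hM V h hloc
    obtain ⟨W, hW, hlocW, hkey⟩ := key V h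
    obtain ⟨hwW, hsepW⟩ := @hM W hW hlocW
    obtain ⟨k1, -, k3⟩ := @hkey hlocW hloc
    exact ⟨k3 hwW, k1 hsepW⟩

end Groth.Agent.S1989
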