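import Groth.Statements.S4671
import Groth.Agent.Lib.Seat11FibProdAss

set_option autoImplicit false
open CategoryTheory AlgebraicGeometry
universe u
open AssSch

namespace Groth.Agent.S4671

open CategoryTheory.Limits in
/-- Let f : X → S and g : Y → S be morphisms of schemes with X, Y, S and X ×_S Y locally Noetherian, F a
quasi-coherent O_X-module such that f maps every associated point of F to an associated point of
O_S, and G a quasi-coherent O_Y-module flat over S. If F and G have no embedded associated points,
then F ⊗_S G (the tensor product on X ×_S Y of the pull-backs of F and G along the two projections)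
has no embedded associated points. (The published statement assumes only X, S, the fibres of g and
the schemes Spec κ(x) ×_S Spec κ(y) locally Noetherian; this row assumes Y and X ×_S Y locally
Noetherian, which implies all of these, so that associated points are those whose maximal ideal is
the annihilator of an element of the stalk.) -/
theorem result {X Y S : Scheme.{u}} (f : X ⟶ S) (g : Y ⟶ S)
    [IsLocallyNoetherian X] [IsLocallyNoetherian Y] [IsLocallyNoetherian S] [IsLocallyNoetherian (pullback f g)]
    (F : X.Modules) (hF : Coh.IsQCoh F) (G : Y.Modules) (hG : Coh.IsQCoh G) (hGfl : FlatMod.IsFlatOver g G)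
    (hAss : ∀ x ∈ AssSch.Ass F, f x ∈ AssSch.Ass (Coh.structureModule S))
    (hFne : AssSch.NoEmbedded F) (hGne : AssSch.NoEmbedded G) :
    AssSch.NoEmbedded (CohB1.tensorMod ((Scheme.Modules.pullback (pullback.fst f g)).obj F) ((Scheme.Modules.pullback (pullback.snd f g)).obj G)) := by
  have : G.IsQuasicoherent := hG
  intro z hz z' hz' hspec
  obtain ⟨t, ht⟩ := Groth.Agent.Lib.Seat11.FibProd.exists_jMap_eq f g z
  have hz1 : Curv2.IsAssPoint _ _ := hz
  rw [← ht] at hz1
  have h0 := (Groth.Agent.Lib.Seat11.FibProd.isAssPoint_jMap_iff f g F G hGfl _ _ t).1 hz1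
  have h := (Groth.Agent.Lib.Seat11.FibProdAss.isAssPoint_jMap_iff' f g F G hGfl _ _ t
    (hAss _ h0.1)).1 hz1
  obtain ⟨t', ht'⟩ := Groth.Agent.Lib.Seat11.FibProd.exists_jMap_eq f g z'
  have hz1' : Curv2.IsAssPoint _ _ := hz'
  rw [← ht'] at hz1'
  have h0' := (Groth.Agent.Lib.Seat11.FibProd.isAssPoint_jMap_iff f g F G hGfl _ _ t').1 hz1'
  have h' := (Groth.Agent.Lib.Seat11.FibProdAss.isAssPoint_jMap_iff' f g F G hGfl _ _ t'
    (hAss _ h0'.1)).1 hz1'
  have hx : Limits.pullback.fst f g z = Limits.pullback.fst f g z' :=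
    hFne _ h.1 _ h'.1 (hspec.map (Limits.pullback.fst f g).continuous)
  have hy : Limits.pullback.snd f g z = Limits.pullback.snd f g z' :=
    hGne _ h.2.1 _ h'.2.1 (hspec.map (Limits.pullback.snd f g).continuous)
  obtain ⟨t'', ht''⟩ := Groth.Agent.Lib.Seat11.FibProdAss.exists_jMap_eq' f g z' _ _ hx.symm hy.symm
  have hz2 : Curv2.IsAssPoint _ _ := hz'
  rw [← ht''] at hz2
  have h'' := (Groth.Agent.Lib.Seat11.FibProd.isAssPoint_jMap_iff f g F G hGfl _ _ t'').1 hz2
  have hspec2 : Groth.Agent.Lib.Seat11.FibProd.jMap f g _ _ t'' ⤳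
      Groth.Agent.Lib.Seat11.FibProd.jMap f g _ _ t := by
    rw [ht, ht'']
    exact hspec
  have htt := Groth.Agent.Lib.Seat11.FibProdAss.eq_of_specializes_jMap f g _ _ t t'' h.2.2
    h''.2.2 hspec2
  calc z = _ := ht.symm
    _ = _ := by rw [htt]
    _ = z' := ht''

end Groth.Agent.S4671
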