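import Groth.Statements.S6829
import Mathlib.RingTheory.Extension.Presentation.Basic
import Mathlib.Tactic

set_option autoImplicit false
universe u
open Smoothing

namespace Groth.Agent.S6829

open TensorProduct MvPolynomial

section Helpers

variable {R A : Type u} [CommRing R] [CommRing A] [Algebra R A]
variable (R' : Type u) [CommRing R'] [Algebra R R']

/-- the base-changed surjection -/
noncomputable def hom' (P : Smoothing.MarkedPresentation R A) :
    MvPolynomial (Fin P.n) R' →ₐ[R'] R' ⊗[R] A :=
  MvPolynomial.aeval fun i => (1 : R') ⊗ₜ[R] P.hom (X i)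

theorem hom'_map (P : Smoothing.MarkedPresentation R A) (q : MvPolynomial (Fin P.n) R) :
    hom' R' P (MvPolynomial.map (algebraMap R R') q) = (1 : R') ⊗ₜ[R] P.hom q := by
  have h : ((hom' R' P).restrictScalars R).comp
      (MvPolynomial.mapAlgHom (Algebra.ofId R R') : MvPolynomial (Fin P.n) R →ₐ[R] _) =
      (Algebra.TensorProduct.includeRight : A →ₐ[R] R' ⊗[R] A).comp P.hom := by
    apply MvPolynomial.algHom_ext
    intro i
    simp [hom']
  have := DFunLike.congr_fun h q
  simpa using this

theorem hom'_surjective (P : Smoothing.MarkedPresentation R A) :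
    Function.Surjective (hom' R' P) := by
  intro x
  induction x using TensorProduct.induction_on with
  | zero => exact ⟨0, map_zero _⟩
  | tmul r a =>
    obtain ⟨q, rfl⟩ := P.surj a
    refine ⟨r • MvPolynomial.map (algebraMap R R') q, ?_⟩
    rw [map_smul, hom'_map, TensorProduct.smul_tmul', smul_eq_mul, mul_one]
  | add x y hx hy =>
    obtain ⟨a, rfl⟩ := hx
    obtain ⟨b, rfl⟩ := hy
    exact ⟨a + b, map_add _ _ _⟩

/-- Mathlib presentation attached to a marked presentation -/
noncomputable def pres (P : Smoothing.MarkedPresentation R A) :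
    Algebra.Presentation R A (Fin P.n) (Fin P.m) where
  toGenerators := Algebra.Generators.ofAlgHom P.hom P.surj
  relation := P.rel
  span_range_relation_eq_ker := by
    rw [← P.ker_eq]
    have : (MvPolynomial.aeval (Algebra.Generators.ofAlgHom P.hom P.surj).val :
        MvPolynomial (Fin P.n) R →ₐ[R] A) = P.hom := by
      apply MvPolynomial.algHom_ext
      intro i
      simp [Algebra.Generators.ofAlgHom, Algebra.Generators.ofSurjective]
    ext x
    rw [RingHom.mem_ker]
    change _ ↔ algebraMap (Algebra.Generators.ofAlgHom P.hom P.surj).Ring A x = 0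
    rw [Algebra.Generators.algebraMap_apply, this]
    rfl

theorem ker_hom' (P : Smoothing.MarkedPresentation R A) :
    RingHom.ker (hom' R' P).toRingHom =
      Ideal.span (Set.range fun j => MvPolynomial.map (algebraMap R R') (P.rel j)) := by
  have h := ((pres P).baseChange R').span_range_relation_eq_ker
  have h2 : (fun j => MvPolynomial.map (algebraMap R R') (P.rel j)) =
      ((pres P).baseChange R').relation := rfl
  rw [h2, h]
  ext x
  rw [RingHom.mem_ker]
  change _ ↔ algebraMap ((pres P).baseChange R').toGenerators.Ring (R' ⊗[R] A) x = 0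
  rw [Algebra.Generators.algebraMap_apply]
  rfl

/-- the base-changed marked presentation -/
noncomputable def mp' (P : Smoothing.MarkedPresentation R A) :
    Smoothing.MarkedPresentation R' (R' ⊗[R] A) where
  n := P.n
  m := P.m
  c := P.c
  hcn := P.hcn
  hcm := P.hcm
  rel := fun j => MvPolynomial.map (algebraMap R R') (P.rel j)
  hom := hom' R' P
  surj := hom'_surjective R' P
  ker_eq := ker_hom' R' P

theorem jacobianMinor_map {n m c : ℕ} (f : Fin m → MvPolynomial (Fin n) R)
    (rows : Fin c → Fin m) (cols : Fin c → Fin n) :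
    Smoothing.jacobianMinor (fun j => MvPolynomial.map (algebraMap R R') (f j)) rows cols =
      MvPolynomial.map (algebraMap R R') (Smoothing.jacobianMinor f rows cols) := by
  unfold Smoothing.jacobianMinor
  rw [RingHom.map_det]
  congr 1
  ext j k
  simp [MvPolynomial.pderiv_map]

theorem killsTail_aux (P : Smoothing.MarkedPresentation R A) (a : A)
    (h : Smoothing.KillsTail P a) (a'' : MvPolynomial (Fin P.n) R')
    (ha'' : hom' R' P a'' = (1 : R') ⊗ₜ[R] a) (j : Fin P.m) (hj : P.c ≤ (j : ℕ)) :
    a'' * MvPolynomial.map (algebraMap R R') (P.rel j) ∈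
      Ideal.span ((fun j => MvPolynomial.map (algebraMap R R') (P.rel j)) ''
        {j' : Fin P.m | (j' : ℕ) < P.c}) ⊔
      Ideal.span (Set.range fun j => MvPolynomial.map (algebraMap R R') (P.rel j)) ^ 2 := by
  obtain ⟨a', ha'⟩ := P.surj a
  have h1 := h a' ha' j hj
  set φ : MvPolynomial (Fin P.n) R →+* MvPolynomial (Fin P.n) R' :=
    MvPolynomial.map (algebraMap R R') with hφ
  have hker : a'' - φ a' ∈ Ideal.span (Set.range fun j => φ (P.rel j)) := by
    rw [← ker_hom' R' P, RingHom.mem_ker, map_sub, sub_eq_zero]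
    show hom' R' P a'' = hom' R' P (φ a')
    rw [hom'_map, ha']
    exact ha''
  have hrel : φ (P.rel j) ∈ Ideal.span (Set.range fun j => φ (P.rel j)) :=
    Ideal.subset_span ⟨j, rfl⟩
  have hdecomp : a'' * φ (P.rel j) = φ (a' * P.rel j) + (a'' - φ a') * φ (P.rel j) := by
    rw [map_mul]
    ring
  rw [hdecomp]
  refine Ideal.add_mem _ ?_ (Ideal.mem_sup_right ?_)
  · have h2 : φ (a' * P.rel j) ∈ Ideal.map φ
        (Ideal.span (P.rel '' {j' : Fin P.m | (j' : ℕ) < P.c}) ⊔ Ideal.span (Set.range P.rel) ^ 2) :=
      Ideal.mem_map_of_mem φ h1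
    rw [Ideal.map_sup, Ideal.map_pow, Ideal.map_span, Ideal.map_span] at h2
    have e1 : φ '' (P.rel '' {j' : Fin P.m | (j' : ℕ) < P.c}) =
        (fun j => φ (P.rel j)) '' {j' : Fin P.m | (j' : ℕ) < P.c} := by
      rw [Set.image_image]
    have e2 : φ '' (Set.range P.rel) = Set.range fun j => φ (P.rel j) := by
      rw [← Set.range_comp]
      rfl
    rw [e1, e2] at h2
    exact h2
  · rw [pow_two]
    exact Ideal.mul_mem_mul hker hrel

theorem killsTail' (P : Smoothing.MarkedPresentation R A) (a : A)
    (h : Smoothing.KillsTail P a) : Smoothing.KillsTail (mp' R' P) ((1 : R') ⊗ₜ[R] a) := by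
  intro a'' ha'' j hj
  exact killsTail_aux R' P a h a'' ha'' j hj

end Helpers

end Groth.Agent.S6829

namespace Groth.Agent.S6829

open TensorProduct in
/-- Let A be a finitely presented R-algebra, R → R' a ring map and a ∈ A. If a is elementary standard,
resp. strictly standard, in A over R, then a ⊗ 1 is elementary standard, resp. strictly standard, in
A ⊗_R R' over R' (written here as 1 ⊗ a in R' ⊗_R A). -/
theorem result {R A R' : Type u} [CommRing R] [CommRing A] [Algebra R A]
    [Algebra.FinitePresentation R A] [CommRing R'] [Algebra R R'] (a : A) :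
    (Smoothing.IsElementaryStandard R A a →
        Smoothing.IsElementaryStandard R' (R' ⊗[R] A) ((1 : R') ⊗ₜ[R] a)) ∧
      (Smoothing.IsStrictlyStandard R A a →
        Smoothing.IsStrictlyStandard R' (R' ⊗[R] A) ((1 : R') ⊗ₜ[R] a)) := by
  constructor
  · rintro ⟨P, ⟨a₀, ha₀⟩, hk⟩
    refine ⟨mp' R' P, ⟨(1 : R') ⊗ₜ[R] a₀, ?_⟩, killsTail' R' P a hk⟩
    show (1 : R') ⊗ₜ[R] a = (1 : R') ⊗ₜ[R] a₀ * hom' R' P
      (Smoothing.jacobianMinor (fun j => MvPolynomial.map (algebraMap R R') (P.rel j))
        (Fin.castLE P.hcm) (Fin.castLE P.hcn))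
    rw [jacobianMinor_map, hom'_map, Algebra.TensorProduct.tmul_mul_tmul, mul_one, ← ha₀]
  · rintro ⟨P, hmem, hk⟩
    refine ⟨mp' R' P, ?_, killsTail' R' P a hk⟩
    have h1 := Ideal.mem_map_of_mem
      (Algebra.TensorProduct.includeRight : A →ₐ[R] R' ⊗[R] A).toRingHom hmem
    rw [Ideal.map_span, ← Set.range_comp] at h1
    have e : ((Algebra.TensorProduct.includeRight : A →ₐ[R] R' ⊗[R] A).toRingHom ∘
        fun cols : Fin P.c → Fin P.n =>
          P.hom (Smoothing.jacobianMinor P.rel (Fin.castLE P.hcm) cols)) =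
        fun cols : Fin (mp' R' P).c → Fin (mp' R' P).n =>
          (mp' R' P).hom (Smoothing.jacobianMinor (mp' R' P).rel
            (Fin.castLE (mp' R' P).hcm) cols) := by
      funext cols
      show (1 : R') ⊗ₜ[R] P.hom (Smoothing.jacobianMinor P.rel (Fin.castLE P.hcm) cols) =
        hom' R' P (Smoothing.jacobianMinor
          (fun j => MvPolynomial.map (algebraMap R R') (P.rel j)) (Fin.castLE P.hcm) cols)
      rw [jacobianMinor_map, hom'_map]
    rw [e] at h1
    exact h1

end Groth.Agent.S6829
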