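import Groth.Statements.S1834
import Groth.Agent.Lib.Seat35FinExt

set_option autoImplicit false
universe u
open CycAlg

namespace Groth.Agent.S1834

/-- Let R be a Noetherian local ring of dimension 1 and a, b nonzerodivisors. There is a finite
extension ring R ⊆ R' with R'/R killed by a power of the maximal ideal, and nonzerodivisors t, a',
b' of R' with a = t a', b = t b' and (a', b') the unit ideal of R'. -/
theorem result (R : Type u) [CommRing R] [IsNoetherianRing R] [IsLocalRing R] (hR : ringKrullDim R = 1) (a b : R) (ha : a ∈ nonZeroDivisors R) (hb : b ∈ nonZeroDivisors R) : ∃ (R' : Type u) (_ : CommRing R') (_ : Algebra R R'), CycAlg.IsFinExt R R' (IsLocalRing.maximalIdeal R) ∧ ∃ t a' b' : R', t ∈ nonZeroDivisors R' ∧ a' ∈ nonZeroDivisors R' ∧ b' ∈ nonZeroDivisors R' ∧ algebraMap R R' a = t * a' ∧ algebraMap R R' b = t * b' ∧ Ideal.span {a', b'} = ⊤ := by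
  classical
  by_cases hau : IsUnit a
  · -- trivial case: `a` is a unit
    obtain ⟨ua, rfl⟩ := hau
    refine ⟨R, inferInstance, inferInstance, ⟨fun _ _ h => h, inferInstance, 0, ?_⟩,
      (ua : R), 1, ((ua⁻¹ : Rˣ) : R) * b, ha, one_mem _, ?_, ?_, ?_, ?_⟩
    · intro r _ z
      exact ⟨r • z, rfl⟩
    · exact mul_mem (IsUnit.mem_nonZeroDivisors (Units.isUnit _)) hb
    · simp
    · simp
    · rw [Ideal.eq_top_iff_one]
      exact Ideal.subset_span (by simp)
  · have ham : a ∈ IsLocalRing.maximalIdeal R := (IsLocalRing.mem_maximalIdeal a).mpr hau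
    obtain ⟨S, hfin, ⟨n, hn⟩, t, a', b', hta, htb, htop⟩ :=
      Groth.Agent.Lib.Seat35.FinExt.exists_subalgebra_common_factor R hR a b ha ham
    have hinjK : Function.Injective (algebraMap R (FractionRing R)) :=
      IsFractionRing.injective R (FractionRing R)
    have hinj : Function.Injective (algebraMap R S) := by
      intro r s hrs
      apply hinjK
      exact congrArg Subtype.val hrs
    have hnzd : ∀ r : R, r ∈ nonZeroDivisors R → algebraMap R S r ∈ nonZeroDivisors S := by
      intro r hr
      have h1 : algebraMap R (FractionRing R) r ∈ nonZeroDivisors (FractionRing R) :=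
        IsUnit.mem_nonZeroDivisors (IsLocalization.map_units _ (⟨r, hr⟩ : nonZeroDivisors R))
      exact mem_nonZeroDivisors_of_injective (f := S.val) Subtype.val_injective h1
    have hta' := hnzd a ha
    have htb' := hnzd b hb
    rw [hta, mul_mem_nonZeroDivisors] at hta'
    rw [htb, mul_mem_nonZeroDivisors] at htb'
    exact ⟨S, inferInstance, inferInstance, ⟨hinj, hfin, n, hn⟩, t, a', b', hta'.1, hta'.2,
      htb'.2, hta, htb, htop⟩

end Groth.Agent.S1834
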