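import Groth.Statements.S1837
import Groth.Agent.Lib.Seat9GlueMaxF

set_option autoImplicit false
universe u
open TensorProduct
open CycAlg

namespace Groth.Agent.S1837

open Groth.Agent.Lib.Seat9.GlueMax

/-- Let A be Noetherian with pairwise distinct maximal ideals 𝔪₁, …, 𝔪_r, and for each i a ring map φ_i
from A_{𝔪_i} to B_i whose kernel and cokernel are killed by a power of 𝔪_i. Then there is an
A-algebra B whose base change to each A_{𝔪_i} is isomorphic to B_i and whose structure map has
kernel and cokernel killed by a power of 𝔪₁ ∩ … ∩ 𝔪_r; if every φ_i is finite (resp. injective,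
resp. surjective) B can be taken with the same property. -/
theorem result (A : Type u) [CommRing A] [IsNoetherianRing A] (r : ℕ) (m : Fin r → Ideal A) (hm : ∀ i, (m i).IsMaximal) (hinj : Function.Injective m) (B : Fin r → Type u) [∀ i, CommRing (B i)] [∀ i, Algebra (Localization.AtPrime (m i)) (B i)] (hker : ∀ i, ∃ n : ℕ, ∀ x ∈ RingHom.ker (algebraMap (Localization.AtPrime (m i)) (B i)), ∀ y ∈ Ideal.map (algebraMap A (Localization.AtPrime (m i))) (m i) ^ n, y * x = 0) (hcoker : ∀ i, ∃ n : ℕ, ∀ y ∈ Ideal.map (algebraMap A (Localization.AtPrime (m i))) (m i) ^ n, ∀ b : B i, y • b ∈ (algebraMap (Localization.AtPrime (m i)) (B i)).range) : ∃ (C : Type u) (_ : CommRing C) (_ : Algebra A C), (∀ i, Nonempty ((Localization.AtPrime (m i)) ⊗[A] C ≃ₐ[Localization.AtPrime (m i)] B i)) ∧ (∃ n : ℕ, (∀ x ∈ RingHom.ker (algebraMap A C), ∀ y ∈ (⨅ i, m i) ^ n, y * x = 0) ∧ (∀ y ∈ (⨅ i, m i) ^ n, ∀ c : C, y • c ∈ (algebraMap A C).range)) ∧ ((∀ i, (algebraMap (Localization.AtPrime (m i)) (B i)).Finite) → (algebraMap A C).Finite)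 ∧ ((∀ i, Function.Injective (algebraMap (Localization.AtPrime (m i)) (B i))) → Function.Injective (algebraMap A C)) ∧ ((∀ i, Function.Surjective (algebraMap (Localization.AtPrime (m i)) (B i))) → Function.Surjective (algebraMap A C)) := by
  classical
  letI algAB : ∀ i, Algebra A (B i) := fun i =>
    ((algebraMap (Localization.AtPrime (m i)) (B i)).comp
      (algebraMap A (Localization.AtPrime (m i)))).toAlgebra
  haveI tower : ∀ i, IsScalarTower A (Localization.AtPrime (m i)) (B i) := fun i =>
    IsScalarTower.of_algebraMap_eq (fun _ => rfl)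
  have hcoker' := exists_uniform_coker m B hcoker
  refine ⟨↥(CC m B), inferInstance, inferInstance, ?_, ?_, ?_, ?_, ?_⟩
  · intro i
    exact ⟨equivI m B hinj hker hcoker' i⟩
  · obtain ⟨n₁, h₁⟩ := ker_torsion m B hinj hker
    obtain ⟨n₂, h₂⟩ := coker_torsion m B hinj hker hcoker'
    refine ⟨max n₁ n₂, fun x hx y hy => ?_, fun y hy c => ?_⟩
    · exact h₁ x hx y (Ideal.pow_le_pow_right (le_max_left n₁ n₂) hy)
    · exact h₂ y (Ideal.pow_le_pow_right (le_max_right n₁ n₂) hy) c
  · intro hfin
    rw [RingHom.finite_algebraMap]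
    exact finite_CC m B hinj hker hcoker' (fun i => RingHom.finite_algebraMap.mp (hfin i))
  · exact injective_of_injective m B hinj hker
  · exact surjective_of_surjective m B hinj hker

end Groth.Agent.S1837
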