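import Groth.Statements.S1616
import Groth.Agent.Lib.Seat54SegreBC

set_option autoImplicit false
universe u
open CategoryTheory CategoryTheory.Limits AlgebraicGeometry
open Constr

namespace Groth.Agent.S1616

/-- For any scheme S and n, m ≥ 0 there is a closed immersion from P^n_S ×_S P^m_S into P^{nm+n+m}_S
compatible with the projections to S. -/
theorem result (S : Scheme.{u}) (n m : ℕ) :
    ∃ φ : pullback (CohB1.ProjSpaceOver.toBase n S) (CohB1.ProjSpaceOver.toBase m S) ⟶ CohB1.ProjSpaceOver (n * m + n + m) S,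
      IsClosedImmersion φ ∧ φ ≫ CohB1.ProjSpaceOver.toBase (n * m + n + m) S =
        pullback.fst (CohB1.ProjSpaceOver.toBase n S) (CohB1.ProjSpaceOver.toBase m S) ≫ CohB1.ProjSpaceOver.toBase n S := by
  have hσ := Groth.Agent.Lib.Seat54.Segre.segre_str n m (ULift.{u} ℤ)
  have hcl := Groth.Agent.Lib.Seat54.Segre.isClosedImmersion_segre n m (ULift.{u} ℤ)
  refine ⟨Groth.Agent.Lib.Seat54.SegreBC.φφ (CohB1.ProjSpace.toSpec n (ULift.{u} ℤ))
    (CohB1.ProjSpace.toSpec m (ULift.{u} ℤ)) (CohB1.ProjSpace.toSpec (n * m + n + m) (ULift.{u} ℤ))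
    (specULiftZIsTerminal.from S) (Groth.Agent.Lib.Seat54.Segre.segre n m (ULift.{u} ℤ)) hσ, ?_, ?_⟩
  · exact MorphismProperty.of_isPullback (P := @IsClosedImmersion)
      (Groth.Agent.Lib.Seat54.SegreBC.isPullback_φφ _ _ _ _ _ hσ).flip hcl
  · exact Groth.Agent.Lib.Seat54.SegreBC.φφ_snd _ _ _ _ _ hσ

end Groth.Agent.S1616
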