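import Groth.Statements.S4811
import Groth.Agent.Lib.Seat15LimHom3

set_option autoImplicit false
universe u
open CategoryTheory AlgebraicGeometry
open Lim8

namespace Groth.Agent.S4811

/-- Let S = lim S_i be a cofiltered limit of schemes with affine transition maps and S_{i₀} a
quasi-compact quasi-separated stage; let F₀ be a quasi-coherent O-module of finite presentation and
G₀ a quasi-coherent O-module on S_{i₀}, with pullbacks F, G to S and F_j, G_j to S_j. Then every
homomorphism h : F ⟶ G is induced by a homomorphism h_j : F_j ⟶ G_j for some index j over i₀: the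
pullback of h_j along S ⟶ S_j, transported along the canonical isomorphisms identifying the pullback
of F_j (resp. G_j) to S with F (resp. G), equals h. This is the surjectivity of the canonical map
colim_j Hom(F_j, G_j) → Hom(F, G). -/
theorem result {I : Type u} [SmallCategory I] [IsCofiltered I]
    (D : I ⥤ Scheme.{u}) (c : Limits.Cone D) (hc : Limits.IsLimit c)
    [∀ (i j : I) (f : i ⟶ j), IsAffineHom (D.map f)] (i₀ : I)
    [CompactSpace (D.obj i₀)] [QuasiSeparatedSpace (D.obj i₀)]
    (F₀ G₀ : (D.obj i₀).Modules) [Coh.IsQCoh F₀] (hF₀ : CohB1.IsFP F₀) [Coh.IsQCoh G₀]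
    (h : (Scheme.Modules.pullback (c.π.app i₀)).obj F₀ ⟶ (Scheme.Modules.pullback (c.π.app i₀)).obj G₀) :
    ∃ (j : I) (φ : j ⟶ i₀) (hj : (Scheme.Modules.pullback (D.map φ)).obj F₀ ⟶ (Scheme.Modules.pullback (D.map φ)).obj G₀),
      ((Scheme.Modules.pullbackComp (c.π.app j) (D.map φ) ≪≫ Scheme.Modules.pullbackCongr (c.w φ)).app F₀).inv ≫
        (Scheme.Modules.pullback (c.π.app j)).map hj ≫
          ((Scheme.Modules.pullbackComp (c.π.app j) (D.map φ) ≪≫ Scheme.Modules.pullbackCongr (c.w φ)).app G₀).hom = h := by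
  haveI : SheafOfModules.IsFinitePresentation (R := (D.obj i₀).ringCatSheaf) F₀ := hF₀
  obtain ⟨j, ψj, hψ⟩ := Groth.Agent.Lib.Seat15.LimHom.exists_descend D c hc i₀ G₀ F₀
    ((Scheme.Modules.pullbackPushforwardAdjunction (c.π.app i₀)).homEquiv _ _ h)
  refine ⟨j.left, j.hom,
    ((Scheme.Modules.pullbackPushforwardAdjunction (D.map j.hom)).homEquiv _ _).symm ψj, ?_⟩
  apply ((Scheme.Modules.pullbackPushforwardAdjunction (c.π.app i₀)).homEquiv _ _).injective
  have key := Groth.Agent.Lib.Seat15.PbSec.homEquiv_transport (c.π.app j.left) (D.map j.hom)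
    (c.π.app i₀) (c.w j.hom) (F := F₀) (G := G₀)
    (((Scheme.Modules.pullbackPushforwardAdjunction (D.map j.hom)).homEquiv _ _).symm ψj)
  rw [Equiv.apply_symm_apply] at key
  rw [← hψ]
  exact key

end Groth.Agent.S4811
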