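import Groth.Statements.S8821
-- import your own Groth.Agent.* helpers here

set_option autoImplicit false
universe u
open CategoryTheory AlgebraicGeometry
open Formal2

namespace Groth.Agent.S8821

section aux
open CategoryTheory.Limits Opposite
variable {A : Type u} [CommRing A] {X : Scheme.{u}} [X.Over (Spec (CommRingCat.of A))]

theorem smulModΓ_comp {M N : X.Modules} (φ : M ⟶ N) (r : Coh.Γtop X) :
    Formal.smulModΓ M r ≫ φ = φ ≫ Formal.smulModΓ N r := by
  apply Scheme.Modules.hom_ext
  intro U
  ext m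
  exact Scheme.Modules.Hom.app_smul φ _ m

theorem smulMod_comp {M N : X.Modules} (φ : M ⟶ N) (a : A) :
    Formal.smulMod A M a ≫ φ = φ ≫ Formal.smulMod A N a :=
  smulModΓ_comp φ _

theorem smulModΓ_mul (M : X.Modules) (r s : Coh.Γtop X) :
    Formal.smulModΓ M (r * s) = Formal.smulModΓ M s ≫ Formal.smulModΓ M r := by
  apply Scheme.Modules.hom_ext
  intro U
  ext m
  change (Coh.smulAb M (r*s)).hom.app (op U) m =
    (Coh.smulAb M r).hom.app (op U) ((Coh.smulAb M s).hom.app (op U) m)
  rw [Coh.smulAb_app, Coh.smulAb_app, Coh.smulAb_app, map_mul, mul_smul]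

theorem smulMod_mul (M : X.Modules) (a b : A) :
    Formal.smulMod A M (a * b) = Formal.smulMod A M b ≫ Formal.smulMod A M a := by
  unfold Formal.smulMod
  rw [map_mul, smulModΓ_mul]

theorem smulMod_mul' (M : X.Modules) (a b : A) :
    Formal.smulMod A M (a * b) = Formal.smulMod A M a ≫ Formal.smulMod A M b := by
  rw [mul_comm, smulMod_mul]

theorem smulModΓ_one (M : X.Modules) : Formal.smulModΓ M 1 = 𝟙 M := by
  apply Scheme.Modules.hom_ext
  intro U
  ext m
  change (Coh.smulAb M 1).hom.app (op U) m = m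
  rw [Coh.smulAb_app, map_one, one_smul]

theorem smulMod_one (M : X.Modules) : Formal.smulMod A M (1 : A) = 𝟙 M := by
  unfold Formal.smulMod
  rw [map_one, smulModΓ_one]

theorem mono_smulMod_pow (M : X.Modules) (f : A) (h : Mono (Formal.smulMod A M f)) (k : ℕ) :
    Mono (Formal.smulMod A M (f ^ k)) := by
  induction k with
  | zero => rw [pow_zero, smulMod_one]; infer_instance
  | succ k ih =>
    rw [pow_succ, smulMod_mul]
    exact mono_comp _ _

/-- the component of `smulFamily` -/
theorem ι_smulFamily (J : Ideal A) (M : X.Modules) (a : J) :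
    Sigma.ι (fun _ : J => M) a ≫ Formal.smulFamily J M = Formal.smulMod A M (a : A) := by
  simp [Formal.smulFamily]

theorem smulMod_π_of_mem (J : Ideal A) (M : X.Modules) (a : A) (ha : a ∈ J) :
    Formal.smulMod A M a ≫ cokernel.π (Formal.smulFamily J M) = 0 := by
  rw [← ι_smulFamily J M ⟨a, ha⟩, Category.assoc, cokernel.condition, comp_zero]

theorem smulFamily_comp_eq_zero_iff {J : Ideal A} {M T : X.Modules} (g : M ⟶ T) :
    Formal.smulFamily J M ≫ g = 0 ↔ ∀ a ∈ J, Formal.smulMod A M a ≫ g = 0 := by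
  constructor
  · intro h a ha
    rw [← ι_smulFamily J M ⟨a, ha⟩, Category.assoc, h, comp_zero]
  · intro h
    apply Sigma.hom_ext
    intro a
    rw [← Category.assoc, ι_smulFamily, h a.1 a.2, comp_zero]

/-- Key: a map killed by `F → F/(f)^k F` factors, up to refinement, through multiplication by
`f^k`. -/
theorem factor_of_comp_π_eq_zero (M : X.Modules) (f : A) (k : ℕ) {T : X.Modules} (y : T ⟶ M)
    (hy : y ≫ Formal.modPowπ (Ideal.span ({f} : Set A)) k M = 0) :
    ∃ (T' : X.Modules) (p : T' ⟶ T) (_ : Epi p) (z : T' ⟶ M),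
      p ≫ y = z ≫ Formal.smulMod A M (f ^ k) := by
  have hmem : ∀ a : ((Ideal.span ({f} : Set A)) ^ k : Ideal A), ∃ b : A, (a : A) = b * f ^ k := by
    intro a
    have h2 : (a : A) ∈ Ideal.span ({f ^ k} : Set A) :=
      (SetLike.ext_iff.1 (Ideal.span_singleton_pow f k) (a : A)).1 a.2
    obtain ⟨b, hb⟩ := Ideal.mem_span_singleton'.1 h2
    exact ⟨b, hb.symm⟩
  choose b hb using hmem
  have hfam : Formal.smulFamily ((Ideal.span ({f} : Set A)) ^ k) M =
      Sigma.desc (fun a => Formal.smulMod A M (b a)) ≫ Formal.smulMod A M (f ^ k) := by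
    apply Sigma.hom_ext
    intro a
    rw [ι_smulFamily, ← Category.assoc, Sigma.ι_desc, hb a, smulMod_mul']
  obtain ⟨T', p, hp, x, fac⟩ :=
    (Limits.CokernelCofork.IsColimit.comp_π_eq_zero_iff_up_to_refinements
      (cokernelIsCokernel (Formal.smulFamily ((Ideal.span ({f} : Set A)) ^ k) M)) y).1 hy
  refine ⟨T', p, hp, x ≫ Sigma.desc (fun a => Formal.smulMod A M (b a)), ?_⟩
  rw [fac, hfam, Category.assoc]

theorem smulMod_pow_π (M : X.Modules) (f : A) (k : ℕ) :
    Formal.smulMod A M (f ^ k) ≫ Formal.modPowπ (Ideal.span ({f} : Set A)) k M = 0 :=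
  smulMod_π_of_mem _ M _ (Ideal.pow_mem_pow (Ideal.mem_span_singleton_self f) k)

instance (I : Ideal A) (k : ℕ) (M : X.Modules) : Epi (Formal.modPowπ I k M) := by
  unfold Formal.modPowπ; exact @coequalizer.π_epi _ _ _ _ _ _ _

end aux

open CategoryTheory.Limits in
/-- Implication (4) ⇒ (2), for an O_X-module over a base ring A and f ∈ A. Let X be a scheme over Spec
A, f ∈ A and F an O_X-module on which multiplication by f is a monomorphism. Then for every n ≥ 1
there is a monomorphism i : F/fF → F/f^{n+1}F through which multiplication by f^n on F/f^{n+1}F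
factors (projection to F/fF followed by i), and F/fF → F/f^{n+1}F → F/f^nF, with second map the
transition map, is a short exact sequence. (Stated for schemes; the published statement is for
ringed spaces.) -/
theorem result (A : Type u) [CommRing A] (X : Scheme.{u}) [X.Over (Spec (CommRingCat.of A))] (f : A) (F : X.Modules) (hF : Mono (Formal.smulMod A F f)) (n : ℕ) (hn : 1 ≤ n) : ∃ i : Formal.modPow (Ideal.span ({f} : Set A)) 1 F ⟶ Formal.modPow (Ideal.span ({f} : Set A)) (n + 1) F, Mono i ∧ Formal2.modPowLE (Ideal.span ({f} : Set A)) (Nat.le_add_left 1 n) F ≫ i = Formal.smulMod A (Formal.modPow (Ideal.span ({f} : Set A)) (n + 1) F) (f ^ n) ∧ ∃ w : i ≫ Formal.modPowTrans (Ideal.span ({f} : Set A)) n F = 0, (ShortComplex.mk i (Formal.modPowTrans (Ideal.span ({f} : Set A)) n F) w).ShortExact := by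
  set I : Ideal A := Ideal.span ({f} : Set A) with hI
  have hmono : ∀ k, Mono (Formal.smulMod A F (f ^ k)) := mono_smulMod_pow F f hF
  -- the map `i`
  have h0 : Formal.smulFamily (I ^ 1) F ≫
      (Formal.smulMod A F (f ^ n) ≫ Formal.modPowπ I (n + 1) F) = 0 := by
    rw [smulFamily_comp_eq_zero_iff]
    intro a ha
    rw [← Category.assoc, ← smulMod_mul']
    refine smulMod_π_of_mem _ F _ ?_
    rw [pow_succ']
    rw [pow_one] at ha
    exact Ideal.mul_mem_mul ha (Ideal.pow_mem_pow (Ideal.mem_span_singleton_self f) n)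
  let i : Formal.modPow I 1 F ⟶ Formal.modPow I (n + 1) F := cokernel.desc _ _ h0
  have hi : Formal.modPowπ I 1 F ≫ i =
      Formal.smulMod A F (f ^ n) ≫ Formal.modPowπ I (n + 1) F := cokernel.π_desc _ _ _
  have hf1 : Formal.smulMod A F f ≫ Formal.modPowπ I 1 F = 0 := by
    have := smulMod_pow_π F f 1
    rwa [pow_one] at this
  have hmonoi : Mono i := by
    rw [Preadditive.mono_iff_cancel_zero]
    intro T y hy
    obtain ⟨T', p, hp, y', hy'⟩ := surjective_up_to_refinements_of_epi (Formal.modPowπ I 1 F) y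
    have h1 : (y' ≫ Formal.smulMod A F (f ^ n)) ≫ Formal.modPowπ I (n + 1) F = 0 := by
      rw [Category.assoc, ← hi, ← Category.assoc, ← hy', Category.assoc, hy, comp_zero]
    obtain ⟨T'', p', hp', z, hz⟩ := factor_of_comp_π_eq_zero F f (n + 1) _ h1
    have h2 : p' ≫ y' = z ≫ Formal.smulMod A F f := by
      haveI := hmono n
      rw [← cancel_mono (Formal.smulMod A F (f ^ n)), Category.assoc, hz, Category.assoc,
        ← smulMod_mul', ← pow_succ']
    rw [← cancel_epi p, ← cancel_epi p', comp_zero, comp_zero, hy', ← Category.assoc, h2,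
      Category.assoc, hf1, comp_zero]
  have hw : i ≫ Formal.modPowTrans I n F = 0 := by
    rw [← cancel_epi (Formal.modPowπ I 1 F), ← Category.assoc, hi, Category.assoc,
      Formal.modPowπ_trans, smulMod_pow_π, comp_zero]
  refine ⟨i, hmonoi, ?_, hw, ?_⟩
  · rw [← cancel_epi (Formal.modPowπ I (n + 1) F), ← Category.assoc, Formal2.modPowπ_modPowLE, hi,
      smulMod_comp]
  · haveI : Epi (Formal.modPowTrans I n F) :=
      epi_of_epi_fac (Formal.modPowπ_trans I n F)
    refine ShortComplex.ShortExact.mk' ?_ hmonoi ‹_›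
    rw [ShortComplex.exact_iff_exact_up_to_refinements]
    intro T y hy
    dsimp at y hy
    obtain ⟨T', p, hp, y', hy'⟩ :=
      surjective_up_to_refinements_of_epi (Formal.modPowπ I (n + 1) F) y
    have h1 : y' ≫ Formal.modPowπ I n F = 0 := by
      rw [← Formal.modPowπ_trans, ← Category.assoc, ← hy', Category.assoc, hy, comp_zero]
    obtain ⟨T'', p', hp', z, hz⟩ := factor_of_comp_π_eq_zero F f n _ h1
    refine ⟨T'', p' ≫ p, epi_comp _ _, z ≫ Formal.modPowπ I 1 F, ?_⟩
    dsimp
    rw [Category.assoc, hy', ← Category.assoc, hz, Category.assoc, Category.assoc, hi]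

end Groth.Agent.S8821
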