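import Groth.Statements.S9855
import Groth.Agent.Lib.Seat43ZarDescRefine

set_option autoImplicit false
open CategoryTheory CategoryTheory.Limits AlgebraicGeometry Opposite
universe u
open Desc

namespace Groth.Agent.S9855

/-- Let u i : U i ⟶ S and v j : V j ⟶ S be two families of morphisms with target S and (α, g) a morphism
of families over the identity of S, i.e. g i : U i ⟶ V (α i) with g i ≫ v (α i) = u i. Assume that
for every index j the family of those g i with α i = j is a Zariski covering of V j (jointly
surjective open immersions). Then the pullback functor from descent data for schemes relative to (v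
j) to descent data relative to (u i) is an equivalence of categories. -/
theorem result {ι κ : Type u} {S : Scheme.{u}} {U : ι → Scheme.{u}} {V : κ → Scheme.{u}}
    (u : ∀ i, U i ⟶ S) (v : ∀ j, V j ⟶ S) (α : ι → κ) (g : ∀ i, U i ⟶ V (α i)) (w : ∀ i, g i ≫ v (α i) = u i)
    (hcov : ∀ j, Presieve.ofArrows (fun i : {i // α i = j} => U i.1)
      (fun i => g i.1 ≫ eqToHom (congrArg V i.2)) ∈ Scheme.zariskiPrecoverage (V j)) :
    (Desc.pullDDFam (f := v) (f' := u) (α := α) (p := 𝟙 S) (p' := g) (fun i => (w i).trans (Category.comp_id (u i)).symm)).IsEquivalence := by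
  have hc := fun j => Groth.Agent.Lib.Helper12.DescFF.facSieve_mem_of_refinement (u := u) (v := v)
    (fun i => (w i).trans (Category.comp_id (u i)).symm)
    (fun j => Scheme.zariskiPrecoverage_le_fpqcPrecoverage _ (hcov j)) j
  have : ∀ (j : κ) (i : Groth.Agent.Lib.Seat43.ZarDescRefine.Idx α j),
      IsOpenImmersion (Groth.Agent.Lib.Seat43.ZarDescRefine.g' α g j i) :=
    fun j i => ((Scheme.ofArrows_mem_precoverage_iff _).mp (hcov j)).2 i
  exact
    { faithful := Groth.Agent.Lib.Helper12.DescFF.faithful_of_sep _
        (Groth.Agent.Lib.Helper12.DescFF.sep_of_cov hc)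
      full := Groth.Agent.Lib.Helper12.DescFF.full_of_cov _ hc
      essSurj := ⟨fun D' =>
        ⟨Groth.Agent.Lib.Seat43.ZarDescRefine.glued u v α g _ D' hcov,
          ⟨Groth.Agent.Lib.Seat43.ZarDescRefine.pullGluedIso u v α g _ D' hcov⟩⟩⟩ }

end Groth.Agent.S9855
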