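import Groth.Statements.S1133
import Groth.Agent.S9858
import Groth.Agent.Lib.Seat58DescAffine

set_option autoImplicit false
open CategoryTheory CategoryTheory.Limits AlgebraicGeometry Opposite
universe u
open Desc

namespace Groth.Agent.S1133

set_option backward.isDefEq.respectTransparency false
set_option backward.isDefEq.respectTransparency.types false

/-- a finite disjoint union of affine morphisms is affine -/
lemma isAffineHom_sigmaMap (m : ℕ) (Y V : Fin m → Scheme.{u}) (q : ∀ j, Y j ⟶ V j)
    (hq : ∀ j, IsAffineHom (q j)) : IsAffineHom (Limits.Sigma.map q) := by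
  rw [IsZariskiLocalAtTarget.iff_of_openCover (P := @IsAffineHom) (sigmaOpenCover V)]
  intro j
  have hvk := FinitaryExtensive.isVanKampen_finiteCoproducts (coproductIsCoproduct V)
  have hpb : IsPullback (Sigma.ι Y j) (q j) (Limits.Sigma.map q) (Sigma.ι V j) := by
    have := (hvk (Cofan.mk _ (Sigma.ι Y)) (Discrete.natTrans (fun j => q j.as)) (Limits.Sigma.map q)
      (by ext; simp) (NatTrans.Equifibered.of_discrete _)).mp ⟨coproductIsCoproduct Y⟩ ⟨j⟩
    simpa using this
  have e : pullback.snd (Limits.Sigma.map q) (Sigma.ι V j) = hpb.isoPullback.inv ≫ q j := by simp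
  change IsAffineHom (pullback.snd (Limits.Sigma.map q) (Sigma.ι V j))
  rw [e]
  have := hq j
  infer_instance

/-- Let p : X ⟶ S be a surjective, flat and quasi-compact morphism of schemes. Every descent datum
relative to p whose underlying scheme is affine over X is effective: it is isomorphic to the
canonical descent datum of some scheme over S. (Descent data are taken in functor-of-points form,
equivalent by the Yoneda lemma to the usual form of an isomorphism over X ×_S X satisfying the
cocycle condition.) -/
theorem result {X S : Scheme.{u}} (p : X ⟶ S) [Surjective p] [Flat p] [QuasiCompact p]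
    (D : Desc.SchDD p) [IsAffineHom D.obj.hom] : ∃ U : Over S, Nonempty ((Desc.toDD p).obj U ≅ D) := by
  have hu : Presieve.ofArrows (fun _ : PUnit.{u + 1} => X) (fun _ => p) ∈
      Scheme.fpqcPrecoverage S := by
    rw [Presieve.ofArrows_pUnit]
    exact p.singleton_mem_fpqcPrecoverage
  have h3 : ∀ (X S : Scheme.{u}) (p : X ⟶ S), IsAffine X → IsAffine S → Flat p → Surjective p →
      ∀ D : Desc.SchDD p, IsAffineHom D.obj.hom →
        ∃ U : Over S, Nonempty ((Desc.toDD p).obj U ≅ D) := by
    intro X S p hX hS hp _ D hD
    have : IsAffine D.obj.left := isAffine_of_isAffineHom D.obj.hom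
    exact Groth.Agent.Lib.Seat58.DescAffine.exists_iso_toDD D
  have h := Groth.Agent.S9858.result @IsAffineHom isAffineHom_sigmaMap h3
    (fun _ : PUnit.{u + 1} => p) hu ((SchDDFam.ofSchDD p).obj D) (fun _ => ‹IsAffineHom D.obj.hom›)
  obtain ⟨Z, ⟨e⟩⟩ := h
  exact ⟨Z, ⟨(SchDDFam.toSchDD p).mapIso e⟩⟩

end Groth.Agent.S1133
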