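import Groth.Statements.S6044
import Groth.Agent.S1133
import Groth.Agent.S9858
import Groth.Agent.Lib.Seat58DescAffine

set_option autoImplicit false
open CategoryTheory CategoryTheory.Limits AlgebraicGeometry
universe u
open GrpQ

namespace Groth.Agent.S6044

/-- Closed immersions descend along the fpqc topology. For an fpqc covering family `f i : X i ⟶ S` of a
scheme `S`, every descent datum for schemes relative to the family all of whose members `Z i ⟶ X i`
are closed immersions is effective. -/
theorem result {S : Scheme.{u}} {ι : Type u} {X : ι → Scheme.{u}}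
    (f : ∀ i, X i ⟶ S) (hf : Presieve.ofArrows X f ∈ Scheme.fpqcPrecoverage S)
    (D : Desc.SchDDFam f) (hD : ∀ i, IsClosedImmersion (D.obj i).hom) :
    D.IsEffective := by
  have h3 : ∀ (X S : Scheme.{u}) (p : X ⟶ S), IsAffine X → IsAffine S → Flat p → Surjective p →
      ∀ D : Desc.SchDD p, IsAffineHom D.obj.hom →
        ∃ U : Over S, Nonempty ((Desc.toDD p).obj U ≅ D) := by
    intro X S p hX hS hp _ D hD
    have : IsAffine D.obj.left := isAffine_of_isAffineHom D.obj.hom
    exact Groth.Agent.Lib.Seat58.DescAffine.exists_iso_toDD D
  exact Groth.Agent.S9858.result @IsAffineHom Groth.Agent.S1133.isAffineHom_sigmaMap h3 f hf D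
    (fun i => by have := hD i; infer_instance)

end Groth.Agent.S6044
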