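import Groth.Statements.S9877
import Mathlib
import Groth.Agent.Lib.Seat46CoprodSp
import Groth.Agent.Lib.Seat43LocSurj
import Groth.Agent.Lib.Helper12ZarGlue

set_option autoImplicit false
universe u
open CategoryTheory CategoryTheory.Limits AlgebraicGeometry
open AlgSp

namespace Groth.Agent.S9877

/-- Let `F` be an fppf sheaf of sets over `S` and `F_i ⟶ F` a family of maps of sheaves such that each
`F_i` is an algebraic space over `S`, each `F_i ⟶ F` is representable by open immersions, the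
induced map from the coproduct `∐ F_i` (in sheaves) to `F` is a surjective map of sheaves, and `∐
F_i` is an algebraic space. Then `F` is an algebraic space over `S`. -/
theorem result (S : Scheme.{u}) (F : AlgSp.Sp S) {ι : Type u} (Fi : ι → AlgSp.Sp S)
    (f : ∀ i, Fi i ⟶ F) (halg : ∀ i, AlgSp.IsAlgSpace (Fi i))
    (hopen : ∀ i, AlgSp.RepWith @IsOpenImmersion (f i)) (c : Cofan Fi) (hc : IsColimit c)
    (hsurj : Sheaf.IsLocallySurjective (Cofan.IsColimit.desc hc f)) (hcop : AlgSp.IsAlgSpace c.pt) :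
    AlgSp.IsAlgSpace F := by
  obtain ⟨d, hd, hsurj'⟩ : ∃ d : c.pt ⟶ F, (∀ i, c.inj i ≫ d = f i) ∧
      Sheaf.IsLocallySurjective d :=
    ⟨Cofan.IsColimit.desc hc f, fun i => Cofan.IsColimit.fac hc f i, hsurj⟩
  -- the open subschemes `T ×_F F_i` cover `T`
  have hcov : ∀ {T' : Over S} (y : (AlgSp.yon S).obj T' ⟶ F) (Ti' : ι → Over S)
      (j : ∀ i, Ti' i ⟶ T') (b : ∀ i, (AlgSp.yon S).obj (Ti' i) ⟶ Fi i)
      (_ : ∀ i, IsPullback (b i) ((AlgSp.yon S).map (j i)) (f i) y) (t : ↥T'.left),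
      ∃ i, t ∈ Set.range (j i).left := by
    intro T' y Ti' j b sq t
    obtain ⟨T'', c'', s, -, -, ⟨t'', ht''⟩, hs⟩ :=
      Groth.Agent.Lib.Seat43.LocSurj.exists_local_lift d hsurj' y t
    obtain ⟨W, hWd, hWs, hW⟩ := Groth.Agent.S9878.exists_clopen_decomposition c hc s
    have ht''W : t'' ∈ (⨆ i, W i : T''.left.Opens) := by rw [hWs]; trivial
    obtain ⟨i, hi⟩ := TopologicalSpace.Opens.mem_iSup.1 ht''W
    obtain ⟨a, sqa⟩ := hW i
    have hw : a ≫ f i = (AlgSp.yon S).map
        ((Over.homMk (W i).ι : Over.mk ((W i).ι ≫ T''.hom) ⟶ T'') ≫ c'') ≫ y := by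
      rw [← hd i, ← Category.assoc, sqa.w, Category.assoc, hs, Functor.map_comp, Category.assoc]
    obtain ⟨l', hl'⟩ := (AlgSp.yon S).map_surjective ((sq i).lift a _ hw)
    have hl2 : l' ≫ j i = (Over.homMk (W i).ι : Over.mk ((W i).ι ≫ T''.hom) ⟶ T'') ≫ c'' := by
      apply (AlgSp.yon S).map_injective
      rw [Functor.map_comp, hl']
      exact (sq i).lift_snd _ _ _
    have h3 : l'.left ≫ (j i).left = (W i).ι ≫ c''.left := by
      have := congrArg Over.Hom.left hl2
      exact this
    let w : ↥(W i).toScheme := ⟨t'', hi⟩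
    refine ⟨i, l'.left w, ?_⟩
    rw [← Scheme.Hom.comp_apply, h3, Scheme.Hom.comp_apply, ← ht'']
    rfl
  -- maps from schemes are representable
  have hrep : ∀ ⦃T : Over S⦄ (x : (AlgSp.yon S).obj T ⟶ F), AlgSp.Representable x := by
    intro T x T' y
    choose Ti' j b sqy using fun i => (hopen i).1 y
    haveI : ∀ i, IsOpenImmersion (j i).left := fun i => (hopen i).2 y (b i) (j i) (sqy i)
    choose Ti k a sqx using fun i => (hopen i).1 x
    choose W w fst sqW using fun i => (halg i).representable_from_yon (a i) (b i)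
    have sq : ∀ i, IsPullback (fst i ≫ (AlgSp.yon S).map (k i)) ((AlgSp.yon S).map (w i)) x
        ((AlgSp.yon S).map (j i) ≫ y) := by
      intro i
      have h1 := (sqW i).paste_horiz (sqx i).flip
      rw [(sqy i).w] at h1
      exact h1
    obtain ⟨W₀, w₀, a₀, sq₀, -⟩ := Groth.Agent.Lib.Helper12.ZarGlue.exists_rep_of_openCover x y Ti' j
      W w (fun i => fst i ≫ (AlgSp.yon S).map (k i)) sq (hcov y Ti' j b sqy)
    exact ⟨W₀, w₀, a₀, sq₀⟩
  -- the map from the coproduct is representable, etale and surjective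
  haveI : IsZariskiLocalAtSource @Etale.{u} :=
    HasRingHomProperty.instIsZariskiLocalAtSource (Q := RingHom.Etale)
  have hdrep : ∀ {T' : Over S} (y : (AlgSp.yon S).obj T' ⟶ F),
      ∃ (V : Over S) (fst : (AlgSp.yon S).obj V ⟶ c.pt) (snd : V ⟶ T'),
        IsPullback fst ((AlgSp.yon S).map snd) d y ∧ Etale snd.left ∧ Surjective snd.left := by
    intro T' y
    choose Ti' j b sqy using fun i => (hopen i).1 y
    haveI : ∀ i, IsOpenImmersion (j i).left := fun i => (hopen i).2 y (b i) (j i) (sqy i)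
    obtain ⟨hV⟩ := Groth.Agent.Lib.Seat46.CoprodSp.isColimit_yon_sigmaOver Ti'
    have hau := Groth.Agent.Lib.Seat46.UnivCoprod.isUniversalColimit_cofan_sp hc
    have key := hau.isPullback_of_isColimit_right f d y (fun i => b i)
      (fun i => (AlgSp.yon S).map (j i)) sqy hV (fun i => hd i)
    have h1 : Cofan.IsColimit.desc hV (fun i => (AlgSp.yon S).map (j i)) =
        (AlgSp.yon S).map (Groth.Agent.Lib.Seat46.CoprodSp.sigmaOverDesc Ti' j) := by
      refine Cofan.IsColimit.hom_ext hV _ _ (fun i => ?_)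
      rw [Cofan.IsColimit.fac]
      show _ = (AlgSp.yon S).map (Groth.Agent.Lib.Seat46.CoprodSp.sigmaOverι Ti' i) ≫ _
      rw [← Functor.map_comp, Groth.Agent.Lib.Seat46.CoprodSp.sigmaOverι_desc]
    rw [h1] at key
    refine ⟨_, _, _, key, ?_, ?_⟩
    · show Etale (Sigma.desc fun i => (j i).left)
      exact IsZariskiLocalAtSource.sigmaDesc (P := @Etale.{u}) (fun i => inferInstance)
    · refine ⟨fun t => ?_⟩
      obtain ⟨i, w, hw⟩ := hcov y Ti' j b sqy t
      refine ⟨(Sigma.ι (fun i => (Ti' i).left) i) w, ?_⟩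
      show (Sigma.desc fun i => (j i).left) ((Sigma.ι (fun i => (Ti' i).left) i) w) = t
      rw [← Scheme.Hom.comp_apply, Sigma.ι_desc]
      exact hw
  have hde : AlgSp.RepWith @Etale d := by
    haveI := AlgSp.inverseImage_forget_respectsIso (S := S) @Etale.{u}
    refine MorphismProperty.relative.of_exists (fun T' y => ?_)
    obtain ⟨V, fst, snd, sq, he, -⟩ := hdrep y
    exact ⟨V, fst, snd, sq, he⟩
  have hds : AlgSp.RepWith @Surjective d := by
    haveI := AlgSp.inverseImage_forget_respectsIso (S := S) @Surjective.{u}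
    refine MorphismProperty.relative.of_exists (fun T' y => ?_)
    obtain ⟨V, fst, snd, sq, -, hs⟩ := hdrep y
    exact ⟨V, fst, snd, sq, hs⟩
  obtain ⟨U, p, hpe, hps⟩ := hcop.atlas
  exact ⟨Functor.relativelyRepresentable.diag_of_map_from_obj hrep, U, p ≫ d,
    (AlgSp.repWith_isMultiplicative (S := S) @Etale).comp_mem _ _ hpe hde,
    (AlgSp.repWith_isMultiplicative (S := S) @Surjective).comp_mem _ _ hps hds⟩

end Groth.Agent.S9877
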