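import Groth.Statements.S9881
import Mathlib
import Groth.Agent.Lib.Seat46CoprodSp

set_option autoImplicit false
universe u
open CategoryTheory CategoryTheory.Limits AlgebraicGeometry
open AlgSp

namespace Groth.Agent.S9881

/-- Let `F_i` be a family of algebraic spaces over `S` indexed by a type in the universe of `S`, so that
the coproduct of any chosen atlases exists as a scheme (this realizes the size condition of the
published statement). Then the coproduct `∐ F_i` in fppf sheaves of sets over `S` (any colimit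
cofan) is an algebraic space over `S`. -/
theorem result (S : Scheme.{u}) {ι : Type u} (F : ι → AlgSp.Sp S)
    (h : ∀ i, AlgSp.IsAlgSpace (F i)) (c : Cofan F) (hc : IsColimit c) : AlgSp.IsAlgSpace c.pt := by
  -- a clopen decomposition makes `h_T` a coproduct
  have hdec : ∀ {T : Over S} (W : ι → T.left.Opens), (∀ i j, i ≠ j → Disjoint (W i) (W j)) →
      (⨆ i, W i = ⊤) → Nonempty (IsColimit (Cofan.mk ((AlgSp.yon S).obj T)
        (fun i => (AlgSp.yon S).map
          (Over.homMk (W i).ι : Over.mk ((W i).ι ≫ T.hom) ⟶ T)))) := by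
    intro T W hWd hWs
    refine Groth.Agent.Lib.Seat46.YonCoprod.isColimit_cofan_yon
      (W := fun i => Over.mk ((W i).ι ≫ T.hom)) (Z := T) (fun i => Over.homMk (W i).ι)
      (fun i => by
        show IsOpenImmersion (W i).ι
        infer_instance) (fun i j hij => ?_) (fun z => ?_)
    · show Disjoint (Set.range (W i).ι) (Set.range (W j).ι)
      rw [Scheme.Opens.range_ι, Scheme.Opens.range_ι, TopologicalSpace.Opens.coe_disjoint]
      exact hWd i j hij
    · have hz : z ∈ (⨆ i, W i : T.left.Opens) := by rw [hWs]; trivial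
      obtain ⟨i, hi⟩ := TopologicalSpace.Opens.mem_iSup.1 hz
      refine ⟨i, ?_⟩
      show z ∈ Set.range (W i).ι
      rw [Scheme.Opens.range_ι]
      exact hi
  -- fibre products of schemes over the coproduct
  have key : ∀ {T : Over S} (x : (AlgSp.yon S).obj T ⟶ c.pt) (Ti : ι → Over S) (e : ∀ i, Ti i ⟶ T)
      (_ : IsColimit (Cofan.mk ((AlgSp.yon S).obj T) (fun i => (AlgSp.yon S).map (e i))))
      (a : ∀ i, (AlgSp.yon S).obj (Ti i) ⟶ F i)
      (_ : ∀ i, (AlgSp.yon S).map (e i) ≫ x = a i ≫ c.inj i)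
      (Q : MorphismProperty Scheme.{u})
      (_ : ∀ {A B C : Scheme.{u}} (k : A ⟶ B) (l : B ⟶ C), Q k → Q l → Q (k ≫ l))
      (_ : ∀ {A : ι → Scheme.{u}} {B : Scheme.{u}} (k : ∀ i, A i ⟶ B), (∀ i, Q (k i)) →
        Q (Sigma.desc k))
      (_ : ∀ {A B : Scheme.{u}} (k : A ⟶ B), IsOpenImmersion k → Q k) (σ : Prop)
      (_ : ∀ i ⦃A B : Over S⦄ (g : (AlgSp.yon S).obj A ⟶ F i)
        (fst : (AlgSp.yon S).obj B ⟶ (AlgSp.yon S).obj (Ti i)) (snd : B ⟶ A),
        IsPullback fst ((AlgSp.yon S).map snd) (a i) g → Q snd.left ∧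
          (σ → ∀ z : ↥A.left, ∃ w : ↥B.left, snd.left w = z))
      {T' : Over S} (y : (AlgSp.yon S).obj T' ⟶ c.pt),
      ∃ (V : Over S) (fst : (AlgSp.yon S).obj V ⟶ (AlgSp.yon S).obj T) (snd : V ⟶ T'),
        IsPullback fst ((AlgSp.yon S).map snd) x y ∧ Q snd.left ∧
          (σ → ∀ z : ↥T'.left, ∃ w : ↥V.left, snd.left w = z) := by
    intro T x Ti e hT a ha Q hQcomp hQσ hQopen σ hQ T' y
    obtain ⟨W', hWd', hWs', hW'⟩ := Groth.Agent.S9878.exists_clopen_decomposition c hc y
    choose a' sqy using hW'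
    choose V v' fst sqV using fun i => (h i).representable_from_yon (a i) (a' i)
    choose v hv using fun i => (AlgSp.yon S).map_surjective (fst i)
    have sqV' : ∀ i, IsPullback ((AlgSp.yon S).map (v i)) ((AlgSp.yon S).map (v' i)) (a i)
        (a' i) := fun i => by rw [hv i]; exact sqV i
    refine ⟨_, _, _, Groth.Agent.Lib.Seat46.CoprodSp.isPullback_yon_sigma c x y Ti e hT a ha _ _
      a' sqy V v v' sqV', ?_, ?_⟩
    · show Q (Sigma.desc fun i => (v' i ≫ (Over.homMk (W' i).ι :
        Over.mk ((W' i).ι ≫ T'.hom) ⟶ T')).left)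
      refine hQσ _ (fun i => ?_)
      show Q ((v' i).left ≫ (W' i).ι)
      exact hQcomp _ _ (hQ i _ _ _ (sqV' i)).1 (hQopen _ inferInstance)
    · intro hσ z
      have hz : z ∈ (⨆ i, W' i : T'.left.Opens) := by rw [hWs']; trivial
      obtain ⟨i, hi⟩ := TopologicalSpace.Opens.mem_iSup.1 hz
      obtain ⟨w, hw⟩ := (hQ i _ _ _ (sqV' i)).2 hσ ⟨z, hi⟩
      refine ⟨(Sigma.ι (fun i => (V i).left) i) w, ?_⟩
      show (Sigma.desc fun i => (v' i ≫ (Over.homMk (W' i).ι :
        Over.mk ((W' i).ι ≫ T'.hom) ⟶ T')).left) ((Sigma.ι (fun i => (V i).left) i) w) = z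
      rw [← Scheme.Hom.comp_apply, Sigma.ι_desc]
      show (W' i).ι ((v' i).left w) = z
      rw [hw]
      rfl
  -- representability of maps from schemes
  have hrep : ∀ ⦃T : Over S⦄ (x : (AlgSp.yon S).obj T ⟶ c.pt), AlgSp.Representable x := by
    intro T x T' y
    obtain ⟨W, hWd, hWs, hW⟩ := Groth.Agent.S9878.exists_clopen_decomposition c hc x
    choose a sqx using hW
    obtain ⟨hT⟩ := hdec W hWd hWs
    obtain ⟨V, fst, snd, sq, -, -⟩ := key x _ _ hT a (fun i => (sqx i).w.symm) ⊤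
      (fun _ _ _ _ => trivial) (fun _ _ => trivial) (fun _ _ => trivial) False
      (fun i A B g fst snd sq => ⟨trivial, fun hF => hF.elim⟩) y
    exact ⟨V, snd, fst, sq⟩
  -- the atlas
  choose U p hpe hps using fun i => (h i).atlas
  obtain ⟨hU⟩ := Groth.Agent.Lib.Seat46.CoprodSp.isColimit_yon_sigmaOver U
  obtain ⟨P, hP⟩ : ∃ P : (AlgSp.yon S).obj (Groth.Agent.Lib.Seat46.CoprodSp.sigmaOver U) ⟶ c.pt,
      ∀ i, (AlgSp.yon S).map (Groth.Agent.Lib.Seat46.CoprodSp.sigmaOverι U i) ≫ P =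
        p i ≫ c.inj i :=
    ⟨Cofan.IsColimit.desc hU (fun i => p i ≫ c.inj i), fun i => Cofan.IsColimit.fac hU _ i⟩
  haveI : IsZariskiLocalAtSource @Etale.{u} :=
    HasRingHomProperty.instIsZariskiLocalAtSource (Q := RingHom.Etale)
  have hatlas : ∀ {T' : Over S} (y : (AlgSp.yon S).obj T' ⟶ c.pt),
      ∃ (V : Over S) (fst : (AlgSp.yon S).obj V ⟶
          (AlgSp.yon S).obj (Groth.Agent.Lib.Seat46.CoprodSp.sigmaOver U)) (snd : V ⟶ T'),
        IsPullback fst ((AlgSp.yon S).map snd) P y ∧ Etale snd.left ∧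
          (True → ∀ z : ↥T'.left, ∃ w : ↥V.left, snd.left w = z) := by
    intro T' y
    refine key P U (Groth.Agent.Lib.Seat46.CoprodSp.sigmaOverι U) hU p hP @Etale.{u}
      (fun k l hk hl => by
        haveI : Etale k := hk
        haveI : Etale l := hl
        exact (inferInstance : Etale (k ≫ l)))
      (fun k hk => IsZariskiLocalAtSource.sigmaDesc (P := @Etale.{u}) hk)
      (fun k hk => by haveI : IsOpenImmersion k := hk; exact (inferInstance : Etale k)) True
      (fun i A B g fst snd sq => ⟨(hpe i).2 g fst snd sq, fun _ z => ?_⟩) y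
    haveI : Surjective snd.left := (hps i).2 g fst snd sq
    exact snd.left.surjective z
  refine ⟨Functor.relativelyRepresentable.diag_of_map_from_obj hrep,
    Groth.Agent.Lib.Seat46.CoprodSp.sigmaOver U, P, ?_, ?_⟩
  · haveI := AlgSp.inverseImage_forget_respectsIso (S := S) @Etale.{u}
    refine MorphismProperty.relative.of_exists (fun T' y => ?_)
    obtain ⟨V, fst, snd, sq, he, -⟩ := hatlas y
    exact ⟨V, fst, snd, sq, he⟩
  · haveI := AlgSp.inverseImage_forget_respectsIso (S := S) @Surjective.{u}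
    refine MorphismProperty.relative.of_exists (fun T' y => ?_)
    obtain ⟨V, fst, snd, sq, -, hs⟩ := hatlas y
    exact ⟨V, fst, snd, sq, ⟨fun z => hs trivial z⟩⟩

end Groth.Agent.S9881
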