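import Groth.Statements.S5701
import Groth.Agent.Lib.Seat25MaxEtaleB

set_option autoImplicit false
universe u v
open TensorProduct
open Dix

namespace Groth.Agent.S5701

/-- Let k be a field and A a finite-dimensional k-algebra which is absolutely semisimple (its base
change to an algebraic closure of k is a semisimple ring). For a subalgebra L of A, call L étale
when it is commutative and all its elements are separable over k. Then L is étale and equal to its
own centralizer in A if and only if L is a maximal étale subalgebra of A. -/
theorem result (k : Type u) [Field k] (A : Type v) [Ring A] [Algebra k A] [FiniteDimensional k A] (hss : IsSemisimpleRing (AlgebraicClosure k ⊗[k] A)) (L : Subalgebra k A) : ((∀ x ∈ L, ∀ y ∈ L, x * y = y * x) ∧ Algebra.IsSeparable k L ∧ Subalgebra.centralizer k (L : Set A) = L) ↔ ((∀ x ∈ L, ∀ y ∈ L, x * y = y * x) ∧ Algebra.IsSeparable k L ∧ ∀ L' : Subalgebra k A, (∀ x ∈ L', ∀ y ∈ L', x * y = y * x) → Algebra.IsSeparable k L' → L ≤ L' → L' = L) := by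
  open Groth.Agent.Lib.Seat25 in
  constructor
  · rintro ⟨hcomm, hsep, hcent⟩
    refine ⟨hcomm, hsep, fun L' hcomm' _ hle => le_antisymm ?_ hle⟩
    intro x hx
    rw [← hcent]
    rw [Subalgebra.mem_centralizer_iff]
    intro g hg
    exact hcomm' g (hle hg) x hx
  · rintro ⟨hcomm, hsep, hmax⟩
    refine ⟨hcomm, hsep, ?_⟩
    -- Step A: separable elements of the centralizer lie in `L`.
    have hLsep' : ∀ x : L, IsSeparable k (x : A) := fun x => by
      have h := SepAlg.isSeparable_map L.val (Algebra.IsSeparable.isSeparable k x)
      rwa [Subalgebra.val_apply] at h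
    have hLsep : ∀ a ∈ L, IsSeparable k a := fun a ha => hLsep' ⟨a, ha⟩
    have stepA : ∀ x ∈ Subalgebra.centralizer k (L : Set A), IsSeparable k x → x ∈ L := by
      intro x hx hxs
      rw [Subalgebra.mem_centralizer_iff] at hx
      have hS : ∀ a ∈ ((L : Set A) ∪ {x}), ∀ b ∈ ((L : Set A) ∪ {x}), a * b = b * a := by
        rintro a (ha | ha) b (hb | hb)
        · exact hcomm a ha b hb
        · rw [Set.mem_singleton_iff] at hb; subst hb; exact hx a ha
        · rw [Set.mem_singleton_iff] at ha; subst ha; exact (hx b hb).symm
        · rw [Set.mem_singleton_iff] at ha hb; subst ha; subst hb; rfl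
      have hSs : ∀ a ∈ ((L : Set A) ∪ {x}), IsSeparable k a := by
        rintro a (ha | ha)
        · exact hLsep a ha
        · rw [Set.mem_singleton_iff] at ha; subst ha; exact hxs
      obtain ⟨h1, h2⟩ := SepAlg.isSeparable_adjoin_of_commute (k := k) _ hS hSs
      have hle : L ≤ Algebra.adjoin k ((L : Set A) ∪ {x}) := fun a ha =>
        Algebra.subset_adjoin (Or.inl ha)
      have heq := hmax _ h1 h2 hle
      rw [← heq]
      exact Algebra.subset_adjoin (Or.inr rfl)
    -- Step B: the centralizer is semisimple after base change, hence semisimple.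
    have hCss : IsSemisimpleRing (AlgebraicClosure k ⊗[k] Subalgebra.centralizer k (L : Set A)) :=
      AbsSS.isSemisimpleRing_baseChange_centralizer k (AlgebraicClosure k) A hss L hcomm
    have hC : IsSemisimpleRing (Subalgebra.centralizer k (L : Set A)) :=
      AbsSS.isSemisimpleRing_of_baseChange k (AlgebraicClosure k) _ hCss
    have ha : ∀ z : Subalgebra.centralizer k (L : Set A), (∀ y, z * y = y * z) → IsSeparable k z :=
      fun z hz => AbsSS.isSeparable_of_central_of_baseChange k (AlgebraicClosure k) _ hCss z hz
    have hLC : L ≤ Subalgebra.centralizer k (L : Set A) := by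
      intro a ha
      rw [Subalgebra.mem_centralizer_iff]
      intro g hg
      exact hcomm g hg a ha
    have hCsep' : ∀ x : Subalgebra.centralizer k (L : Set A), IsSeparable k x →
        IsSeparable k (x : A) := fun x hx => by
      have h := SepAlg.isSeparable_map (Subalgebra.centralizer k (L : Set A)).val hx
      rwa [Subalgebra.val_apply] at h
    have hb : ∀ x : Subalgebra.centralizer k (L : Set A), IsSeparable k x → ∀ y, x * y = y * x := by
      intro x hx y
      have hxL : (x : A) ∈ L := stepA _ x.2 (hCsep' x hx)
      have hy := y.2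
      rw [Subalgebra.mem_centralizer_iff] at hy
      apply Subtype.ext
      rw [Subalgebra.coe_mul, Subalgebra.coe_mul]
      exact hy _ hxL
    have hCcomm := MaxEtale.commutative_of_semisimple ha hb
    refine le_antisymm ?_ hLC
    intro x hx
    have hxs : IsSeparable k (⟨x, hx⟩ : Subalgebra.centralizer k (L : Set A)) :=
      ha ⟨x, hx⟩ (fun y => hCcomm ⟨x, hx⟩ y)
    have hxA : IsSeparable k x := hCsep' ⟨x, hx⟩ hxs
    exact stepA x hx hxA

end Groth.Agent.S5701
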