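import Groth.Statements.S8905
import Groth.Agent.S15821
import Groth.Agent.S2103
import Groth.Agent.Lib.Seat40KoszulLow

set_option autoImplicit false
universe u
open CategoryTheory CategoryTheory.Limits AlgebraicGeometry TopologicalSpace
open SDiv

namespace Groth.Agent.S8905

open CategoryTheory CategoryTheory.Limits AlgebraicGeometry in
lemma seq_koszul_of_regular (R : Type u) [CommRing R] (rs : List R)
    (h : RegImm.Kind.regular.Seq R rs) : RegImm.Kind.koszul.Seq R rs :=
  (Groth.Agent.S15821.result R rs h.toIsWeaklyRegular).1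

open CategoryTheory CategoryTheory.Limits AlgebraicGeometry in
lemma seq_h1_of_koszul (R : Type u) [CommRing R] (rs : List R)
    (h : RegImm.Kind.koszul.Seq R rs) : RegImm.Kind.h1.Seq R rs := by
  intro a ha
  exact Groth.Agent.Lib.Seat40.KoszulLow.h1_of_homology_zero rs (h (-1) (by norm_num)) a ha

open CategoryTheory CategoryTheory.Limits AlgebraicGeometry in
lemma seq_quasi_of_h1 (R : Type u) [CommRing R] (rs : List R)
    (h : RegImm.Kind.h1.Seq R rs) : RegImm.Kind.quasi.Seq R rs :=
  Groth.Agent.S2103.result rs.get h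

open CategoryTheory CategoryTheory.Limits AlgebraicGeometry in
lemma immersion_mono {Z X : Scheme.{u}} (i : Z ⟶ X) (k k' : RegImm.Kind)
    (hk : ∀ (R : Type u) [CommRing R] (rs : List R), k.Seq R rs → k'.Seq R rs)
    (h : RegImm.IsRegularImmersion k i) : RegImm.IsRegularImmersion k' i := by
  refine ⟨h.1, fun z => ?_⟩
  obtain ⟨U, hU, hcl, rs, hrs, hker⟩ := h.2 z
  exact ⟨U, hU, hcl, rs, hk _ rs hrs, hker⟩

/-- Let i : Z ⟶ X be an immersion of schemes. If i is a regular immersion then it is Koszul-regular; if
Koszul-regular then H_1-regular; if H_1-regular then quasi-regular. -/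
theorem result {Z X : Scheme.{u}} (i : Z ⟶ X) :
    (RegImm.IsRegularImmersion RegImm.Kind.regular i → RegImm.IsRegularImmersion RegImm.Kind.koszul i) ∧
      (RegImm.IsRegularImmersion RegImm.Kind.koszul i → RegImm.IsRegularImmersion RegImm.Kind.h1 i) ∧
      (RegImm.IsRegularImmersion RegImm.Kind.h1 i → RegImm.IsRegularImmersion RegImm.Kind.quasi i) := by
  exact ⟨immersion_mono i _ _ seq_koszul_of_regular, immersion_mono i _ _ seq_h1_of_koszul,
    immersion_mono i _ _ seq_quasi_of_h1⟩

end Groth.Agent.S8905
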