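import Groth.Statements.S18939
import Groth.Agent.S8905
-- import your own Groth.Agent.* helpers here

set_option autoImplicit false
universe u
open LCI

namespace Groth.Agent.S18939

section aux
open MvPolynomial

/-- degree-one consequence of quasi-regularity -/
theorem linear_of_quasi {R : Type u} [CommRing R] {c : ℕ} (F : Fin c → R)
    (hF : CAlgX.IsQuasiRegular F) (a : Fin c → R)
    (ha : ∑ i, a i * F i ∈ Ideal.span (Set.range F) ^ 2) (i : Fin c) :
    a i ∈ Ideal.span (Set.range F) := by
  classical
  set P : MvPolynomial (Fin c) R := ∑ j, C (a j) * X j with hP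
  have hhom : P.IsHomogeneous 1 := by
    apply IsHomogeneous.sum
    intro j _
    have := (isHomogeneous_C (Fin c) (a j)).mul (isHomogeneous_X R j)
    simpa using this
  have hev : MvPolynomial.eval F P = ∑ j, a j * F j := by
    simp [hP]
  have := hF 1 P hhom (by rw [hev]; exact ha) (Finsupp.single i 1)
  have hco : P.coeff (Finsupp.single i 1) = a i := by
    rw [hP, coeff_sum]
    rw [Finset.sum_eq_single i]
    · rw [coeff_C_mul, coeff_X, if_pos rfl, mul_one]
    · intro j _ hji
      rw [coeff_C_mul, coeff_X, if_neg, mul_zero]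
      intro h
      apply hji
      have := Finsupp.single_left_injective (one_ne_zero) h
      exact this
    · intro h; exact absurd (Finset.mem_univ _) h
  rwa [hco] at this

end aux

/-- Let R be a commutative ring, I a proper ideal of R and f_1, …, f_r a Koszul-regular sequence of
elements of I generating I. Then I/I² is a free R/I-module of rank r, with basis the classes of f_1,
…, f_r. -/
theorem result {R : Type u} [CommRing R] {I : Ideal R} (hI : I ≠ ⊤)
    (r : ℕ) (f : Fin r → I) (hf : LCI.IsKoszulRegularSeq R (List.ofFn (fun i => (f i : R))))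
    (hfI : Ideal.span (Set.range (fun i => (f i : R))) = I) :
    ∃ b : Module.Basis (Fin r) (R ⧸ I) I.Cotangent, ∀ i, b i = I.toCotangent (f i) := by
  classical
  set g : Fin r → R := fun i => (f i : R) with hg
  set l : List R := List.ofFn g with hl
  have hq : CAlgX.IsQuasiRegular l.get :=
    Groth.Agent.S8905.seq_quasi_of_h1 R l (Groth.Agent.S8905.seq_h1_of_koszul R l hf)
  have hlen : l.length = r := List.length_ofFn
  have hget : ∀ j : Fin l.length, l.get j = g (Fin.cast hlen j) := fun j => by
    simp only [hl, List.get_eq_getElem, List.getElem_ofFn]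
    rfl
  have hrange : Set.range l.get = Set.range g := by
    ext x
    constructor
    · rintro ⟨j, rfl⟩; exact ⟨Fin.cast hlen j, (hget j).symm⟩
    · rintro ⟨i, rfl⟩
      exact ⟨Fin.cast hlen.symm i, by rw [hget]; simp⟩
  have key : ∀ a : Fin r → R, ∑ i, a i * g i ∈ I ^ 2 → ∀ i, a i ∈ I := by
    intro a ha i
    have h1 : ∑ j, a (Fin.cast hlen j) * l.get j = ∑ i, a i * g i := by
      simp only [hget]
      exact Equiv.sum_comp (finCongr hlen) (fun i => a i * g i)
    have := linear_of_quasi l.get hq (fun j => a (Fin.cast hlen j))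
      (by rw [h1, hrange, hfI]; exact ha) (Fin.cast hlen.symm i)
    rw [hrange, hfI] at this
    simpa using this
  let v : Fin r → I.Cotangent := fun i => I.toCotangent (f i)
  have hsum : ∀ a : Fin r → R, ∀ (hmem : ∑ i, a i * g i ∈ I),
      ∑ i, (Ideal.Quotient.mk I (a i)) • v i = I.toCotangent ⟨∑ i, a i * g i, hmem⟩ := by
    intro a hmem
    have : (⟨∑ i, a i * g i, hmem⟩ : I) = ∑ i, a i • f i := by
      apply Subtype.ext
      simp [hg]
    rw [this, map_sum]
    refine Finset.sum_congr rfl fun i _ => ?_
    rw [map_smul]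
    exact algebraMap_smul (R ⧸ I) (a i) (v i)
  have hli : LinearIndependent (R ⧸ I) v := by
    rw [Fintype.linearIndependent_iff]
    intro c hc i
    choose c' hc' using fun i => Ideal.Quotient.mk_surjective (c i)
    have hmem : ∑ i, c' i * g i ∈ I :=
      Ideal.sum_mem _ fun i _ => Ideal.mul_mem_left _ _ (f i).2
    have h0 : I.toCotangent ⟨∑ i, c' i * g i, hmem⟩ = 0 := by
      rw [← hsum c' hmem, ← hc]
      refine Finset.sum_congr rfl fun i _ => ?_
      rw [hc']
    rw [Ideal.toCotangent_eq_zero] at h0
    have := key c' h0 i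
    rw [← hc' i]
    exact Ideal.Quotient.eq_zero_iff_mem.2 this
  have hsp : ⊤ ≤ Submodule.span (R ⧸ I) (Set.range v) := by
    rintro x -
    obtain ⟨⟨y, hy⟩, rfl⟩ := Ideal.toCotangent_surjective I x
    have hy' : y ∈ Ideal.span (Set.range g) := by rw [hfI]; exact hy
    obtain ⟨a, ha⟩ := (Ideal.mem_span_range_iff_exists_fun).1 hy'
    have hmem : ∑ i, a i * g i ∈ I := by rw [ha]; exact hy
    have : I.toCotangent ⟨y, hy⟩ = ∑ i, (Ideal.Quotient.mk I (a i)) • v i := by
      rw [hsum a hmem]
      congr 1
      exact Subtype.ext ha.symm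
    rw [this]
    exact Submodule.sum_mem _ fun i _ => Submodule.smul_mem _ _ (Submodule.subset_span ⟨i, rfl⟩)
  exact ⟨Module.Basis.mk hli hsp, fun i => Module.Basis.mk_apply hli hsp i⟩

end Groth.Agent.S18939
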