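import Groth.Statements.S9269
import Groth.Agent.Lib.Seat31KRPoly

set_option autoImplicit false
universe u
attribute [local instance] HasDerivedCategory.standard
open CategoryTheory
open LCI

namespace Groth.Agent.S9269

open Groth.Agent.Lib.Seat31.KR in
/-- presentation independence, in a form convenient for reuse. -/
theorem ker_of_other_presentation (A B : Type u) [CommRing A] [CommRing B]
    [Algebra A B] (n m : ℕ) (α : MvPolynomial (Fin n) A →ₐ[A] B) (hα : Function.Surjective α)
    (β : MvPolynomial (Fin m) A →ₐ[A] B) (hβ : Function.Surjective β)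
    (h : LCI.IsKoszulRegularIdeal (RingHom.ker α.toRingHom)) :
    LCI.IsKoszulRegularIdeal (RingHom.ker β.toRingHom) := by
  choose f hf using fun j : Fin m => hα (β (MvPolynomial.X j))
  choose g hg using fun i : Fin n => hβ (α (MvPolynomial.X i))
  let Θ : MvPolynomial (Fin n) (MvPolynomial (Fin m) A) ≃+*
      MvPolynomial (Fin m) (MvPolynomial (Fin n) A) :=
    (MvPolynomial.commAlgEquiv A (Fin n) (Fin m)).toRingEquiv
  have hαC : α.toRingHom.comp MvPolynomial.C = algebraMap A B := by
    ext a
    exact α.commutes a
  have hkey : ((α.toRingHom.comp (MvPolynomial.eval f)).comp (Θ : _ →+* _)) =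
      β.toRingHom.comp (MvPolynomial.eval g) := by
    apply MvPolynomial.ringHom_ext
    · intro p'
      have h1 : Θ (MvPolynomial.C p') = MvPolynomial.map MvPolynomial.C p' :=
        MvPolynomial.commAlgEquiv_C (R := A) (S₁ := Fin n) (S₂ := Fin m) p'
      simp only [RingHom.comp_apply, RingHom.coe_coe, h1, MvPolynomial.eval_map,
        MvPolynomial.eval_C]
      rw [MvPolynomial.eval₂_comp_left α.toRingHom, hαC]
      have h2 : (α.toRingHom ∘ f) = fun j => β (MvPolynomial.X j) := funext hf
      rw [h2]
      have h3 := MvPolynomial.aeval_unique β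
      exact (congrArg (fun ψ : MvPolynomial (Fin m) A →ₐ[A] B => ψ p') h3).symm
    · intro i
      have h1 : Θ (MvPolynomial.X i) = MvPolynomial.C (MvPolynomial.X i) :=
        MvPolynomial.commAlgEquiv_X (R := A) (S₁ := Fin n) (S₂ := Fin m) i
      simp only [RingHom.comp_apply, RingHom.coe_coe, h1, MvPolynomial.eval_C,
        MvPolynomial.eval_X]
      exact (hg i).symm
  -- go up to `A[x][y]`
  have h1 : LCI.IsKoszulRegularIdeal
      ((RingHom.ker α.toRingHom).comap (MvPolynomial.eval f)) :=
    (isKoszulRegularIdeal_comap_eval m _ f _).2 h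
  -- transport to `A[y][x]`
  have h2 := (isKoszulRegularIdeal_comap_equiv Θ _).2 h1
  -- and go down to `A[y]`
  rw [Ideal.comap_comap, RingHom.comap_ker, ← RingHom.comp_assoc, hkey, ← RingHom.comap_ker] at h2
  exact (isKoszulRegularIdeal_comap_eval n _ g _).1 h2

/-- Let B be an A-algebra of finite type. If the kernel of one presentation A[x_1, ..., x_n] → B is a
Koszul-regular ideal, then the kernel of any other presentation A[y_1, ..., y_m] → B is a
Koszul-regular ideal. -/
theorem result (A B : Type u) [CommRing A] [CommRing B]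
    [Algebra A B] (n m : ℕ) (α : MvPolynomial (Fin n) A →ₐ[A] B) (hα : Function.Surjective α)
    (β : MvPolynomial (Fin m) A →ₐ[A] B) (hβ : Function.Surjective β)
    (h : LCI.IsKoszulRegularIdeal (RingHom.ker α.toRingHom)) :
    LCI.IsKoszulRegularIdeal (RingHom.ker β.toRingHom) := by
  exact ker_of_other_presentation A B n m α hα β hβ h

end Groth.Agent.S9269
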