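import Groth.Statements.S7493
import Groth.Agent.Lib.Seat32ResFieldGen
import Groth.Agent.Lib.Seat32BigClosed

set_option autoImplicit false
universe u
open CategoryTheory CategoryTheory.Limits AlgebraicGeometry
open Grpd

namespace Groth.Agent.S7493

open Groth.Agent.Lib.Seat32.ResFieldGen Groth.Agent.Lib.Seat32.BigClosed

/-- Let (U, R, s, t, c) be a groupoid scheme over S with U = Spec k for a field k, and let r be a point
of R. Then there exist a field extension k -> k' with k' algebraically closed and a point r' of the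
restriction R' of R along g : U' = Spec k' -> U, that is R' = (U' x_(g,U,t) R) x_(s pr, U, g) U'
with t' the projection to the first factor U' and s' the projection to the last factor U', such that
r' maps to r under R' -> R and both s' and t' induce isomorphisms on residue fields at r' (k' ->
κ(r') bijective). (A groupoid scheme carries U, R, s, t, c, e, i over S with the groupoid axioms on
T-points; c is defined on the fibre product of s and t and sends a pair (a, b) with s(a) = t(b) to a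
composed with b.) -/
theorem result (S : Scheme.{u}) (G : Grpd.GroupoidScheme S) (k : Type u) [Field k] (eU : G.U ≅ Spec (CommRingCat.of k)) (r : G.R) : ∃ (k' : Type u) (_ : Field k') (_ : IsAlgClosed k') (_ : Algebra k k'), ∃ r' : ↑(pullback (pullback.snd (Spec.map (CommRingCat.ofHom (algebraMap k k')) ≫ eU.inv) G.t ≫ G.s) (Spec.map (CommRingCat.ofHom (algebraMap k k')) ≫ eU.inv)), (pullback.fst (pullback.snd (Spec.map (CommRingCat.ofHom (algebraMap k k')) ≫ eU.inv) G.t ≫ G.s) (Spec.map (CommRingCat.ofHom (algebraMap k k')) ≫ eU.inv) ≫ pullback.snd (Spec.map (CommRingCat.ofHom (algebraMap k k')) ≫ eU.inv) G.t) r' = r ∧ IsIso ((pullback.snd (pullback.snd (Spec.map (CommRingCat.ofHom (algebraMap k k')) ≫ eU.inv) G.t ≫ G.s) (Spec.map (CommRingCat.ofHom (algebraMap k k')) ≫ eU.inv)).residueFieldMap r') ∧ IsIso ((pullback.fst (pullback.snd (Spec.map (CommRingCat.ofHom (algebraMap k k')) ≫ eU.inv) G.t ≫ G.s) (Spec.map (CommRingCat.ofHom (algebraMap k k')) ≫ eU.inv)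 ≫ pullback.fst (Spec.map (CommRingCat.ofHom (algebraMap k k')) ≫ eU.inv) G.t).residueFieldMap r') := by
  let tC : CommRingCat.of k ⟶ G.R.residueField r :=
    Spec.preimage (G.R.fromSpecResidueField r ≫ G.t ≫ eU.hom)
  let sC : CommRingCat.of k ⟶ G.R.residueField r :=
    Spec.preimage (G.R.fromSpecResidueField r ≫ G.s ≫ eU.hom)
  have htC : G.R.fromSpecResidueField r ≫ G.t = Spec.map tC ≫ eU.inv := by
    rw [Spec.map_preimage, Category.assoc, Category.assoc, Iso.hom_inv_id, Category.comp_id]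
  have hsC : G.R.fromSpecResidueField r ≫ G.s = Spec.map sC ≫ eU.inv := by
    rw [Spec.map_preimage, Category.assoc, Category.assoc, Iso.hom_inv_id, Category.comp_id]
  obtain ⟨β, hβ⟩ := exists_big_closed k (G.R.residueField r) sC.hom tC.hom
  let τ : G.R.residueField r →+* Big (G.R.residueField r) := algebraMap _ _
  letI A : Algebra k (Big (G.R.residueField r)) := (τ.comp tC.hom).toAlgebra
  refine ⟨Big (G.R.residueField r), inferInstance, inferInstance, A, ?_⟩
  let τc : G.R.residueField r ⟶ CommRingCat.of (Big (G.R.residueField r)) := CommRingCat.ofHom τ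
  let ιc : CommRingCat.of k ⟶ CommRingCat.of (Big (G.R.residueField r)) :=
    CommRingCat.ofHom (algebraMap k (Big (G.R.residueField r)))
  have hι : ιc = tC ≫ τc := rfl
  let βc : CommRingCat.of (Big (G.R.residueField r)) ⟶ CommRingCat.of (Big (G.R.residueField r)) :=
    CommRingCat.ofHom β.toRingHom
  have hβc : ιc ≫ βc = sC ≫ τc := by
    ext x
    exact hβ x
  obtain ⟨g, hg⟩ : ∃ g : Spec (CommRingCat.of (Big (G.R.residueField r))) ⟶ G.U,
      g = Spec.map ιc ≫ eU.inv := ⟨_, rfl⟩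
  show ∃ r' : ↑(pullback (pullback.snd (Spec.map ιc ≫ eU.inv) G.t ≫ G.s) (Spec.map ιc ≫ eU.inv)),
    (pullback.fst (pullback.snd (Spec.map ιc ≫ eU.inv) G.t ≫ G.s) (Spec.map ιc ≫ eU.inv) ≫
      pullback.snd (Spec.map ιc ≫ eU.inv) G.t) r' = r ∧
    IsIso ((pullback.snd (pullback.snd (Spec.map ιc ≫ eU.inv) G.t ≫ G.s)
      (Spec.map ιc ≫ eU.inv)).residueFieldMap r') ∧
    IsIso ((pullback.fst (pullback.snd (Spec.map ιc ≫ eU.inv) G.t ≫ G.s) (Spec.map ιc ≫ eU.inv) ≫
      pullback.fst (Spec.map ιc ≫ eU.inv) G.t).residueFieldMap r')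
  rw [← hg]
  obtain ⟨c, hc⟩ : ∃ c : Spec (CommRingCat.of (Big (G.R.residueField r))) ⟶ G.R,
      c = Spec.map τc ≫ G.R.fromSpecResidueField r := ⟨_, rfl⟩
  have h1 : 𝟙 _ ≫ g = c ≫ G.t := by
    rw [Category.id_comp, hc, Category.assoc, htC, hg, hι, Spec.map_comp, Category.assoc]
  have h2 : c ≫ G.s = Spec.map βc ≫ g := by
    rw [hc, Category.assoc, hsC, hg, ← Category.assoc, ← Spec.map_comp, ← Category.assoc, ← Spec.map_comp, hβc]
  obtain ⟨ξ₁, hξ₁a, hξ₁c⟩ : ∃ ξ₁ : Spec (CommRingCat.of (Big (G.R.residueField r))) ⟶ pullback g G.t,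
      ξ₁ ≫ pullback.fst g G.t = 𝟙 _ ∧ ξ₁ ≫ pullback.snd g G.t = c :=
    ⟨pullback.lift (𝟙 _) c h1, pullback.lift_fst _ _ _, pullback.lift_snd _ _ _⟩
  have h3 : ξ₁ ≫ (pullback.snd g G.t ≫ G.s) = Spec.map βc ≫ g := by
    rw [← Category.assoc, hξ₁c, h2]
  obtain ⟨ξ, hξ1, hξ2⟩ : ∃ ξ : Spec (CommRingCat.of (Big (G.R.residueField r))) ⟶
      pullback (pullback.snd g G.t ≫ G.s) g,
      ξ ≫ pullback.fst _ _ = ξ₁ ∧ ξ ≫ pullback.snd _ _ = Spec.map βc :=
    ⟨pullback.lift ξ₁ (Spec.map βc) h3, pullback.lift_fst _ _ _, pullback.lift_snd _ _ _⟩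
  refine ⟨ctr ξ, ?_, ?_, ?_⟩
  · obtain ⟨e, -⟩ := fieldPt_eq r τc (ξ ≫ pullback.fst _ _ ≫ pullback.snd g G.t)
      (by rw [← Category.assoc, hξ1, hξ₁c, hc])
    exact e
  · exact isIso_residueFieldMap_of_comp_specMap ξ _ βc hξ2 β.surjective
  · refine isIso_residueFieldMap_of_comp_specMap ξ _ (𝟙 _) ?_ Function.surjective_id
    rw [← Category.assoc, hξ1, hξ₁a, Spec.map_id]

end Groth.Agent.S7493
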