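import Groth.Statements.S7473
import Groth.Agent.Lib.Seat33FpqcV

set_option autoImplicit false
universe u
open HTop

namespace Groth.Agent.S7473

open CategoryTheory CategoryTheory.Limits AlgebraicGeometry in
/-- An fpqc covering of a scheme T is a V covering. (Here an fpqc covering is a family in Mathlib's fpqc
precoverage: flat, jointly surjective, and every affine open of T is the union of the images of
finitely many quasi-compact opens of the members. The further clauses for fppf, syntomic, smooth,
étale and Zariski coverings follow because those coverings are fpqc coverings; the clause for ph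
coverings is the standard ph statement applied over each affine open.) -/
theorem result {T : Scheme.{u}} : ∀ 𝒰 : Scheme.Cover Scheme.fpqcPrecoverage T, HTop.IsVCover 𝒰.toPreZeroHypercover := by
  intro 𝒰 U
  have : IsAffine ((U : T.Opens) : Scheme.{u}) := U.2
  have hflatT : ∀ i, Flat (𝒰.f i) := fun i => (𝒰.mem₀.2.2 ⟨i⟩ : _)
  have hflat : ∀ i, Flat ((𝒰.toPreZeroHypercover.pullback₁ (U : T.Opens).ι).f i) := by
    intro i
    have := hflatT i
    exact inferInstanceAs (Flat (pullback.fst (U : T.Opens).ι (𝒰.f i)))
  obtain ⟨F, hF, href⟩ := Groth.Agent.Lib.Seat33.FpqcV.exists_isStandardV_refining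
    (𝒰.toPreZeroHypercover.pullback₁ (U : T.Opens).ι) hflat
  refine ⟨F, hF, fun j => ?_⟩
  obtain ⟨i, h, hh⟩ := href j
  let i' : 𝒰.I₀ := i
  let h' : F.X j ⟶ pullback (U : T.Opens).ι (𝒰.f i') := h
  have hh' : h' ≫ pullback.fst (U : T.Opens).ι (𝒰.f i') = F.f j := hh
  refine ⟨i', h' ≫ pullback.snd (U : T.Opens).ι (𝒰.f i'), ?_⟩
  rw [Category.assoc, ← pullback.condition, ← Category.assoc, hh']

end Groth.Agent.S7473
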