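import Groth.Statements.S6925
import Groth.Agent.Lib.Seat35FlatIdealB
import Groth.Agent.Lib.Seat35FlatIdealC

set_option autoImplicit false
universe u
open TensorProduct
open FlatMor

namespace Groth.Agent.S6925

/-- Let `(R, 𝔪)` be a complete Noetherian local ring, `R → S` a ring map with `S` Noetherian and `M` a
finite `S`-module. Then among ideals contained in `𝔪`, there is a smallest one `I` with the
following property: whenever `𝔮` is a prime of `S` lying over `𝔪`, the module `(M/IM)_𝔮` is
`R/I`-flat. Namely, `I ⊆ 𝔪` has this property, and every ideal `J` with the property contains `I`. -/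
theorem result (R S : Type u) [CommRing R] [IsLocalRing R]
    [IsNoetherianRing R] [IsAdicComplete (IsLocalRing.maximalIdeal R) R] [CommRing S] [Algebra R S] [IsNoetherianRing S]
    (M : Type u) [AddCommGroup M] [Module S M] [Module R M] [IsScalarTower R S M] [Module.Finite S M] :
    ∃ I : Ideal R, I ≤ IsLocalRing.maximalIdeal R ∧
      (∀ (q : Ideal S) [q.IsPrime], q.comap (algebraMap R S) = IsLocalRing.maximalIdeal R →
        Module.Flat (R ⧸ I) ((R ⧸ I) ⊗[R] LocalizedModule q.primeCompl M)) ∧
      ∀ J : Ideal R, (∀ (q : Ideal S) [q.IsPrime], q.comap (algebraMap R S) = IsLocalRing.maximalIdeal R →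
        Module.Flat (R ⧸ J) ((R ⧸ J) ⊗[R] LocalizedModule q.primeCompl M)) → I ≤ J := by
  classical
  -- the family of flattening ideals
  let Pr : Ideal R → Prop := fun J =>
    ∀ (q : Ideal S) [q.IsPrime], q.comap (algebraMap R S) = IsLocalRing.maximalIdeal R →
      Module.Flat (R ⧸ J) ((R ⧸ J) ⊗[R] LocalizedModule q.primeCompl M)
  let F : Set (Ideal R) := {J | Pr J}
  have hmF : IsLocalRing.maximalIdeal R ∈ F := fun q _ _ =>
    Groth.Agent.Lib.Seat35.FlatIdeal.flat_quotient_of_isMaximal _
  have hinf : ∀ J₁ ∈ F, ∀ J₂ ∈ F, J₁ ⊓ J₂ ∈ F := by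
    intro J₁ h₁ J₂ h₂ q _ hq
    exact Groth.Agent.Lib.Helper5.flat_quotient_inf_of_flat_quotient _ J₁ J₂ (h₁ q hq) (h₂ q hq)
  refine ⟨sInf F, sInf_le hmF, ?_, fun J hJ => sInf_le hJ⟩
  intro q _ hq
  -- the local ring at `q`
  have hfin : Module.Finite (Localization.AtPrime q) (LocalizedModule q.primeCompl M) :=
    Module.Finite.of_isLocalizedModule q.primeCompl (LocalizedModule.mkLinearMap q.primeCompl M)
  have hjac : (IsLocalRing.maximalIdeal R).map (algebraMap R (Localization.AtPrime q)) ≤
      (⊥ : Ideal (Localization.AtPrime q)).jacobson := by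
    rw [IsLocalRing.jacobson_eq_maximalIdeal ⊥ bot_ne_top, Ideal.map_le_iff_le_comap]
    intro a ha
    rw [Ideal.mem_comap, IsScalarTower.algebraMap_apply R S (Localization.AtPrime q),
      IsLocalization.AtPrime.to_map_mem_maximal_iff (Localization.AtPrime q) q]
    rw [← hq] at ha
    exact ha
  apply Groth.Agent.Lib.Seat35.FlatIdeal.flat_quotient_of_forall_tf_sup_pow
    (B := Localization.AtPrime q) (IsLocalRing.maximalIdeal R) (sInf F) hjac
  intro n hn
  obtain ⟨J, hJF, hJ⟩ := Groth.Agent.Lib.Seat35.FlatIdeal.exists_mem_sup_pow_eq_sInf_sup_pow R F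
    ⟨_, hmF⟩ hinf n
  rw [← hJ]
  exact (Groth.Agent.Lib.Seat35.FlatIdeal.tf_of_flat J (hJF q hq)).mono le_sup_left

end Groth.Agent.S6925
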