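import Groth.Statements.S6926
import Groth.Agent.Lib.Seat35FlatIdealF

set_option autoImplicit false
universe u
open TensorProduct
open FlatMor

namespace Groth.Agent.S6926

/-- Let `(R, 𝔪)` be a complete Noetherian local ring, `R → S` with `S` Noetherian, `M` a finite
`S`-module, and `I ⊆ 𝔪` the least ideal with the property that, at each prime `𝔮` of `S` lying above
`𝔪`, the localization `(M/IM)_𝔮` is an `R/I`-flat module. Let `φ : R → R'` be a local homomorphism
to a Noetherian local ring `(R', 𝔪')`, `S' = S ⊗_R R'`, `M' = M ⊗_R R'`. Then `M'_{𝔮'}` is flat over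
`R'` for every prime `𝔮'` of `S'` lying over `𝔪'` if and only if `φ(I) = 0`. -/
theorem result {R S R' S' : Type u} [CommRing R] [IsLocalRing R]
    [IsNoetherianRing R] [IsAdicComplete (IsLocalRing.maximalIdeal R) R] [CommRing S] [IsNoetherianRing S]
    [CommRing R'] [IsLocalRing R'] [IsNoetherianRing R'] [CommRing S']
    [Algebra R S] [Algebra R R'] [IsLocalHom (algebraMap R R')] [Algebra S S'] [Algebra R' S'] [Algebra R S']
    [IsScalarTower R S S'] [IsScalarTower R R' S'] [Algebra.IsPushout R S R' S']
    {M M' : Type u} [AddCommGroup M] [Module S M] [Module R M] [IsScalarTower R S M] [Module.Finite S M]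
    [AddCommGroup M'] [Module S' M'] [Module R' M'] [IsScalarTower R' S' M'] [Module S M'] [IsScalarTower S S' M']
    (f : M →ₗ[S] M') (hf : IsBaseChange S' f) (I : Ideal R) (hIm : I ≤ IsLocalRing.maximalIdeal R)
    (hI : (∀ (q : Ideal S) [q.IsPrime], q.comap (algebraMap R S) = IsLocalRing.maximalIdeal R →
        Module.Flat (R ⧸ I) ((R ⧸ I) ⊗[R] LocalizedModule q.primeCompl M)))
    (hmin : ∀ J : Ideal R, (∀ (q : Ideal S) [q.IsPrime], q.comap (algebraMap R S) = IsLocalRing.maximalIdeal R →
        Module.Flat (R ⧸ J) ((R ⧸ J) ⊗[R] LocalizedModule q.primeCompl M)) → I ≤ J) :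
    (∀ (q' : Ideal S') [q'.IsPrime], q'.comap (algebraMap R' S') = IsLocalRing.maximalIdeal R' → FlatCA.FlatAt R' q' M') ↔
      I ≤ RingHom.ker (algebraMap R R') := by
  classical
  have _ := hIm
  let _ : Module R M' := Module.compHom M' (algebraMap R R')
  have : IsScalarTower R R' M' := IsScalarTower.of_algebraMap_smul fun r x => rfl
  have : IsScalarTower R S M' := by
    refine IsScalarTower.of_algebraMap_smul fun r x => ?_
    change algebraMap R S r • x = algebraMap R R' r • x
    rw [← algebraMap_smul S' (algebraMap R S r) x, ← algebraMap_smul S' (algebraMap R R' r) x,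
      ← IsScalarTower.algebraMap_apply R S S', ← IsScalarTower.algebraMap_apply R R' S']
  constructor
  · -- flatness over the closed point forces `φ(I) = 0`
    intro H
    have key : ∀ n : ℕ, I ≤ (IsLocalRing.maximalIdeal R' ^ n).comap (algebraMap R R') := by
      intro n
      rcases Nat.eq_zero_or_pos n with hn | hn
      · subst hn
        rw [pow_zero, Ideal.one_eq_top, Ideal.comap_top]
        exact le_top
      · apply hmin
        intro q _ _
        exact Groth.Agent.Lib.Seat35.FlatIdeal.flat_quotient_comap_pow_of_forall_flat f hf n hn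
          (fun q' _ hq' => H q' hq') q.primeCompl
    intro a ha
    rw [RingHom.mem_ker]
    have h1 : algebraMap R R' a ∈ (⨅ n : ℕ, IsLocalRing.maximalIdeal R' ^ n : Ideal R') := by
      rw [Ideal.mem_iInf]
      intro n
      exact key n ha
    rw [Ideal.iInf_pow_eq_bot_of_isLocalRing _ (IsLocalRing.maximalIdeal.isMaximal R').ne_top] at h1
    exact h1
  · -- base change
    intro hle q' _ hq'
    let q : Ideal S := q'.comap (algebraMap S S')
    have hq : q.comap (algebraMap R S) = IsLocalRing.maximalIdeal R := by
      change (q'.comap (algebraMap S S')).comap (algebraMap R S) = _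
      rw [Ideal.comap_comap, ← IsScalarTower.algebraMap_eq, IsScalarTower.algebraMap_eq R R' S',
        ← Ideal.comap_comap, hq']
      exact (Ideal.over_def (IsLocalRing.maximalIdeal R') (IsLocalRing.maximalIdeal R)).symm
    have hTF := Groth.Agent.Lib.Seat35.FlatIdeal.tf_of_flat I (hI q hq)
    exact Groth.Agent.Lib.Seat35.FlatIdeal.flat_localizedModule_of_isBaseChange_of_tf (R := R)
      (R' := R') f hf I hle q.primeCompl q'.primeCompl (fun s hs => hs) hTF

end Groth.Agent.S6926
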