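import Groth.Statements.S6927
import Groth.Agent.S6926
import Groth.Agent.S6928
import Groth.Agent.Lib.Seat35LocalColim
import Groth.Agent.Lib.Seat35LocalColimB
import Groth.Agent.Lib.Seat35FlatIdealD

set_option autoImplicit false
universe u
open TensorProduct
open FlatMor

namespace Groth.Agent.S6927

/-- Let `(R, 𝔪)` be a complete Noetherian local ring, `R → S` of finite type, `M` a finite `S`-module,
and `I ⊆ 𝔪` the least ideal for which, at every prime `𝔮` of `S` lying over `𝔪`, the localization
`(M/IM)_𝔮` is an `R/I`-flat module. Then for every local homomorphism `φ : R → R'` of local rings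
(`R'` arbitrary), with `S' = S ⊗_R R'` and `M' = M ⊗_R R'`: `M'_{𝔮'}` is flat over `R'` for every
prime `𝔮'` of `S'` over `𝔪'` if and only if `φ(I) = 0`. -/
theorem result {R S R' S' : Type u} [CommRing R] [IsLocalRing R]
    [IsNoetherianRing R] [IsAdicComplete (IsLocalRing.maximalIdeal R) R] [CommRing S]
    [CommRing R'] [IsLocalRing R'] [CommRing S']
    [Algebra R S] [Algebra.FiniteType R S] [Algebra R R'] [IsLocalHom (algebraMap R R')] [Algebra S S'] [Algebra R' S']
    [Algebra R S'] [IsScalarTower R S S'] [IsScalarTower R R' S'] [Algebra.IsPushout R S R' S']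
    {M M' : Type u} [AddCommGroup M] [Module S M] [Module R M] [IsScalarTower R S M] [Module.Finite S M]
    [AddCommGroup M'] [Module S' M'] [Module R' M'] [IsScalarTower R' S' M'] [Module S M'] [IsScalarTower S S' M']
    (f : M →ₗ[S] M') (hf : IsBaseChange S' f) (I : Ideal R) (hIm : I ≤ IsLocalRing.maximalIdeal R)
    (hI : (∀ (q : Ideal S) [q.IsPrime], q.comap (algebraMap R S) = IsLocalRing.maximalIdeal R →
        Module.Flat (R ⧸ I) ((R ⧸ I) ⊗[R] LocalizedModule q.primeCompl M)))
    (hmin : ∀ J : Ideal R, (∀ (q : Ideal S) [q.IsPrime], q.comap (algebraMap R S) = IsLocalRing.maximalIdeal R →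
        Module.Flat (R ⧸ J) ((R ⧸ J) ⊗[R] LocalizedModule q.primeCompl M)) → I ≤ J) :
    (∀ (q' : Ideal S') [q'.IsPrime], q'.comap (algebraMap R' S') = IsLocalRing.maximalIdeal R' → FlatCA.FlatAt R' q' M') ↔
      I ≤ RingHom.ker (algebraMap R R') := by
  classical
  have _ := hIm
  let _ : Module R M' := Module.compHom M' (algebraMap R R')
  have : IsScalarTower R R' M' := IsScalarTower.of_algebraMap_smul fun r x => rfl
  have : IsScalarTower R S M' := by
    refine IsScalarTower.of_algebraMap_smul fun r x => ?_
    change algebraMap R S r • x = algebraMap R R' r • x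
    rw [← algebraMap_smul S' (algebraMap R S r) x, ← algebraMap_smul S' (algebraMap R R' r) x,
      ← IsScalarTower.algebraMap_apply R S S', ← IsScalarTower.algebraMap_apply R R' S']
  have hSN : IsNoetherianRing S := Algebra.FiniteType.isNoetherianRing R S
  constructor
  · intro H
    have hSfp : Algebra.FinitePresentation R S :=
      Algebra.FinitePresentation.of_finiteType.1 inferInstance
    have hS : FlatCA.EssFinitePresentation R S :=
      ⟨S, inferInstance, inferInstance, Algebra.id S, inferInstance, ⊥, hSfp,
        IsLocalization.self (by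
          intro x hx
          rw [Submonoid.mem_bot] at hx
          rw [hx]
          exact isUnit_one)⟩
    have hMfp : Module.FinitePresentation S M := Module.finitePresentation_of_finite S M
    let _ : ∀ A : Groth.Agent.Lib.Seat35.LocalColim.Idx R R',
        Algebra (Groth.Agent.Lib.Seat35.LocalColim.G A) R' :=
      fun A => (Groth.Agent.Lib.Seat35.LocalColim.toTop A).toAlgebra
    have htower : ∀ A : Groth.Agent.Lib.Seat35.LocalColim.Idx R R',
        IsScalarTower R (Groth.Agent.Lib.Seat35.LocalColim.G A) R' := fun A =>
      IsScalarTower.of_algebraMap_eq fun r =>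
        (Groth.Agent.Lib.Seat35.LocalColim.toTop_algebraMap_base A r).symm
    have hcolim := Groth.Agent.Lib.Seat35.LocalColim.isDirectedColimitRing (R := R) (R' := R')
    obtain ⟨A, hA⟩ := Groth.Agent.S6928.result hS
      (Groth.Agent.Lib.Seat35.LocalColim.G (R := R) (R' := R'))
      Groth.Agent.Lib.Seat35.LocalColim.g
      (fun A B h => Groth.Agent.Lib.Seat35.LocalColim.g_algebraMap_base A B h) R' hcolim
      (fun A => IsLocalRing.maximalIdeal (Groth.Agent.Lib.Seat35.LocalColim.G A))
      (fun A B h => Groth.Agent.Lib.Seat35.LocalColim.map_maximalIdeal_le A B h)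
      f hf ⊥ (by
        intro q' _ hle
        apply H q'
        have h1 : IsLocalRing.maximalIdeal R' ≤ q'.comap (algebraMap R' S') := by
          intro a ha
          obtain ⟨A, x, hx, rfl⟩ :=
            Groth.Agent.Lib.Seat35.LocalColim.mem_map_maximalIdeal_of_mem (R := R) a ha
          rw [Ideal.mem_comap]
          apply hle
          apply Ideal.mem_sup_left
          apply Ideal.mem_map_of_mem
          apply Ideal.mem_iSup_of_mem A
          exact Ideal.mem_map_of_mem _ hx
        have hne : q'.comap (algebraMap R' S') ≠ ⊤ := (Ideal.IsPrime.comap _).ne_top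
        exact ((IsLocalRing.maximalIdeal.isMaximal R').eq_of_le hne h1).symm)
    have hloc := Groth.Agent.Lib.Seat35.LocalColim.isLocalHom_algebraMap (R := R) A
    have hker := Groth.Agent.Lib.Seat35.LocalColim.le_ker_of_forall_models
      (R'' := Groth.Agent.Lib.Seat35.LocalColim.G A) (S := S) (M := M) I hIm hI hmin
      (fun Si Mi _ _ _ _ _ _ _ _ _ _ _ _ _ fi hfi q _ hq =>
        hA Si Mi fi hfi q (by
          rw [Ideal.map_bot, sup_bot_eq, Ideal.map_le_iff_le_comap, hq]))
    intro a ha
    have h2 := hker ha
    rw [RingHom.mem_ker] at h2 ⊢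
    rw [← Groth.Agent.Lib.Seat35.LocalColim.toTop_algebraMap_base A a, h2, map_zero]
  · -- base change
    intro hle q' _ hq'
    let q : Ideal S := q'.comap (algebraMap S S')
    have hq : q.comap (algebraMap R S) = IsLocalRing.maximalIdeal R := by
      change (q'.comap (algebraMap S S')).comap (algebraMap R S) = _
      rw [Ideal.comap_comap, ← IsScalarTower.algebraMap_eq, IsScalarTower.algebraMap_eq R R' S',
        ← Ideal.comap_comap, hq']
      exact (Ideal.over_def (IsLocalRing.maximalIdeal R') (IsLocalRing.maximalIdeal R)).symm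
    have hTF := Groth.Agent.Lib.Seat35.FlatIdeal.tf_of_flat I (hI q hq)
    exact Groth.Agent.Lib.Seat35.FlatIdeal.flat_localizedModule_of_isBaseChange_of_tf (R := R)
      (R' := R') f hf I hle q.primeCompl q'.primeCompl (fun s hs => hs) hTF

end Groth.Agent.S6927
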