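import Groth.Statements.S17003
import Groth.Agent.Lib.Seat37QuadTorsor

set_option autoImplicit false
universe u
open scoped TensorProduct
open QuadGrp

namespace Groth.Agent.S17003

open Groth.Agent.S17014.Aux.HD Groth.Agent.Lib.Seat37.QuadTab Groth.Agent.Lib.Seat37.PolyRep
  Groth.Agent.Lib.Seat37.QuadRel Groth.Agent.Lib.Seat37.QuadGO Groth.Agent.Lib.Seat37.QuadSplitTab
  Groth.Agent.Lib.Seat37.QuadTorsor Groth.Agent.Lib.Helper25.HalfDisc

/-- a matrix over `A` transforming the table of `Q'` into that of `Q` gives an isometry of the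
base changes. -/
theorem nonempty_isometryEquiv_of_matrix {R : Type u} [CommRing R] {n : ℕ}
    (Q Q' : QuadraticForm R (Fin n → R)) (A : Type u) [CommRing A] [Algebra R A]
    (X : Matrix (Fin n) (Fin n) A) (hX : IsUnit X.det)
    (h : cc (algebraMap R A ∘ coeffs (Pi.basisFun R (Fin n)) (LinearEquiv.refl R R) Q') X =
      algebraMap R A ∘ coeffs (Pi.basisFun R (Fin n)) (LinearEquiv.refl R R) Q) :
    Nonempty ((QuadGrp.baseChangeForm A Q).IsometryEquiv (QuadGrp.baseChangeForm A Q')) := by
  classical
  set β := Algebra.TensorProduct.basis A (Pi.basisFun R (Fin n)) with hβ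
  set g : (A ⊗[R] (Fin n → R)) →ₗ[A] (A ⊗[R] (Fin n → R)) := Matrix.toLin β β X with hg
  have hgm : LinearMap.toMatrix β β g = X := by rw [hg, LinearMap.toMatrix_toLin]
  have hcomp : (QuadGrp.baseChangeForm A Q').comp g = QuadGrp.baseChangeForm A Q := by
    apply eq_of_coeffs_eq β
    rw [coeffs_comp, hgm, hβ, coeffs_baseChange, coeffs_baseChange, h]
  have hdet : IsUnit (LinearMap.toMatrix β β g).det := by rw [hgm]; exact hX
  refine ⟨{ LinearEquiv.ofIsUnitDet hdet with map_app' := fun x => ?_ }⟩
  have := congrArg (fun q : QuadraticForm A (A ⊗[R] (Fin n → R)) => q x) hcomp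
  simp only [QuadraticMap.comp_apply] at this
  exact this

/-- Let Q be a quadratic form on R^{2m+1} over a commutative ring R whose half-discriminant in the
standard basis is a unit. Then fppf-locally on R the form Q is isometric to the standard split form
in 2m+1 variables: there is a faithfully flat finitely presented R-algebra A and an isometry between
the base changes to A of Q and of the split form. (For even rank the étale-local statement is
already available; for odd rank with 2 not a unit the fppf topology is needed.) -/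
theorem result (R : Type u) [CommRing R] (m : ℕ)
    (Q : QuadraticForm R (Fin (2 * m + 1) → R))
    (hQ : QuadGrp.IsSemiregular (Pi.basisFun R (Fin (2 * m + 1))) (LinearEquiv.refl R R) Q) :
    ∃ (A : Type u) (_ : CommRing A) (_ : Algebra R A), Module.FaithfullyFlat R A ∧ Algebra.FinitePresentation R A ∧
      Nonempty ((QuadGrp.baseChangeForm A Q).IsometryEquiv
        (QuadGrp.baseChangeForm A (QuadGrp.splitForm R (2 * m + 1)))) := by
  classical
  set a : Sym2 (Fin (2 * m + 1)) → R :=
    coeffs (Pi.basisFun R (Fin (2 * m + 1))) (LinearEquiv.refl R R) Q with ha_def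
  have ha : IsUnit (hdv a) := hQ
  have hbu : IsUnit (hdv (bsp R (2 * m + 1))) := isUnit_hdv_bsp R m
  set c : R := hdv a * ↑(hbu.unit⁻¹) with hc
  have hcb : c * hdv (bsp R (2 * m + 1)) = hdv a := by
    rw [hc, mul_assoc, IsUnit.val_inv_mul, mul_one]
  set f : Polynomial R := Polynomial.X ^ 2 - Polynomial.C c with hf
  have hmonic : f.Monic := Polynomial.monic_X_pow_sub_C c (by norm_num)
  let R' := AdjoinRoot f
  set s : R' := AdjoinRoot.root f with hs_def
  have hs2 : s ^ 2 = algebraMap R R' c := by
    have h := AdjoinRoot.eval₂_root f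
    rw [hf, Polynomial.eval₂_sub, Polynomial.eval₂_pow, Polynomial.eval₂_X, Polynomial.eval₂_C,
      sub_eq_zero] at h
    rw [AdjoinRoot.algebraMap_eq]
    exact h
  set a' : Sym2 (Fin (2 * m + 1)) → R' := algebraMap R R' ∘ a with ha'
  have ha'u : IsUnit (hdv a') := by
    rw [ha', hdv_map]
    exact ha.map _
  have hs : s ^ 2 * hdv (bsp R' (2 * m + 1)) = hdv a' := by
    rw [hs2, ha', hdv_map, ← map_bsp (algebraMap R R'), hdv_map, ← map_mul, hcb]
  let T := Alg (relT (bsp R' (2 * m + 1)) a' s)
  -- faithful flatness
  have hff1 : Module.FaithfullyFlat R R' := by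
    let pb := AdjoinRoot.powerBasis' hmonic
    rcases subsingleton_or_nontrivial R with hsub | hnt
    · have : Module.Free R R' := Module.Free.of_basis pb.basis
      exact ⟨fun 𝔪 hmax _ => hmax.ne_top (Subsingleton.elim _ _)⟩
    · have hdim : pb.dim = 2 := by
        change f.natDegree = 2
        rw [hf]
        exact Polynomial.natDegree_X_pow_sub_C
      have : Nonempty (Fin pb.dim) := ⟨⟨0, by omega⟩⟩
      exact Module.FaithfullyFlat.of_linearEquiv R (Fin pb.dim →₀ R) pb.basis.repr
  have hff2 : Module.FaithfullyFlat R' T := faithfullyFlat_T m a' s ha'u hs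
  have hff : Module.FaithfullyFlat R T := Module.FaithfullyFlat.trans R R' T
  have hfp : Algebra.FinitePresentation R T := Algebra.FinitePresentation.trans R R' T
  refine ⟨T, inferInstance, inferInstance, hff, hfp, ?_⟩
  -- the universal point
  have hU := toSol_mem (AlgHom.id R' T)
  rw [mem_SolT_iff] at hU
  obtain ⟨hU1, hU2, -⟩ := hU
  have hsu : IsUnit s := by
    have : IsUnit (s ^ 2) := by
      rw [← hs] at ha'u
      exact isUnit_of_mul_isUnit_left ha'u
    exact (isUnit_pow_iff two_ne_zero).mp this
  apply nonempty_isometryEquiv_of_matrix Q (QuadGrp.splitForm R (2 * m + 1)) T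
    (vmat (toSol (AlgHom.id R' T)))
  · rw [hU2]
    exact hsu.map _
  · rw [coeffs_splitForm, ← ha_def]
    have e1 : algebraMap R T ∘ bsp R (2 * m + 1) = algebraMap R' T ∘ bsp R' (2 * m + 1) := by
      rw [map_bsp, map_bsp]
    have e2 : algebraMap R T ∘ a = algebraMap R' T ∘ a' := by
      funext p
      simp only [Function.comp, ha']
      exact IsScalarTower.algebraMap_apply R R' T (a p)
    rw [e1, e2]
    exact hU1

end Groth.Agent.S17003
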