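import Groth.Statements.S0728
import Groth.Agent.Lib.Helper16SmallEtale
import Groth.Agent.Lib.Helper16EtStalk
import Groth.Agent.Lib.Helper11SepPts

set_option autoImplicit false
open CategoryTheory CategoryTheory.Limits AlgebraicGeometry Opposite
universe u
open EtShriek

namespace Groth.Agent.S0728

open Groth.Agent.Lib.Helper16.SmallEtale Groth.Agent.Lib.Helper16.EtStalk

/-- two `Spec K`-points with the same image point and the same composite with `φ` coincide when
`φ` induces a surjection on residue fields at that point -/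
lemma spec_hom_ext_of_residue_surjective {U' U : Scheme.{u}} (φ : U' ⟶ U) {K : Type u} [Field K]
    (a b : Spec (.of K) ⟶ U') (hab : a ≫ φ = b ≫ φ)
    (hpt : a (IsLocalRing.closedPoint K) = b (IsLocalRing.closedPoint K))
    (hsurj : Function.Surjective (φ.residueFieldMap (a (IsLocalRing.closedPoint K)))) : a = b := by
  apply (Scheme.SpecToEquivOfField K U').injective
  rw [Scheme.SpecToEquivOfField_eq_iff]
  refine ⟨hpt, ?_⟩
  have h1 := congrArg (Scheme.SpecToEquivOfField K U) hab
  rw [Scheme.SpecToEquivOfField_eq_iff] at h1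
  obtain ⟨e', h2⟩ := h1
  simp only [Scheme.SpecToEquivOfField_apply_snd] at h2 ⊢
  have ha := Scheme.descResidueField_stalkClosedPointTo_comp (f := φ) a
  have hb := Scheme.descResidueField_stalkClosedPointTo_comp (f := φ) b
  have hepi : Epi (φ.residueFieldMap (a (IsLocalRing.closedPoint K))) :=
    ConcreteCategory.epi_of_surjective _ hsurj
  have nat := Scheme.Hom.residueFieldMap_congr'_assoc (f := φ) hpt
    (Scheme.descResidueField (Scheme.stalkClosedPointTo b))
  refine (cancel_epi (φ.residueFieldMap (a (IsLocalRing.closedPoint K)))).mp ?_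
  refine ha.symm.trans (h2.trans ?_)
  exact (congrArg (fun m => (Scheme.residueFieldCongr e').hom ≫ m) hb).trans nat.symm

lemma spec_comp_ext {T U' U : Scheme.{u}} (φ : U' ⟶ U) (ga gb : T ⟶ U')
    (h1 : ga ≫ φ = gb ≫ φ) {K : Type u} [Field K] (τ₀ : Spec (.of K) ⟶ T) (τ : T)
    (hτ : τ₀ (IsLocalRing.closedPoint K) = τ) (hpt : ga τ = gb τ)
    (hsurj : Function.Surjective (φ.residueFieldMap (ga τ))) : τ₀ ≫ ga = τ₀ ≫ gb := by
  subst hτ
  apply spec_hom_ext_of_residue_surjective φ
  · rw [Category.assoc, Category.assoc, h1]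
  · rw [Scheme.Hom.comp_apply, Scheme.Hom.comp_apply, hpt]
  · rw [Scheme.Hom.comp_apply]
    exact hsurj

variable {X : Scheme.{u}} (F : EtCoh.Ab X)

/-- the underlying sheaf of types -/
lemma isSheaf_forget :
    Presieve.IsSheaf X.smallEtaleTopology (F.obj ⋙ forget AddCommGrpCat.{u + 1}) :=
  (isSheaf_iff_isSheaf_of_type _ _).mp
    ((Presheaf.isSheaf_iff_isSheaf_forget _ F.obj (forget _)).mp F.property)

/-- sections agreeing étale locally are equal -/
lemma eq_of_locally_eq {P : X.Etale} (s t : EtCoh.sect F P)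
    (h : ∀ p : P.left, ∃ (W : X.Etale) (g : W ⟶ P) (w : W.left),
      g.left w = p ∧ F.obj.map g.op s = F.obj.map g.op t) : s = t := by
  let S : Sieve P := Presheaf.equalizerSieve (F := F.obj) (X := op P) s t
  have hS : S ∈ X.smallEtaleTopology P := by
    rw [mem_smallEtale_iff]
    intro p
    obtain ⟨W, g, w, hw, hg⟩ := h p
    exact ⟨W, g, w, hg, hw⟩
  exact ((isSheaf_forget F).isSeparated S hS).ext (fun W g hg => hg)

/-- a point outside the support has an étale neighbourhood killing the section -/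
lemma exists_nbhd_of_not_mem_supp {U : X.Etale} (s : EtCoh.sect F U) (x : U.left)
    (hx : x ∉ sectSupp F U s) :
    ∃ (W : X.Etale) (g : W ⟶ U) (w : W.left), g.left w = x ∧ F.obj.map g.op s = 0 := by
  unfold sectSupp at hx
  simp only [Set.mem_ofPred_eq, not_forall, not_not] at hx
  obtain ⟨W, g, ⟨w, hw⟩, hs⟩ := hx
  exact ⟨W, g, w, hw, hs⟩

section Germs

variable {Ω : Type u} [Field Ω] [IsSepClosed Ω] (ξ : Spec (CommRingCat.of Ω) ⟶ X)

set_option backward.isDefEq.respectTransparency.types false in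
/-- the germ of a section vanishes at geometric points outside its support -/
lemma germ_eq_zero_of_not_mem_supp {U : X.Etale} (s : EtCoh.sect F U)
    (x₀ : (Scheme.pointSmallEtale ξ).fiber.obj U)
    (hx : (x₀.left : Spec (CommRingCat.of Ω) ⟶ U.left) (default : Spec (CommRingCat.of Ω)) ∉
      sectSupp F U s) :
    (Scheme.pointSmallEtale ξ).toPresheafFiber U x₀ F.obj s = 0 := by
  obtain ⟨W, g, w, hw, hs⟩ := exists_nbhd_of_not_mem_supp F s _ hx
  have : Etale g.left := inferInstanceAs (Etale g.left)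
  obtain ⟨w₀, hw₀⟩ := Groth.Agent.Lib.Helper11SepPts.exists_lift_etale g.left w
    (x₀.left : Spec (CommRingCat.of Ω) ⟶ U.left)
    ((congrArg (x₀.left : Spec (CommRingCat.of Ω) ⟶ U.left)
      (Subsingleton.elim (α := Spec (CommRingCat.of Ω)) _ _)).trans hw.symm)
  let w₀' : (Scheme.pointSmallEtale ξ).fiber.obj W := Over.homMk w₀ (by
    have h1 : (x₀.left : Spec (CommRingCat.of Ω) ⟶ U.left) ≫ U.hom = ξ := Over.w x₀
    have h2 : g.left ≫ U.hom = W.hom := Over.w g.hom
    change w₀ ≫ W.hom = ξ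
    rw [← h2, ← Category.assoc, hw₀]
    exact h1)
  have hmap : (Scheme.pointSmallEtale ξ).fiber.map g w₀' = x₀ := by
    apply Over.OverMorphism.ext
    exact hw₀
  have h3 := (Scheme.pointSmallEtale ξ).toPresheafFiber_w_apply g w₀' F.obj s
  rw [hmap] at h3
  rw [← h3, hs, map_zero]

set_option backward.isDefEq.respectTransparency.types false in
/-- a point at which some geometric germ vanishes is outside the support -/
lemma not_mem_supp_of_germ_eq_zero {U : X.Etale} (s : EtCoh.sect F U)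
    (x₀ : (Scheme.pointSmallEtale ξ).fiber.obj U)
    (h : (Scheme.pointSmallEtale ξ).toPresheafFiber U x₀ F.obj s = 0) :
    (x₀.left : Spec (CommRingCat.of Ω) ⟶ U.left) (default : Spec (CommRingCat.of Ω)) ∉
      sectSupp F U s := by
  have h' : (Scheme.pointSmallEtale ξ).toPresheafFiber U x₀ F.obj s =
      (Scheme.pointSmallEtale ξ).toPresheafFiber U x₀ F.obj 0 := by rw [h, map_zero]
  obtain ⟨W, g, w, hw, hg⟩ := ((Scheme.pointSmallEtale ξ).toPresheafFiber_eq_iff' U x₀ s 0).mp h'
  intro hmem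
  apply hmem W g ⟨(w.left : Spec (CommRingCat.of Ω) ⟶ W.left) (default : Spec (CommRingCat.of Ω)), ?_⟩
  · rw [hg, map_zero]
  · have e3 : w.left ≫ g.left = x₀.left := congrArg (fun m => m.left) hw
    exact congrArg (fun m : Spec (CommRingCat.of Ω) ⟶ U.left => m (default : Spec (CommRingCat.of Ω))) e3

end Germs

set_option backward.isDefEq.respectTransparency.types false in
/-- sections with equal germs at one geometric point over each point are equal -/
lemma eq_of_germs {P : X.Etale} (s t : EtCoh.sect F P)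
    (h : ∀ p : P.left, ∃ (Ω : Type u) (_ : Field Ω) (_ : IsSepClosed Ω)
      (ξ : Spec (CommRingCat.of Ω) ⟶ X) (x₀ : (Scheme.pointSmallEtale ξ).fiber.obj P),
      (x₀.left : Spec (CommRingCat.of Ω) ⟶ P.left) (default : Spec (CommRingCat.of Ω)) = p ∧
      (Scheme.pointSmallEtale ξ).toPresheafFiber P x₀ F.obj s =
        (Scheme.pointSmallEtale ξ).toPresheafFiber P x₀ F.obj t) : s = t := by
  apply eq_of_locally_eq
  intro p
  obtain ⟨Ω, _, _, ξ, x₀, hx₀, hg⟩ := h p
  obtain ⟨W, g, w, hw, hg'⟩ := ((Scheme.pointSmallEtale ξ).toPresheafFiber_eq_iff' P x₀ s t).mp hg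
  refine ⟨W, g, (w.left : Spec (CommRingCat.of Ω) ⟶ W.left) (default : Spec (CommRingCat.of Ω)), ?_, hg'⟩
  have e3 : w.left ≫ g.left = x₀.left := congrArg (fun m => m.left) hw
  rw [← hx₀]
  exact congrArg (fun m : Spec (CommRingCat.of Ω) ⟶ P.left => m (default : Spec (CommRingCat.of Ω))) e3

set_option backward.isDefEq.respectTransparency.types false in
/-- germs of a restricted section -/
lemma germ_map {Ω : Type u} [Field Ω] [IsSepClosed Ω] (ξ : Spec (CommRingCat.of Ω) ⟶ X)
    {U U' : X.Etale} (φ : U' ⟶ U) (s : EtCoh.sect F U)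
    (x₀ : (Scheme.pointSmallEtale ξ).fiber.obj U') :
    (Scheme.pointSmallEtale ξ).toPresheafFiber U' x₀ F.obj (F.obj.map φ.op s) =
      (Scheme.pointSmallEtale ξ).toPresheafFiber U ((Scheme.pointSmallEtale ξ).fiber.map φ x₀)
        F.obj s :=
  (Scheme.pointSmallEtale ξ).toPresheafFiber_w_apply φ x₀ F.obj s

set_option backward.isDefEq.respectTransparency.types false in
lemma fiber_map_left {Ω : Type u} [Field Ω] [IsSepClosed Ω] (ξ : Spec (CommRingCat.of Ω) ⟶ X)
    {U U' : X.Etale} (φ : U' ⟶ U) (x₀ : (Scheme.pointSmallEtale ξ).fiber.obj U') :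
    (((Scheme.pointSmallEtale ξ).fiber.map φ x₀).left : Spec (CommRingCat.of Ω) ⟶ U.left) =
      (x₀.left : Spec (CommRingCat.of Ω) ⟶ U'.left) ≫ φ.left := rfl

lemma fiber_map_pt {Ω : Type u} [Field Ω] [IsSepClosed Ω] (ξ : Spec (CommRingCat.of Ω) ⟶ X)
    {U U' : X.Etale} (φ : U' ⟶ U) (x₀ : (Scheme.pointSmallEtale ξ).fiber.obj U') :
    (((Scheme.pointSmallEtale ξ).fiber.map φ x₀).left : Spec (CommRingCat.of Ω) ⟶ U.left)
        (default : Spec (CommRingCat.of Ω)) =
      φ.left ((x₀.left : Spec (CommRingCat.of Ω) ⟶ U'.left) (default : Spec (CommRingCat.of Ω))) := by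
  rw [fiber_map_left]
  exact Scheme.Hom.comp_apply _ _ _

set_option backward.isDefEq.respectTransparency.types false in
/-- gluing along a two-element cover -/
lemma exists_glue_binary' (G : X.Etaleᵒᵖ ⥤ Type (u + 1))
    (hG : Presieve.IsSheaf X.smallEtaleTopology G) {P W1 W2 : X.Etale}
    (j1 : W1 ⟶ P) (j2 : W2 ⟶ P)
    (hcov : ∀ p : P.left, (∃ x : W1.left, j1.left x = p) ∨ (∃ y : W2.left, j2.left y = p))
    (t1 : G.obj (op W1)) (t2 : G.obj (op W2))
    (h11 : ∀ (T : X.Etale) (ga gb : T ⟶ W1), ga ≫ j1 = gb ≫ j1 → G.map ga.op t1 = G.map gb.op t1)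
    (h12 : ∀ (T : X.Etale) (ga : T ⟶ W1) (gb : T ⟶ W2), ga ≫ j1 = gb ≫ j2 →
      G.map ga.op t1 = G.map gb.op t2)
    (h22 : ∀ (T : X.Etale) (ga gb : T ⟶ W2), ga ≫ j2 = gb ≫ j2 →
      G.map ga.op t2 = G.map gb.op t2) :
    ∃ s : G.obj (op P), G.map j1.op s = t1 ∧ G.map j2.op s = t2 := by
  let W : Bool → X.Etale := fun b => match b with
    | true => W1
    | false => W2
  let j : ∀ b, W b ⟶ P := fun b => match b with
    | true => j1
    | false => j2
  let t : ∀ b, G.obj (op (W b)) := fun b => match b with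
    | true => t1
    | false => t2
  have hS : Sieve.ofArrows W j ∈ X.smallEtaleTopology P := by
    rw [mem_smallEtale_iff]
    intro p
    rcases hcov p with ⟨x, hx⟩ | ⟨y, hy⟩
    · exact ⟨W1, j1, x, Sieve.ofArrows_mk W j true, hx⟩
    · exact ⟨W2, j2, y, Sieve.ofArrows_mk W j false, hy⟩
  have h1 : Presieve.IsSheafFor G (Presieve.ofArrows W j) :=
    (Presieve.isSheafFor_iff_generate (Presieve.ofArrows W j)).mpr (hG _ hS)
  rw [Presieve.isSheafFor_arrows_iff] at h1
  obtain ⟨s, hs, -⟩ := h1 t (by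
    intro a b T ga gb hab
    cases a <;> cases b
    · exact h22 T ga gb hab
    · exact (h12 T gb ga hab.symm).symm
    · exact h12 T ga gb hab
    · exact h11 T ga gb hab)
  exact ⟨s, hs true, hs false⟩

section Parts

variable {U U' : X.Etale} (φ : U' ⟶ U) (Z : Set ↥U.left)

lemma mapsTo :
    Set.MapsTo (F.obj.map φ.op) {s | EtShriek.sectSupp F U s ⊆ Z}
      {s' | EtShriek.sectSupp F U' s' ⊆ φ.left.base ⁻¹' Z} := by
  intro s hs x' hx'
  by_contra hx
  have hx2 : φ.left x' ∉ sectSupp F U s := fun h => hx (hs h)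
  obtain ⟨Ω, _, _, ξ, x₀, hx₀⟩ := exists_geometric_point U' x'
  have h1 : (Scheme.pointSmallEtale ξ).toPresheafFiber U' x₀ F.obj (F.obj.map φ.op s) = 0 := by
    rw [germ_map]
    apply germ_eq_zero_of_not_mem_supp
    rw [fiber_map_pt, hx₀]
    exact hx2
  have h2 := not_mem_supp_of_germ_eq_zero F ξ _ x₀ h1
  rw [hx₀] at h2
  exact h2 hx'

lemma injOn (hsurj : Set.SurjOn φ.left.base (φ.left.base ⁻¹' Z) Z) :
    Set.InjOn (F.obj.map φ.op) {s | EtShriek.sectSupp F U s ⊆ Z} := by
  intro s₁ hs₁ s₂ hs₂ h12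
  apply eq_of_germs
  intro p
  by_cases hp : p ∈ Z
  · obtain ⟨p', hp', rfl⟩ := hsurj hp
    obtain ⟨Ω, _, _, ξ, x₀, hx₀⟩ := exists_geometric_point U' p'
    refine ⟨Ω, _, _, ξ, (Scheme.pointSmallEtale ξ).fiber.map φ x₀, ?_, ?_⟩
    · rw [fiber_map_pt, hx₀]
    · rw [← germ_map, ← germ_map, h12]
  · obtain ⟨Ω, _, _, ξ, x₀, hx₀⟩ := exists_geometric_point U p
    refine ⟨Ω, _, _, ξ, x₀, hx₀, ?_⟩
    rw [germ_eq_zero_of_not_mem_supp F ξ s₁ x₀ (by rw [hx₀]; exact fun h => hp (hs₁ h)),
      germ_eq_zero_of_not_mem_supp F ξ s₂ x₀ (by rw [hx₀]; exact fun h => hp (hs₂ h))]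

set_option backward.isDefEq.respectTransparency.types false in
/-- the germ of `F(g) s'` vanishes at geometric points not mapping into `Z'` -/
lemma germ_restrict_eq_zero (s' : EtCoh.sect F U') (Z' : Set ↥U'.left)
    (hs' : EtShriek.sectSupp F U' s' ⊆ Z') {T : X.Etale} (g : T ⟶ U')
    {Ω : Type u} [Field Ω] [IsSepClosed Ω] (ξ : Spec (CommRingCat.of Ω) ⟶ X)
    (τ₀ : (Scheme.pointSmallEtale ξ).fiber.obj T)
    (h : g.left ((τ₀.left : Spec (CommRingCat.of Ω) ⟶ T.left)
      (default : Spec (CommRingCat.of Ω))) ∉ Z') :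
    (Scheme.pointSmallEtale ξ).toPresheafFiber T τ₀ F.obj (F.obj.map g.op s') = 0 := by
  rw [germ_map]
  apply germ_eq_zero_of_not_mem_supp
  rw [fiber_map_pt]
  exact fun h' => h (hs' h')

set_option backward.isDefEq.respectTransparency.types false in
lemma surjOn (hZ : IsClosed Z) (hbij : Set.BijOn φ.left.base (φ.left.base ⁻¹' Z) Z)
    (hres : ∀ x ∈ φ.left.base ⁻¹' Z, Function.Bijective (φ.left.residueFieldMap x)) :
    Set.SurjOn (F.obj.map φ.op) {s | EtShriek.sectSupp F U s ⊆ Z}
      {s' | EtShriek.sectSupp F U' s' ⊆ φ.left.base ⁻¹' Z} := by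
  intro s' hs'
  let Vo : U.left.Opens := ⟨Zᶜ, hZ.isOpen_compl⟩
  let V : X.Etale := MorphismProperty.Over.mk ⊤ (Vo.ι ≫ U.hom) inferInstance
  let ι : V ⟶ U := MorphismProperty.Over.homMk Vo.ι rfl trivial
  have hι : ∀ v : V.left, ι.left v ∉ Z := fun v => v.2
  have hφι : ∀ {T : X.Etale} (ga : T ⟶ U') (gb : T ⟶ V), ga ≫ φ = gb ≫ ι → ∀ τ : T.left,
      ga.left τ ∉ φ.left.base ⁻¹' Z := by
    intro T ga gb hab τ h
    have h1 : ga.left ≫ φ.left = gb.left ≫ ι.left := congrArg (fun m => m.left) hab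
    have h2 := congrArg (fun m : T.left ⟶ U.left => m τ) h1
    simp only [Scheme.Hom.comp_apply] at h2
    exact hι (gb.left τ) (h2 ▸ h)
  obtain ⟨s, hs1, hs2⟩ := exists_glue_binary' (F.obj ⋙ forget AddCommGrpCat.{u + 1})
    (isSheaf_forget F) φ ι
    (by
      intro p
      by_cases hp : p ∈ Z
      · obtain ⟨p', hp', hpp⟩ := hbij.surjOn hp
        exact Or.inl ⟨p', hpp⟩
      · exact Or.inr ⟨⟨p, hp⟩, rfl⟩)
    s' (0 : F.obj.obj (op V))
    (by
      intro T ga gb hab
      change F.obj.map ga.op s' = F.obj.map gb.op s'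
      apply eq_of_germs
      intro τ
      obtain ⟨Ω, _, _, ξ, τ₀, hτ₀⟩ := exists_geometric_point T τ
      refine ⟨Ω, _, _, ξ, τ₀, hτ₀, ?_⟩
      have h1 : ga.left ≫ φ.left = gb.left ≫ φ.left := congrArg (fun m => m.left) hab
      have h2 : φ.left (ga.left τ) = φ.left (gb.left τ) := by
        have := congrArg (fun m : T.left ⟶ U.left => m τ) h1
        simpa only [Scheme.Hom.comp_apply] using this
      by_cases hτ : ga.left τ ∈ φ.left.base ⁻¹' Z
      · have hτ' : gb.left τ ∈ φ.left.base ⁻¹' Z := by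
          change φ.left (gb.left τ) ∈ Z
          rw [← h2]; exact hτ
        have hpt : ga.left τ = gb.left τ := hbij.injOn hτ hτ' h2
        have hfib : (Scheme.pointSmallEtale ξ).fiber.map ga τ₀ =
            (Scheme.pointSmallEtale ξ).fiber.map gb τ₀ := by
          apply Over.OverMorphism.ext
          exact spec_comp_ext φ.left ga.left gb.left h1 (τ₀.left : Spec (CommRingCat.of Ω) ⟶ T.left)
            τ ((congrArg (τ₀.left : Spec (CommRingCat.of Ω) ⟶ T.left)
              (Subsingleton.elim (α := Spec (CommRingCat.of Ω)) _ _)).trans hτ₀) hpt (hres _ hτ).2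
        rw [germ_map, germ_map, hfib]
      · have hτ' : gb.left τ ∉ φ.left.base ⁻¹' Z := by
          change φ.left (gb.left τ) ∉ Z
          rw [← h2]; exact hτ
        rw [germ_restrict_eq_zero F s' _ hs' ga ξ τ₀ (by rw [hτ₀]; exact hτ),
          germ_restrict_eq_zero F s' _ hs' gb ξ τ₀ (by rw [hτ₀]; exact hτ')])
    (by
      intro T ga gb hab
      change F.obj.map ga.op s' = F.obj.map gb.op 0
      rw [map_zero]
      apply eq_of_germs
      intro τ
      obtain ⟨Ω, _, _, ξ, τ₀, hτ₀⟩ := exists_geometric_point T τ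
      refine ⟨Ω, _, _, ξ, τ₀, hτ₀, ?_⟩
      rw [germ_restrict_eq_zero F s' _ hs' ga ξ τ₀ (by rw [hτ₀]; exact hφι ga gb hab τ), map_zero])
    (by
      intro T ga gb hab
      change F.obj.map ga.op 0 = F.obj.map gb.op 0
      rw [map_zero, map_zero])
  refine ⟨s, ?_, hs1⟩
  intro x hx
  by_contra hxZ
  exact hx V ι ⟨⟨x, hxZ⟩, rfl⟩ hs2

end Parts

/-- In the case where the inverse image of Z is Z' (so that the bijection is restriction): let phi : U'
-> U be a morphism of the small etale site of X and Z a closed subset of U such that phi restricted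
to the inverse image Z' of Z is a bijection onto Z inducing isomorphisms of residue fields (so Z' ->
U is a closed immersion with image Z, for the reduced structures). Then restriction along phi is a
bijection from the sections of F over U supported in Z to the sections of F over U' supported in Z'. -/
theorem result {X : Scheme.{u}} (F : EtCoh.Ab X) {U U' : X.Etale}
    (φ : U' ⟶ U) (Z : Set ↥U.left) (hZ : IsClosed Z)
    (hbij : Set.BijOn φ.left.base (φ.left.base ⁻¹' Z) Z)
    (hres : ∀ x ∈ φ.left.base ⁻¹' Z, Function.Bijective (φ.left.residueFieldMap x)) :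
    Set.BijOn (F.obj.map φ.op) {s | EtShriek.sectSupp F U s ⊆ Z}
      {s' | EtShriek.sectSupp F U' s' ⊆ φ.left.base ⁻¹' Z} :=
  ⟨mapsTo F φ Z, injOn F φ Z hbij.surjOn, surjOn F φ Z hZ hbij hres⟩

end Groth.Agent.S0728
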