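import Groth.Statements.S0694
import Groth.Agent.Lib.Seat3WLoc
import Groth.Agent.Lib.Seat3IndZarRecog
-- import your own Groth.Agent.* helpers here

set_option autoImplicit false
open CategoryTheory CategoryTheory.Limits AlgebraicGeometry Opposite Topology
universe u
open ProEtW

namespace Groth.Agent.S0694

open Groth.Agent.Lib.Seat3.WLoc Groth.Agent.Lib.Seat3.IndZarRecog

/-- For every ring A there is a faithfully flat ind-Zariski A-algebra A_w whose spectrum is w-local, the
closed points of Spec A_w mapping bijectively onto Spec A. (Part (4), reducedness of the particular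
closed subscheme structure of the construction, is not stated.) -/
theorem result (A : Type u) [CommRing A] :
    ∃ (Aw : Type u) (_ : CommRing Aw) (_ : Algebra A Aw),
      Module.FaithfullyFlat A Aw ∧ EtPBC.IsIndZariski A Aw ∧ ProEtW.IsWLocal (PrimeSpectrum Aw) ∧
      Set.BijOn (PrimeSpectrum.comap (algebraMap A Aw)) (ProEtW.closedPoints (PrimeSpectrum Aw))
        Set.univ := by
  have hπ := PT.continuous_toPrime (A := A)
  have hW := isWLocal (PT.toPrime (A := A)) hπ PT.isOpen_preimage_zeroLocus
  exact ⟨Bw (PT.toPrime (A := A)), inferInstance, inferInstance,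
    faithfullyFlat _ hπ PT.toPrime_bijective.2,
    isIndZariski_of_identifiesLocalRings_of_isWLocal _ _ (identifiesLocalRings _ hπ) hW, hW,
    bijOn_closedPoints _ hπ PT.toPrime_bijective⟩

end Groth.Agent.S0694
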