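import Groth.Statements.S0705
import Groth.Agent.Lib.Seat3WLoc
import Groth.Agent.Lib.Seat3WLocQuot
import Groth.Agent.Lib.Seat3IndZarRecog
-- import your own Groth.Agent.* helpers here

set_option autoImplicit false
open CategoryTheory CategoryTheory.Limits AlgebraicGeometry Opposite Topology
universe u
open ProEtW

namespace Groth.Agent.S0705

open Groth.Agent.Lib.Seat3.WLoc Groth.Agent.Lib.Seat3.IndZarRecog

/-- Let I be an ideal of A such that V(I) is a profinite space. Then some ind-Zariski A-algebra B has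
w-local spectrum whose closed points are exactly V(IB), with A/I -> B/IB bijective. -/
theorem result (A : Type u) [CommRing A] (I : Ideal A)
    (hI : ProEtW.IsProfinite (PrimeSpectrum.zeroLocus (R := A) I)) :
    ∃ (B : Type u) (_ : CommRing B) (_ : Algebra A B),
      EtPBC.IsIndZariski A B ∧ ProEtW.IsWLocal (PrimeSpectrum B) ∧
      ProEtW.closedPoints (PrimeSpectrum B) = PrimeSpectrum.zeroLocus (I.map (algebraMap A B)) ∧
      Function.Bijective (Ideal.quotientMap (I.map (algebraMap A B)) (algebraMap A B)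
        Ideal.le_comap_map) := by
  obtain ⟨hc, ht2, htd⟩ := hI
  haveI := hc
  haveI := ht2
  haveI := htd
  let π : ↥(PrimeSpectrum.zeroLocus (R := A) (I : Set A)) → PrimeSpectrum A := Subtype.val
  have hπ : Continuous π := continuous_subtype_val
  have hclosedT : IsClosed (PrimeSpectrum.zeroLocus (R := A) (I : Set A)) :=
    PrimeSpectrum.isClosed_zeroLocus _
  have hcons : ∀ a : A, IsOpen (π ⁻¹' (PrimeSpectrum.zeroLocus {a} : Set (PrimeSpectrum A))) := by
    intro a
    have hK : IsCompact (π ⁻¹' (PrimeSpectrum.basicOpen a : Set (PrimeSpectrum A))) :=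
      hclosedT.isClosedEmbedding_subtypeVal.isCompact_preimage (PrimeSpectrum.isCompact_basicOpen a)
    have heq : π ⁻¹' (PrimeSpectrum.zeroLocus {a} : Set (PrimeSpectrum A)) =
        (π ⁻¹' (PrimeSpectrum.basicOpen a : Set (PrimeSpectrum A)))ᶜ := by
      ext t
      simp only [Set.mem_preimage, PrimeSpectrum.mem_zeroLocus, Set.singleton_subset_iff,
        SetLike.mem_coe, Set.mem_compl_iff, PrimeSpectrum.mem_basicOpen, not_not]
    rw [heq]
    exact hK.isClosed.isOpen_compl
  have hW := isWLocal π hπ hcons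
  have hmax : ∀ m : Ideal A, m.IsMaximal → I ≤ m → ∃ t, (π t).asIdeal = m :=
    fun m hm hIm => ⟨⟨⟨m, hm.isPrime⟩, hIm⟩, rfl⟩
  -- clopen subsets of `V(I)` come from idempotents of `A/I`
  have hsep : ∀ U : Set ↥(PrimeSpectrum.zeroLocus (R := A) (I : Set A)), IsClopen U →
      ∃ e : A, e * (1 - e) ∈ I ∧ (∀ t ∈ U, e ∉ (π t).asIdeal) ∧
        ∀ t ∉ U, (1 - e) ∉ (π t).asIdeal := by
    intro U hU
    have hmem : ∀ x : PrimeSpectrum (A ⧸ I),
        PrimeSpectrum.comap (Ideal.Quotient.mk I) x ∈ PrimeSpectrum.zeroLocus (R := A) (I : Set A) := by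
      intro x i hi
      show Ideal.Quotient.mk I i ∈ x.asIdeal
      rw [Ideal.Quotient.eq_zero_iff_mem.mpr hi]
      exact zero_mem _
    let κ : PrimeSpectrum (A ⧸ I) → ↥(PrimeSpectrum.zeroLocus (R := A) (I : Set A)) :=
      fun x => ⟨PrimeSpectrum.comap (Ideal.Quotient.mk I) x, hmem x⟩
    have hκ : Continuous κ := (PrimeSpectrum.continuous_comap (Ideal.Quotient.mk I)).subtype_mk _
    have hκs : Function.Surjective κ := by
      intro t
      have h1 : t.1 ∈ Set.range (PrimeSpectrum.comap (Ideal.Quotient.mk I)) := by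
        rw [_root_.range_comap_of_surjective _ _ Ideal.Quotient.mk_surjective, Ideal.mk_ker]
        exact t.2
      obtain ⟨x, hx⟩ := h1
      exact ⟨x, Subtype.ext hx⟩
    obtain ⟨eb, heb, hUe⟩ := PrimeSpectrum.isClopen_iff.mp (hU.preimage hκ)
    obtain ⟨e, rfl⟩ := Ideal.Quotient.mk_surjective eb
    refine ⟨e, ?_, ?_, ?_⟩
    · rw [← Ideal.Quotient.eq_zero_iff_mem, map_mul, map_sub, map_one, mul_sub, mul_one,
        heb.eq, sub_self]
    · intro t ht hmem'
      obtain ⟨x, rfl⟩ := hκs t
      have hx : x ∈ κ ⁻¹' U := ht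
      rw [hUe] at hx
      exact hx hmem'
    · intro t ht hmem'
      obtain ⟨x, rfl⟩ := hκs t
      have hx : x ∉ κ ⁻¹' U := ht
      rw [hUe] at hx
      have h1 : Ideal.Quotient.mk I e ∈ x.asIdeal := by
        by_contra h
        exact hx h
      have h2 : Ideal.Quotient.mk I (1 - e) ∈ x.asIdeal := hmem'
      have h3 : (1 : A ⧸ I) ∈ x.asIdeal := by
        have := x.asIdeal.add_mem h1 h2
        rwa [← map_add, add_sub_cancel, map_one] at this
      exact x.2.ne_top ((Ideal.eq_top_iff_one _).mpr h3)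
  refine ⟨Bw π, inferInstance, inferInstance,
    isIndZariski_of_identifiesLocalRings_of_isWLocal _ _ (identifiesLocalRings π hπ) hW, hW, ?_, ?_, ?_⟩
  · -- closed points
    ext y
    have h1 : y ∈ PrimeSpectrum.zeroLocus (R := Bw π) (I.map (algebraMap A (Bw π))) ↔
        I ≤ (psi π y).1.asIdeal := by
      rw [PrimeSpectrum.mem_zeroLocus, SetLike.coe_subset_coe, Ideal.map_le_iff_le_comap, psi_fst]
      rfl
    rw [h1]
    show IsClosed ({y} : Set (PrimeSpectrum (Bw π))) ↔ _
    rw [isClosed_singleton_iff π hπ]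
    constructor
    · intro h
      rw [h]
      exact (psi π y).2.2
    · intro h
      let p' : ↥(PrimeSpectrum.zeroLocus (R := A) (I : Set A)) := ⟨(psi π y).1, h⟩
      have hsp : p' ⤳ (psi π y).2 := by
        rw [subtype_specializes_iff]
        exact (PrimeSpectrum.le_iff_specializes _ _).mp (psi_le π hπ y)
      have := hsp.eq
      exact congrArg Subtype.val this
  · exact Ideal.quotientMap_injective' (comap_map_le π I hmax)
  · intro b'
    obtain ⟨b, rfl⟩ := Ideal.Quotient.mk_surjective b'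
    obtain ⟨a, ha⟩ := exists_sub_mem_map π I hmax hsep b
    exact ⟨Ideal.Quotient.mk I a, by rw [Ideal.quotientMap_mk]; exact Ideal.Quotient.eq.mpr ha⟩

end Groth.Agent.S0705
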