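import Groth.Statements.S0737
import Groth.Agent.S0705
import Groth.Agent.Lib.Seat3WLocal
import Groth.Agent.Lib.Helper10Spectral
import Groth.Agent.Lib.Helper10Pi0
-- import your own Groth.Agent.* helpers here

set_option autoImplicit false
open CategoryTheory CategoryTheory.Limits AlgebraicGeometry Opposite Topology
universe u
open ProEtW

namespace Groth.Agent.S0737

open Groth.Agent.Lib.Seat3.WLocal Groth.Agent.Lib.Helper10.Spectral Groth.Agent.Lib.Helper10.Pi0

/-- Under algebraic residue field extensions, a prime of `B` lying over a maximal ideal of `A` is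
maximal. -/
theorem isMaximal_of_comap_isMaximal {A B : Type u} [CommRing A] [CommRing B] [Algebra A B]
    (h : ProEtW.AlgebraicResidueExtensions A B) (q : Ideal B) [q.IsPrime]
    (hp : (q.comap (algebraMap A B)).IsMaximal) : q.IsMaximal := by
  haveI := h q
  letI : Field (A ⧸ q.comap (algebraMap A B)) := Ideal.Quotient.field _
  haveI : Algebra.IsIntegral (A ⧸ q.comap (algebraMap A B)) (B ⧸ q) :=
    Algebra.IsAlgebraic.isIntegral
  have hf : IsField (B ⧸ q) :=
    isField_of_isIntegral_of_isField' (R := A ⧸ q.comap (algebraMap A B))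
      (Field.toIsField (A ⧸ q.comap (algebraMap A B)))
  exact Ideal.Quotient.maximal_of_isField q hf

/-- Let Spec A be w-local with radical ideal I cutting out its closed points, and A -> B inducing
algebraic residue field extensions. Then (1) every point of V(IB) is closed in Spec B, and (2) there
is an ind-Zariski B-algebra C with B/IB -> C/IC bijective, Spec C w-local, Spec C -> Spec A w-local,
and closed points of Spec C exactly the points over closed points of Spec A. -/
theorem result (A B : Type u) [CommRing A]
    [CommRing B] [Algebra A B] (hA : ProEtW.IsWLocal (PrimeSpectrum A)) (I : Ideal A) (hI : I.IsRadical)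
    (hI0 : PrimeSpectrum.zeroLocus (R := A) I = ProEtW.closedPoints (PrimeSpectrum A))
    (h : ProEtW.AlgebraicResidueExtensions A B) :
    PrimeSpectrum.zeroLocus (R := B) (I.map (algebraMap A B)) ⊆ ProEtW.closedPoints (PrimeSpectrum B) ∧
    ∃ (C : Type u) (_ : CommRing C) (_ : Algebra B C) (_ : Algebra A C) (_ : IsScalarTower A B C),
      EtPBC.IsIndZariski B C ∧
      Function.Bijective (Ideal.quotientMap ((I.map (algebraMap A B)).map (algebraMap B C))
        (algebraMap B C) Ideal.le_comap_map) ∧
      ProEtW.IsWLocal (PrimeSpectrum C) ∧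
      ProEtW.IsWLocalMap (PrimeSpectrum.comap (algebraMap A C)) ∧
      ProEtW.closedPoints (PrimeSpectrum C) =
        PrimeSpectrum.comap (algebraMap A C) ⁻¹' ProEtW.closedPoints (PrimeSpectrum A) := by
  classical
  -- (1) points of `V(IB)` are closed
  have h1 : PrimeSpectrum.zeroLocus (R := B) (I.map (algebraMap A B)) ⊆
      ProEtW.closedPoints (PrimeSpectrum B) := by
    intro q hq
    show IsClosed ({q} : Set (PrimeSpectrum B))
    rw [PrimeSpectrum.isClosed_singleton_iff_isMaximal]
    have hIq : I ≤ q.asIdeal.comap (algebraMap A B) := by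
      rw [← Ideal.map_le_iff_le_comap]
      exact hq
    have hpcl : PrimeSpectrum.comap (algebraMap A B) q ∈ ProEtW.closedPoints (PrimeSpectrum A) := by
      rw [← hI0]
      exact hIq
    have hpmax : (q.asIdeal.comap (algebraMap A B)).IsMaximal :=
      (PrimeSpectrum.isClosed_singleton_iff_isMaximal _).mp hpcl
    exact isMaximal_of_comap_isMaximal h q.asIdeal hpmax
  refine ⟨h1, ?_⟩
  -- `V(IB)` is profinite
  have hclosed : IsClosed (PrimeSpectrum.zeroLocus (R := B) (I.map (algebraMap A B) : Set B)) :=
    PrimeSpectrum.isClosed_zeroLocus _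
  haveI hcomp : CompactSpace ↥(PrimeSpectrum.zeroLocus (R := B) (I.map (algebraMap A B) : Set B)) :=
    isCompact_iff_compactSpace.mp hclosed.isCompact
  haveI hspec : SpectralSpace ↥(PrimeSpectrum.zeroLocus (R := B) (I.map (algebraMap A B) : Set B)) :=
    spectralSpace_of_isClosed_constr (isClosed_constr_of_isClosed hclosed)
  haveI ht1 : T1Space ↥(PrimeSpectrum.zeroLocus (R := B) (I.map (algebraMap A B) : Set B)) := by
    rw [t1Space_iff_specializes_imp_eq]
    intro x y hxy
    rw [subtype_specializes_iff] at hxy
    have hx : IsClosed ({x.1} : Set (PrimeSpectrum B)) := h1 x.2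
    have := (isClosed_singleton_iff_forall_specializes.mp hx) y.1 hxy
    exact Subtype.ext this.symm
  haveI hts : TotallySeparatedSpace
      ↥(PrimeSpectrum.zeroLocus (R := B) (I.map (algebraMap A B) : Set B)) :=
    totallySeparatedSpace_of_t1
  have hprof : ProEtW.IsProfinite
      ↥(PrimeSpectrum.zeroLocus (R := B) (I.map (algebraMap A B) : Set B)) :=
    ⟨inferInstance, inferInstance, inferInstance⟩
  obtain ⟨C, _, _, hCind, hCw, hCcl, hCbij⟩ := Groth.Agent.S0705.result B (I.map (algebraMap A B)) hprof
  letI alg : Algebra A C := ((algebraMap B C).comp (algebraMap A B)).toAlgebra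
  haveI tower : IsScalarTower A B C := IsScalarTower.of_algebraMap_eq (fun _ => rfl)
  have hmem : ∀ y : PrimeSpectrum C,
      y ∈ PrimeSpectrum.zeroLocus (R := C) ((I.map (algebraMap A B)).map (algebraMap B C)) ↔
        PrimeSpectrum.comap (algebraMap A C) y ∈ ProEtW.closedPoints (PrimeSpectrum A) := by
    intro y
    rw [← hI0, PrimeSpectrum.mem_zeroLocus, PrimeSpectrum.mem_zeroLocus, SetLike.coe_subset_coe,
      SetLike.coe_subset_coe, Ideal.map_map, Ideal.map_le_iff_le_comap]
    rfl
  refine ⟨C, inferInstance, inferInstance, alg, tower, hCind, hCbij, hCw, ⟨?_, ?_⟩, ?_⟩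
  · exact (Spec.map (CommRingCat.ofHom (algebraMap A C))).isSpectralMap
  · intro y hy
    have hy' : y ∈ ProEtW.closedPoints (PrimeSpectrum C) := hy
    rw [hCcl, hmem] at hy'
    exact hy'
  · ext y
    rw [hCcl, hmem]
    rfl

end Groth.Agent.S0737
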