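import Groth.Statements.S2167
import Groth.Agent.Lib.Helper5CM2
import Groth.Agent.Lib.Helper5RLR3

set_option autoImplicit false
universe u
open LCI

namespace Groth.Agent.S2167

open RingTheory.Sequence

section Aux

variable {R : Type u} [CommRing R]

/-- The conormal module of `I` is generated (over `R ⧸ I`) by the classes of any generating set
of `I`. -/
theorem cotangent_spanFinrank_le (I : Ideal R) (s : Set R) (hs : s.Finite)
    (hI : Ideal.span s = I) :
    (⊤ : Submodule (R ⧸ I) I.Cotangent).spanFinrank ≤ s.ncard := by
  subst hI
  set I : Ideal R := Ideal.span s with hIdef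
  let t : Set I := ((↑) : I → R) ⁻¹' s
  have ht : Submodule.span R t = ⊤ := Submodule.span_span_coe_preimage
  have htfin : t.Finite := hs.preimage Subtype.val_injective.injOn
  have h2 : Submodule.span (R ⧸ I) (I.toCotangent '' t) = ⊤ := by
    rw [← Submodule.restrictScalars_eq_top_iff R,
      Submodule.restrictScalars_span _ _ Ideal.Quotient.mk_surjective, ← Submodule.map_span, ht,
      Submodule.map_top, Ideal.toCotangent_range]
  rw [← h2]
  refine (Submodule.spanFinrank_span_le_ncard_of_finite (htfin.image _)).trans ?_
  refine (Set.ncard_image_le htfin).trans ?_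
  have : t.ncard = (((↑) : I → R) '' t).ncard :=
    (Set.ncard_image_of_injective t Subtype.val_injective).symm
  rw [this]
  exact Set.ncard_le_ncard (by rintro _ ⟨x, hx, rfl⟩; exact hx) hs

/-- Nakayama: a finitely generated ideal contained in the Jacobson radical needs no more
generators than its conormal module. -/
theorem spanFinrank_le_cotangent (I : Ideal R) (hfg : I.FG) (hJ : I ≤ Ring.jacobson R) :
    I.spanFinrank ≤ (⊤ : Submodule (R ⧸ I) I.Cotangent).spanFinrank := by
  have : Module.Finite R I := Module.Finite.iff_fg.mpr hfg
  have : Module.Finite R I.Cotangent :=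
    Module.Finite.of_surjective I.toCotangent I.toCotangent_surjective
  have : Module.Finite (R ⧸ I) I.Cotangent := Module.Finite.of_restrictScalars_finite R _ _
  have fgtop : (⊤ : Submodule (R ⧸ I) I.Cotangent).FG := Module.Finite.fg_top
  obtain ⟨s, hs1, hs2⟩ := fgtop.exists_span_finset_card_eq_spanFinrank
  let t : Set I := Function.surjInv I.toCotangent_surjective '' (s : Set I.Cotangent)
  have ht1 : I.toCotangent '' t = (s : Set I.Cotangent) := by
    rw [← Set.image_comp, Function.comp_surjInv, Set.image_id]
  have htfin : t.Finite := s.finite_toSet.image _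
  have ht2 : Submodule.span R t = ⊤ := by
    rw [eq_top_iff]
    refine Submodule.le_of_le_smul_of_le_jacobson_bot (I := I) Module.Finite.fg_top
      (by rwa [← Ideal.jacobson_bot] at hJ) ?_
    intro x _
    have hx : I.toCotangent x ∈ Submodule.map I.toCotangent (Submodule.span R t) := by
      rw [Submodule.map_span, ht1, ← Submodule.restrictScalars_span R (R ⧸ I)
        Ideal.Quotient.mk_surjective, hs2]
      trivial
    obtain ⟨y, hy, hyx⟩ := hx
    have hker : x - y ∈ I • (⊤ : Submodule R I) := (Submodule.Quotient.eq _).1 hyx.symm
    have : x = y + (x - y) := by abel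
    rw [this]
    exact Submodule.add_mem_sup hy hker
  rw [← Submodule.spanFinrank_top, ← ht2, ← hs1]
  refine (Submodule.spanFinrank_span_le_ncard_of_finite htfin).trans ?_
  refine (Set.ncard_image_le s.finite_toSet).trans ?_
  rw [Set.ncard_coe_finset]

end Aux

/-- Equivalence of (2) and (3), special case with R already a regular local ring: for a regular local
ring R and a proper ideal I, the ideal I is generated by a regular sequence if and only if the
conormal module I/I^2 can be generated by (dim R - dim R/I) elements, the inequality below being the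
additive form of that count. -/
theorem result {R : Type u} [CommRing R] [IsRegularLocalRing R]
    (I : Ideal R) (hI : I ≠ ⊤) :
    (∃ rs : List R, Ideal.ofList rs = I ∧ RingTheory.Sequence.IsRegular R rs) ↔
      (((⊤ : Submodule (R ⧸ I) I.Cotangent).spanFinrank : WithBot ℕ∞) + ringKrullDim (R ⧸ I)
        ≤ ringKrullDim R) := by
  have hNoeth : IsNoetherianRing R := inferInstance
  have hCM : LocCoh.IsCohenMacaulayModule R R :=
    (Groth.Agent.Lib.Helper5.isCohenMacaulayLocalRing_of_isRegularLocalRing R).supportDim_eq_depth
  have hIm : I ≤ IsLocalRing.maximalIdeal R := IsLocalRing.le_maximalIdeal hI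
  -- key: regularity is detected by dimension
  have K : ∀ xs : List R, Ideal.ofList xs = I →
      (IsWeaklyRegular R xs ↔ ringKrullDim (R ⧸ I) + xs.length = ringKrullDim R) := by
    intro xs hxs
    have hmem : ∀ x ∈ xs, x ∈ IsLocalRing.maximalIdeal R := fun x hx =>
      hIm (hxs ▸ Ideal.subset_span hx)
    have h := (Groth.Agent.Lib.Helper5.isWeaklyRegular_iff_of_isCohenMacaulayModule xs R hCM hmem).1
    have htop : (Ideal.ofList xs • (⊤ : Submodule R R)) = I := by
      rw [hxs]
      exact Ideal.mul_top I
    rw [Module.supportDim_eq_of_equiv (Submodule.quotEquivOfEq _ _ htop),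
      Module.supportDim_quotient_eq_ringKrullDim, Module.supportDim_self_eq_ringKrullDim] at h
    exact h
  classical
  constructor
  · rintro ⟨rs, hrs, hreg⟩
    have hdim := (K rs hrs).1 hreg.toIsWeaklyRegular
    have hspan : (⊤ : Submodule (R ⧸ I) I.Cotangent).spanFinrank ≤ rs.length := by
      refine (cotangent_spanFinrank_le I {r | r ∈ rs} (List.finite_toSet rs) hrs).trans ?_
      have : {r | r ∈ rs} = (rs.toFinset : Set R) := by ext; simp
      rw [this, Set.ncard_coe_finset]
      exact List.toFinset_card_le rs
    rw [← hdim, add_comm]
    have : ((⊤ : Submodule (R ⧸ I) I.Cotangent).spanFinrank : WithBot ℕ∞) ≤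
        ((rs.length : ℕ) : WithBot ℕ∞) := by exact_mod_cast hspan
    exact add_le_add le_rfl this
  · intro h
    have hJ : I ≤ Ring.jacobson R := by
      rw [IsLocalRing.ringJacobson_eq_maximalIdeal]; exact hIm
    have hfg : I.FG := IsNoetherian.noetherian I
    have h1 := spanFinrank_le_cotangent I hfg hJ
    obtain ⟨s, hs1, hs2⟩ := Submodule.FG.exists_span_finset_card_eq_spanFinrank (p := I) hfg
    have hkrull := ringKrullDim_le_ringKrullDim_quotient_add_spanFinrank I hJ
    have hof : Ideal.ofList s.toList = I := by
      rw [← hs2]
      have : {r | r ∈ s.toList} = (s : Set R) := by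
        ext x
        simp
      change Ideal.span {r | r ∈ s.toList} = _
      rw [this]
    refine ⟨s.toList, hof, ?_⟩
    · refine ⟨(K s.toList hof).2 ?_, ?_⟩
      · rw [Finset.length_toList, hs1]
        refine le_antisymm ?_ hkrull
        refine le_trans ?_ h
        rw [add_comm]
        gcongr
      · rw [hof]
        intro htop
        apply hI
        have : (I • (⊤ : Submodule R R)) = I := Ideal.mul_top I
        rw [this] at htop
        exact htop.symm

end Groth.Agent.S2167
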