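import Groth.Statements.S9758
import Groth.Agent.S9287
import Groth.Agent.Lib.Seat31LciBridge

set_option autoImplicit false
universe u
open FlatMor

namespace Groth.Agent.S9758

open AlgebraicGeometry CategoryTheory Limits in
/-- A morphism of schemes f : X ⟶ S is flat and a local complete intersection morphism (Koszul at every
point) if and only if it is syntomic. -/
theorem result {X S : Scheme.{u}} (f : X ⟶ S) :
    (Flat f ∧ ∀ x : X, Synt.IsKoszulAt f x) ↔ Synt.IsSyntomicMor f := by
  classical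
  have hsrc : RingHom.StableUnderCompositionWithLocalizationAwaySource RingHom.Flat :=
    (RingHom.Flat.stableUnderComposition.stableUnderCompositionWithLocalizationAway
      RingHom.Flat.holdsForLocalizationAway).left
  rw [Groth.Agent.Lib.Seat31.LciHom.forall_isKoszulAt_iff_lciM]
  constructor
  · rintro ⟨hfl, hlci⟩ x
    obtain ⟨V, hV, hxV, -⟩ := TopologicalSpace.Opens.isBasis_iff_nbhd.mp S.isBasis_affineOpens
      (TopologicalSpace.Opens.mem_top (f x))
    obtain ⟨U, hU, hxU, hUV⟩ := TopologicalSpace.Opens.isBasis_iff_nbhd.mp X.isBasis_affineOpens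
      (show x ∈ f ⁻¹ᵁ V from hxV)
    refine ⟨⟨U, hU⟩, ⟨V, hV⟩, hUV, hxU, ?_⟩
    have h1 : Groth.Agent.Lib.Seat31.LciHom.LciH (f.appLE V U hUV).hom :=
      (HasRingHomProperty.iff_appLE (P := Groth.Agent.Lib.Seat31.LciHom.LciM)).1 hlci
        ⟨V, hV⟩ ⟨U, hU⟩ hUV
    have h2 : (f.appLE V U hUV).hom.Flat :=
      (HasRingHomProperty.iff_appLE (P := @Flat)).1 hfl ⟨V, hV⟩ ⟨U, hU⟩ hUV
    letI := (f.appLE V U hUV).hom.toAlgebra
    exact (Groth.Agent.S9287.result _ _).2 ⟨h2, h1⟩
  · intro h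
    constructor
    · rw [HasRingHomProperty.iff_exists_appLE (P := @Flat) hsrc]
      intro x
      obtain ⟨U, V, e, hx, hsyn⟩ := h x
      refine ⟨V, U, hx, e, ?_⟩
      letI := (f.appLE V.1 U.1 e).hom.toAlgebra
      exact ((Groth.Agent.S9287.result _ _).1 hsyn).1
    · rw [Groth.Agent.Lib.Seat31.LciHom.lciM_iff_exists]
      intro x
      obtain ⟨U, V, e, hx, hsyn⟩ := h x
      refine ⟨V, U, hx, e, ?_⟩
      letI := (f.appLE V.1 U.1 e).hom.toAlgebra
      exact ((Groth.Agent.S9287.result _ _).1 hsyn).2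

end Groth.Agent.S9758
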