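import Groth.Statements.S10546
import Mathlib
import Groth.Agent.Lib.Helper12DiagBaseLocal
import Groth.Agent.S9927
import Groth.Agent.S9928

set_option autoImplicit false
universe u
open CategoryTheory CategoryTheory.Limits AlgebraicGeometry
open AlgSp

namespace Groth.Agent.S10546

variable {S : Scheme.{u}}

/-- a morphism of sheaves that is representable by isomorphisms of schemes is an isomorphism. -/
lemma isIso_of_repWith_isomorphisms {F G : AlgSp.Sp S} (f : F ⟶ G)
    (h : AlgSp.RepWith (MorphismProperty.isomorphisms Scheme.{u}) f) : IsIso f := by
  have h1 : AlgSp.RepWith @IsOpenImmersion f := by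
    refine ⟨h.1, fun T W g pr w sq => ?_⟩
    have : IsIso w.left := h.2 g pr w sq
    change IsOpenImmersion w.left
    infer_instance
  have h2 : AlgSp.RepWith @Surjective f := by
    refine ⟨h.1, fun T W g pr w sq => ?_⟩
    have : IsIso w.left := h.2 g pr w sq
    change Surjective w.left
    infer_instance
  have h3 : AlgSp.RepWith @Etale f := by
    refine ⟨h.1, fun T W g pr w sq => ?_⟩
    have : IsIso w.left := h.2 g pr w sq
    change Etale w.left
    infer_instance
  have : Mono f := Groth.Agent.S9928.mono_of_repWith @IsOpenImmersion
    (fun X Y g hg => by have : IsOpenImmersion g := hg; infer_instance) f h1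
  have : Epi f := Groth.Agent.S9927.epi_of_repWith f h3 h2
  exact isIso_of_mono_of_epi f

/-- an isomorphism of sheaves is representable by isomorphisms of schemes. -/
lemma repWith_isomorphisms_of_isIso {F G : AlgSp.Sp S} (f : F ⟶ G) [IsIso f] :
    AlgSp.RepWith (MorphismProperty.isomorphisms Scheme.{u}) f := by
  refine ⟨?_, fun T W g pr w sq => ?_⟩
  · exact (AlgSp.Representable (S := S)).of_isIso f
  · have : IsIso ((AlgSp.yon S).map w) := by
      exact (MorphismProperty.isomorphisms (AlgSp.Sp S)).of_isPullback sq
        (MorphismProperty.isomorphisms.infer_property f)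
    have : IsIso w := isIso_of_fully_faithful (AlgSp.yon S) w
    change IsIso ((Over.forget S).map w)
    infer_instance

/-- The property of morphisms of algebraic spaces over S given by f is a monomorphism (of fppf sheaves,
equivalently of algebraic spaces) is fpqc local on the base: for an fpqc covering of an algebraic
space Y by algebraic spaces Y_i, a morphism f : X ⟶ Y of algebraic spaces and cartesian squares X_i
= Y_i ×_Y X, f has the property if and only if every X_i ⟶ Y_i has it. -/
theorem result (S : Scheme.{u}) :
    AlgSp.IsLocalOnBase (AlgSp.IsFpqcCover (S := S)) (MorphismProperty.monomorphisms (AlgSp.Sp S)) := by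
  intro ι Y Yi g hY hYi hcov X f hX Xi p q hXi sq
  constructor
  · intro hf i
    have : Mono f := hf
    exact (MorphismProperty.monomorphisms (AlgSp.Sp S)).of_isPullback (sq i) hf
  · intro H
    have H' : ∀ i, AlgSp.RepWith (MorphismProperty.isomorphisms Scheme.{u})
        (pullback.diagonal (p i)) := by
      intro i
      have : Mono (p i) := H i
      have : IsIso (pullback.diagonal (p i)) := (pullback.isIso_diagonal_iff (p i)).2 inferInstance
      exact repWith_isomorphisms_of_isIso _
    have key := Groth.Agent.Lib.Helper12.DiagBaseLocal.repWith_diagonal_of_fpqcCover_base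
      (MorphismProperty.isomorphisms Scheme.{u}) Yi g hcov.2 hX.diag f Xi p q sq H'
    have := isIso_of_repWith_isomorphisms _ key
    exact (pullback.isIso_diagonal_iff f).1 inferInstance

end Groth.Agent.S10546
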