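import Groth.Statements.S10531
import Mathlib
import Groth.Agent.S10546
import Groth.Agent.S10544
import Groth.Agent.S10261

set_option autoImplicit false
universe u
open CategoryTheory CategoryTheory.Limits AlgebraicGeometry
open AlgSp

namespace Groth.Agent.S10531

variable {S : Scheme.{u}}

/-- a morphism representable by open immersions is étale in the sense of `AlgSp.IsEtaleMor`. -/
lemma isEtaleMor_of_repWith_isOpenImmersion {F G : AlgSp.Sp S} (f : F ⟶ G)
    (h : AlgSp.RepWith @IsOpenImmersion f) : AlgSp.IsEtaleMor f := by
  have h3 : AlgSp.RepWith @Etale f := by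
    refine ⟨h.1, fun T W g pr w sq => ?_⟩
    have : IsOpenImmersion w.left := h.2 g pr w sq
    change Etale w.left
    infer_instance
  intro U φ hφ
  exact (AlgSp.RepWith @Etale).comp_mem _ _ hφ h3

/-- The property of morphisms of algebraic spaces over S given by f is an open immersion (representable
by open immersions of schemes) is fpqc local on the base: for an fpqc covering of an algebraic space
Y by algebraic spaces Y_i, a morphism f : X ⟶ Y of algebraic spaces and cartesian squares X_i = Y_i
×_Y X, f has the property if and only if every X_i ⟶ Y_i has it. -/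
theorem result (S : Scheme.{u}) :
    AlgSp.IsLocalOnBase (AlgSp.IsFpqcCover (S := S)) (AlgSp.RepWith @IsOpenImmersion) := by
  intro ι Y Yi g hY hYi hcov X f hX Xi p q hXi sq
  constructor
  · intro hf i
    exact (AlgSp.RepWith @IsOpenImmersion).of_isPullback (sq i) hf
  · intro H
    have hmono : Mono f := by
      refine ((Groth.Agent.S10546.result S) Yi g hY hYi hcov f hX Xi p q hXi sq).2 (fun i => ?_)
      exact Groth.Agent.S9928.mono_of_repWith @IsOpenImmersion
        (fun X Y g hg => by have : IsOpenImmersion g := hg; infer_instance) (p i) (H i)
    have het : AlgSp.IsEtaleMor f := by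
      refine ((Groth.Agent.S10544.result S) Yi g hY hYi hcov f hX Xi p q hXi sq).2 (fun i => ?_)
      exact isEtaleMor_of_repWith_isOpenImmersion (p i) (H i)
    exact Groth.Agent.S10261.repWith_isOpenImmersion_of_mono hX f het

end Groth.Agent.S10531
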