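import Groth.Statements.S10448
import Groth.Agent.Lib.Seat45Charts
import Groth.Agent.Lib.Seat45EtDim
import Groth.Agent.Lib.Helper10IntDim
import Groth.Agent.S10175
-- import your own Groth.Agent.* helpers here

set_option autoImplicit false
universe u
open CategoryTheory CategoryTheory.Limits AlgebraicGeometry Topology TopologicalSpace
open AlgSp

namespace Groth.Agent.S10448

variable {S : Scheme.{u}}

/-- Points of a fibre product `h_W = X ×_Y h_Z` represented by a scheme `W`. -/
lemma exists_point_of_isPullback_right {X Y : AlgSp.Sp S} {f : X ⟶ Y} {Z W : Over S}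
    {g : (AlgSp.yon S).obj Z ⟶ Y} {i : W ⟶ Z} {fst : (AlgSp.yon S).obj W ⟶ X}
    (sq : IsPullback fst ((AlgSp.yon S).map i) f g) (x : AlgSp.Points X) (z : ↥Z.left)
    (e : AlgSp.Points.map f x = AlgSp.Points.ofPt g z) :
    ∃ w : ↥W.left, AlgSp.Points.ofPt fst w = x ∧ i.left w = z := by
  rw [AlgSp.Points.ofPt_eq_map_ofScheme g] at e
  obtain ⟨p, hp1, hp2⟩ := Groth.Agent.S10175.exists_point_of_isPullback sq x _ e
  obtain ⟨w, rfl⟩ := (AlgSp.Points.schemeHomeo W).surjective p
  refine ⟨w, ?_, ?_⟩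
  · rw [AlgSp.Points.ofPt_eq_map_ofScheme]
    exact hp1
  · apply (AlgSp.Points.schemeHomeo Z).injective
    rw [← AlgSp.Points.map_yon_map_apply]
    exact hp2

/-- Every point of a scheme over `S` has an affine open neighbourhood, as a scheme over `S`. -/
lemma exists_affine_nbhd (V : Over S) (v : ↥V.left) :
    ∃ (V' : Over S) (j : V' ⟶ V) (v' : ↥V'.left), IsAffine V'.left ∧ IsOpenImmersion j.left ∧
      j.left v' = v := by
  obtain ⟨_, ⟨O, hO, rfl⟩, hvO, -⟩ :=
    V.left.isBasis_affineOpens.exists_subset_of_mem_open (Set.mem_univ v) isOpen_univ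
  refine ⟨Over.mk (Scheme.Opens.ι O ≫ V.hom), Over.homMk (Scheme.Opens.ι O) rfl, ⟨v, hvO⟩, hO, ?_, rfl⟩
  change IsOpenImmersion (Scheme.Opens.ι O)
  infer_instance

/-- For an integral morphism f : X ⟶ Y of algebraic spaces over a scheme S, the dimension of X is at
most the dimension of Y. -/
theorem result {S : Scheme.{u}} {X Y : AlgSp.Space S} (f : X ⟶ Y)
    (hf : AlgSp.IsIntegralMor f.hom) : AlgSp.dim X.obj ≤ AlgSp.dim Y.obj := by
  open Groth.Agent.Lib.Seat45.Charts Groth.Agent.Lib.Seat45.EtDim in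
  refine dim_le fun U a ha => ?_
  rw [topologicalKrullDim_eq_iSup_ringKrullDim_stalk]
  refine iSup_le fun u => ?_
  -- chart of `Y` at the image point, affine
  obtain ⟨V, b, v, hb, hv⟩ := exists_chart Y.property (AlgSp.Points.map f.hom (AlgSp.Points.ofPt a u))
  obtain ⟨V', j, v', hV', hj, hjv⟩ := exists_affine_nbhd V v
  have hje : Etale j.left := inferInstance
  have hg : AlgSp.RepWith @Etale ((AlgSp.yon S).map j ≫ b) := repWith_etale_comp j b hb
  obtain ⟨W, i, fst, sq, hW, hi⟩ := hf hV' ((AlgSp.yon S).map j ≫ b)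
  have hfst : AlgSp.RepWith @Etale fst :=
    (AlgSp.repWith_isStableUnderBaseChange @Etale).of_isPullback sq.flip hg
  obtain ⟨w, hw1, hw2⟩ := exists_point_of_isPullback_right sq (AlgSp.Points.ofPt a u) v' (by
    rw [← hv, Groth.Agent.S10176.ofPt_map_comp, hjv])
  obtain ⟨W', p, q, w', hp, hq, hw'1, hw'2, -⟩ := exists_common_chart a fst ha hfst u w hw1.symm
  rw [← hw'1, ← ringKrullDim_stalk_eq_of_etale p.left w', ringKrullDim_stalk_eq_of_etale q.left w']
  have h1 : ringKrullDim ↥(W.left.presheaf.stalk (q.left w')) ≤ topologicalKrullDim ↥W.left := by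
    rw [topologicalKrullDim_eq_iSup_ringKrullDim_stalk]
    exact le_iSup (fun w => ringKrullDim ↥(W.left.presheaf.stalk w)) (q.left w')
  have h2 : topologicalKrullDim ↥W.left ≤ topologicalKrullDim ↥V'.left :=
    (Groth.Agent.Lib.Helper10.IntDim.main9683 i.left).1
  exact h1.trans (h2.trans (le_dim _ hg))

end Groth.Agent.S10448
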