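import Groth.Statements.S10532
import Mathlib
import Groth.Agent.S10531
import Groth.Agent.S10194
import Groth.Agent.S9906
import Groth.Agent.Lib.Helper12TopDescent

set_option autoImplicit false
universe u
open CategoryTheory CategoryTheory.Limits AlgebraicGeometry
open AlgSp

namespace Groth.Agent.S10532

variable {S : Scheme.{u}}

/-- an isomorphism of sheaves is bijective on points. -/
lemma surjective_points_of_isIso {F G : AlgSp.Sp S} (f : F ⟶ G) [IsIso f] :
    Function.Surjective (AlgSp.Points.map f) := by
  intro y
  refine ⟨AlgSp.Points.map (inv f) y, ?_⟩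
  rw [← AlgSp.Points.map_comp, IsIso.inv_hom_id, AlgSp.Points.map_id]

/-- an isomorphism of sheaves is universally surjective on points. -/
lemma univSp_surjective_of_isIso {F G : AlgSp.Sp S} (f : F ⟶ G) [IsIso f] :
    AlgSp.UnivSp (fun _ _ f => Function.Surjective (AlgSp.Points.map f)) f := by
  intro Z Z' hZ g fst snd sq
  have : IsIso snd := (MorphismProperty.isomorphisms (AlgSp.Sp S)).of_isPullback sq
    (MorphismProperty.isomorphisms.infer_property f)
  exact surjective_points_of_isIso snd

/-- The property of morphisms of algebraic spaces over S given by f is an isomorphism is fpqc local on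
the base: for an fpqc covering of an algebraic space Y by algebraic spaces Y_i, a morphism f : X ⟶ Y
of algebraic spaces and cartesian squares X_i = Y_i ×_Y X, f has the property if and only if every
X_i ⟶ Y_i has it. -/
theorem result (S : Scheme.{u}) :
    AlgSp.IsLocalOnBase (AlgSp.IsFpqcCover (S := S)) (MorphismProperty.isomorphisms (AlgSp.Sp S)) := by
  intro ι Y Yi g hY hYi hcov X f hX Xi p q hXi sq
  constructor
  · intro hf i
    exact (MorphismProperty.isomorphisms (AlgSp.Sp S)).of_isPullback (sq i) hf
  · intro H
    have hopen : AlgSp.RepWith @IsOpenImmersion f := by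
      refine ((Groth.Agent.S10531.result S) Yi g hY hYi hcov f hX Xi p q hXi sq).2 (fun i => ?_)
      have : IsIso (p i) := H i
      have h0 := Groth.Agent.S10546.repWith_isomorphisms_of_isIso (p i)
      refine ⟨h0.1, fun T W g pr w sq => ?_⟩
      have : IsIso w.left := h0.2 g pr w sq
      change IsOpenImmersion w.left
      infer_instance
    have huniv : AlgSp.UnivSp (fun _ _ f => Function.Surjective (AlgSp.Points.map f)) f := by
      refine ((Groth.Agent.Lib.Helper12.TopDescent.isLocalOnBase_fpqc_univSp
        (fun {A B} _ _ φ => Function.Surjective φ) (fun D hc h => D.surjective h))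
        Yi g hY hYi hcov f hX Xi p q hXi sq).2 (fun i => ?_)
      have : IsIso (p i) := H i
      exact univSp_surjective_of_isIso (p i)
    have hs : Function.Surjective (AlgSp.Points.map f) := by
      have := huniv hY (𝟙 Y) (𝟙 X) f (IsPullback.of_horiz_isIso ⟨by simp⟩)
      exact this
    have h2 : AlgSp.RepWith @Surjective f :=
      Groth.Agent.S9906.repWith_surjective_of_surjective_map _ hopen.1 hs
    exact Groth.Agent.S10194.isIso_of_repWith_openImmersion_surjective f hopen h2

end Groth.Agent.S10532
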