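import Groth.Statements.S9974
import Groth.Agent.Lib.Seat43QcTrace
import Groth.Agent.Lib.Helper12Proper
-- import your own Groth.Agent.* helpers here

set_option autoImplicit false
universe u
open CategoryTheory CategoryTheory.Limits AlgebraicGeometry
open AlgSp

namespace Groth.Agent.S9974

/-- For a flat morphism of algebraic spaces, the scheme theoretic image of a quasi-compact morphism
pulls back to the scheme theoretic image of the pulled-back morphism. -/
theorem result {S : Scheme.{u}} {X Y V Z VX ZX : AlgSp.Space S} (f : X ⟶ Y)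
    (hf : AlgSp.LocP @Flat f.hom) (g : V ⟶ Y) (hg : AlgSp.IsQuasiCompactMor g.hom) (i : Z ⟶ Y)
    (hZ : AlgSp.IsSchImage g.hom i.hom) (g₁ : VX ⟶ V) (gX : VX ⟶ X) (sqV : IsPullback g₁.hom gX.hom g.hom f.hom)
    (i₁ : ZX ⟶ Z) (iX : ZX ⟶ X) (sqZ : IsPullback i₁.hom iX.hom i.hom f.hom) :
    AlgSp.IsSchImage gX.hom iX.hom := by
  open Groth.Agent.Lib.Seat43.SubSp Groth.Agent.Lib.Seat43.MonoFactor
    Groth.Agent.Lib.Seat43.SchImage Groth.Agent.Lib.Seat43.QcImage Groth.Agent.Lib.Seat43.QcImage2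
    Groth.Agent.Lib.Seat43.QcChart Groth.Agent.Lib.Seat43.QcTrace in
  refine ⟨?_, ?_, ?_⟩
  · exact (AlgSp.repWith_isStableUnderBaseChange (S := S) @IsClosedImmersion).of_isPullback sqZ hZ.1
  · obtain ⟨g', hg'⟩ := hZ.2.1
    exact ⟨sqZ.lift (g₁.hom ≫ g') gX.hom (by rw [Category.assoc, hg', sqV.w]), sqZ.lift_snd _ _ _⟩
  · intro Z' i' hZ' hi' hf'
    obtain ⟨f'', hf''⟩ := hf'
    have : Mono i' := Groth.Agent.S9928.mono_of_repWith @IsClosedImmersion
      (fun _ _ g hg => by have := hg; infer_instance) i' hi'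
    have hqX : AlgSp.IsQuasiCompactMor gX.hom :=
      Groth.Agent.Lib.Helper12.Proper.isQuasiCompactMor_baseChange sqV hg
    obtain ⟨A, pA, PA, fstA, sndA, UA, cA, φA, hpe, hps, sqA, hce, hcs, hφ, hqcφ⟩ :=
      exists_qc_chart gX hqX
    have hiX : AlgSp.RepWith @IsClosedImmersion iX.hom :=
      (AlgSp.repWith_isStableUnderBaseChange (S := S) @IsClosedImmersion).of_isPullback sqZ hZ.1
    obtain ⟨A₁, ι₁, q₁, sq₁⟩ := hiX.1 pA
    obtain ⟨A₂, ι₂, q₂, sq₂⟩ := hi'.1 pA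
    have : IsClosedImmersion ι₂.left := hi'.2 _ _ ι₂ sq₂
    have hb : AlgSp.LocP @Flat (pA ≫ f.hom) := by
      intro U V a b h ha hb hcomm
      exact hf (a ≫ pA) b h
        ((AlgSp.repWith_isMultiplicative (S := S) @Etale).comp_mem _ _ ha hpe) hb
        (by rw [Category.assoc]; exact hcomm)
    have big : IsPullback (fstA ≫ g₁.hom) sndA g.hom (pA ≫ f.hom) :=
      (sqA.flip.paste_vert sqV.flip).flip
    have bigZ : IsPullback (q₁ ≫ i₁.hom) ((AlgSp.yon S).map ι₁) i.hom (pA ≫ f.hom) :=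
      (sq₁.flip.paste_vert sqZ.flip).flip
    have hk : ι₁.left.ker = φA.left.ker :=
      ker_trace_eq g hg i hZ (pA ≫ f.hom) hb big cA hce hcs φA hφ ι₁ (q₁ ≫ i₁.hom) bigZ
    -- `φA` factors through the trace of `Z'`
    obtain ⟨w', hw'⟩ := (AlgSp.yon S).map_surjective
      (sq₂.lift (cA ≫ fstA ≫ f'') ((AlgSp.yon S).map φA)
        (by rw [Category.assoc, Category.assoc, hf'', sqA.w, ← Category.assoc, hφ]))
    have hw'φ : w' ≫ ι₂ = φA := by
      apply (AlgSp.yon S).map_injective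
      rw [Functor.map_comp, hw', sq₂.lift_snd]
    have hker : ι₂.left.ker ≤ ι₁.left.ker := by
      rw [hk, ← hw'φ]; exact ker_le_ker_comp w'.left ι₂.left
    obtain ⟨l, hl⟩ := (factors_closedImm_iff ι₂ ι₁).2 hker
    exact factors_of_trace iX.hom i' pA hpe hps ι₁ ι₂ q₁ q₂ sq₁ sq₂.w l hl

end Groth.Agent.S9974
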