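import Groth.Statements.S9979
import Groth.Agent.Lib.Seat43QcTrace
import Groth.Agent.Lib.Seat43ValImage
import Groth.Agent.Lib.Helper12SrcLocal
-- import your own Groth.Agent.* helpers here

set_option autoImplicit false
universe u
open CategoryTheory CategoryTheory.Limits AlgebraicGeometry
open AlgSp

namespace Groth.Agent.S9979

/-- Every point of the scheme theoretic image of a quasi-compact morphism is reached by a valuation ring
whose generic point lifts to the source. -/
theorem result {S : Scheme.{u}} {X Y Z : AlgSp.Space S} (f : X ⟶ Y) (i : Z ⟶ Y)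
    (hq : AlgSp.IsQuasiCompactMor f.hom) (hZ : AlgSp.IsSchImage f.hom i.hom) (z : AlgSp.Points Z.obj) :
    ∃ (A : Type u) (_ : CommRing A) (_ : IsDomain A) (_ : ValuationRing A) (str : Spec (CommRingCat.of A) ⟶ S)
      (a : (AlgSp.yon S).obj (Over.mk str) ⟶ Z.obj)
      (x : (AlgSp.yon S).obj (Over.mk (Spec.map (CommRingCat.ofHom (algebraMap A (FractionRing A))) ≫ str)) ⟶ X.obj),
      AlgSp.Points.ofPt a (IsLocalRing.closedPoint A) = z ∧
      x ≫ f.hom = (AlgSp.yon S).map (Over.homMk (Spec.map (CommRingCat.ofHom (algebraMap A (FractionRing A)))) rfl) ≫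
        a ≫ i.hom := by
  open Groth.Agent.Lib.Seat43.SubSp Groth.Agent.Lib.Seat43.MonoFactor
    Groth.Agent.Lib.Seat43.SchImage Groth.Agent.Lib.Seat43.QcImage Groth.Agent.Lib.Seat43.QcImage2
    Groth.Agent.Lib.Seat43.QcChart Groth.Agent.Lib.Seat43.QcTrace
    Groth.Agent.Lib.Seat43.ValImage in
  obtain ⟨V, p, P, fst, snd, U, c, φ, hpe, hps, sq, hce, hcs, hφ, hqcφ⟩ := exists_qc_chart f hq
  obtain ⟨Zo, ι, prZ, sqZ⟩ := hZ.1.1 p
  have : IsClosedImmersion ι.left := hZ.1.2 _ _ ι sqZ
  have hb : AlgSp.LocP @Flat p := by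
    intro U' W a c' h ha hc hcomm
    have : Etale h.left := Groth.Agent.Lib.Helper12.SrcLocal.etale_of_chart_comp c' (a ≫ p) h hc
      ((AlgSp.repWith_isMultiplicative (S := S) @Etale).comp_mem _ _ ha hpe) hcomm.symm
    infer_instance
  have hk : ι.left.ker = φ.left.ker :=
    ker_trace_eq f hq i hZ p hb sq c hce hcs φ hφ ι prZ sqZ
  have hprs : AlgSp.RepWith @Surjective prZ :=
    (AlgSp.repWith_isStableUnderBaseChange (S := S) @Surjective).of_isPullback sqZ.flip hps
  obtain ⟨zo, rfl⟩ := Groth.Agent.S10177.surjective_ofPt prZ hprs z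
  have hv : ι.left zo ∈ (φ.left.ker.support : Set ↥V.left) := by
    rw [← hk]; exact ι.left.range_subset_ker_support ⟨zo, rfl⟩
  obtain ⟨A, iA, iD, iV, α, β, hα, hβ⟩ := exists_valuationRing_of_mem_support φ.left _ hv
  let str : Spec (CommRingCat.of A) ⟶ S := α ≫ V.hom
  let TA : Over S := Over.mk str
  let αO : TA ⟶ V := Over.homMk α rfl
  let TK : Over S := Over.mk (Spec.map (CommRingCat.ofHom (algebraMap A (FractionRing A))) ≫ str)
  let jK : TK ⟶ TA := Over.homMk (Spec.map (CommRingCat.ofHom (algebraMap A (FractionRing A)))) rfl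
  let βO : TK ⟶ U := Over.homMk β (by
    show β ≫ U.hom = Spec.map (CommRingCat.ofHom (algebraMap A (FractionRing A))) ≫ α ≫ V.hom
    rw [← Over.w φ, ← Category.assoc, hβ, Category.assoc])
  have hcomm : βO ≫ φ = jK ≫ αO := by
    apply Over.OverMorphism.ext
    exact hβ
  have hj : (Spec.map (CommRingCat.ofHom (algebraMap A (FractionRing A)))).ker = ⊥ :=
    ker_Spec_map_eq_bot _ (IsFractionRing.injective A (FractionRing A))
  have hker : ι.left.ker ≤ αO.left.ker := by
    rw [hk]
    have h1 : (Spec.map (CommRingCat.ofHom (algebraMap A (FractionRing A))) ≫ α).ker = α.ker := by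
      have : IsSchemeTheoreticallyDominant
        (Spec.map (CommRingCat.ofHom (algebraMap A (FractionRing A)))) := ⟨hj⟩
      exact Groth.Agent.Lib.Helper12.ker_comp_of_dominant _ _
    show φ.left.ker ≤ α.ker
    rw [← h1, ← hβ]
    exact ker_le_ker_comp β φ.left
  obtain ⟨lift, hlift⟩ := (factors_closedImm_iff ι αO).2 hker
  refine ⟨A, iA, iD, iV, str, (AlgSp.yon S).map lift ≫ prZ, (AlgSp.yon S).map βO ≫ c ≫ fst, ?_, ?_⟩
  · rw [Groth.Agent.S10176.ofPt_map_comp]
    congr 1
    apply ι.left.isEmbedding.injective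
    have h2 : ι.left (lift.left (IsLocalRing.closedPoint A)) = α (IsLocalRing.closedPoint A) := by
      rw [← Scheme.Hom.comp_apply]
      have : lift.left ≫ ι.left = α := congrArg (fun m => m.left) hlift
      rw [this]
    rw [h2, hα]
  · have e1 : ((AlgSp.yon S).map βO ≫ c ≫ fst) ≫ f.hom = (AlgSp.yon S).map (jK ≫ αO) ≫ p := by
      rw [← hcomm, Functor.map_comp, Category.assoc, Category.assoc, Category.assoc, sq.w,
        ← Category.assoc c, hφ]
    have e2 : (AlgSp.yon S).map jK ≫ ((AlgSp.yon S).map lift ≫ prZ) ≫ i.hom =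
        (AlgSp.yon S).map (jK ≫ αO) ≫ p := by
      rw [← hlift, Functor.map_comp, Functor.map_comp, Category.assoc, Category.assoc,
        Category.assoc, sqZ.w]
    exact e1.trans e2.symm

end Groth.Agent.S9979
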