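import Groth.Statements.S10533
import Mathlib
import Groth.Agent.Lib.Seat46AffDescent
import Groth.Agent.Lib.Seat44MorBasics
import Groth.Agent.S9874

set_option autoImplicit false
universe u
open CategoryTheory CategoryTheory.Limits AlgebraicGeometry
open AlgSp

namespace Groth.Agent.S10533

/-- The property of morphisms of algebraic spaces over S given by f is affine (every base change to an
affine scheme is an affine scheme) is fpqc local on the base: for an fpqc covering of an algebraic
space Y by algebraic spaces Y_i, a morphism f : X ⟶ Y of algebraic spaces and cartesian squares X_i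
= Y_i ×_Y X, f has the property if and only if every X_i ⟶ Y_i has it. -/
theorem result (S : Scheme.{u}) :
    AlgSp.IsLocalOnBase (AlgSp.IsFpqcCover (S := S)) AlgSp.IsAffineMor := by
  intro ι Y Yi g hY hYi hcov X f hX Xi p q hXi sq
  constructor
  · intro hf i
    exact Groth.Agent.Lib.Seat44.MorBasics.isAffineMor_of_isPullback (sq i) hf
  · intro H Z hZ h
    -- the base change of `f` to `Z`
    have hF : AlgSp.IsAlgSpace (pullback f h) :=
      Groth.Agent.S9874.isAlgSpace_of_isPullback hY.diag hX (AlgSp.IsAlgSpace.yon_obj Z)
        (IsPullback.of_hasPullback f h)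
    obtain ⟨m, W, c, hW, hfl, hsurj, hl⟩ := hcov.2 Z hZ h
    choose i l hl using hl
    choose V v fstV sqV hV using fun j => H (i j) (hW j) (l j)
    -- the squares over `Z`
    have hw : ∀ j, (fstV j ≫ q (i j)) ≫ f = ((AlgSp.yon S).map (v j) ≫ (AlgSp.yon S).map (c j)) ≫ h := by
      intro j
      rw [Category.assoc, (sq (i j)).w, ← Category.assoc, (sqV j).w, Category.assoc, hl,
        Category.assoc]
    have sqF : ∀ j, IsPullback (pullback.lift _ _ (hw j)) ((AlgSp.yon S).map (v j))
        (pullback.snd f h) ((AlgSp.yon S).map (c j)) := by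
      intro j
      have big : IsPullback (fstV j ≫ q (i j)) ((AlgSp.yon S).map (v j)) f
          ((AlgSp.yon S).map (c j) ≫ h) := by
        rw [← hl]
        exact (sqV j).paste_horiz (sq (i j))
      refine IsPullback.of_right ?_ (pullback.lift_snd _ _ _) (IsPullback.of_hasPullback f h)
      rw [pullback.lift_fst]
      exact big
    obtain ⟨T, i₀, φ, hT, hφ, hφi⟩ := Groth.Agent.Lib.Seat46.AffDescent.exists_affine_rep hZ hF
      (pullback.snd f h) W c hW hfl hsurj V v _ hV sqF
    refine ⟨T, i₀, inv φ ≫ pullback.fst f h, ?_, hT⟩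
    have e : inv φ ≫ pullback.snd f h = (AlgSp.yon S).map i₀ := by
      rw [← hφi, IsIso.inv_hom_id_assoc]
    exact IsPullback.of_iso (IsPullback.of_hasPullback f h) (asIso φ) (Iso.refl _) (Iso.refl _)
      (Iso.refl _) (by simp) (by simp [hφi]) (by simp) (by simp)

end Groth.Agent.S10533
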