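import Groth.Statements.S9943
import Groth.Agent.Lib.Helper12LocPCases
import Groth.Agent.S10505
import Groth.Agent.S10533
import Groth.Agent.S9947
import Groth.Agent.S9906
import Groth.Agent.S9874
-- import your own Groth.Agent.* helpers here

set_option autoImplicit false
universe u
open CategoryTheory CategoryTheory.Limits AlgebraicGeometry
open AlgSp

namespace Groth.Agent.S9943

/-- (4) ⇒ (2): being affine descends along a surjective etale base change from a scheme. -/
theorem result {S : Scheme.{u}} {X Y : AlgSp.Space S} (f : X ⟶ Y) (V : Over S)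
    (p : (AlgSp.yon S).obj V ⟶ Y.obj) (hp : AlgSp.RepWith @Etale p) (hps : AlgSp.RepWith @Surjective p)
    {P : AlgSp.Sp S} (fst : P ⟶ X.obj) (snd : P ⟶ (AlgSp.yon S).obj V) (sq : IsPullback fst snd f.hom p)
    (h : AlgSp.IsAffineMor snd) : AlgSp.IsAffineMor f.hom := by
  have hgood := Groth.Agent.Lib.Helper12.LocPCases.good_flat.{u}
  have hgood' := Groth.Agent.Lib.Helper12.LocPCases.good_lfp.{u}
  let UU : AlgSp.Space S := ⟨(AlgSp.yon S).obj V, AlgSp.IsAlgSpace.yon_obj V⟩
  let pp : UU ⟶ Y := ObjectProperty.homMk p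
  have hP : AlgSp.IsAlgSpace P :=
    Groth.Agent.S9874.isAlgSpace_of_isPullback Y.property.diag X.property
      (AlgSp.IsAlgSpace.yon_obj V) sq
  have hpcov : AlgSp.IsFpqcCover (fun _ : PUnit.{u + 1} => UU.obj) (fun _ => pp.hom) := by
    refine Groth.Agent.S10505.result Y (fun _ : PUnit.{u + 1} => UU) (fun _ => pp)
      ⟨fun _ => ⟨?_, ?_⟩, ?_⟩
    · exact Groth.Agent.S9947.locP_of_repWith_etale _ hgood.hEt p hp
    · exact Groth.Agent.S9947.locP_of_repWith_etale _ hgood'.hEt p hp
    · intro x
      exact ⟨PUnit.unit, Groth.Agent.S9906.surjective_map_of_repWith p hps x⟩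
  exact ((Groth.Agent.S10533.result S) (fun _ : PUnit.{u + 1} => UU.obj) (fun _ => pp.hom)
    Y.property (fun _ => UU.property) hpcov f.hom X.property (fun _ => P) (fun _ => snd)
    (fun _ => fst) (fun _ => hP) (fun _ => sq)).2 (fun _ => h)

end Groth.Agent.S9943
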