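import Groth.Statements.S10004
import Groth.Agent.S10092
import Groth.Agent.Lib.Helper12ZarGlue
import Groth.Agent.Lib.Seat44AffLim

set_option autoImplicit false
universe u
open CategoryTheory CategoryTheory.Limits AlgebraicGeometry
open AlgSp

namespace Groth.Agent.S10004

/-- A sheaf with an affine morphism to an algebraic space is an algebraic space. -/
theorem isAlgSpace_of_isAffineMor {S : Scheme.{u}} {F X : AlgSp.Sp S} (hX : AlgSp.IsAlgSpace X) (f : F ⟶ X)
    (hf : AlgSp.IsAffineMor f) : AlgSp.IsAlgSpace F := by
  have hrep : AlgSp.RepWith @IsAffineHom f :=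
    Groth.Agent.Lib.Helper12.ZarGlue.repWith_of_affine @IsAffineHom f (fun Z hZ g => by
      obtain ⟨W, i, fst, sq, hW⟩ := hf hZ g
      haveI := hZ
      haveI := hW
      exact ⟨W, i, fst, sq, inferInstance⟩)
  refine Groth.Agent.S10092.isAlgSpace_of_fibres hX f (fun T c => ?_)
  have sq := hrep.rep.isPullback c
  have e : (AlgSp.yon S).obj (hrep.rep.pullback c) ≅ pullback f c :=
    sq.isoPullback
  exact (AlgSp.IsAlgSpace.yon_obj _).of_iso e

/-- Let `(X_i)` be a cofiltered system of algebraic spaces over `S` (indexed by a small cofiltered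
category, e.g. a directed inverse system) with affine transition morphisms, and let `X` be a limit
of the system in the category of fppf sheaves of sets over `S`. Then `X` is an algebraic space over
`S` and each projection `X ⟶ X_i` is affine. (The published statement also asserts that for `T ⟶
X_i` the fibre product `X ×_{X_i} T` is the limit of the `X_{i'} ×_{X_i} T`; this row omits that
formal clause.) -/
theorem result (S : Scheme.{u}) {I : Type u} [SmallCategory I] [IsCofiltered I]
    (D : I ⥤ AlgSp.Sp S) (hD : ∀ i, AlgSp.IsAlgSpace (D.obj i))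
    (hDa : ∀ (i j : I) (φ : i ⟶ j), AlgSp.IsAffineMor (D.map φ))
    (c : Cone D) (hc : IsLimit c) :
    AlgSp.IsAlgSpace c.pt ∧ ∀ i, AlgSp.IsAffineMor (c.π.app i) := by
  have haff : ∀ i, AlgSp.IsAffineMor (c.π.app i) := fun i =>
    Groth.Agent.Lib.Seat44.AffLim.isAffineMor_π D hDa c hc i
  obtain ⟨i₀⟩ := IsCofiltered.nonempty (C := I)
  exact ⟨isAlgSpace_of_isAffineMor (hD i₀) (c.π.app i₀) (haff i₀), haff⟩

end Groth.Agent.S10004
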