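import Groth.Statements.S10015
import Groth.Agent.Lib.Seat44LimChart
import Groth.Agent.Lib.Seat44LimConstr
import Groth.Agent.S10180
import Groth.Agent.S9920
import Groth.Agent.S9906
import Groth.Agent.S10177
import Groth.Agent.Lib.Helper15QcRep

set_option autoImplicit false
set_option backward.isDefEq.respectTransparency false
set_option backward.isDefEq.respectTransparency.types false
universe u
open CategoryTheory CategoryTheory.Limits AlgebraicGeometry
open AlgSp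

namespace Groth.Agent.S10015

open Groth.Agent.Lib.Seat44 Groth.Agent.Lib.Seat44.AffLim Groth.Agent.Lib.Seat44.LimChart

variable {S : Scheme.{u}}

/-- a scheme whose sheaf is quasi-compact is quasi-compact. -/
lemma compactSpace_of_isQuasiCompactSp_yon {U : Over S}
    (h : AlgSp.IsQuasiCompactSp ((AlgSp.yon S).obj U)) : CompactSpace U.left := by
  obtain ⟨T, p, _, hps, hT⟩ := h
  obtain ⟨p', rfl⟩ := (AlgSp.yon S).map_surjective p
  haveI : Surjective p'.left := (AlgSp.repWith_yon_map_iff _ _).1 hps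
  haveI : CompactSpace T.left := hT
  exact p'.left.surjective.compactSpace p'.left.continuous

/-- Let `S` be a quasi-separated scheme and `B` the limit, in fppf sheaves over `S`, of a cofiltered
system `(B_i)` of algebraic spaces over `S` whose transition maps are affine; fix an index `i₀` such
that `B_{i₀}` is quasi-compact and quasi-separated over `S`, and a morphism `f₀ : X₀ ⟶ Y₀` of
algebraic spaces over `B_{i₀}` whose source and target are quasi-compact and quasi-separated over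
`S`. Write `f_i` (for `i` mapping to `i₀`) and `f` for the base changes of `f₀` to `B_i` and to `B`,
given by pullback squares. If `f` is surjective and `f₀` locally of finite presentation, then for
some `i` mapping to `i₀` every such base change `f_i` is surjective. (The published statement allows
any base scheme and uses absolute quasi-separatedness; this row assumes the base quasi-separated,
over which quasi-separatedness relative to the base is the absolute notion.) -/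
theorem result (S : Scheme.{u}) [QuasiSeparatedSpace S] {I : Type u} [SmallCategory I] [IsCofiltered I]
    (D : I ⥤ AlgSp.Sp S) (hD : ∀ i, AlgSp.IsAlgSpace (D.obj i))
    (hDa : ∀ (i j : I) (φ : i ⟶ j), AlgSp.IsAffineMor (D.map φ))
    (c : Cone D) (hc : IsLimit c) (i₀ : I)
    (hBqc : AlgSp.IsQuasiCompactSp (D.obj i₀)) (hBqs : AlgSp.IsQuasiSeparatedSp (D.obj i₀))
    (X₀ Y₀ : AlgSp.Space S) (f₀ : X₀.obj ⟶ Y₀.obj) (b₀ : Y₀.obj ⟶ D.obj i₀)
    (hXqc : AlgSp.IsQuasiCompactSp X₀.obj) (hXqs : AlgSp.IsQuasiSeparatedSp X₀.obj)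
    (hYqc : AlgSp.IsQuasiCompactSp Y₀.obj) (hYqs : AlgSp.IsQuasiSeparatedSp Y₀.obj)
    (X Y : AlgSp.Sp S) (f : X ⟶ Y) (pY : Y ⟶ Y₀.obj) (qY : Y ⟶ c.pt)
    (hY : IsPullback pY qY b₀ (c.π.app i₀)) (pX : X ⟶ X₀.obj) (hX : IsPullback pX f f₀ pY)
    (hf : AlgSp.IsSurjectiveMor f) (hf₀ : AlgSp.LocP @LocallyOfFinitePresentation f₀) :
    ∃ (i : I) (φ : i ⟶ i₀), ∀ (Xi Yi : AlgSp.Sp S) (fi : Xi ⟶ Yi) (pYi : Yi ⟶ Y₀.obj) (qYi : Yi ⟶ D.obj i)
      (_ : IsPullback pYi qYi b₀ (D.map φ)) (pXi : Xi ⟶ X₀.obj) (_ : IsPullback pXi fi f₀ pYi),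
      AlgSp.IsSurjectiveMor fi := by
  -- charts
  obtain ⟨V₀, v, hV₀, hve, hvs⟩ := Groth.Agent.S10180.exists_affine_chart hYqc
  obtain ⟨U₀', u', hU₀', hue, hus⟩ := Groth.Agent.S10180.exists_affine_chart hXqc
  obtain ⟨U₀, pU, fstU, sqU⟩ := hve.1 (u' ≫ f₀)
  obtain ⟨h₀, rfl⟩ := (AlgSp.yon S).map_surjective fstU
  haveI : Etale pU.left := hve.2 _ _ _ sqU
  have hpU : RepWith @Etale ((yon S).map pU) := (repWith_yon_map_iff _ _).2 inferInstance
  haveI hlfp : LocallyOfFinitePresentation h₀.left :=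
    hf₀ ((yon S).map pU ≫ u') v h₀ ((RepWith @Etale).comp_mem _ _ hpU hue) hve
      (by rw [Category.assoc, sqU.w])
  -- `U₀` is quasi-compact
  have hqcv : IsQuasiCompactMor v := by
    let VV : Space S := ⟨(yon S).obj V₀, IsAlgSpace.yon_obj V₀⟩
    let vv : VV ⟶ Y₀ := ObjectProperty.homMk v
    exact Groth.Agent.S9920.result vv
      (Groth.Agent.Lib.Helper15QcRep.isQuasiCompactSp_yon V₀ hV₀) hYqs
  haveI : CompactSpace U₀.left := compactSpace_of_isQuasiCompactSp_yon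
    (hqcv (IsAlgSpace.yon_obj U₀') (Groth.Agent.Lib.Helper15QcRep.isQuasiCompactSp_yon U₀' hU₀')
      (u' ≫ f₀) _ _ sqU)
  haveI : IsAffine V₀.left := hV₀
  haveI : QuasiCompact h₀.left := inferInstance
  -- the system `W_j = V₀ ×_{B_{i₀}} B_j`
  obtain ⟨cW, hcW, fstW, hcWaff, ⟨hlimW⟩, sqW⟩ := exists_chart_data D hDa c hc i₀ hV₀ (v ≫ b₀)
  haveI : ∀ j, IsAffine ((W D hDa i₀ hV₀ (v ≫ b₀) ⋙ Over.forget S).obj j) :=
    fun j => Waff D hDa i₀ hV₀ (v ≫ b₀) j
  haveI : ∀ {j j' : Over i₀} (ψ : j ⟶ j'),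
      IsAffineHom ((W D hDa i₀ hV₀ (v ≫ b₀) ⋙ Over.forget S).map ψ) := fun ψ => inferInstance
  haveI : ∀ j, CompactSpace ↥((W D hDa i₀ hV₀ (v ≫ b₀) ⋙ Over.forget S).obj j) :=
    fun j => inferInstance
  haveI : ∀ j, QuasiSeparatedSpace ↥((W D hDa i₀ hV₀ (v ≫ b₀) ⋙ Over.forget S).obj j) :=
    fun j => inferInstance
  -- the limit maps into the image of `h₀`
  have hrange : Set.range (((Over.forget S).mapCone cW).π.app (Over.mk (𝟙 i₀)) ≫
      (ιNat D hDa i₀ hV₀ (v ≫ b₀)).app (Over.mk (𝟙 i₀))) ⊆ Set.range h₀.left := by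
    rintro _ ⟨t, rfl⟩
    let j₀ : Over i₀ := Over.mk (𝟙 i₀)
    let iinf : cW.pt ⟶ V₀ := cW.π.app j₀ ≫ Wι D hDa i₀ hV₀ (v ≫ b₀) j₀
    have hcomm : ((yon S).map iinf ≫ v) ≫ b₀ = fstW ≫ c.π.app i₀ := by
      have h1 := (sqW j₀).w
      have h2 := (Wsq D hDa i₀ hV₀ (v ≫ b₀) j₀).w
      have h3 : D.map j₀.hom = 𝟙 _ := D.map_id i₀
      rw [h3, Category.comp_id] at h2
      rw [Functor.map_comp, Category.assoc, Category.assoc, ← h2, h1]
      rfl
    let vY : (yon S).obj cW.pt ⟶ Y := hY.lift ((yon S).map iinf ≫ v) fstW hcomm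
    obtain ⟨x, hx⟩ := hf (Points.ofPt vY t)
    obtain ⟨w, hw⟩ := Groth.Agent.S10177.surjective_ofPt u' hus (Points.map pX x)
    have e : Points.ofPt v (iinf.left t) = Points.ofPt (u' ≫ f₀) w := by
      rw [← Points.map_ofPt, hw, ← Points.map_comp, hX.w, Points.map_comp, hx, Points.map_ofPt,
        hY.lift_fst, Groth.Agent.S10176.ofPt_map_comp]
    obtain ⟨y', hy1, hy2⟩ := Groth.Agent.S10176.exists_point_of_isPullback_yon sqU _ _ e
    exact ⟨y', hy1⟩
  obtain ⟨j, _, hj⟩ := LimConstr.exists_range_subset_range (W D hDa i₀ hV₀ (v ≫ b₀) ⋙ Over.forget S)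
    ((Over.forget S).mapCone cW) hlimW (ιNat D hDa i₀ hV₀ (v ≫ b₀)) h₀.left (Over.mk (𝟙 i₀)) hrange
  refine ⟨j.left, j.hom, ?_⟩
  intro Xi Yi fi pYi qYi sqY pXi sqX y
  -- the chart `W_j ⟶ Y_i`
  have hcomm : ((yon S).map (Wι D hDa i₀ hV₀ (v ≫ b₀) j) ≫ v) ≫ b₀ =
      Wfst D hDa i₀ hV₀ (v ≫ b₀) j ≫ D.map j.hom := by
    rw [Category.assoc]
    exact (Wsq D hDa i₀ hV₀ (v ≫ b₀) j).w.symm
  let wY : (yon S).obj (Wobj D hDa i₀ hV₀ (v ≫ b₀) j) ⟶ Yi :=
    sqY.lift ((yon S).map (Wι D hDa i₀ hV₀ (v ≫ b₀) j) ≫ v) (Wfst D hDa i₀ hV₀ (v ≫ b₀) j) hcomm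
  have sqwY : IsPullback wY ((yon S).map (Wι D hDa i₀ hV₀ (v ≫ b₀) j)) pYi v := by
    refine IsPullback.of_right ?_ (sqY.lift_fst _ _ _) sqY.flip
    rw [sqY.lift_snd]
    exact Wsq D hDa i₀ hV₀ (v ≫ b₀) j
  have hwY : RepWith @Surjective wY := (RepWith @Surjective).of_isPullback sqwY.flip hvs
  obtain ⟨t, ht⟩ := Groth.Agent.S10177.surjective_ofPt wY hwY y
  obtain ⟨u, hu⟩ := hj ⟨t, rfl⟩
  have hu' : h₀.left u = (Wι D hDa i₀ hV₀ (v ≫ b₀) j).left t := hu
  have e : Points.map f₀ (Points.ofPt ((yon S).map pU ≫ u') u) = Points.map pYi y := by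
    rw [Points.map_ofPt, Category.assoc, ← sqU.w, Groth.Agent.S10176.ofPt_map_comp, hu',
      ← Groth.Agent.S10176.ofPt_map_comp, ← sqY.lift_fst _ _ hcomm, ← Points.map_ofPt, ht]
  obtain ⟨p, -, hp2⟩ := Groth.Agent.S10175.exists_point_of_isPullback sqX _ _ e
  exact ⟨p, hp2⟩

end Groth.Agent.S10015
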