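import Groth.Statements.S10116
import Groth.Agent.S9902
import Groth.Agent.S9912
import Groth.Agent.Lib.Seat44GrpDiag

set_option autoImplicit false
universe u
open CategoryTheory CategoryTheory.Limits AlgebraicGeometry MonoidalCategory MonObj
open AlgSp

namespace Groth.Agent.S10116

open Groth.Agent.Lib.Seat44.GrpDiag

/-- Let `G` be a group algebraic space over an algebraic space `B` with unit `e : B ⟶ G`. Then `G ⟶ B`
is separated if and only if `e` is a closed immersion, quasi-separated if and only if `e` is
quasi-compact, and if `G ⟶ B` is locally separated then `e` is an immersion. (The published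
statement makes the last part an equivalence as well; this row states only that a locally separated
`G ⟶ B` has `e` an immersion.) -/
theorem result (S : Scheme.{u}) (B : AlgSp.Sp S) (hB : AlgSp.IsAlgSpace B)
    (G : Over B) [GrpObj G] (hG : AlgSp.IsAlgSpace G.left) :
    (AlgSp.IsSeparatedMor G.hom ↔ AlgSp.RepWith @IsClosedImmersion (η[G]).left) ∧
      (AlgSp.IsQuasiSeparatedMor G.hom ↔ AlgSp.IsQuasiCompactMor (η[G]).left) ∧
      (AlgSp.IsLocallySeparatedMor G.hom → AlgSp.RepWith @IsImmersion (η[G]).left) := by
  have hsec : (η[G]).left ≫ G.hom = 𝟙 B := unit_left_comp_hom G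
  have sq := isPullback_diagonal_unit_left G
  let GS : AlgSp.Space S := ⟨G.left, hG⟩
  let BS : AlgSp.Space S := ⟨B, hB⟩
  let f : GS ⟶ BS := ObjectProperty.homMk G.hom
  let e : BS ⟶ GS := ObjectProperty.homMk (η[G]).left
  have hrep : AlgSp.Representable (η[G]).left :=
    (S9902.result f e (by ext1; exact hsec)).1
  have hqc := S9912.result e hrep
  refine ⟨⟨fun h => S9902.of_section (AlgSp.RepWith _) G.hom _ hsec h,
    fun h => MorphismProperty.of_isPullback (P := AlgSp.RepWith @IsClosedImmersion) sq.flip h⟩,
    ⟨fun h => hqc.1 (S9902.of_section (AlgSp.RepWith _) G.hom _ hsec h),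
    fun h => MorphismProperty.of_isPullback (P := AlgSp.RepWith @QuasiCompact) sq.flip (hqc.2 h)⟩,
    fun h => S9902.of_section (AlgSp.RepWith _) G.hom _ hsec h⟩

end Groth.Agent.S10116
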