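import Groth.Statements.S10127
import Groth.Agent.S10116
import Groth.Agent.S10362
import Groth.Agent.Lib.Seat44FieldClosed
import Groth.Agent.Lib.Helper12Descent

set_option autoImplicit false
universe u
open CategoryTheory CategoryTheory.Limits AlgebraicGeometry MonoidalCategory MonObj
open AlgSp

namespace Groth.Agent.S10127

open Groth.Agent.Lib.Seat44.GrpDiag

/-- `RepWith P f` can be checked on the base change of `f` to an étale atlas of the target, for `P` stable
under base change and descending along fppf covers. -/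
theorem repWith_of_atlas {S : Scheme.{u}} (P : MorphismProperty Scheme.{u}) [P.IsStableUnderBaseChange]
    [P.DescendsAlong (@Surjective ⊓ @Flat ⊓ @LocallyOfFinitePresentation)]
    {X Y : AlgSp.Sp S} (f : X ⟶ Y) (hf : AlgSp.Representable f)
    {V XV : Over S} (q : (AlgSp.yon S).obj V ⟶ Y) (hq : AlgSp.RepWith @Etale q)
    (hqs : AlgSp.RepWith @Surjective q)
    (i0 : XV ⟶ V) (b'' : (AlgSp.yon S).obj XV ⟶ X)
    (sqXV : IsPullback b'' ((AlgSp.yon S).map i0) f q) (hi0 : P i0.left) :
    AlgSp.RepWith P f := by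
  refine ⟨hf, fun T W g pr w sq => ?_⟩
  obtain ⟨TV, t, tV', sqT⟩ := hq.1 g
  obtain ⟨tV, rfl⟩ := (AlgSp.yon S).map_surjective tV'
  haveI : Etale t.left := hq.2 _ _ t sqT
  haveI : Surjective t.left := hqs.2 _ _ t sqT
  have sqW : IsPullback ((AlgSp.yon S).map (pullback.fst w t))
      ((AlgSp.yon S).map (pullback.snd w t)) ((AlgSp.yon S).map w) ((AlgSp.yon S).map t) :=
    (IsPullback.of_hasPullback w t).map (AlgSp.yon S)
  have big1 := sqW.paste_horiz sq
  rw [← sqT.w] at big1
  obtain ⟨m, hm⟩ : ∃ m : (AlgSp.yon S).obj (pullback w t) ⟶ (AlgSp.yon S).obj XV,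
      m = sqXV.lift ((AlgSp.yon S).map (pullback.fst w t) ≫ pr)
        ((AlgSp.yon S).map (pullback.snd w t) ≫ (AlgSp.yon S).map tV) big1.w := ⟨_, rfl⟩
  have hm1 : m ≫ b'' = (AlgSp.yon S).map (pullback.fst w t) ≫ pr := by rw [hm, sqXV.lift_fst]
  have hm2 : m ≫ (AlgSp.yon S).map i0 =
      (AlgSp.yon S).map (pullback.snd w t) ≫ (AlgSp.yon S).map tV := by
    rw [hm, sqXV.lift_snd]
  have left : IsPullback m ((AlgSp.yon S).map (pullback.snd w t)) ((AlgSp.yon S).map i0)
      ((AlgSp.yon S).map tV) := by
    refine IsPullback.of_right ?_ hm2 sqXV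
    rw [hm1]
    exact big1
  have h1 : P (pullback.snd w t).left :=
    (AlgSp.repWith_yon_map_iff P _).1
      (MorphismProperty.of_isPullback (P := AlgSp.RepWith P) left
        ((AlgSp.repWith_yon_map_iff P _).2 hi0))
  have hsq : IsPullback (pullback.fst w t).left (pullback.snd w t).left w.left t.left :=
    (IsPullback.of_hasPullback w t).map (Over.forget S)
  have htQ : (@Surjective ⊓ @Flat ⊓ @LocallyOfFinitePresentation : MorphismProperty Scheme.{u})
      t.left := ⟨⟨inferInstance, inferInstance⟩, inferInstance⟩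
  exact MorphismProperty.of_isPullback_of_descendsAlong (P := P)
    (Q := @Surjective ⊓ @Flat ⊓ @LocallyOfFinitePresentation) hsq.flip htQ h1

/-- A sheaf whose structure morphism to a terminal sheaf is separated is separated. -/
theorem isSeparatedSp_of_isSeparatedMor_terminal {S : Scheme.{u}} {X T : AlgSp.Sp S} (hT : IsTerminal T)
    (f : X ⟶ T) (h : AlgSp.IsSeparatedMor f) : AlgSp.IsSeparatedSp X := by
  obtain ⟨e, he⟩ : ∃ e : pullback f f ≅ X ⨯ X,
      e.hom = prod.lift (pullback.fst f f) (pullback.snd f f) :=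
    ⟨{ hom := prod.lift (pullback.fst f f) (pullback.snd f f)
       inv := pullback.lift prod.fst prod.snd (hT.hom_ext _ _)
       hom_inv_id := by
        apply pullback.hom_ext
        · rw [Category.assoc, pullback.lift_fst, prod.lift_fst, Category.id_comp]
        · rw [Category.assoc, pullback.lift_snd, prod.lift_snd, Category.id_comp]
       inv_hom_id := by
        apply Limits.prod.hom_ext
        · rw [Category.assoc, prod.lift_fst, pullback.lift_fst, Category.id_comp]
        · rw [Category.assoc, prod.lift_snd, pullback.lift_snd, Category.id_comp] }, rfl⟩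
  have h1 : Limits.diag X = pullback.diagonal f ≫ e.hom := by
    rw [he]
    apply Limits.prod.hom_ext
    · rw [Category.assoc, prod.lift_fst, prod.lift_fst, pullback.diagonal_fst]
    · rw [Category.assoc, prod.lift_snd, prod.lift_snd, pullback.diagonal_snd]
  unfold AlgSp.IsSeparatedSp
  rw [h1]
  exact (MorphismProperty.cancel_right_of_respectsIso (AlgSp.RepWith @IsClosedImmersion) _ e.hom).2 h

/-- A group algebraic space over a field `k` which is a decent algebraic space is separated. (The
published situation allows any base scheme `S` with `k` a field over `S`; this row takes `S = Spec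
k`.) -/
theorem result (k : Type u) [Field k]
    (G : Over ((AlgSp.yon (Spec (CommRingCat.of k))).obj (Over.mk (𝟙 _)))) [GrpObj G]
    (hG : AlgSp.IsAlgSpace G.left) (hd : AlgSp.IsDecent G.left) : AlgSp.IsSeparatedSp G.left := by
  have hT : AlgSp.IsAlgSpace ((AlgSp.yon (Spec (CommRingCat.of k))).obj (Over.mk (𝟙 _))) :=
    AlgSp.IsAlgSpace.yon_obj _
  have hterm : IsTerminal ((AlgSp.yon (Spec (CommRingCat.of k))).obj (Over.mk (𝟙 _))) :=
    IsTerminal.isTerminalObj (AlgSp.yon (Spec (CommRingCat.of k))) _ Over.mkIdTerminal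
  refine isSeparatedSp_of_isSeparatedMor_terminal hterm G.hom ?_
  rw [(Groth.Agent.S10116.result _ _ hT G hG).1]
  have hsec : (η[G]).left ≫ G.hom =
      𝟙 ((AlgSp.yon (Spec (CommRingCat.of k))).obj (Over.mk (𝟙 _))) := unit_left_comp_hom G
  obtain ⟨e, he⟩ : ∃ e : (AlgSp.yon (Spec (CommRingCat.of k))).obj (Over.mk (𝟙 _)) ⟶ G.left,
      e = (η[G]).left := ⟨_, rfl⟩
  rw [← he] at hsec ⊢
  haveI : Mono e := SplitMono.mono ⟨G.hom, hsec⟩
  have hrep : AlgSp.Representable e := hG.representable_from_yon e
  -- the field valued point given by the unit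
  let q : AlgSp.FieldPt G.left :=
    { K := k
      str := 𝟙 _
      val := (AlgSp.J (Spec (CommRingCat.of k))).uliftYonedaEquiv e }
  have hq : q.toHom = e := Equiv.symm_apply_apply _ _
  obtain ⟨p, hp, hm, hpq⟩ := hd (AlgSp.Points.mk q)
  have hqc : AlgSp.RepWith @QuasiCompact e := by
    rw [← hq]
    exact Groth.Agent.S10362.result ⟨G.left, hG⟩ p q hm hpq hp.symm
  obtain ⟨A, a, hae, has⟩ := hG.atlas
  obtain ⟨Z, i0, pr, sq⟩ := hrep a
  obtain ⟨pr', rfl⟩ := (AlgSp.yon (Spec (CommRingCat.of k))).map_surjective pr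
  haveI : Mono ((AlgSp.yon (Spec (CommRingCat.of k))).map i0) :=
    PullbackCone.mono_snd_of_is_pullback_of_mono sq.isLimit
  haveI : Mono i0 := (AlgSp.yon (Spec (CommRingCat.of k))).mono_of_mono_map inferInstance
  haveI : Mono i0.left := inferInstance
  haveI : QuasiCompact i0.left := hqc.2 a _ i0 sq
  have het : Etale pr'.left := hae.2 e _ pr' sq.flip
  have hcomp : i0.left ≫ A.hom = pr'.left := by
    have h1 := Over.w i0
    have h2 := Over.w pr'
    simp only [Over.mk_hom] at h2
    rw [h1]; exact h2.symm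
  have hcl : IsClosedImmersion i0.left :=
    Groth.Agent.Lib.Seat44.FieldClosed.isClosedImmersion_of_mono_of_etale_field i0.left A.hom
      (by rw [hcomp]; exact het)
  haveI := Groth.Agent.Lib.Helper12.descendsAlong_isClosedImmersion.{u}
  exact repWith_of_atlas @IsClosedImmersion e hrep a hae has i0 _ sq hcl

end Groth.Agent.S10127
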