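import Groth.Statements.S10011
import Groth.Agent.S10180
import Groth.Agent.S9959
import Groth.Agent.S9927
import Groth.Agent.S9928
import Groth.Agent.Lib.Seat44AffLim
import Groth.Agent.Lib.Seat44AffLim2

set_option autoImplicit false
set_option backward.isDefEq.respectTransparency false
set_option backward.isDefEq.respectTransparency.types false
universe u
open CategoryTheory CategoryTheory.Limits AlgebraicGeometry
open AlgSp

namespace Groth.Agent.S10011

open Groth.Agent.Lib.Seat44.AffLim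

attribute [local instance] IsCofiltered.isConnected

variable {S : Scheme.{u}}

/-- a map of sheaves representable by closed immersions is affine. -/
lemma isAffineMor_of_repWith_isClosedImmersion {F G : AlgSp.Sp S} (f : F ⟶ G)
    (hf : AlgSp.RepWith @IsClosedImmersion f) : AlgSp.IsAffineMor f := by
  intro Z hZ g
  obtain ⟨W, w, fst, sq⟩ := hf.1 g
  have : IsClosedImmersion w.left := hf.2 g fst w sq
  haveI := hZ
  exact ⟨W, w, fst, sq, isAffine_of_isAffineHom w.left⟩

/-- the projections of a cofiltered limit with monomorphic transition maps are monomorphisms. -/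
lemma mono_π_of_mono {C : Type*} [Category C] {I : Type*} [Category I] [IsCofiltered I] (D : I ⥤ C)
    (hm : ∀ (i j : I) (φ : i ⟶ j), Mono (D.map φ)) (c : Cone D) (hc : IsLimit c) (j : I) :
    Mono (c.π.app j) := by
  refine ⟨fun {Z} a b hab => hc.hom_ext (fun k => ?_)⟩
  obtain ⟨l, α, β, -⟩ := IsCofilteredOrEmpty.cone_objs j k
  haveI := hm l j α
  have h1 : a ≫ c.π.app l = b ≫ c.π.app l := by
    rw [← cancel_mono (D.map α), Category.assoc, Category.assoc, c.w, hab]
  rw [← c.w β, ← Category.assoc, h1, Category.assoc]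

section

variable {I : Type u} [SmallCategory I] (D : I ⥤ AlgSp.Sp S)
  (hDa : ∀ (i j : I) (φ : i ⟶ j), AlgSp.IsAffineMor (D.map φ))
  (i : I) {Z : Over S} (hZ : IsAffine Z.left) (g : (AlgSp.yon S).obj Z ⟶ D.obj i)

lemma W_map_ι {j j' : Over i} (ψ : j ⟶ j') :
    (W D hDa i hZ g).map ψ ≫ Wι D hDa i hZ g j' = Wι D hDa i hZ g j := by
  apply (AlgSp.yon S).map_injective
  rw [Functor.map_comp, yon_map_W_map]
  exact WmapSh_snd D hDa i hZ g ψ

end

/-- Let `B` be an algebraic space over `S` and `X` the limit in fppf sheaves of a cofiltered system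
`(X_i)` of quasi-compact algebraic spaces over `B`, each locally of finite type over `B`, whose
transition morphisms are closed immersions. If `X ⟶ B` is locally of finite presentation, then the
projection `X ⟶ X_i` is an isomorphism for all `i` mapping to some `i₀`. -/
theorem result (S : Scheme.{u}) {I : Type u} [SmallCategory I] [IsCofiltered I]
    (B : AlgSp.Space S) (D : I ⥤ AlgSp.Sp S) (hD : ∀ i, AlgSp.IsAlgSpace (D.obj i))
    (t : D ⟶ (Functor.const I).obj B.obj)
    (hDc : ∀ (i j : I) (φ : i ⟶ j), AlgSp.RepWith @IsClosedImmersion (D.map φ))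
    (c : Cone D) (hc : IsLimit c)
    (hqc : ∀ i, AlgSp.IsQuasiCompactSp (D.obj i)) (hft : ∀ i, AlgSp.LocP @LocallyOfFiniteType (t.app i)) (i₁ : I)
    (hX : AlgSp.LocP @LocallyOfFinitePresentation (c.π.app i₁ ≫ t.app i₁)) :
    ∃ i₀ : I, ∀ (i : I) (_ : i ⟶ i₀), IsIso (c.π.app i) := by
  have hmono : ∀ (i j : I) (φ : i ⟶ j), Mono (D.map φ) := fun i j φ =>
    Groth.Agent.S9928.mono_of_repWith @IsClosedImmersion
      (fun X Y g hg => by have : IsClosedImmersion g := hg; infer_instance) (D.map φ) (hDc i j φ)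
  have hDa : ∀ (i j : I) (φ : i ⟶ j), AlgSp.IsAffineMor (D.map φ) := fun i j φ =>
    isAffineMor_of_repWith_isClosedImmersion _ (hDc i j φ)
  obtain ⟨U₀, p, hU₀, hpe, hps⟩ := Groth.Agent.S10180.exists_affine_chart (hqc i₁)
  obtain ⟨cW, hcW, fst, haff, hfst, sq⟩ := exists_affine_pullback D hDa c hc i₁ hU₀ p
  -- the projection `X ⟶ X_{i₁}` is locally of finite presentation
  have hπ : AlgSp.LocP @LocallyOfFinitePresentation (c.π.app i₁) :=
    Groth.Agent.S9959.locP_of_comp' @LocallyOfFinitePresentation @LocallyOfFiniteType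
      (fun u k hk huk => Groth.Agent.Lib.Helper6.locallyOfFinitePresentation_of_comp hk huk)
      B.property (c.π.app i₁) (t.app i₁) hX (hft i₁)
  have hfst_et : AlgSp.RepWith @Etale fst :=
    MorphismProperty.of_isPullback (P := AlgSp.RepWith @Etale) sq.flip hpe
  have hu : LocallyOfFinitePresentation
      (cW.π.app (Over.mk (𝟙 i₁)) ≫ Wι D hDa i₁ hU₀ p (Over.mk (𝟙 i₁))).left :=
    hπ fst p _ hfst_et hpe sq.w
  -- the system of affine schemes `W_j`, over `U₀`
  have hιcl : ∀ j : Over i₁, IsClosedImmersion (Wι D hDa i₁ hU₀ p j).left := fun j =>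
    (hDc j.left i₁ j.hom).2 p (Wfst D hDa i₁ hU₀ p j) (Wι D hDa i₁ hU₀ p j) (Wsq D hDa i₁ hU₀ p j)
  have hπι : ∀ k : Over i₁, cW.π.app k ≫ Wι D hDa i₁ hU₀ p k =
      cW.π.app (Over.mk (𝟙 i₁)) ≫ Wι D hDa i₁ hU₀ p (Over.mk (𝟙 i₁)) := by
    intro k
    let ψ : k ⟶ Over.mk (𝟙 i₁) := Over.homMk k.hom
    rw [← cW.w ψ, Category.assoc, W_map_ι]
  let D' : Over i₁ ⥤ Scheme.{u} := W D hDa i₁ hU₀ p ⋙ Over.forget S
  let t' : D' ⟶ (Functor.const _).obj U₀.left :=
    { app := fun j => (Wι D hDa i₁ hU₀ p j).left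
      naturality := fun j j' ψ => by
        simp only [Functor.const_obj_obj, Functor.const_obj_map, Category.comp_id]
        change ((W D hDa i₁ hU₀ p).map ψ).left ≫ _ = _
        rw [← Over.comp_left, W_map_ι] }
  have hlim : IsLimit ((Over.forget S).mapCone cW) :=
    isLimitForgetMapCone _ (fun j => Waff D hDa i₁ hU₀ p j) cW hcW
  haveI : ∀ j, IsAffine (D'.obj j) := fun j => Waff D hDa i₁ hU₀ p j
  haveI : ∀ {j j' : Over i₁} (f : j ⟶ j'), IsAffineHom (D'.map f) := fun f => inferInstance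
  haveI : ∀ j, CompactSpace ↥(D'.obj j) := fun j => inferInstance
  haveI : ∀ j, QuasiSeparatedSpace ↥(D'.obj j) := fun j => inferInstance
  haveI := hu
  obtain ⟨j, g, hg1, hg2⟩ := Scheme.exists_π_app_comp_eq_of_locallyOfFinitePresentation D' t'
    (cW.π.app (Over.mk (𝟙 i₁)) ≫ Wι D hDa i₁ hU₀ p (Over.mk (𝟙 i₁))).left
    ((Over.forget S).mapCone cW) hlim (𝟙 _) (by
      ext k : 2
      simp only [NatTrans.comp_app, Functor.const_map_app, Category.id_comp]
      change (cW.π.app k).left ≫ (Wι D hDa i₁ hU₀ p k).left = _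
      rw [← Over.comp_left, hπι])
  have hg1' : (cW.π.app j).left ≫ g = 𝟙 _ := hg1
  have hg2' : g ≫ (cW.π.app (Over.mk (𝟙 i₁)) ≫ Wι D hDa i₁ hU₀ p (Over.mk (𝟙 i₁))).left =
      (Wι D hDa i₁ hU₀ p j).left := hg2
  have hg3 : g ≫ (cW.π.app j).left = 𝟙 _ := by
    haveI := hιcl j
    have h4 : (g ≫ (cW.π.app j).left) ≫ (Wι D hDa i₁ hU₀ p j).left =
        𝟙 _ ≫ (Wι D hDa i₁ hU₀ p j).left := by
      rw [Category.assoc, ← Over.comp_left, hπι, hg2', Category.id_comp]
    exact (cancel_mono _).1 h4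
  haveI hisoj : IsIso (cW.π.app j).left := ⟨g, hg1', hg3⟩
  -- all further projections are isomorphisms
  have hisok : ∀ (k : Over i₁) (ψ : k ⟶ j), IsIso (cW.π.app k) := by
    intro k ψ
    have e1 : (cW.π.app k).left ≫ ((W D hDa i₁ hU₀ p).map ψ).left = (cW.π.app j).left := by
      rw [← Over.comp_left, cW.w]
    haveI : Mono ((W D hDa i₁ hU₀ p).map ψ).left := by
      haveI := hιcl k
      have e2 : ((W D hDa i₁ hU₀ p).map ψ).left ≫ (Wι D hDa i₁ hU₀ p j).left =
          (Wι D hDa i₁ hU₀ p k).left := by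
        rw [← Over.comp_left, W_map_ι]
      exact mono_of_mono_fac e2
    haveI : IsSplitEpi ((W D hDa i₁ hU₀ p).map ψ).left :=
      IsSplitEpi.mk' ⟨inv (cW.π.app j).left ≫ (cW.π.app k).left, by
        rw [Category.assoc, e1, IsIso.inv_hom_id]⟩
    haveI : IsIso ((W D hDa i₁ hU₀ p).map ψ).left := isIso_of_mono_of_isSplitEpi _
    haveI : IsIso ((cW.π.app k).left ≫ ((W D hDa i₁ hU₀ p).map ψ).left) := by
      rw [e1]; infer_instance
    haveI : IsIso (cW.π.app k).left := IsIso.of_isIso_comp_right _ ((W D hDa i₁ hU₀ p).map ψ).left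
    haveI : IsIso ((Over.forget S).map (cW.π.app k)) := by
      rw [Over.forget_map]; infer_instance
    exact isIso_of_reflects_iso _ (Over.forget S)
  refine ⟨j.left, fun i φ => ?_⟩
  let k : Over i₁ := Over.mk (φ ≫ j.hom)
  let ψ : k ⟶ j := Over.homMk φ
  haveI := hisok k ψ
  haveI : Mono (c.π.app i) := mono_π_of_mono D hmono c hc i
  haveI : Epi (c.π.app i) := by
    have hWe : AlgSp.RepWith @Etale (Wfst D hDa i₁ hU₀ p k) :=
      MorphismProperty.of_isPullback (P := AlgSp.RepWith @Etale) (Wsq D hDa i₁ hU₀ p k).flip hpe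
    have hWs : AlgSp.RepWith @Surjective (Wfst D hDa i₁ hU₀ p k) :=
      MorphismProperty.of_isPullback (P := AlgSp.RepWith @Surjective) (Wsq D hDa i₁ hU₀ p k).flip hps
    haveI : Epi (Wfst D hDa i₁ hU₀ p k) := Groth.Agent.S9927.epi_of_repWith _ hWe hWs
    have e3 : fst ≫ c.π.app i = (AlgSp.yon S).map (cW.π.app k) ≫ Wfst D hDa i₁ hU₀ p k := hfst k
    haveI : Epi (fst ≫ c.π.app i) := by
      rw [e3]; infer_instance
    exact epi_of_epi fst (c.π.app i)
  exact isIso_of_mono_of_epi _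

end Groth.Agent.S10011
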