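import Groth.Statements.S10012
import Groth.Agent.S10011
import Groth.Agent.S10180
import Groth.Agent.S9952
import Groth.Agent.S9920
import Groth.Agent.S9874
import Groth.Agent.S9941
import Groth.Agent.S9905
import Groth.Agent.S9947
import Groth.Agent.S9927
import Groth.Agent.Lib.Seat45Charts
import Groth.Agent.Lib.Helper12Proper
import Groth.Agent.Lib.Helper15QcRep
import Groth.Agent.Lib.Helper12LargestOpen
import Groth.Agent.Lib.Seat44KerPairSys

set_option autoImplicit false
set_option backward.isDefEq.respectTransparency false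
set_option backward.isDefEq.respectTransparency.types false
universe u
open CategoryTheory CategoryTheory.Limits AlgebraicGeometry
open AlgSp

namespace Groth.Agent.S10012

open Groth.Agent.Lib.Seat44.KerPairSys

variable {S : Scheme.{u}}

/-- an affine morphism of algebraic spaces is separated. -/
lemma isSeparatedMor_of_isAffineMor {X Y : AlgSp.Sp S} (hX : AlgSp.IsAlgSpace X) (hY : AlgSp.IsAlgSpace Y)
    (f : X ⟶ Y) (hf : AlgSp.IsAffineMor f) : AlgSp.IsSeparatedMor f := by
  let XX : AlgSp.Space S := ⟨X, hX⟩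
  let YY : AlgSp.Space S := ⟨Y, hY⟩
  let ff : XX ⟶ YY := ObjectProperty.homMk f
  have h2 : AlgSp.RepWith @IsAffineHom ff.hom := Groth.Agent.S9941.result ff hf
  have h3 : AlgSp.RepWith @IsSeparated ff.hom :=
    Groth.Agent.Lib.Seat45.Charts.repWith_mono
      (fun g hg => by haveI : IsAffineHom g := hg; infer_instance) h2
  exact ((Groth.Agent.S9905.result ff h2.1).1).2 h3

/-- if `q : T ⟶ Y` is an epimorphism (stable under base change) and `T ×_Y T ⟶ T ×_Z T` is an epimorphism, then
`f : Y ⟶ Z` is a monomorphism. -/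
lemma mono_of_kernelPair_epi {E : Type*} [Category E] [HasPullbacks E]
    (hepi : ∀ {A B A' B' : E} {f : A ⟶ B} {g : B' ⟶ B} {fst : A' ⟶ A} {snd : A' ⟶ B'},
      IsPullback fst snd f g → Epi f → Epi snd)
    {T Y Z : E} (q : T ⟶ Y) [Epi q] (f : Y ⟶ Z) {K₀ K : E} {l1 l2 : K₀ ⟶ T} (hK₀ : l1 ≫ q = l2 ≫ q)
    {k1 k2 : K ⟶ T} (hK : IsPullback k1 k2 (q ≫ f) (q ≫ f))
    (δ : K₀ ⟶ K) (hδ1 : δ ≫ k1 = l1) (hδ2 : δ ≫ k2 = l2) [Epi δ] : Mono f := by
  -- the two projections of `T ×_Z T`, composed with `q`, agree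
  have h1 : k1 ≫ q = k2 ≫ q := by
    rw [← cancel_epi δ, ← Category.assoc, ← Category.assoc, hδ1, hδ2, hK₀]
  refine ⟨fun {W} x y hxy => ?_⟩
  -- lift `x` and `y` to `T` after an epimorphic base change
  have e1 : Epi (pullback.fst x q) :=
    hepi (IsPullback.of_hasPullback x q).flip inferInstance
  have e2 : Epi (pullback.fst (pullback.fst x q ≫ y) q) :=
    hepi (IsPullback.of_hasPullback (pullback.fst x q ≫ y) q).flip inferInstance
  let x' : pullback (pullback.fst x q ≫ y) q ⟶ T :=
    pullback.fst (pullback.fst x q ≫ y) q ≫ pullback.snd x q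
  let y' : pullback (pullback.fst x q ≫ y) q ⟶ T := pullback.snd (pullback.fst x q ≫ y) q
  have hx' : x' ≫ q = (pullback.fst (pullback.fst x q ≫ y) q ≫ pullback.fst x q) ≫ x := by
    simp only [x', Category.assoc]
    rw [← pullback.condition]
  have hy' : y' ≫ q = (pullback.fst (pullback.fst x q ≫ y) q ≫ pullback.fst x q) ≫ y := by
    simp only [y', Category.assoc]
    rw [← pullback.condition]
  have hc : x' ≫ q ≫ f = y' ≫ q ≫ f := by
    rw [← Category.assoc, ← Category.assoc, hx', hy']
    simp only [Category.assoc]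
    rw [hxy]
  have h2 : x' ≫ q = y' ≫ q := by
    have := congrArg (fun k => hK.lift x' y' hc ≫ k) h1
    simp only [← Category.assoc] at this
    rwa [hK.lift_fst, hK.lift_snd] at this
  rw [hx', hy'] at h2
  haveI := e1
  haveI := e2
  haveI : Epi (pullback.fst (pullback.fst x q ≫ y) q ≫ pullback.fst x q) := epi_comp _ _
  exact (cancel_epi _).1 h2

lemma isPullback_of_comp_mono {E : Type*} [Category E] {P A B Y Z : E} {fst : P ⟶ A} {snd : P ⟶ B}
    {f : A ⟶ Y} {g : B ⟶ Y} (y : Y ⟶ Z) [Mono y] (h : IsPullback fst snd (f ≫ y) (g ≫ y)) :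
    IsPullback fst snd f g :=
  ⟨⟨by rw [← cancel_mono y, Category.assoc, Category.assoc, h.w]⟩,
    ⟨PullbackCone.IsLimit.mk _
      (fun s => h.lift s.fst s.snd (by rw [← Category.assoc, ← Category.assoc, s.condition]))
      (fun s => h.lift_fst _ _ _) (fun s => h.lift_snd _ _ _)
      (fun s m h1 h2 => h.hom_ext (by rw [h1, h.lift_fst]) (by rw [h2, h.lift_snd]))⟩⟩

/-- Let `S` be a quasi-separated scheme, `B` an algebraic space over `S`, and `X` the limit, in fppf
sheaves, of a cofiltered system `(X_i)` of algebraic spaces over `B`, each quasi-separated over `S`,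
whose transition maps are affine; let `y : Y ⟶ X` be a monomorphism from a quasi-compact algebraic
space `Y` whose structure map to `B` is locally of finite type. Then, for all `i` mapping to some
`i₀`, the composite `Y ⟶ X ⟶ X_i` is a monomorphism. (The published statement allows any base scheme
and uses absolute quasi-separatedness; this row assumes the base quasi-separated, over which
quasi-separatedness relative to the base is the absolute notion.) -/
theorem result (S : Scheme.{u}) [QuasiSeparatedSpace S] {I : Type u} [SmallCategory I] [IsCofiltered I]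
    (B : AlgSp.Space S) (D : I ⥤ AlgSp.Sp S) (hD : ∀ i, AlgSp.IsAlgSpace (D.obj i))
    (t : D ⟶ (Functor.const I).obj B.obj)
    (hDa : ∀ (i j : I) (φ : i ⟶ j), AlgSp.IsAffineMor (D.map φ))
    (c : Cone D) (hc : IsLimit c)
    (hqs : ∀ i, AlgSp.IsQuasiSeparatedSp (D.obj i))
    (Y : AlgSp.Space S) (hYqc : AlgSp.IsQuasiCompactSp Y.obj) (y : Y.obj ⟶ c.pt) [Mono y] (i₁ : I)
    (hYB : AlgSp.LocP @LocallyOfFiniteType (y ≫ c.π.app i₁ ≫ t.app i₁)) :
    ∃ i₀ : I, ∀ (i : I) (_ : i ⟶ i₀), Mono (y ≫ c.π.app i) := by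
  obtain ⟨T, q, hT, hqe, hqsurj⟩ := Groth.Agent.S10180.exists_affine_chart hYqc
  haveI : Epi q := Groth.Agent.S9927.epi_of_repWith q hqe hqsurj
  let a : (AlgSp.yon S).obj T ⟶ c.pt := q ≫ y
  let TT : AlgSp.Space S := ⟨(AlgSp.yon S).obj T, AlgSp.IsAlgSpace.yon_obj T⟩
  have hTqc : AlgSp.IsQuasiCompactSp ((AlgSp.yon S).obj T) :=
    Groth.Agent.Lib.Helper15QcRep.isQuasiCompactSp_yon T hT
  -- the hypotheses of S10011 for the system `T ×_{X_i} T`
  have hD' : ∀ i, AlgSp.IsAlgSpace ((kp D c a).obj i) := fun i =>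
    Groth.Agent.S9874.isAlgSpace_of_isPullback (hD i).diag (AlgSp.IsAlgSpace.yon_obj T)
      (AlgSp.IsAlgSpace.yon_obj T) (k_isPullback D c a i)
  have hDc' : ∀ (i j : I) (φ : i ⟶ j), AlgSp.RepWith @IsClosedImmersion ((kp D c a).map φ) := by
    intro i j φ
    obtain ⟨top, bot, sq⟩ := kp_map_isPullback D c a φ
    exact MorphismProperty.of_isPullback (P := AlgSp.RepWith @IsClosedImmersion) sq
      (isSeparatedMor_of_isAffineMor (hD i) (hD j) (D.map φ) (hDa i j φ))
  have hqc' : ∀ i, AlgSp.IsQuasiCompactSp ((kp D c a).obj i) := by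
    intro i
    let DD : AlgSp.Space S := ⟨D.obj i, hD i⟩
    let f : TT ⟶ DD := ObjectProperty.homMk (a ≫ c.π.app i)
    have h1 : AlgSp.IsQuasiCompactMor f.hom := Groth.Agent.S9920.result f hTqc (hqs i)
    exact h1 (AlgSp.IsAlgSpace.yon_obj T) hTqc (a ≫ c.π.app i) (kfst D c a i) (ksnd D c a i)
      (k_isPullback D c a i)
  have hbase : ∀ i, c.π.app i ≫ t.app i = c.π.app i₁ ≫ t.app i₁ := by
    intro i
    obtain ⟨l, α, β, -⟩ := IsCofilteredOrEmpty.cone_objs i i₁
    have h1 := t.naturality α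
    have h2 := t.naturality β
    simp only [Functor.const_obj_obj, Functor.const_obj_map, Category.comp_id] at h1 h2
    rw [← c.w α, Category.assoc, h1, ← c.w β, Category.assoc, h2]
  have hlfty : ∀ i, AlgSp.LocP @LocallyOfFiniteType (y ≫ c.π.app i) := by
    intro i
    refine Groth.Agent.S9952.locP_of_comp @LocallyOfFiniteType (fun u k huk => ?_) B.property
      (y ≫ c.π.app i) (t.app i) (by rw [Category.assoc, hbase i]; exact hYB)
    haveI : LocallyOfFiniteType (u ≫ k) := huk
    exact locallyOfFiniteType_of_comp u k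
  have hlfta : ∀ i, AlgSp.LocP @LocallyOfFiniteType (a ≫ c.π.app i) := by
    intro i
    have := Groth.Agent.Lib.Helper12.LargestOpen.locP_precomp_repEtale @LocallyOfFiniteType q
      (y ≫ c.π.app i) hqe (hlfty i)
    rwa [← Category.assoc] at this
  have hft' : ∀ i, AlgSp.LocP @LocallyOfFiniteType ((kpFst D c a).app i) := fun i =>
    Groth.Agent.Lib.Helper12.Proper.locP_lft_baseChange (AlgSp.IsAlgSpace.yon_obj T) (hD i)
      (AlgSp.IsAlgSpace.yon_obj T) (k_isPullback D c a i).flip (hlfta i)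
  have hsqq : IsPullback (pullback.fst a a) (pullback.snd a a) q q :=
    isPullback_of_comp_mono y (IsPullback.of_hasPullback a a)
  have hX' : AlgSp.LocP @LocallyOfFinitePresentation
      ((kpCone D c a).π.app i₁ ≫ (kpFst D c a).app i₁) := by
    rw [kpCone_π_app, kpFst_app, kpπ_fst]
    have het : AlgSp.RepWith @Etale (pullback.fst a a) :=
      MorphismProperty.of_isPullback (P := AlgSp.RepWith @Etale) hsqq.flip hqe
    exact Groth.Agent.S9947.locP_of_repWith_etale @LocallyOfFinitePresentation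
      (fun g hg => by haveI : Etale g := hg; infer_instance) _ het
  obtain ⟨i₀, hi₀⟩ := Groth.Agent.S10011.result S TT (kp D c a) hD' (kpFst D c a) hDc'
    (kpCone D c a) (kpIsLimit D c a hc) hqc' hft' i₁ hX'
  refine ⟨i₀, fun i φ => ?_⟩
  haveI : IsIso (kpπ D c a i) := hi₀ i φ
  have hK : IsPullback (kfst D c a i) (ksnd D c a i) (q ≫ y ≫ c.π.app i) (q ≫ y ≫ c.π.app i) := by
    have := k_isPullback D c a i
    rwa [Category.assoc] at this
  exact mono_of_kernelPair_epi
    (fun sq h => Groth.Agent.Lib.Helper9.ToposLike.epi_of_isPullback sq.flip h) q (y ≫ c.π.app i)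
    hsqq.w hK (kpπ D c a i) (kpπ_fst D c a i) (kpπ_snd D c a i)

end Groth.Agent.S10012
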