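import Groth.Statements.S10111
import Groth.Agent.Lib.Seat44FppfFamily

set_option autoImplicit false
set_option backward.isDefEq.respectTransparency false
set_option backward.isDefEq.respectTransparency.types false
universe u v w
open CategoryTheory CategoryTheory.Limits AlgebraicGeometry Opposite
open AlgSp

namespace Groth.Agent.S10111

open Groth.Agent.Lib.Seat44.FppfFamily

section Generic

variable {C : Type*} [Category C] {J : GrothendieckTopology C} {P : Cᵒᵖ ⥤ Type w}

/-- sheaf condition for a covering family of arrows -/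
lemma existsUnique_of_arrows (hP : Presieve.IsSheaf J P) {X : C} {κ : Type*} (Y : κ → C)
    (g : ∀ k, Y k ⟶ X) (hg : Sieve.ofArrows Y g ∈ J X) (x : ∀ k, P.obj (op (Y k)))
    (hx : Presieve.Arrows.Compatible P g x) : ∃! t, ∀ k, P.map (g k).op t = x k := by
  have h1 : Presieve.IsSheafFor P (Presieve.ofArrows Y g) := by
    rw [Presieve.isSheafFor_iff_generate]
    exact hP _ hg
  exact (Presieve.isSheafFor_arrows_iff P g).1 h1 x hx

/-- separatedness for a covering sieve -/
lemma ext_of_sieve (hP : Presieve.IsSheaf J P) {X : C} (R : Sieve X) (hR : R ∈ J X)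
    (s s' : P.obj (op X)) (h : ∀ ⦃Y : C⦄ (f : Y ⟶ X), R.arrows f → P.map f.op s = P.map f.op s') :
    s = s' :=
  (hP R hR).isSeparatedFor.ext (fun _ f hf => h f hf)

/-- separatedness for a covering family of arrows -/
lemma ext_of_arrows (hP : Presieve.IsSheaf J P) {X : C} {κ : Type*} (Y : κ → C)
    (g : ∀ k, Y k ⟶ X) (hg : Sieve.ofArrows Y g ∈ J X) (s s' : P.obj (op X))
    (h : ∀ k, P.map (g k).op s = P.map (g k).op s') : s = s' := by
  refine ext_of_sieve hP _ hg s s' ?_
  rintro Z f ⟨W, a, b, ⟨k⟩, rfl⟩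
  rw [op_comp, Functor.map_comp, types_comp_apply, types_comp_apply, h k]

end Generic

section Main

variable {S : Scheme.{u}} {F : AlgSp.PSp S} {ι : Type v} {Fi : ι → AlgSp.PSp S} (m : ∀ i, Fi i ⟶ F)

/-- membership in the subfunctor `F_i` is stable under restriction -/
lemma mem_range_map (i : ι) {T T' : Over S} (f : T' ⟶ T) {x : F.obj (op T)}
    (hx : x ∈ Set.range ((m i).app (op T))) : F.map f.op x ∈ Set.range ((m i).app (op T')) := by
  obtain ⟨y, rfl⟩ := hx
  exact ⟨(Fi i).map f.op y, NatTrans.naturality_apply (m i) f.op y⟩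

lemma app_injective [∀ i, Mono (m i)] (i : ι) (T : Over S) :
    Function.Injective ((m i).app (op T)) := by
  have : Mono ((m i).app (op T)) := inferInstance
  exact (mono_iff_injective _).1 this

/-- **Key lemma**: if `x ∈ F(T)` lies in `F_i` locally for the fppf topology, then it lies in `F_i`. -/
theorem mem_range_of_local [∀ i, Mono (m i)] (hb : ∀ i, AlgSp.RepBySp (m i)) (i : ι) {T : Over S}
    (x : F.obj (op T)) (R : Sieve T) (hR : R ∈ AlgSp.J S T)
    (h : ∀ ⦃T' : Over S⦄ (f : T' ⟶ T), R.arrows f → F.map f.op x ∈ Set.range ((m i).app (op T'))) :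
    x ∈ Set.range ((m i).app (op T)) := by
  let ξ : (AlgSp.pyon S).obj T ⟶ F := uliftYonedaEquiv.symm x
  have hξ : ∀ {T' : Over S} (f : T' ⟶ T), ξ.app (op T') ⟨f⟩ = F.map f.op x := fun f => rfl
  let E : AlgSp.PSp S := pullback (m i) ξ
  have sq : IsPullback (pullback.fst (m i) ξ) (pullback.snd (m i) ξ) (m i) ξ :=
    IsPullback.of_hasPullback _ _
  obtain ⟨hE, -⟩ := hb i ξ _ _ sq
  rw [isSheaf_iff_isSheaf_of_type] at hE
  have sqT : ∀ T' : Over S, IsPullback ((pullback.fst (m i) ξ).app (op T'))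
      ((pullback.snd (m i) ξ).app (op T')) ((m i).app (op T')) (ξ.app (op T')) := fun T' =>
    sq.map ((evaluation _ _).obj (op T'))
  -- `snd` is injective
  have hsnd : ∀ T' : Over S, Function.Injective ((pullback.snd (m i) ξ).app (op T')) := by
    intro T' a b hab
    refine Types.ext_of_isPullback (sqT T') ?_ hab
    apply app_injective m i T'
    have h1 := ConcreteCategory.congr_hom (sqT T').w a
    have h2 := ConcreteCategory.congr_hom (sqT T').w b
    simp only [CategoryTheory.comp_apply] at h1 h2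
    rw [h1, h2, hab]
  -- local sections of `E`
  have hex : ∀ ⦃T' : Over S⦄ (f : T' ⟶ T), R.arrows f →
      ∃ e : E.obj (op T'), (pullback.snd (m i) ξ).app (op T') e = ⟨f⟩ := by
    intro T' f hf
    obtain ⟨y, hy⟩ := h f hf
    obtain ⟨e, -, he⟩ := Types.exists_of_isPullback (sqT T') y ⟨f⟩ (by rw [hy, hξ])
    exact ⟨e, he⟩
  choose e he using hex
  have hcomp : Presieve.FamilyOfElements.Compatible (P := E) (R := R.arrows)
      (fun T' f hf => e f hf) := by
    rw [Presieve.compatible_iff_sieveCompatible]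
    intro T' T'' f g hf
    apply hsnd
    rw [he]
    have h1 := NatTrans.naturality_apply (pullback.snd (m i) ξ) g.op (e f hf)
    rw [h1, he]
    rfl
  obtain ⟨e₀, he₀, -⟩ := hE R hR _ hcomp
  have hone : (pullback.snd (m i) ξ).app (op T) e₀ = ⟨𝟙 T⟩ := by
    have hT : Presieve.IsSheaf (AlgSp.J S) ((AlgSp.pyon S).obj T) := by
      rw [← isSheaf_iff_isSheaf_of_type]
      exact ((AlgSp.yon S).obj T).property
    refine ext_of_sieve hT R hR _ _ (fun T' f hf => ?_)
    have h1 := NatTrans.naturality_apply (pullback.snd (m i) ξ) f.op e₀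
    rw [← h1, he₀ f hf, he]
    change _ = ULift.up (f ≫ 𝟙 T)
    rw [Category.comp_id]
  refine ⟨(pullback.fst (m i) ξ).app (op T) e₀, ?_⟩
  have h1 := ConcreteCategory.congr_hom (sqT T).w e₀
  simp only [CategoryTheory.comp_apply] at h1
  rw [h1, hone, hξ]
  simp

/-- **Local lemma**: every section of `F` lies Zariski locally in the subfunctors `F_i`. -/
theorem exists_opens_cover [∀ i, Mono (m i)] (hb : ∀ i, AlgSp.RepBySp (m i))
    (hc : ∀ (T : Over S) (x : F.obj (op T)), ∃ R ∈ (AlgSp.J S) T,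
      ∀ ⦃T' : Over S⦄ (f : T' ⟶ T), R.arrows f → ∃ i, F.map f.op x ∈ Set.range ((m i).app (op T')))
    {T : Over S} (x : F.obj (op T)) :
    ∃ V : ι → T.left.Opens, (∀ p : T.left, ∃ i, p ∈ V i) ∧
      ∀ i, F.map (opnι T (V i)).op x ∈ Set.range ((m i).app (op (opn T (V i)))) := by
  obtain ⟨R, hR, hRi⟩ := hc T x
  obtain ⟨Y, g, hgR, hfl, hfp, hsurj⟩ := exists_family_of_mem_J R hR
  choose idx hidx using fun p => hRi (g p) (hgR p)
  let V : ι → T.left.Opens := fun i =>
    ⟨⋃ (p : T.left) (_ : idx p = i), Set.range (g p).left,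
      isOpen_iUnion fun p => isOpen_iUnion fun _ =>
        (haveI := hfl p; haveI := hfp p; isOpen_range_of_flat_lfp (g p).left)⟩
  have hV : ∀ i (q : T.left), q ∈ V i ↔ ∃ p, idx p = i ∧ q ∈ Set.range (g p).left := by
    intro i q
    change q ∈ ⋃ (p : T.left) (_ : idx p = i), Set.range (g p).left ↔ _
    simp only [Set.mem_iUnion, exists_prop]
  refine ⟨V, fun p => ⟨idx p, (hV _ _).2 ⟨p, rfl, hsurj p⟩⟩, fun i => ?_⟩
  have hsub : ∀ k : {p : T.left // idx p = i}, Set.range (g k.1).left ⊆ (V i : Set T.left) := by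
    intro k q hq
    exact (hV i q).2 ⟨k.1, k.2, hq⟩
  let g' : ∀ k : {p : T.left // idx p = i}, Y k.1 ⟶ opn T (V i) :=
    fun k => opnLift (V i) (g k.1) (hsub k)
  have hg' : ∀ k, g' k ≫ opnι T (V i) = g k.1 := fun k => opnLift_ι _ _ _
  have hsq : ∀ k, IsPullback (𝟙 (Y k.1).left) (g' k).left (g k.1).left (opnι T (V i)).left := by
    intro k
    have sq := (isPullback_of_mono (g' k) (opnι T (V i))).map (Over.forget S)
    rw [hg' k] at sq
    exact sq
  have hcov : Sieve.ofArrows (fun k : {p : T.left // idx p = i} => Y k.1) g' ∈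
      AlgSp.J S (opn T (V i)) := by
    apply ofArrows_mem_J
    · intro k
      exact MorphismProperty.of_isPullback (P := @Flat) (hsq k) (hfl k.1)
    · intro k
      exact MorphismProperty.of_isPullback (P := @LocallyOfFinitePresentation) (hsq k) (hfp k.1)
    · intro q
      obtain ⟨p, hp, y, hy⟩ := (hV i ((opnι T (V i)).left q)).1 (by
        rw [opnι_left]; exact q.2)
      refine ⟨⟨p, hp⟩, y, ?_⟩
      have hinj : Function.Injective (opnι T (V i)).left := by
        rw [opnι_left]
        exact (V i).ι.isOpenEmbedding.injective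
      apply hinj
      rw [← hy, ← Scheme.Hom.comp_apply, ← Over.comp_left, hg']
  refine mem_range_of_local m hb i _ _ hcov ?_
  rintro T' f ⟨W, a, b, ⟨k⟩, rfl⟩
  have h1 : F.map (a ≫ g' k).op (F.map (opnι T (V i)).op x) = F.map a.op (F.map (g k.1).op x) := by
    rw [← hg' k]
    simp only [op_comp, Functor.map_comp, CategoryTheory.comp_apply]
  rw [h1]
  refine mem_range_map m i a ?_
  have h2 := hidx k.1
  rw [k.2] at h2
  exact h2

/-- an open cover generates a covering sieve for the Zariski topology. -/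
theorem opens_mem_zariski {T : Over S} {κ : Type*} (V : κ → T.left.Opens)
    (hV : ∀ p : T.left, ∃ i, p ∈ V i) :
    Sieve.ofArrows (fun i => opn T (V i)) (fun i => opnι T (V i)) ∈
      QuotSh.J Scheme.zariskiPrecoverage S T := by
  rw [GrothendieckTopology.mem_over_iff, Sieve.overEquiv_ofArrows]
  apply Precoverage.generate_mem_toGrothendieck
  rw [Scheme.ofArrows_mem_precoverage_iff]
  refine ⟨fun p => ?_, fun i => inferInstance⟩
  obtain ⟨i, hi⟩ := hV p
  exact ⟨i, ⟨p, hi⟩, rfl⟩

/-- **Separatedness** of `F` for the fppf topology. -/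
theorem separated [∀ i, Mono (m i)]
    (h1 : Presieve.IsSheaf (QuotSh.J Scheme.zariskiPrecoverage S) F)
    (ha : ∀ i, Presieve.IsSheaf (AlgSp.J S) (Fi i)) (hb : ∀ i, AlgSp.RepBySp (m i))
    (hc : ∀ (T : Over S) (x : F.obj (op T)), ∃ R ∈ (AlgSp.J S) T,
      ∀ ⦃T' : Over S⦄ (f : T' ⟶ T), R.arrows f → ∃ i, F.map f.op x ∈ Set.range ((m i).app (op T')))
    {T : Over S} (R : Sieve T) (hR : R ∈ AlgSp.J S T) (s s' : F.obj (op T))
    (h : ∀ ⦃T' : Over S⦄ (f : T' ⟶ T), R.arrows f → F.map f.op s = F.map f.op s') : s = s' := by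
  obtain ⟨V, hV, hVs⟩ := exists_opens_cover m hb hc s
  refine ext_of_arrows h1 _ _ (opens_mem_zariski V hV) s s' (fun i => ?_)
  obtain ⟨σ, hσ⟩ := hVs i
  have hRV : R.pullback (opnι T (V i)) ∈ AlgSp.J S (opn T (V i)) :=
    (AlgSp.J S).pullback_stable (opnι T (V i)) hR
  have hs' : F.map (opnι T (V i)).op s' ∈ Set.range ((m i).app (op (opn T (V i)))) := by
    refine mem_range_of_local m hb i _ _ hRV (fun T' f hf => ?_)
    have h2 : F.map f.op (F.map (opnι T (V i)).op s') = F.map f.op (F.map (opnι T (V i)).op s) := by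
      simp only [← Functor.map_comp_apply, ← op_comp]
      exact (h (f ≫ opnι T (V i)) hf).symm
    rw [h2]
    exact mem_range_map m i f ⟨σ, hσ⟩
  obtain ⟨σ', hσ'⟩ := hs'
  rw [← hσ, ← hσ']
  congr 1
  refine ext_of_sieve (ha i) _ hRV σ σ' (fun T' f hf => ?_)
  apply app_injective m i T'
  rw [NatTrans.naturality_apply, NatTrans.naturality_apply, hσ, hσ']
  simp only [← Functor.map_comp_apply, ← op_comp]
  exact h (f ≫ opnι T (V i)) hf


lemma s_congr {T : Over S} {R : Sieve T} (s : Presieve.FamilyOfElements F R.arrows)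
    {T' : Over S} {f f' : T' ⟶ T} (h : f = f') (hf : R.arrows f) (hf' : R.arrows f') :
    s f hf = s f' hf' := by
  subst h; rfl

/-- **Existence of amalgamations** for `F` and the fppf topology. -/
theorem exists_amalgamation [∀ i, Mono (m i)]
    (h1 : Presieve.IsSheaf (QuotSh.J Scheme.zariskiPrecoverage S) F)
    (ha : ∀ i, Presieve.IsSheaf (AlgSp.J S) (Fi i)) (hb : ∀ i, AlgSp.RepBySp (m i))
    (hc : ∀ (T : Over S) (x : F.obj (op T)), ∃ R ∈ (AlgSp.J S) T,
      ∀ ⦃T' : Over S⦄ (f : T' ⟶ T), R.arrows f → ∃ i, F.map f.op x ∈ Set.range ((m i).app (op T')))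
    {T : Over S} (R : Sieve T) (hR : R ∈ AlgSp.J S T) (s : Presieve.FamilyOfElements F R.arrows)
    (hs : s.Compatible) : ∃ t, s.IsAmalgamation t := by
  rw [Presieve.compatible_iff_sieveCompatible] at hs
  obtain ⟨Y, g, hgR, hfl, hfp, hsurj⟩ := exists_family_of_mem_J R hR
  choose V hVcov hVs using fun p => exists_opens_cover m hb hc (s (g p) (hgR p))
  choose σ hσ using hVs
  let A : T.left → ι → Over S := fun p i => opn (Y p) (V p i)
  let a : ∀ p i, A p i ⟶ T := fun p i => opnι (Y p) (V p i) ≫ g p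
  have haR : ∀ p i, R.arrows (a p i) := fun p i => R.downward_closed (hgR p) _
  have hsa : ∀ p i, s (a p i) (haR p i) = (m i).app _ (σ p i) := by
    intro p i
    rw [hσ]
    exact hs (g p) (opnι (Y p) (V p i)) (hgR p)
  have hafl : ∀ p i, Flat (a p i).left := by
    intro p i
    haveI := hfl p
    change Flat ((opnι (Y p) (V p i)).left ≫ (g p).left)
    rw [opnι_left]
    infer_instance
  have hafp : ∀ p i, LocallyOfFinitePresentation (a p i).left := by
    intro p i
    haveI := hfp p
    change LocallyOfFinitePresentation ((opnι (Y p) (V p i)).left ≫ (g p).left)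
    rw [opnι_left]
    infer_instance
  let W : ι → T.left.Opens := fun i =>
    ⟨⋃ p, Set.range (a p i).left, isOpen_iUnion fun p =>
      (haveI := hafl p i; haveI := hafp p i; isOpen_range_of_flat_lfp (a p i).left)⟩
  have hW : ∀ i (q : T.left), q ∈ W i ↔ ∃ p, q ∈ Set.range (a p i).left := by
    intro i q
    change q ∈ ⋃ p, Set.range (a p i).left ↔ _
    simp only [Set.mem_iUnion]
  have hWcov : ∀ q : T.left, ∃ i, q ∈ W i := by
    intro q
    obtain ⟨y, hy⟩ := hsurj q
    obtain ⟨i, hi⟩ := hVcov q y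
    refine ⟨i, (hW i q).2 ⟨q, ⟨⟨y, hi⟩, ?_⟩⟩⟩
    change ((opnι (Y q) (V q i)).left ≫ (g q).left) _ = _
    rw [opnι_left, Scheme.Hom.comp_apply]
    exact hy
  have hsub : ∀ p i, Set.range (a p i).left ⊆ (W i : Set T.left) := by
    intro p i q hq
    exact (hW i q).2 ⟨p, hq⟩
  let b : ∀ p i, A p i ⟶ opn T (W i) := fun p i => opnLift (W i) (a p i) (hsub p i)
  have hb' : ∀ p i, b p i ≫ opnι T (W i) = a p i := fun p i => opnLift_ι _ _ _
  have hsq : ∀ p i, IsPullback (𝟙 (A p i).left) (b p i).left (a p i).left (opnι T (W i)).left := by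
    intro p i
    have sq := (isPullback_of_mono (b p i) (opnι T (W i))).map (Over.forget S)
    rw [hb' p i] at sq
    exact sq
  have hcov : ∀ i, Sieve.ofArrows (fun p => A p i) (fun p => b p i) ∈ AlgSp.J S (opn T (W i)) := by
    intro i
    apply ofArrows_mem_J
    · intro p
      exact MorphismProperty.of_isPullback (P := @Flat) (hsq p i) (hafl p i)
    · intro p
      exact MorphismProperty.of_isPullback (P := @LocallyOfFinitePresentation) (hsq p i) (hafp p i)
    · intro q
      obtain ⟨p, y, hy⟩ := (hW i ((opnι T (W i)).left q)).1 (by rw [opnι_left]; exact q.2)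
      refine ⟨p, y, ?_⟩
      have hinj : Function.Injective (opnι T (W i)).left := by
        rw [opnι_left]
        exact (W i).ι.isOpenEmbedding.injective
      apply hinj
      rw [← hy, ← Scheme.Hom.comp_apply, ← Over.comp_left, hb']
  -- glue the `σ p i` over `W i`
  have hτ : ∀ i, ∃ τ : (Fi i).obj (op (opn T (W i))), ∀ p, (Fi i).map (b p i).op τ = σ p i := by
    intro i
    refine (existsUnique_of_arrows (ha i) _ _ (hcov i) (fun p => σ p i) ?_).exists
    intro p q Z u v huv
    apply app_injective m i Z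
    rw [NatTrans.naturality_apply, NatTrans.naturality_apply, ← hsa, ← hsa, ← hs, ← hs]
    refine s_congr s ?_ _ _
    rw [← hb', ← hb', reassoc_of% huv]
  choose τ hτ using hτ
  let t : ∀ i, F.obj (op (opn T (W i))) := fun i => (m i).app _ (τ i)
  have htb : ∀ p i, F.map (b p i).op (t i) = s (a p i) (haR p i) := by
    intro p i
    rw [hsa, ← hτ i p, NatTrans.naturality_apply]
  -- the key property of `t i`
  have claim : ∀ i {T' : Over S} (f : T' ⟶ opn T (W i)) (hf : R.arrows (f ≫ opnι T (W i))),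
      F.map f.op (t i) = s (f ≫ opnι T (W i)) hf := by
    intro i T' f hf
    refine separated m h1 ha hb hc _ ((AlgSp.J S).pullback_stable f (hcov i)) _ _ ?_
    rintro T'' h ⟨Z, c, d, ⟨p⟩, hcd⟩
    rw [← hs, ← Functor.map_comp_apply, ← op_comp, ← hcd, op_comp, Functor.map_comp_apply, htb,
      ← hs]
    refine s_congr s ?_ _ _
    rw [← hb', reassoc_of% hcd]
  -- glue the `t i`
  have hglue : ∃ t₀ : F.obj (op T), ∀ i, F.map (opnι T (W i)).op t₀ = t i := by
    refine (existsUnique_of_arrows h1 _ _ (opens_mem_zariski W hWcov) t ?_).exists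
    intro i j Z u v huv
    refine separated m h1 ha hb hc _
      ((AlgSp.J S).pullback_stable (u ≫ opnι T (W i)) hR) _ _ ?_
    intro Z' h hh
    have hh' : R.arrows ((h ≫ u) ≫ opnι T (W i)) := by
      rw [Category.assoc]; exact hh
    have hh'' : R.arrows ((h ≫ v) ≫ opnι T (W j)) := by
      rw [Category.assoc, ← huv]; exact hh
    rw [← Functor.map_comp_apply, ← op_comp, ← Functor.map_comp_apply, ← op_comp,
      claim i (h ≫ u) hh', claim j (h ≫ v) hh'']
    refine s_congr s ?_ _ _
    rw [Category.assoc, Category.assoc, huv]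
  obtain ⟨t₀, ht₀⟩ := hglue
  refine ⟨t₀, ?_⟩
  intro T' f hf
  have hcovT : Sieve.ofArrows (fun i => opn T (W i)) (fun i => opnι T (W i)) ∈ AlgSp.J S T := by
    apply ofArrows_mem_J
    · intro i; rw [opnι_left]; infer_instance
    · intro i; rw [opnι_left]; infer_instance
    · intro q
      obtain ⟨i, hi⟩ := hWcov q
      exact ⟨i, ⟨q, hi⟩, rfl⟩
  refine separated m h1 ha hb hc _ ((AlgSp.J S).pullback_stable f hcovT) _ _ ?_
  rintro T'' h ⟨Z, c, d, ⟨i⟩, hcd⟩
  have hc' : R.arrows (c ≫ opnι T (W i)) := by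
    rw [hcd]; exact R.downward_closed hf h
  have e1 : F.map h.op (s f hf) = s (h ≫ f) (R.downward_closed hf h) := (hs f h hf).symm
  have e2 : F.map h.op (F.map f.op t₀) = F.map c.op (F.map (opnι T (W i)).op t₀) := by
    simp only [← Functor.map_comp_apply, ← op_comp, hcd]
  rw [e1, e2, ht₀, claim i c hc']
  exact s_congr s hcd _ _

end Main

/-- Let `F` be a presheaf of sets on schemes over `S` which is a Zariski sheaf, and `F_i ⊂ F` a family
of subfunctors which are fppf sheaves, whose inclusions are representable by algebraic spaces, and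
such that `∐ F_i ⟶ F` becomes surjective after fppf sheafification (every section of `F` lies fppf
locally in some `F_i`). Then `F` is an fppf sheaf. -/
theorem result (S : Scheme.{u}) (F : AlgSp.PSp S)
    (h1 : Presheaf.IsSheaf (QuotSh.J Scheme.zariskiPrecoverage S) F) {ι : Type v} (Fi : ι → AlgSp.PSp S)
    (m : ∀ i, Fi i ⟶ F) [∀ i, Mono (m i)] (ha : ∀ i, Presheaf.IsSheaf (AlgSp.J S) (Fi i))
    (hb : ∀ i, AlgSp.RepBySp (m i))
    (hc : ∀ (T : Over S) (x : F.obj (Opposite.op T)), ∃ R ∈ (AlgSp.J S) T,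
      ∀ ⦃T' : Over S⦄ (f : T' ⟶ T), R.arrows f → ∃ i, F.map f.op x ∈ Set.range ((m i).app (Opposite.op T'))) :
    Presheaf.IsSheaf (AlgSp.J S) F := by
  rw [isSheaf_iff_isSheaf_of_type] at h1 ⊢
  have ha' : ∀ i, Presieve.IsSheaf (AlgSp.J S) (Fi i) := fun i => by
    have := ha i
    rwa [isSheaf_iff_isSheaf_of_type] at this
  intro T R hR s hs
  obtain ⟨t, ht⟩ := exists_amalgamation m h1 ha' hb hc R hR s hs
  refine ⟨t, ht, fun t' ht' => ?_⟩
  refine separated m h1 ha' hb hc R hR _ _ (fun T' f hf => ?_)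
  rw [ht f hf, ht' f hf]

end Groth.Agent.S10111
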