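import Groth.Statements.S10030
import Groth.Agent.Lib.Seat44AffChart
import Groth.Agent.Lib.Seat44LpRestrict
import Groth.Agent.Lib.Seat44FinAffFamily
import Groth.Agent.S10111

set_option autoImplicit false
set_option backward.isDefEq.respectTransparency false
set_option backward.isDefEq.respectTransparency.types false
universe u
open CategoryTheory CategoryTheory.Limits AlgebraicGeometry Opposite
open AlgSp

namespace Groth.Agent.S10030

open Groth.Agent.Lib.Seat44.AffLim Groth.Agent.Lib.Seat44.LimChart Groth.Agent.Lib.Seat44.LimChart2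
  Groth.Agent.Lib.Seat44.HomDesc Groth.Agent.Lib.Seat44.AffChart Groth.Agent.Lib.Seat44.ChartPair
  Groth.Agent.Lib.Seat44.LpRestrict Groth.Agent.Lib.Seat44.FinAffFamily
  Groth.Agent.Lib.Seat44.FppfFamily Groth.Agent.S10111 Groth.Agent.S10067

attribute [local instance] IsCofiltered.isConnected

variable {S : Scheme.{u}}

/-- an affine scheme representing the fibre product of two affine schemes over an affine scheme over `S`. -/
theorem exists_pair_chart {T V₁ V₂ : Over S} (hT : IsAffine T.left) (h₁ : IsAffine V₁.left)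
    (h₂ : IsAffine V₂.left) (v₁ : V₁ ⟶ T) (v₂ : V₂ ⟶ T) :
    ∃ (V₁₂ : Over S) (r₁ : V₁₂ ⟶ V₁) (r₂ : V₁₂ ⟶ V₂), IsAffine V₁₂.left ∧
      IsPullback ((yon S).map r₁) ((yon S).map r₂) ((yon S).map v₁) ((yon S).map v₂) := by
  haveI := hT
  haveI := h₁
  haveI := h₂
  let V₁₂ : Over S := Over.mk (pullback.fst v₁.left v₂.left ≫ V₁.hom)
  let r₁ : V₁₂ ⟶ V₁ := Over.homMk (pullback.fst v₁.left v₂.left) rfl
  let r₂ : V₁₂ ⟶ V₂ := Over.homMk (pullback.snd v₁.left v₂.left) (by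
    change pullback.snd v₁.left v₂.left ≫ V₂.hom = pullback.fst v₁.left v₂.left ≫ V₁.hom
    rw [← Over.w v₁, ← Over.w v₂, ← Category.assoc, ← Category.assoc, pullback.condition])
  have sqR : IsPullback r₁ r₂ v₁ v₂ :=
    IsPullback.of_map (Over.forget S) (by ext; exact pullback.condition)
      (IsPullback.of_hasPullback v₁.left v₂.left)
  exact ⟨V₁₂, r₁, r₂, inferInstanceAs (IsAffine (pullback v₁.left v₂.left)), sqR.map (yon S)⟩

theorem map3_eq {F : AlgSp.PSp S} {A B C E B' : Over S} (a : A ⟶ B) (b : B ⟶ C) (c : C ⟶ E)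
    (d : A ⟶ B') (e : B' ⟶ E) (h : a ≫ b ≫ c = d ≫ e) (z : F.obj (op E)) :
    F.map a.op (F.map b.op (F.map c.op z)) = F.map d.op (F.map e.op z) := by
  have h1 : F.map a.op (F.map b.op (F.map c.op z)) = F.map (a ≫ b ≫ c).op z := by
    rw [map_map_apply b c z, map_map_apply a (b ≫ c) z]
  rw [h1, h]
  exact (map_map_apply d e z).symm

theorem map_comp_eq {F : AlgSp.PSp S} {A B C : Over S} (f : A ⟶ B) (g : B ⟶ C) {a b : F.obj (op C)}
    (h : F.map g.op a = F.map g.op b) : F.map (f ≫ g).op a = F.map (f ≫ g).op b :=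
  (map_map_apply f g a).symm.trans ((congrArg (F.map f.op) h).trans (map_map_apply f g b))

theorem map23_eq {F : AlgSp.PSp S} {A B E A' B' : Over S} (a : A ⟶ B) (b : B ⟶ E)
    (a' : A ⟶ A') (b' : A' ⟶ B') (c' : B' ⟶ E) (h : a ≫ b = a' ≫ b' ≫ c') (z : F.obj (op E)) :
    F.map a.op (F.map b.op z) = F.map a'.op (F.map b'.op (F.map c'.op z)) := by
  have h1 : F.map a'.op (F.map b'.op (F.map c'.op z)) = F.map (a' ≫ b' ≫ c').op z := by
    rw [map_map_apply b' c' z, map_map_apply a' (b' ≫ c') z]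
  rw [h1, ← h]
  exact map_map_apply a b z

section Stage

variable (F : AlgSp.PSp S) (hF : Presieve.IsSheaf (AlgSp.J S) F) {ι : Type u} (U : ι → Over S)
  (hloc : ∀ j, AlgSp.IsLimitPreserving (S := (U j).left) ((Over.map (U j).hom).op ⋙ F))
  {I : Type u} [SmallCategory I] [IsCofiltered I] (D : I ⥤ Over S)
  (hD : ∀ i, IsAffine (D.obj i).left) (c : Cone D) (hc : IsLimit ((Over.forget S).mapCone c))
  (i₀ : I)

include hloc in
/-- limit preservation on the chart system of an affine chart mapping to some `U_j`. -/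
theorem chart_lp {V : Over S} (hV : IsAffine V.left) (p : (yon S).obj V ⟶ (D ⋙ yon S).obj i₀)
    (j : ι) (σ : V ⟶ U j) (cW : Cone (CW D hD i₀ hV p))
    (hlimW : IsLimit ((Over.forget S).mapCone cW)) (hpt : IsAffine cW.pt.left) :
    (∀ x : F.obj (op cW.pt), ∃ (k : Over i₀) (xk : F.obj (op ((CW D hD i₀ hV p).obj k))),
      F.map (cW.π.app k).op xk = x) ∧
    (∀ (k : Over i₀) (a b : F.obj (op ((CW D hD i₀ hV p).obj k))),
      F.map (cW.π.app k).op a = F.map (cW.π.app k).op b →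
      ∃ (k' : Over i₀) (ψ : k' ⟶ k), F.map ((CW D hD i₀ hV p).map ψ).op a =
        F.map ((CW D hD i₀ hV p).map ψ).op b) :=
  lp_restrict F (U j) (hloc j) (CW D hD i₀ hV p)
    (fun k => Waff (D ⋙ yon S) (hDa D hD) i₀ hV p k) cW hlimW hpt (τ D hD i₀ hV p σ)

variable {κ : Type u} [Fintype κ] (V : κ → Over S) (hV : ∀ m, IsAffine (V m).left)
  (v : ∀ m, V m ⟶ D.obj i₀) (j : κ → ι) (σ : ∀ m, V m ⟶ U (j m))
  (hvfl : ∀ m, Flat (v m).left) (hvfp : ∀ m, LocallyOfFinitePresentation (v m).left)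
  (hvs : ∀ t : (D.obj i₀).left, ∃ m, t ∈ Set.range (v m).left)

omit [IsCofiltered I] [Fintype κ] in
include hvfl hvfp hvs in
/-- the chart systems cover every stage. -/
theorem cover_stage (k : Over i₀) :
    Sieve.ofArrows (fun m => (CW D hD i₀ (hV m) ((yon S).map (v m))).obj k)
      (fun m => cw D hD i₀ (hV m) ((yon S).map (v m)) k) ∈ AlgSp.J S (D.obj k.left) := by
  refine ofArrows_mem_J _ _ (fun m => ?_) (fun m => ?_) (fun d => ?_)
  · refine flat_cw D hD i₀ (hV m) _ ?_ k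
    rw [Functor.preimage_map]
    exact hvfl m
  · refine lfp_cw D hD i₀ (hV m) _ ?_ k
    rw [Functor.preimage_map]
    exact hvfp m
  · obtain ⟨m, hm⟩ := hvs ((D.map k.hom).left d)
    refine ⟨m, mem_range_cw D hD i₀ (hV m) _ k d ?_⟩
    rw [Functor.preimage_map]
    exact hm

include hF hloc hD hc hV j σ hvfl hvfp hvs in
/-- injectivity part -/
theorem inj_part (x y : F.obj (op (D.obj i₀)))
    (hxy : F.map (c.π.app i₀).op x = F.map (c.π.app i₀).op y) :
    ∃ (k : I) (φ : k ⟶ i₀), F.map (D.map φ).op x = F.map (D.map φ).op y := by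
  classical
  have cd := fun m => exists_chart_data' (D ⋙ yon S) (hDa D hD) ((yon S).mapCone c)
    (isLimit_yon D c hc) i₀ (hV m) ((yon S).map (v m))
  choose cW hcW fstW hcWaff hlimW sqW sq₀ using cd
  have hcone : ∀ m k, (cW m).π.app k ≫ cw D hD i₀ (hV m) ((yon S).map (v m)) k =
      (yon S).preimage (fstW m) ≫ c.π.app k.left := by
    intro m k
    apply (yon S).map_injective
    rw [Functor.map_comp, Functor.map_comp, yon_cw, Functor.map_preimage]
    exact (sqW m k).w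
  obtain ⟨k', θ, hθ⟩ := finite_refinement (C := Over i₀) (k := Over.mk (𝟙 i₀))
    (Finset.univ : Finset κ)
    (fun m {k'} θ => F.map ((CW D hD i₀ (hV m) ((yon S).map (v m))).map θ).op
        (F.map (cw D hD i₀ (hV m) ((yon S).map (v m)) (Over.mk (𝟙 i₀))).op x) =
      F.map ((CW D hD i₀ (hV m) ((yon S).map (v m))).map θ).op
        (F.map (cw D hD i₀ (hV m) ((yon S).map (v m)) (Over.mk (𝟙 i₀))).op y))
    (fun m k' k'' θ ψ h => by
      rw [Functor.map_comp]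
      exact map_comp_eq _ _ h)
    (fun m k' θ => by
      obtain ⟨hlimWm⟩ := hlimW m
      have e : ∀ z : F.obj (op (D.obj i₀)), F.map ((cW m).π.app k').op
          (F.map ((CW D hD i₀ (hV m) ((yon S).map (v m))).map θ).op
            (F.map (cw D hD i₀ (hV m) ((yon S).map (v m)) (Over.mk (𝟙 i₀))).op z)) =
          F.map ((yon S).preimage (fstW m)).op (F.map (c.π.app i₀).op z) := fun z =>
        map3_eq _ _ _ _ _ (by
          rw [← Category.assoc, (cW m).w θ]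
          exact hcone m (Over.mk (𝟙 i₀))) z
      obtain ⟨k'', ψ, hψ⟩ := (chart_lp F U hloc D hD i₀ (hV m) ((yon S).map (v m)) (j m) (σ m)
        (cW m) hlimWm (hcWaff m)).2 k' _ _ ((e x).trans ((congrArg _ hxy).trans (e y).symm))
      refine ⟨k'', ψ, ?_⟩
      rw [Functor.map_comp]
      exact (map_map_apply _ _ _).symm.trans (hψ.trans (map_map_apply _ _ _)))
  refine ⟨k'.left, θ.left, ?_⟩
  refine ext_of_arrows hF _ _ (cover_stage D hD i₀ V hV v hvfl hvfp hvs k') _ _ (fun m => ?_)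
  have e := fun z => map_eq_of_comp_eq (F := F) (cw D hD i₀ (hV m) ((yon S).map (v m)) k')
    (D.map θ.left) ((CW D hD i₀ (hV m) ((yon S).map (v m))).map θ)
    (cw D hD i₀ (hV m) ((yon S).map (v m)) (Over.mk (𝟙 i₀)))
    (cw_naturality D hD i₀ (hV m) ((yon S).map (v m)) θ).symm z
  exact (e x).trans ((hθ m (Finset.mem_univ m)).trans (e y).symm)

omit [IsCofiltered I] [Fintype κ] in
include hvfl hvfp hvs in
/-- the limits of the chart systems cover the limit. -/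
theorem cover_limit (cW : ∀ m, Cone (CW D hD i₀ (hV m) ((yon S).map (v m))))
    (fstW : ∀ m, (yon S).obj (cW m).pt ⟶ ((yon S).mapCone c).pt)
    (sq₀ : ∀ m, IsPullback (fstW m)
      ((yon S).map ((cW m).π.app (Over.mk (𝟙 i₀)) ≫
        Wι (D ⋙ yon S) (hDa D hD) i₀ (hV m) ((yon S).map (v m)) (Over.mk (𝟙 i₀))))
      (((yon S).mapCone c).π.app i₀) ((yon S).map (v m))) :
    Sieve.ofArrows (fun m => (cW m).pt) (fun m => (yon S).preimage (fstW m)) ∈ AlgSp.J S c.pt := by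
  have sqO : ∀ m, IsPullback ((yon S).preimage (fstW m))
      ((cW m).π.app (Over.mk (𝟙 i₀)) ≫
        Wι (D ⋙ yon S) (hDa D hD) i₀ (hV m) ((yon S).map (v m)) (Over.mk (𝟙 i₀)))
      (c.π.app i₀) (v m) := by
    intro m
    have sq' : IsPullback ((yon S).map ((yon S).preimage (fstW m)))
        ((yon S).map ((cW m).π.app (Over.mk (𝟙 i₀)) ≫
          Wι (D ⋙ yon S) (hDa D hD) i₀ (hV m) ((yon S).map (v m)) (Over.mk (𝟙 i₀))))
        ((yon S).map (c.π.app i₀)) ((yon S).map (v m)) := by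
      rw [Functor.map_preimage]
      exact sq₀ m
    refine IsPullback.of_map (yon S) ((yon S).map_injective ?_) sq'
    rw [Functor.map_comp, Functor.map_comp]
    exact sq'.w
  have sqS := fun m => (sqO m).map (Over.forget S)
  refine ofArrows_mem_J _ _ (fun m => ?_) (fun m => ?_) (fun t => ?_)
  · exact MorphismProperty.of_isPullback (P := @Flat) (sqS m).flip (hvfl m)
  · exact MorphismProperty.of_isPullback (P := @LocallyOfFinitePresentation) (sqS m).flip (hvfp m)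
  · obtain ⟨m, y, hy⟩ := hvs ((c.π.app i₀).left t)
    obtain ⟨z, hz, -⟩ := Groth.Agent.Lib.Helper12.FppfRefine.exists_preimage_of_isPullback
      (sqS m) t y hy.symm
    exact ⟨m, z, hz⟩

include hloc hD hc in
/-- agreement on the overlap of two charts at a later stage. -/
theorem pair_step {V₁ V₂ : Over S} (hV₁ : IsAffine V₁.left) (hV₂ : IsAffine V₂.left)
    (v₁ : V₁ ⟶ D.obj i₀) (v₂ : V₂ ⟶ D.obj i₀) (j₁ : ι) (σ₁ : V₁ ⟶ U j₁)
    (cW₁ : Cone (CW D hD i₀ hV₁ ((yon S).map v₁))) (hcW₁ : IsLimit cW₁)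
    (fstW₁ : (yon S).obj cW₁.pt ⟶ ((yon S).mapCone c).pt)
    (sqW₁ : ∀ k : Over i₀, IsPullback ((yon S).map (cW₁.π.app k)) fstW₁
      (Wfst (D ⋙ yon S) (hDa D hD) i₀ hV₁ ((yon S).map v₁) k) (((yon S).mapCone c).π.app k.left))
    (cW₂ : Cone (CW D hD i₀ hV₂ ((yon S).map v₂))) (hcW₂ : IsLimit cW₂)
    (fstW₂ : (yon S).obj cW₂.pt ⟶ ((yon S).mapCone c).pt)
    (sqW₂ : ∀ k : Over i₀, IsPullback ((yon S).map (cW₂.π.app k)) fstW₂
      (Wfst (D ⋙ yon S) (hDa D hD) i₀ hV₂ ((yon S).map v₂) k) (((yon S).mapCone c).π.app k.left))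
    (x : F.obj (op c.pt)) (k : Over i₀)
    (y₁ : F.obj (op ((CW D hD i₀ hV₁ ((yon S).map v₁)).obj k)))
    (y₂ : F.obj (op ((CW D hD i₀ hV₂ ((yon S).map v₂)).obj k)))
    (h₁ : F.map (cW₁.π.app k).op y₁ = F.map ((yon S).preimage fstW₁).op x)
    (h₂ : F.map (cW₂.π.app k).op y₂ = F.map ((yon S).preimage fstW₂).op x)
    {k' : Over i₀} (θ : k' ⟶ k) :
    ∃ (k'' : Over i₀) (ψ' : k'' ⟶ k'), ∀ (Z : Over S)
      (g₁ : Z ⟶ (CW D hD i₀ hV₁ ((yon S).map v₁)).obj k'')
      (g₂ : Z ⟶ (CW D hD i₀ hV₂ ((yon S).map v₂)).obj k''),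
      g₁ ≫ cw D hD i₀ hV₁ ((yon S).map v₁) k'' = g₂ ≫ cw D hD i₀ hV₂ ((yon S).map v₂) k'' →
      F.map g₁.op (F.map ((CW D hD i₀ hV₁ ((yon S).map v₁)).map (ψ' ≫ θ)).op y₁) =
      F.map g₂.op (F.map ((CW D hD i₀ hV₂ ((yon S).map v₂)).map (ψ' ≫ θ)).op y₂) := by
  obtain ⟨V₁₂, r₁, r₂, hV₁₂, sqP⟩ := exists_pair_chart (hD i₀) hV₁ hV₂ v₁ v₂
  obtain ⟨cW₃, hcW₃, fstW₃, hcWaff₃, ⟨hlimW₃⟩, sqW₃, -⟩ :=
    exists_chart_data' (D ⋙ yon S) (hDa D hD) ((yon S).mapCone c) (isLimit_yon D c hc) i₀ hV₁₂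
      ((yon S).map r₁ ≫ (yon S).map v₁)
  obtain ⟨ρinf₁, hρ₁fac, hρ₁fst⟩ := exists_limit_map (D ⋙ yon S) (hDa D hD) i₀ hV₁ hV₁₂
    ((yon S).map v₁) ((yon S).map r₁ ≫ (yon S).map v₁) r₁ rfl ((yon S).mapCone c)
    (isLimit_yon D c hc) cW₁ hcW₁ fstW₁ sqW₁ cW₃ fstW₃ sqW₃
  obtain ⟨ρinf₂, hρ₂fac, hρ₂fst⟩ := exists_limit_map (D ⋙ yon S) (hDa D hD) i₀ hV₂ hV₁₂
    ((yon S).map v₂) ((yon S).map r₁ ≫ (yon S).map v₁) r₂ sqP.w ((yon S).mapCone c)
    (isLimit_yon D c hc) cW₂ hcW₂ fstW₂ sqW₂ cW₃ fstW₃ sqW₃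
  -- both restrictions to the pair chart system agree at the limit
  have limA : F.map (cW₃.π.app k').op
      (F.map (Wρ (D ⋙ yon S) (hDa D hD) i₀ hV₁ hV₁₂ ((yon S).map v₁)
        ((yon S).map r₁ ≫ (yon S).map v₁) r₁ rfl k').op
        (F.map ((CW D hD i₀ hV₁ ((yon S).map v₁)).map θ).op y₁)) =
      F.map ((yon S).preimage fstW₃).op x := by
    have e1 := map3_eq (F := F) (cW₃.π.app k')
      (Wρ (D ⋙ yon S) (hDa D hD) i₀ hV₁ hV₁₂ ((yon S).map v₁)
        ((yon S).map r₁ ≫ (yon S).map v₁) r₁ rfl k')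
      ((CW D hD i₀ hV₁ ((yon S).map v₁)).map θ) ρinf₁ (cW₁.π.app k)
      (by rw [← Category.assoc, ← hρ₁fac k', Category.assoc, cW₁.w θ]) y₁
    have e2 : ρinf₁ ≫ (yon S).preimage fstW₁ = (yon S).preimage fstW₃ := by
      apply (yon S).map_injective
      rw [Functor.map_comp, Functor.map_preimage, Functor.map_preimage]
      exact hρ₁fst
    refine e1.trans ((congrArg (F.map ρinf₁.op) h₁).trans ((map_map_apply _ _ _).trans ?_))
    rw [e2]
  have limB : F.map (cW₃.π.app k').op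
      (F.map (Wρ (D ⋙ yon S) (hDa D hD) i₀ hV₂ hV₁₂ ((yon S).map v₂)
        ((yon S).map r₁ ≫ (yon S).map v₁) r₂ sqP.w k').op
        (F.map ((CW D hD i₀ hV₂ ((yon S).map v₂)).map θ).op y₂)) =
      F.map ((yon S).preimage fstW₃).op x := by
    have e1 := map3_eq (F := F) (cW₃.π.app k')
      (Wρ (D ⋙ yon S) (hDa D hD) i₀ hV₂ hV₁₂ ((yon S).map v₂)
        ((yon S).map r₁ ≫ (yon S).map v₁) r₂ sqP.w k')
      ((CW D hD i₀ hV₂ ((yon S).map v₂)).map θ) ρinf₂ (cW₂.π.app k)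
      (by rw [← Category.assoc, ← hρ₂fac k', Category.assoc, cW₂.w θ]) y₂
    have e2 : ρinf₂ ≫ (yon S).preimage fstW₂ = (yon S).preimage fstW₃ := by
      apply (yon S).map_injective
      rw [Functor.map_comp, Functor.map_preimage, Functor.map_preimage]
      exact hρ₂fst
    refine e1.trans ((congrArg (F.map ρinf₂.op) h₂).trans ((map_map_apply _ _ _).trans ?_))
    rw [e2]
  obtain ⟨k'', ψ', hψ'⟩ := (chart_lp F U hloc D hD i₀ hV₁₂ ((yon S).map r₁ ≫ (yon S).map v₁) j₁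
    (r₁ ≫ σ₁) cW₃ hlimW₃ hcWaff₃).2 k' _ _ (limA.trans limB.symm)
  refine ⟨k'', ψ', fun Z g₁ g₂ hg => ?_⟩
  obtain ⟨l, hl₁, hl₂⟩ := pair_lift (D ⋙ yon S) (hDa D hD) i₀ hV₁ hV₂ hV₁₂
    ((yon S).map v₁) ((yon S).map v₂) r₁ r₂ sqP k'' g₁ g₂ (by
      rw [← yon_cw D hD i₀ hV₁ ((yon S).map v₁) k'', ← yon_cw D hD i₀ hV₂ ((yon S).map v₂) k'',
        ← Functor.map_comp, ← Functor.map_comp, hg])
  have eA := map23_eq (F := F) g₁ ((CW D hD i₀ hV₁ ((yon S).map v₁)).map (ψ' ≫ θ))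
    (l ≫ (CW D hD i₀ hV₁₂ ((yon S).map r₁ ≫ (yon S).map v₁)).map ψ')
    (Wρ (D ⋙ yon S) (hDa D hD) i₀ hV₁ hV₁₂ ((yon S).map v₁)
      ((yon S).map r₁ ≫ (yon S).map v₁) r₁ rfl k')
    ((CW D hD i₀ hV₁ ((yon S).map v₁)).map θ) (by
      rw [← hl₁, Functor.map_comp, Category.assoc, Category.assoc, ← Category.assoc _ _
        ((CW D hD i₀ hV₁ ((yon S).map v₁)).map θ), ← Wρ_naturality, Category.assoc]) y₁
  have eB := map23_eq (F := F) g₂ ((CW D hD i₀ hV₂ ((yon S).map v₂)).map (ψ' ≫ θ))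
    (l ≫ (CW D hD i₀ hV₁₂ ((yon S).map r₁ ≫ (yon S).map v₁)).map ψ')
    (Wρ (D ⋙ yon S) (hDa D hD) i₀ hV₂ hV₁₂ ((yon S).map v₂)
      ((yon S).map r₁ ≫ (yon S).map v₁) r₂ sqP.w k')
    ((CW D hD i₀ hV₂ ((yon S).map v₂)).map θ) (by
      rw [← hl₂, Functor.map_comp, Category.assoc, Category.assoc, ← Category.assoc _ _
        ((CW D hD i₀ hV₂ ((yon S).map v₂)).map θ), ← Wρ_naturality, Category.assoc]) y₂
  refine eA.trans (Eq.trans ?_ eB.symm)
  refine (map_map_apply l _ _).symm.trans (Eq.trans ?_ (map_map_apply l _ _))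
  exact congrArg (F.map l.op) hψ'

include hF hloc hD hc hV j σ hvfl hvfp hvs in
/-- surjectivity part -/
theorem surj_part (x : F.obj (op c.pt)) :
    ∃ (k : I) (ξ : F.obj (op (D.obj k))), F.map (c.π.app k).op ξ = x := by
  classical
  have cd := fun m => exists_chart_data' (D ⋙ yon S) (hDa D hD) ((yon S).mapCone c)
    (isLimit_yon D c hc) i₀ (hV m) ((yon S).map (v m))
  choose cW hcW fstW hcWaff hlimW sqW sq₀ using cd
  have hcone : ∀ m k, (cW m).π.app k ≫ cw D hD i₀ (hV m) ((yon S).map (v m)) k =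
      (yon S).preimage (fstW m) ≫ c.π.app k.left := by
    intro m k
    apply (yon S).map_injective
    rw [Functor.map_comp, Functor.map_comp, yon_cw, Functor.map_preimage]
    exact (sqW m k).w
  -- descend the restrictions of `x` to the charts
  have h2 : ∀ m, ∃ (k : Over i₀) (y : F.obj (op ((CW D hD i₀ (hV m) ((yon S).map (v m))).obj k))),
      F.map ((cW m).π.app k).op y = F.map ((yon S).preimage (fstW m)).op x := fun m => by
    obtain ⟨hl⟩ := hlimW m
    exact (chart_lp F U hloc D hD i₀ (hV m) _ (j m) (σ m) (cW m) hl (hcWaff m)).1 _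
  choose kk yy hyy using h2
  obtain ⟨k, hk⟩ := IsCofiltered.inf_objs_exists (Finset.univ.image kk)
  have ψ : ∀ m, k ⟶ kk m := fun m => (hk (Finset.mem_image_of_mem kk (Finset.mem_univ m))).some
  have hy' : ∀ m, F.map ((cW m).π.app k).op
      (F.map ((CW D hD i₀ (hV m) ((yon S).map (v m))).map (ψ m)).op (yy m)) =
      F.map ((yon S).preimage (fstW m)).op x := fun m => by
    refine (map_map_apply _ _ _).trans ?_
    rw [(cW m).w (ψ m)]
    exact hyy m
  -- agreement on all overlaps at a common stage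
  obtain ⟨k', θ, hθ⟩ := finite_refinement (C := Over i₀) (k := k)
    (Finset.univ : Finset (κ × κ))
    (fun mm {k'} θ => ∀ (Z : Over S)
      (g₁ : Z ⟶ (CW D hD i₀ (hV mm.1) ((yon S).map (v mm.1))).obj k')
      (g₂ : Z ⟶ (CW D hD i₀ (hV mm.2) ((yon S).map (v mm.2))).obj k'),
      g₁ ≫ cw D hD i₀ (hV mm.1) ((yon S).map (v mm.1)) k' =
        g₂ ≫ cw D hD i₀ (hV mm.2) ((yon S).map (v mm.2)) k' →
      F.map g₁.op (F.map ((CW D hD i₀ (hV mm.1) ((yon S).map (v mm.1))).map θ).op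
        (F.map ((CW D hD i₀ (hV mm.1) ((yon S).map (v mm.1))).map (ψ mm.1)).op (yy mm.1))) =
      F.map g₂.op (F.map ((CW D hD i₀ (hV mm.2) ((yon S).map (v mm.2))).map θ).op
        (F.map ((CW D hD i₀ (hV mm.2) ((yon S).map (v mm.2))).map (ψ mm.2)).op (yy mm.2))))
    (fun mm k' k'' θ ψ' h Z g₁ g₂ hg => by
      have h' := h Z (g₁ ≫ (CW D hD i₀ (hV mm.1) ((yon S).map (v mm.1))).map ψ')
        (g₂ ≫ (CW D hD i₀ (hV mm.2) ((yon S).map (v mm.2))).map ψ') (by
          rw [Category.assoc, Category.assoc, cw_naturality, cw_naturality, ← Category.assoc,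
            ← Category.assoc, hg])
      refine (map_eq_of_comp_eq _ _ _ _ ?_ _).trans (h'.trans (map_eq_of_comp_eq _ _ _ _ ?_ _))
      · rw [Functor.map_comp, Category.assoc]
      · rw [Functor.map_comp, Category.assoc])
    (fun mm k' θ => by
      obtain ⟨hl⟩ := hlimW mm.1
      exact pair_step F U hloc D hD c hc i₀ (hV mm.1) (hV mm.2) (v mm.1) (v mm.2) (j mm.1)
        (σ mm.1) (cW mm.1) (hcW mm.1) (fstW mm.1) (sqW mm.1) (cW mm.2) (hcW mm.2) (fstW mm.2)
        (sqW mm.2) x k _ _ (hy' mm.1) (hy' mm.2) θ)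
  -- glue
  have hcompat : Presieve.Arrows.Compatible F
      (fun m => cw D hD i₀ (hV m) ((yon S).map (v m)) k')
      (fun m => F.map ((CW D hD i₀ (hV m) ((yon S).map (v m))).map θ).op
        (F.map ((CW D hD i₀ (hV m) ((yon S).map (v m))).map (ψ m)).op (yy m))) := by
    intro m m' Z g₁ g₂ hg
    exact hθ (m, m') (Finset.mem_univ _) Z g₁ g₂ hg
  obtain ⟨ξ, hξ, -⟩ := existsUnique_of_arrows hF _ _
    (cover_stage D hD i₀ V hV v hvfl hvfp hvs k') _ hcompat
  refine ⟨k'.left, ξ, ?_⟩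
  refine ext_of_arrows hF _ _ (cover_limit D hD c i₀ V hV v hvfl hvfp hvs cW fstW sq₀) _ _
    (fun m => ?_)
  have e1 := map_eq_of_comp_eq (F := F) ((yon S).preimage (fstW m)) (c.π.app k'.left)
    ((cW m).π.app k') (cw D hD i₀ (hV m) ((yon S).map (v m)) k') (hcone m k').symm ξ
  refine e1.trans ?_
  refine (congrArg (F.map ((cW m).π.app k').op) (hξ m)).trans ?_
  refine (map_map_apply _ _ _).trans ?_
  rw [(cW m).w θ]
  exact hy' m

end Stage

/-- Let `F` be an fppf sheaf of sets on schemes over `S` and `{U_j ⟶ S}` an fppf covering (flat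
morphisms locally of finite presentation, jointly surjective). If the restriction of `F` to schemes
over each `U_j` is limit preserving, then `F` is limit preserving. -/
theorem result (S : Scheme.{u}) (F : AlgSp.PSp S)
    (hF : Presheaf.IsSheaf (AlgSp.J S) F) {ι : Type u} (U : ι → Over S)
    (hfl : ∀ j, Flat (U j).hom) (hfp : ∀ j, LocallyOfFinitePresentation (U j).hom)
    (hsurj : ∀ s : ↥S, ∃ (j : ι) (x : ↥(U j).left), (U j).hom.base x = s)
    (hloc : ∀ j, AlgSp.IsLimitPreserving (S := (U j).left) ((Over.map (U j).hom).op ⋙ F)) :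
    AlgSp.IsLimitPreserving F := by
  intro I _ _ D c hc hD hT
  have hF' : Presieve.IsSheaf (AlgSp.J S) F := (isSheaf_iff_isSheaf_of_type _ _).1 hF
  have data : ∀ i₀ : I, ∃ (κ : Type u) (_ : Fintype κ) (V : κ → Over S) (v : ∀ m, V m ⟶ D.obj i₀)
      (j : κ → ι) (_ : ∀ m, V m ⟶ U (j m)),
      (∀ m, IsAffine (V m).left) ∧ (∀ m, Flat (v m).left) ∧
      (∀ m, LocallyOfFinitePresentation (v m).left) ∧
      ∀ t : (D.obj i₀).left, ∃ m, t ∈ Set.range (v m).left := fun i₀ => by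
    haveI : CompactSpace (D.obj i₀).left := by
      haveI := hD i₀
      infer_instance
    exact exists_finite_affine_family U hfl hfp hsurj
  refine ⟨Types.FilteredColimit.isColimitOf' _ _ ?_ ?_⟩
  · intro x
    obtain ⟨i₀⟩ : Nonempty I := IsCofiltered.nonempty
    obtain ⟨κ, _, V, v, j, σ, hV, hvfl, hvfp, hvs⟩ := data i₀
    obtain ⟨k, ξ, hξ⟩ := surj_part F hF' U hloc D hD c hc i₀ V hV v j σ hvfl hvfp hvs x
    exact ⟨op k, ξ, hξ.symm⟩
  · rintro ⟨i⟩ x y hxy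
    obtain ⟨κ, _, V, v, j, σ, hV, hvfl, hvfp, hvs⟩ := data i
    obtain ⟨k, φ, h⟩ := inj_part F hF' U hloc D hD c hc i V hV v j σ hvfl hvfp hvs x y hxy
    exact ⟨op k, φ.op, h⟩

end Groth.Agent.S10030
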