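import Groth.Statements.S10412
import Mathlib
import Groth.Agent.S10127
import Groth.Agent.S10176
import Groth.Agent.S10177
import Groth.Agent.S10195
import Groth.Agent.S10196
import Groth.Agent.S9928

set_option autoImplicit false
universe u
open CategoryTheory CategoryTheory.Limits AlgebraicGeometry Topology TopologicalSpace
open AlgSp


namespace Groth.Agent.S10412Aux

lemma exists_preimage_of_isPullback {A X Y Z : Scheme.{u}} {fst : A ⟶ X} {snd : A ⟶ Y}
    {f : X ⟶ Z} {g : Y ⟶ Z} (sq : IsPullback fst snd f g) (x : X) (y : Y) (h : f x = g y) :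
    ∃ a : A, fst a = x ∧ snd a = y := by
  obtain ⟨z, hz1, hz2⟩ := Scheme.Pullback.exists_preimage_pullback x y h
  refine ⟨sq.isoPullback.inv z, ?_, ?_⟩
  · rw [← Scheme.Hom.comp_apply, sq.isoPullback_inv_fst]; exact hz1
  · rw [← Scheme.Hom.comp_apply, sq.isoPullback_inv_snd]; exact hz2

/-- quasi-compactness descends along surjective flat morphisms locally of finite presentation
(they are open). -/
lemma descendsAlong_quasiCompact_fppf :
    MorphismProperty.DescendsAlong (@QuasiCompact : MorphismProperty Scheme.{u})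
      (@Surjective ⊓ @Flat ⊓ @LocallyOfFinitePresentation) where
  of_isPullback := by
    intro A X Y Z fst snd f g sq hf hfst
    obtain ⟨⟨hs, hfl⟩, hlfp⟩ := hf
    haveI : Surjective f := hs
    haveI : Flat f := hfl
    haveI : LocallyOfFinitePresentation f := hlfp
    haveI : QuasiCompact fst := hfst
    haveI : UniversallyOpen f := UniversallyOpen.of_flat f
    refine ⟨fun U hU hUc => ?_⟩
    -- for each point of `U` choose an affine open of `X` in the preimage of `U` hitting it
    have hex : ∀ z : ↥U, ∃ W : X.Opens, IsAffineOpen W ∧ (W : Set X) ⊆ f ⁻¹' U ∧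
        (z : Z) ∈ f '' (W : Set X) := by
      intro z
      obtain ⟨x, hx⟩ := f.surjective z.1
      have hxU : x ∈ (⟨f ⁻¹' U, hU.preimage f.continuous⟩ : X.Opens) := by
        show f x ∈ U
        rw [hx]; exact z.2
      obtain ⟨W, hW, hxW, hWU⟩ := X.isBasis_affineOpens.exists_subset_of_mem_open hxU
        (hU.preimage f.continuous)
      obtain ⟨W', hW', rfl⟩ := hW
      exact ⟨W', hW', hWU, x, hxW, hx⟩
    choose W hW hWU hzW using hex
    obtain ⟨t, ht⟩ := hUc.elim_finite_subcover (fun z : ↥U => f '' (W z : Set X))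
      (fun z => f.isOpenMap _ (W z).2) (fun z hz => Set.mem_iUnion.2 ⟨⟨z, hz⟩, hzW ⟨z, hz⟩⟩)
    have heq : g ⁻¹' U = ⋃ z ∈ t, snd '' (fst ⁻¹' (W z : Set X)) := by
      ext y
      simp only [Set.mem_preimage, Set.mem_iUnion, Set.mem_image]
      constructor
      · intro hy
        obtain ⟨z, hzt, w, hw, hwy⟩ := Set.mem_iUnion₂.1 (ht hy)
        obtain ⟨a, ha1, ha2⟩ := exists_preimage_of_isPullback sq w y hwy
        exact ⟨z, hzt, a, by rw [ha1]; exact hw, ha2⟩
      · rintro ⟨z, hzt, a, ha, rfl⟩
        have : g (snd a) = f (fst a) := by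
          rw [← Scheme.Hom.comp_apply, ← sq.w, Scheme.Hom.comp_apply]
        rw [this]
        exact hWU z ha
    rw [heq]
    exact t.isCompact_biUnion fun z _ =>
      (fst.isCompact_preimage (hW z).isCompact).image snd.continuous

/-- a pullback square stays a pullback square after composing with a monomorphism. -/
lemma isPullback_comp_mono {C : Type*} [Category C] {P A B X' X : C} {fst : P ⟶ A} {snd : P ⟶ B}
    {f : A ⟶ X'} {g : B ⟶ X'} (i : X' ⟶ X) [Mono i] (sq : IsPullback fst snd f g) :
    IsPullback fst snd (f ≫ i) (g ≫ i) :=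
  IsPullback.of_isLimit' ⟨by rw [← Category.assoc, sq.w, Category.assoc]⟩
    (PullbackCone.IsLimit.mk _
      (fun s => sq.lift s.fst s.snd (by
        rw [← cancel_mono i, Category.assoc, Category.assoc]; exact s.condition))
      (fun s => sq.lift_fst _ _ _) (fun s => sq.lift_snd _ _ _)
      (fun s m h1 h2 => sq.hom_ext (by rw [h1, sq.lift_fst]) (by rw [h2, sq.lift_snd])))

end Groth.Agent.S10412Aux

namespace Groth.Agent.S10412

/-- For an algebraic space X over a scheme S the following are equivalent: (1) X has a Zariski covering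
by open subspaces X_i, each X_i admitting a surjective, etale and quasi-compact morphism U_i ⟶ X_i
with U_i a scheme; (2) there are etale morphisms U_i ⟶ X from schemes, jointly surjective, such that
for each i both projection morphisms from U_i ×_X U_i to U_i are quasi-compact. -/
theorem result {S : Scheme.{u}} (X : AlgSp.Space S) :
    (∃ (ι : Type u) (Xi : ι → AlgSp.Space S) (j : ∀ i, Xi i ⟶ X) (U : ι → Over S)
        (a : ∀ i, (AlgSp.yon S).obj (U i) ⟶ (Xi i).obj),
        AlgSp.IsZarCover (fun i => (Xi i).obj) (fun i => (j i).hom) ∧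
          ∀ i, AlgSp.RepWith @Etale (a i) ∧ AlgSp.RepWith @Surjective (a i) ∧ AlgSp.RepWith @QuasiCompact (a i)) ↔
      ∃ (ι : Type u) (U : ι → Over S) (φ : ∀ i, (AlgSp.yon S).obj (U i) ⟶ X.obj),
        (∀ i, AlgSp.RepWith @Etale (φ i)) ∧
          (∀ x : AlgSp.Points X.obj, ∃ (i : ι) (v : ↥(U i).left), AlgSp.Points.ofPt (φ i) v = x) ∧
          ∀ (i : ι) (R : Over S) (s t : R ⟶ U i), IsPullback ((AlgSp.yon S).map t) ((AlgSp.yon S).map s) (φ i) (φ i) →
            QuasiCompact s.left ∧ QuasiCompact t.left := by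
  constructor
  · rintro ⟨ι, Xi, j, U, a, hcov, ha⟩
    have hjm : ∀ i, Mono (j i).hom := fun i =>
      Groth.Agent.S9928.mono_of_repWith @IsOpenImmersion
        (fun _ _ g hg => by have : IsOpenImmersion g := hg; infer_instance) (j i).hom (hcov.1 i)
    have hje : ∀ i, AlgSp.RepWith @Etale (j i).hom := fun i =>
      ⟨(hcov.1 i).1, fun _ _ g a b sq' => by
        have : IsOpenImmersion b.left := (hcov.1 i).2 g a b sq'
        exact (inferInstance : Etale b.left)⟩
    refine ⟨ι, U, fun i => a i ≫ (j i).hom, fun i => ?_, fun x => ?_, fun i R s t sq => ?_⟩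
    · exact (AlgSp.repWith_isMultiplicative (S := S) @Etale).comp_mem _ _ (ha i).1 (hje i)
    · obtain ⟨i, xi, rfl⟩ := hcov.2 x
      obtain ⟨v, rfl⟩ := Groth.Agent.S10177.surjective_ofPt (a i) (ha i).2.1 xi
      exact ⟨i, v, (AlgSp.Points.map_ofPt _ _ _).symm⟩
    · haveI := hjm i
      have sq' := Groth.Agent.S10196.isPullback_of_comp_mono (j i).hom sq
      exact ⟨(ha i).2.2.2 _ _ s sq', (ha i).2.2.2 _ _ t sq'.flip⟩
  · rintro ⟨ι, U, φ, hφ, hsurj, hqc⟩
    have hopen : ∀ i, IsOpen (Set.range (AlgSp.Points.ofPt (φ i))) := fun i =>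
      (Groth.Agent.S10176.isOpenMap_ofPt (φ i) (hφ i)).isOpen_range
    choose Xi j hj hjr using fun i => Groth.Agent.S10195.result X _ (hopen i)
    choose a ha hae has _ using fun i =>
      Groth.Agent.S10196.result (φ i) (hφ i) (j i) (hj i) (hjr i)
    refine ⟨ι, Xi, j, U, a, ⟨hj, fun x => ?_⟩, fun i => ⟨hae i, has i, ?_⟩⟩
    · obtain ⟨i, v, rfl⟩ := hsurj x
      refine ⟨i, ?_⟩
      rw [hjr]
      exact ⟨v, rfl⟩
    · haveI := Groth.Agent.S10412Aux.descendsAlong_quasiCompact_fppf.{u}
      haveI : Mono (j i).hom := Groth.Agent.S9928.mono_of_repWith @IsOpenImmersion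
        (fun _ _ g hg => by have : IsOpenImmersion g := hg; infer_instance) (j i).hom (hj i)
      have hrep : AlgSp.Representable (a i) := (hae i).1
      obtain ⟨R, s, fst, sqR⟩ := hrep (a i)
      obtain ⟨t, rfl⟩ := (AlgSp.yon S).map_surjective fst
      have sqX := Groth.Agent.S10412Aux.isPullback_comp_mono (j i).hom sqR
      rw [ha i] at sqX
      exact Groth.Agent.S10127.repWith_of_atlas @QuasiCompact (a i) hrep (a i) (hae i) (has i) s _
        sqR (hqc i R s t sqX).1

end Groth.Agent.S10412
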