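import Groth.Statements.S10511
import Groth.Agent.S9947
import Groth.Agent.S10177
import Groth.Agent.Lib.Helper12LocPCases
import Groth.Agent.Lib.Helper12SmoothST

set_option autoImplicit false
universe u
open CategoryTheory CategoryTheory.Limits AlgebraicGeometry
open AlgSp

namespace Groth.Agent.S10511Aux

variable {S : Scheme.{u}}

/-- the open subscheme `V` of `T` as a scheme over `S`. -/
noncomputable abbrev ov (T : Over S) (V : T.left.Opens) : Over S := Over.mk (V.ι ≫ T.hom)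

/-- the inclusion of the open subscheme. -/
noncomputable abbrev ovι (T : Over S) (V : T.left.Opens) : ov T V ⟶ T := Over.homMk V.ι rfl

/-- the inclusion between open subschemes. -/
noncomputable abbrev ovLE (T : Over S) {V V' : T.left.Opens} (h : V ≤ V') : ov T V ⟶ ov T V' :=
  Over.homMk (T.left.homOfLE h) (by simp)

lemma isPullback_ov (T : Over S) (V V' : T.left.Opens) :
    IsPullback (ovLE T (inf_le_left : V ⊓ V' ≤ V)) (ovLE T (inf_le_right : V ⊓ V' ≤ V'))
      (ovι T V) (ovι T V') :=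
  IsPullback.of_map (Over.forget S) (by ext; simp) (isPullback_opens_inf V V')

lemma ovLE_ovι (T : Over S) {V V' : T.left.Opens} (h : V ≤ V') : ovLE T h ≫ ovι T V' = ovι T V := by
  ext; simp

/-- induction principle for iterated fibre products over `U`. -/
theorem widePullback_induction {U : AlgSp.Sp S}
    (R Q : ∀ ⦃W : AlgSp.Sp S⦄, (W ⟶ U) → Prop)
    (hiso : ∀ ⦃W W' : AlgSp.Sp S⦄ (e : W ≅ W') (b : W' ⟶ U), Q b → Q (e.hom ≫ b))
    (h0 : ∀ ⦃A : AlgSp.Sp S⦄ (f : A ⟶ U), R f → Q f)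
    (hstep : ∀ ⦃W A : AlgSp.Sp S⦄ (b : W ⟶ U) (f : A ⟶ U), Q b → R f →
      ∃ (W' : AlgSp.Sp S) (p : W' ⟶ W) (q : W' ⟶ A), IsPullback p q b f ∧ Q (p ≫ b))
    (n : ℕ) (A : Fin (n + 1) → AlgSp.Sp S) (f : ∀ k, A k ⟶ U) (hf : ∀ k, R (f k)) :
    Q (WidePullback.base f) := by
  induction n with
  | zero =>
    have w0 : ∀ k : Fin (0 + 1), (Fin.cases (motive := fun k => A 0 ⟶ A k) (𝟙 _) (fun k => k.elim0) k) ≫ f k
        = f 0 := by
      intro k
      refine Fin.cases ?_ (fun k => k.elim0) k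
      exact Category.id_comp _
    let inv0 : A 0 ⟶ widePullback U A f :=
      WidePullback.lift (f 0) (fun k => Fin.cases (motive := fun k => A 0 ⟶ A k) (𝟙 _) (fun k => k.elim0) k) w0
    have hl : inv0 ≫ WidePullback.π f 0 = 𝟙 (A 0) := by
      change WidePullback.lift _ _ _ ≫ _ = _
      rw [WidePullback.lift_π]
      rfl
    have hb : inv0 ≫ WidePullback.base f = f 0 := WidePullback.lift_base _ _ _ _
    let E : widePullback U A f ≅ A 0 :=
      { hom := WidePullback.π f 0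
        inv := inv0
        hom_inv_id := by
          apply WidePullback.hom_ext
          · intro k
            refine Fin.cases ?_ (fun k => k.elim0) k
            rw [Category.assoc, hl, Category.comp_id, Category.id_comp]
          · rw [Category.assoc, hb, WidePullback.π_arrow, Category.id_comp]
        inv_hom_id := hl }
    have h := hiso E (f 0) (h0 _ (hf 0))
    have e2 : E.hom ≫ f 0 = WidePullback.base f := WidePullback.π_arrow f 0
    rwa [e2] at h
  | succ n ih =>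
    let A' : Fin (n + 1) → AlgSp.Sp S := fun k => A k.castSucc
    let f' : ∀ k, A' k ⟶ U := fun k => f k.castSucc
    have hQ' : Q (WidePullback.base f') := ih A' f' (fun k => hf _)
    obtain ⟨W', p, q, sq, hQ⟩ := hstep (WidePullback.base f') (f (Fin.last (n + 1))) hQ' (hf _)
    let hom : widePullback U A f ⟶ W' :=
      sq.lift (WidePullback.lift (WidePullback.base f) (fun k : Fin (n + 1) => WidePullback.π f k.castSucc)
        (fun k => WidePullback.π_arrow f _)) (WidePullback.π f (Fin.last (n + 1)))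
        (by rw [WidePullback.lift_base, WidePullback.π_arrow])
    let inv : W' ⟶ widePullback U A f :=
      WidePullback.lift (p ≫ WidePullback.base f')
        (fun k => Fin.lastCases (motive := fun k => W' ⟶ A k) q (fun k => p ≫ WidePullback.π f' k) k)
        (by
          intro k
          refine Fin.lastCases ?_ (fun k => ?_) k
          · simp only [Fin.lastCases_last]
            exact sq.w.symm
          · simp only [Fin.lastCases_castSucc, Category.assoc]
            rw [WidePullback.π_arrow f' k])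
    have hp : hom ≫ p = WidePullback.lift (WidePullback.base f) (fun k : Fin (n + 1) => WidePullback.π f k.castSucc)
        (fun k => WidePullback.π_arrow f _) := by
      change sq.lift _ _ _ ≫ _ = _
      exact sq.lift_fst _ _ _
    have hq : hom ≫ q = WidePullback.π f (Fin.last (n + 1)) := by
      change sq.lift _ _ _ ≫ _ = _
      exact sq.lift_snd _ _ _
    have hbase : inv ≫ WidePullback.base f = p ≫ WidePullback.base f' := WidePullback.lift_base _ _ _ _
    have hπl : inv ≫ WidePullback.π f (Fin.last (n + 1)) = q := by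
      rw [WidePullback.lift_π]
      simp only [Fin.lastCases_last]
    have hπc : ∀ k : Fin (n + 1), inv ≫ WidePullback.π f k.castSucc = p ≫ WidePullback.π f' k := by
      intro k
      rw [WidePullback.lift_π]
      simp only [Fin.lastCases_castSucc]
    let E : widePullback U A f ≅ W' :=
      { hom := hom
        inv := inv
        hom_inv_id := by
          apply WidePullback.hom_ext
          · intro k
            refine Fin.lastCases ?_ (fun k => ?_) k
            · rw [Category.assoc, hπl, hq, Category.id_comp]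
            · rw [Category.assoc, hπc, ← Category.assoc, hp, WidePullback.lift_π, Category.id_comp]
          · rw [Category.assoc, hbase, ← Category.assoc, hp, WidePullback.lift_base, Category.id_comp]
        inv_hom_id := by
          apply sq.hom_ext
          · rw [Category.assoc, hp, Category.id_comp]
            apply WidePullback.hom_ext
            · intro k
              rw [Category.assoc, WidePullback.lift_π, hπc]
            · rw [Category.assoc, WidePullback.lift_base, hbase]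
          · rw [Category.assoc, hq, hπl, Category.id_comp] }
    have h := hiso E _ hQ
    have e2 : E.hom ≫ p ≫ WidePullback.base f' = WidePullback.base f := by
      change hom ≫ p ≫ WidePullback.base f' = _
      rw [← Category.assoc, hp, WidePullback.lift_base]
    rwa [e2] at h


open Groth.Agent.Lib.Helper12.LocPCases in
/-- one step: from a class `K` of schemes to schemes with a basis-like family of opens in `K`. -/
theorem step_open (X : AlgSp.Space S)
    (P : ∀ ⦃U : AlgSp.Sp S⦄, (U ⟶ X.obj) → Prop)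
    (hP : ∀ ⦃U : AlgSp.Sp S⦄ (a : U ⟶ X.obj), AlgSp.IsAlgSpace U →
      ∀ ⦃ι : Type u⦄ (Ui : ι → AlgSp.Sp S) (g : ∀ i, Ui i ⟶ U), (∀ i, AlgSp.IsAlgSpace (Ui i)) →
      AlgSp.IsFppfCover Ui g →
      (∀ (n : ℕ) (c : Fin (n + 1) → ι),
        P (WidePullback.base (fun k : Fin (n + 1) => g (c k)) ≫ a)) → P a)
    (K : Over S → Prop)
    (hK : ∀ ⦃U : AlgSp.Sp S⦄ (a : U ⟶ X.obj) (T : Over S) (_e : U ≅ (AlgSp.yon S).obj T), K T →
      AlgSp.LocP @Flat a → AlgSp.LocP @LocallyOfFinitePresentation a → P a)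
    ⦃U : AlgSp.Sp S⦄ (a : U ⟶ X.obj) (T : Over S) (e : U ≅ (AlgSp.yon S).obj T)
    (B : Set T.left.Opens) (hBinf : ∀ V ∈ B, ∀ V' ∈ B, V ⊓ V' ∈ B)
    (hBcov : ∀ x : T.left, ∃ V ∈ B, x ∈ V) (hBK : ∀ V ∈ B, K (ov T V))
    (hfl : AlgSp.LocP @Flat a) (hfp : AlgSp.LocP @LocallyOfFinitePresentation a) : P a := by
  have hU : AlgSp.IsAlgSpace U := (AlgSp.IsAlgSpace.yon_obj T).of_iso e.symm
  have hgEt : ∀ V : T.left.Opens,
      AlgSp.RepWith @Etale ((AlgSp.yon S).map (ovι T V) ≫ e.inv) := fun V =>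
    ((AlgSp.RepWith @Etale).cancel_right_of_respectsIso _ e.inv).2
      ((AlgSp.repWith_yon_map_iff @Etale _).2 (inferInstanceAs (Etale V.ι)))
  -- the class of opens in `B`
  let QQ : ∀ ⦃W : AlgSp.Sp S⦄, (W ⟶ U) → Prop := fun W f =>
    ∃ V ∈ B, ∃ e' : W ≅ (AlgSp.yon S).obj (ov T V), f = e'.hom ≫ (AlgSp.yon S).map (ovι T V) ≫ e.inv
  have key : ∀ ⦃W : AlgSp.Sp S⦄ (b : W ⟶ U), QQ b → P (b ≫ a) := by
    rintro W b ⟨V, hV, e', rfl⟩
    have hb : AlgSp.RepWith @Etale (e'.hom ≫ (AlgSp.yon S).map (ovι T V) ≫ e.inv) :=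
      ((AlgSp.RepWith @Etale).cancel_left_of_respectsIso e'.hom _).2 (hgEt V)
    exact hK _ (ov T V) e' (hBK V hV)
      (good_flat.locP_comp hU X.property _ a
        (Groth.Agent.S9947.locP_of_repWith_etale _ good_flat.hEt _ hb) hfl)
      (good_lfp.locP_comp hU X.property _ a
        (Groth.Agent.S9947.locP_of_repWith_etale _ good_lfp.hEt _ hb) hfp)
  refine hP a hU (ι := ↥B) (fun V => (AlgSp.yon S).obj (ov T V.1))
    (fun V => (AlgSp.yon S).map (ovι T V.1) ≫ e.inv)
    (fun V => AlgSp.IsAlgSpace.yon_obj _)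
    ⟨fun V => ⟨Groth.Agent.S9947.locP_of_repWith_etale _ good_flat.hEt _ (hgEt V.1),
      Groth.Agent.S9947.locP_of_repWith_etale _ good_lfp.hEt _ (hgEt V.1)⟩, ?_⟩ ?_
  · -- jointly surjective
    intro x
    obtain ⟨V, hV, hx⟩ := hBcov (AlgSp.Points.toScheme T (AlgSp.Points.map e.hom x))
    refine ⟨⟨V, hV⟩, AlgSp.Points.ofScheme (ov T V) ⟨_, hx⟩, ?_⟩
    have h1 : AlgSp.Points.map ((AlgSp.yon S).map (ovι T V))
        (AlgSp.Points.ofScheme (ov T V) ⟨_, hx⟩)
        = AlgSp.Points.ofScheme T (AlgSp.Points.toScheme T (AlgSp.Points.map e.hom x)) :=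
      AlgSp.Points.map_yon_map_apply (ovι T V) ⟨_, hx⟩
    rw [AlgSp.Points.map_comp, h1, AlgSp.Points.ofScheme_toScheme, ← AlgSp.Points.map_comp,
      e.hom_inv_id, AlgSp.Points.map_id]
  · intro n c
    refine key _ (widePullback_induction QQ QQ ?_ (fun _ _ h => h) ?_ n
      (fun k => (AlgSp.yon S).obj (ov T (c k).1))
      (fun k => (AlgSp.yon S).map (ovι T (c k).1) ≫ e.inv)
      (fun k => ⟨(c k).1, (c k).2, Iso.refl _, by simp⟩))
    · rintro W W' E b ⟨V, hV, e', rfl⟩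
      exact ⟨V, hV, E ≪≫ e', by simp⟩
    · rintro W A b f ⟨V, hV, e', rfl⟩ ⟨V', hV', e'', rfl⟩
      refine ⟨(AlgSp.yon S).obj (ov T (V ⊓ V')),
        (AlgSp.yon S).map (ovLE T inf_le_left) ≫ e'.inv,
        (AlgSp.yon S).map (ovLE T inf_le_right) ≫ e''.inv, ?_,
        ⟨V ⊓ V', hBinf V hV V' hV', Iso.refl _, ?_⟩⟩
      · refine IsPullback.of_iso ((isPullback_ov T V V').map (AlgSp.yon S)) (Iso.refl _) e'.symm
          e''.symm e.symm ?_ ?_ ?_ ?_
        · simp
        · simp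
        · simp
        · simp
      · simp only [Iso.refl_hom, Category.id_comp, Category.assoc, Iso.inv_hom_id_assoc]
        rw [← Functor.map_comp_assoc, ovLE_ovι]

/-- stage 1: separated schemes. -/
theorem stage_sep (X : AlgSp.Space S)
    (P : ∀ ⦃U : AlgSp.Sp S⦄, (U ⟶ X.obj) → Prop)
    (hP : ∀ ⦃U : AlgSp.Sp S⦄ (a : U ⟶ X.obj), AlgSp.IsAlgSpace U →
      ∀ ⦃ι : Type u⦄ (Ui : ι → AlgSp.Sp S) (g : ∀ i, Ui i ⟶ U), (∀ i, AlgSp.IsAlgSpace (Ui i)) →
      AlgSp.IsFppfCover Ui g →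
      (∀ (n : ℕ) (c : Fin (n + 1) → ι),
        P (WidePullback.base (fun k : Fin (n + 1) => g (c k)) ≫ a)) → P a)
    (haff : ∀ ⦃U : AlgSp.Sp S⦄ (a : U ⟶ X.obj) (T : Over S) (_e : U ≅ (AlgSp.yon S).obj T),
      IsAffine T.left →
      AlgSp.LocP @Flat a → AlgSp.LocP @LocallyOfFinitePresentation a → P a)
    ⦃U : AlgSp.Sp S⦄ (a : U ⟶ X.obj) (T : Over S) (e : U ≅ (AlgSp.yon S).obj T)
    (hT : T.left.IsSeparated)
    (hfl : AlgSp.LocP @Flat a) (hfp : AlgSp.LocP @LocallyOfFinitePresentation a) : P a := by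
  refine step_open X P hP (fun T => IsAffine T.left) haff a T e {V | IsAffineOpen V}
    (fun V hV V' hV' => IsAffineOpen.inf hV hV') (fun x => ?_) (fun V hV => hV) hfl hfp
  obtain ⟨W, hW, hx, -⟩ := exists_isAffineOpen_mem_and_subset (x := x) (U := ⊤) trivial
  exact ⟨W, hW, hx⟩

/-- stage 2: all schemes. -/
theorem stage_sch (X : AlgSp.Space S)
    (P : ∀ ⦃U : AlgSp.Sp S⦄, (U ⟶ X.obj) → Prop)
    (hP : ∀ ⦃U : AlgSp.Sp S⦄ (a : U ⟶ X.obj), AlgSp.IsAlgSpace U →
      ∀ ⦃ι : Type u⦄ (Ui : ι → AlgSp.Sp S) (g : ∀ i, Ui i ⟶ U), (∀ i, AlgSp.IsAlgSpace (Ui i)) →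
      AlgSp.IsFppfCover Ui g →
      (∀ (n : ℕ) (c : Fin (n + 1) → ι),
        P (WidePullback.base (fun k : Fin (n + 1) => g (c k)) ≫ a)) → P a)
    (haff : ∀ ⦃U : AlgSp.Sp S⦄ (a : U ⟶ X.obj) (T : Over S) (_e : U ≅ (AlgSp.yon S).obj T),
      IsAffine T.left →
      AlgSp.LocP @Flat a → AlgSp.LocP @LocallyOfFinitePresentation a → P a)
    ⦃U : AlgSp.Sp S⦄ (a : U ⟶ X.obj) (T : Over S) (e : U ≅ (AlgSp.yon S).obj T)
    (hfl : AlgSp.LocP @Flat a) (hfp : AlgSp.LocP @LocallyOfFinitePresentation a) : P a := by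
  refine step_open X P hP (fun T => T.left.IsSeparated) (stage_sep X P hP haff) a T e
    {V | ∃ V' : T.left.Opens, IsAffineOpen V' ∧ V ≤ V'}
    (fun V hV V' _ => ?_) (fun x => ?_) (fun V hV => ?_) hfl hfp
  · obtain ⟨V1, h1, hle⟩ := hV
    exact ⟨V1, h1, inf_le_left.trans hle⟩
  · obtain ⟨W, hW, hx, -⟩ := exists_isAffineOpen_mem_and_subset (x := x) (U := ⊤) trivial
    exact ⟨W, ⟨W, hW, le_rfl⟩, hx⟩
  · obtain ⟨V1, h1, hle⟩ := hV
    haveI : IsAffine (V1 : Scheme.{u}) := h1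
    refine ⟨?_⟩
    change IsSeparated (terminal.from (V : Scheme.{u}))
    rw [← terminal.comp_from (T.left.homOfLE hle)]
    infer_instance

open Groth.Agent.Lib.Helper12.LocPCases in
/-- stage 3: all algebraic spaces. -/
theorem stage_sp (X : AlgSp.Space S)
    (P : ∀ ⦃U : AlgSp.Sp S⦄, (U ⟶ X.obj) → Prop)
    (hP : ∀ ⦃U : AlgSp.Sp S⦄ (a : U ⟶ X.obj), AlgSp.IsAlgSpace U →
      ∀ ⦃ι : Type u⦄ (Ui : ι → AlgSp.Sp S) (g : ∀ i, Ui i ⟶ U), (∀ i, AlgSp.IsAlgSpace (Ui i)) →
      AlgSp.IsFppfCover Ui g →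
      (∀ (n : ℕ) (c : Fin (n + 1) → ι),
        P (WidePullback.base (fun k : Fin (n + 1) => g (c k)) ≫ a)) → P a)
    (haff : ∀ ⦃U : AlgSp.Sp S⦄ (a : U ⟶ X.obj) (T : Over S) (_e : U ≅ (AlgSp.yon S).obj T),
      IsAffine T.left →
      AlgSp.LocP @Flat a → AlgSp.LocP @LocallyOfFinitePresentation a → P a)
    ⦃U : AlgSp.Sp S⦄ (a : U ⟶ X.obj) (hU : AlgSp.IsAlgSpace U)
    (hfl : AlgSp.LocP @Flat a) (hfp : AlgSp.LocP @LocallyOfFinitePresentation a) : P a := by
  obtain ⟨V, p, hpe, hps⟩ := hU.atlas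
  let QQ : ∀ ⦃W : AlgSp.Sp S⦄, (W ⟶ U) → Prop := fun W f =>
    ∃ (Z : Over S) (e' : W ≅ (AlgSp.yon S).obj Z), AlgSp.RepWith @Etale (e'.inv ≫ f)
  have key : ∀ ⦃W : AlgSp.Sp S⦄ (b : W ⟶ U), QQ b → P (b ≫ a) := by
    rintro W b ⟨Z, e', hb'⟩
    have hb : AlgSp.RepWith @Etale b :=
      ((AlgSp.RepWith @Etale).cancel_left_of_respectsIso e'.inv _).1 hb'
    exact stage_sch X P hP haff _ Z e'
      (good_flat.locP_comp hU X.property _ a
        (Groth.Agent.S9947.locP_of_repWith_etale _ good_flat.hEt _ hb) hfl)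
      (good_lfp.locP_comp hU X.property _ a
        (Groth.Agent.S9947.locP_of_repWith_etale _ good_lfp.hEt _ hb) hfp)
  refine hP a hU (ι := PUnit.{u + 1}) (fun _ => (AlgSp.yon S).obj V) (fun _ => p)
    (fun _ => AlgSp.IsAlgSpace.yon_obj _)
    ⟨fun _ => ⟨Groth.Agent.S9947.locP_of_repWith_etale _ good_flat.hEt _ hpe,
      Groth.Agent.S9947.locP_of_repWith_etale _ good_lfp.hEt _ hpe⟩, ?_⟩ ?_
  · intro x
    obtain ⟨v, rfl⟩ := Groth.Agent.S10177.surjective_ofPt p hps x
    exact ⟨⟨⟩, AlgSp.Points.ofScheme V v, (AlgSp.Points.ofPt_eq_map_ofScheme p v).symm⟩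
  · intro n c
    refine key _ (widePullback_induction QQ QQ ?_ (fun _ _ h => h) ?_ n
      (fun _ => (AlgSp.yon S).obj V) (fun _ => p)
      (fun k => ⟨V, Iso.refl _, by simpa using hpe⟩))
    · rintro W W' E b ⟨Z, e', hb⟩
      exact ⟨Z, E ≪≫ e', by simpa using hb⟩
    · rintro W A b f ⟨Z, e', hb⟩ ⟨Z', e'', hf⟩
      obtain ⟨Z'', snd, fst, sq⟩ := hf.1 (e'.inv ≫ b)
      have hsnd : Etale snd.left := hf.2 _ _ _ sq
      refine ⟨(AlgSp.yon S).obj Z'', (AlgSp.yon S).map snd ≫ e'.inv, fst ≫ e''.inv, ?_,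
        ⟨Z'', Iso.refl _, ?_⟩⟩
      · refine IsPullback.of_iso sq.flip (Iso.refl _) e'.symm e''.symm (Iso.refl _) ?_ ?_ ?_ ?_
        · simp
        · simp
        · simp
        · simp
      · simp only [Iso.refl_inv, Category.id_comp, Category.assoc]
        exact (AlgSp.repWith_isMultiplicative (S := S) @Etale).comp_mem _ _
          ((AlgSp.repWith_yon_map_iff @Etale _).2 hsnd) (by simpa using hb)

end Groth.Agent.S10511Aux

namespace Groth.Agent.S10511

/-- Let `X` be an algebraic space over `S` and `P` a property of sheaves over `X` such that, for every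
algebraic space `U` over `X` and every fppf covering `{U_i ⟶ U}` by algebraic spaces, `P` holds for
`U` as soon as it holds for all the iterated fibre products `U_{i_0} ×_U ⋯ ×_U U_{i_n}` (`n ≥ 0`,
taken in fppf sheaves) over `X`. If `P` holds for every sheaf over `X` that is isomorphic to an
affine scheme and flat and locally of finite presentation over `X`, then `P` holds for `X`. -/
theorem result {S : Scheme.{u}} (X : AlgSp.Space S)
    (P : ∀ ⦃U : AlgSp.Sp S⦄, (U ⟶ X.obj) → Prop)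
    (hP : ∀ ⦃U : AlgSp.Sp S⦄ (a : U ⟶ X.obj), AlgSp.IsAlgSpace U →
      ∀ ⦃ι : Type u⦄ (Ui : ι → AlgSp.Sp S) (g : ∀ i, Ui i ⟶ U), (∀ i, AlgSp.IsAlgSpace (Ui i)) →
      AlgSp.IsFppfCover Ui g →
      (∀ (n : ℕ) (c : Fin (n + 1) → ι),
        P (WidePullback.base (fun k : Fin (n + 1) => g (c k)) ≫ a)) → P a)
    (haff : ∀ ⦃U : AlgSp.Sp S⦄ (a : U ⟶ X.obj) (T : Over S) (e : U ≅ (AlgSp.yon S).obj T), IsAffine T.left →
      AlgSp.LocP @Flat a → AlgSp.LocP @LocallyOfFinitePresentation a → P a) :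
    P (𝟙 X.obj) := by
  open Groth.Agent.Lib.Helper12.LocPCases in
  exact Groth.Agent.S10511Aux.stage_sp X P hP haff (𝟙 X.obj) X.property
    (Groth.Agent.Lib.Helper12.SmoothST.locP_id _ good_flat.hEt _)
    (Groth.Agent.Lib.Helper12.SmoothST.locP_id _ good_lfp.hEt _)

end Groth.Agent.S10511
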