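import Groth.Statements.S10360
import Groth.Agent.S10127
import Groth.Agent.S10177
import Groth.Agent.S10412
import Groth.Agent.S10511
import Groth.Agent.Lib.Seat46DecentChart

set_option autoImplicit false
universe u
open CategoryTheory CategoryTheory.Limits AlgebraicGeometry Topology TopologicalSpace
open AlgSp

namespace Groth.Agent.S10360

/-- (1) ⇔ (4): for an algebraic space X over a scheme S and x ∈ |X|, the fibres over x of |U| → |X| and
|U ×_X U| → |X| are finite for every etale h_U ⟶ X with U affine, if and only if x is represented by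
a monomorphism Spec k ⟶ X which is representable quasi-compact. -/
theorem result {S : Scheme.{u}} (X : AlgSp.Space S)
    (x : AlgSp.Points X.obj) :
    (∀ (U : Over S) (φ : (AlgSp.yon S).obj U ⟶ X.obj), IsAffine U.left → AlgSp.RepWith @Etale φ →
        ∀ (R : Over S) (s t : R ⟶ U), IsPullback ((AlgSp.yon S).map t) ((AlgSp.yon S).map s) φ φ →
          (AlgSp.Points.ofPt φ ⁻¹' {x}).Finite ∧ (AlgSp.Points.ofPt ((AlgSp.yon S).map t ≫ φ) ⁻¹' {x}).Finite) ↔
      ∃ p : AlgSp.FieldPt X.obj, AlgSp.Points.mk p = x ∧ Mono p.toHom ∧ AlgSp.RepWith @QuasiCompact p.toHom := by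
  open Groth.Agent.Lib.Seat46.DecentChart Groth.Agent.Lib.Seat46.FieldQuot
    Groth.Agent.Lib.Seat46.UBFField Groth.Agent.S10511Aux in
  constructor
  · intro h1
    obtain ⟨U₀, φ₀, hφ₀e, hφ₀s⟩ := X.property.atlas
    -- every affine open of the atlas has finite fibre over `x`
    have hfib : ∀ V : U₀.left.Opens, IsAffineOpen V →
        {v : ↥U₀.left | v ∈ V ∧ AlgSp.Points.ofPt φ₀ v = x}.Finite := by
      intro V hV
      have hφ : AlgSp.RepWith @Etale ((AlgSp.yon S).map (ovι U₀ V) ≫ φ₀) :=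
        (AlgSp.repWith_isMultiplicative (S := S) @Etale).comp_mem _ _
          ((AlgSp.repWith_yon_map_iff @Etale _).2 (inferInstanceAs (Etale V.ι))) hφ₀e
      obtain ⟨R, s, fst, sqR⟩ := hφ.1 ((AlgSp.yon S).map (ovι U₀ V) ≫ φ₀)
      obtain ⟨t, rfl⟩ := (AlgSp.yon S).map_surjective fst
      have hf := (h1 (ov U₀ V) _ hV hφ R s t sqR).1
      refine (hf.image (fun v : ↥(ov U₀ V).left => (ovι U₀ V).left v)).subset ?_
      rintro v ⟨hvV, hvx⟩
      refine ⟨⟨v, hvV⟩, ?_, rfl⟩
      change AlgSp.Points.ofPt _ _ = x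
      rw [Groth.Agent.S10176.ofPt_map_comp]
      exact hvx
    obtain ⟨u₀, hu₀⟩ := Groth.Agent.S10177.surjective_ofPt φ₀ hφ₀s x
    obtain ⟨V, hV, hu₀V, -⟩ := exists_isAffineOpen_mem_and_subset (x := u₀) (U := ⊤) trivial
    have hφ : AlgSp.RepWith @Etale ((AlgSp.yon S).map (ovι U₀ V) ≫ φ₀) :=
      (AlgSp.repWith_isMultiplicative (S := S) @Etale).comp_mem _ _
        ((AlgSp.repWith_yon_map_iff @Etale _).2 (inferInstanceAs (Etale V.ι))) hφ₀e
    obtain ⟨R, s, fst, sqR⟩ := hφ.1 ((AlgSp.yon S).map (ovι U₀ V) ≫ φ₀)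
    obtain ⟨t, rfl⟩ := (AlgSp.yon S).map_surjective fst
    have hfR := (h1 (ov U₀ V) _ hV hφ R s t sqR).2
    let u : ↥(ov U₀ V).left := ⟨u₀, hu₀V⟩
    have hu : AlgSp.Points.ofPt ((AlgSp.yon S).map (ovι U₀ V) ≫ φ₀) u = x := by
      rw [Groth.Agent.S10176.ofPt_map_comp]; exact hu₀
    have hfin : {r : ↥R.left | s.left r = u ∧ t.left r = u}.Finite := by
      refine hfR.subset ?_
      rintro r ⟨-, hr⟩
      change AlgSp.Points.ofPt _ r = x
      rw [Groth.Agent.S10176.ofPt_map_comp, hr]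
      exact hu
    obtain ⟨p, hp, hm, -⟩ := exists_mono_fieldPt_of_chart _ hφ s t sqR u hfin
    refine ⟨p, hp.trans hu, hm, ?_⟩
    have hrep : AlgSp.Representable p.toHom := X.property.representable_from_yon p.toHom
    obtain ⟨T₀, i0, b'', sq⟩ := hrep φ₀
    obtain ⟨c₀, rfl⟩ := (AlgSp.yon S).map_surjective b''
    haveI := Groth.Agent.S10412Aux.descendsAlong_quasiCompact_fppf.{u}
    refine Groth.Agent.S10127.repWith_of_atlas @QuasiCompact p.toHom hrep φ₀ hφ₀e hφ₀s i0 _ sq ?_
    haveI : Mono ((AlgSp.yon S).map i0) := by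
      haveI := hm
      exact sq.mono_snd_of_mono
    haveI : Mono i0 := (AlgSp.yon S).mono_of_mono_map inferInstance
    haveI : Mono i0.left := inferInstance
    rw [quasiCompact_iff_forall_isAffineOpen]
    intro V' hV'
    refine Set.Finite.isCompact ?_
    refine Set.Finite.of_finite_image ((hfib V' hV').subset ?_) i0.left.injective.injOn
    rintro _ ⟨y, hy, rfl⟩
    refine ⟨hy, ?_⟩
    have := range_subset_fibre_of_isPullback φ₀ p c₀ i0 sq ⟨y, rfl⟩
    exact this.trans (hp.trans hu)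
  · rintro ⟨p, hp, hm, hq⟩ U φ hU hφ R s t sqR
    subst hp
    obtain ⟨T, b, fst, sq⟩ := hq.1 φ
    obtain ⟨c, rfl⟩ := (AlgSp.yon S).map_surjective fst
    haveI : QuasiCompact b.left := hq.2 _ _ _ sq
    haveI : CompactSpace ↥T.left := QuasiCompact.compactSpace_of_compactSpace b.left
    haveI : Etale c.left := hφ.2 p.toHom ((AlgSp.yon S).map b) c sq.flip
    haveI : IsFinite c.left := (isAffine_isFinite_of_etale_compact (K := p.K) c.left).2
    haveI : Finite ↥T.left := (finite_discrete_of_isFinite (K := p.K) c.left).1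
    exact ⟨(Set.finite_range _).subset
      (Groth.Agent.Lib.Seat46.UnivBdd.fibre_subset_range_of_isPullback φ p c b sq),
      finite_fibre_kernelPair p φ c b sq s t sqR⟩

end Groth.Agent.S10360
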