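import Groth.Statements.S10018
import Groth.Agent.Lib.Seat44LimDescAff
import Groth.Agent.Lib.Helper12Descent
import Groth.Agent.Lib.Helper12ZarGlue
import Groth.Agent.S9187

set_option autoImplicit false
set_option backward.isDefEq.respectTransparency false
set_option backward.isDefEq.respectTransparency.types false
universe u
open CategoryTheory CategoryTheory.Limits AlgebraicGeometry
open AlgSp

namespace Groth.Agent.S10018

open Groth.Agent.Lib.Seat44.LimDescRep Groth.Agent.Lib.Seat44.LimDescAff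

/-- scheme-level descent of finite morphisms. -/
theorem schDescendsWith_isFinite :
    SchDescendsWith.{u} @LocallyOfFiniteType @IsFinite := by
  intro I _ _ D c hc _ i₀ _ _ X₀ Y₀ f₀ g₀ _ _ _ _ hR X Y f g qY qX hY hX hf
  haveI : LocallyOfFiniteType f₀ := hR
  haveI : IsFinite f := hf
  exact Groth.Agent.S9187.result D c hc i₀ f₀ g₀ f g qY qX hY hX

variable {S : Scheme.{u}}

/-- a finite morphism of sheaves is affine. -/
theorem isAffineMor_of_isFiniteMor {F G : AlgSp.Sp S} (f : F ⟶ G) (hf : AlgSp.IsFiniteMor f) :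
    AlgSp.IsAffineMor f := by
  intro Z hZ g
  obtain ⟨W, i, fst, sq, hW, -⟩ := hf hZ g
  exact ⟨W, i, fst, sq, hW⟩

/-- a finite morphism of sheaves is representable by finite morphisms. -/
theorem repWith_isFinite_of_isFiniteMor {F G : AlgSp.Sp S} (f : F ⟶ G) (hf : AlgSp.IsFiniteMor f) :
    AlgSp.RepWith @IsFinite f :=
  Groth.Agent.Lib.Helper12.ZarGlue.repWith_of_affine @IsFinite f (fun Z hZ g => by
    obtain ⟨W, i, fst, sq, -, hfin⟩ := hf hZ g
    exact ⟨W, i, fst, sq, hfin⟩)

/-- a morphism of sheaves representable by finite morphisms is finite. -/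
theorem isFiniteMor_of_repWith_isFinite {F G : AlgSp.Sp S} (f : F ⟶ G) (hf : AlgSp.RepWith @IsFinite f) :
    AlgSp.IsFiniteMor f := by
  intro Z hZ g
  obtain ⟨W, w, fst, sq⟩ := hf.1 g
  have hfin : IsFinite w.left := hf.2 g fst w sq
  haveI := hZ
  exact ⟨W, w, fst, sq, isAffine_of_isAffineHom w.left, hfin⟩

/-- Let `S` be a quasi-separated scheme and `B` the limit, in fppf sheaves over `S`, of a cofiltered
system `(B_i)` of algebraic spaces over `S` whose transition maps are affine; fix an index `i₀` such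
that `B_{i₀}` is quasi-compact and quasi-separated over `S`, and a morphism `f₀ : X₀ ⟶ Y₀` of
algebraic spaces over `B_{i₀}` whose source and target are quasi-compact and quasi-separated over
`S`. Write `f_i` (for `i` mapping to `i₀`) and `f` for the base changes of `f₀` to `B_i` and to `B`,
given by pullback squares. If `f` is finite and `f₀` locally of finite type, then for some `i`
mapping to `i₀` every such base change `f_i` is finite. (The published statement allows any base
scheme and uses absolute quasi-separatedness; this row assumes the base quasi-separated, over which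
quasi-separatedness relative to the base is the absolute notion.) -/
theorem result (S : Scheme.{u}) [QuasiSeparatedSpace S] {I : Type u} [SmallCategory I] [IsCofiltered I]
    (D : I ⥤ AlgSp.Sp S) (hD : ∀ i, AlgSp.IsAlgSpace (D.obj i))
    (hDa : ∀ (i j : I) (φ : i ⟶ j), AlgSp.IsAffineMor (D.map φ))
    (c : Cone D) (hc : IsLimit c) (i₀ : I)
    (hBqc : AlgSp.IsQuasiCompactSp (D.obj i₀)) (hBqs : AlgSp.IsQuasiSeparatedSp (D.obj i₀))
    (X₀ Y₀ : AlgSp.Space S) (f₀ : X₀.obj ⟶ Y₀.obj) (b₀ : Y₀.obj ⟶ D.obj i₀)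
    (hXqc : AlgSp.IsQuasiCompactSp X₀.obj) (hXqs : AlgSp.IsQuasiSeparatedSp X₀.obj)
    (hYqc : AlgSp.IsQuasiCompactSp Y₀.obj) (hYqs : AlgSp.IsQuasiSeparatedSp Y₀.obj)
    (X Y : AlgSp.Sp S) (f : X ⟶ Y) (pY : Y ⟶ Y₀.obj) (qY : Y ⟶ c.pt)
    (hY : IsPullback pY qY b₀ (c.π.app i₀)) (pX : X ⟶ X₀.obj) (hX : IsPullback pX f f₀ pY)
    (hf : AlgSp.IsFiniteMor f) (hf₀ : AlgSp.LocP @LocallyOfFiniteType f₀) :
    ∃ (i : I) (φ : i ⟶ i₀), ∀ (Xi Yi : AlgSp.Sp S) (fi : Xi ⟶ Yi) (pYi : Yi ⟶ Y₀.obj) (qYi : Yi ⟶ D.obj i)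
      (_ : IsPullback pYi qYi b₀ (D.map φ)) (pXi : Xi ⟶ X₀.obj) (_ : IsPullback pXi fi f₀ pYi),
      AlgSp.IsFiniteMor fi := by
  haveI := Groth.Agent.Lib.Helper12.descendsAlong_isFinite.{u}
  obtain ⟨i, φ, H⟩ := descend_repWith_of_isAffineMor @IsFinite schDescendsWith_isFinite S D hD hDa c hc i₀
    hBqc hBqs X₀ Y₀ f₀ b₀ hXqc hXqs hYqc hYqs X Y f pY qY hY pX hX
    (isAffineMor_of_isFiniteMor f hf) (repWith_isFinite_of_isFiniteMor f hf) hf₀
  refine ⟨i, φ, ?_⟩
  intro Xi Yi fi pYi qYi sqY pXi sqX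
  exact isFiniteMor_of_repWith_isFinite fi (H Xi Yi fi pYi qYi sqY pXi sqX)

end Groth.Agent.S10018
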