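import Groth.Statements.S10190
import Groth.Agent.Lib.Seat45Charts
import Groth.Agent.Lib.Seat45EtDim

set_option autoImplicit false
universe u
open CategoryTheory CategoryTheory.Limits AlgebraicGeometry Topology TopologicalSpace
open AlgSp

namespace Groth.Agent.S10190

/-- For an algebraic space X over a scheme S, the set of codimension 0 points of X (points x of |X| such
that, for some representable etale h_U ⟶ X from a scheme U and some point u of U mapping to x, the
local ring of U at u has dimension 0) is dense in |X|. -/
theorem result {S : Scheme.{u}} (X : AlgSp.Space S) :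
    Dense {x : AlgSp.Points X.obj |
      AlgSp.HasAt (fun U u => ringKrullDim ↥(U.presheaf.stalk u) = 0) X.obj x} := by
  open Groth.Agent.Lib.Seat45.Charts Groth.Agent.Lib.Seat45.EtDim in
  obtain ⟨U, p, hpe, hps⟩ := X.property.atlas
  have hsurj := Groth.Agent.S10177.surjective_ofPt p hps
  have hd : Dense (AlgSp.Points.ofPt p '' {u : ↥U.left | ringKrullDim (U.left.presheaf.stalk u) = 0}) :=
    hsurj.denseRange.dense_image (AlgSp.Points.continuous_ofPt p) (dense_ringKrullDim_stalk_eq_zero U.left)
  refine hd.mono ?_
  rintro _ ⟨u, hu, rfl⟩
  exact ⟨U, p, u, hpe, rfl, hu⟩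

end Groth.Agent.S10190
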