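import Groth.Statements.S10204
import Groth.Agent.S10197
import Groth.Agent.S10190
import Groth.Agent.Lib.Seat45FinEtCover

set_option autoImplicit false
set_option linter.style.haveILetI false
universe u
open CategoryTheory CategoryTheory.Limits AlgebraicGeometry Topology TopologicalSpace
open AlgSp

namespace Groth.Agent.S10204

/-- Let X be an algebraic space over a scheme S that admits a map h_U ⟶ X from a quasi-separated scheme
U which is representable finite, etale and surjective. Then X contains an open subspace X' ⟶ X that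
is a scheme (its underlying sheaf is representable), whose points form a dense subset of |X| that
includes every codimension 0 point of X (every point x of |X| such that some etale chart h_V ⟶ X and
some point v of V over x have a zero-dimensional local ring O_{V,v}). -/
theorem result {S : Scheme.{u}} (X : AlgSp.Space S) {U : Over S}
    (a : (AlgSp.yon S).obj U ⟶ X.obj) (hf : AlgSp.RepWith @IsFinite a) (he : AlgSp.RepWith @Etale a)
    (hs : AlgSp.RepWith @Surjective a) [QuasiSeparatedSpace ↥U.left] :
    ∃ (X' : AlgSp.Space S) (j : X' ⟶ X), AlgSp.RepWith @IsOpenImmersion j.hom ∧ X'.obj.obj.IsRepresentable ∧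
      Dense (Set.range (AlgSp.Points.map j.hom)) ∧
      ∀ x : AlgSp.Points X.obj, AlgSp.HasAt (fun U u => ringKrullDim ↥(U.presheaf.stalk u) = 0) X.obj x →
        x ∈ Set.range (AlgSp.Points.map j.hom) := by
  obtain ⟨X', j, hj, hrep, hmax⟩ := Groth.Agent.S10197.result X
  have key : ∀ x : AlgSp.Points X.obj,
      AlgSp.HasAt (fun U u => ringKrullDim ↥(U.presheaf.stalk u) = 0) X.obj x →
        x ∈ Set.range (AlgSp.Points.map j.hom) := by
    intro x hx
    obtain ⟨M, m, hmo, hxm⟩ :=
      Groth.Agent.Lib.Seat45.FinEtCover.exists_open_subscheme_of_codimZero X.property a hf he hs x hx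
    let X'' : AlgSp.Space S := ⟨(AlgSp.yon S).obj M, AlgSp.IsAlgSpace.yon_obj M⟩
    let j'' : X'' ⟶ X := ObjectProperty.homMk m
    obtain ⟨k, hk⟩ := hmax X'' j'' hmo ⟨M, ⟨AlgSp.representableByOfIso (Iso.refl _)⟩⟩
    obtain ⟨y, hy⟩ := hxm
    refine ⟨AlgSp.Points.map k.hom y, ?_⟩
    have hkm : k.hom ≫ j.hom = m := congrArg (fun f => f.hom) hk
    rw [← AlgSp.Points.map_comp, hkm, hy]
  refine ⟨X', j, hj, hrep, ?_, key⟩
  exact (Groth.Agent.S10190.result X).mono (fun x hx => key x hx)

end Groth.Agent.S10204
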