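import Groth.Statements.S10539
import Mathlib
import Groth.Agent.Lib.Seat46RepDescent
import Groth.Agent.Lib.Helper12Descent
import Groth.Agent.S10267

set_option autoImplicit false
universe u
open CategoryTheory CategoryTheory.Limits AlgebraicGeometry
open AlgSp

namespace Groth.Agent.S10539

set_option backward.isDefEq.respectTransparency false in
lemma zarLocal : IsZariskiLocalAtTarget @IsIntegralHom.{u} := inferInstance

/-- The property of morphisms of algebraic spaces over S given by f is integral (every base change to an
affine scheme is an affine scheme integral over it) is fpqc local on the base: for an fpqc covering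
of an algebraic space Y by algebraic spaces Y_i, a morphism f : X ⟶ Y of algebraic spaces and
cartesian squares X_i = Y_i ×_Y X, f has the property if and only if every X_i ⟶ Y_i has it. -/
theorem result (S : Scheme.{u}) :
    AlgSp.IsLocalOnBase (AlgSp.IsFpqcCover (S := S)) AlgSp.IsIntegralMor := by
  haveI := Groth.Agent.Lib.Helper12.descendsAlong_isIntegralHom.{u}
  haveI := zarLocal.{u}
  have key := Groth.Agent.Lib.Seat46.RepDescent.isLocalOnBase_fpqc_repWith_of_affine (S := S) @IsIntegralHom
    (fun k hk => by haveI : IsIntegralHom k := hk; infer_instance)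
  intro ι Y Yi g hY hYi hcov X f hX Xi p q hXi sq
  have e : ∀ {A B : AlgSp.Sp S} (hA : AlgSp.IsAlgSpace A) (hB : AlgSp.IsAlgSpace B) (k : A ⟶ B),
      AlgSp.IsIntegralMor k ↔ AlgSp.RepWith @IsIntegralHom k := by
    intro A B hA hB k
    exact (Groth.Agent.S10267.result (X := ⟨A, hA⟩) (Y := ⟨B, hB⟩) (ObjectProperty.homMk k)).1
  rw [e hX hY f]
  simp only [e (hXi _) (hYi _)]
  exact key Yi g hY hYi hcov f hX Xi p q hXi sq

end Groth.Agent.S10539
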