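import Groth.Statements.S10268
import Mathlib
import Groth.Agent.Lib.Seat46EtCover
import Groth.Agent.S10539
import Groth.Agent.S10540
import Groth.Agent.S9874

set_option autoImplicit false
universe u
open CategoryTheory CategoryTheory.Limits AlgebraicGeometry
open AlgSp

namespace Groth.Agent.S10268

/-- (3) ⇒ (2): integrality and finiteness of a morphism of algebraic spaces descend along a surjective
etale base change from a scheme. -/
theorem result {S : Scheme.{u}} {X Y : AlgSp.Space S} (f : X ⟶ Y) (V : Over S)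
    (p : (AlgSp.yon S).obj V ⟶ Y.obj) (hp : AlgSp.RepWith @Etale p) (hps : AlgSp.RepWith @Surjective p)
    {P : AlgSp.Sp S} (fst : P ⟶ X.obj) (snd : P ⟶ (AlgSp.yon S).obj V) (sq : IsPullback fst snd f.hom p) :
    (AlgSp.IsIntegralMor snd → AlgSp.IsIntegralMor f.hom) ∧ (AlgSp.IsFiniteMor snd → AlgSp.IsFiniteMor f.hom) := by
  have hcov := Groth.Agent.Lib.Seat46.EtCover.isFpqcCover_of_etale_surjective Y.property p hp hps
  have hP : AlgSp.IsAlgSpace P :=
    Groth.Agent.S9874.isAlgSpace_of_isPullback Y.property.diag X.property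
      (AlgSp.IsAlgSpace.yon_obj V) sq
  constructor
  · intro h
    exact ((Groth.Agent.S10539.result S) (fun _ : PUnit.{u + 1} => (AlgSp.yon S).obj V)
      (fun _ => p) Y.property (fun _ => AlgSp.IsAlgSpace.yon_obj V) hcov f.hom X.property
      (fun _ => P) (fun _ => snd) (fun _ => fst) (fun _ => hP) (fun _ => sq)).2 (fun _ => h)
  · intro h
    exact ((Groth.Agent.S10540.result S) (fun _ : PUnit.{u + 1} => (AlgSp.yon S).obj V)
      (fun _ => p) Y.property (fun _ => AlgSp.IsAlgSpace.yon_obj V) hcov f.hom X.property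
      (fun _ => P) (fun _ => snd) (fun _ => fst) (fun _ => hP) (fun _ => sq)).2 (fun _ => h)

end Groth.Agent.S10268
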