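import Groth.Statements.S10678
import Groth.Agent.Lib.Seat45FibDimSp
import Groth.Agent.S5341
import Groth.Agent.S10175
import Groth.Agent.S9874
import Groth.Agent.Lib.Helper7TopDim

set_option autoImplicit false
set_option linter.style.haveILetI false
universe u
open CategoryTheory CategoryTheory.Limits AlgebraicGeometry
open AlgSp

namespace Groth.Agent.S10678

lemma topologicalKrullDim_eq_bot_iff (T : Type*) [TopologicalSpace T] :
    topologicalKrullDim T = ⊥ ↔ IsEmpty T := by
  unfold topologicalKrullDim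
  rw [Order.krullDim_eq_bot_iff]
  constructor
  · intro h
    refine ⟨fun t => h.false ⟨closure {t}, isIrreducible_singleton.closure, isClosed_closure⟩⟩
  · intro h
    exact ⟨fun Z => by
      obtain ⟨t, -⟩ := Z.isIrreducible.nonempty
      exact h.false t⟩

/-- For a morphism f : X ⟶ Y of finite type between algebraic spaces over S, a point y of |Y| and any
field point k of Y in the class of y, with fibre X_k (pullback in fppf sheaves): the dimension of
X_k (supremum of the dimensions of its etale scheme charts) is -∞ exactly when y lies outside the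
image of |X|, and for every natural number d it is at most d exactly when f has relative dimension
at most d at every point of |X| over y (some etale chart diagram through the point whose top arrow
has local fibre dimension at most d there). -/
theorem result {S : Scheme.{u}} {X Y : AlgSp.Space S} (f : X ⟶ Y) (hf : AlgSp.IsFiniteTypeMor f.hom)
    (y : AlgSp.Points Y.obj) (k : AlgSp.FieldPt Y.obj) (hk : AlgSp.Points.mk k = y)
    (Xk : AlgSp.Sp S) (fst : Xk ⟶ X.obj) (snd : Xk ⟶ (AlgSp.yon S).obj k.pt) (h : IsPullback fst snd f.hom k.toHom) :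
    (AlgSp.dim Xk = ⊥ ↔ y ∉ Set.range (AlgSp.Points.map f.hom)) ∧
      ∀ d : ℕ, (AlgSp.dim Xk ≤ d ↔
        ∀ x : AlgSp.Points X.obj, AlgSp.Points.map f.hom x = y →
          AlgSp.HasAtMor (fun _ _ h u => FlatMor.fibreDimAt h u ≤ (d : WithBot ℕ∞)) f.hom x) := by
  obtain ⟨hlft, hqc⟩ := hf
  have hX := X.property
  have hY := Y.property
  have hK : AlgSp.IsAlgSpace ((AlgSp.yon S).obj k.pt) := AlgSp.IsAlgSpace.yon_obj _
  have hXk : AlgSp.IsAlgSpace Xk := Groth.Agent.S9874.isAlgSpace_of_isPullback hY.diag hX hK h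
  haveI : Subsingleton ↥k.pt.left := (inferInstance : Subsingleton ↥(Spec (CommRingCat.of k.K)))
  have hid : AlgSp.RepWith @Etale (𝟙 ((AlgSp.yon S).obj k.pt)) := by
    rw [← CategoryTheory.Functor.map_id]
    exact (AlgSp.repWith_yon_map_iff _ _).2 (inferInstance : Etale (𝟙 k.pt : k.pt ⟶ k.pt).left)
  -- points of `Spec K`
  have hpt : ∀ z : AlgSp.Points ((AlgSp.yon S).obj k.pt), AlgSp.Points.map k.toHom z = y := by
    intro z
    obtain ⟨t, rfl⟩ := (AlgSp.Points.schemeEquiv k.pt).surjective z
    have ht : t = (default : ↥(Spec (CommRingCat.of k.K))) := Subsingleton.elim _ _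
    subst ht
    rw [← hk, ← AlgSp.Points.ofPt_toHom]
    exact (AlgSp.Points.ofPt_eq_map_ofScheme _ _).symm
  have hover : ∀ x' : AlgSp.Points Xk, AlgSp.Points.map f.hom (AlgSp.Points.map fst x') = y := by
    intro x'
    rw [← AlgSp.Points.map_comp, h.w, AlgSp.Points.map_comp, hpt]
  have hsurj : ∀ x : AlgSp.Points X.obj, AlgSp.Points.map f.hom x = y →
      ∃ x' : AlgSp.Points Xk, AlgSp.Points.map fst x' = x := by
    intro x hx
    obtain ⟨p, hp1, -⟩ := Groth.Agent.S10175.exists_point_of_isPullback h x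
      (AlgSp.Points.ofScheme k.pt (default : ↥(Spec (CommRingCat.of k.K)))) (by rw [hx, hpt])
    exact ⟨p, hp1⟩
  -- charts of the fibre
  have hchart : ∀ (U : Over S) (a : (AlgSp.yon S).obj U ⟶ Xk),
      ∃ hU : U ⟶ k.pt, a ≫ snd = (AlgSp.yon S).map hU ≫ 𝟙 _ := by
    intro U a
    obtain ⟨hU, hhU⟩ := (AlgSp.yon S).map_surjective (a ≫ snd)
    exact ⟨hU, by rw [hhU, Category.comp_id]⟩
  refine ⟨?_, ?_⟩
  · unfold AlgSp.dim
    simp only [iSup_eq_bot, topologicalKrullDim_eq_bot_iff]
    constructor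
    · rintro hemp ⟨x, hx⟩
      obtain ⟨x', -⟩ := hsurj x hx
      obtain ⟨U, a, u, ha, -⟩ := Groth.Agent.Lib.Seat45.Charts.exists_chart hXk x'
      exact (hemp U a ha).false u
    · intro hy U a ha
      refine ⟨fun u => hy ⟨AlgSp.Points.map fst (AlgSp.Points.ofPt a u), hover _⟩⟩
  · intro d
    have h1 : AlgSp.dim Xk ≤ d ↔ ∀ x' : AlgSp.Points Xk,
        AlgSp.HasAtMor (fun _ _ h u => FlatMor.fibreDimAt h u ≤ (d : WithBot ℕ∞)) snd x' := by
      unfold AlgSp.dim
      simp only [iSup_le_iff]
      constructor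
      · intro hd x'
        obtain ⟨U, a, u, ha, rfl⟩ := Groth.Agent.Lib.Seat45.Charts.exists_chart hXk x'
        obtain ⟨hU, hc⟩ := hchart U a
        rw [Groth.Agent.Lib.Seat45.FibDimSp.hasAtMor_fibreDimAt_ofPt_iff (fun e => e ≤ (d : WithBot ℕ∞))
          hXk hK snd a (𝟙 _) hU ha hid hc u,
          Groth.Agent.S5341.fibreDimAt_eq_localDim_of_subsingleton]
        refine le_trans ?_ (hd U a ha)
        rw [Groth.Agent.Lib.Helper7.TopDim.topologicalKrullDim_eq_iSup_localDim]
        exact le_iSup (fun x => FlatMor.localDim ↥U.left x) u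
      · intro hx U a ha
        obtain ⟨hU, hc⟩ := hchart U a
        rw [Groth.Agent.Lib.Helper7.TopDim.topologicalKrullDim_eq_iSup_localDim]
        refine iSup_le fun u => ?_
        have := (Groth.Agent.Lib.Seat45.FibDimSp.hasAtMor_fibreDimAt_ofPt_iff
          (fun e => e ≤ (d : WithBot ℕ∞)) hXk hK snd a (𝟙 _) hU ha hid hc u).1 (hx _)
        rwa [Groth.Agent.S5341.fibreDimAt_eq_localDim_of_subsingleton] at this
    rw [h1]
    constructor
    · intro hx x hxy
      obtain ⟨x', rfl⟩ := hsurj x hxy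
      exact (Groth.Agent.Lib.Seat45.FibDimSp.hasAtMor_fibreDimAt_baseChange_iff
        (fun e => e ≤ (d : WithBot ℕ∞)) hX hY hK hXk h hlft x').2 (hx x')
    · intro hx x'
      exact (Groth.Agent.Lib.Seat45.FibDimSp.hasAtMor_fibreDimAt_baseChange_iff
        (fun e => e ≤ (d : WithBot ℕ∞)) hX hY hK hXk h hlft x').1 (hx _ (hover x'))

end Groth.Agent.S10678
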