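import Groth.Statements.S10337
import Groth.Agent.Lib.Seat45DecSch
import Groth.Agent.S10197
import Groth.Agent.S10351

set_option autoImplicit false
set_option linter.style.haveILetI false
universe u
open CategoryTheory CategoryTheory.Limits AlgebraicGeometry Topology TopologicalSpace
open AlgSp

namespace Groth.Agent.S10337

/-- For a scheme S, a decent algebraic space X over S contains a dense open subspace that is a scheme:
there is an open subspace X' ⟶ X whose underlying sheaf is representable by a scheme and whose set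
of points is dense in |X|. -/
theorem result {S : Scheme.{u}} (X : AlgSp.Space S)
    (hX : AlgSp.IsDecent X.obj) :
    ∃ (X' : AlgSp.Space S) (j : X' ⟶ X), AlgSp.RepWith @IsOpenImmersion j.hom ∧ X'.obj.obj.IsRepresentable ∧
      Dense (Set.range (AlgSp.Points.map j.hom)) := by
  open Groth.Agent.Lib.Helper12 in
  obtain ⟨X', j, hj, hrep, hmax⟩ := Groth.Agent.S10197.result X
  refine ⟨X', j, hj, hrep, ?_⟩
  rw [dense_iff_inter_open]
  rintro O hO ⟨x, hx⟩
  let XO : AlgSp.Space S := ⟨OpenSub.obj X.obj O, OpenSub.isAlgSpace_obj X.property hO⟩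
  let ι : XO ⟶ X := ObjectProperty.homMk (OpenSub.incl X.obj O)
  have hincl : AlgSp.RepWith @IsOpenImmersion (OpenSub.incl X.obj O) := OpenSub.repWith_incl hO
  have hdec : AlgSp.IsDecent XO.obj := Groth.Agent.S10351.result ι hincl.1 hX
  haveI : Nonempty (AlgSp.Points XO.obj) := by
    have : x ∈ Set.range (AlgSp.Points.map (OpenSub.incl X.obj O)) := by
      rw [OpenSub.range_map_incl]; exact hx
    obtain ⟨y, -⟩ := this
    exact ⟨y⟩
  obtain ⟨M, m, hm, ⟨mpt⟩⟩ := Groth.Agent.Lib.Seat45.DecSch.exists_nonempty_open_subscheme XO hdec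
  let X'' : AlgSp.Space S := ⟨(AlgSp.yon S).obj M, AlgSp.IsAlgSpace.yon_obj M⟩
  let j'' : X'' ⟶ X := ObjectProperty.homMk (m ≫ OpenSub.incl X.obj O)
  obtain ⟨k, hk⟩ := hmax X'' j'' ((AlgSp.RepWith @IsOpenImmersion).comp_mem _ _ hm hincl)
    ⟨M, ⟨AlgSp.representableByOfIso (Iso.refl _)⟩⟩
  have hkm : k.hom ≫ j.hom = m ≫ OpenSub.incl X.obj O := congrArg (fun f => f.hom) hk
  refine ⟨AlgSp.Points.ofPt (m ≫ OpenSub.incl X.obj O) mpt, ?_, ?_⟩
  · rw [← AlgSp.Points.map_ofPt]
    exact (OpenSub.range_map_incl O).subset (Set.mem_range_self _)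
  · refine ⟨AlgSp.Points.map k.hom (AlgSp.Points.ofScheme M mpt), ?_⟩
    rw [← AlgSp.Points.map_comp, hkm, ← AlgSp.Points.ofPt_eq_map_ofScheme]

end Groth.Agent.S10337
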