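import Groth.Statements.S10423
import Groth.Agent.Lib.Seat83RelQs
import Groth.Agent.S9874
import Groth.Agent.S9903

set_option autoImplicit false
universe u
open CategoryTheory CategoryTheory.Limits AlgebraicGeometry Topology TopologicalSpace
open AlgSp

namespace Groth.Agent.S10423

/-- A morphism of algebraic spaces over a scheme S which is representable, or which is quasi-separated,
is decent (all its base changes to schemes are decent algebraic spaces). The implications through
reasonable and very reasonable morphisms are not part of this row. -/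
theorem result {S : Scheme.{u}} {X Y : AlgSp.Space S} (f : X ⟶ Y) :
    (AlgSp.Representable f.hom → AlgSp.IsDecentMor f.hom) ∧
      (AlgSp.IsQuasiSeparatedMor f.hom → AlgSp.IsDecentMor f.hom) := by
  constructor
  · intro hf T F' g fst snd sq
    obtain ⟨V, snd', fst', sq'⟩ := hf g
    have hV : AlgSp.IsDecent ((AlgSp.yon S).obj V) := by
      refine Groth.Agent.Lib.Seat83.RelQs.isDecent_of_rel_qs (AlgSp.IsAlgSpace.yon_obj V)
        (𝟙 ((AlgSp.yon S).obj V)) ?_
      exact MorphismProperty.of_isIso (AlgSp.RepWith @QuasiCompact) _
    exact hV.of_iso (sq'.isoIsPullback _ _ sq)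
  · intro hf T F' g fst snd sq
    have hF' : AlgSp.IsAlgSpace F' :=
      Groth.Agent.S9874.isAlgSpace_of_isPullback Y.property.diag X.property
        (AlgSp.IsAlgSpace.yon_obj T) sq
    have hsnd : AlgSp.IsQuasiSeparatedMor snd :=
      Groth.Agent.S9903.stable_diagonal @QuasiCompact sq hf
    exact Groth.Agent.Lib.Seat83.RelQs.isDecent_of_rel_qs hF' snd hsnd


end Groth.Agent.S10423
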