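import Groth.Statements.S10129
import Groth.Agent.S10096
import Groth.Agent.S9972
import Groth.Agent.S9984
import Groth.Agent.S9985
import Groth.Agent.S9907
import Groth.Agent.S9874
import Groth.Agent.S10092
import Groth.Agent.Lib.Seat44SchDenseSp

set_option autoImplicit false
universe u
open CategoryTheory CategoryTheory.Limits AlgebraicGeometry
open AlgSp

namespace Groth.Agent.S10129

open Groth.Agent.Lib.Helper9

/-- A sheaf with a representable morphism to an algebraic space is an algebraic space. -/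
theorem isAlgSpace_of_representable {S : Scheme.{u}} {F X : AlgSp.Sp S} (hX : AlgSp.IsAlgSpace X) (f : F ⟶ X)
    (hf : AlgSp.Representable f) : AlgSp.IsAlgSpace F := by
  refine Groth.Agent.S10092.isAlgSpace_of_fibres hX f (fun T c => ?_)
  have sq := hf.isPullback c
  exact (AlgSp.IsAlgSpace.yon_obj _).of_iso sq.isoPullback

/-- Consider morphisms `g : X ⟶ Z` and `f : X ⟶ Y` of algebraic spaces over `B`, with `Y ⟶ B` separated
and `g` surjective, flat and locally of finite presentation, and let `V ⊂ Z` be a scheme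
theoretically dense open subspace with `V ⟶ Z` quasi-compact such that `f` restricted to `g⁻¹(V)`
factors through `g⁻¹(V) ⟶ V`. Then `f` factors through `g`. (The published statement does not ask
the open immersion `V ⟶ Z` to be quasi-compact; the published proof pulls the scheme theoretic
density of `V` back along a flat morphism by a lemma that requires it, so this row assumes it.) -/
theorem result (S : Scheme.{u}) (B : AlgSp.Sp S) (hB : AlgSp.IsAlgSpace B)
    (X Y Z : AlgSp.Space S) (pX : X.obj ⟶ B) (pY : Y.obj ⟶ B) (pZ : Z.obj ⟶ B)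
    (f : X.obj ⟶ Y.obj) (g : X.obj ⟶ Z.obj) (hf : f ≫ pY = pX) (hg : g ≫ pZ = pX)
    (hY : AlgSp.IsSeparatedMor pY)
    (hgs : AlgSp.IsSurjectiveMor g) (hgf : AlgSp.LocP @Flat g) (hgp : AlgSp.LocP @LocallyOfFinitePresentation g)
    (V : AlgSp.Sp S) (v : V ⟶ Z.obj) (hv : AlgSp.IsSchDense v) (hvq : AlgSp.IsQuasiCompactMor v)
    (hfac : ∃ φ : V ⟶ Y.obj, pullback.fst g v ≫ f = pullback.snd g v ≫ φ) :
    ∃ h : Z.obj ⟶ Y.obj, g ≫ h = f := by
  obtain ⟨φ, hφ⟩ := hfac
  -- `g` is an epimorphism of sheaves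
  have hrep : AlgSp.RepBySpWith (AlgSp.IsSurjectiveMor ⊓ AlgSp.LocP @Flat ⊓
      AlgSp.LocP @LocallyOfFinitePresentation) g.hom := by
    rw [AlgSp.repBySpWith_hom_iff]
    intro U ξ F' fst snd sq
    have hF' : AlgSp.IsAlgSpace F' :=
      Groth.Agent.S9874.result S Z.obj Z.property.diag X ⟨(AlgSp.yon S).obj U, AlgSp.IsAlgSpace.yon_obj U⟩
        g ξ F' fst snd sq
    refine ⟨hF', ⟨?_, ?_⟩, ?_⟩
    · exact Groth.Agent.S9907.result (X := X) (Y := Z) (Y' := ⟨(AlgSp.yon S).obj U, AlgSp.IsAlgSpace.yon_obj U⟩)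
        (ObjectProperty.homMk g) (ObjectProperty.homMk ξ) fst snd sq hgs
    · exact Groth.Agent.S9984.result @Flat (Or.inr (Or.inr (Or.inl rfl))) (X := X) (Y := Z)
        (Y' := ⟨(AlgSp.yon S).obj U, AlgSp.IsAlgSpace.yon_obj U⟩) (X' := ⟨F', hF'⟩)
        (ObjectProperty.homMk g) (ObjectProperty.homMk ξ) (ObjectProperty.homMk fst) (ObjectProperty.homMk snd)
        sq hgf
    · exact Groth.Agent.S9984.result @LocallyOfFinitePresentation (Or.inr (Or.inl rfl)) (X := X) (Y := Z)
        (Y' := ⟨(AlgSp.yon S).obj U, AlgSp.IsAlgSpace.yon_obj U⟩) (X' := ⟨F', hF'⟩)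
        (ObjectProperty.homMk g) (ObjectProperty.homMk ξ) (ObjectProperty.homMk fst) (ObjectProperty.homMk snd)
        sq hgp
  haveI : Epi g := Groth.Agent.S10096.result S X.obj Z.obj g hrep
  -- the kernel pair `P = X ×_Z X`
  have sqP := IsPullback.of_hasPullback g g
  have hP : AlgSp.IsAlgSpace (pullback g g) :=
    Groth.Agent.S9874.result S Z.obj Z.property.diag X X g g _ _ _ sqP
  have hsndflat : AlgSp.LocP @Flat (pullback.snd g g) :=
    Groth.Agent.S9984.result @Flat (Or.inr (Or.inr (Or.inl rfl))) (X := X) (Y := Z) (Y' := X)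
      (X' := ⟨_, hP⟩) (ObjectProperty.homMk g) (ObjectProperty.homMk g)
      (ObjectProperty.homMk (pullback.fst g g)) (ObjectProperty.homMk (pullback.snd g g)) sqP hgf
  have hqflat : AlgSp.LocP @Flat (pullback.snd g g ≫ g) :=
    Groth.Agent.S9985.result @Flat (Or.inr (Or.inr (Or.inl rfl))) (X := ⟨_, hP⟩) (Y := X) (Z := Z)
      (ObjectProperty.homMk (pullback.snd g g)) (ObjectProperty.homMk g) hsndflat hgf
  -- the preimage of `V` in `P`
  have sqPV := IsPullback.of_hasPullback v (pullback.snd g g ≫ g)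
  have hPVdense : AlgSp.IsSchDense (pullback.snd v (pullback.snd g g ≫ g)) :=
    Groth.Agent.Lib.Seat44.SchDenseSp.isSchDense_of_flat_pullback hP Z.property _ hqflat v hv hvq _ _ sqPV
  have hPValg : AlgSp.IsAlgSpace (pullback v (pullback.snd g g ≫ g)) :=
    isAlgSpace_of_representable hP _ hPVdense.1.1
  have hcl : AlgSp.IsSchImage (pullback.snd v (pullback.snd g g ≫ g)) (𝟙 (pullback g g)) :=
    Groth.Agent.Lib.Seat44.SchDenseSp.isSchImage_id_of_isSchDense _ hPVdense
  -- the two composites `P ⟶ Y` agree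
  have key : pullback.fst g g ≫ f = pullback.snd g g ≫ f := by
    have h := Groth.Agent.S9972.result (U := ⟨_, hPValg⟩) (X := ⟨_, hP⟩) (Y := Y) (B := ⟨B, hB⟩)
      (ObjectProperty.homMk pY) hY (ObjectProperty.homMk (pullback.fst g g ≫ f))
      (ObjectProperty.homMk (pullback.snd g g ≫ f)) ?_
      (ObjectProperty.homMk (pullback.snd v (pullback.snd g g ≫ g))) hPVdense.1 hcl ?_
    · exact congrArg (fun m => m.hom) h
    · apply ObjectProperty.hom_ext
      show (pullback.fst g g ≫ f) ≫ pY = (pullback.snd g g ≫ f) ≫ pY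
      rw [Category.assoc, Category.assoc, hf, ← hg, ← Category.assoc, ← Category.assoc, pullback.condition]
    · apply ObjectProperty.hom_ext
      show pullback.snd v (pullback.snd g g ≫ g) ≫ pullback.fst g g ≫ f =
        pullback.snd v (pullback.snd g g ≫ g) ≫ pullback.snd g g ≫ f
      have hc1 : (pullback.snd v (pullback.snd g g ≫ g) ≫ pullback.fst g g) ≫ g =
          pullback.fst v (pullback.snd g g ≫ g) ≫ v := by
        rw [Category.assoc, pullback.condition]
        exact sqPV.w.symm
      have hc2 : (pullback.snd v (pullback.snd g g ≫ g) ≫ pullback.snd g g) ≫ g =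
          pullback.fst v (pullback.snd g g ≫ g) ≫ v := by
        rw [Category.assoc]
        exact sqPV.w.symm
      have e1 : pullback.snd v (pullback.snd g g ≫ g) ≫ pullback.fst g g =
          pullback.lift _ _ hc1 ≫ pullback.fst g v := (pullback.lift_fst _ _ hc1).symm
      have e2 : pullback.snd v (pullback.snd g g ≫ g) ≫ pullback.snd g g =
          pullback.lift _ _ hc2 ≫ pullback.fst g v := (pullback.lift_fst _ _ hc2).symm
      rw [← Category.assoc, e1, ← Category.assoc, e2, Category.assoc, Category.assoc, hφ,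
        ← Category.assoc, ← Category.assoc, pullback.lift_snd, pullback.lift_snd]
  -- descend along the epimorphism `g`
  obtain ⟨h, hh⟩ := ToposLike.exists_desc_of_epi g inferInstance f (fun W a₁ a₂ ha => by
    have e1 : a₁ = pullback.lift a₁ a₂ ha ≫ pullback.fst g g := (pullback.lift_fst _ _ ha).symm
    have e2 : a₂ = pullback.lift a₁ a₂ ha ≫ pullback.snd g g := (pullback.lift_snd _ _ ha).symm
    rw [e1, Category.assoc, key, ← Category.assoc, ← e2])
  exact ⟨h, hh⟩

end Groth.Agent.S10129
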