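import Groth.Statements.S10496
import Groth.Agent.Lib.Seat43RedSub
import Groth.Agent.S10423
import Groth.Agent.S10381
import Groth.Agent.S10301
import Groth.Agent.Lib.Helper12Proper

set_option autoImplicit false
universe u
open CategoryTheory CategoryTheory.Limits AlgebraicGeometry Topology TopologicalSpace
open AlgSp

namespace Groth.Agent.S10496

/-- Let X be a decent algebraic space over a scheme S. For every irreducible closed subset T of |X|
there is an integral closed subspace Z of X with |Z| = T. -/
theorem result {S : Scheme.{u}} (X : AlgSp.Space S)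
    (hX : AlgSp.IsDecent X.obj) (T : Set (AlgSp.Points X.obj)) (hT : IsClosed T) (hTi : IsIrreducible T) :
    ∃ (Z : AlgSp.Space S) (i : Z ⟶ X), AlgSp.RepWith @IsClosedImmersion i.hom ∧ AlgSp.IsIntegralSp Z.obj ∧
      Set.range (AlgSp.Points.map i.hom) = T := by
  obtain ⟨Z, i, hcl, hrange, hred⟩ := Groth.Agent.Lib.Seat43.RedSub.exists_isRedInduced X T hT
  refine ⟨Z, i, hcl, ⟨hred, ?_, ?_⟩, hrange⟩
  · exact Groth.Agent.S10381.result i ((Groth.Agent.S10423.result i).1 hcl.1) hX
  · have hinj : Function.Injective (AlgSp.Points.map i.hom) :=
      Groth.Agent.S10301.injective_map_of_repWith (P := @IsClosedImmersion)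
        (fun A B g hg => by
          have : IsClosedImmersion g := hg
          exact g.isClosedEmbedding.injective) i.hom hcl
    have hclosed : IsClosedMap (AlgSp.Points.map i.hom) :=
      Groth.Agent.Lib.Helper12.Proper.isClosedMap_of_repWith_isClosedImmersion i.hom hcl
    have hemb : Topology.IsClosedEmbedding (AlgSp.Points.map i.hom) :=
      Topology.IsClosedEmbedding.of_continuous_injective_isClosedMap
        (AlgSp.Points.continuous_map _) hinj hclosed
    let e := hemb.isEmbedding.toHomeomorph
    have hsp : IrreducibleSpace ↥(Set.range (AlgSp.Points.map i.hom)) := by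
      rw [hrange]
      exact isIrreducible_iff_irreducibleSpace.1 hTi
    have hirr : IsIrreducible (Set.univ : Set ↥(Set.range (AlgSp.Points.map i.hom))) :=
      IrreducibleSpace.isIrreducible_univ _
    have h2 := hirr.image e.symm e.symm.continuous.continuousOn
    rw [Set.image_univ, e.symm.surjective.range_eq] at h2
    exact (irreducibleSpace_def _).2 h2

end Groth.Agent.S10496
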