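import Groth.Statements.S10339
import Groth.Agent.Lib.Seat45DecGen
import Groth.Agent.S10496

set_option autoImplicit false
set_option linter.style.haveILetI false
universe u
open CategoryTheory CategoryTheory.Limits AlgebraicGeometry Topology TopologicalSpace
open AlgSp

namespace Groth.Agent.S10339

/-- For a scheme S and a decent algebraic space X over S, every irreducible closed subset of |X| is the
closure of some point. (The published statement says that |X| is sober; this row states only the
existence of generic points, their uniqueness being the Kolmogorov property of |X|, a separate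
statement.) -/
theorem result {S : Scheme.{u}} (X : AlgSp.Space S) (hX : AlgSp.IsDecent X.obj) :
    QuasiSober (AlgSp.Points X.obj) := by
  refine ⟨fun {T} hirr hcl => ?_⟩
  obtain ⟨Z, i, -, hZ, hrange⟩ := Groth.Agent.S10496.result X hX T hcl hirr
  obtain ⟨-, hZdec, hZirr⟩ := hZ
  haveI := hZirr
  obtain ⟨ξ, hξ⟩ := Groth.Agent.Lib.Seat45.DecGen.exists_isGenericPoint_univ Z hZdec
  refine ⟨AlgSp.Points.map i.hom ξ, ?_⟩
  change closure {AlgSp.Points.map i.hom ξ} = T
  apply subset_antisymm
  · refine hcl.closure_subset_iff.2 (Set.singleton_subset_iff.2 ?_)
    rw [← hrange]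
    exact ⟨ξ, rfl⟩
  · rw [← hrange, ← Set.image_univ, ← hξ.def, ← Set.image_singleton]
    exact image_closure_subset_closure_image (AlgSp.Points.continuous_map i.hom)

end Groth.Agent.S10339
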