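import Groth.Statements.S10394
import Groth.Agent.Lib.Seat45Charts
import Groth.Agent.Lib.Seat45LocFinIrrSp
import Groth.Agent.Lib.Seat45EtDim
import Groth.Agent.Lib.Helper14IrrComp
import Groth.Agent.S10338
import Groth.Agent.S10339
import Groth.Agent.S10340
import Groth.Agent.S10343

set_option autoImplicit false
set_option linter.style.haveILetI false
universe u
open CategoryTheory CategoryTheory.Limits AlgebraicGeometry Topology TopologicalSpace
open AlgSp

namespace Groth.Agent.S10394

/-- (1) ⇔ (4): let S be a scheme, X a decent algebraic space over S and x ∈ |X|. Then x is the generic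
point of some irreducible component of |X| if and only if the local ring of X at x has dimension
zero (x is a codimension 0 point of X). -/
theorem result {S : Scheme.{u}} (X : AlgSp.Space S)
    (hX : AlgSp.IsDecent X.obj) (x : AlgSp.Points X.obj) :
    (∃ T ∈ irreducibleComponents (AlgSp.Points X.obj), IsGenericPoint x T) ↔ AlgSp.HasAt (fun U u => ringKrullDim ↥(U.presheaf.stalk u) = 0) X.obj x := by
  open Groth.Agent.Lib.Seat45.Charts Groth.Agent.Lib.Seat45.LocFinIrr in
  have hdec := hX
  haveI : T0Space (AlgSp.Points X.obj) := Groth.Agent.S10338.result X hdec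
  haveI : QuasiSober (AlgSp.Points X.obj) := Groth.Agent.S10339.result X hdec
  rw [iff_comm]
  obtain ⟨U, a, u, ha, rfl⟩ := exists_chart X.property x
  have key : MaxPt (AlgSp.Points.ofPt a u) ↔ MaxPt u := by
    constructor
    · intro h u' hu'
      have h1 : AlgSp.Points.ofPt a u' ⤳ AlgSp.Points.ofPt a u :=
        hu'.map (AlgSp.Points.continuous_ofPt a)
      exact (Groth.Agent.S10340.result X hdec a ha u u' (h _ h1).symm hu').symm
    · intro h y' hy'
      obtain ⟨u', hu', rfl⟩ := Groth.Agent.S10343.result X _ y' hy' (hdec y') a ha u rfl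
      rw [h u' hu']
  have hQ : ∀ {W V : Scheme.{u}} (g : W ⟶ V) [Etale g] (w : ↥W),
      ringKrullDim ↥(W.presheaf.stalk w) = 0 ↔ ringKrullDim ↥(V.presheaf.stalk (g w)) = 0 :=
    fun g _ w => by rw [Groth.Agent.Lib.Seat45.EtDim.ringKrullDim_stalk_eq_of_etale g w]
  have h1 : AlgSp.HasAt (fun U u => ringKrullDim ↥(U.presheaf.stalk u) = 0) X.obj (AlgSp.Points.ofPt a u) ↔
      ringKrullDim ↥(U.left.presheaf.stalk u) = 0 :=
    ⟨fun h => (hasAt_iff_forall (fun U u => ringKrullDim ↥(U.presheaf.stalk u) = 0) hQ X.property _).1 h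
      U a u ha rfl, fun h => ⟨U, a, u, ha, rfl, h⟩⟩
  rw [h1, ← maxPt_iff_stalkDim_eq_zero, ← key]
  change (∀ y', y' ⤳ AlgSp.Points.ofPt a u → y' = AlgSp.Points.ofPt a u) ↔ _
  rw [← Groth.Agent.Lib.Helper14.closure_mem_irreducibleComponents_iff]
  constructor
  · intro h
    exact ⟨_, h, rfl⟩
  · rintro ⟨Z, hZ, hx⟩
    have : closure {AlgSp.Points.ofPt a u} = Z := hx
    rw [this]; exact hZ

end Groth.Agent.S10394
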