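import Groth.Statements.S10422
import Groth.Prelude.Def_AlgSp2
import Mathlib.LinearAlgebra.TensorProduct.Finiteness
import Mathlib.LinearAlgebra.Matrix.Rank
import Mathlib.RingTheory.Spectrum.Prime.RingHom
-- import your own Groth.Agent.* helpers here

set_option autoImplicit false
universe u
open Topology TopologicalSpace TensorProduct
open AlgSp

namespace Groth.Agent.S10422

/-- Finitely many field extensions of `k` embed compatibly into a common field. -/
theorem exists_common_field (k : Type u) [Field k] (K : ℕ → Type u) [∀ n, Field (K n)]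
    [∀ n, Algebra k (K n)] (r : ℕ) :
    ∃ (Ω : Type u) (_ : Field Ω) (ι : k →+* Ω), ∀ n < r, ∃ σ : K n →+* Ω,
      σ.comp (algebraMap k (K n)) = ι := by
  induction r with
  | zero => exact ⟨k, inferInstance, RingHom.id k, fun n hn => absurd hn (Nat.not_lt_zero n)⟩
  | succ r ih =>
    obtain ⟨Ω, _, ι, h⟩ := ih
    obtain ⟨Ω', _, i₁, i₂, hi⟩ := AlgSp.FieldPt.exists_amalgamation ι (algebraMap k (K r))
    refine ⟨Ω', inferInstance, i₁.comp ι, fun n hn => ?_⟩
    rcases Nat.lt_succ_iff_lt_or_eq.mp hn with hn | rfl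
    · obtain ⟨σ, hσ⟩ := h n hn
      exact ⟨i₁.comp σ, by rw [RingHom.comp_assoc, hσ]⟩
    · exact ⟨i₂, hi.symm⟩

/-- The map `A ⊗_ℤ A → K n ⊗_k K m` of the statement. -/
noncomputable abbrev theta (A : Type u) [CommRing A] (k : Type u) [Field k] (K : ℕ → Type u)
    [∀ n, Field (K n)] [∀ n, Algebra A (K n)] [∀ n, Algebra k (K n)] (n m : ℕ) :
    A ⊗[ℤ] A →+* K n ⊗[k] K m :=
  (Algebra.TensorProduct.lift
    ((Algebra.TensorProduct.includeLeft (R := k) (S := ℤ) (A := K n) (B := K m)).toRingHom.toIntAlgHom.comp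
      (Algebra.ofId A (K n)).toRingHom.toIntAlgHom)
    ((Algebra.TensorProduct.includeRight (R := k) (A := K n) (B := K m)).toRingHom.toIntAlgHom.comp
      (Algebra.ofId A (K m)).toRingHom.toIntAlgHom)
    (fun _ _ => Commute.all _ _)).toRingHom

theorem theta_tmul (A : Type u) [CommRing A] (k : Type u) [Field k] (K : ℕ → Type u)
    [∀ n, Field (K n)] [∀ n, Algebra A (K n)] [∀ n, Algebra k (K n)] (n m : ℕ) (a b : A) :
    theta A k K n m (a ⊗ₜ b) = algebraMap A (K n) a ⊗ₜ algebraMap A (K m) b := by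
  simp [theta]

/-- The key algebraic fact: an element of `A ⊗ A` mapping to `1` under multiplication cannot be
nilpotent in all the `K n ⊗_k K m`, `n ≠ m`. -/
theorem key (A : Type u) [CommRing A] (k : Type u) [Field k] (K : ℕ → Type u)
    [∀ n, Field (K n)] [∀ n, Algebra A (K n)] [∀ n, Algebra k (K n)]
    (s : A ⊗[ℤ] A) (hs1 : Algebra.TensorProduct.lmul' (S := A) ℤ s = 1)
    (hs : ∀ n m, n ≠ m → ∀ q : PrimeSpectrum (K n ⊗[k] K m), theta A k K n m s ∈ q.asIdeal) :
    False := by
  classical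
  obtain ⟨Sf, rfl⟩ := TensorProduct.exists_finset s
  obtain ⟨Ω, _, ι, hΩ⟩ := exists_common_field k K (Sf.card + 1)
  choose σ hσ using hΩ
  let σ' : ∀ n : Fin (Sf.card + 1), K n →+* Ω := fun n => σ n n.2
  have hσ' : ∀ n : Fin (Sf.card + 1), (σ' n).comp (algebraMap k (K n)) = ι := fun n => hσ n n.2
  let X : Matrix (Fin (Sf.card + 1)) Sf Ω := fun n i => σ' n (algebraMap A (K n) i.1.1)
  let Y : Matrix Sf (Fin (Sf.card + 1)) Ω := fun i m => σ' m (algebraMap A (K m) i.1.2)
  have hXY : X * Y = 1 := by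
    ext n m
    rw [Matrix.mul_apply, Matrix.one_apply]
    split_ifs with hnm
    · subst hnm
      have : ∑ i : Sf, X n i * Y i n =
          σ' n (algebraMap A (K n) (Algebra.TensorProduct.lmul' (S := A) ℤ
            (∑ i ∈ Sf, i.1 ⊗ₜ[ℤ] i.2))) := by
        rw [map_sum, map_sum, map_sum, ← Finset.sum_coe_sort Sf]
        refine Finset.sum_congr rfl fun i _ => ?_
        simp [X, Y]
      rw [this, hs1, map_one, map_one]
    · have hnm' : (n : ℕ) ≠ m := fun h => hnm (Fin.ext h)
      let _ : Algebra k Ω := ι.toAlgebra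
      have hfc : ∀ c : k, σ' n (algebraMap k (K n) c) = algebraMap k Ω c := fun c => by
        change (σ' n).comp (algebraMap k (K n)) c = ι c
        rw [hσ' n]
      have hgc : ∀ c : k, σ' m (algebraMap k (K m) c) = algebraMap k Ω c := fun c => by
        change (σ' m).comp (algebraMap k (K m)) c = ι c
        rw [hσ' m]
      let f : K n →ₐ[k] Ω := { toRingHom := σ' n, commutes' := hfc }
      let g : K m →ₐ[k] Ω := { toRingHom := σ' m, commutes' := hgc }
      let φ : K n ⊗[k] K m →ₐ[k] Ω := Algebra.TensorProduct.lift f g (fun _ _ => Commute.all _ _)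
      have hker : (RingHom.ker φ.toRingHom).IsPrime := RingHom.ker_isPrime _
      have h0 := hs n m hnm' ⟨RingHom.ker φ.toRingHom, hker⟩
      change φ (theta A k K n m (∑ i ∈ Sf, i.1 ⊗ₜ[ℤ] i.2)) = 0 at h0
      rw [map_sum, map_sum, ← Finset.sum_coe_sort Sf] at h0
      rw [← h0]
      refine Finset.sum_congr rfl fun i _ => ?_
      rw [theta_tmul]
      simp [X, Y, φ, f, g]
  have h1 : (X * Y).rank ≤ Sf.card :=
    (Matrix.rank_mul_le_left X Y).trans ((Matrix.rank_le_card_width X).trans (by simp))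
  rw [hXY, Matrix.rank_one, Fintype.card_fin] at h1
  omega

theorem result (A : Type u) [CommRing A] (k : Type u) [Field k]
    (p : ℕ → PrimeSpectrum A) (hp : Function.Injective p) (K : ℕ → Type u) [∀ n, Field (K n)]
    [∀ n, Algebra A (K n)] [∀ n, Algebra k (K n)]
    (hker : ∀ n, RingHom.ker (algebraMap A (K n)) = (p n).asIdeal)
    (hfrac : ∀ n (x : K n), ∃ a b : A, algebraMap A (K n) b ≠ 0 ∧ x * algebraMap A (K n) b = algebraMap A (K n) a) :
    (closure (⋃ (n : ℕ) (m : ℕ) (_ : n ≠ m),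
        Set.range (PrimeSpectrum.comap
          (Algebra.TensorProduct.lift
            ((Algebra.TensorProduct.includeLeft (R := k) (S := ℤ) (A := K n) (B := K m)).toRingHom.toIntAlgHom.comp
              (Algebra.ofId A (K n)).toRingHom.toIntAlgHom)
            ((Algebra.TensorProduct.includeRight (R := k) (A := K n) (B := K m)).toRingHom.toIntAlgHom.comp
              (Algebra.ofId A (K m)).toRingHom.toIntAlgHom)
            (fun _ _ => Commute.all _ _)).toRingHom)) ∩
      Set.range (PrimeSpectrum.comap (Algebra.TensorProduct.lmul' (S := A) ℤ).toRingHom)).Nonempty := by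
  classical
  change (closure (⋃ (n : ℕ) (m : ℕ) (_ : n ≠ m),
        Set.range (PrimeSpectrum.comap (theta A k K n m))) ∩
      Set.range (PrimeSpectrum.comap (Algebra.TensorProduct.lmul' (S := A) ℤ).toRingHom)).Nonempty
  set S : Set (PrimeSpectrum (A ⊗[ℤ] A)) := ⋃ (n : ℕ) (m : ℕ) (_ : n ≠ m),
        Set.range (PrimeSpectrum.comap (theta A k K n m)) with hS
  have hsurj : Function.Surjective (Algebra.TensorProduct.lmul' (S := A) ℤ).toRingHom := by
    intro a
    exact ⟨a ⊗ₜ 1, by simp⟩
  rw [← PrimeSpectrum.zeroLocus_vanishingIdeal_eq_closure,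
    range_comap_of_surjective _ _ hsurj, ← PrimeSpectrum.zeroLocus_sup,
    Set.nonempty_iff_ne_empty, Ne, PrimeSpectrum.zeroLocus_empty_iff_eq_top]
  intro htop
  have h1 : (1 : A ⊗[ℤ] A) ∈ PrimeSpectrum.vanishingIdeal S ⊔
      RingHom.ker (Algebra.TensorProduct.lmul' (S := A) ℤ).toRingHom := by
    rw [htop]; trivial
  obtain ⟨s, hs, d, hd, hsd⟩ := Submodule.mem_sup.mp h1
  refine key A k K s ?_ ?_
  · have : Algebra.TensorProduct.lmul' (S := A) ℤ (s + d) = 1 := by rw [hsd, map_one]
    rw [map_add] at this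
    rw [RingHom.mem_ker] at hd
    change Algebra.TensorProduct.lmul' (S := A) ℤ d = 0 at hd
    rwa [hd, add_zero] at this
  · intro n m hnm q
    rw [PrimeSpectrum.mem_vanishingIdeal] at hs
    have := hs (PrimeSpectrum.comap (theta A k K n m) q) (by
      rw [hS]
      simp only [Set.mem_iUnion]
      exact ⟨n, m, hnm, q, rfl⟩)
    exact this

end Groth.Agent.S10422
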