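import Groth.Statements.S10242
import Groth.Agent.Lib.Seat45EtRed
import Groth.Agent.Lib.Seat45Charts

set_option autoImplicit false
universe u
open CategoryTheory CategoryTheory.Limits AlgebraicGeometry Topology TopologicalSpace
open AlgSp

namespace Groth.Agent.S10242


/-- Every scheme étale over a reduced algebraic space is reduced. -/
theorem isReduced_chart {S : Scheme.{u}} {F : AlgSp.Sp S} (hX : AlgSp.IsReducedSp F) {U : Over S}
    (a : (AlgSp.yon S).obj U ⟶ F) (ha : AlgSp.RepWith @Etale a) : IsReduced U.left := by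
  obtain ⟨V, p, hpe, hps, hV⟩ := hX
  have sq := hpe.rep.isPullback' a
  haveI : Etale (hpe.rep.snd a).left := hpe.property_snd a
  haveI : Surjective (hpe.rep.snd a).left := hps.2 a _ _ (hpe.rep.isPullback a)
  haveI : Etale (hpe.rep.fst' a).left := ha.2 p _ _ sq.flip
  haveI : IsReduced V.left := hV
  haveI : ∀ u : ↥U.left, _root_.IsReduced (U.left.presheaf.stalk u) := by
    intro u
    obtain ⟨w, rfl⟩ := (hpe.rep.snd a).left.surjective u
    rw [← Groth.Agent.Lib.Seat45.EtRed.isReduced_stalk_iff_of_etale (hpe.rep.snd a).left w,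
      Groth.Agent.Lib.Seat45.EtRed.isReduced_stalk_iff_of_etale (hpe.rep.fst' a).left w]
    infer_instance
  exact isReduced_of_isReduced_stalk U.left

/-- Let X be a reduced algebraic space over a scheme S. Then the ring of global sections of the
structure sheaf of X (on the small etale site) is reduced, and if a global section f satisfies X =
V(f), meaning that its restriction to every scheme U etale over X has empty non-vanishing locus
D(f|_U), then f = 0. -/
theorem result {S : Scheme.{u}} (X : AlgSp.Space S) (hX : AlgSp.IsReducedSp X.obj) :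
    _root_.IsReduced ↥(AlgSp.gsectEt (AlgSp.OEt X.obj)) ∧
      ∀ f : ↥(AlgSp.gsectEt (AlgSp.OEt X.obj)),
        (∀ E : AlgSp.EtOver X.obj,
            E.obj.left.left.basicOpen ((limit.π (AlgSp.OEt X.obj).obj (Opposite.op E)) f).down = ⊥) →
          f = 0 := by
  have hred : ∀ E : AlgSp.EtOver X.obj, IsReduced E.obj.left.left := fun E =>
    isReduced_chart hX E.obj.hom E.property
  have hext : ∀ f g : ↥(AlgSp.gsectEt (AlgSp.OEt X.obj)),
      (∀ E : AlgSp.EtOver X.obj, (limit.π (AlgSp.OEt X.obj).obj (Opposite.op E)) f =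
        (limit.π (AlgSp.OEt X.obj).obj (Opposite.op E)) g) → f = g := by
    intro f g h
    apply Concrete.limit_ext
    intro j
    exact h j.unop
  constructor
  · constructor
    intro f hf
    obtain ⟨n, hn⟩ := hf
    apply hext
    intro E
    haveI : IsReduced E.obj.left.left := hred E
    rw [map_zero]
    have h1 : ((limit.π (AlgSp.OEt X.obj).obj (Opposite.op E)) f) ^ n = 0 := by
      rw [← map_pow, hn, map_zero]
    obtain ⟨s, hs⟩ : ∃ s : Γ(E.obj.left.left, ⊤),
        s = ((limit.π (AlgSp.OEt X.obj).obj (Opposite.op E)) f).down := ⟨_, rfl⟩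
    have h2 : s ^ n = 0 := by
      rw [hs]
      exact congrArg ULift.down h1
    have h3 : s = 0 := eq_zero_of_pow_eq_zero h2
    rw [hs] at h3
    exact ULift.ext _ _ h3
  · intro f hf
    apply hext
    intro E
    haveI : IsReduced E.obj.left.left := hred E
    rw [map_zero]
    obtain ⟨s, hs⟩ : ∃ s : Γ(E.obj.left.left, ⊤),
        s = ((limit.π (AlgSp.OEt X.obj).obj (Opposite.op E)) f).down := ⟨_, rfl⟩
    have h2 : E.obj.left.left.basicOpen s = ⊥ := by rw [hs]; exact hf E
    have h3 : s = 0 := (AlgebraicGeometry.basicOpen_eq_bot_iff s).1 h2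
    rw [hs] at h3
    exact ULift.ext _ _ h3

end Groth.Agent.S10242
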