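import Groth.Statements.S10397
import Groth.Agent.S10337
import Groth.Agent.S10362
import Groth.Agent.S10210
import Groth.Agent.Lib.Seat46GenBdd
import Groth.Agent.Lib.Seat46IrrComp
import Groth.Agent.Lib.Helper12LargestOpen

set_option autoImplicit false
universe u
open CategoryTheory CategoryTheory.Limits AlgebraicGeometry Topology TopologicalSpace
open AlgSp

namespace Groth.Agent.S10397

/-- (1) ⇔ (3): an algebraic space X over a scheme S is decent with |X| having finitely many irreducible
components if and only if X has a dense open subscheme X' with finitely many irreducible components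
whose generic points x'_j give quasi-compact morphisms Spec κ(x'_j) ⟶ X. -/
theorem result {S : Scheme.{u}} (X : AlgSp.Space S) :
    (AlgSp.IsDecent X.obj ∧ (irreducibleComponents (AlgSp.Points X.obj)).Finite) ↔
      ∃ (X' : Over S) (j : (AlgSp.yon S).obj X' ⟶ X.obj), AlgSp.RepWith @IsOpenImmersion j ∧
        Dense (Set.range (AlgSp.Points.ofPt j)) ∧ (irreducibleComponents ↥X'.left).Finite ∧
        ∀ x' : ↥X'.left, (∃ T ∈ irreducibleComponents ↥X'.left, IsGenericPoint x' T) →
          AlgSp.RepWith @QuasiCompact (AlgSp.FieldPt.ofPt j x').toHom := by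
  constructor
  · rintro ⟨hX, hfin⟩
    obtain ⟨Xs, js, hjs, hrep, hdense⟩ := Groth.Agent.S10337.result X hX
    obtain ⟨V, ⟨r⟩⟩ := hrep
    let e : (AlgSp.yon S).obj V ≅ Xs.obj := AlgSp.isoOfRepresentableBy r
    let j : (AlgSp.yon S).obj V ⟶ X.obj := e.hom ≫ js.hom
    have hj : AlgSp.RepWith @IsOpenImmersion j :=
      (MorphismProperty.cancel_left_of_respectsIso (AlgSp.RepWith @IsOpenImmersion) e.hom js.hom).2 hjs
    have hje : AlgSp.RepWith @Etale j := Groth.Agent.S10210.repWith_etale_of_isOpenImmersion hj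
    have hrange : Set.range (AlgSp.Points.map js.hom) ⊆ Set.range (AlgSp.Points.ofPt j) := by
      rintro _ ⟨y, rfl⟩
      obtain ⟨v, hv⟩ := (AlgSp.Points.schemeHomeo V).surjective (AlgSp.Points.map e.inv y)
      refine ⟨v, ?_⟩
      rw [AlgSp.Points.ofPt_eq_map_ofScheme]
      change AlgSp.Points.map j (AlgSp.Points.schemeHomeo V v) = _
      rw [hv, ← AlgSp.Points.map_comp, ← Category.assoc, e.inv_hom_id, Category.id_comp]
    have hemb : Topology.IsOpenEmbedding (AlgSp.Points.ofPt j) := by
      refine Topology.IsOpenEmbedding.of_continuous_injective_isOpenMap (AlgSp.Points.continuous_ofPt j) ?_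
        (Groth.Agent.S10176.isOpenMap_ofPt j hje)
      intro v v' hvv'
      rw [AlgSp.Points.ofPt_eq_map_ofScheme, AlgSp.Points.ofPt_eq_map_ofScheme j v'] at hvv'
      exact (AlgSp.Points.schemeHomeo V).injective
        (Groth.Agent.Lib.Helper12.LargestOpen.injective_map_of_open j hj hvv')
    refine ⟨V, j, hj, hdense.mono hrange, Groth.Agent.Lib.Seat46.IrrComp.finite_of_isOpenEmbedding hemb hfin, ?_⟩
    intro x' _
    obtain ⟨p, hp, hm, hq⟩ := hX (AlgSp.Points.mk (AlgSp.FieldPt.ofPt j x'))
    exact Groth.Agent.S10362.result X p _ hm hq hp.symm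
  · rintro ⟨X', j, hj, hd, hfin, hqc⟩
    refine ⟨Groth.Agent.Lib.Seat46.GenBdd.isDecent_of_dense_open X j hj hd hfin hqc, ?_⟩
    exact Groth.Agent.Lib.Seat46.IrrComp.finite_of_denseRange (AlgSp.Points.continuous_ofPt j) hd hfin

end Groth.Agent.S10397
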