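import Groth.Statements.S10667
import Groth.Agent.Lib.Seat47LciBase

set_option autoImplicit false
universe u
open CategoryTheory CategoryTheory.Limits AlgebraicGeometry
open AlgSp

namespace Groth.Agent.S10667

/-- The property of being a local complete intersection morphism of algebraic spaces over S is fpqc
local on the base: for an fpqc covering of an algebraic space Y by algebraic spaces Y_i and pullback
squares X_i = X ×_Y Y_i, a morphism f : X ⟶ Y is a local complete intersection morphism if and only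
if every base change X_i ⟶ Y_i is. -/
theorem result {S : Scheme.{u}} : AlgSp.IsLocalOnBase (AlgSp.IsFpqcCover (S := S)) AlgSp.IsLCIMor := by
  open Groth.Agent.Lib.Seat31.LciHom Groth.Agent.Lib.Seat47.LciSp Groth.Agent.Lib.Seat47.LciBase in
  intro ι Y Yi g hY hYi hcov X f hX Xi p q hXi sq
  have key : ∀ {F G : AlgSp.Sp S} (m : F ⟶ G), AlgSp.IsLCIMor m ↔ AlgSp.LocP LciM m := fun m =>
    ⟨Groth.Agent.Lib.Helper12.LargestOpen.locP_mono (fun _ _ f hf => (lci_iff_lciM f).1 hf),
      Groth.Agent.Lib.Helper12.LargestOpen.locP_mono (fun _ _ f hf => (lci_iff_lciM f).2 hf)⟩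
  have hfbc : ∀ {A B A' B' : Scheme.{u}} {f : A ⟶ B} {g : B' ⟶ B} {f' : A' ⟶ B'} {g' : A' ⟶ A},
      IsPullback g' f' f g → Flat g → LciM f → LciM f' := fun sq hg hf => by
    haveI := hg
    exact lciM_of_isPullback_of_flat sq hf
  have hEt : ∀ {A B : Scheme.{u}} (g : A ⟶ B), Etale g → LciM g := fun g hg => by
    haveI := hg
    exact lciM_of_smooth g
  have hsrc : ∀ {A B C : Scheme.{u}} (e : A ⟶ B) (k : B ⟶ C) [Etale e] [Surjective e],
      LciM (e ≫ k) → LciM k := fun e k _ _ h =>
    Groth.Agent.Lib.Seat47.LciSrc.lciM_of_etale_cover_source e k h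
  have hcancel : ∀ {A B C : Scheme.{u}} (u : A ⟶ B) (k : B ⟶ C), Etale k → LciM (u ≫ k) →
      LciM u := fun u k hk h => by
    haveI := hk
    exact lciM_of_comp_etale u k h
  rw [key]
  constructor
  · intro hf i
    rw [key]
    exact locP_flat_baseChange LciM hfbc hEt hsrc hcancel hX hY (hYi i) (sq i) (hcov.1 i) hf
  · intro H
    exact locP_of_fpqcCover_base' LciM hfbc hEt hsrc hcancel Yi g hY hYi hcov f hX Xi p q hXi sq
      (fun i => (key _).1 (H i))

end Groth.Agent.S10667
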