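import Groth.Statements.S9729
import Groth.Agent.Lib.Seat40SmoothChart

set_option autoImplicit false
universe u
open FlatMor

namespace Groth.Agent.S9729

open AlgebraicGeometry CategoryTheory Limits in
/-- Let f : X ⟶ Y and g : Y ⟶ S be morphisms with g smooth. If f ≫ g is a local complete intersection
morphism (Koszul at every point of X) then f is a local complete intersection morphism. -/
theorem result {X Y S : Scheme.{u}} (f : X ⟶ Y) (g : Y ⟶ S) [Smooth g]
    (h : ∀ x : X, Synt.IsKoszulAt (f ≫ g) x) (x : X) : Synt.IsKoszulAt f x := by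
  obtain ⟨U, P, i, π, hxU, hlft, hreg, hsm, hcomm⟩ := h x
  have := hsm
  have : IsImmersion i := hreg.1
  let i' : (U : Scheme.{u}) ⟶ pullback π g :=
    pullback.lift i (U.ι ≫ f) (by rw [hcomm, Category.assoc])
  have hfst : i' ≫ pullback.fst π g = i := pullback.lift_fst _ _ _
  have hsnd : i' ≫ pullback.snd π g = U.ι ≫ f := pullback.lift_snd _ _ _
  have : IsImmersion (i' ≫ pullback.fst π g) := by rw [hfst]; infer_instance
  have : IsImmersion i' := IsImmersion.of_comp i' (pullback.fst π g)
  refine ⟨U, pullback π g, i', pullback.snd π g, hxU, ?_, ?_, inferInstance, hsnd⟩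
  · have : LocallyOfFiniteType ((U.ι ≫ f) ≫ g) := by rw [Category.assoc]; exact hlft
    exact locallyOfFiniteType_of_comp (U.ι ≫ f) g
  · exact Groth.Agent.Lib.Seat40.SmoothChart.regularImmersion_of_comp (pullback.fst π g) i'
      (by rw [hfst]; exact hreg)

end Groth.Agent.S9729
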