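import Groth.Statements.S8654
import Groth.Agent.Lib.Seat40RegImmComp

set_option autoImplicit false
universe u
open CategoryTheory CategoryTheory.Limits AlgebraicGeometry
open RegImm

namespace Groth.Agent.S8654

/-- Let i : Y ⟶ X and j : Z ⟶ Y be Koszul-regular immersions (not necessarily closed). Then the
composite Z ⟶ X is a Koszul-regular immersion. -/
theorem result {X Y Z : Scheme.{u}} (i : Y ⟶ X) (j : Z ⟶ Y)
    (hi : RegImm.IsRegularImmersion .koszul i) (hj : RegImm.IsRegularImmersion .koszul j) :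
    RegImm.IsRegularImmersion .koszul (j ≫ i) := by
  obtain ⟨himm, hpi⟩ := hi
  obtain ⟨hjmm, hpj⟩ := hj
  have := himm
  have := hjmm
  refine ⟨inferInstance, fun z => ?_⟩
  obtain ⟨U, hU, hcl, rs, hrs, hker⟩ := hpi (j z)
  obtain ⟨V, hV, hclV, ss, hss, hkerV⟩ := hpj z
  obtain ⟨W, hW, hclW, ts, -, hts, hkerW⟩ :=
    Groth.Agent.Lib.Seat40.RegImmComp.comp_at i j z U hU hcl rs hrs hker V hV hclV ss hss hkerV
  exact ⟨W, hW, hclW, ts, hts, hkerW⟩

end Groth.Agent.S8654
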