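import Groth.Statements.S10624
import Groth.Agent.Lib.Seat47FEt3
import Groth.Agent.S9885

set_option autoImplicit false
universe u
open CategoryTheory CategoryTheory.Limits AlgebraicGeometry
open AlgSp

namespace Groth.Agent.S10624

open Groth.Agent.Lib.Seat47.FEt Groth.Agent.Lib.Seat47.FamSheaf Groth.Agent.Lib.Helper15

/-- uniqueness of lifts for a formally unramified morphism of sheaves along a first order thickening
of sheaves whose target has an étale atlas. -/
theorem uniq_of_foThick {S : Scheme.{u}} {F G T T' : AlgSp.Sp S} (f : F ⟶ G)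
    (hf : AlgSp.IsFormallyUnramifiedMor f) (hT' : AlgSp.IsAlgSpace T') (j : T ⟶ T')
    (hj : AlgSp.IsFOThickMor j) (l l' : T' ⟶ F) (h1 : j ≫ l = j ≫ l') (h2 : l ≫ f = l' ≫ f) :
    l = l' := by
  obtain ⟨W, c, hce, hcs⟩ := hT'.atlas
  haveI : Sheaf.IsLocallySurjective c :=
    Groth.Agent.S9885.isLocallySurjective_of_repWith c
      ⟨hce.1, fun _ _ g fst snd h => by
        haveI : Etale snd.left := hce.2 g fst snd h
        exact (inferInstance : Flat snd.left)⟩
      ⟨hce.1, fun _ _ g fst snd h => by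
        haveI : Etale snd.left := hce.2 g fst snd h
        exact (inferInstance : LocallyOfFinitePresentation snd.left)⟩
      hcs
  haveI : Epi c := inferInstance
  rw [← cancel_epi c]
  apply sep _ _ (affineOpens_cover W)
  intro V
  haveI hVaff : IsAffine (resW W V.1).left := V.2
  have hcV : AlgSp.RepWith @Etale ((AlgSp.yon S).map (resWι W V.1) ≫ c) :=
    MorphismProperty.comp_mem _ _ _
      ((AlgSp.repWith_yon_map_iff _ _).2 (show Etale V.1.ι from inferInstance)) hce
  obtain ⟨Z, t, pT, hpb⟩ := hj.1.1 ((AlgSp.yon S).map (resWι W V.1) ≫ c)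
  have hthick : AlgSp.thick t.left := hj.1.2 _ pT t hpb
  have hsq : AlgSp.sqZero t.left := hj.2 _ pT t hVaff hcV hpb
  have hfo : MoreMor.IsFirstOrderThickening t.left := ⟨hthick, hsq⟩
  have e : ∀ m : T' ⟶ F, (AlgSp.yon S).map t ≫ ((AlgSp.yon S).map (resWι W V.1) ≫ c) ≫ m =
      pT ≫ j ≫ m := by
    intro m
    rw [← Category.assoc, ← hpb.w, Category.assoc]
  have key := uext hf t hfo (((AlgSp.yon S).map (resWι W V.1) ≫ c) ≫ l)
    (((AlgSp.yon S).map (resWι W V.1) ≫ c) ≫ l') (by rw [e, e, h1]) (by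
      simp only [Category.assoc, h2])
  rw [Category.assoc, Category.assoc] at key
  exact key

/-- Let f : X ⟶ Y be a formally unramified morphism of algebraic spaces over S and let j : T ⟶ T' be a
first order thickening of algebraic spaces (not necessarily affine schemes) with a : T ⟶ X, b : T' ⟶
Y and a ≫ f = j ≫ b. Then any two morphisms l, l' : T' ⟶ X with j ≫ l = a = j ≫ l' and l ≫ f = b =
l' ≫ f are equal. -/
theorem result {S : Scheme.{u}} {X Y : AlgSp.Space S} (f : X ⟶ Y)
    (hf : AlgSp.IsFormallyUnramifiedMor f.hom) {T T' : AlgSp.Space S} (j : T ⟶ T') (hj : AlgSp.IsFOThickMor j.hom)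
    (a : T ⟶ X) (b : T' ⟶ Y) (w : a ≫ f = j ≫ b)
    (l l' : T' ⟶ X) (h1 : j ≫ l = a) (h2 : l ≫ f = b) (h3 : j ≫ l' = a) (h4 : l' ≫ f = b) : l = l' := by
  apply ObjectProperty.hom_ext
  apply uniq_of_foThick f.hom hf T'.property j.hom hj l.hom l'.hom
  · have := congrArg (fun m => m.hom) (h1.trans h3.symm)
    exact this
  · have := congrArg (fun m => m.hom) (h2.trans h4.symm)
    exact this

end Groth.Agent.S10624
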