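import Groth.Statements.S0025
import Groth.Agent.Lib.Seat92ChowCover

set_option autoImplicit false
universe u
open Coherent

namespace Groth.Agent.S0025

open AlgebraicGeometry CategoryTheory in
/-- Let S be Noetherian and f : X → S separated of finite type. Then for some n there are a scheme X', a
proper surjective π : X' → X and an immersion X' → P^n_S compatible with the maps to S, such that π
is an isomorphism over a dense open of X. -/
theorem result {X S : Scheme.{u}} (f : X ⟶ S) [IsNoetherian S] [IsSeparated f]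
    [LocallyOfFiniteType f] [QuasiCompact f] :
    ∃ (n : ℕ) (X' : Scheme.{u}) (π : X' ⟶ X) (j : X' ⟶ CohB1.ProjSpaceOver n S),
      IsImmersion j ∧ j ≫ CohB1.ProjSpaceOver.toBase n S = π ≫ f ∧ IsProper π ∧ Surjective π ∧
      ∃ U : X.Opens, Dense (U : Set X) ∧ IsIso (π ∣_ U) := by
  have : CompactSpace X := QuasiCompact.compactSpace_of_compactSpace f
  have : IsLocallyNoetherian X := LocallyOfFiniteType.isLocallyNoetherian f
  have : IsNoetherian X := {}
  obtain ⟨s, W, hs, hcov, hImm, hd⟩ := Groth.Agent.Lib.Seat92.ChowCover.exists_dense_cover f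
  have hUd : Dense ((s.inf W : X.Opens) : Set X) :=
    Groth.Agent.Lib.Seat92.ChowCover.dense_finset_inf s W hd
  obtain ⟨N, X', π, j, hj, hjπ, hπ, hiso, hsurj⟩ :=
    Groth.Agent.Lib.Seat92.ChowCore.chow_core (f := f) (U := s.inf W)
      (TopologicalSpace.NoetherianSpace.isCompact _) s hs W (fun i hi => Finset.inf_le hi) hcov hImm
  exact ⟨N, X', π, j, hj, hjπ, hπ, ⟨hsurj hUd⟩, s.inf W, hUd, hiso⟩

end Groth.Agent.S0025
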