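import Groth.Statements.S16484
import Groth.Agent.Lib.Seat77LocGen
-- import your own Groth.Agent.* helpers here

set_option autoImplicit false
universe u
open CategoryTheory AlgebraicGeometry
open RefHull

namespace Groth.Agent.S16484

open Groth.Agent.Lib.Seat77.LocGen TopologicalSpace in
/-- a section of the sheaf Hom whose value at `x` vanishes, vanishes near `x` (for `F` of finite type). -/
theorem exists_nhd_eq_zero {X : Scheme.{u}} (F G : X.Modules) (hF : CohB1.IsFT F) (x : X)
    {U₀ : X.Opens} (hx₀ : x ∈ U₀) (g : Γ(homSh F G, U₀)) (hg : g.1 ⟨x, hx₀⟩ = 0) :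
    ∃ (W : X.Opens) (_ : x ∈ W) (hW : W ≤ U₀), ∀ (y : X) (hy : y ∈ W), g.1 ⟨y, hW hy⟩ = 0 := by
  obtain ⟨U, hxU, ι, hfin, s, hs⟩ := exists_local_generators F hF x
  have key : ∀ i : ι, ∃ W : X.Opens, x ∈ W ∧ ∀ (y : X) (_ : y ∈ W) (hy0 : y ∈ U₀) (hyU : y ∈ U),
      g.1 ⟨y, hy0⟩ (F.presheaf.germ U y hyU (s i)) = 0 := by
    intro i
    obtain ⟨W, hxW, j, n, hn⟩ := isLocSect_of_mem g (U₀ ⊓ U) (homOfLE inf_le_left)
      (F.presheaf.map (homOfLE (inf_le_right : U₀ ⊓ U ≤ U)).op (s i)) ⟨x, ⟨hx₀, hxU⟩⟩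
    have h0 := hn ⟨x, hxW⟩
    dsimp only at h0
    rw [TopCat.Presheaf.germ_res_apply, hg, LinearMap.zero_apply] at h0
    have h1 : G.presheaf.germ W x hxW n = G.presheaf.germ W x hxW 0 := by rw [← h0, map_zero]
    obtain ⟨W', hxW', iW, iW', hW'⟩ := TopCat.Presheaf.germ_eq G.presheaf x hxW hxW n 0 h1
    rw [map_zero] at hW'
    refine ⟨W', hxW', fun y hy hy0 hyU => ?_⟩
    have h2 := hn ⟨y, iW.le hy⟩
    dsimp only at h2
    rw [TopCat.Presheaf.germ_res_apply] at h2
    rw [h2, ← TopCat.Presheaf.germ_res_apply G.presheaf iW y hy n, hW', map_zero]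
  choose W hxW hW using key
  have := hfin
  refine ⟨(⨅ i, W i) ⊓ (U₀ ⊓ U), ⟨?_, hx₀, hxU⟩, inf_le_right.trans inf_le_left, fun y hy => ?_⟩
  · rw [Opens.coe_iInf]
    exact Set.mem_iInter.2 hxW
  · have hyW : ∀ i, y ∈ W i := by
      have := hy.1
      rw [Opens.coe_iInf] at this
      exact Set.mem_iInter.1 this
    have hyU : y ∈ U := hy.2.2
    apply LinearMap.ext_on (hs y hyU)
    rintro _ ⟨i, rfl⟩
    rw [LinearMap.zero_apply]
    exact hW i y (hyW i) _ hyU

/-- Consider a scheme X together with O_X-modules F and G, where F is assumed to be of finite type, and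
fix a point x ∈ X. The natural O_{X,x}-linear map 𝓗om_{O_X}(F, G)_x → Hom_{O_{X,x}}(F_x, G_x),
taking the germ at x of a section of the sheaf Hom to the map on stalks at x that it induces, is
injective. (In the source the claim is made for modules over any ringed space; here it is formulated
only for schemes, since that is where the sheaf Hom used in the statement is available.) -/
theorem result (X : Scheme.{u}) (F G : X.Modules) (hF : CohB1.IsFT F) (x : X) :
    Function.Injective (RefHull.evalStalk F G x) := by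
  rw [injective_iff_map_eq_zero]
  intro θ hθ
  obtain ⟨U₀, hx₀, g, rfl⟩ := TopCat.Presheaf.exists_germ_eq (homSh F G).presheaf θ
  rw [evalStalk_germ] at hθ
  obtain ⟨W, hxW, hW, hzero⟩ := exists_nhd_eq_zero F G hF x hx₀ g hθ
  rw [← TopCat.Presheaf.germ_res_apply (homSh F G).presheaf (homOfLE hW) x hxW g]
  have : (homSh F G).presheaf.map (homOfLE hW).op g = 0 := by
    apply Subtype.ext
    funext y
    exact hzero y.1 y.2
  rw [this, map_zero]

end Groth.Agent.S16484
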