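import Groth.Statements.S16080
import Groth.Agent.Lib.Seat55ReflHull
import Groth.Agent.Lib.Helper20ZClos14
import Groth.Agent.Lib.Seat43ClosedPt

set_option autoImplicit false
universe u
open CategoryTheory CategoryTheory.Limits AlgebraicGeometry TopologicalSpace
open SDiv

namespace Groth.Agent.S16080

open RefHull Groth.Agent.Lib.Seat55.ReflHull

/-- Let X be an integral locally Noetherian scheme, and suppose F is an O_X-module that is coherent.
Then these three conditions on F are mutually equivalent: (1) F has the reflexive property, i.e. the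
canonical map F ⟶ F^** into the reflexive hull is an isomorphism; (2) for every point x the stalk
F_x is a reflexive O_{X,x}-module; (3) for every closed point x the stalk F_x is a reflexive
O_{X,x}-module. -/
theorem result (X : Scheme.{u}) [IsIntegral X] [IsLocallyNoetherian X] (F : X.Modules)
    (hF : Coh.IsCoh F) :
    [RefHull.IsReflexive F, ∀ x : ↥X, RefHull.IsReflexiveAt F x,
      ∀ x : ↥X, IsClosed ({x} : Set ↥X) → RefHull.IsReflexiveAt F x].TFAE := by
  have hR := isCoh_ddual F hF
  have hF1 := hF.1
  have hF2 := hF.2
  have hR1 := hR.1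
  have hR2 := hR.2
  tfae_have 1 → 2 := by
    intro h x
    have hiso : IsIso (bidualMap F) := h
    exact (bijective_stalkMapₗ_bidualMap_iff F hF x).mp
      (Groth.Agent.Lib.Seat75.HomExt.stalkMapₗ_bijective (bidualMap F) x)
  tfae_have 2 → 3 := fun h x _ => h x
  tfae_have 3 → 1 := by
    intro h
    have hopen := Groth.Agent.Lib.Helper20.ZClosLib.isOpen_setOf_bijective_ψ (bidualMap F)
    apply Groth.Agent.Lib.Seat75.Ref1Iso.isIso_of_stalkMapₗ_bijective
    intro x
    obtain ⟨z, hxz, hz⟩ := Groth.Agent.Lib.Seat43.ClosedPt.exists_isClosed_specializes x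
    have hzb : Function.Bijective (stalkMapₗ (bidualMap F) z) :=
      (bijective_stalkMapₗ_bidualMap_iff F hF z).mpr (h z hz)
    have hzmem : z ∈ {x : X | Function.Bijective (Groth.Agent.S8890.ψ (bidualMap F) x)} := hzb
    exact hxz.mem_open hopen hzmem
  tfae_finish

end Groth.Agent.S16080
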