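import Groth.Statements.S9866
import Groth.Agent.Lib.Seat58DescQuotRep

set_option autoImplicit false
open CategoryTheory CategoryTheory.Limits AlgebraicGeometry Opposite
universe u
open Desc

namespace Groth.Agent.S9866

/-- Let p : X ⟶ S be a surjective, flat, quasi-compact morphism of schemes and D = (V, φ) a descent
datum for schemes relative to p. Suppose every point v of V lies in the image of some morphism of
descent data D' ⟶ D whose underlying morphism of schemes over X is an open immersion and whose
source D' is effective (isomorphic to the canonical descent datum of a scheme over S). Then D is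
effective. (A φ-stable open W ⊆ V with its restricted descent datum, as in the published statement,
is the same thing as such a morphism D' ⟶ D up to isomorphism.) -/
theorem result {X S : Scheme.{u}} (p : X ⟶ S) [Surjective p] [Flat p] [QuasiCompact p]
    (D : Desc.SchDD p)
    (h : ∀ v : D.obj.left, ∃ (D' : Desc.SchDD p) (j : D' ⟶ D), IsOpenImmersion j.hom.left ∧
      v ∈ Set.range j.hom.left.base ∧ ∃ U' : Over S, Nonempty ((Desc.toDD p).obj U' ≅ D')) :
    ∃ U : Over S, Nonempty ((Desc.toDD p).obj U ≅ D) := by
  classical
  choose D' j hj hv hU using h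
  choose U' hU' using hU
  let ee : ∀ v, (Desc.toDD p).obj (U' v) ≅ D' v := fun v => (hU' v).some
  let k : ∀ v : D.obj.left, (Desc.toDD p).obj (U' v) ⟶ D := fun v => (ee v).hom ≫ j v
  have h1 : ∀ v, (ee v).hom.hom.left ≫ (ee v).inv.hom.left = 𝟙 _ := by
    intro v
    have := congrArg (fun m => m.hom.left) (ee v).hom_inv_id
    exact this
  have h2 : ∀ v, (ee v).inv.hom.left ≫ (ee v).hom.hom.left = 𝟙 _ := by
    intro v
    have := congrArg (fun m => m.hom.left) (ee v).inv_hom_id
    exact this
  have hkl : ∀ v, (k v).hom.left = (ee v).hom.hom.left ≫ (j v).hom.left := fun v => rfl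
  have hk : ∀ v, IsOpenImmersion (k v).hom.left := by
    intro v
    have : IsIso (ee v).hom.hom.left := ⟨(ee v).inv.hom.left, h1 v, h2 v⟩
    have := hj v
    rw [hkl]
    infer_instance
  refine Groth.Agent.Lib.Seat58.DescQuot.exists_iso_of_charts k (fun v => ⟨v, ?_⟩)
  obtain ⟨y, hy⟩ := hv v
  refine ⟨(ee v).inv.hom.left y, ?_⟩
  have h3 : (ee v).inv.hom.left ≫ (k v).hom.left = (j v).hom.left := by
    rw [hkl, ← Category.assoc, h2, Category.id_comp]
  rw [← Scheme.Hom.comp_apply, h3]
  exact hy

end Groth.Agent.S9866
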