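import Groth.Statements.S12838
-- import your own Groth.Agent.* helpers here

set_option autoImplicit false
set_option linter.unusedSimpArgs false
universe u
open CategoryTheory AlgebraicGeometry
open AlgSt

namespace Groth.Agent.S12838

section Aux

open MonoidalCategory CartesianMonoidalCategory MonObj GrpObj

variable {S : Scheme.{u}} {G : Over S} [GrpObj G] {X : Over S} (aX : AlgGrp.Action G X)

/-- the unit section of the trivial torsor -/
noncomputable def unitSec (T : Over S) : T ⟶ G ⊗ T := lift (1 : T ⟶ G) (𝟙 T)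

/-- right multiplication by a `T`-point of `G` on the trivial torsor, followed by `f` -/
noncomputable def rmul {T T' : Over S} (f : T ⟶ T') (g : T ⟶ G) : G ⊗ T ⟶ G ⊗ T' :=
  lift (fst G T * (snd G T ≫ g)) (snd G T ≫ f)

lemma one_act_lift {T : Over S} (x : T ⟶ X) : lift (1 : T ⟶ G) x ≫ aX.act = x := by
  have h : lift (1 : T ⟶ G) x = lift (toUnit T) x ≫ (η[G] ▷ X) := by
    apply CartesianMonoidalCategory.hom_ext <;> simp [Hom.one_def]
  rw [h, Category.assoc, aX.one_act]
  simp

lemma mul_act_lift {T : Over S} (a b : T ⟶ G) (x : T ⟶ X) :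
    lift (a * b) x ≫ aX.act = lift a (lift b x ≫ aX.act) ≫ aX.act := by
  have hμ : lift (a * b) x = lift (lift a b) x ≫ (μ[G] ▷ X) := by
    apply CartesianMonoidalCategory.hom_ext
    · simp [Hom.mul_def]
    · simp
  have h2 : lift (lift a b) x ≫ (α_ G G X).hom ≫ (G ◁ aX.act) = lift a (lift b x ≫ aX.act) := by
    apply CartesianMonoidalCategory.hom_ext <;> simp
  rw [hμ, Category.assoc, aX.mul_act, ← h2]
  simp

lemma leftMul_fst (T : Over S) :
    (leftMul G T).act ≫ fst G T = fst G (G ⊗ T) * (snd G (G ⊗ T) ≫ fst G T) := by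
  simp [leftMul]

lemma leftMul_snd (T : Over S) :
    (leftMul G T).act ≫ snd G T = snd G (G ⊗ T) ≫ snd G T := by
  simp [leftMul]

/-- every equivariant map of trivial torsors over `f` compatible with the maps to `X` is a right
multiplication -/
theorem part1 {T T' : Over S} (f : T ⟶ T') (x : T ⟶ X) (x' : T' ⟶ X) (t : G ⊗ T ⟶ G ⊗ T')
    (hcart : t ≫ snd G T' = snd G T ≫ f)
    (heqv : (leftMul G T).act ≫ t = (G ◁ t) ≫ (leftMul G T').act)
    (hwφ : t ≫ ((G ◁ x') ≫ aX.act) = (G ◁ x) ≫ aX.act) :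
    ∃ g : T ⟶ G, lift g (f ≫ x') ≫ aX.act = x ∧
      t = lift (fst G T * (snd G T ≫ g)) (snd G T ≫ f) := by
  refine ⟨unitSec T ≫ t ≫ fst G T', ?_, ?_⟩
  · have h1 : unitSec T ≫ t ≫ ((G ◁ x') ≫ aX.act) = unitSec T ≫ (G ◁ x) ≫ aX.act := by
      rw [hwφ]
    have e1 : unitSec T ≫ (G ◁ x) ≫ aX.act = x := by
      have : unitSec T ≫ (G ◁ x) = lift (1 : T ⟶ G) x := by
        apply CartesianMonoidalCategory.hom_ext <;> simp [unitSec]
      rw [← Category.assoc, this, one_act_lift]
    have e2 : unitSec T ≫ t ≫ (G ◁ x') = lift (unitSec T ≫ t ≫ fst G T') (f ≫ x') := by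
      apply CartesianMonoidalCategory.hom_ext
      · simp
      · simp only [Category.assoc, whiskerLeft_snd, lift_snd]
        rw [reassoc_of% hcart]
        simp [unitSec]
    rw [← e2, ← e1, ← h1]
    simp
  · let s : G ⊗ T ⟶ G ⊗ (G ⊗ T) := lift (fst G T) (snd G T ≫ unitSec T)
    have hs : s ≫ (leftMul G T).act = 𝟙 _ := by
      apply CartesianMonoidalCategory.hom_ext
      · rw [Category.assoc, leftMul_fst]
        simp [s, unitSec, comp_mul, comp_one]
      · rw [Category.assoc, leftMul_snd]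
        simp [s, unitSec]
    have h2 : t = s ≫ (G ◁ t) ≫ (leftMul G T').act := by
      rw [← heqv, ← Category.assoc, hs, Category.id_comp]
    apply CartesianMonoidalCategory.hom_ext
    · rw [lift_fst]
      conv_lhs => rw [h2]
      rw [Category.assoc, Category.assoc, leftMul_fst]
      simp [s, comp_mul]
    · rw [lift_snd, hcart]

/-- conversely right multiplications are morphisms of trivial torsors -/
theorem part2 {T T' : Over S} (f : T ⟶ T') (x : T ⟶ X) (x' : T' ⟶ X) (g : T ⟶ G)
    (hg : lift g (f ≫ x') ≫ aX.act = x) :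
    ((leftMul G T).act ≫ rmul f g = (G ◁ rmul f g) ≫ (leftMul G T').act) ∧
    IsPullback (rmul f g) (snd G T) (snd G T') f ∧
    rmul f g ≫ ((G ◁ x') ≫ aX.act) = (G ◁ x) ≫ aX.act := by
  have hx : x = lift g (f ≫ x') ≫ aX.act := hg.symm
  refine ⟨?_, ?_, ?_⟩
  · apply CartesianMonoidalCategory.hom_ext
    · rw [Category.assoc, Category.assoc, leftMul_fst]
      simp [rmul, comp_mul, leftMul_fst, _root_.mul_assoc]
      rw [← Category.assoc, leftMul_snd, Category.assoc]
    · rw [Category.assoc, Category.assoc, leftMul_snd]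
      simp [rmul]
      rw [← Category.assoc, leftMul_snd, Category.assoc]
  · let ψ : G ⊗ T ⟶ G ⊗ T := lift (fst G T * (snd G T ≫ g)) (snd G T)
    let ψ' : G ⊗ T ⟶ G ⊗ T := lift (fst G T * (snd G T ≫ g)⁻¹) (snd G T)
    have hψ : IsIso ψ := ⟨⟨ψ', by
      apply CartesianMonoidalCategory.hom_ext <;> simp [ψ, ψ', comp_mul, comp_inv], by
      apply CartesianMonoidalCategory.hom_ext <;> simp [ψ, ψ', comp_mul, comp_inv]⟩⟩
    have hr : rmul f g = ψ ≫ (G ◁ f) := by
      apply CartesianMonoidalCategory.hom_ext <;> simp [rmul, ψ]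
    refine (isPullback_whiskerLeft (G := G) f).of_iso (asIso ψ).symm (Iso.refl _) (Iso.refl _)
      (Iso.refl _) ?_ ?_ (by simp) (by simp)
    · rw [Iso.refl_hom, Category.comp_id, Iso.symm_hom, asIso_inv, IsIso.eq_inv_comp, hr]
    · rw [Iso.refl_hom, Category.comp_id, Iso.symm_hom, asIso_inv, IsIso.eq_inv_comp]
      simp [ψ]
  · have e1 : rmul f g ≫ (G ◁ x') = lift (fst G T * (snd G T ≫ g)) (snd G T ≫ f ≫ x') := by
      apply CartesianMonoidalCategory.hom_ext <;> simp [rmul]
    have e2 : (G ◁ x) = lift (fst G T) (lift (snd G T ≫ g) (snd G T ≫ f ≫ x') ≫ aX.act) := by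
      apply CartesianMonoidalCategory.hom_ext
      · simp
      · rw [hx]; simp
        rw [← Category.assoc, comp_lift]
    rw [← Category.assoc, e1, e2, mul_act_lift]

end Aux

open MonoidalCategory CartesianMonoidalCategory MonObj GrpObj in
/-- Let `G` be a group scheme over `S` acting on an `S`-scheme `X`, `f : T ⟶ T'` a morphism of
`S`-schemes, `x` a `T`-point and `x'` a `T'`-point of `X`. In the quotient category `[X/G]` (scheme
torsors for the fppf topology with an equivariant morphism to `X`) the canonical functor `X ⟶ [X/G]`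
sends `x` to the trivial torsor `G ×_S T ⟶ T`, with `G` acting by left multiplication on the first
factor and the equivariant morphism `(h, t) ↦ h · x(t)`, and likewise for `x'`. The morphisms from
the image of `x` to the image of `x'` lying over `f` are exactly the maps `(h, t) ↦ (h · g(t),
f(t))` for those `T`-points `g` of `G` with `g · (x' ∘ f) = x`: every morphism over `f` is of this
form, and every such `g` defines one. -/
theorem result (S : Scheme.{u}) (G : Over S) [GrpObj G] (X : Over S)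
    (aX : AlgGrp.Action G X) (T T' : Over S) (f : T ⟶ T') (x : T ⟶ X) (x' : T' ⟶ X) :
    (∀ h : (AlgSt.quotMap Scheme.fppfPrecoverage G aX).obj ((AlgSt.ofOverCat X).obj (Over.mk x)) ⟶ (AlgSt.quotMap Scheme.fppfPrecoverage G aX).obj ((AlgSt.ofOverCat X).obj (Over.mk x')),
        h.base = f → ∃ g : T ⟶ G, lift g (f ≫ x') ≫ aX.act = x ∧
          h.top = lift (fst G T * (snd G T ≫ g)) (snd G T ≫ f)) ∧
    (∀ g : T ⟶ G, lift g (f ≫ x') ≫ aX.act = x →
        ∃ h : (AlgSt.quotMap Scheme.fppfPrecoverage G aX).obj ((AlgSt.ofOverCat X).obj (Over.mk x)) ⟶ (AlgSt.quotMap Scheme.fppfPrecoverage G aX).obj ((AlgSt.ofOverCat X).obj (Over.mk x')),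
          h.base = f ∧ h.top = lift (fst G T * (snd G T ≫ g)) (snd G T ≫ f)) := by
  constructor
  · intro h hb
    refine part1 aX f x x' h.top ?_ h.eqv h.wφ
    have := h.cart.w
    rw [hb] at this
    exact this
  · intro g hg
    obtain ⟨h1, h2, h3⟩ := part2 aX f x x' g hg
    exact ⟨⟨f, rmul f g, h1, h2, h3⟩, rfl, rfl⟩

end Groth.Agent.S12838
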