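import Groth.Statements.S14978
import Groth.Agent.Lib.Seat58PshFunctorEq
import Groth.Agent.Lib.Helper15PshFib
import Groth.Agent.S12838

set_option autoImplicit false
universe u
open CategoryTheory MonoidalCategory CartesianMonoidalCategory AlgebraicGeometry
open AlgSt

namespace Groth.Agent.S14978

section Aux

open Opposite Groth.Agent.Lib.Helper17 Groth.Agent.Lib.Helper15PshFib Groth.Agent.Lib.Seat58.PshFunctorEq
open MonObj GrpObj

variable {S : Scheme.{u}} {G : Over S} [GrpObj G] {X : Over S} {aX : AlgGrp.Action G X}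
  {M : AlgSp.Sp S} (f : (AlgSp.yon S).obj X ⟶ M)

/-- the value of `f` on a `T`-point of `X` -/
def val {T : Over S} (x : T ⟶ X) : M.obj.obj (op T) := f.hom.app (op T) ⟨x⟩

theorem val_comp {T' T : Over S} (g : T' ⟶ T) (x : T ⟶ X) :
    val f (g ≫ x) = M.obj.map g.op (val f x) := by
  have h := NatTrans.naturality_apply f.hom g.op (⟨x⟩ : ((AlgSp.yon S).obj X).obj.obj (op T))
  exact h

theorem val_inv (hf : (AlgSp.yon S).map aX.act ≫ f = (AlgSp.yon S).map (snd G X) ≫ f)
    {T : Over S} (u : T ⟶ G ⊗ X) : val f (u ≫ aX.act) = val f (u ≫ snd G X) := by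
  have h1 := congrArg (fun φ => φ.hom.app (op T) (⟨u⟩ : ((AlgSp.yon S).obj (G ⊗ X)).obj.obj (op T))) hf
  exact h1

/-- the structure morphism of a torsor generates a covering sieve of its base -/
theorem cover_mem (A : QuotObj Scheme.fppfPrecoverage G aX) :
    Sieve.generate (Presieve.singleton A.π) ∈ AlgSp.J S A.base := by
  obtain ⟨R, hR, hsec⟩ := A.loc
  rw [GrothendieckTopology.mem_over_iff]
  refine GrothendieckTopology.superset_covering _ ?_ (Precoverage.generate_mem_toGrothendieck hR)
  rw [Sieve.generate_le_iff]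
  intro W g hg
  obtain ⟨s, hs⟩ := hsec g hg
  have hs' : s ≫ A.π.left = g := hs
  rw [Sieve.overEquiv_iff]
  refine ⟨A.P, Over.homMk s (by rw [← Over.w A.π, ← hs']; simp), A.π, ⟨⟩, ?_⟩
  ext
  simpa using hs'

/-- descent of the value of `f` along the structure morphism of a torsor -/
theorem existsUnique_sec (hf : (AlgSp.yon S).map aX.act ≫ f = (AlgSp.yon S).map (snd G X) ≫ f)
    (A : QuotObj Scheme.fppfPrecoverage G aX) :
    ∃! m : M.obj.obj (op A.base), M.obj.map A.π.op m = val f A.φ := by
  have hsh : Presieve.IsSheaf (AlgSp.J S) M.obj := (isSheaf_iff_isSheaf_of_type _ _).mp M.property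
  have hshf := hsh _ (cover_mem A)
  rw [← Presieve.isSheafFor_iff_generate, Presieve.isSheafFor_singleton] at hshf
  refine hshf (val f A.φ) ?_
  intro Z p₁ p₂ h
  obtain ⟨u, hu1, hu2⟩ := A.cart.exists_lift p₁ p₂ h
  rw [← val_comp, ← val_comp, ← hu1, ← hu2, Category.assoc, Category.assoc, A.eqv,
    ← Category.assoc, val_inv f hf, Category.assoc, whiskerLeft_snd]

/-- the descended section -/
noncomputable def sec (hf : (AlgSp.yon S).map aX.act ≫ f = (AlgSp.yon S).map (snd G X) ≫ f)
    (A : QuotObj Scheme.fppfPrecoverage G aX) : M.obj.obj (op A.base) :=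
  (existsUnique_sec f hf A).exists.choose

theorem sec_spec (hf : (AlgSp.yon S).map aX.act ≫ f = (AlgSp.yon S).map (snd G X) ≫ f)
    (A : QuotObj Scheme.fppfPrecoverage G aX) : M.obj.map A.π.op (sec f hf A) = val f A.φ :=
  (existsUnique_sec f hf A).exists.choose_spec

theorem sec_unique (hf : (AlgSp.yon S).map aX.act ≫ f = (AlgSp.yon S).map (snd G X) ≫ f)
    (A : QuotObj Scheme.fppfPrecoverage G aX) (m : M.obj.obj (op A.base))
    (hm : M.obj.map A.π.op m = val f A.φ) : m = sec f hf A :=
  (existsUnique_sec f hf A).unique hm (sec_spec f hf A)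

theorem sec_map (hf : (AlgSp.yon S).map aX.act ≫ f = (AlgSp.yon S).map (snd G X) ≫ f)
    {A B : QuotObj Scheme.fppfPrecoverage G aX} (h : A ⟶ B) :
    M.obj.map h.base.op (sec f hf B) = sec f hf A := by
  apply sec_unique
  rw [psh_map_op_map_op, ← h.cart.w, ← psh_map_op_map_op, sec_spec, ← val_comp, h.wφ]

/-- the functor `[X/G] ⟶ M` over the base induced by an invariant `f` -/
noncomputable def desc (hf : (AlgSp.yon S).map aX.act ≫ f = (AlgSp.yon S).map (snd G X) ≫ f) :
    AlgSt.QuotSt Scheme.fppfPrecoverage G aX ⥤ᵇ AlgSt.ofSp M :=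
  pshOfFam (𝒜 := AlgSt.QuotSt Scheme.fppfPrecoverage G aX) (P := M.obj)
    (fun A => sec f hf A) (fun h => sec_map f hf h)

theorem pshSec_desc (hf : (AlgSp.yon S).map aX.act ≫ f = (AlgSp.yon S).map (snd G X) ≫ f)
    (A : QuotObj Scheme.fppfPrecoverage G aX) :
    pshSec (desc f hf) A = sec f hf A :=
  pshSec_ofFam (𝒜 := AlgSt.QuotSt Scheme.fppfPrecoverage G aX) (P := M.obj) _ _ A

theorem pshSec_comp_quotMap (Φ : AlgSt.QuotSt Scheme.fppfPrecoverage G aX ⥤ᵇ AlgSt.ofSp M)
    (c : (AlgSt.ofSch X).obj) :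
    pshSec (BasedFunctor.comp (AlgSt.quotMap Scheme.fppfPrecoverage G aX) Φ) c =
      pshSec Φ ((AlgSt.quotMap Scheme.fppfPrecoverage G aX).obj c) := by
  rw [pshSec_comp]
  exact psh_map_id_op M.obj _

theorem sec_quotMap (hf : (AlgSp.yon S).map aX.act ≫ f = (AlgSp.yon S).map (snd G X) ≫ f)
    (c : (AlgSt.ofSch X).obj) :
    sec f hf ((AlgSt.quotMap Scheme.fppfPrecoverage G aX).obj c) = f.hom.app _ c.sec := by
  symm
  refine sec_unique f hf ((AlgSt.quotMap Scheme.fppfPrecoverage G aX).obj c) _ ?_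
  change M.obj.map (snd G c.base).op (val f c.sec.down) = val f ((G ◁ c.sec.down) ≫ aX.act)
  rw [← val_comp, val_inv f hf, whiskerLeft_snd]

/-- the tautological morphism from the trivial torsor over the total space of a torsor -/
noncomputable def taut (A : QuotObj Scheme.fppfPrecoverage G aX) :
    (AlgSt.quotMap Scheme.fppfPrecoverage G aX).obj ⟨A.P, ⟨A.φ⟩⟩ ⟶ A where
  base := A.π
  top := A.act.act
  eqv := by
    change lift (fst G (G ⊗ A.P) * (snd G (G ⊗ A.P) ≫ fst G A.P)) (snd G (G ⊗ A.P) ≫ snd G A.P) ≫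
      A.act.act = (G ◁ A.act.act) ≫ A.act.act
    rw [Groth.Agent.S12838.mul_act_lift]
    congr 1
    apply CartesianMonoidalCategory.hom_ext
    · simp
    · rw [lift_snd, whiskerLeft_snd, ← comp_lift, lift_fst_snd, Category.comp_id]
  cart := A.cart
  wφ := A.eqv

end Aux

/-- Let `S` be a scheme, `G` a group scheme over `S` whose structure morphism is affine, flat and
locally of finite presentation, acting on a scheme `X` over `S`, and `M` an algebraic space over
`S`. A morphism of fppf sheaves `f : h_X ⟶ M` which is `G`-invariant (its composites with the action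
`G ×_S X ⟶ X` and with the projection agree) factors through the canonical functor `X ⟶ [X/G]` by
exactly one functor `[X/G] ⟶ M` over `(Sch/S)` (this is the lifting half of the correspondence
between morphisms `[X/G] ⟶ M` and `G`-invariant morphisms `X ⟶ M`). Here `[X/G]` is the fppf
quotient stack described by `G`-torsors that are schemes together with an equivariant map to `X`,
and `M` is viewed as the category of its sections over `(Sch/S)`; since that category is fibred in
sets, equality of functors over the base is the appropriate uniqueness. (The published statement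
takes the base `S` affine; this row allows any base scheme.) -/
theorem result (S : Scheme.{u}) (G : Over S) [GrpObj G]
    [IsAffineHom G.hom] [Flat G.hom] [LocallyOfFinitePresentation G.hom]
    (X : Over S) (aX : AlgGrp.Action G X) (M : AlgSp.Space S)
    (f : (AlgSp.yon S).obj X ⟶ M.obj)
    (hf : (AlgSp.yon S).map aX.act ≫ f = (AlgSp.yon S).map (snd G X) ≫ f) :
    ∃! φ : AlgSt.QuotSt Scheme.fppfPrecoverage G aX ⥤ᵇ AlgSt.ofSp M.obj,
      BasedFunctor.comp (AlgSt.quotMap Scheme.fppfPrecoverage G aX) φ = AlgSt.ofSpMap f := by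
  refine ⟨desc f hf, ?_, ?_⟩
  · -- the constructed functor has the right restriction to `X`
    apply Groth.Agent.Lib.Seat58.PshFunctorEq.eq_of_pshSec_eq
    intro c
    rw [pshSec_comp_quotMap, pshSec_desc, sec_quotMap]
    exact (Groth.Agent.Lib.Helper15PshFib.pshSec_ofPshMap f.hom c).symm
  · -- uniqueness
    intro Φ hΦ
    apply Groth.Agent.Lib.Seat58.PshFunctorEq.eq_of_pshSec_eq
    intro A
    rw [pshSec_desc]
    refine sec_unique f hf A _ ?_
    have h1 := Groth.Agent.Lib.Helper17.pshSec_map Φ (taut A)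
    have h2 := pshSec_comp_quotMap Φ (⟨A.P, ⟨A.φ⟩⟩ : (AlgSt.ofSch X).obj)
    rw [hΦ] at h2
    have h3 := Groth.Agent.Lib.Helper15PshFib.pshSec_ofPshMap f.hom
      (⟨A.P, ⟨A.φ⟩⟩ : (AlgSt.ofSch X).obj)
    exact h1.trans (h2.symm.trans h3)

end Groth.Agent.S14978
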