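import Groth.Statements.S12839
import Groth.Agent.S12838

set_option autoImplicit false
set_option linter.unusedSimpArgs false
universe u
open CategoryTheory AlgebraicGeometry
open AlgSt

namespace Groth.Agent.S12839

section Aux

open MonoidalCategory CartesianMonoidalCategory MonObj GrpObj Groth.Agent.S12838

variable {S : Scheme.{u}} {G : Over S} [GrpObj G] {X : Over S} (aX : AlgGrp.Action G X)

/-- a section of a torsor gives a morphism from the trivial torsor -/
theorem aux (A : AlgSt.QuotObj Scheme.fppfPrecoverage G aX) (T' : Over S) (σ : T' ⟶ A.P)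
    (fbar : T' ⟶ A.base) (hσ : σ ≫ A.π = fbar) :
    ((leftMul G T').act ≫ ((G ◁ σ) ≫ A.act.act) = (G ◁ ((G ◁ σ) ≫ A.act.act)) ≫ A.act.act) ∧
    IsPullback ((G ◁ σ) ≫ A.act.act) (snd G T') A.π fbar ∧
    ((G ◁ σ) ≫ A.act.act) ≫ A.φ = (G ◁ (σ ≫ A.φ)) ≫ aX.act := by
  refine ⟨?_, ?_, ?_⟩
  · have e1 : (leftMul G T').act ≫ (G ◁ σ) =
        lift (fst G (G ⊗ T') * (snd G (G ⊗ T') ≫ fst G T')) (snd G (G ⊗ T') ≫ snd G T' ≫ σ) := by
      apply CartesianMonoidalCategory.hom_ext
      · rw [Category.assoc, whiskerLeft_fst, leftMul_fst, lift_fst]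
      · rw [Category.assoc, whiskerLeft_snd, ← Category.assoc, leftMul_snd, lift_snd, Category.assoc]
    have e2 : (G ◁ ((G ◁ σ) ≫ A.act.act)) =
        lift (fst G (G ⊗ T'))
          (lift (snd G (G ⊗ T') ≫ fst G T') (snd G (G ⊗ T') ≫ snd G T' ≫ σ) ≫ A.act.act) := by
      apply CartesianMonoidalCategory.hom_ext
      · simp
      · rw [whiskerLeft_snd, lift_snd, ← Category.assoc, ← Category.assoc]
        congr 1
        apply CartesianMonoidalCategory.hom_ext <;> simp
    rw [← Category.assoc, e1, e2, mul_act_lift]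
  · have h := (isPullback_whiskerLeft (G := G) σ).paste_horiz A.cart
    rw [hσ] at h
    exact h
  · rw [Category.assoc, A.eqv, ← Category.assoc, ← MonoidalCategory.whiskerLeft_comp]

end Aux

/-- Let `G` be a group scheme over `S` acting on an `S`-scheme `X` and let `A` be an object of the
quotient category `[X/G]` over the `S`-scheme `T` — a `G`-torsor `P ⟶ T` for the fppf topology which
is a scheme, with an equivariant `P ⟶ X`. Then there is an fppf covering family of `T` such that for
every member `f : T' ⟶ T` there are a `T'`-point `x` of `X` and a morphism of `[X/G]` lying over `f`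
from the image of `x` under the canonical functor `X ⟶ [X/G]` (the trivial torsor `G ×_S T'` with
`(h, t) ↦ h · x(t)`) to `A`: every object is, fppf-locally on its base, isomorphic to a trivial one. -/
theorem result (S : Scheme.{u}) (G : Over S) [GrpObj G] (X : Over S)
    (aX : AlgGrp.Action G X) (A : AlgSt.QuotObj Scheme.fppfPrecoverage G aX) :
    ∃ (R : Presieve A.base.left) (_ : R ∈ Scheme.fppfPrecoverage A.base.left),
      ∀ ⦃T' : Scheme.{u}⦄ (f : T' ⟶ A.base.left), R f →
        ∃ (x : Over.mk (f ≫ A.base.hom) ⟶ X)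
          (h : (AlgSt.quotMap Scheme.fppfPrecoverage G aX).obj ((AlgSt.ofOverCat X).obj (Over.mk x)) ⟶ A),
          h.base = Over.homMk f rfl := by
  obtain ⟨R, hR, hsec⟩ := A.loc
  refine ⟨R, hR, ?_⟩
  intro T' f hf
  obtain ⟨s, hs⟩ := hsec f hf
  have hs' : s ≫ A.π.left = f := hs
  have hw : s ≫ A.P.hom = f ≫ A.base.hom := by
    rw [← hs', Category.assoc, Over.w]
  let σ : Over.mk (f ≫ A.base.hom) ⟶ A.P := Over.homMk s hw
  let fbar : Over.mk (f ≫ A.base.hom) ⟶ A.base := Over.homMk f rfl
  have hσ : σ ≫ A.π = fbar := by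
    apply Over.OverMorphism.ext
    exact hs'
  obtain ⟨h1, h2, h3⟩ := aux aX A _ σ fbar hσ
  exact ⟨σ ≫ A.φ, ⟨fbar, (MonoidalCategoryStruct.whiskerLeft G σ) ≫ A.act.act, h1, h2, h3⟩, rfl⟩

end Groth.Agent.S12839
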