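import Groth.Statements.S13575
import Groth.Agent.S12838
import Groth.Agent.Lib.Helper17FibEquiv

set_option autoImplicit false
universe u
open CategoryTheory AlgebraicGeometry
open AlgSt

namespace Groth.Agent.S13575

section Aux

open MonoidalCategory CartesianMonoidalCategory MonObj GrpObj Opposite
open Groth.Agent.S12838

variable {S : Scheme.{u}} {G : Over S} [GrpObj G] {X : Over S} (aX : AlgGrp.Action G X)

local notation "q" => AlgSt.quotMap Scheme.fppfPrecoverage G aX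

/-- the morphism of trivial torsors given by right multiplication -/
noncomputable def rmulHom {T T' : Over S} (f : T ⟶ T') (x : T ⟶ X) (x' : T' ⟶ X) (g : T ⟶ G)
    (hg : lift g (f ≫ x') ≫ aX.act = x) :
    (q).obj ⟨T, ⟨x⟩⟩ ⟶ (q).obj ⟨T', ⟨x'⟩⟩ :=
  ⟨f, rmul f g, (part2 aX f x x' g hg).1, (part2 aX f x x' g hg).2.1, (part2 aX f x x' g hg).2.2⟩

theorem inv_act_lift {T : Over S} (g : T ⟶ G) (x : T ⟶ X) :
    lift g⁻¹ (lift g x ≫ aX.act) ≫ aX.act = x := by
  rw [← mul_act_lift, inv_mul_cancel, one_act_lift]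

theorem rmul_comp_rmul {T T' T'' : Over S} (f : T ⟶ T') (f' : T' ⟶ T'') (g : T ⟶ G) (g' : T' ⟶ G) :
    rmul f g ≫ rmul f' g' = rmul (f ≫ f') (g * (f ≫ g')) := by
  apply CartesianMonoidalCategory.hom_ext
  · simp [rmul, comp_mul, _root_.mul_assoc]
  · simp [rmul]

theorem rmul_id_one {T : Over S} : rmul (𝟙 T) (1 : T ⟶ G) = 𝟙 (G ⊗ T) := by
  apply CartesianMonoidalCategory.hom_ext
  · simp [rmul]
  · simp [rmul]

/-- the isomorphism `q(u ≫ act) ≅ q(u ≫ snd)` over the identity, for a `T`-point `u` of `G × X` -/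
noncomputable def actSndIso {T : Over S} (u : T ⟶ G ⊗ X) :
    (q).obj ⟨T, ⟨u ≫ aX.act⟩⟩ ≅ (q).obj ⟨T, ⟨u ≫ snd G X⟩⟩ where
  hom := rmulHom aX (𝟙 T) (u ≫ aX.act) (u ≫ snd G X) (u ≫ fst G X) (by
    rw [Category.id_comp, ← comp_lift, lift_fst_snd, Category.comp_id])
  inv := rmulHom aX (𝟙 T) (u ≫ snd G X) (u ≫ aX.act) (u ≫ fst G X)⁻¹ (by
    have h : u ≫ aX.act = lift (u ≫ fst G X) (u ≫ snd G X) ≫ aX.act := by
      rw [← comp_lift, lift_fst_snd, Category.comp_id]
    rw [Category.id_comp, h, inv_act_lift])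
  hom_inv_id := by
    apply QuotObj.hom_ext
    · exact Category.id_comp _
    · change rmul (𝟙 T) (u ≫ fst G X) ≫ rmul (𝟙 T) (u ≫ fst G X)⁻¹ = 𝟙 _
      rw [rmul_comp_rmul, Category.id_comp, Category.id_comp, mul_inv_cancel, rmul_id_one]
  inv_hom_id := by
    apply QuotObj.hom_ext
    · exact Category.id_comp _
    · change rmul (𝟙 T) (u ≫ fst G X)⁻¹ ≫ rmul (𝟙 T) (u ≫ fst G X) = 𝟙 _
      rw [rmul_comp_rmul, Category.id_comp, Category.id_comp, inv_mul_cancel, rmul_id_one]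

theorem rmul_whisker {T T' : Over S} (t : T ⟶ T') (g : T ⟶ G) (g' : T' ⟶ G) (h : t ≫ g' = g) :
    (G ◁ t) ≫ rmul (𝟙 T') g' = rmul (𝟙 T) g ≫ (G ◁ t) := by
  subst h
  apply CartesianMonoidalCategory.hom_ext
  · simp [rmul, comp_mul]
  · simp [rmul]

theorem quotMap_map_top {c c' : (AlgSt.ofSch X).obj} (m : c ⟶ c') :
    ((q).map m).top = G ◁ m.hom := rfl

theorem quotMap_map_base {c c' : (AlgSt.ofSch X).obj} (m : c ⟶ c') :
    ((q).map m).base = m.hom := rfl

theorem actSndIso_hom_top {T : Over S} (u : T ⟶ G ⊗ X) :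
    (actSndIso aX u).hom.top = rmul (𝟙 T) (u ≫ fst G X) := rfl

theorem actSndIso_hom_base {T : Over S} (u : T ⟶ G ⊗ X) :
    (actSndIso aX u).hom.base = 𝟙 T := rfl

theorem ofSpMap_map_hom {Y Z : Over S} (f : Y ⟶ Z) {c c' : (AlgSt.ofSch Y).obj} (m : c ⟶ c') :
    ((AlgSt.ofSpMap ((AlgSp.yon S).map f)).map m).hom = m.hom := rfl

theorem obj_act (w : (AlgSt.ofSch (G ⊗ X)).obj) :
    (AlgSt.ofSpMap ((AlgSp.yon S).map aX.act)).obj w = ⟨w.base, ⟨w.sec.down ≫ aX.act⟩⟩ := rfl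

theorem obj_snd (w : (AlgSt.ofSch (G ⊗ X)).obj) :
    (AlgSt.ofSpMap ((AlgSp.yon S).map (snd G X))).obj w = ⟨w.base, ⟨w.sec.down ≫ snd G X⟩⟩ := rfl

/-- the component of the 2-isomorphism, with the types of the composite functors -/
noncomputable def compIso (w : (AlgSt.ofSch (G ⊗ X)).obj) :
    (q).obj ((AlgSt.ofSpMap ((AlgSp.yon S).map aX.act)).obj w) ≅
      (q).obj ((AlgSt.ofSpMap ((AlgSp.yon S).map (snd G X))).obj w) :=
  actSndIso aX w.sec.down

theorem compIso_hom_top (w : (AlgSt.ofSch (G ⊗ X)).obj) :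
    (compIso aX w).hom.top = rmul (𝟙 w.base) (w.sec.down ≫ fst G X) := rfl

theorem compIso_hom_base (w : (AlgSt.ofSch (G ⊗ X)).obj) :
    (compIso aX w).hom.base = 𝟙 w.base := rfl

theorem compIso_naturality {w w' : (AlgSt.ofSch (G ⊗ X)).obj} (m : w ⟶ w') :
    (q).map ((AlgSt.ofSpMap ((AlgSp.yon S).map aX.act)).map m) ≫ (compIso aX w').hom =
      (compIso aX w).hom ≫
        (q).map ((AlgSt.ofSpMap ((AlgSp.yon S).map (snd G X))).map m) := by
  have hm : m.hom ≫ w'.sec.down = w.sec.down := congrArg ULift.down m.map_sec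
  apply QuotObj.hom_ext
  · rw [QuotObj.comp_base, QuotObj.comp_base, quotMap_map_base, quotMap_map_base,
      compIso_hom_base, compIso_hom_base, ofSpMap_map_hom, ofSpMap_map_hom]
    exact (Category.comp_id m.hom).trans (Category.id_comp m.hom).symm
  · rw [QuotObj.comp_top, QuotObj.comp_top, quotMap_map_top, quotMap_map_top,
      compIso_hom_top, compIso_hom_top, ofSpMap_map_hom, ofSpMap_map_hom]
    exact rmul_whisker m.hom (w.sec.down ≫ fst G X) (w'.sec.down ≫ fst G X)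
      (by rw [← Category.assoc, hm])

theorem compIso_isHomLift (w : (AlgSt.ofSch (G ⊗ X)).obj) :
    (AlgSt.QuotSt Scheme.fppfPrecoverage G aX).p.IsHomLift (𝟙 w.base) (compIso aX w).hom := by
  have h := IsHomLift.map (AlgSt.QuotSt Scheme.fppfPrecoverage G aX).p (compIso aX w).hom
  have e : (AlgSt.QuotSt Scheme.fppfPrecoverage G aX).p.map (compIso aX w).hom = 𝟙 w.base :=
    compIso_hom_base aX w
  rw [e] at h
  exact h

/-- the 2-isomorphism `π ∘ act ≅ π ∘ pr₂` -/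
noncomputable def twoIso :
    BasedFunctor.comp (AlgSt.ofSpMap ((AlgSp.yon S).map aX.act)) (q) ≅
      BasedFunctor.comp (AlgSt.ofSpMap ((AlgSp.yon S).map (snd G X))) (q) :=
  BasedNatIso.mkNatIso
    (NatIso.ofComponents (fun w => compIso aX w) (fun m => compIso_naturality aX m))
    (fun w => compIso_isHomLift aX w)

/-- the comparison functor to the 2-fibre product -/
noncomputable abbrev cmp :
    AlgSt.ofSch (G ⊗ X) ⥤ᵇ FibCat.fp (q) (q) :=
  FibCat.fpLift (AlgSt.ofSpMap ((AlgSp.yon S).map aX.act))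
    (AlgSt.ofSpMap ((AlgSp.yon S).map (snd G X))) (twoIso aX)

theorem cmp_obj_iso_hom (w : (AlgSt.ofSch (G ⊗ X)).obj) :
    ((cmp aX).obj w).obj.iso.hom = (compIso aX w).hom := rfl

theorem cmp_map_fst {w w' : (AlgSt.ofSch (G ⊗ X)).obj} (m : w ⟶ w') :
    ((cmp aX).map m).hom.fst = (AlgSt.ofSpMap ((AlgSp.yon S).map aX.act)).map m := rfl

theorem cmp_map_snd {w w' : (AlgSt.ofSch (G ⊗ X)).obj} (m : w ⟶ w') :
    ((cmp aX).map m).hom.snd = (AlgSt.ofSpMap ((AlgSp.yon S).map (snd G X))).map m := rfl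

theorem eq_of_whisker_rmul {T T' : Over S} (t₁ t₂ : T ⟶ T') (g : T ⟶ G) (g' : T' ⟶ G)
    (h : (G ◁ t₁) ≫ rmul (𝟙 T') g' = rmul (𝟙 T) g ≫ (G ◁ t₂)) : t₁ ≫ g' = g := by
  have h1 := congrArg (fun k => lift (1 : T ⟶ G) (𝟙 T) ≫ k ≫ fst G T') h
  simpa [rmul, comp_mul] using h1

theorem cmp_faithful : (cmp aX).toFunctor.Faithful where
  map_injective {w w'} m m' h := by
    apply Stk.EltObj.hom_ext
    have h1 : ((cmp aX).map m).hom.fst = ((cmp aX).map m').hom.fst := by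
      rw [show (cmp aX).map m = (cmp aX).map m' from h]
    rw [cmp_map_fst, cmp_map_fst] at h1
    have h2 := congrArg Stk.EltObj.Hom.hom h1
    rwa [ofSpMap_map_hom, ofSpMap_map_hom] at h2

/-- the data extracted from a morphism of the 2-fibre product between images of `cmp` -/
theorem cmp_full_aux {w w' : (AlgSt.ofSch (G ⊗ X)).obj}
    (φ : (cmp aX).obj w ⟶ (cmp aX).obj w') :
    ∃ t : w.base ⟶ w'.base, t ≫ w'.sec.down = w.sec.down ∧ φ.hom.fst.hom = t ∧
      φ.hom.snd.hom = t := by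
  have hw := φ.hom.w
  rw [cmp_obj_iso_hom, cmp_obj_iso_hom] at hw
  obtain ⟨t₁, e₁⟩ : ∃ t : w.base ⟶ w'.base, φ.hom.fst.hom = t := ⟨_, rfl⟩
  obtain ⟨t₂, e₂⟩ : ∃ t : w.base ⟶ w'.base, φ.hom.snd.hom = t := ⟨_, rfl⟩
  have hb : t₁ ≫ 𝟙 w'.base = 𝟙 w.base ≫ t₂ := by
    rw [← e₁, ← e₂]
    exact congrArg QuotObj.Hom.base hw
  have ht : (G ◁ t₁) ≫ rmul (𝟙 w'.base) (w'.sec.down ≫ fst G X) =
      rmul (𝟙 w.base) (w.sec.down ≫ fst G X) ≫ (G ◁ t₂) := by
    rw [← e₁, ← e₂]
    exact congrArg QuotObj.Hom.top hw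
  have hb' : t₁ = t₂ := (Category.comp_id _).symm.trans (hb.trans (Category.id_comp _))
  have h1 : t₁ ≫ (w'.sec.down ≫ fst G X) = w.sec.down ≫ fst G X :=
    eq_of_whisker_rmul _ _ _ _ ht
  have h2 : t₂ ≫ (w'.sec.down ≫ snd G X) = w.sec.down ≫ snd G X := by
    rw [← e₂]
    exact congrArg ULift.down φ.hom.snd.map_sec
  refine ⟨t₁, ?_, e₁, e₂.trans hb'.symm⟩
  apply CartesianMonoidalCategory.hom_ext
  · rw [Category.assoc]; exact h1
  · rw [Category.assoc, hb']; exact h2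

theorem cmp_full : (cmp aX).toFunctor.Full where
  map_surjective {w w'} φ := by
    obtain ⟨t, ht, h1, h2⟩ := cmp_full_aux aX φ
    let m : w ⟶ w' := ⟨t, ULift.ext _ _ ht⟩
    refine ⟨m, ?_⟩
    apply ObjectProperty.hom_ext
    apply CategoryTheory.Limits.CategoricalPullback.hom_ext
    · apply Stk.EltObj.hom_ext
      exact h1.symm
    · apply Stk.EltObj.hom_ext
      exact h2.symm

/-- an isomorphism of the category of a presheaf from an isomorphism of bases -/
def eltIso {C : Type*} [Category C] {P : Cᵒᵖ ⥤ Type*} (c d : Stk.EltObj P) (i : c.base ≅ d.base)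
    (h : P.map i.hom.op d.sec = c.sec) : c ≅ d where
  hom := ⟨i.hom, h⟩
  inv := ⟨i.inv, by
    rw [← h, ← Functor.map_comp_apply, ← op_comp, i.inv_hom_id, op_id, P.map_id]
    rfl⟩
  hom_inv_id := Stk.EltObj.hom_ext i.hom_inv_id
  inv_hom_id := Stk.EltObj.hom_ext i.inv_hom_id

theorem rmul_id_whisker {T T' : Over S} (β : T ⟶ T') (g : T ⟶ G) :
    rmul (𝟙 T) g ≫ (G ◁ β) = rmul β g := by
  apply CartesianMonoidalCategory.hom_ext
  · simp [rmul]
  · simp [rmul]

theorem hw_aux {T T' : Over S} (β : T ⟶ T') (g : T ⟶ G) (u : T ⟶ G ⊗ X)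
    (hu : u ≫ fst G X = g) (top : G ⊗ T ⟶ G ⊗ T')
    (htop : top = lift (fst G T * snd G T ≫ g) (snd G T ≫ β)) :
    (G ◁ 𝟙 T) ≫ top = rmul (𝟙 T) (u ≫ fst G X) ≫ (G ◁ β) := by
  rw [hu, rmul_id_whisker, htop, MonoidalCategory.whiskerLeft_id, Category.id_comp]
  rfl

theorem cmp_essSurj : Groth.Agent.Lib.Helper17.EssSurjOver (cmp aX) := by
  intro E
  obtain ⟨⟨x, y, J⟩, hE⟩ := E
  obtain ⟨g, hg, htop⟩ := part1 aX J.hom.base x.sec.down y.sec.down J.hom.top J.hom.cart.w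
    J.hom.eqv J.hom.wφ
  let ξ : (AlgSt.ofSch (G ⊗ X)).obj := ⟨x.base, ⟨lift g (J.hom.base ≫ y.sec.down)⟩⟩
  let βiso : x.base ≅ y.base := (QuotObj.forget Scheme.fppfPrecoverage G aX).mapIso J
  let eL : (AlgSt.ofSpMap ((AlgSp.yon S).map aX.act)).obj ξ ≅ x :=
    eltIso _ _ (Iso.refl x.base) (by
      apply ULift.ext
      exact (Category.id_comp _).trans hg.symm)
  let eR : (AlgSt.ofSpMap ((AlgSp.yon S).map (snd G X))).obj ξ ≅ y :=
    eltIso _ _ βiso (by
      apply ULift.ext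
      exact (lift_snd _ _).symm)
  have hw : (q).map eL.hom ≫ J.hom = (compIso aX ξ).hom ≫ (q).map eR.hom := by
    apply QuotObj.hom_ext
    · rw [QuotObj.comp_base, QuotObj.comp_base, quotMap_map_base, quotMap_map_base,
        compIso_hom_base]
      rfl
    · rw [QuotObj.comp_top, QuotObj.comp_top, quotMap_map_top, quotMap_map_top, compIso_hom_top]
      exact hw_aux J.hom.base g (lift g (J.hom.base ≫ y.sec.down)) (lift_fst _ _) J.hom.top htop
  let I0 : ((cmp aX).obj ξ).obj ≅ (⟨x, y, J⟩ : CategoryTheory.Limits.CategoricalPullback (q).toFunctor (q).toFunctor) :=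
    CategoryTheory.Limits.CategoricalPullback.mkIso (x := ((cmp aX).obj ξ).obj)
      (y := (⟨x, y, J⟩ : CategoryTheory.Limits.CategoricalPullback (q).toFunctor (q).toFunctor)) eL eR hw
  let I1 : (cmp aX).obj ξ ≅ (⟨⟨x, y, J⟩, hE⟩ : (FibCat.fp (q) (q)).obj) :=
    ObjectProperty.isoMk _ I0
  refine ⟨ξ, I1, ?_⟩
  have h := IsHomLift.map (FibCat.fp (q) (q)).p I1.hom
  have e : (FibCat.fp (q) (q)).p.map I1.hom = 𝟙 x.base := rfl
  rw [e] at h
  exact h

end Aux

/-- For a group action: let a group scheme `G` over `S` act on a scheme `X` over `S` and let `π : X ⟶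
[X/G]` be the canonical morphism to the quotient stack. Then the square with vertices `G ×_S X`,
`X`, `X`, `[X/G]`, whose sides are the action and the projection `G ×_S X ⟶ X` followed by `π`, is
2-cartesian for some 2-isomorphism `π ∘ a ≅ π ∘ pr₂`: the induced functor from `G ×_S X` to the
2-fibre product `X ×_{[X/G]} X` is an equivalence over `(Sch/S)`. Existence of the 2-isomorphism
only; the canonical one is right multiplication by the group element. (The published statement is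
for a groupoid in algebraic spaces; this row is the action groupoid of a group scheme, with torsors
given as schemes.) -/
theorem result {S : Scheme.{u}} (G : Over S) [GrpObj G]
    (X : Over S) (aX : AlgGrp.Action G X) :
    ∃ e : BasedFunctor.comp (AlgSt.ofSpMap ((AlgSp.yon S).map aX.act)) (AlgSt.quotMap Scheme.fppfPrecoverage G aX) ≅
        BasedFunctor.comp (AlgSt.ofSpMap ((AlgSp.yon S).map (CartesianMonoidalCategory.snd G X)))
          (AlgSt.quotMap Scheme.fppfPrecoverage G aX),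
      FibCat.IsTwoCartOver (AlgSt.ofSpMap ((AlgSp.yon S).map aX.act))
        (AlgSt.ofSpMap ((AlgSp.yon S).map (CartesianMonoidalCategory.snd G X))) e := by
  refine ⟨twoIso aX, ?_⟩
  have h1 := cmp_full aX
  have h2 := cmp_faithful aX
  exact Groth.Agent.Lib.Helper17.isEquivOver_of_fullyFaithful_of_essSurjOver (cmp aX)
    (cmp_essSurj aX)

end Groth.Agent.S13575
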