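import Groth.Statements.S12987
import Mathlib
import Groth.Agent.Lib.Seat59QcProd

set_option autoImplicit false
universe u
open CategoryTheory AlgebraicGeometry
open AlgSt

namespace Groth.Agent.S12987

/-- Over a quasi-separated base scheme, a morphism from a quasi-compact algebraic stack to an algebraic
stack that is quasi-separated over the base scheme is quasi-compact. (The published statement
assumes the target quasi-separated over the integers and puts no condition on the base scheme; this
row assumes the base scheme quasi-separated and the target quasi-separated over it, which together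
imply the published hypothesis. Without quasi-separatedness of the base the relative form fails: for
the base glued from two copies of infinite-dimensional affine space along the complement of the
origin, the open immersion of one copy is a morphism from a quasi-compact stack to the base, which
is quasi-separated over itself, and it is not quasi-compact.) -/
theorem result
    (S : Scheme.{u}) [QuasiSeparatedSpace S] (𝒳 : AlgSt.Cat S) (𝒴 : AlgSt.Cat S)
    (h𝒳 : AlgSt.IsAlgStack Scheme.fppfPrecoverage 𝒳)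
    (h𝒴 : AlgSt.IsAlgStack Scheme.fppfPrecoverage 𝒴)
    (f : 𝒳 ⥤ᵇ 𝒴) :
    AlgSt.IsQuasiCompact 𝒳 → AlgSt.IsQuasiSeparatedOver 𝒴 → AlgSt.IsQuasiCompactMor Scheme.fppfPrecoverage f := by
  intro hqc𝒳 hqs
  have hYY : AlgSt.IsAlgStack Scheme.fppfPrecoverage
      (FibCat.fp (FibCat.toSelf 𝒴) (FibCat.toSelf 𝒴)) :=
    Groth.Agent.Lib.Helper15Atlas.isAlgStack_prod h𝒴 h𝒴
  have hΔ : AlgSt.IsQuasiCompactMor Scheme.fppfPrecoverage (FibCat.diag (FibCat.toSelf 𝒴)) :=
    Groth.Agent.Lib.Helper15QcRep.isQuasiCompactMor_of_rep h𝒴 hYY (FibCat.diag (FibCat.toSelf 𝒴))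
      (Groth.Agent.Lib.Helper15DiagLft.repByAlgSpWith_mono (fun _ _ _ h => h.1) _ hqs)
  intro 𝒲 h𝒲 hqc w
  have e1 : BasedFunctor.comp w (FibCat.toSelf 𝒴) = FibCat.toSelf 𝒲 :=
    Groth.Agent.Lib.Helper15QsComp.comp_toSelf w
  have e2 : BasedFunctor.comp f (FibCat.toSelf 𝒴) = FibCat.toSelf 𝒳 :=
    Groth.Agent.Lib.Helper15QsComp.comp_toSelf f
  have h1 : AlgSt.IsQuasiCompact (FibCat.fp (BasedFunctor.comp w (FibCat.toSelf 𝒴))
      (BasedFunctor.comp f (FibCat.toSelf 𝒴))) := by
    rw [e1, e2]
    exact Groth.Agent.Lib.Seat59.QcProd.isQuasiCompact_prod h𝒲 h𝒳 hqc hqc𝒳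
  have h2 : AlgSt.IsAlgStack Scheme.fppfPrecoverage
      (FibCat.fp (BasedFunctor.comp w (FibCat.toSelf 𝒴))
        (BasedFunctor.comp f (FibCat.toSelf 𝒴))) :=
    Groth.Agent.Lib.Helper15Atlas.isAlgStack_fp_of_isPrestack
      Groth.Agent.Lib.Helper15Atlas.isPrestack_selfOver
      Groth.Agent.Lib.Helper15Atlas.repByAlgSp1_diag_selfOver h𝒲 h𝒳 _ _
  have h3 := hΔ _ h2 h1 (Groth.Agent.Lib.Helper17.relProd w f (FibCat.toSelf 𝒴))
  exact Groth.Agent.Lib.Helper17.isQuasiCompact_of_isEquivOver' _
    (Groth.Agent.Lib.Helper17.isEquivOver_magicRel w f (FibCat.toSelf 𝒴)) h3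

end Groth.Agent.S12987
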