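import Groth.Statements.S15009
import Groth.Agent.Lib.Seat69LatticeBasis

set_option autoImplicit false
universe u
open TFCurv

namespace Groth.Agent.S15009

/-- Let O be a one-dimensional Noetherian local domain with algebraically closed residue field whose
integral closure O~ in its fraction field K is a finite O-module. A finitely generated torsion-free
O-module M of rank n (that is, K ⊗ M has K-dimension n) is isomorphic to an O-submodule M' of K^n
with O^n ⊆ M' ⊆ O~^n. -/
theorem result (O : Type u) [CommRing O] [IsDomain O] [IsNoetherianRing O] [IsLocalRing O] (hdim : ringKrullDim O = 1) [IsAlgClosed (IsLocalRing.ResidueField O)] (K : Type u) [Field K] [Algebra O K] [IsFractionRing O K] (hfin : Module.Finite O ↥(integralClosure O K)) (M : Type u) [AddCommGroup M] [Module O M] [Module.Finite O M] [NoZeroSMulDivisors O M] (n : ℕ) (hn : Module.finrank K (TensorProduct O K M) = n) : ∃ M' : Submodule O (Fin n → K), Submodule.pi Set.univ (fun _ : Fin n => (1 : Submodule O K)) ≤ M' ∧ M' ≤ Submodule.pi Set.univ (fun _ : Fin n => (Subalgebra.toSubmodule (integralClosure O K))) ∧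 Nonempty (M ≃ₗ[O] ↥M') := by
  classical
  haveI : Infinite (IsLocalRing.ResidueField O) := inferInstance
  -- the normalization is a semilocal PID
  have hD : IsDedekindDomain (integralClosure O K) :=
    Groth.Agent.Lib.Helper5.Conductor.isDedekindDomain_integralClosure (le_of_eq hdim)
  haveI hfm : Finite (MaximalSpectrum (integralClosure O K)) :=
    Groth.Agent.Lib.Helper5.Conductor.finite_maximalSpectrum_integralClosure hdim
  haveI := Groth.Agent.Lib.Helper5.Conductor.isFractionRing_integralClosure (B := O) (K := K)
  have hmaxfin : {I : Ideal (integralClosure O K) | I.IsMaximal}.Finite := by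
    have h1 : {I : Ideal (integralClosure O K) | I.IsMaximal} =
        Set.range (MaximalSpectrum.asIdeal (R := integralClosure O K)) := by
      ext I
      constructor
      · intro hI
        exact ⟨⟨I, hI⟩, rfl⟩
      · rintro ⟨J, rfl⟩
        exact J.isMaximal
    rw [h1]
    exact Set.finite_range _
  haveI hpid : IsPrincipalIdealRing (integralClosure O K) :=
    IsPrincipalIdealRing.of_finite_maximals hmaxfin
  -- embed `M` in `Kⁿ`
  let V := TensorProduct O K M
  let bV : Module.Basis (Fin n) K V := Module.finBasisOfFinrankEq K V hn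
  let e : V ≃ₗ[K] (Fin n → K) := bV.equivFun
  let j : M →ₗ[O] (Fin n → K) :=
    (e.restrictScalars O).toLinearMap.comp (TensorProduct.mk O K M 1)
  have hιinj : Function.Injective (TensorProduct.mk O K M 1) := by
    rw [injective_iff_map_eq_zero]
    intro m hm
    obtain ⟨s, hs⟩ := (IsLocalizedModule.eq_zero_iff (nonZeroDivisors O)
      (TensorProduct.mk O K M 1)).mp hm
    rw [Submonoid.smul_def] at hs
    rcases smul_eq_zero.mp hs with h | h
    · exact absurd h (nonZeroDivisors.coe_ne_zero s)
    · exact h
  have hjinj : Function.Injective j := e.injective.comp hιinj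
  let L : Submodule O (Fin n → K) := LinearMap.range j
  have hLfg : L.FG := by
    show (LinearMap.range j).FG
    rw [LinearMap.range_eq_map]
    exact Module.Finite.fg_top.map _
  have hLspan : Submodule.span K (L : Set (Fin n → K)) = ⊤ := by
    rw [eq_top_iff]
    rintro v -
    obtain ⟨w, rfl⟩ := e.surjective v
    induction w using TensorProduct.induction_on with
    | zero => simp
    | tmul c m =>
      have h1 : c ⊗ₜ[O] m = c • ((1 : K) ⊗ₜ[O] m) := by
        rw [TensorProduct.smul_tmul', smul_eq_mul, mul_one]
      rw [h1, map_smul]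
      exact Submodule.smul_mem _ _ (Submodule.subset_span ⟨m, rfl⟩)
    | add a b ha hb =>
      rw [map_add]
      exact add_mem ha hb
  obtain ⟨x, hxL, hxli, hxspan⟩ :=
    Groth.Agent.Lib.Seat69.LatticeBasis.exists_basis_in_lattice O (integralClosure O K) K n L
      hLfg hLspan
  -- change coordinates
  have hxtop : Submodule.span K (Set.range x) = ⊤ :=
    hxli.span_eq_top_of_card_eq_finrank' (by simp)
  let bK : Module.Basis (Fin n) K (Fin n → K) := Module.Basis.mk hxli hxtop.ge
  have hbK : ∀ i, bK i = x i := fun i => Module.Basis.mk_apply _ _ i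
  let T : (Fin n → K) ≃ₗ[K] (Fin n → K) := bK.equivFun
  have hT : ∀ i, T (x i) = Pi.single i 1 := by
    intro i
    funext k
    rw [← hbK i]
    show bK.equivFun (bK i) k = _
    rw [bK.equivFun_self]
    by_cases h : i = k
    · subst h
      rw [if_pos rfl, Pi.single_eq_same]
    · rw [if_neg h, Pi.single_eq_of_ne (Ne.symm h)]
  let TO : (Fin n → K) →ₗ[O] (Fin n → K) := (T.restrictScalars O).toLinearMap
  refine ⟨L.map TO, ?_, ?_, ?_⟩
  · -- standard lattice
    intro v hv
    rw [Submodule.mem_pi] at hv
    choose r hr using fun i => Submodule.mem_one.mp (hv i (Set.mem_univ i))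
    refine ⟨∑ i, r i • x i, Submodule.sum_mem _ fun i _ => Submodule.smul_mem _ _ (hxL i), ?_⟩
    show T (∑ i, r i • x i) = v
    rw [map_sum]
    funext k
    rw [Finset.sum_apply]
    have : ∀ i, (T (r i • x i)) k = if i = k then v k else 0 := by
      intro i
      have h2 : T (r i • x i) = r i • T (x i) := (T.restrictScalars O).map_smul (r i) (x i)
      rw [h2, hT i, Pi.smul_apply]
      by_cases h : i = k
      · subst h
        rw [Pi.single_eq_same, if_pos rfl, Algebra.smul_def, mul_one, hr]
      · rw [Pi.single_eq_of_ne (Ne.symm h), smul_zero, if_neg h]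
    simp [this]
  · -- inside the normalization
    rintro _ ⟨w, hw, rfl⟩
    rw [Submodule.mem_pi]
    intro k _
    have h1 := hxspan hw
    rw [SetLike.mem_coe, Submodule.mem_span_range_iff_exists_fun] at h1
    obtain ⟨b, rfl⟩ := h1
    show T (∑ i, b i • x i) k ∈ _
    rw [map_sum, Finset.sum_apply]
    refine Submodule.sum_mem _ fun i _ => ?_
    have h2 : T (b i • x i) = (b i : K) • T (x i) := by
      have : b i • x i = (b i : K) • x i := rfl
      rw [this, map_smul]
    rw [h2, hT i, Pi.smul_apply]
    by_cases h : i = k
    · subst h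
      rw [Pi.single_eq_same, smul_eq_mul, mul_one]
      exact (b i).2
    · rw [Pi.single_eq_of_ne (Ne.symm h), smul_zero]
      exact zero_mem _
  · have hTOinj : Function.Injective TO := T.injective
    exact ⟨(LinearEquiv.ofInjective j hjinj).trans
      (Submodule.equivMapOfInjective TO hTOinj L)⟩

end Groth.Agent.S15009
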