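import Groth.Statements.S1349
import Groth.Agent.Lib.Seat6SliceQF
import Groth.Agent.Lib.Helper25FlatBC
import Groth.Agent.Lib.Helper5FiberStalk
import Groth.Agent.Lib.Helper5RegImm
import Groth.Agent.Lib.Helper28PolyCM
import Groth.Agent.Lib.Seat6RegImmAff

set_option autoImplicit false
set_option linter.style.haveILetI false
universe u
open FlatMor

namespace Groth.Agent.S1349

open AlgebraicGeometry CategoryTheory Limits in
/-- Let f be locally of finite presentation and Cohen–Macaulay at a point x which is closed in its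
fibre. Then there are an open neighbourhood V of x and a regular closed immersion i into V whose
image contains x, such that the composite Z ⟶ V ⟶ X ⟶ S is flat, locally of finite presentation and
locally quasi-finite, and x is the only point of (the image of) Z lying over the image of x. -/
theorem result {X S : Scheme.{u}} (f : X ⟶ S) [LocallyOfFinitePresentation f] (x : X)
    (hcm : MoreMor.IsCMAt f x) (hcl : IsClosed ({f.asFiber x} : Set ↑(f.fiber (f x)))) :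
    ∃ (V : X.Opens) (Z : Scheme.{u}) (i : Z ⟶ (V : Scheme.{u})), Mor2.IsRegularClosedImmersion i ∧ x ∈ Set.range ⇑(i ≫ V.ι) ∧
      Flat (i ≫ V.ι ≫ f) ∧ LocallyOfFinitePresentation (i ≫ V.ι ≫ f) ∧ LocallyQuasiFinite (i ≫ V.ι ≫ f) ∧
      ∀ z : Z, f (V.ι (i z)) = f x → V.ι (i z) = x := by
  classical
  obtain ⟨hflat, hCM⟩ := hcm
  -- the fibre stalk
  obtain ⟨eF⟩ := Groth.Agent.Lib.Helper5.FiberStalk.nonempty_stalk_asFiber_equiv f x
  haveI hCM' : LocCoh.IsCohenMacaulayLocalRing (X.presheaf.stalk x ⧸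
      (IsLocalRing.maximalIdeal (S.presheaf.stalk (f x))).map (f.stalkMap x).hom) :=
    Groth.Agent.Lib.Helper28.isCohenMacaulayLocalRing_of_ringEquiv eF
  obtain ⟨l, hlm, hlnzd, hlprime⟩ := Groth.Agent.Lib.Seat6.CMSeq.exists_nzdSeq_of_cm
    ((IsLocalRing.maximalIdeal (S.presheaf.stalk (f x))).map (f.stalkMap x).hom)
  obtain ⟨U₁, hU₁, hxU₁, as₁, has₁⟩ := Groth.Agent.Lib.Helper5.RegImm.exists_affine_lift X x l
  -- affine charts
  obtain ⟨_, ⟨V₀, hV₀, rfl⟩, hfxV₀, -⟩ := S.isBasis_affineOpens.exists_subset_of_mem_open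
    (Set.mem_univ (f x)) isOpen_univ
  replace hV₀ : IsAffineOpen V₀ := hV₀
  replace hfxV₀ : f x ∈ V₀ := hfxV₀
  have hxWV : x ∈ U₁ ⊓ f ⁻¹ᵁ V₀ := ⟨hxU₁, hfxV₀⟩
  obtain ⟨_, ⟨U₀, hU₀, rfl⟩, hxU₀, hU₀le⟩ := X.isBasis_affineOpens.exists_subset_of_mem_open
    hxWV (U₁ ⊓ f ⁻¹ᵁ V₀).2
  replace hU₀ : IsAffineOpen U₀ := hU₀
  replace hxU₀ : x ∈ U₀ := hxU₀
  have hU₀U₁ : U₀ ≤ U₁ := fun y hy => (hU₀le hy).1
  have e : U₀ ≤ f ⁻¹ᵁ V₀ := fun y hy => (hU₀le hy).2
  -- the ring data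
  letI algRB : Algebra Γ(S, V₀) Γ(X, U₀) := (f.appLE V₀ U₀ e).hom.toAlgebra
  haveI hfp : Algebra.FinitePresentation Γ(S, V₀) Γ(X, U₀) :=
    (HasRingHomProperty.iff_appLE (P := @LocallyOfFinitePresentation)).1 inferInstance
      ⟨V₀, hV₀⟩ ⟨U₀, hU₀⟩ e
  set q := (hU₀.primeIdealOf ⟨x, hxU₀⟩).asIdeal with hqdef
  set p := (hV₀.primeIdealOf ⟨f x, hfxV₀⟩).asIdeal with hpdef
  have hqp : q.comap (algebraMap Γ(S, V₀) Γ(X, U₀)) = p :=
    congrArg PrimeSpectrum.asIdeal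
      (IsAffineOpen.comap_primeIdealOf_appLE V₀ hV₀ U₀ hU₀ e hxU₀)
  have hflat' : Module.Flat Γ(S, V₀) (Localization.AtPrime q) :=
    (Groth.Agent.Lib.Helper25.FlatBC.flat_stalkMap_iff_chart' V₀ hV₀ U₀ hU₀ e hxU₀).1 hflat
  -- the stalk as a localization
  letI algX : Algebra Γ(X, U₀) (X.presheaf.stalk x) :=
    TopCat.Presheaf.algebra_section_stalk X.presheaf ⟨x, hxU₀⟩
  letI algS : Algebra Γ(S, V₀) (S.presheaf.stalk (f x)) :=
    TopCat.Presheaf.algebra_section_stalk S.presheaf ⟨f x, hfxV₀⟩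
  haveI hlocX : IsLocalization.AtPrime (X.presheaf.stalk x) q :=
    hU₀.isLocalization_stalk ⟨x, hxU₀⟩
  haveI hlocS : IsLocalization.AtPrime (S.presheaf.stalk (f x)) p :=
    hV₀.isLocalization_stalk ⟨f x, hfxV₀⟩
  have halgX : ∀ b : Γ(X, U₀), algebraMap Γ(X, U₀) (X.presheaf.stalk x) b =
      X.presheaf.germ U₀ x hxU₀ b := fun _ => rfl
  have halgS : ∀ r : Γ(S, V₀), algebraMap Γ(S, V₀) (S.presheaf.stalk (f x)) r =
      S.presheaf.germ V₀ (f x) hfxV₀ r := fun _ => rfl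
  have hF1 : ∀ r : Γ(S, V₀), X.presheaf.germ U₀ x hxU₀ (algebraMap Γ(S, V₀) Γ(X, U₀) r) =
      f.stalkMap x (S.presheaf.germ V₀ (f x) hfxV₀ r) := by
    intro r
    rw [Scheme.Hom.germ_stalkMap_apply]
    change X.presheaf.germ U₀ x hxU₀ ((f.appLE V₀ U₀ e) r) = _
    rw [Scheme.Hom.appLE, CommRingCat.comp_apply, TopCat.Presheaf.germ_res_apply]
  set J := Ideal.map (f.stalkMap x).hom (IsLocalRing.maximalIdeal (S.presheaf.stalk (f x)))
    with hJ
  have hF4 : J = (p.map (algebraMap Γ(S, V₀) Γ(X, U₀))).map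
      (algebraMap Γ(X, U₀) (X.presheaf.stalk x)) := by
    rw [hJ, ← IsLocalization.AtPrime.map_eq_maximalIdeal p (S.presheaf.stalk (f x)),
      Ideal.map_map, Ideal.map_map]
    congr 1
    ext r
    rw [RingHom.comp_apply, RingHom.comp_apply, halgX, halgS, hF1]
  -- the sequence
  set rs : List Γ(X, U₀) := as₁.map (X.presheaf.map (homOfLE hU₀U₁).op).hom with hrs
  have hgerm : rs.map (algebraMap Γ(X, U₀) (X.presheaf.stalk x)) = l := by
    rw [hrs, List.map_map, ← has₁]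
    apply List.map_congr_left
    intro a _
    exact X.presheaf.germ_res_apply (homOfLE hU₀U₁) x hxU₀ a
  have hmem : ∀ s ∈ rs, s ∈ q := by
    intro s hs
    have h1 : algebraMap Γ(X, U₀) (X.presheaf.stalk x) s ∈ l := by
      rw [← hgerm]; exact List.mem_map_of_mem hs
    exact (IsLocalization.AtPrime.to_map_mem_maximal_iff (X.presheaf.stalk x) q s).1 (hlm _ h1)
  have hnzd : Groth.Agent.Lib.Seat6.CMSeq.NzdSeq
      ((p.map (algebraMap Γ(S, V₀) Γ(X, U₀))).map (algebraMap Γ(X, U₀) (X.presheaf.stalk x)))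
      (rs.map (algebraMap Γ(X, U₀) (X.presheaf.stalk x))) := by
    rw [hgerm, ← hF4]; exact hlnzd
  have hprime : ∀ P : Ideal (X.presheaf.stalk x), P.IsPrime →
      (p.map (algebraMap Γ(S, V₀) Γ(X, U₀))).map (algebraMap Γ(X, U₀) (X.presheaf.stalk x)) ⊔
        Ideal.ofList (rs.map (algebraMap Γ(X, U₀) (X.presheaf.stalk x))) ≤ P →
        P.comap (algebraMap Γ(X, U₀) (X.presheaf.stalk x)) = q := by
    intro P hP hle
    rw [hgerm, ← hF4] at hle
    rw [hlprime P hP hle]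
    exact IsLocalization.AtPrime.comap_maximalIdeal (X.presheaf.stalk x) q
  -- closedness in the fibre
  have hspec := Groth.Agent.Lib.Seat6.RegImmAff.specializes_eq_of_isClosed_asFiber f x hcl
  have hcompU₀ : hU₀.fromSpec ≫ f = Spec.map (f.appLE V₀ U₀ e) ≫ hV₀.fromSpec :=
    (IsAffineOpen.SpecMap_appLE_fromSpec f hV₀ hU₀ e).symm
  have hxq : hU₀.fromSpec (hU₀.primeIdealOf ⟨x, hxU₀⟩) = x :=
    hU₀.fromSpec_primeIdealOf ⟨x, hxU₀⟩
  have hfxp : hV₀.fromSpec (hV₀.primeIdealOf ⟨f x, hfxV₀⟩) = f x :=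
    hV₀.fromSpec_primeIdealOf ⟨f x, hfxV₀⟩
  have hfU₀ : ∀ y : Spec Γ(X, U₀),
      f (hU₀.fromSpec y) = hV₀.fromSpec (Spec.map (f.appLE V₀ U₀ e) y) := by
    intro y
    rw [← Scheme.Hom.comp_apply, hcompU₀, Scheme.Hom.comp_apply]
  have hup : ∀ q' : Ideal Γ(X, U₀), q'.IsPrime → q ≤ q' →
      q'.comap (algebraMap Γ(S, V₀) Γ(X, U₀)) = p → q' = q := by
    intro q' hq' hle hq'p
    have h1 : hU₀.fromSpec (⟨q', hq'⟩ : PrimeSpectrum Γ(X, U₀)) = x := by
      apply hspec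
      · refine (hfU₀ _).trans (Eq.trans ?_ hfxp)
        congr 1
        exact PrimeSpectrum.ext hq'p
      · refine hxq ▸ Specializes.map ?_ hU₀.fromSpec.continuous
        exact (PrimeSpectrum.le_iff_specializes
          (hU₀.primeIdealOf ⟨x, hxU₀⟩) (⟨q', hq'⟩ : PrimeSpectrum Γ(X, U₀))).1 hle
    have h2 : (⟨q', hq'⟩ : PrimeSpectrum Γ(X, U₀)) = hU₀.primeIdealOf ⟨x, hxU₀⟩ :=
      hU₀.fromSpec.isOpenEmbedding.injective (h1.trans hxq.symm)
    exact congrArg PrimeSpectrum.asIdeal h2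
  obtain ⟨c, hcq, hT⟩ := Groth.Agent.Lib.Seat6.SliceQF.exists_slice_qf
    (O := X.presheaf.stalk x) p q hqp hflat' rs hmem hnzd hprime hup
  -- the basic open
  have hV : IsAffineOpen (X.basicOpen c) := hU₀.basicOpen c
  have hxV : x ∈ X.basicOpen c := by
    have h1 : hU₀.fromSpec (hU₀.primeIdealOf ⟨x, hxU₀⟩) ∈ X.basicOpen c := by
      change hU₀.primeIdealOf ⟨x, hxU₀⟩ ∈ hU₀.fromSpec ⁻¹ᵁ X.basicOpen c
      rw [hU₀.fromSpec_preimage_basicOpen]
      exact hcq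
    rwa [hU₀.fromSpec_primeIdealOf] at h1
  have e' : X.basicOpen c ≤ f ⁻¹ᵁ V₀ := (X.basicOpen_le c).trans e
  haveI hlocT : IsLocalization.Away c Γ(X, X.basicOpen c) := hU₀.isLocalization_basicOpen c
  letI algRT : Algebra Γ(S, V₀) Γ(X, X.basicOpen c) :=
    (f.appLE V₀ (X.basicOpen c) e').hom.toAlgebra
  haveI htower : IsScalarTower Γ(S, V₀) Γ(X, U₀) Γ(X, X.basicOpen c) := by
    apply IsScalarTower.of_algebraMap_eq'
    rw [RingHom.algebraMap_toAlgebra, RingHom.algebraMap_toAlgebra, RingHom.algebraMap_toAlgebra,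
      ← CommRingCat.hom_comp, Scheme.Hom.appLE_map]
  obtain ⟨hreg, hfl, hQF, hPu⟩ := hT Γ(X, X.basicOpen c)
  set IT : Ideal Γ(X, X.basicOpen c) :=
    (Ideal.ofList rs).map (algebraMap Γ(X, U₀) Γ(X, X.basicOpen c)) with hIT
  have hITl : IT = Ideal.ofList (rs.map (algebraMap Γ(X, U₀) Γ(X, X.basicOpen c))) :=
    Ideal.map_ofList _ _
  have hcomp : hV.fromSpec ≫ f = Spec.map (f.appLE V₀ (X.basicOpen c) e') ≫ hV₀.fromSpec :=
    (IsAffineOpen.SpecMap_appLE_fromSpec f hV₀ hV e').symm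
  have hres : Spec.map (X.presheaf.map (homOfLE (X.basicOpen_le c)).op) ≫ hU₀.fromSpec =
      hV.fromSpec := hU₀.map_fromSpec hV (homOfLE (X.basicOpen_le c)).op
  have hi : (Spec.map (CommRingCat.ofHom (Ideal.Quotient.mk IT)) ≫ hV.isoSpec.inv) ≫
      (X.basicOpen c).ι = Spec.map (CommRingCat.ofHom (Ideal.Quotient.mk IT)) ≫ hV.fromSpec := by
    rw [Category.assoc, IsAffineOpen.isoSpec_inv_ι]
  have hif : (Spec.map (CommRingCat.ofHom (Ideal.Quotient.mk IT)) ≫ hV.isoSpec.inv) ≫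
      (X.basicOpen c).ι ≫ f =
      Spec.map (f.appLE V₀ (X.basicOpen c) e' ≫ CommRingCat.ofHom (Ideal.Quotient.mk IT)) ≫
        hV₀.fromSpec := by
    rw [← Category.assoc, hi, Category.assoc, hcomp, ← Category.assoc, ← Spec.map_comp]
  have hpt : ∀ z : Spec (CommRingCat.of (Γ(X, X.basicOpen c) ⧸ IT)),
      (X.basicOpen c).ι ((Spec.map (CommRingCat.ofHom (Ideal.Quotient.mk IT)) ≫
        hV.isoSpec.inv) z) =
      hU₀.fromSpec (Spec.map (X.presheaf.map (homOfLE (X.basicOpen_le c)).op)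
        (Spec.map (CommRingCat.ofHom (Ideal.Quotient.mk IT)) z)) := by
    intro z
    rw [← Scheme.Hom.comp_apply, hi, ← hres, Scheme.Hom.comp_apply, Scheme.Hom.comp_apply]
  refine ⟨X.basicOpen c, Spec (CommRingCat.of (Γ(X, X.basicOpen c) ⧸ IT)),
    Spec.map (CommRingCat.ofHom (Ideal.Quotient.mk IT)) ≫ hV.isoSpec.inv, ?_, ?_, ?_, ?_, ?_, ?_⟩
  · exact Groth.Agent.Lib.Seat6.RegImmAff.isRegularClosedImmersion_of_affine _ hV _ hreg IT hITl
  · -- the point
    have hxyV : hV.fromSpec (hV.primeIdealOf ⟨x, hxV⟩) = x := hV.fromSpec_primeIdealOf ⟨x, hxV⟩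
    have h1 : Spec.map (X.presheaf.map (homOfLE (X.basicOpen_le c)).op)
        (hV.primeIdealOf ⟨x, hxV⟩) = hU₀.primeIdealOf ⟨x, hxU₀⟩ := by
      apply hU₀.fromSpec.isOpenEmbedding.injective
      rw [← Scheme.Hom.comp_apply, hres, hxyV, hxq]
    have h2 : (hV.primeIdealOf ⟨x, hxV⟩).asIdeal.comap
        (algebraMap Γ(X, U₀) Γ(X, X.basicOpen c)) = q := congrArg PrimeSpectrum.asIdeal h1
    have h3 : IT ≤ (hV.primeIdealOf ⟨x, hxV⟩).asIdeal := by
      rw [hIT, Ideal.map_le_iff_le_comap, h2]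
      exact Ideal.span_le.2 fun r hr => hmem r hr
    have hker : RingHom.ker (Ideal.Quotient.mk IT) ≤ (hV.primeIdealOf ⟨x, hxV⟩).asIdeal := by
      rwa [Ideal.mk_ker]
    have hP₀ : ((hV.primeIdealOf ⟨x, hxV⟩).asIdeal.map (Ideal.Quotient.mk IT)).IsPrime :=
      Ideal.map_isPrime_of_surjective Ideal.Quotient.mk_surjective hker
    have hP₀c : ((hV.primeIdealOf ⟨x, hxV⟩).asIdeal.map (Ideal.Quotient.mk IT)).comap
        (Ideal.Quotient.mk IT) = (hV.primeIdealOf ⟨x, hxV⟩).asIdeal := by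
      rw [Ideal.comap_map_of_surjective _ Ideal.Quotient.mk_surjective,
        ← RingHom.ker_eq_comap_bot, sup_eq_left.2 hker]
    refine ⟨(⟨_, hP₀⟩ : PrimeSpectrum (Γ(X, X.basicOpen c) ⧸ IT)), ?_⟩
    rw [hi, Scheme.Hom.comp_apply]
    refine Eq.trans ?_ hxyV
    congr 1
    exact PrimeSpectrum.ext hP₀c
  · rw [hif]
    haveI : Flat (Spec.map (f.appLE V₀ (X.basicOpen c) e' ≫
        CommRingCat.ofHom (Ideal.Quotient.mk IT))) := by
      rw [HasRingHomProperty.Spec_iff (P := @Flat)]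
      change (algebraMap Γ(S, V₀) (Γ(X, X.basicOpen c) ⧸ IT)).Flat
      rw [RingHom.flat_algebraMap_iff]
      exact hfl
    infer_instance
  · haveI : LocallyOfFinitePresentation
        (Spec.map (CommRingCat.ofHom (Ideal.Quotient.mk IT))) := by
      rw [HasRingHomProperty.Spec_iff (P := @LocallyOfFinitePresentation)]
      refine RingHom.FinitePresentation.of_surjective _ Ideal.Quotient.mk_surjective ?_
      rw [CommRingCat.hom_ofHom, Ideal.mk_ker]
      exact Ideal.FG.map (Submodule.fg_span (List.finite_toSet rs)) _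
    infer_instance
  · rw [hif]
    haveI : LocallyQuasiFinite (Spec.map (f.appLE V₀ (X.basicOpen c) e' ≫
        CommRingCat.ofHom (Ideal.Quotient.mk IT))) := by
      rw [HasRingHomProperty.Spec_iff (P := @LocallyQuasiFinite)]
      change (algebraMap Γ(S, V₀) (Γ(X, X.basicOpen c) ⧸ IT)).QuasiFinite
      rw [RingHom.quasiFinite_algebraMap]
      exact hQF
    infer_instance
  · intro z hz
    rw [hpt z] at hz ⊢
    rw [hfU₀] at hz
    have h1 : Spec.map (f.appLE V₀ U₀ e)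
        (Spec.map (X.presheaf.map (homOfLE (X.basicOpen_le c)).op)
          (Spec.map (CommRingCat.ofHom (Ideal.Quotient.mk IT)) z)) =
        hV₀.primeIdealOf ⟨f x, hfxV₀⟩ :=
      hV₀.fromSpec.isOpenEmbedding.injective (hz.trans hfxp.symm)
    have h2 : (z : PrimeSpectrum (Γ(X, X.basicOpen c) ⧸ IT)).asIdeal.comap
        (algebraMap Γ(S, V₀) (Γ(X, X.basicOpen c) ⧸ IT)) = p := by
      have h := congrArg PrimeSpectrum.asIdeal h1
      refine Eq.trans ?_ h
      rw [IsScalarTower.algebraMap_eq Γ(S, V₀) Γ(X, X.basicOpen c)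
        (Γ(X, X.basicOpen c) ⧸ IT),
        IsScalarTower.algebraMap_eq Γ(S, V₀) Γ(X, U₀) Γ(X, X.basicOpen c),
        ← Ideal.comap_comap, ← Ideal.comap_comap]
      rfl
    have h3 := hPu (z : PrimeSpectrum (Γ(X, X.basicOpen c) ⧸ IT)).asIdeal
      (z : PrimeSpectrum (Γ(X, X.basicOpen c) ⧸ IT)).isPrime h2
    refine Eq.trans ?_ hxq
    congr 1
    exact PrimeSpectrum.ext h3

end Groth.Agent.S1349
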