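import Groth.Statements.S15792
import Groth.Agent.Lib.Seat73PGroupRep
import Groth.Agent.Lib.Seat73CotRep
-- import your own Groth.Agent.* helpers here

set_option autoImplicit false
universe u v
open WildQuot

namespace Groth.Agent.S15792

/-- Let `A` be a regular local ring of Krull dimension `n` and prime characteristic `p`, and let a
finite `p`-group `G` act on `A` by ring automorphisms inducing the identity on the residue field.
Then there is an admissible regular system of parameters: `u_1, …, u_n ∈ A` such that for every
choice `σ_1, …, σ_n ∈ G` the elements `σ_1 u_1, …, σ_n u_n` generate the maximal ideal. (The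
published statement is for a complete regular local ring containing a field of representatives fixed
by `G`; this row drops completeness and asks only that `G` act trivially on the residue field.) -/
theorem result
    (p : ℕ) [Fact p.Prime] (A : Type u) [CommRing A] [IsRegularLocalRing A] [CharP A p]
    (G : Type v) [Group G] [Finite G] [MulSemiringAction G A] (hG : IsPGroup p G)
    (hres : ∀ (σ : G) (a : A), σ • a - a ∈ IsLocalRing.maximalIdeal A)
    (n : ℕ) (hn : ringKrullDim A = n) :
    ∃ u : Fin n → A, ∀ τ : Fin n → G,
      Ideal.span (Set.range fun i => τ i • u i) = IsLocalRing.maximalIdeal A := by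
  classical
  open IsLocalRing Groth.Agent.Lib.Seat73 in
  -- the residue field has characteristic `p`
  have hcharK : CharP (ResidueField A) p := by
    have h0 : ((p : ℕ) : ResidueField A) = 0 := by
      have : ((p : ℕ) : A) = 0 := CharP.cast_eq_zero A p
      rw [← map_natCast (IsLocalRing.residue A), this, map_zero]
    exact (CharP.charP_iff_prime_eq_zero (Fact.out : p.Prime)).mpr h0
  -- dimension of the cotangent space
  have hfin : Module.finrank (ResidueField A) (CotangentSpace A) = n := by
    have h2 : ((maximalIdeal A).spanFinrank : WithBot ℕ∞) = ringKrullDim A :=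
      IsRegularLocalRing.spanFinrank_maximalIdeal
    rw [hn, IsLocalRing.spanFinrank_maximalIdeal_eq_finrank_cotangentSpace A] at h2
    exact_mod_cast h2
  obtain ⟨e, he⟩ := PGroupRep.exists_family_span_eq_top (p := p) (k := ResidueField A) hG n
    (CotangentSpace A) (CotRep.cotRep hres) hfin
  choose u' hu' using fun i => (maximalIdeal A).toCotangent_surjective (e i)
  refine ⟨fun i => (u' i : A), fun τ => ?_⟩
  set s : Set (maximalIdeal A) := Set.range fun i =>
    (⟨τ i • (u' i : A), CotRep.smul_mem_maximalIdeal (τ i) (u' i).2⟩ : maximalIdeal A) with hs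
  have h1 : Submodule.span (ResidueField A) ((maximalIdeal A).toCotangent '' s) = ⊤ := by
    rw [← he τ]
    congr 1
    ext x
    simp only [hs, Set.mem_image, Set.mem_range]
    constructor
    · rintro ⟨_, ⟨i, rfl⟩, rfl⟩
      exact ⟨i, by rw [← hu' i, CotRep.cotRep_toCotangent]⟩
    · rintro ⟨i, rfl⟩
      exact ⟨_, ⟨i, rfl⟩, by rw [← hu' i, CotRep.cotRep_toCotangent]⟩
  rw [CotangentSpace.span_image_eq_top_iff] at h1
  have h2 := congrArg (Submodule.map (maximalIdeal A).subtype) h1
  rw [Submodule.map_span, Submodule.map_top, Submodule.range_subtype] at h2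
  refine Eq.trans ?_ h2
  show Submodule.span A _ = Submodule.span A _
  congr 1
  ext x
  simp only [hs, Set.mem_image, Set.mem_range, Submodule.subtype_apply]
  constructor
  · rintro ⟨i, rfl⟩
    exact ⟨_, ⟨i, rfl⟩, rfl⟩
  · rintro ⟨_, ⟨i, rfl⟩, rfl⟩
    exact ⟨i, rfl⟩

end Groth.Agent.S15792
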