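import Groth.Statements.S3843
import Groth.Agent.S4875

set_option autoImplicit false
universe u
open CategoryTheory CategoryTheory.Limits AlgebraicGeometry TopologicalSpace
open Rat20

namespace Groth.Agent.S3843

/-- For the open subset U = X; the general case is the same statement over the open subscheme U: let f :
X' → X be flat and locally of finite presentation. Then for every schematically dense open subset V
of X, the preimage f⁻¹(V) is schematically dense in X'. -/
theorem result {X X' : Scheme.{u}} (f : X' ⟶ X) [Flat f]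
    [LocallyOfFinitePresentation f] (V : X.Opens) (hV : CInt.IsSchematicallyDense V) :
    CInt.IsSchematicallyDense (f ⁻¹ᵁ V) := by
  intro W
  rw [injective_iff_map_eq_zero]
  intro t ht
  -- the family consisting of the single open immersion `V.ι`
  have h : ∀ (O : X.Opens) (s : Γ(X, O)),
      (∀ _ : PUnit.{u+1}, (V.ι).app O s = 0) → s = 0 := by
    intro O s hs
    have h1 : V.ι.app O s = 0 := hs PUnit.unit
    apply hV O
    rw [map_zero]
    rw [Scheme.Opens.ι_app] at h1
    have hle : O ⊓ V ≤ V.ι ''ᵁ (V.ι ⁻¹ᵁ O) := by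
      rw [Scheme.Hom.image_preimage_eq_opensRange_inf, Scheme.Opens.opensRange_ι]
      exact le_of_eq (inf_comm _ _)
    have hle2 : V.ι ''ᵁ (V.ι ⁻¹ᵁ O) ≤ O := by
      rw [Scheme.Hom.image_preimage_eq_opensRange_inf]; exact inf_le_right
    have h1' : X.presheaf.map (homOfLE hle2).op s = 0 := h1
    have e : X.presheaf.map (homOfLE (inf_le_left : O ⊓ V ≤ O)).op =
        X.presheaf.map (homOfLE hle2).op ≫ X.presheaf.map (homOfLE hle).op := by
      rw [← Functor.map_comp]; rfl
    rw [e, CommRingCat.comp_apply, h1', map_zero]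
  have key := Groth.Agent.S4875.result (ι := PUnit.{u+1}) (fun _ => V.toScheme) (fun _ => V.ι) f h W t
  apply key
  intro _
  let j := pullback.snd V.ι f
  have hinj : Function.Injective (j.appIso (j ⁻¹ᵁ W)).inv :=
    (ConcreteCategory.bijective_of_isIso (j.appIso (j ⁻¹ᵁ W)).inv).1
  apply hinj
  rw [map_zero, ← CommRingCat.comp_apply, Scheme.Hom.app_appIso_inv]
  have hle : j ''ᵁ (j ⁻¹ᵁ W) ≤ W ⊓ f ⁻¹ᵁ V := by
    rw [Scheme.Hom.image_preimage_eq_opensRange_inf]
    have : j.opensRange = f ⁻¹ᵁ V := by
      rw [Scheme.Hom.opensRange_pullbackSnd, Scheme.Opens.opensRange_ι]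
    rw [this]
    exact le_of_eq (inf_comm _ _)
  have hle2 : j ''ᵁ (j ⁻¹ᵁ W) ≤ W := by
    rw [Scheme.Hom.image_preimage_eq_opensRange_inf]; exact inf_le_right
  have e : X'.presheaf.map (homOfLE hle2).op =
      X'.presheaf.map (homOfLE (inf_le_left : W ⊓ f ⁻¹ᵁ V ≤ W)).op ≫
        X'.presheaf.map (homOfLE hle).op := by
    rw [← Functor.map_comp]; rfl
  change X'.presheaf.map (homOfLE hle2).op t = 0
  rw [e, CommRingCat.comp_apply, ht, map_zero]

end Groth.Agent.S3843
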