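import Groth.Statements.S16130
import Mathlib
import Groth.Agent.Lib.Seat75OrbitDim
import Groth.Agent.Lib.Helper4VarDim9
import Groth.Agent.Lib.Helper4VarDim5

set_option autoImplicit false
set_option linter.style.haveILetI false
universe u
open CategoryTheory MonoidalCategory CartesianMonoidalCategory MonObj GrpObj AlgebraicGeometry CategoryTheory.Limits
open AlgGrp

namespace Groth.Agent.S16130

open Groth.Agent.Lib.Helper4.VarDim Groth.Agent.Lib.Helper4.FibDim Groth.Agent.Lib.Helper4.DimFormula
  Groth.Agent.Lib.Helper7.TopDim Groth.Agent.Lib.Seat75.OrbitDim Groth.Agent.Lib.Helper3.LocDimBC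

section Aux

/-- over a one-point base, the local fibre dimension is the local dimension. -/
theorem fibreDimAt_eq_localDim_of_subsingleton {P T : Scheme.{u}} (p : P ⟶ T) [Subsingleton T]
    (z : P) : FlatMor.fibreDimAt p z = FlatMor.localDim P z := by
  change FlatMor.localDim (p.fiber (p z)) (p.asFiber z) = _
  have hopen : IsOpen (p ⁻¹' {p z} : Set P) := by
    have : (p ⁻¹' {p z} : Set P) = Set.univ := by
      ext y
      simp only [Set.mem_preimage, Set.mem_singleton_iff, Set.mem_univ, iff_true]
      exact Subsingleton.elim _ _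
    rw [this]
    exact isOpen_univ
  rw [localDim_eq_of_isOpenEmbedding (p.fiberHomeo (p z)).isOpenEmbedding (p.asFiber z),
    localDim_eq_of_isOpenEmbedding hopen.isOpenEmbedding_subtypeVal]
  congr 1
  rw [Scheme.Hom.fiberHomeo_apply, Scheme.Hom.fiberι_asFiber]

/-- existence of a point of the fibre through `g₀`, maximal in its fibre -/
theorem exists_maximal_in_fibre {Y Z : Scheme.{u}} (f : Y ⟶ Z) (g₀ : Y) :
    ∃ g : Y, f g = f g₀ ∧ ∀ y : Y, f y = f g → y ⤳ g → y = g := by
  obtain ⟨ξ, hξ⟩ : ∃ ξ : f.fiber (f g₀), ∀ ξ' : f.fiber (f g₀), ξ' ⤳ ξ → ξ' = ξ := by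
    have hZ := irreducibleComponent_mem_irreducibleComponents (f.asFiber g₀)
    obtain ⟨ξ, hξ⟩ := QuasiSober.sober hZ.1 (isClosed_of_mem_irreducibleComponents _ hZ)
    have hξcl : closure ({ξ} : Set (f.fiber (f g₀))) = irreducibleComponent (f.asFiber g₀) := hξ.def
    exact ⟨ξ, fun ξ' hξ' => eq_of_specializes_generic ξ ξ' (by rw [hξcl]; exact hZ) hξ'⟩
  have hfg : f (f.fiberι (f g₀) ξ) = f g₀ := (f.fiberHomeo (f g₀) ξ).2
  refine ⟨f.fiberι (f g₀) ξ, hfg, ?_⟩
  intro y hy hsp
  rw [hfg] at hy
  set y' := (f.fiberHomeo (f g₀)).symm ⟨y, hy⟩ with hy'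
  have hyy' : f.fiberι (f g₀) y' = y := f.fiberι_fiberHomeo_symm _ _
  rw [← hyy'] at hsp ⊢
  have := ((f.fiberι (f g₀)).isEmbedding.isInducing.specializes_iff).mp hsp
  rw [hξ y' this]

end Aux

/-- Over an algebraically closed field k, let G be an algebraic group (a smooth k-group scheme of finite
type, not necessarily connected) acting on a variety X (a reduced separated k-scheme of finite
type), and let x be a k-point of X with orbit map α_x : G → X. Then dim G = dim(G · x) + dim(G_x),
where G · x is the image of α_x with its subspace topology and G_x is the stabilizer, the fibre of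
α_x over x; all dimensions are Krull dimensions of topological spaces. (The published statement also
asserts that the irreducible components of G · x are precisely the G⁰-orbits it contains, all of
that dimension; that clause is not stated here.) -/
theorem result (k : Type u) [Field k] [IsAlgClosed k]
    (G X : Over (Spec (CommRingCat.of k))) [GrpObj G] [Smooth G.hom] [QuasiCompact G.hom]
    [IsReduced X.left] [IsSeparated X.hom] [LocallyOfFiniteType X.hom] [QuasiCompact X.hom]
    (a : AlgGrp.Action G X) (x : 𝟙_ (Over (Spec (CommRingCat.of k))) ⟶ X) :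
    topologicalKrullDim ↥G.left =
      topologicalKrullDim ↥(Set.range (a.orbitMap x).left.base) +
        topologicalKrullDim ↥(Limits.pullback (a.orbitMap x).left x.left) := by
  letI : X.left.Over (Spec (CommRingCat.of k)) := ⟨X.hom⟩
  letI : G.left.Over (Spec (CommRingCat.of k)) := ⟨G.hom⟩
  haveI : LocallyOfFiniteType (X.left ↘ Spec (CommRingCat.of k)) := ‹LocallyOfFiniteType X.hom›
  haveI hGlft : LocallyOfFiniteType G.hom := inferInstance
  haveI : LocallyOfFiniteType (G.left ↘ Spec (CommRingCat.of k)) := hGlft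
  haveI : CompactSpace X.left := QuasiCompact.compactSpace_of_compactSpace X.hom
  have hf : (a.orbitMap x).left ≫ (X.left ↘ Spec (CommRingCat.of k)) =
      (G.left ↘ Spec (CommRingCat.of k)) := Over.w _
  haveI hflft : LocallyOfFiniteType (a.orbitMap x).left := by
    haveI : LocallyOfFiniteType ((a.orbitMap x).left ≫ X.hom) := by rw [Over.w]; infer_instance
    exact locallyOfFiniteType_of_comp (a.orbitMap x).left X.hom
  have hlc : IsLocallyClosed (Set.range (a.orbitMap x).left.base) :=
    Groth.Agent.Lib.Helper25.OrbitLC.isLocallyClosed_range_orbitMap k G X a x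
  haveI hsub : Subsingleton (Spec (CommRingCat.of k)) := by
    change Subsingleton (PrimeSpectrum k)
    infer_instance
  obtain ⟨g₀⟩ : Nonempty G.left := by
    have h0 : Nonempty (Spec (CommRingCat.of k)) := inferInstance
    obtain ⟨p⟩ := h0
    exact ⟨(η[G]).left.base p⟩
  -- the constant fibre dimension
  obtain ⟨g₁, -, hg₁⟩ := exists_maximal_in_fibre (a.orbitMap x).left g₀
  set n : ℕ := ptTrdeg (a.orbitMap x).left g₁ with hn
  have hfd₁ : FlatMor.fibreDimAt (a.orbitMap x).left g₁ = (n : WithBot ℕ∞) :=
    fibreDimAt_eq_trdegNat_of_maximal (a.orbitMap x).left g₁ hg₁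
  have hconst : ∀ g : G.left, FlatMor.fibreDimAt (a.orbitMap x).left g = (n : WithBot ℕ∞) := by
    intro g
    rw [← hfd₁]
    exact fibreDimAt_orbitMap_eq a x g g₁ (Subsingleton.elim _ _)
  -- the stabilizer
  have hstab : topologicalKrullDim ↥(Limits.pullback (a.orbitMap x).left x.left) =
      (n : WithBot ℕ∞) := by
    rw [topologicalKrullDim_eq_iSup_localDim]
    have hz : ∀ z : ↥(Limits.pullback (a.orbitMap x).left x.left),
        FlatMor.localDim ↥(Limits.pullback (a.orbitMap x).left x.left) z = (n : WithBot ℕ∞) := by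
      intro z
      haveI : Subsingleton ↥(𝟙_ (Over (Spec (CommRingCat.of k)))).left := hsub
      rw [← fibreDimAt_eq_localDim_of_subsingleton
        (pullback.snd (a.orbitMap x).left x.left) z,
        fibreDimAt_eq_of_isPullback (a.orbitMap x).left x.left
          (pullback.fst (a.orbitMap x).left x.left) (pullback.snd (a.orbitMap x).left x.left)
          (IsPullback.of_hasPullback (a.orbitMap x).left x.left) z]
      exact hconst _
    haveI : Nonempty ↥(Limits.pullback (a.orbitMap x).left x.left) := by
      have h0 : Nonempty (Spec (CommRingCat.of k)) := inferInstance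
      obtain ⟨p⟩ := h0
      have hcomm : (η[G]).left ≫ (a.orbitMap x).left = 𝟙 _ ≫ x.left := by
        rw [Category.id_comp, ← Over.comp_left]
        congr 1
        rw [AlgGrp.Action.comp_orbitMap]
        have h1 : (1 : 𝟙_ (Over (Spec (CommRingCat.of k))) ⟶ G) = η[G] := by
          rw [Hom.one_def, toUnit_unique (toUnit _) (𝟙 _), Category.id_comp]
        rw [← h1, AlgGrp.Action.lift_one_act, toUnit_unique (toUnit _) (𝟙 _), Category.id_comp]
      exact ⟨(pullback.lift (η[G]).left (𝟙 _) hcomm).base p⟩
    simp only [hz]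
    exact ciSup_const
  rw [hstab, topologicalKrullDim_eq_iSup_trdegNat k G.left,
    topologicalKrullDim_eq_iSup_trdegNat_of_isLocallyClosed k X.left _ hlc]
  -- a point of the orbit of maximal transcendence degree
  obtain ⟨N, hN⟩ := exists_trdegNat_le k X.left
  have hbdd : BddAbove (Set.range fun s : Set.range (a.orbitMap x).left.base =>
      trdegNat k X.left s) := ⟨N, by rintro _ ⟨s, rfl⟩; exact hN s⟩
  have hne : (Set.range fun s : Set.range (a.orbitMap x).left.base =>
      trdegNat k X.left s).Nonempty :=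
    ⟨_, ⟨⟨(a.orbitMap x).left.base g₀, g₀, rfl⟩, rfl⟩⟩
  obtain ⟨⟨s₀, g₂, hg₂⟩, hM⟩ := Nat.sSup_mem hne hbdd
  have hM' : trdegNat k X.left s₀ = sSup (Set.range fun s : Set.range (a.orbitMap x).left.base =>
      trdegNat k X.left s) := hM
  have hmax : ∀ g : G.left, trdegNat k X.left ((a.orbitMap x).left.base g) ≤
      trdegNat k X.left s₀ := fun g => by
    rw [hM']
    exact le_csSup hbdd ⟨⟨(a.orbitMap x).left.base g, g, rfl⟩, rfl⟩
  have hO : (⨆ t : Set.range (a.orbitMap x).left.base, ((trdegNat k X.left t : ℕ) : WithBot ℕ∞)) =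
      ((trdegNat k X.left s₀ : ℕ) : WithBot ℕ∞) := by
    apply le_antisymm
    · refine iSup_le fun t => ?_
      obtain ⟨t, g, rfl⟩ := t
      exact_mod_cast hmax g
    · exact le_iSup (fun t : Set.range (a.orbitMap x).left.base =>
        ((trdegNat k X.left t : ℕ) : WithBot ℕ∞)) ⟨s₀, g₂, hg₂⟩
  rw [hO]
  have hadd : ∀ g : G.left, trdegNat k G.left g =
      trdegNat k X.left ((a.orbitMap x).left.base g) + ptTrdeg (a.orbitMap x).left g :=
    fun g => trdegNat_eq_add_ptTrdeg k (a.orbitMap x).left hf g
  have hle : ∀ g : G.left, ptTrdeg (a.orbitMap x).left g ≤ n := by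
    intro g
    have h1 : ((ptTrdeg (a.orbitMap x).left g : ℕ) : WithBot ℕ∞) ≤
        FlatMor.fibreDimAt (a.orbitMap x).left g := by
      letI : ((a.orbitMap x).left.fiber ((a.orbitMap x).left g)).Over
          (Spec (CommRingCat.of (X.left.residueField ((a.orbitMap x).left g)))) :=
        ⟨(a.orbitMap x).left.fiberToSpecResidueField ((a.orbitMap x).left g)⟩
      haveI : LocallyOfFiniteType (((a.orbitMap x).left.fiber ((a.orbitMap x).left g)) ↘
          Spec (CommRingCat.of (X.left.residueField ((a.orbitMap x).left g)))) :=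
        locallyOfFiniteType_fiberToSpecResidueField (a.orbitMap x).left _
      change _ ≤ FlatMor.localDim _ _
      rw [le_localDim_iff]
      intro U hU
      exact trdegNat_le_topologicalKrullDim_of_isLocallyClosed
        (X.left.residueField ((a.orbitMap x).left g))
        ((a.orbitMap x).left.fiber ((a.orbitMap x).left g)) (U : Set _) U.isOpen.isLocallyClosed _ hU
    rw [hconst g] at h1
    exact_mod_cast h1
  apply le_antisymm
  · refine iSup_le fun g => ?_
    rw [hadd g]
    have := Nat.add_le_add (hmax g) (hle g)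
    exact_mod_cast this
  · obtain ⟨g₃, hg₃, hg₃max⟩ := exists_maximal_in_fibre (a.orbitMap x).left g₂
    have h1 : FlatMor.fibreDimAt (a.orbitMap x).left g₃ =
        ((ptTrdeg (a.orbitMap x).left g₃ : ℕ) : WithBot ℕ∞) :=
      fibreDimAt_eq_trdegNat_of_maximal (a.orbitMap x).left g₃ hg₃max
    rw [hconst g₃] at h1
    have h2 : ptTrdeg (a.orbitMap x).left g₃ = n := by exact_mod_cast h1.symm
    have h3 := hadd g₃
    rw [h2, hg₃, hg₂] at h3
    refine le_trans ?_ (le_iSup (fun g : G.left => ((trdegNat k G.left g : ℕ) : WithBot ℕ∞)) g₃)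
    rw [h3]
    push_cast
    exact le_rfl

end Groth.Agent.S16130
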