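import Groth.Statements.S16086
import Groth.Agent.Lib.Seat75HomExt
import Groth.Agent.Lib.Seat75OrdCompare
import Groth.Agent.Lib.Seat75Ref1Frame

set_option autoImplicit false
universe u
open CategoryTheory CategoryTheory.Limits AlgebraicGeometry TopologicalSpace
open SDiv

namespace Groth.Agent.S16086

set_option linter.style.haveILetI false
set_option linter.unusedSectionVars false

open Groth.Agent.Lib.Seat75.Hartogs Groth.Agent.Lib.Seat75.Ref1Frame Groth.Agent.Lib.Seat75.SecOrd
  Groth.Agent.Lib.Seat75.DualFrame Groth.Agent.Lib.Seat75.HomExt Groth.Agent.Lib.Seat75.OrdCompare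
  Groth.Agent.Lib.Helper6 RefHull

section alg
variable {K : Type*} [Field K] {M : Type*} [AddCommGroup M] [Module K M]

/-- in a one dimensional vector space every nonzero vector is a free generator. -/
lemma bijective_smul_of_ne_zero (e : M) (he : Function.Bijective (fun c : K => c • e)) (m : M)
    (hm : m ≠ 0) : Function.Bijective (fun c : K => c • m) := by
  obtain ⟨c, hc⟩ := he.2 m
  have hc' : c • e = m := hc
  have hc0 : c ≠ 0 := by
    rintro rfl
    rw [zero_smul] at hc'
    exact hm hc'.symm
  constructor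
  · intro u v huv
    have huv' : u • m = v • m := huv
    rw [← hc', smul_smul, smul_smul] at huv'
    exact mul_right_cancel₀ hc0 (he.1 huv')
  · intro n
    obtain ⟨d, hd⟩ := he.2 n
    have hd' : d • e = n := hd
    refine ⟨d * c⁻¹, ?_⟩
    change (d * c⁻¹) • m = n
    rw [← hc', smul_smul, mul_assoc, inv_mul_cancel₀ hc0, mul_one, hd']

end alg

variable {X : Scheme.{u}} [IsIntegral X] [IsLocallyNoetherian X]

/-- the generic stalk of a rank one module has a free generator. -/
lemma exists_generic_gen (F : X.Modules) (hF : RefHull.GenInvertible F) :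
    ∃ e : F.presheaf.stalk (genericPoint X),
      Function.Bijective (fun c : X.presheaf.stalk (genericPoint X) => c • e) := by
  obtain ⟨W₀, a, hηW₀, ha⟩ := exists_gen_generic F hF
  exact ⟨_, bijective_smul_germ_of_isGen F ha (genericPoint X) hηW₀⟩

/-- free generators of the stalks of a rank one reflexive module at codimension one points. -/
lemma exists_stalk_gen (hX : Pi1.IsNormalScheme X) (F : X.Modules) (hF : RefHull.IsRef1 F) (x : X)
    (hx : Order.coheight x = 1) :
    ∃ tx : F.presheaf.stalk x, Function.Bijective (fun c : X.presheaf.stalk x => c • tx) ∧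
      Function.Bijective (fun c : X.presheaf.stalk (genericPoint X) =>
        c • F.presheaf.stalkSpecializes (hη x) tx) := by
  obtain ⟨V, a₁, hxV, ha₁⟩ := exists_gen_codim_one hX F hF x hx
  refine ⟨F.presheaf.germ V x hxV a₁, bijective_smul_germ_of_isGen F ha₁ x hxV, ?_⟩
  rw [spec_germ]
  exact bijective_smul_germ_of_isGen F ha₁ (genericPoint X) _

/-- the order of a rational section in terms of a generator of the stalk. -/
lemma secOrdAt_eq_ord (L : X.Modules) (x : X) (hx : Order.coheight x = 1)
    (tx : L.presheaf.stalk x)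
    (htx : Function.Bijective (fun c : X.presheaf.stalk x => c • tx))
    (htη : Function.Bijective (fun c : X.presheaf.stalk (genericPoint X) =>
      c • (L.presheaf.stalkSpecializes (hη x) tx)))
    (s₀ : L.presheaf.stalk (genericPoint X)) (α : X.functionField) (hα : α ≠ 0)
    (hs : s₀ = α • L.presheaf.stalkSpecializes (hη x) tx) :
    Cyc.secOrdAt L (genericPoint X) x (hη x)
      (Submodule.Quotient.mk s₀ : Cyc.secFibre L (genericPoint X)) = Scheme.ord α x := by
  rw [secOrdAt_eq L x (hη x) tx htx htη _ α hα (by rw [hs]; rfl), ordAt_eq_ord x (hη x) hx α]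

lemma mk_injective (L : X.Modules) (a b : L.presheaf.stalk (genericPoint X))
    (h : (Submodule.Quotient.mk a : Cyc.secFibre L (genericPoint X)) = Submodule.Quotient.mk b) :
    a = b := by
  have hmax : IsLocalRing.maximalIdeal (X.presheaf.stalk (genericPoint X)) = ⊥ :=
    IsLocalRing.maximalIdeal_eq_bot
  rw [Submodule.Quotient.eq, hmax, Submodule.bot_smul, Submodule.mem_bot, sub_eq_zero] at h
  exact h

lemma ord_eq_of_mul_eq {x : X} {k a b c : X.functionField} (hk : k ≠ 0) (ha : a ≠ 0) (hb : b ≠ 0)
    (hc : c ≠ 0) (h : k * a = b * c) (hord : Scheme.ord a x = Scheme.ord c x + Scheme.ord b x) :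
    Scheme.ord k x = 0 := by
  have h1 := Scheme.ord_mul (x := x) hk ha
  have h2 := Scheme.ord_mul (x := x) hb hc
  rw [h] at h1
  omega

/-- the generic linear map `c • s₀ ↦ c • w`. -/
noncomputable def genMap {F G : X.Modules} (s₀ : F.presheaf.stalk (genericPoint X))
    (hs₀ : Function.Bijective (fun c : X.presheaf.stalk (genericPoint X) => c • s₀))
    (w : G.presheaf.stalk (genericPoint X)) :
    F.presheaf.stalk (genericPoint X) →ₗ[X.presheaf.stalk (genericPoint X)]
      G.presheaf.stalk (genericPoint X) :=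
  (LinearMap.toSpanSingleton _ _ w).comp (genEquiv s₀ hs₀).symm.toLinearMap

lemma genMap_smul {F G : X.Modules} (s₀ : F.presheaf.stalk (genericPoint X))
    (hs₀ : Function.Bijective (fun c : X.presheaf.stalk (genericPoint X) => c • s₀))
    (w : G.presheaf.stalk (genericPoint X)) (c : X.presheaf.stalk (genericPoint X)) :
    genMap s₀ hs₀ w (c • s₀) = c • w := by
  change LinearMap.toSpanSingleton _ _ w ((genEquiv s₀ hs₀).symm (c • s₀)) = _
  rw [genEquiv_symm_smul]
  rfl

/-- the key local computation: the generic map respects stalks at codimension one points as soon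
as the orders match. -/
lemma mapsCodimOne_genMap (hX : Pi1.IsNormalScheme X) (F G : X.Modules) (hF : RefHull.IsRef1 F)
    (hG : RefHull.IsRef1 G) (s₀ : F.presheaf.stalk (genericPoint X)) (hs₀ : s₀ ≠ 0)
    (hbs : Function.Bijective (fun c : X.presheaf.stalk (genericPoint X) => c • s₀))
    (t₀ : G.presheaf.stalk (genericPoint X)) (ht₀ : t₀ ≠ 0) (f : X.functionField) (hf : f ≠ 0)
    (hord : ∀ x : X, Order.coheight x = 1 →
      Cyc.secOrdAt F (genericPoint X) x (hη x)
        (Submodule.Quotient.mk s₀ : Cyc.secFibre F (genericPoint X)) =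
      Cyc.secOrdAt G (genericPoint X) x (hη x)
        (Submodule.Quotient.mk t₀ : Cyc.secFibre G (genericPoint X)) + Scheme.ord f x) :
    MapsCodimOne G F (genMap s₀ hbs (f • t₀)) := by
  intro y hy v
  obtain ⟨ty, hty, htyη⟩ := exists_stalk_gen hX F hF y hy
  obtain ⟨uy, huy, huyη⟩ := exists_stalk_gen hX G hG y hy
  obtain ⟨α, hα⟩ := htyη.2 s₀
  obtain ⟨β, hβ⟩ := huyη.2 t₀
  have hα' : α • F.presheaf.stalkSpecializes (hη y) ty = s₀ := hα
  have hβ' : β • G.presheaf.stalkSpecializes (hη y) uy = t₀ := hβ
  have hα0 : α ≠ 0 := by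
    rintro rfl
    rw [zero_smul] at hα'
    exact hs₀ hα'.symm
  have hβ0 : β ≠ 0 := by
    rintro rfl
    rw [zero_smul] at hβ'
    exact ht₀ hβ'.symm
  have e1 := secOrdAt_eq_ord F y hy ty hty htyη s₀ α hα0 hα'.symm
  have e2 := secOrdAt_eq_ord G y hy uy huy huyη t₀ β hβ0 hβ'.symm
  have hαβ := hord y hy
  rw [e1, e2] at hαβ
  -- the transition factor is a unit
  set k : X.functionField := α⁻¹ * f * β with hk
  have hk0 : k ≠ 0 := mul_ne_zero (mul_ne_zero (inv_ne_zero hα0) hf) hβ0
  have hkα : k * α = f * β := by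
    rw [hk]
    field_simp
  have hk1 : Scheme.ord k y = 0 := ord_eq_of_mul_eq hk0 hα0 hf hβ0 hkα hαβ
  obtain ⟨u, hu⟩ := exists_unit_of_ord_eq_zero hX y hy k hk0 hk1
  obtain ⟨c, hc⟩ := hty.2 v
  have hc' : c • ty = v := hc
  refine ⟨(c * u) • uy, ?_⟩
  rw [← hc', stalkSpecializes_smul, stalkSpecializes_smul]
  have h1 : F.presheaf.stalkSpecializes (hη y) ty = α⁻¹ • s₀ := by
    rw [← hα', smul_smul, inv_mul_cancel₀ hα0, one_smul]
  rw [h1, smul_smul, genMap_smul, ← hβ', smul_smul, smul_smul]
  congr 1
  have h2 : X.presheaf.stalkSpecializes (hη y) (c * (u : X.presheaf.stalk y)) =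
      X.presheaf.stalkSpecializes (hη y) c * k := by
    rw [map_mul, ← hu]
    rfl
  rw [h2, hk]
  ring

/-- The class map is well defined and injective: fix a scheme X that is integral, normal and locally
Noetherian, and write η for its generic point; suppose F and G are rank one coherent reflexive
O_X-modules and let s ∈ F_η and t ∈ G_η be nonzero rational sections. At a point x of codimension 1
the stalks F_x, G_x are free of rank one over the discrete valuation ring O_{X,x}, so s and t have
orders ord_{x,F}(s), ord_{x,G}(t). Then F ≅ G if and only if the Weil divisors of s and t are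
linearly equivalent: for some nonzero rational function f one has ord_{x,F}(s) = ord_{x,G}(t) +
ord_x(f) at every point x of codimension 1. -/
theorem result (X : Scheme.{u}) [IsIntegral X] [IsLocallyNoetherian X]
    (hX : Pi1.IsNormalScheme X) (F G : X.Modules) (hF : RefHull.IsRef1 F) (hG : RefHull.IsRef1 G)
    (s : Cyc.secFibre F (genericPoint ↥X)) (hs : s ≠ 0) (t : Cyc.secFibre G (genericPoint ↥X)) (ht : t ≠ 0) :
    Nonempty (F ≅ G) ↔
      ∃ f : ↑X.functionField, f ≠ 0 ∧
        ∀ (x : ↥X), Order.coheight x = 1 →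
          Cyc.secOrdAt F (genericPoint ↥X) x ((genericPoint_spec ↥X).specializes (Set.mem_univ x)) s =
            Cyc.secOrdAt G (genericPoint ↥X) x ((genericPoint_spec ↥X).specializes (Set.mem_univ x)) t +
              Scheme.ord f x := by
  obtain ⟨s₀, rfl⟩ := Submodule.Quotient.mk_surjective _ s
  obtain ⟨t₀, rfl⟩ := Submodule.Quotient.mk_surjective _ t
  have hs₀ : s₀ ≠ 0 := by
    rintro rfl
    exact hs (Submodule.Quotient.mk_zero _)
  have ht₀ : t₀ ≠ 0 := by
    rintro rfl
    exact ht (Submodule.Quotient.mk_zero _)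
  obtain ⟨eF, heF⟩ := exists_generic_gen F hF.2.2
  obtain ⟨eG, heG⟩ := exists_generic_gen G hG.2.2
  have hbs := bijective_smul_of_ne_zero eF heF s₀ hs₀
  have hbt := bijective_smul_of_ne_zero eG heG t₀ ht₀
  constructor
  · rintro ⟨e⟩
    obtain ⟨f, hf⟩ := hbt.2 (stalkMapₗ e.hom (genericPoint X) s₀)
    have hf' : f • t₀ = stalkMapₗ e.hom (genericPoint X) s₀ := hf
    have hf0 : f ≠ 0 := by
      rintro rfl
      rw [zero_smul] at hf'
      have := (stalkMapₗ_bijective e.hom (genericPoint X)).1 (hf'.symm.trans (map_zero _).symm)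
      exact hs₀ this
    refine ⟨f, hf0, fun x hx => ?_⟩
    obtain ⟨tx, htx, htxη⟩ := exists_stalk_gen hX F hF x hx
    obtain ⟨α, hα⟩ := htxη.2 s₀
    have hα' : α • F.presheaf.stalkSpecializes (hη x) tx = s₀ := hα
    have hα0 : α ≠ 0 := by
      rintro rfl
      rw [zero_smul] at hα'
      exact hs₀ hα'.symm
    -- the image generator
    set ux := stalkMapₗ e.hom x tx with hux
    have hbux : Function.Bijective (fun c : X.presheaf.stalk x => c • ux) := by
      have : (fun c : X.presheaf.stalk x => c • ux) =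
          (stalkMapₗ e.hom x) ∘ (fun c : X.presheaf.stalk x => c • tx) := by
        funext c
        change c • stalkMapₗ e.hom x tx = stalkMapₗ e.hom x (c • tx)
        rw [map_smul]
      rw [this]
      exact (stalkMapₗ_bijective e.hom x).comp htx
    have hspux : G.presheaf.stalkSpecializes (hη x) ux =
        stalkMapₗ e.hom (genericPoint X) (F.presheaf.stalkSpecializes (hη x) tx) :=
      spec_stalkMapₗ e.hom (hη x) tx
    have hbuxη : Function.Bijective (fun c : X.presheaf.stalk (genericPoint X) =>
        c • G.presheaf.stalkSpecializes (hη x) ux) := by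
      have : (fun c : X.presheaf.stalk (genericPoint X) =>
          c • G.presheaf.stalkSpecializes (hη x) ux) =
          (stalkMapₗ e.hom (genericPoint X)) ∘ (fun c : X.presheaf.stalk (genericPoint X) =>
            c • F.presheaf.stalkSpecializes (hη x) tx) := by
        funext c
        change c • G.presheaf.stalkSpecializes (hη x) ux = stalkMapₗ e.hom (genericPoint X) (c • _)
        rw [map_smul, hspux]
      rw [this]
      exact (stalkMapₗ_bijective e.hom (genericPoint X)).comp htxη
    have ht₀' : t₀ = (f⁻¹ * α) • G.presheaf.stalkSpecializes (hη x) ux := by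
      rw [hspux, ← smul_smul, ← map_smul, hα', ← hf', smul_smul, inv_mul_cancel₀ hf0, one_smul]
    have e1 := secOrdAt_eq_ord F x hx tx htx htxη s₀ α hα0 hα'.symm
    have e2 := secOrdAt_eq_ord G x hx ux hbux hbuxη t₀ (f⁻¹ * α)
      (mul_ne_zero (inv_ne_zero hf0) hα0) ht₀'
    change Cyc.secOrdAt F (genericPoint X) x (hη x) _ = Cyc.secOrdAt G (genericPoint X) x (hη x) _ + _
    rw [e1, e2, ← Scheme.ord_mul (mul_ne_zero (inv_ne_zero hf0) hα0) hf0]
    congr 1
    field_simp
  · rintro ⟨f, hf0, hord⟩
    have hfi0 : f⁻¹ ≠ 0 := inv_ne_zero hf0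
    have hord' : ∀ x : X, Order.coheight x = 1 →
        Cyc.secOrdAt G (genericPoint X) x (hη x)
          (Submodule.Quotient.mk t₀ : Cyc.secFibre G (genericPoint X)) =
        Cyc.secOrdAt F (genericPoint X) x (hη x)
          (Submodule.Quotient.mk s₀ : Cyc.secFibre F (genericPoint X)) + Scheme.ord f⁻¹ x := by
      intro x hx
      have h1 := hord x hx
      have h2 := Scheme.ord_mul (x := x) hf0 hfi0
      rw [mul_inv_cancel₀ hf0] at h2
      have h3 : Scheme.ord (1 : X.functionField) x = 0 := by
        have := Scheme.ord_mul (x := x) (one_ne_zero (α := X.functionField)) one_ne_zero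
        rw [mul_one] at this
        omega
      change Cyc.secOrdAt F (genericPoint X) x (hη x) _ =
        Cyc.secOrdAt G (genericPoint X) x (hη x) _ + _ at h1
      omega
    have hT := mapsCodimOne_genMap hX F G hF hG s₀ hs₀ hbs t₀ ht₀ f hf0 hord
    have hT' := mapsCodimOne_genMap hX G F hG hF t₀ ht₀ hbt s₀ hs₀ f⁻¹ hfi0 hord'
    set T := genMap s₀ hbs (f • t₀) with hTdef
    set T' := genMap t₀ hbt (f⁻¹ • s₀) with hT'def
    have hTT' : T'.comp T = LinearMap.id := by
      apply linearMap_ext_of_gen s₀ hbs.2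
      have h1 : T s₀ = f • t₀ := by
        have := genMap_smul s₀ hbs (f • t₀) 1
        rwa [one_smul, one_smul] at this
      rw [LinearMap.comp_apply, h1, genMap_smul, smul_smul, mul_inv_cancel₀ hf0, one_smul]
      rfl
    have hT'T : T.comp T' = LinearMap.id := by
      apply linearMap_ext_of_gen t₀ hbt.2
      have h1 : T' t₀ = f⁻¹ • s₀ := by
        have := genMap_smul t₀ hbt (f⁻¹ • s₀) 1
        rwa [one_smul, one_smul] at this
      rw [LinearMap.comp_apply, h1, genMap_smul, smul_smul, inv_mul_cancel₀ hf0, one_smul]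
      rfl
    haveI : IsIso (bidualMap F) := hF.2.1
    haveI : IsIso (bidualMap G) := hG.2.1
    let α : F ⟶ G := extend hX hT ≫ inv (bidualMap G)
    let β : G ⟶ F := extend hX hT' ≫ inv (bidualMap F)
    have hαη : stalkMapₗ α (genericPoint X) = T := by
      change stalkMapₗ (extend hX hT ≫ inv (bidualMap G)) (genericPoint X) = T
      rw [stalkMapₗ_comp, stalkMapₗ_extend, ← LinearMap.comp_assoc, ← stalkMapₗ_comp,
        IsIso.hom_inv_id, stalkMapₗ_id, LinearMap.id_comp]
    have hβη : stalkMapₗ β (genericPoint X) = T' := by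
      change stalkMapₗ (extend hX hT' ≫ inv (bidualMap F)) (genericPoint X) = T'
      rw [stalkMapₗ_comp, stalkMapₗ_extend, ← LinearMap.comp_assoc, ← stalkMapₗ_comp,
        IsIso.hom_inv_id, stalkMapₗ_id, LinearMap.id_comp]
    refine ⟨⟨α, β, ?_, ?_⟩⟩
    · apply hom_ext_of_generic hF.2.1
      rw [stalkMapₗ_comp, hαη, hβη, hTT', stalkMapₗ_id]
    · apply hom_ext_of_generic hG.2.1
      rw [stalkMapₗ_comp, hαη, hβη, hT'T, stalkMapₗ_id]

end Groth.Agent.S16086
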