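import Groth.Statements.S16092
import Groth.Agent.Lib.Seat75SecOrd

set_option autoImplicit false
universe u
open CategoryTheory CategoryTheory.Limits AlgebraicGeometry TopologicalSpace
open SDiv

namespace Groth.Agent.S16092

set_option linter.style.haveILetI false

open Groth.Agent.Lib.Seat75.SecOrd Groth.Agent.Lib.Helper23.SecTw Groth.Agent.Lib.Helper6

variable {X : Scheme.{u}}

/-- the germ of a frame is nonzero at the generic point. -/
theorem germ_ne_zero_of_isGen [IsIntegral X] (L : X.Modules) {W : X.Opens} {e : Γ(L, W)}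
    (he : IsGen L W e) (y : X) (hy : y ∈ W) : L.presheaf.germ W y hy e ≠ 0 := by
  intro h0
  have hb := (bijective_smul_germ_of_isGen L he y hy).1
  have : (1 : X.presheaf.stalk y) = 0 := by
    apply hb
    change (1 : X.presheaf.stalk y) • L.presheaf.germ W y hy e = (0 : X.presheaf.stalk y) • _
    rw [h0, smul_zero, smul_zero]
  exact one_ne_zero this

/-- `secOrdAt` computed from a frame near the generic point and a frame near `x`. -/
theorem secOrdAt_of_frames [IsIntegral X] (L : X.Modules) {U₀ V : X.Opens} {a : Γ(L, U₀)}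
    {a₁ : Γ(L, V)} (ha : IsGen L U₀ a) (ha₁ : IsGen L V a₁) (x : X) (hx : x ∈ V)
    (hη : genericPoint X ∈ U₀) (h : genericPoint X ⤳ x) (c : Γ(X, U₀ ⊓ V))
    (hc : res L inf_le_left a = c • res L inf_le_right a₁)
    (φ₀ : X.presheaf.stalk (genericPoint X)) (hφ₀ : φ₀ ≠ 0)
    (s : Cyc.secFibre L (genericPoint X))
    (hs : s = φ₀ • (Submodule.Quotient.mk (L.presheaf.germ U₀ _ hη a) :
      Cyc.secFibre L (genericPoint X))) :
    X.presheaf.germ (U₀ ⊓ V) (genericPoint X) ⟨hη, h.mem_open V.isOpen hx⟩ c ≠ 0 ∧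
    Cyc.secOrdAt L (genericPoint X) x h s =
      Cyc.ordAt x (genericPoint X) h (X.residue _
        (φ₀ * X.presheaf.germ (U₀ ⊓ V) (genericPoint X) ⟨hη, h.mem_open V.isOpen hx⟩ c)) := by
  have hηV : genericPoint X ∈ V := h.mem_open V.isOpen hx
  have hηA : genericPoint X ∈ U₀ ⊓ V := ⟨hη, hηV⟩
  have hsp : L.presheaf.stalkSpecializes h (L.presheaf.germ V x hx a₁) =
      L.presheaf.germ V (genericPoint X) hηV a₁ :=
    ConcreteCategory.congr_hom (TopCat.Presheaf.germ_stalkSpecializes L.presheaf hx h) a₁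
  have hgerm : L.presheaf.germ U₀ (genericPoint X) hη a =
      X.presheaf.germ (U₀ ⊓ V) (genericPoint X) hηA c •
        L.presheaf.germ V (genericPoint X) hηV a₁ := by
    rw [← TopCat.Presheaf.germ_res_apply L.presheaf (homOfLE (inf_le_left : U₀ ⊓ V ≤ U₀))
      (genericPoint X) hηA a,
      ← TopCat.Presheaf.germ_res_apply L.presheaf (homOfLE (inf_le_right : U₀ ⊓ V ≤ V))
      (genericPoint X) hηA a₁, ← germ_smul]
    exact congrArg _ hc
  have hcne : X.presheaf.germ (U₀ ⊓ V) (genericPoint X) hηA c ≠ 0 := by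
    intro h0
    apply germ_ne_zero_of_isGen L ha (genericPoint X) hη
    rw [hgerm, h0, zero_smul]
  haveI : IsDomain (X.presheaf.stalk (genericPoint X)) := inferInstance
  refine ⟨hcne, ?_⟩
  refine secOrdAt_eq L x h (L.presheaf.germ V x hx a₁) (bijective_smul_germ_of_isGen L ha₁ x hx)
    ?_ s _ (mul_ne_zero hφ₀ hcne) ?_
  · rw [hsp]
    exact bijective_smul_germ_of_isGen L ha₁ (genericPoint X) hηV
  · rw [hs, hsp, hgerm, Submodule.Quotient.mk_smul, ← mul_smul]

theorem result (X : Scheme.{u}) [IsIntegral X] [IsLocallyNoetherian X] (L N : X.Modules)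
    (hL : PicF.IsInvertible L) (hN : PicF.IsInvertible N) (s : Cyc.secFibre L (genericPoint ↥X)) (hs : s ≠ 0)
    (t : Cyc.secFibre N (genericPoint ↥X)) (ht : t ≠ 0) :
    ∃ w : Cyc.secFibre (CohB1.tensorMod L N) (genericPoint ↥X), w ≠ 0 ∧
      ∀ (x : ↥X), ringKrullDim ↑(X.presheaf.stalk x) = 1 →
        Cyc.secOrdAt (CohB1.tensorMod L N) (genericPoint ↥X) x ((genericPoint_spec ↥X).specializes (Set.mem_univ x)) w =
          Cyc.secOrdAt L (genericPoint ↥X) x ((genericPoint_spec ↥X).specializes (Set.mem_univ x)) s +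
            Cyc.secOrdAt N (genericPoint ↥X) x ((genericPoint_spec ↥X).specializes (Set.mem_univ x)) t := by
  have hmax : IsLocalRing.maximalIdeal (X.presheaf.stalk (genericPoint X)) = ⊥ :=
    IsLocalRing.maximalIdeal_eq_bot
  have hresinj : Function.Injective (X.residue (genericPoint X)) := by
    rw [injective_iff_map_eq_zero]
    intro a ha
    have : a ∈ IsLocalRing.maximalIdeal (X.presheaf.stalk (genericPoint X)) := by
      rw [← IsLocalRing.residue_eq_zero_iff]
      exact ha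
    rwa [hmax, Ideal.mem_bot] at this
  -- frames near the generic point
  obtain ⟨U₁, a', hgU₁, ha'⟩ := exists_gen L hL (genericPoint X)
  obtain ⟨U₂, b', hgU₂, hb'⟩ := exists_gen N hN (genericPoint X)
  set U₀ : X.Opens := U₁ ⊓ U₂ with hU₀
  have hgU₀ : genericPoint X ∈ U₀ := ⟨hgU₁, hgU₂⟩
  set a : Γ(L, U₀) := res L inf_le_left a' with hadef
  set b : Γ(N, U₀) := res N inf_le_right b' with hbdef
  have ha : IsGen L U₀ a := ha'.mono inf_le_left
  have hb : IsGen N U₀ b := hb'.mono inf_le_right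
  have hab : IsGen (CohB1.tensorMod L N) U₀ (tm L N U₀ a b) := isGen_tm L N U₀ a b ha hb
  -- write `s` and `t` in terms of the frames
  obtain ⟨s₀, hs₀⟩ := Submodule.Quotient.mk_surjective _ s
  obtain ⟨t₀, ht₀⟩ := Submodule.Quotient.mk_surjective _ t
  obtain ⟨φ₀, hφ₀⟩ := (bijective_smul_germ_of_isGen L ha (genericPoint X) hgU₀).2 s₀
  obtain ⟨ψ₀, hψ₀⟩ := (bijective_smul_germ_of_isGen N hb (genericPoint X) hgU₀).2 t₀
  have hφne : φ₀ ≠ 0 := by
    rintro rfl
    apply hs
    rw [← hs₀, ← hφ₀]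
    change Submodule.Quotient.mk ((0 : X.presheaf.stalk (genericPoint X)) • _) = 0
    rw [zero_smul, Submodule.Quotient.mk_zero]
  have hψne : ψ₀ ≠ 0 := by
    rintro rfl
    apply ht
    rw [← ht₀, ← hψ₀]
    change Submodule.Quotient.mk ((0 : X.presheaf.stalk (genericPoint X)) • _) = 0
    rw [zero_smul, Submodule.Quotient.mk_zero]
  haveI : IsDomain (X.presheaf.stalk (genericPoint X)) := inferInstance
  refine ⟨(φ₀ * ψ₀) • (Submodule.Quotient.mk
    ((CohB1.tensorMod L N).presheaf.germ U₀ (genericPoint X) hgU₀ (tm L N U₀ a b)) :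
      Cyc.secFibre (CohB1.tensorMod L N) (genericPoint X)), ?_, ?_⟩
  · rw [← Submodule.Quotient.mk_smul]
    intro h0
    rw [Submodule.Quotient.mk_eq_zero, hmax, Submodule.bot_smul, Submodule.mem_bot] at h0
    have hinj := (bijective_smul_germ_of_isGen (CohB1.tensorMod L N) hab (genericPoint X) hgU₀).1
    have : φ₀ * ψ₀ = 0 := by
      apply hinj
      change (φ₀ * ψ₀) • _ = (0 : X.presheaf.stalk (genericPoint X)) • _
      rw [h0, zero_smul]
    exact mul_ne_zero hφne hψne this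
  · intro x _
    have hsx : genericPoint X ⤳ x := (genericPoint_spec ↥X).specializes (Set.mem_univ x)
    -- frames near `x`
    obtain ⟨V₁, a₁', hxV₁, ha₁'⟩ := exists_gen L hL x
    obtain ⟨V₂, b₁', hxV₂, hb₁'⟩ := exists_gen N hN x
    set V : X.Opens := V₁ ⊓ V₂ with hV
    have hxV : x ∈ V := ⟨hxV₁, hxV₂⟩
    set a₁ : Γ(L, V) := res L inf_le_left a₁' with ha₁def
    set b₁ : Γ(N, V) := res N inf_le_right b₁' with hb₁def
    have ha₁ : IsGen L V a₁ := ha₁'.mono inf_le_left
    have hb₁ : IsGen N V b₁ := hb₁'.mono inf_le_right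
    have hab₁ : IsGen (CohB1.tensorMod L N) V (tm L N V a₁ b₁) := isGen_tm L N V a₁ b₁ ha₁ hb₁
    obtain ⟨c, hc⟩ := exists_transition' a ha₁
    obtain ⟨d, hd⟩ := exists_transition' b hb₁
    have hcd : res (CohB1.tensorMod L N) inf_le_left (tm L N U₀ a b) =
        (c * d) • res (CohB1.tensorMod L N) inf_le_right (tm L N V a₁ b₁) := by
      rw [res_tm, res_tm, hc, hd, tm_smul_left, tm_smul_right, mul_smul]
    obtain ⟨hc0, e1⟩ := secOrdAt_of_frames L ha ha₁ x hxV hgU₀ hsx c hc φ₀ hφne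
      s (by rw [← hs₀, ← hφ₀]; rfl)
    obtain ⟨hd0, e2⟩ := secOrdAt_of_frames N hb hb₁ x hxV hgU₀ hsx d hd ψ₀ hψne
      t (by rw [← ht₀, ← hψ₀]; rfl)
    obtain ⟨-, e3⟩ := secOrdAt_of_frames (CohB1.tensorMod L N) hab hab₁ x hxV hgU₀ hsx (c * d) hcd
      (φ₀ * ψ₀) (mul_ne_zero hφne hψne) _ rfl
    rw [e1, e2, e3, ← ordAt_mul, ← map_mul]
    · congr 2
      rw [map_mul]
      ring
    · intro h0
      exact mul_ne_zero hφne hc0 (hresinj (h0.trans (map_zero _).symm))
    · intro h0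
      exact mul_ne_zero hψne hd0 (hresinj (h0.trans (map_zero _).symm))

end Groth.Agent.S16092
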