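import Groth.Statements.S16090
import Groth.Agent.S16092
import Groth.Agent.Lib.Seat75Ref1Frame

set_option autoImplicit false
universe u
open CategoryTheory CategoryTheory.Limits AlgebraicGeometry TopologicalSpace
open SDiv

namespace Groth.Agent.S16090

set_option linter.style.haveILetI false

open Groth.Agent.Lib.Seat75.SecOrd Groth.Agent.Lib.Helper23.SecTw Groth.Agent.Lib.Helper6
  Groth.Agent.Lib.Seat75.DualFrame Groth.Agent.Lib.Seat75.Ref1Frame Groth.Agent.S16092
  Groth.Agent.Lib.Helper23.Extend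

/-- The class map is additive for the reflexive tensor product: suppose X is a scheme that is integral,
normal and locally Noetherian, write η for its generic point, and take F and G to be rank one
coherent reflexive O_X-modules with s ∈ F_η, t ∈ G_η nonzero rational sections, with orders
ord_{x,F}(s), ord_{x,G}(t) at the points x of codimension 1 taken with respect to generators of the
free rank one stalks. Then the reflexive hull (F ⊗_{O_X} G)^** admits a nonzero rational section w
whose order at every codimension-1 point x is ord_{x,F}(s) + ord_{x,G}(t); so the Weil divisor class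
of (F ⊗ G)^** is the sum of the classes of F and G. -/
theorem result (X : Scheme.{u}) [IsIntegral X] [IsLocallyNoetherian X]
    (hX : Pi1.IsNormalScheme X) (F G : X.Modules) (hF : RefHull.IsRef1 F) (hG : RefHull.IsRef1 G)
    (s : Cyc.secFibre F (genericPoint ↥X)) (hs : s ≠ 0) (t : Cyc.secFibre G (genericPoint ↥X)) (ht : t ≠ 0) :
    ∃ w : Cyc.secFibre (RefHull.ddual (CohB1.tensorMod F G)) (genericPoint ↥X), w ≠ 0 ∧
      ∀ (x : ↥X), Order.coheight x = 1 →
        Cyc.secOrdAt (RefHull.ddual (CohB1.tensorMod F G)) (genericPoint ↥X) x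
            ((genericPoint_spec ↥X).specializes (Set.mem_univ x)) w =
          Cyc.secOrdAt F (genericPoint ↥X) x ((genericPoint_spec ↥X).specializes (Set.mem_univ x)) s +
            Cyc.secOrdAt G (genericPoint ↥X) x ((genericPoint_spec ↥X).specializes (Set.mem_univ x)) t := by
  have hmax : IsLocalRing.maximalIdeal (X.presheaf.stalk (genericPoint X)) = ⊥ :=
    IsLocalRing.maximalIdeal_eq_bot
  have hresinj : Function.Injective (X.residue (genericPoint X)) := by
    rw [injective_iff_map_eq_zero]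
    intro a ha
    have : a ∈ IsLocalRing.maximalIdeal (X.presheaf.stalk (genericPoint X)) := by
      rw [← IsLocalRing.residue_eq_zero_iff]
      exact ha
    rwa [hmax, Ideal.mem_bot] at this
  set T := CohB1.tensorMod F G with hT
  -- frames near the generic point
  obtain ⟨U₁, a', hgU₁, ha'⟩ := exists_gen_generic F hF.2.2
  obtain ⟨U₂, b', hgU₂, hb'⟩ := exists_gen_generic G hG.2.2
  set U₀ : X.Opens := U₁ ⊓ U₂ with hU₀
  have hgU₀ : genericPoint X ∈ U₀ := ⟨hgU₁, hgU₂⟩
  set a : Γ(F, U₀) := res F inf_le_left a' with hadef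
  set b : Γ(G, U₀) := res G inf_le_right b' with hbdef
  have ha : IsGen F U₀ a := ha'.mono inf_le_left
  have hb : IsGen G U₀ b := hb'.mono inf_le_right
  have hab : IsGen T U₀ (tm F G U₀ a b) := isGen_tm F G U₀ a b ha hb
  have habj : IsGen (RefHull.ddual T) U₀ ((RefHull.bidualMap T).app U₀ (tm F G U₀ a b)) :=
    isGen_bidual T hab
  -- write `s` and `t` in terms of the frames
  obtain ⟨s₀, hs₀⟩ := Submodule.Quotient.mk_surjective _ s
  obtain ⟨t₀, ht₀⟩ := Submodule.Quotient.mk_surjective _ t
  obtain ⟨φ₀, hφ₀⟩ := (bijective_smul_germ_of_isGen F ha (genericPoint X) hgU₀).2 s₀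
  obtain ⟨ψ₀, hψ₀⟩ := (bijective_smul_germ_of_isGen G hb (genericPoint X) hgU₀).2 t₀
  have hφne : φ₀ ≠ 0 := by
    rintro rfl
    apply hs
    rw [← hs₀, ← hφ₀]
    change Submodule.Quotient.mk ((0 : X.presheaf.stalk (genericPoint X)) • _) = 0
    rw [zero_smul, Submodule.Quotient.mk_zero]
  have hψne : ψ₀ ≠ 0 := by
    rintro rfl
    apply ht
    rw [← ht₀, ← hψ₀]
    change Submodule.Quotient.mk ((0 : X.presheaf.stalk (genericPoint X)) • _) = 0
    rw [zero_smul, Submodule.Quotient.mk_zero]
  haveI : IsDomain (X.presheaf.stalk (genericPoint X)) := inferInstance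
  refine ⟨(φ₀ * ψ₀) • (Submodule.Quotient.mk
    ((RefHull.ddual T).presheaf.germ U₀ (genericPoint X) hgU₀
      ((RefHull.bidualMap T).app U₀ (tm F G U₀ a b))) :
      Cyc.secFibre (RefHull.ddual T) (genericPoint X)), ?_, ?_⟩
  · rw [← Submodule.Quotient.mk_smul]
    intro h0
    rw [Submodule.Quotient.mk_eq_zero, hmax, Submodule.bot_smul, Submodule.mem_bot] at h0
    have hinj := (bijective_smul_germ_of_isGen (RefHull.ddual T) habj (genericPoint X) hgU₀).1
    have : φ₀ * ψ₀ = 0 := by
      apply hinj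
      change (φ₀ * ψ₀) • _ = (0 : X.presheaf.stalk (genericPoint X)) • _
      rw [h0, zero_smul]
    exact mul_ne_zero hφne hψne this
  · intro x hx
    have hsx : genericPoint X ⤳ x := (genericPoint_spec ↥X).specializes (Set.mem_univ x)
    -- frames near `x`
    obtain ⟨V₁, a₁', hxV₁, ha₁'⟩ := exists_gen_codim_one hX F hF x hx
    obtain ⟨V₂, b₁', hxV₂, hb₁'⟩ := exists_gen_codim_one hX G hG x hx
    set V : X.Opens := V₁ ⊓ V₂ with hV
    have hxV : x ∈ V := ⟨hxV₁, hxV₂⟩
    set a₁ : Γ(F, V) := res F inf_le_left a₁' with ha₁def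
    set b₁ : Γ(G, V) := res G inf_le_right b₁' with hb₁def
    have ha₁ : IsGen F V a₁ := ha₁'.mono inf_le_left
    have hb₁ : IsGen G V b₁ := hb₁'.mono inf_le_right
    have hab₁ : IsGen T V (tm F G V a₁ b₁) := isGen_tm F G V a₁ b₁ ha₁ hb₁
    have hab₁j : IsGen (RefHull.ddual T) V ((RefHull.bidualMap T).app V (tm F G V a₁ b₁)) :=
      isGen_bidual T hab₁
    obtain ⟨c, hc⟩ := exists_transition' a ha₁
    obtain ⟨d, hd⟩ := exists_transition' b hb₁
    have hcd : res T inf_le_left (tm F G U₀ a b) =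
        (c * d) • res T inf_le_right (tm F G V a₁ b₁) := by
      rw [res_tm, res_tm, hc, hd, tm_smul_left, tm_smul_right, mul_smul]
    have hcdj : res (RefHull.ddual T) inf_le_left ((RefHull.bidualMap T).app U₀ (tm F G U₀ a b)) =
        (c * d) • res (RefHull.ddual T) inf_le_right
          ((RefHull.bidualMap T).app V (tm F G V a₁ b₁)) := by
      have h1 := app_map (RefHull.bidualMap T) (homOfLE (inf_le_left : U₀ ⊓ V ≤ U₀))
        (tm F G U₀ a b)
      have h2 := app_map (RefHull.bidualMap T) (homOfLE (inf_le_right : U₀ ⊓ V ≤ V))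
        (tm F G V a₁ b₁)
      change res (RefHull.ddual T) inf_le_left _ = _
      rw [show res (RefHull.ddual T) (inf_le_left : U₀ ⊓ V ≤ U₀)
          ((RefHull.bidualMap T).app U₀ (tm F G U₀ a b)) =
          (RefHull.bidualMap T).app (U₀ ⊓ V) (res T inf_le_left (tm F G U₀ a b)) from h1.symm,
        show res (RefHull.ddual T) (inf_le_right : U₀ ⊓ V ≤ V)
          ((RefHull.bidualMap T).app V (tm F G V a₁ b₁)) =
          (RefHull.bidualMap T).app (U₀ ⊓ V) (res T inf_le_right (tm F G V a₁ b₁)) from h2.symm,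
        hcd, Scheme.Modules.Hom.app_smul]
    obtain ⟨hc0, e1⟩ := secOrdAt_of_frames F ha ha₁ x hxV hgU₀ hsx c hc φ₀ hφne
      s (by rw [← hs₀, ← hφ₀]; rfl)
    obtain ⟨hd0, e2⟩ := secOrdAt_of_frames G hb hb₁ x hxV hgU₀ hsx d hd ψ₀ hψne
      t (by rw [← ht₀, ← hψ₀]; rfl)
    obtain ⟨-, e3⟩ := secOrdAt_of_frames (RefHull.ddual T) habj hab₁j x hxV hgU₀ hsx (c * d) hcdj
      (φ₀ * ψ₀) (mul_ne_zero hφne hψne) _ rfl
    rw [e1, e2, e3, ← ordAt_mul, ← map_mul]
    · congr 2
      rw [map_mul]
      ring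
    · intro h0
      exact mul_ne_zero hφne hc0 (hresinj (h0.trans (map_zero _).symm))
    · intro h0
      exact mul_ne_zero hψne hd0 (hresinj (h0.trans (map_zero _).symm))

end Groth.Agent.S16090
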