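import Groth.Statements.S5103
import Groth.Agent.Lib.Seat75Ref1Iso

set_option autoImplicit false
universe u
open CategoryTheory CategoryTheory.Limits AlgebraicGeometry TopologicalSpace
open Div21

namespace Groth.Agent.S5103

open Groth.Agent.Lib.Seat75.Ref1Iso Groth.Agent.Lib.Seat75.DualFrame Groth.Agent.Lib.Seat75.HomExt
  Groth.Agent.S16086

/-- For an integral scheme (the canonical homomorphism Pic(X) → Cl(X) to the group of codimension-1
cycle classes is injective): let X be a normal locally Noetherian integral scheme, L an invertible
O_X-module and s a nonzero rational section of L (a nonzero element of the fibre of L at the generic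
point). If the Weil divisor of s is principal — there is a nonzero rational function f whose order
of vanishing at every point of codimension 1 (coheight 1 in the specialization order) equals the
order of s there — then L is isomorphic to O_X. -/
theorem result (X : Scheme.{u}) [IsIntegral X] [IsLocallyNoetherian X]
    (hX : Pi1.IsNormalScheme X) (L : X.Modules) (hL : PicF.IsInvertible L)
    (s : Cyc.secFibre L (genericPoint ↥X)) (hs : s ≠ 0) (f : ↑X.functionField) (hf : f ≠ 0)
    (h : ∀ x : ↥X, Order.coheight x = 1 →
      Cyc.secOrdAt L (genericPoint ↥X) x (genericPoint_specializes x) s = Scheme.ord f x) :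
    Nonempty (L ≅ Coh.structureModule X) := by
  obtain ⟨s₀, rfl⟩ := Submodule.Quotient.mk_surjective _ s
  have hs₀ : s₀ ≠ 0 := by
    rintro rfl
    exact hs (Submodule.Quotient.mk_zero _)
  obtain ⟨e, he, -⟩ := hasStalkGen_of_isInvertible L hL (genericPoint X)
  have hbs := bijective_smul_of_ne_zero e he s₀ hs₀
  have h1 : oneGerm (genericPoint X) ≠ 0 := by
    intro h0
    have : (1 : X.presheaf.stalk (genericPoint X)) = 0 := by
      apply (bijective_smul_oneGerm (genericPoint X)).1
      change (1 : X.presheaf.stalk (genericPoint X)) • oneGerm (genericPoint X) =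
        (0 : X.presheaf.stalk (genericPoint X)) • oneGerm (genericPoint X)
      rw [h0, smul_zero, smul_zero]
    exact one_ne_zero this
  refine nonempty_iso_of_ord hX L (Coh.structureModule X) (isReflexive_of_isInvertible L hL)
    isReflexive_unit (fun x _ => hasStalkGen_of_isInvertible L hL x) (fun x _ => hasStalkGen_unit x)
    s₀ hs₀ hbs (oneGerm (genericPoint X)) h1 (bijective_smul_oneGerm (genericPoint X)) f hf
    (fun x hx => ?_)
  rw [secOrdAt_unit_one x hx, zero_add]
  exact h x hx

end Groth.Agent.S5103
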