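import Groth.Statements.S16087
import Groth.Agent.Lib.Seat75WeilMod
import Groth.Agent.S1692

set_option autoImplicit false
universe u
open CategoryTheory CategoryTheory.Limits AlgebraicGeometry TopologicalSpace
open SDiv

namespace Groth.Agent.S16087

set_option linter.style.haveILetI false
set_option linter.unusedSectionVars false

open Groth.Agent.Lib.Helper23.SecTw Groth.Agent.Lib.Helper6
  Groth.Agent.Lib.Seat75.SecOrd Groth.Agent.Lib.Seat75.DualFrame Groth.Agent.Lib.Seat75.HomExt
  Groth.Agent.Lib.Seat75.Ref1Iso Groth.Agent.Lib.Seat75.Ref1Frame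
  Groth.Agent.Lib.Seat75.DualRefl Groth.Agent.Lib.Seat75.OrdNonneg
  Groth.Agent.Lib.Seat75.WeilIdeal Groth.Agent.Lib.Seat75.WeilMod
  Groth.Agent.Lib.Seat75.Ref1Group Groth.Agent.S16086 RefHull
  Groth.Agent.Lib.Helper20.AbsCurve

variable {X : Scheme.{u}} [IsIntegral X] [IsLocallyNoetherian X]

/-- the divisor of a nonzero rational section of a rank one reflexive module is locally finite. -/
theorem locallyFinite_secOrd (hX : Pi1.IsNormalScheme X) (F : X.Modules) (hF : RefHull.IsRef1 F)
    (s : Cyc.secFibre F (genericPoint X)) (hs : s ≠ 0) :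
    ∀ z : X, ∃ t ∈ nhds z, Set.Finite (t ∩ Function.support (fun x : X =>
      if Order.coheight x = 1 then Cyc.secOrdAt F (genericPoint X) x (hη x) s else 0)) := by
  obtain ⟨s₀, rfl⟩ := Submodule.Quotient.mk_surjective _ s
  have hs₀ : s₀ ≠ 0 := by
    rintro rfl
    exact hs (Submodule.Quotient.mk_zero _)
  obtain ⟨V, e, hηV, he⟩ := exists_gen_generic F hF.2.2
  have hbe := bijective_smul_germ_of_isGen F he (genericPoint X) hηV
  obtain ⟨α, hα⟩ := hbe.2 s₀
  have hα' : α • F.presheaf.germ V (genericPoint X) hηV e = s₀ := hα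
  have hα0 : α ≠ 0 := by
    rintro rfl
    rw [zero_smul] at hα'
    exact hs₀ hα'.symm
  intro z
  obtain ⟨_, ⟨U, hU, rfl⟩, hzU, -⟩ :=
    X.isBasis_affineOpens.exists_subset_of_mem_open (Set.mem_univ z) isOpen_univ
  haveI : Nonempty U := ⟨⟨z, hzU⟩⟩
  haveI : IsNoetherianRing Γ(X, U) := IsLocallyNoetherian.component_noetherian ⟨U, hU⟩
  haveI := functionField_isFractionRing_of_isAffineOpen X U hU
  have hηU : genericPoint X ∈ U := (hη z).mem_open U.isOpen hzU
  obtain ⟨a, b, hb, hab⟩ := IsFractionRing.div_surjective (A := Γ(X, U)) α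
  have hbne : algebraMap Γ(X, U) X.functionField b ≠ 0 :=
    IsFractionRing.to_map_ne_zero_of_mem_nonZeroDivisors hb
  have hfab : α * algebraMap Γ(X, U) X.functionField b = algebraMap Γ(X, U) X.functionField a := by
    rw [← hab, div_mul_cancel₀ _ hbne]
  have hane : algebraMap Γ(X, U) X.functionField a ≠ 0 := by
    rw [← hfab]; exact mul_ne_zero hα0 hbne
  have ha : a ∈ nonZeroDivisors Γ(X, U) := by
    rw [mem_nonZeroDivisors_iff_ne_zero]
    rintro rfl
    exact hane (map_zero _)
  obtain ⟨c, hcV, hηc⟩ := hU.exists_basicOpen_le (V := V ⊓ U) ⟨genericPoint X, ⟨hηV, hηU⟩⟩ hηU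
  have hηc' : genericPoint X ∈ X.basicOpen c := hηc
  have hc : c ∈ nonZeroDivisors Γ(X, U) := by
    rw [mem_nonZeroDivisors_iff_ne_zero]
    rintro rfl
    rw [Scheme.basicOpen_zero] at hηc'
    exact hηc'
  refine ⟨U, U.isOpen.mem_nhds hzU, ?_⟩
  have hfa := finite_setOf_not_isUnit_germ hU a ha
  have hfb := finite_setOf_not_isUnit_germ hU b hb
  have hfc := finite_setOf_not_isUnit_germ hU c hc
  refine ((hfa.union hfb).union hfc).subset ?_
  rintro x ⟨hxU, hx⟩
  have hxU' : x ∈ U := hxU
  rw [Function.mem_support] at hx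
  by_cases hx1 : Order.coheight x = 1
  swap
  · rw [if_neg hx1] at hx
    exact absurd rfl hx
  rw [if_pos hx1] at hx
  have hdim : ringKrullDim (X.presheaf.stalk x) = 1 := by
    rw [ringKrullDim_stalk_eq_coheight, hx1]; rfl
  by_contra hcon
  simp only [Set.mem_union, Set.mem_ofPred_eq, not_or, not_exists, not_and, not_not] at hcon
  have hua := hcon.1.1 hxU' hdim
  have hub := hcon.1.2 hxU' hdim
  have huc := hcon.2 hxU' hdim
  have hxc : x ∈ X.basicOpen c := (X.mem_basicOpen c x hxU').2 huc
  have hxV : x ∈ V := (hcV hxc).1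
  -- the order of `s` at `x` is the order of `α`
  have hbx := bijective_smul_germ_of_isGen F he x hxV
  have hspe : F.presheaf.stalkSpecializes (hη x) (F.presheaf.germ V x hxV e) =
      F.presheaf.germ V (genericPoint X) hηV e := spec_germ F (hη x) hxV e
  have e1 := secOrdAt_eq_ord F x hx1 (F.presheaf.germ V x hxV e) hbx (by rw [hspe]; exact hbe)
    s₀ α hα0 (by rw [hspe, hα'])
  apply hx
  rw [e1]
  have h1 := Groth.Agent.S1692.ord_algebraMap_eq_zero a x hxU' hua
  have h2 := Groth.Agent.S1692.ord_algebraMap_eq_zero b x hxU' hub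
  have h3 : Scheme.ord (α * X.germToFunctionField U b) x = Scheme.ord α x +
      Scheme.ord (X.germToFunctionField U b) x := Scheme.ord_mul hα0 hbne
  have h4 : α * X.germToFunctionField U b = X.germToFunctionField U a := hfab
  rw [h4, h1, h2, add_zero] at h3
  exact h3.symm

/-- every Weil divisor is the divisor of a rational section of a rank one reflexive module. -/
theorem exists_ref1_of_divisor (hX : Pi1.IsNormalScheme X) (D : AlgebraicCycle X ℤ)
    (hD : ∀ x : X, Order.coheight x ≠ 1 → D x = 0) :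
    ∃ (F : X.Modules) (_ : RefHull.IsRef1 F), HasDiv F (fun x => D x) := by
  have hDfin : LocallyFiniteSupport (fun x => D x) := D.locallyFiniteSupport
  have hsub : ∀ (E : X → ℕ), (∀ x, E x ≠ 0 → D x ≠ 0) → LocallyFiniteSupport E := by
    intro E hE z
    obtain ⟨t, ht, hfin⟩ := hDfin z
    exact ⟨t, ht, hfin.subset (fun x hx => ⟨hx.1, hE x hx.2⟩)⟩
  have hco : ∀ x : X, D x ≠ 0 → Order.coheight x = 1 := by
    intro x hx
    by_contra h
    exact hx (hD x h)
  set Ep : X → ℕ := fun x => (D x).toNat with hEp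
  set Em : X → ℕ := fun x => (-D x).toNat with hEm
  have hEp0 : ∀ x, Ep x ≠ 0 → D x ≠ 0 := by
    intro x hx h0
    apply hx
    change (D x).toNat = 0
    rw [h0]; rfl
  have hEm0 : ∀ x, Em x ≠ 0 → D x ≠ 0 := by
    intro x hx h0
    apply hx
    change (-D x).toNat = 0
    rw [h0]; rfl
  obtain ⟨hRp, hDp⟩ := isRef1_and_hasDiv_weilMod hX Ep (hsub Ep hEp0) (fun x hx => hco x (hEp0 x hx))
  obtain ⟨hRm, hDm⟩ := isRef1_and_hasDiv_weilMod hX Em (hsub Em hEm0) (fun x hx => hco x (hEm0 x hx))
  have hRdp := isRef1_dual _ hRp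
  have hDdp := hasDiv_dual hX _ hRp _ hDp
  refine ⟨ddual (CohB1.tensorMod (dual (weilMod Ep (hsub Ep hEp0))) (weilMod Em (hsub Em hEm0))),
    isRef1_refTensor _ _ hRdp hRm, ?_⟩
  have := hasDiv_refTensor hX _ _ hRdp hRm _ _ hDdp hDm
  have heq : (-fun x => -((Ep x : ℕ) : ℤ)) + (fun x => -((Em x : ℕ) : ℤ)) = fun x => D x := by
    funext x
    simp only [Pi.add_apply, Pi.neg_apply, neg_neg]
    have := Int.toNat_sub_toNat_neg (D x)
    change ((D x).toNat : ℤ) + -((-D x).toNat : ℤ) = D x
    omega
  rw [heq] at this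
  exact this

/-- The class map takes values in Weil divisor classes and is surjective: suppose X is a normal scheme
that is integral and locally Noetherian, and denote its generic point by η. For a rank one coherent
reflexive O_X-module F and a nonzero rational section s ∈ F_η write ord_{x,F}(s) for the order of s
with respect to a generator of the free rank one O_{X,x}-module F_x at a point x of codimension 1.
Then (1) the function sending a codimension-1 point x to ord_{x,F}(s) and every other point to 0 has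
locally finite support, so it is a Weil divisor; and (2) every Weil divisor D on X (an
integer-valued function with locally finite support vanishing outside the codimension-1 points)
arises this way: D(x) = ord_{x,F}(s) at all codimension-1 points x for some rank one coherent
reflexive F and nonzero s ∈ F_η. -/
theorem result (X : Scheme.{u}) [IsIntegral X] [IsLocallyNoetherian X]
    (hX : Pi1.IsNormalScheme X) :
    (∀ (F : X.Modules) (hF : RefHull.IsRef1 F) (s : Cyc.secFibre F (genericPoint ↥X)), s ≠ 0 →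
        ∃ D : AlgebraicCycle X ℤ, (∀ x : ↥X, Order.coheight x ≠ 1 → D x = 0) ∧
          ∀ (x : ↥X), Order.coheight x = 1 →
            D x = Cyc.secOrdAt F (genericPoint ↥X) x ((genericPoint_spec ↥X).specializes (Set.mem_univ x)) s) ∧
      ∀ D : AlgebraicCycle X ℤ, (∀ x : ↥X, Order.coheight x ≠ 1 → D x = 0) →
        ∃ (F : X.Modules) (_ : RefHull.IsRef1 F) (s : Cyc.secFibre F (genericPoint ↥X)), s ≠ 0 ∧
          ∀ (x : ↥X), Order.coheight x = 1 →
            D x = Cyc.secOrdAt F (genericPoint ↥X) x ((genericPoint_spec ↥X).specializes (Set.mem_univ x)) s := by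
  refine ⟨fun F hF s hs => ?_, fun D hD => ?_⟩
  · refine ⟨⟨fun x => if Order.coheight x = 1 then
        Cyc.secOrdAt F (genericPoint X) x (hη x) s else 0, fun _ _ => trivial,
      fun z _ => locallyFinite_secOrd hX F hF s hs z⟩, fun x hx => if_neg hx, fun x hx => if_pos hx⟩
  · obtain ⟨F, hF, s, hs, hsD⟩ := exists_ref1_of_divisor hX D hD
    exact ⟨F, hF, s, hs, fun x hx => (hsD x hx).symm⟩

end Groth.Agent.S16087
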