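import Groth.Statements.S5105
import Groth.Agent.S16087
import Groth.Agent.S16080
import Groth.Agent.S5090
import Groth.Agent.Lib.Seat55Ref1Free

set_option autoImplicit false
universe u
open CategoryTheory CategoryTheory.Limits AlgebraicGeometry TopologicalSpace
open Div21

namespace Groth.Agent.S5105

set_option linter.style.haveILetI false
set_option linter.unusedSectionVars false

open Groth.Agent.Lib.Helper23.SecTw Groth.Agent.Lib.Helper6
  Groth.Agent.Lib.Seat75.SecOrd Groth.Agent.Lib.Seat75.DualFrame Groth.Agent.Lib.Seat75.HomExt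
  Groth.Agent.Lib.Seat75.OrdNonneg Groth.Agent.Lib.Seat75.OrdCompare
  Groth.Agent.Lib.Seat75.WeilMod
  Groth.Agent.Lib.Seat75.Ref1Group Groth.Agent.S16086 RefHull

variable {X : Scheme.{u}} [IsIntegral X] [IsLocallyNoetherian X]

/-- nonzero elements of the maximal ideal at a codimension one point have positive order. -/
lemma one_le_ord_of_mem_maximalIdeal (hX : Pi1.IsNormalScheme X) (ζ : X)
    (hζ : Order.coheight ζ = 1) (a : X.presheaf.stalk ζ)
    (ha : a ∈ IsLocalRing.maximalIdeal (X.presheaf.stalk ζ)) (ha0 : a ≠ 0) :
    1 ≤ Scheme.ord (algebraMap (X.presheaf.stalk ζ) X.functionField a) ζ := by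
  haveI := isDiscreteValuationRing_stalk hX ζ hζ
  obtain ⟨π, hπ⟩ := IsDiscreteValuationRing.exists_irreducible (X.presheaf.stalk ζ)
  have hinj := IsFractionRing.injective (X.presheaf.stalk ζ) X.functionField
  have h1 := ord_of_span_eq hX ζ hζ π 1 (by rw [pow_one, hπ.maximalIdeal_eq])
  rw [hπ.maximalIdeal_eq] at ha
  obtain ⟨b, hb⟩ := Ideal.mem_span_singleton'.1 ha
  have hb0 : b ≠ 0 := by
    rintro rfl
    rw [zero_mul] at hb
    exact ha0 hb.symm
  have hb0' : algebraMap (X.presheaf.stalk ζ) X.functionField b ≠ 0 := by
    rw [Ne, map_eq_zero_iff _ hinj]; exact hb0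
  have hπ0' : algebraMap (X.presheaf.stalk ζ) X.functionField π ≠ 0 := by
    rw [Ne, map_eq_zero_iff _ hinj]; exact hπ.ne_zero
  have h2 := ord_algebraMap_nonneg ζ b hb0'
  have h3 := Scheme.ord_mul (x := ζ) hb0' hπ0'
  rw [← map_mul, hb] at h3
  rw [h3, h1]
  push_cast
  omega

/-- compatibility of the maps to the function field with specialization. -/
lemma algebraMap_spec {x y : X} (h : y ⤳ x) (g : X.presheaf.stalk x) :
    algebraMap (X.presheaf.stalk y) X.functionField (X.presheaf.stalkSpecializes h g) =
      algebraMap (X.presheaf.stalk x) X.functionField g := by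
  change X.presheaf.stalkSpecializes (hη y) (X.presheaf.stalkSpecializes h g) =
    X.presheaf.stalkSpecializes (hη x) g
  rw [← ConcreteCategory.comp_apply, TopCat.Presheaf.stalkSpecializes_comp]

/-- For an integral scheme (X is locally factorial exactly when the canonical map Pic(X) → Cl(X) is a
bijection; in the presence of (i), being bijective means that each codimension-1 cycle arises as the
Weil divisor of some rational section of an invertible module): suppose X is an integral scheme that
is normal and locally Noetherian. Then these two conditions are equivalent: (1) whenever Z is a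
function from the points of X to the integers that is zero away from the points of codimension 1
(coheight 1) and whose support is locally finite, one can find an invertible O_X-module L together
with a nonzero rational section s of L (a nonzero element of the generic fibre of L) such that, at
each point of codimension 1, the order of s equals the value Z takes there; (2) each local ring of X
is a unique factorisation domain. -/
theorem result (X : Scheme.{u}) [IsIntegral X]
    [IsLocallyNoetherian X] (hX : Pi1.IsNormalScheme X) :
    (∀ Z : ↥X → ℤ, (∀ x : ↥X, Order.coheight x ≠ 1 → Z x = 0) →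
        (∀ x : ↥X, ∃ W : X.Opens, x ∈ W ∧ {z : ↥X | z ∈ W ∧ Z z ≠ 0}.Finite) →
        ∃ (L : X.Modules) (_ : PicF.IsInvertible L) (s : Cyc.secFibre L (genericPoint ↥X)), s ≠ 0 ∧
          ∀ x : ↥X, Order.coheight x = 1 →
            Cyc.secOrdAt L (genericPoint ↥X) x (genericPoint_specializes x) s = Z x) ↔
      ∀ x : ↥X, UniqueFactorizationMonoid ↑(X.presheaf.stalk x) := by
  constructor
  · -- every Weil divisor comes from an invertible module => locally factorial
    intro H
    have hred : ∀ x : X, IsOpen ({x} : Set X) → IsReduced (X.presheaf.stalk x) := by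
      intro x _
      haveI : IsDomain (X.presheaf.stalk x) := (hX x).1
      infer_instance
    have key := (Groth.Agent.S5090.result X hred).1 ?_
    · intro x
      obtain ⟨_, h⟩ := key x
      exact h
    intro ζ hdim x h
    classical
    haveI : IsDomain (X.presheaf.stalk x) := (hX x).1
    have hζ : Order.coheight ζ = 1 := by
      rw [ringKrullDim_stalk_eq_coheight] at hdim
      exact_mod_cast hdim
    set Z : X → ℤ := fun y => if y = ζ then 1 else 0 with hZ
    have hZ0 : ∀ y : X, Order.coheight y ≠ 1 → Z y = 0 := by
      intro y hy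
      have : y ≠ ζ := by rintro rfl; exact hy hζ
      simp only [hZ, if_neg this]
    have hZfin : ∀ y : X, ∃ W : X.Opens, y ∈ W ∧ {z : X | z ∈ W ∧ Z z ≠ 0}.Finite := by
      intro y
      refine ⟨⊤, trivial, (Set.finite_singleton ζ).subset ?_⟩
      rintro z ⟨-, hz⟩
      by_contra hne
      apply hz
      have : z ≠ ζ := hne
      simp only [hZ, if_neg this]
    obtain ⟨L, hL, s, hs, hsZ⟩ := H Z hZ0 hZfin
    obtain ⟨s₀, rfl⟩ := Submodule.Quotient.mk_surjective _ s
    have hs₀ : s₀ ≠ 0 := by
      rintro rfl
      exact hs (Submodule.Quotient.mk_zero _)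
    obtain ⟨W, e, hxW, he⟩ := exists_gen L hL x
    have hηW : genericPoint X ∈ W := (hη x).mem_open W.isOpen hxW
    have hbe := bijective_smul_germ_of_isGen L he (genericPoint X) hηW
    obtain ⟨f, hf⟩ := hbe.2 s₀
    have hf' : f • L.presheaf.germ W (genericPoint X) hηW e = s₀ := hf
    have hf0 : f ≠ 0 := by
      rintro rfl
      rw [zero_smul] at hf'
      exact hs₀ hf'.symm
    -- the order of `f` at codimension one points of `W`
    have hord : ∀ y : X, y ∈ W → Order.coheight y = 1 → Scheme.ord f y = Z y := by
      intro y hyW hy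
      have hby := bijective_smul_germ_of_isGen L he y hyW
      have hspe : L.presheaf.stalkSpecializes (hη y) (L.presheaf.germ W y hyW e) =
          L.presheaf.germ W (genericPoint X) hηW e := spec_germ L (hη y) hyW e
      have e1 := secOrdAt_eq_ord L y hy (L.presheaf.germ W y hyW e) hby (by rw [hspe]; exact hbe)
        s₀ f hf0 (by rw [hspe, hf'])
      rw [← e1]
      exact hsZ y hy
    have hordx : ∀ y : X, y ⤳ x → Order.coheight y = 1 → Scheme.ord f y = Z y :=
      fun y hyx hy => hord y (hyx.mem_open W.isOpen hxW) hy
    have hZnn : ∀ y : X, 0 ≤ Z y := by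
      intro y
      simp only [hZ]
      split_ifs <;> decide
    obtain ⟨t, ht⟩ := mem_range_of_forall_ord_nonneg hX x f hf0 (fun y hyx hy => by
      rw [hordx y hyx hy]; exact hZnn y)
    have hinjx := IsFractionRing.injective (X.presheaf.stalk x) X.functionField
    have ht0 : t ≠ 0 := by
      rintro rfl
      rw [map_zero] at ht
      exact hf0 ht.symm
    refine ⟨t, mem_nonZeroDivisors_iff_ne_zero.2 ht0, ?_⟩
    have hZζ : Z ζ = 1 := by simp only [hZ, if_pos rfl]
    -- `t` lies in the prime
    have htm : X.presheaf.stalkSpecializes h t ∈ IsLocalRing.maximalIdeal (X.presheaf.stalk ζ) := by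
      rw [IsLocalRing.mem_maximalIdeal, mem_nonunits_iff]
      intro hu
      have h1 := ord_algebraMap_unit ζ hu.unit
      rw [IsUnit.unit_spec, algebraMap_spec h t, ht, hordx ζ h hζ, hZζ] at h1
      exact absurd h1 (by decide)
    ext g
    rw [Ideal.mem_comap, Ideal.mem_span_singleton']
    constructor
    · intro hg
      by_cases hg0 : g = 0
      · exact ⟨0, by rw [hg0, zero_mul]⟩
      have hg0' : algebraMap (X.presheaf.stalk x) X.functionField g ≠ 0 := by
        rw [Ne, map_eq_zero_iff _ hinjx]; exact hg0
      set k : X.functionField := algebraMap (X.presheaf.stalk x) X.functionField g * f⁻¹ with hk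
      have hk0 : k ≠ 0 := mul_ne_zero hg0' (inv_ne_zero hf0)
      obtain ⟨c, hc⟩ := mem_range_of_forall_ord_nonneg hX x k hk0 (fun y hyx hy => by
        rw [hk, Scheme.ord_mul hg0' (inv_ne_zero hf0), ord_inv y hf0, hordx y hyx hy]
        have hgy : algebraMap (X.presheaf.stalk y) X.functionField (X.presheaf.stalkSpecializes hyx g) =
            algebraMap (X.presheaf.stalk x) X.functionField g := algebraMap_spec hyx g
        by_cases hyζ : y = ζ
        · subst hyζ
          have hsg0 : X.presheaf.stalkSpecializes h g ≠ 0 := by
            intro h0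
            apply hg0'
            rw [← algebraMap_spec h g, h0, map_zero]
          have := one_le_ord_of_mem_maximalIdeal hX y hy _ hg hsg0
          rw [algebraMap_spec h g] at this
          rw [hZζ]
          omega
        · have hZy : Z y = 0 := by simp only [hZ, if_neg hyζ]
          have hsg0 : algebraMap (X.presheaf.stalk y) X.functionField
              (X.presheaf.stalkSpecializes hyx g) ≠ 0 := by rw [hgy]; exact hg0'
          have := ord_algebraMap_nonneg y _ hsg0
          rw [hgy] at this
          rw [hZy]
          omega)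
      refine ⟨c, ?_⟩
      apply hinjx
      rw [map_mul, hc, ht, hk, mul_assoc, inv_mul_cancel₀ hf0, mul_one]
    · rintro ⟨c, rfl⟩
      rw [map_mul]
      exact Ideal.mul_mem_left _ _ htm
  · -- locally factorial => every Weil divisor comes from an invertible module
    intro hUFD Z hZ0 hZfin
    let D : AlgebraicCycle X ℤ := ⟨Z, fun _ _ => trivial, fun z _ => by
      obtain ⟨W, hzW, hfin⟩ := hZfin z
      exact ⟨W, W.isOpen.mem_nhds hzW, hfin.subset (fun y hy => ⟨hy.1, hy.2⟩)⟩⟩
    obtain ⟨F, hF, s, hs, hsD⟩ := Groth.Agent.S16087.exists_ref1_of_divisor hX D hZ0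
    have h12 : RefHull.IsReflexive F ↔ ∀ x : ↥X, RefHull.IsReflexiveAt F x :=
      (Groth.Agent.S16080.result X F hF.1).out 0 1
    have hst := h12.mp hF.2.1
    refine ⟨F, ?_, s, hs, fun x hx => hsD x hx⟩
    refine isInvertible_of_isGen F (fun x => ?_)
    haveI := hUFD x
    haveI : Module.IsReflexive (X.presheaf.stalk x) (F.presheaf.stalk x) := hst x
    exact Groth.Agent.Lib.Seat55.Ref1Free.exists_gen_of_ufd F hF.1.2 hF.2.1 hF.2.2 x

end Groth.Agent.S5105
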