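import Groth.Statements.S3841
import Groth.Agent.S5105
import Groth.Agent.S5103
import Groth.Agent.S5090
import Groth.Agent.S0234
import Groth.Agent.Lib.Seat55InvExtA
import Groth.Agent.Lib.Helper20ZClos20

set_option autoImplicit false
universe u
open CategoryTheory CategoryTheory.Limits AlgebraicGeometry TopologicalSpace
open Div21

namespace Groth.Agent.S3841

set_option linter.style.haveILetI false
set_option linter.unusedSectionVars false

section helpers

open Groth.Agent.Lib.Helper23.SecTw Groth.Agent.Lib.Helper23.GenLocus Groth.Agent.Lib.Helper6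
  Groth.Agent.Lib.Seat75.SecOrd Groth.Agent.Lib.Seat75.DualFrame Groth.Agent.Lib.Seat75.HomExt
  Groth.Agent.Lib.Seat75.OrdNonneg Groth.Agent.Lib.Seat75.OrdCompare
  Groth.Agent.Lib.Seat75.WeilMod Groth.Agent.Lib.Seat75.Ref1Iso Groth.Agent.Lib.Seat75.Ref1Frame
  Groth.Agent.Lib.Seat75.Ref1Group Groth.Agent.Lib.Seat75.DualRefl
  Groth.Agent.S16086 Groth.Agent.S5105 RefHull

variable {X : Scheme.{u}} [IsIntegral X] [IsLocallyNoetherian X]

/-- every prime divisor is principal. -/
def Prin (X : Scheme.{u}) [IsIntegral X] [IsLocallyNoetherian X] : Prop :=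
  ∀ x₀ : X, Order.coheight x₀ = 1 → ∃ f : X.functionField, f ≠ 0 ∧
    Scheme.ord f x₀ = 1 ∧ ∀ x : X, x ≠ x₀ → Order.coheight x = 1 → Scheme.ord f x = 0

lemma ord_zpow (x : X) {k : X.functionField} (hk : k ≠ 0) (n : ℤ) :
    Scheme.ord (k ^ n) x = n * Scheme.ord k x := by
  cases n with
  | ofNat n =>
    rw [Int.ofNat_eq_natCast, zpow_natCast, ord_pow x hk]
  | negSucc n =>
    rw [zpow_negSucc, ord_inv x (pow_ne_zero _ hk), ord_pow x hk, Int.negSucc_eq]
    push_cast
    ring

lemma ord_prod {ι : Type*} (s : Finset ι) (g : ι → X.functionField) (hg : ∀ i ∈ s, g i ≠ 0)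
    (x : X) : Scheme.ord (∏ i ∈ s, g i) x = ∑ i ∈ s, Scheme.ord (g i) x := by
  classical
  induction s using Finset.induction_on with
  | empty => simp [ord_one]
  | insert a s ha ih =>
    rw [Finset.prod_insert ha, Finset.sum_insert ha,
      Scheme.ord_mul (hg a (Finset.mem_insert_self a s))
        (Finset.prod_ne_zero_iff.2 (fun i hi => hg i (Finset.mem_insert_of_mem hi))),
      ih (fun i hi => hg i (Finset.mem_insert_of_mem hi))]

/-- a finitely supported Weil divisor is principal when all prime divisors are. -/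
lemma exists_function_of_finite (hP : Prin X) (Z : X → ℤ)
    (hZ0 : ∀ x : X, Order.coheight x ≠ 1 → Z x = 0) (hfin : (Function.support Z).Finite) :
    ∃ f : X.functionField, f ≠ 0 ∧ ∀ x : X, Order.coheight x = 1 → Scheme.ord f x = Z x := by
  classical
  have hco : ∀ z ∈ hfin.toFinset, Order.coheight z = 1 := by
    intro z hz
    by_contra h
    exact (hfin.mem_toFinset.1 hz) (hZ0 z h)
  choose! F hF0 hF1 hF2 using hP
  have hne : ∀ z ∈ hfin.toFinset, F z ^ Z z ≠ 0 := fun z hz => zpow_ne_zero _ (hF0 z (hco z hz))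
  refine ⟨∏ z ∈ hfin.toFinset, F z ^ Z z, Finset.prod_ne_zero_iff.2 hne, fun x hx => ?_⟩
  rw [ord_prod _ _ hne]
  have hterm : ∀ z ∈ hfin.toFinset, Scheme.ord (F z ^ Z z) x = if z = x then Z x else 0 := by
    intro z hz
    rw [ord_zpow x (hF0 z (hco z hz))]
    split_ifs with h
    · subst h
      rw [hF1 z (hco z hz), mul_one]
    · rw [hF2 z (hco z hz) x (fun h' => h h'.symm) hx, mul_zero]
  rw [Finset.sum_congr rfl hterm, Finset.sum_ite_eq']
  split_ifs with h
  · rfl
  · by_contra h'
    exact h (hfin.mem_toFinset.2 (fun h0 => h' h0.symm))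

/-- a nonzero rational function as a rational section of the structure module. -/
lemma secOrdAt_unit_smul (f : X.functionField) (hf : f ≠ 0) (x : X) (hx : Order.coheight x = 1) :
    Cyc.secOrdAt (Coh.structureModule X) (genericPoint X) x (hη x)
      (Submodule.Quotient.mk (f • oneGerm (genericPoint X)) :
        Cyc.secFibre (Coh.structureModule X) (genericPoint X)) = Scheme.ord f x := by
  have h1 : Function.Bijective (fun c : X.presheaf.stalk (genericPoint X) =>
      c • (Coh.structureModule X).presheaf.stalkSpecializes (hη x) (oneGerm x)) := by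
    rw [spec_oneGerm]
    exact bijective_smul_oneGerm _
  exact secOrdAt_eq_ord (Coh.structureModule X) x hx (oneGerm x) (bijective_smul_oneGerm x) h1
    (f • oneGerm (genericPoint X)) f hf (by rw [spec_oneGerm])

lemma algebraMap_germ {W : X.Opens} {x : X} (hx : x ∈ W) (s : Γ(X, W)) :
    algebraMap (X.presheaf.stalk x) X.functionField (X.presheaf.germ W x hx s) =
      X.presheaf.germ W (genericPoint X) ((hη x).mem_open W.isOpen hx) s := by
  change X.presheaf.stalkSpecializes (hη x) (X.presheaf.germ W x hx s) = _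
  exact ConcreteCategory.congr_hom (TopCat.Presheaf.germ_stalkSpecializes X.presheaf hx (hη x)) s

/-- a rational function which is regular at every point is a global section. -/
lemma exists_global_of_forall_mem_range (f : X.functionField)
    (h : ∀ x : X, f ∈ Set.range (algebraMap (X.presheaf.stalk x) X.functionField)) :
    ∃ g : Γ(X, ⊤), ∀ x : X,
      algebraMap (X.presheaf.stalk x) X.functionField (X.presheaf.germ ⊤ x trivial g) = f := by
  choose t ht using h
  have h1 : ∀ x : X, ∃ (W : X.Opens) (hW : x ∈ W) (s : Γ(X, W)), X.presheaf.germ W x hW s = t x :=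
    fun x => X.presheaf.exists_germ_eq (t x)
  choose W hW s hs using h1
  have hηW : ∀ x : X, genericPoint X ∈ W x := fun x => (hη x).mem_open (W x).isOpen (hW x)
  have hgen : ∀ x : X, X.presheaf.germ (W x) (genericPoint X) (hηW x) (s x) = f := by
    intro x
    rw [← ht x, ← hs x, algebraMap_germ]
  have hcompat : TopCat.Presheaf.IsCompatible X.presheaf W s := by
    intro x y
    have hm : genericPoint X ∈ W x ⊓ W y := ⟨hηW x, hηW y⟩
    apply germ_injective_of_isIntegral X (genericPoint X) hm
    rw [X.presheaf.germ_res_apply (Opens.infLELeft (W x) (W y)) (genericPoint X) hm (s x),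
      X.presheaf.germ_res_apply (Opens.infLERight (W x) (W y)) (genericPoint X) hm (s y),
      hgen x, hgen y]
  have hcover : (⊤ : X.Opens) ≤ iSup W := fun x _ => Opens.mem_iSup.2 ⟨x, hW x⟩
  obtain ⟨g, hg, -⟩ := X.sheaf.existsUnique_gluing' W ⊤ (fun x => homOfLE le_top) hcover s hcompat
  refine ⟨g, fun x => ?_⟩
  have e1 : X.presheaf.map (homOfLE (le_top : W x ≤ ⊤)).op g = s x := hg x
  rw [← ht x, ← hs x, ← e1, X.presheaf.germ_res_apply (homOfLE (le_top : W x ≤ ⊤)) x (hW x) g]

open Classical in
/-- the prime ideal of a prime divisor `ζ` in the local ring of a specialization `x` is generated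
by any regular function whose divisor near `x` is `[ζ]`. -/
lemma comap_maximalIdeal_eq_span (hX : Pi1.IsNormalScheme X) (ζ : X) (hζ : Order.coheight ζ = 1)
    (x : X) (h : ζ ⤳ x) (f : X.functionField) (hf0 : f ≠ 0)
    (hord : ∀ y : X, y ⤳ x → Order.coheight y = 1 → Scheme.ord f y = if y = ζ then 1 else 0)
    (t : X.presheaf.stalk x) (ht : algebraMap (X.presheaf.stalk x) X.functionField t = f) :
    (IsLocalRing.maximalIdeal (X.presheaf.stalk ζ)).comap (X.presheaf.stalkSpecializes h).hom =
      Ideal.span {t} := by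
  haveI : IsDomain (X.presheaf.stalk x) := (hX x).1
  have hinjx := IsFractionRing.injective (X.presheaf.stalk x) X.functionField
  have htm : X.presheaf.stalkSpecializes h t ∈ IsLocalRing.maximalIdeal (X.presheaf.stalk ζ) := by
    rw [IsLocalRing.mem_maximalIdeal, mem_nonunits_iff]
    intro hu
    have h1 := ord_algebraMap_unit ζ hu.unit
    rw [IsUnit.unit_spec, algebraMap_spec h t, ht, hord ζ h hζ, if_pos rfl] at h1
    exact absurd h1 (by decide)
  ext g
  rw [Ideal.mem_comap, Ideal.mem_span_singleton']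
  constructor
  · intro hg
    by_cases hg0 : g = 0
    · exact ⟨0, by rw [hg0, zero_mul]⟩
    have hg0' : algebraMap (X.presheaf.stalk x) X.functionField g ≠ 0 := by
      rw [Ne, map_eq_zero_iff _ hinjx]; exact hg0
    set k : X.functionField := algebraMap (X.presheaf.stalk x) X.functionField g * f⁻¹ with hk
    have hk0 : k ≠ 0 := mul_ne_zero hg0' (inv_ne_zero hf0)
    obtain ⟨c, hc⟩ := mem_range_of_forall_ord_nonneg hX x k hk0 (fun y hyx hy => by
      rw [hk, Scheme.ord_mul hg0' (inv_ne_zero hf0), ord_inv y hf0, hord y hyx hy]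
      have hgy : algebraMap (X.presheaf.stalk y) X.functionField (X.presheaf.stalkSpecializes hyx g) =
          algebraMap (X.presheaf.stalk x) X.functionField g := algebraMap_spec hyx g
      by_cases hyζ : y = ζ
      · subst hyζ
        have hsg0 : X.presheaf.stalkSpecializes h g ≠ 0 := by
          intro h0
          apply hg0'
          rw [← algebraMap_spec h g, h0, map_zero]
        have := one_le_ord_of_mem_maximalIdeal hX y hy _ hg hsg0
        rw [algebraMap_spec h g] at this
        rw [if_pos rfl]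
        omega
      · have hsg0 : algebraMap (X.presheaf.stalk y) X.functionField
            (X.presheaf.stalkSpecializes hyx g) ≠ 0 := by rw [hgy]; exact hg0'
        have := ord_algebraMap_nonneg y _ hsg0
        rw [hgy] at this
        rw [if_neg hyζ]
        omega)
    refine ⟨c, ?_⟩
    apply hinjx
    rw [map_mul, hc, ht, hk, mul_assoc, inv_mul_cancel₀ hf0, mul_one]
  · rintro ⟨c, rfl⟩
    rw [map_mul]
    exact Ideal.mul_mem_left _ _ htm

/-- the first condition of the statement. -/
def Cond1 (X : Scheme.{u}) [IsIntegral X] : Prop :=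
  ∀ ζ : ↥X, Order.coheight ζ = 1 → ∃ g : Γ(X, ⊤),
    (∀ (x : ↥X) (h : ζ ⤳ x),
      (IsLocalRing.maximalIdeal ↑(X.presheaf.stalk ζ)).comap (X.presheaf.stalkSpecializes h).hom =
        Ideal.span {X.presheaf.germ ⊤ x trivial g}) ∧
    ∀ x : ↥X, ¬ ζ ⤳ x → IsUnit (X.presheaf.germ ⊤ x trivial g)

lemma maximalIdeal_eq_span_of_cond1 (ζ : X) (g : Γ(X, ⊤))
    (hg : ∀ (x : ↥X) (h : ζ ⤳ x),
      (IsLocalRing.maximalIdeal ↑(X.presheaf.stalk ζ)).comap (X.presheaf.stalkSpecializes h).hom =
        Ideal.span {X.presheaf.germ ⊤ x trivial g}) :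
    IsLocalRing.maximalIdeal (X.presheaf.stalk ζ) = Ideal.span {X.presheaf.germ ⊤ ζ trivial g} := by
  have h1 := hg ζ (specializes_refl ζ)
  rw [TopCat.Presheaf.stalkSpecializes_refl] at h1
  rw [← h1]
  rfl

lemma germ_ne_zero_of_cond1 (ζ : X) (hζ : Order.coheight ζ = 1) (g : Γ(X, ⊤))
    (hg : ∀ (x : ↥X) (h : ζ ⤳ x),
      (IsLocalRing.maximalIdeal ↑(X.presheaf.stalk ζ)).comap (X.presheaf.stalkSpecializes h).hom =
        Ideal.span {X.presheaf.germ ⊤ x trivial g}) (x : X) (h : ζ ⤳ x) :
    X.presheaf.germ ⊤ x trivial g ≠ 0 := by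
  intro h0
  have h1 : X.presheaf.germ ⊤ ζ trivial g = 0 := by
    have := ConcreteCategory.congr_hom
      (TopCat.Presheaf.germ_stalkSpecializes X.presheaf (U := ⊤) trivial h) g
    rw [← this]
    change X.presheaf.stalkSpecializes h (X.presheaf.germ ⊤ x trivial g) = 0
    rw [h0, map_zero]
  have h2 := maximalIdeal_eq_span_of_cond1 ζ g hg
  rw [h1, Ideal.span_singleton_eq_bot.2 rfl] at h2
  have h3 : IsField (X.presheaf.stalk ζ) := IsLocalRing.isField_iff_maximalIdeal_eq.2 h2
  have h4 := ringKrullDim_eq_zero_of_isField h3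
  rw [ringKrullDim_stalk_eq_coheight, hζ] at h4
  exact absurd h4 (by decide)

theorem normal_of_cond1 (H : Cond1 X) : Pi1.IsNormalScheme X := by
  have hred : ∀ x : X, IsOpen ({x} : Set X) → IsReduced (X.presheaf.stalk x) := by
    intro x _
    infer_instance
  have key := (Groth.Agent.S5090.result X hred).1 ?_
  · intro x
    obtain ⟨hd, hu⟩ := key x
    exact ⟨hd, inferInstance⟩
  intro ζ hdim x h
  have hζ : Order.coheight ζ = 1 := by
    rw [ringKrullDim_stalk_eq_coheight] at hdim
    exact_mod_cast hdim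
  obtain ⟨g, hg, -⟩ := H ζ hζ
  exact ⟨_, mem_nonZeroDivisors_iff_ne_zero.2 (germ_ne_zero_of_cond1 ζ hζ g hg x h), hg x h⟩

theorem prin_of_cond1 (H : Cond1 X) : Prin X := by
  have hX := normal_of_cond1 H
  intro x₀ hx₀
  obtain ⟨g, hg, hgu⟩ := H x₀ hx₀
  have hne := germ_ne_zero_of_cond1 x₀ hx₀ g hg
  have hmax := maximalIdeal_eq_span_of_cond1 x₀ g hg
  set f : X.functionField := X.presheaf.germ ⊤ (genericPoint X) trivial g with hf
  have hfx : ∀ x : X, algebraMap (X.presheaf.stalk x) X.functionField
      (X.presheaf.germ ⊤ x trivial g) = f := fun x => algebraMap_germ (W := ⊤) trivial g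
  refine ⟨f, ?_, ?_, ?_⟩
  · rw [← hfx x₀, Ne,
      map_eq_zero_iff _ (IsFractionRing.injective (X.presheaf.stalk x₀) X.functionField)]
    exact hne x₀ (specializes_refl x₀)
  · rw [← hfx x₀]
    have := ord_of_span_eq hX x₀ hx₀ (X.presheaf.germ ⊤ x₀ trivial g) 1 (by rw [pow_one, hmax])
    exact_mod_cast this
  · intro x hxne hx
    have hns : ¬ x₀ ⤳ x := fun h => hxne (eq_of_specializes_of_coheight hx₀ hx h).symm
    have hu := hgu x hns
    rw [← hfx x]
    have := ord_algebraMap_unit x hu.unit
    rwa [IsUnit.unit_spec] at this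

open Classical in
theorem cond1_of_prin (hX : Pi1.IsNormalScheme X) (hP : Prin X) : Cond1 X := by
  intro ζ hζ
  obtain ⟨f, hf0, hf1, hf2⟩ := hP ζ hζ
  have hord : ∀ y : X, Order.coheight y = 1 → Scheme.ord f y = if y = ζ then 1 else 0 := by
    intro y hy
    split_ifs with h
    · rw [h]; exact hf1
    · exact hf2 y h hy
  have hreg : ∀ x : X, f ∈ Set.range (algebraMap (X.presheaf.stalk x) X.functionField) := by
    intro x
    refine mem_range_of_forall_ord_nonneg hX x f hf0 (fun y _ hy => ?_)
    rw [hord y hy]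
    split_ifs <;> decide
  obtain ⟨g, hg⟩ := exists_global_of_forall_mem_range f hreg
  refine ⟨g, fun x h => ?_, fun x hns => ?_⟩
  · exact comap_maximalIdeal_eq_span hX ζ hζ x h f hf0 (fun y _ hy => hord y hy) _ (hg x)
  · obtain ⟨u, hu⟩ := exists_unit_of_forall_ord_eq_zero hX x f hf0 (fun y hyx hy => by
      rw [hord y hy, if_neg]
      rintro rfl
      exact hns hyx)
    haveI : IsDomain (X.presheaf.stalk x) := (hX x).1
    have : X.presheaf.germ ⊤ x trivial g = u := by
      apply IsFractionRing.injective (X.presheaf.stalk x) X.functionField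
      rw [hg x, hu]
    rw [this]
    exact u.isUnit

lemma finite_support_of_nhds [CompactSpace X] (Z : X → ℤ)
    (h : ∀ z : X, ∃ t ∈ nhds z, (t ∩ Function.support Z).Finite) : (Function.support Z).Finite := by
  choose t ht hfin using h
  obtain ⟨s, -, hs⟩ := isCompact_univ.elim_nhds_subcover t (fun x _ => ht x)
  refine (s.finite_toSet.biUnion (fun x _ => hfin x)).subset ?_
  intro z hz
  obtain ⟨x, hxs, hzx⟩ := Set.mem_iUnion₂.1 (hs (Set.mem_univ z))
  exact Set.mem_biUnion (Finset.mem_coe.2 hxs) ⟨hzx, hz⟩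

lemma isInvertible_unit (X : Scheme.{u}) : PicF.IsInvertible (Coh.structureModule X) :=
  isInvertible_of_isGen _ (fun _ => ⟨⊤, toS ⊤ 1, trivial, isGen_one ⊤⟩)

lemma isRef1_of_isInvertible (L : X.Modules) (hL : PicF.IsInvertible L) : IsRef1 L := by
  obtain ⟨V, e, hηV, he⟩ := exists_gen L hL (genericPoint X)
  exact ⟨⟨isQuasicoherent_of_isInvertible L hL,
    Groth.Agent.Lib.Helper20.ZClosLib.isFiniteType_of_isInvertible L hL⟩,
    isReflexive_of_isInvertible L hL, genInvertible_of_isGen L he hηV⟩

/-- normal + all prime divisors principal => locally factorial. -/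
theorem ufd_of_prin [CompactSpace X] (hX : Pi1.IsNormalScheme X) (hP : Prin X) (x : X) :
    UniqueFactorizationMonoid (X.presheaf.stalk x) := by
  refine (Groth.Agent.S5105.result X hX).1 (fun Z hZ0 hZfin => ?_) x
  have hfin : (Function.support Z).Finite := by
    refine finite_support_of_nhds Z (fun z => ?_)
    obtain ⟨W, hzW, hW⟩ := hZfin z
    exact ⟨W, W.isOpen.mem_nhds hzW, hW.subset (fun y hy => ⟨hy.1, hy.2⟩)⟩
  obtain ⟨f, hf0, hf⟩ := exists_function_of_finite hP Z hZ0 hfin
  have h1 : f • oneGerm (genericPoint X) ≠ 0 := by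
    intro h0
    apply hf0
    apply (bijective_smul_oneGerm (genericPoint X)).1
    change f • oneGerm (genericPoint X) = (0 : X.presheaf.stalk (genericPoint X)) • oneGerm (genericPoint X)
    rw [h0, zero_smul]
  exact ⟨Coh.structureModule X, isInvertible_unit X, Submodule.Quotient.mk (f • oneGerm (genericPoint X)),
    mk_ne_zero _ _ h1, fun y hy => (secOrdAt_unit_smul f hf0 y hy).trans (hf y hy)⟩

/-- normal + all prime divisors principal => trivial Picard group. -/
theorem pic_trivial_of_prin [CompactSpace X] (hX : Pi1.IsNormalScheme X) (hP : Prin X)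
    (L : X.Modules) (hL : PicF.IsInvertible L) : Nonempty (L ≅ Coh.structureModule X) := by
  obtain ⟨e, he, -⟩ := hasStalkGen_of_isInvertible L hL (genericPoint X)
  have he0 : e ≠ 0 := ne_zero_of_bijective e he
  set s : Cyc.secFibre L (genericPoint X) := Submodule.Quotient.mk e with hs
  have hs0 : s ≠ 0 := mk_ne_zero L e he0
  set Z : X → ℤ := fun x =>
    if Order.coheight x = 1 then Cyc.secOrdAt L (genericPoint X) x (hη x) s else 0 with hZ
  have hZ0 : ∀ x : X, Order.coheight x ≠ 1 → Z x = 0 := fun x hx => by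
    simp only [hZ, if_neg hx]
  have hfin : (Function.support Z).Finite :=
    finite_support_of_nhds Z
      (Groth.Agent.S16087.locallyFinite_secOrd hX L (isRef1_of_isInvertible L hL) s hs0)
  obtain ⟨f, hf0, hf⟩ := exists_function_of_finite hP Z hZ0 hfin
  refine Groth.Agent.S5103.result X hX L hL s hs0 f hf0 (fun x hx => ?_)
  rw [hf x hx]
  simp only [hZ, if_pos hx]

/-- locally factorial + trivial Picard group => trivial Picard groups of all opens. -/
theorem pic_open_trivial (hUFD : ∀ x : X, UniqueFactorizationMonoid (X.presheaf.stalk x))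
    (hPic : ∀ L : X.Modules, PicF.IsInvertible L → Nonempty (L ≅ Coh.structureModule X))
    (U : X.Opens) (L : (U : Scheme.{u}).Modules) (hL : PicF.IsInvertible L) :
    Nonempty (L ≅ Coh.structureModule (U : Scheme.{u})) := by
  obtain ⟨L', hL', ⟨φ⟩⟩ := Groth.Agent.S0234.result X U L hL (fun x _ => hUFD x)
  obtain ⟨ψ⟩ := hPic L' hL'
  exact ⟨φ.symm ≪≫ (Scheme.Modules.restrictFunctor U.ι).mapIso ψ ≪≫
    Scheme.Modules.restrictUnitIso U.ι⟩

/-- trivial Picard groups of all opens of a normal scheme => all prime divisors are principal. -/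
theorem prin_of_pic_open_trivial (hX : Pi1.IsNormalScheme X)
    (h4 : ∀ (U : X.Opens) (L : (U : Scheme.{u}).Modules),
      PicF.IsInvertible L → Nonempty (L ≅ Coh.structureModule (U : Scheme.{u}))) : Prin X := by
  classical
  intro x₀ hx₀
  set Z : X → ℤ := fun y => if y = x₀ then 1 else 0 with hZ
  have hZ0 : ∀ y : X, Order.coheight y ≠ 1 → Z y = 0 := by
    intro y hy
    have : y ≠ x₀ := by rintro rfl; exact hy hx₀
    simp only [hZ, if_neg this]
  let D : AlgebraicCycle X ℤ := ⟨Z, fun _ _ => trivial, fun z _ => by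
    refine ⟨Set.univ, Filter.univ_mem, (Set.finite_singleton x₀).subset ?_⟩
    rintro y ⟨-, hy⟩
    by_contra hne
    apply hy
    have : y ≠ x₀ := hne
    simp only [hZ, if_neg this]⟩
  obtain ⟨F, hF, s, hs, hsD⟩ := Groth.Agent.S16087.exists_ref1_of_divisor hX D hZ0
  obtain ⟨s₀, rfl⟩ := Submodule.Quotient.mk_surjective _ s
  have hs₀ : s₀ ≠ 0 := by
    rintro rfl
    exact hs (Submodule.Quotient.mk_zero _)
  -- the frame locus
  set U : X.Opens := sSup {W : X.Opens | ∃ e : Γ(F, W), IsGen F W e} with hU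
  have hUmem : ∀ y : X, y ∈ U → ∃ (W : X.Opens) (e : Γ(F, W)), y ∈ W ∧ IsGen F W e := by
    intro y hy
    obtain ⟨W, ⟨e, he⟩, hyW⟩ := Opens.mem_sSup.1 hy
    exact ⟨W, e, hyW, he⟩
  have hcodim : ∀ y : X, Order.coheight y = 1 → y ∈ U := by
    intro y hy
    obtain ⟨V, a, hyV, ha⟩ := exists_gen_codim_one hX F hF y hy
    exact Opens.mem_sSup.2 ⟨V, ⟨a, ha⟩, hyV⟩
  have hinv : PicF.IsInvertible (F.restrict U.ι) :=
    Groth.Agent.Lib.Seat55.InvExt.isInvertible_restrict_of_gen F U hUmem
  obtain ⟨ε⟩ := h4 U _ hinv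
  have hgen := isGen_frameE F U ε ⊤
  set e := frameE F U ε ⊤ with he
  have hmemW : ∀ y : X, y ∈ U → y ∈ U.ι ''ᵁ ⊤ := fun y hy => by rw [U.ι_image_top]; exact hy
  have hηW : genericPoint X ∈ U.ι ''ᵁ ⊤ :=
    (hη x₀).mem_open (U.ι ''ᵁ ⊤).isOpen (hmemW x₀ (hcodim x₀ hx₀))
  have hbe := bijective_smul_germ_of_isGen F hgen (genericPoint X) hηW
  obtain ⟨f, hf⟩ := hbe.2 s₀
  have hf' : f • F.presheaf.germ (U.ι ''ᵁ ⊤) (genericPoint X) hηW e = s₀ := hf
  have hf0 : f ≠ 0 := by
    rintro rfl
    rw [zero_smul] at hf'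
    exact hs₀ hf'.symm
  have hord : ∀ y : X, Order.coheight y = 1 → Scheme.ord f y = Z y := by
    intro y hy
    have hyW := hmemW y (hcodim y hy)
    have hby := bijective_smul_germ_of_isGen F hgen y hyW
    have hspe : F.presheaf.stalkSpecializes (hη y) (F.presheaf.germ (U.ι ''ᵁ ⊤) y hyW e) =
        F.presheaf.germ (U.ι ''ᵁ ⊤) (genericPoint X) hηW e := spec_germ F (hη y) hyW e
    have e1 := secOrdAt_eq_ord F y hy (F.presheaf.germ (U.ι ''ᵁ ⊤) y hyW e) hby
      (by rw [hspe]; exact hbe) s₀ f hf0 (by rw [hspe, hf'])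
    rw [← e1]
    exact hsD y hy
  refine ⟨f, hf0, ?_, fun y hne hy => ?_⟩
  · rw [hord x₀ hx₀]
    simp only [hZ, if_pos rfl]
  · rw [hord y hy]
    simp only [hZ, if_neg hne]

end helpers

/-- Let X be a Noetherian (locally Noetherian and quasi-compact) integral scheme; points of codimension
1 are the points of coheight 1 in the specialization order. The following are equivalent. (1) For
every point ζ of codimension 1 there is a global section g of O_X cutting out the closure of ζ with
its reduced structure: at each specialization x of ζ the ideal of that closure in O_{X,x} (the prime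
ideal of O_{X,x} corresponding to ζ, the preimage of the maximal ideal of O_{X,ζ}) is generated by
the germ of g, and g is invertible at the points outside the closure. (2) X is normal and every
prime cycle of codimension 1 is principal: for every point x₀ of codimension 1 there is a nonzero
rational function with order of vanishing 1 at x₀ and 0 at every other point of codimension 1. (3)
Every local ring of X is a unique factorisation domain and every invertible O_X-module is trivial.
(4) X is normal and for every open subset U of X every invertible O_U-module is trivial. (The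
published statement assumes X only locally Noetherian; quasi-compactness, which its published proof
uses, is added here.) -/
theorem result (X : Scheme.{u}) [IsIntegral X]
    [IsLocallyNoetherian X] [CompactSpace X] :
    List.TFAE [
      ∀ ζ : ↥X, Order.coheight ζ = 1 → ∃ g : Γ(X, ⊤),
        (∀ (x : ↥X) (h : ζ ⤳ x),
          (IsLocalRing.maximalIdeal ↑(X.presheaf.stalk ζ)).comap (X.presheaf.stalkSpecializes h).hom =
            Ideal.span {X.presheaf.germ ⊤ x trivial g}) ∧
        ∀ x : ↥X, ¬ ζ ⤳ x → IsUnit (X.presheaf.germ ⊤ x trivial g),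
      Pi1.IsNormalScheme X ∧ ∀ x₀ : ↥X, Order.coheight x₀ = 1 → ∃ f : ↑X.functionField, f ≠ 0 ∧
        Scheme.ord f x₀ = 1 ∧ ∀ x : ↥X, x ≠ x₀ → Order.coheight x = 1 → Scheme.ord f x = 0,
      (∀ x : ↥X, UniqueFactorizationMonoid ↑(X.presheaf.stalk x)) ∧
        ∀ L : X.Modules, PicF.IsInvertible L → Nonempty (L ≅ Coh.structureModule X),
      Pi1.IsNormalScheme X ∧ ∀ (U : X.Opens) (L : (U : Scheme.{u}).Modules),
        PicF.IsInvertible L → Nonempty (L ≅ Coh.structureModule (U : Scheme.{u}))] := by
  have h12 : Cond1 X → Pi1.IsNormalScheme X ∧ Prin X :=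
    fun H => ⟨normal_of_cond1 H, prin_of_cond1 H⟩
  tfae_have 1 → 2 := h12
  tfae_have 2 → 1 := fun h => cond1_of_prin h.1 h.2
  tfae_have 2 → 3 := fun h => ⟨fun x => ufd_of_prin h.1 h.2 x, fun L hL => pic_trivial_of_prin h.1 h.2 L hL⟩
  tfae_have 3 → 4 := by
    rintro ⟨hUFD, hPic⟩
    refine ⟨fun x => ?_, fun U L hL => pic_open_trivial hUFD hPic U L hL⟩
    haveI := hUFD x
    exact ⟨inferInstance, inferInstance⟩
  tfae_have 4 → 2 := fun h => ⟨h.1, prin_of_pic_open_trivial h.1 h.2⟩
  tfae_finish

end Groth.Agent.S3841
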