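import Groth.Statements.S5711
import Groth.Agent.Lib.Seat25AzFree

set_option autoImplicit false
universe u v
open TensorProduct
open Dix

namespace Groth.Agent.S5711

/-- Over a local base. Let R be a local ring with residue field k, A an Azumaya algebra over R of rank
r², E a commutative R-algebra which is finite étale and free of rank r over R, and u : E → A an
R-algebra homomorphism injective on the special fibre. For the right E-module structure on A given
by e • a = a·u(e) (supplied as a module structure together with that compatibility), A is a free
E-module of rank r, and E ⊗_R A is isomorphic as an E-algebra to the endomorphism algebra End_E(A).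
(Only the existence of an isomorphism is stated; the canonical map sends e ⊗ a to y ↦ a·y·u(e).) -/
theorem result (R : Type u) [CommRing R] [IsLocalRing R] (A : Type u) [Ring A] [Algebra R A] [IsAzumaya R A] (r : ℕ) (hA : Module.finrank R A = r ^ 2) (E : Type u) [CommRing E] [Algebra R E] [Algebra.Etale R E] [Module.Finite R E] [Module.Free R E] (hE : Module.finrank R E = r) (u : E →ₐ[R] A) (hu : Function.Injective (u.toLinearMap.lTensor (IsLocalRing.ResidueField R))) [Module E A] (hmod : ∀ (e : E) (a : A), e • a = a * u e) : Module.Free E A ∧ Module.finrank E A = r ∧ Nonempty ((E ⊗[R] A) ≃ₐ[E] Module.End E A) := by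
  open Groth.Agent.Lib.Seat25.AzFree in
  obtain ⟨bA⟩ := exists_basis R A E r hA hE u hu hmod
  refine ⟨Module.Free.of_basis bA, ?_, nonempty_algEquiv_end R A E r hA hE u hu hmod⟩
  have : Nontrivial A := by
    have hinj : Function.Injective (algebraMap R A) := FaithfulSMul.algebraMap_injective R A
    exact hinj.nontrivial
  have : Nontrivial E := u.toRingHom.domain_nontrivial
  rw [Module.finrank_eq_card_basis bA, Fintype.card_fin]

end Groth.Agent.S5711
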