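import Groth.Statements.S18420
import Groth.Agent.Lib.Seat90DPPoly2

set_option autoImplicit false
universe u v
open DPow

namespace Groth.Agent.S18420

open Groth.Agent.Lib.Seat90.DPPoly

/-- Let R be a commutative ring and P = R⟨X_1, …, X_N⟩ the divided power polynomial algebra over R,
presented concretely as an R-algebra P with elements x i n = X_i^[n] (i < N, n ≥ 0) such that
X_i^[0] = 1, X_i^[n] · X_i^[m] = C(n+m, n) X_i^[n+m], and the monomials ∏_i X_i^[e_i] (e ranging
over exponent vectors) form an R-basis of P. Let P_+ be the ideal generated by the X_i^[n] with n ≥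
1 (the augmentation ideal). Then there is exactly one divided power structure γ on P_+ with
γ_n(X_i^[1]) = X_i^[n] for all i and all n. (The universal property that the source states alongside
is not restated here.) -/
theorem result (R : Type u) [CommRing R] (N : ℕ)
    (P : Type v) [CommRing P] [Algebra R P] (x : Fin N → ℕ → P)
    (hx0 : ∀ i, x i 0 = 1)
    (hxmul : ∀ i n m, x i n * x i m = ((n + m).choose n : P) * x i (n + m))
    (b : Module.Basis (Fin N →₀ ℕ) R P) (hb : ∀ e : Fin N →₀ ℕ, b e = e.prod (fun i k => x i k)) :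
    ∃! γ : DividedPowers (Ideal.span {y : P | ∃ (i : Fin N) (n : ℕ), 1 ≤ n ∧ y = x i n}),
      ∀ (i : Fin N) (n : ℕ), γ.dpow n (x i 1) = x i n := by
  classical
  letI : Algebra (MvPolynomial R ℤ) R :=
    (MvPolynomial.aeval (R := ℤ) (fun r : R => r)).toRingHom.toAlgebra
  letI : Algebra (MvPolynomial R ℤ) P :=
    ((algebraMap R P).comp (algebraMap (MvPolynomial R ℤ) R)).toAlgebra
  haveI : IsScalarTower (MvPolynomial R ℤ) R P := IsScalarTower.of_algebraMap_eq (fun _ => rfl)
  letI : Algebra (MvPolynomial R ℤ) (MvPolynomial R ℚ) :=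
    (MvPolynomial.map (Int.castRingHom ℚ)).toAlgebra
  have hinj : Function.Injective (algebraMap (MvPolynomial R ℤ) (MvPolynomial R ℚ)) :=
    MvPolynomial.map_injective _ Int.cast_injective
  have hπ : Function.Surjective (algebraMap (MvPolynomial R ℤ) R) := by
    intro r
    refine ⟨MvPolynomial.X r, ?_⟩
    change MvPolynomial.aeval (R := ℤ) (fun r : R => r) (MvPolynomial.X r) = r
    rw [MvPolynomial.aeval_X]
  have hx1mem : ∀ i, x i 1 ∈ Ideal.span {y : P | ∃ (i : Fin N) (n : ℕ), 1 ≤ n ∧ y = x i n} :=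
    fun i => Ideal.subset_span ⟨i, 1, le_refl 1, rfl⟩
  have hgen : ∀ (γ : DividedPowers (Ideal.span {y : P | ∃ (i : Fin N) (n : ℕ), 1 ≤ n ∧ y = x i n})),
      (∀ (i : Fin N) (n : ℕ), γ.dpow n (x i 1) = x i n) →
      ∀ (i : Fin N) (m : ℕ), 1 ≤ m → ∀ n : ℕ,
        γ.dpow n (x i m) = (Nat.uniformBell n m : P) * x i (n * m) := by
    intro γ hγ i m hm n
    rw [← hγ i m, γ.dpow_comp (by omega) (hx1mem i), hγ]
  refine ⟨dpP (MvPolynomial R ℤ) (MvPolynomial R ℚ) N hinj hπ x hx0 hxmul b hb,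
    dpP_dpow (MvPolynomial R ℤ) (MvPolynomial R ℚ) N hinj hπ x hx0 hxmul b hb, ?_⟩
  intro γ hγ
  refine DividedPowers.dpow_eq_from_gens _ γ rfl ?_
  rintro n _ ⟨i, m, hm, rfl⟩
  rw [hgen γ hγ i m hm n, hgen _ (dpP_dpow (MvPolynomial R ℤ) (MvPolynomial R ℚ) N hinj hπ x hx0 hxmul b hb) i m hm n]

end Groth.Agent.S18420
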