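import Groth.Statements.S18468
import Groth.Agent.Lib.Seat90OTHopf

set_option autoImplicit false
universe u
open OortTate

namespace Groth.Agent.S18468

open Groth.Agent.Lib.Seat90 Groth.Agent.Lib.Seat90.OTChar Groth.Agent.Lib.Seat90.OTHopf

theorem arith (n i j : ℕ) (hn : 1 ≤ n) (hi : i < n) (hj : j < n) (h : n ∣ j + (n - 1) * i) :
    j = i := by
  obtain ⟨k, hk⟩ := h
  have e : j + n * i = n * k + i := by
    have : (n - 1) * i + i = n * i := by
      obtain ⟨n', rfl⟩ : ∃ n', n = n' + 1 := ⟨n - 1, by omega⟩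
      simp only [Nat.add_sub_cancel]; ring
    rw [← hk, ← this]; ring
  have h1 : (j + n * i) % n = j := by rw [Nat.add_mul_mod_self_left, Nat.mod_eq_of_lt hj]
  have h2 : (n * k + i) % n = i := by rw [Nat.mul_add_mod, Nat.mod_eq_of_lt hi]
  rw [e, h2] at h1; exact h1.symm

theorem result
    (p : ℕ) [Fact p.Prime] (R : Type u) [CommRing R] (u : R) (hu : u * ((p - 1 : ℕ) : R) = 1)
    (χ : (ZMod p)ˣ →* Rˣ) (hχ : ∀ m : (ZMod p)ˣ, m ≠ 1 → IsUnit ((χ m : R) - 1))
    (A : Type u) [CommRing A] [HopfAlgebra R A]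
    (hp : (WithConv.toConv (AlgHom.id R A)) ^ p = 1) :
    iSupIndep (fun i : Fin (p - 1) => OortTate.eigenAug R A p χ (i : ℕ)) ∧
      (⨆ i : Fin (p - 1), OortTate.eigenAug R A p χ (i : ℕ)) =
        LinearMap.ker (Bialgebra.counitAlgHom R A).toLinearMap ∧
      ∀ i : Fin (p - 1), OortTate.eigenAug R A p χ (i : ℕ) =
        Submodule.map (OortTate.proj R A p u χ (i : ℕ))
          (LinearMap.ker (Bialgebra.counitAlgHom R A).toLinearMap) := by
  classical
  have h2 : 2 ≤ p := (Fact.out : p.Prime).two_le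
  set L : (ZMod p)ˣ → (A →ₗ[R] A) := Lact (R := R) (A := A) p with hLdef
  have hL1 : L 1 = LinearMap.id := Lact_one p
  have hLmul : ∀ m n, L (m * n) = (L m).comp (L n) := Lact_mul p hp
  have hε : ∀ m (x : A), Coalgebra.counit (R := R) (L m x) = Coalgebra.counit (R := R) x :=
    fun m x => counit_Lact p m x
  have memE : ∀ (i : ℕ) (f : A), f ∈ OortTate.eigenAug R A p χ i ↔
      Coalgebra.counit (R := R) f = 0 ∧ ∀ m : (ZMod p)ˣ, L m f = (((χ m : Rˣ) : R) ^ i) • f :=
    fun i f => mem_eigenAug p χ i f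
  have memK : ∀ f : A, f ∈ LinearMap.ker (Bialgebra.counitAlgHom R A).toLinearMap ↔
      Coalgebra.counit (R := R) f = 0 := fun f => by
    rw [LinearMap.mem_ker]; rfl
  have hproj : ∀ i : ℕ, OortTate.proj R A p u χ i = avg p u χ L i := fun i => rfl
  -- e_i maps ker ε into eigenAug i
  have avg_mem : ∀ (i : ℕ) (f : A), Coalgebra.counit (R := R) f = 0 →
      avg p u χ L i f ∈ OortTate.eigenAug R A p χ i := by
    intro i f hf
    rw [memE]
    refine ⟨?_, fun m => L_avg p u χ L hLmul i m f⟩
    rw [avg_apply, map_smul, map_sum]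
    have : ∀ m : (ZMod p)ˣ, Coalgebra.counit (R := R) ((((χ m⁻¹ : Rˣ) : R) ^ i) • L m f) = 0 := by
      intro m; rw [map_smul, hε, hf, smul_zero]
    rw [Finset.sum_congr rfl (fun m _ => this m), Finset.sum_const_zero, smul_zero]
  have part3 : ∀ i : ℕ, OortTate.eigenAug R A p χ i =
      Submodule.map (OortTate.proj R A p u χ i)
        (LinearMap.ker (Bialgebra.counitAlgHom R A).toLinearMap) := by
    intro i
    apply le_antisymm
    · intro f hf
      have hf' := (memE i f).1 hf
      refine ⟨f, (memK f).2 hf'.1, ?_⟩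
      rw [hproj]
      exact avg_of_eigen p u hu χ L i f hf'.2
    · rintro _ ⟨f, hf, rfl⟩
      rw [hproj]
      exact avg_mem i f ((memK f).1 hf)
  refine ⟨?_, ?_, fun i => part3 i⟩
  · -- independence
    rw [iSupIndep_def]
    intro i
    rw [Submodule.disjoint_def]
    intro f hfi hfj
    have hfi' := (memE i f).1 hfi
    have e1 : avg p u χ L i f = f := avg_of_eigen p u hu χ L i f hfi'.2
    have e2 : f ∈ LinearMap.ker (avg p u χ L (i : ℕ)) := by
      have hle : (⨆ j, ⨆ (_ : j ≠ i), OortTate.eigenAug R A p χ (j : ℕ)) ≤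
          LinearMap.ker (avg p u χ L (i : ℕ)) := by
        refine iSup_le fun j => iSup_le fun hji => ?_
        intro g hg
        have hg' := (memE j g).1 hg
        rw [LinearMap.mem_ker]
        apply avg_of_eigen_ne p u χ L hχ (i : ℕ) (j : ℕ) _ g hg'.2
        -- ¬ (p-1) ∣ j + (p-2) i
        intro hdvd
        apply hji
        apply Fin.ext
        have hi := i.2
        have hj := j.2
        have hp2 : p - 2 = (p - 1) - 1 := by omega
        rw [hp2] at hdvd
        exact arith (p - 1) (i : ℕ) (j : ℕ) (by omega) hi hj hdvd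
      exact hle hfj
    rw [LinearMap.mem_ker, e1] at e2
    exact e2
  · -- supremum
    apply le_antisymm
    · refine iSup_le fun i => ?_
      intro f hf
      exact (memK f).2 ((memE i f).1 hf).1
    · intro f hf
      have hf' := (memK f).1 hf
      have hs := sum_avg p u hu χ L hL1 hχ f
      rw [← hs, ← Fin.sum_univ_eq_sum_range (fun i => avg p u χ L i f) (p - 1)]
      refine Submodule.sum_mem _ fun i _ => ?_
      exact Submodule.mem_iSup_of_mem i (avg_mem i f hf')

end Groth.Agent.S18468
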