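import Groth.Statements.S18471
import Groth.Agent.Lib.Seat90OTDual

set_option autoImplicit false
universe u
open OortTate

namespace Groth.Agent.S18471

open Groth.Agent.Lib.Seat90 Groth.Agent.Lib.Seat90.OTChar Groth.Agent.Lib.Seat90.OTHopf
  Groth.Agent.Lib.Seat90.OTDual

theorem result
    (p : ℕ) [Fact p.Prime] (R : Type u) [CommRing R] (u : R) (hu : u * ((p - 1 : ℕ) : R) = 1)
    (χ : (ZMod p)ˣ →* Rˣ) (hχ : ∀ m : (ZMod p)ˣ, m ≠ 1 → IsUnit ((χ m : R) - 1))
    (A : Type u) [CommRing A] [HopfAlgebra R A] [Coalgebra.IsCocomm R A]
    [Module.Finite R A] [Module.Projective R A]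
    (hp : (WithConv.toConv (AlgHom.id R A)) ^ p = 1) (i : ℕ) :
    Function.Bijective (fun f : OortTate.eigenAug R (CartDual.D R A) p χ i =>
      ((CartDual.toDual R A) (f : CartDual.D R A)).comp (OortTate.eigenAug R A p χ i).subtype) := by
  classical
  -- the element of `I_i(A)` attached to `a : A`
  have hmem : ∀ a : A, avg p u χ (Lact (R := R) (A := A) p) i
      (a - algebraMap R A (Coalgebra.counit (R := R) a)) ∈ OortTate.eigenAug R A p χ i :=
    fun a => avg_mem_eigenAug p u χ hp i _ (sub_counit_mem a)
  -- evaluation of an eigenform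
  have heval : ∀ (f : CartDual.D R A), f ∈ OortTate.eigenAug R (CartDual.D R A) p χ i → ∀ a : A,
      f.ofConv a = f.ofConv (avg p u χ (Lact (R := R) (A := A) p) i
        (a - algebraMap R A (Coalgebra.counit (R := R) a))) := by
    intro f hf a
    have hf' := (mem_eigenAug p χ i f).1 hf
    have h1 : f.ofConv 1 = 0 := hf'.1
    have h2 : avg p u χ (Lact (R := R) (A := CartDual.D R A) p) i f = f :=
      avg_of_eigen p u hu χ _ i f hf'.2
    rw [← avg_dual_apply, h2, map_sub, Algebra.algebraMap_eq_smul_one, map_smul, h1, smul_zero,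
      sub_zero]
  constructor
  · intro f g h
    apply Subtype.ext
    apply WithConv.ofConv_injective
    apply LinearMap.ext
    intro a
    rw [heval f f.2 a, heval g g.2 a]
    have := LinearMap.congr_fun h ⟨_, hmem a⟩
    simpa using this
  · intro g
    -- the linear form
    let φ : A →ₗ[R] A :=
      (avg p u χ (Lact (R := R) (A := A) p) i).comp
        (LinearMap.id - (Algebra.linearMap R A).comp (Coalgebra.counit (R := R) (A := A)))
    have hφ : ∀ a, φ a = avg p u χ (Lact (R := R) (A := A) p) i
        (a - algebraMap R A (Coalgebra.counit (R := R) a)) := fun a => rfl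
    let φ' : A →ₗ[R] OortTate.eigenAug R A p χ i :=
      LinearMap.codRestrict _ φ (fun a => by rw [hφ]; exact hmem a)
    let f0 : A →ₗ[R] R := g.comp φ'
    have hf0 : ∀ a, f0 a = g ⟨_, hmem a⟩ := fun a => rfl
    have hf0mem : (WithConv.toConv f0 : CartDual.D R A) ∈ OortTate.eigenAug R (CartDual.D R A) p χ i := by
      rw [mem_eigenAug]
      constructor
      · change f0 1 = 0
        rw [hf0]
        have : (⟨_, hmem 1⟩ : OortTate.eigenAug R A p χ i) = 0 := by
          apply Subtype.ext
          simp only [Submodule.coe_zero]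
          have : (1 : A) - algebraMap R A (Coalgebra.counit (R := R) (1 : A)) = 0 := by
            rw [Bialgebra.counit_one, map_one, sub_self]
          rw [this, map_zero]
        rw [this, map_zero]
      · intro m
        apply WithConv.ofConv_injective
        apply LinearMap.ext
        intro a
        rw [Lact_dual_apply, WithConv.ofConv_smul, LinearMap.smul_apply]
        change f0 (Lact (R := R) (A := A) p m a) = _ • f0 a
        rw [hf0, hf0, ← map_smul]
        congr 1
        apply Subtype.ext
        simp only [Submodule.coe_smul]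
        have e : Lact (R := R) (A := A) p m a -
            algebraMap R A (Coalgebra.counit (R := R) (Lact (R := R) (A := A) p m a)) =
            Lact (R := R) (A := A) p m (a - algebraMap R A (Coalgebra.counit (R := R) a)) := by
          rw [counit_Lact, map_sub, Lact_algebraMap]
        rw [e, avg_L p u χ _ (Lact_mul p hp)]
    refine ⟨⟨WithConv.toConv f0, hf0mem⟩, ?_⟩
    apply LinearMap.ext
    intro a
    simp only [LinearMap.comp_apply, Submodule.subtype_apply, CartDual.toDual_apply]
    change f0 (a : A) = g a
    rw [hf0]
    congr 1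
    apply Subtype.ext
    have ha := (mem_eigenAug p χ i (a : A)).1 a.2
    simp only
    rw [ha.1, map_zero, sub_zero]
    exact avg_of_eigen p u hu χ _ i _ ha.2

end Groth.Agent.S18471
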