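import Groth.Statements.S10390
import Groth.Agent.S10175
import Groth.Agent.S10176
import Groth.Agent.S10177
import Groth.Agent.Lib.Seat46FibreEmb

set_option autoImplicit false
universe u
open CategoryTheory CategoryTheory.Limits AlgebraicGeometry Topology TopologicalSpace
open AlgSp

namespace Groth.Agent.S10390

/-- Let S be a scheme, X and Y algebraic spaces over S, and f : X ⟶ Y a morphism, and let y ∈ |Y| be a
point represented by a monomorphism Spec k ⟶ Y which is representable quasi-compact. Then for the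
fibre X_k = Spec k ×_Y X the map |X_k| → |X| is a homeomorphism of |X_k| onto f⁻¹({y}) with its
induced topology. -/
theorem result {S : Scheme.{u}} {X Y : AlgSp.Space S} (f : X ⟶ Y)
    (r : AlgSp.FieldPt Y.obj) (hm : Mono r.toHom) (hq : AlgSp.RepWith @QuasiCompact r.toHom)
    (Xk : AlgSp.Space S) (fst : Xk ⟶ X) (snd : Xk.obj ⟶ (AlgSp.yon S).obj r.pt) (hsq : IsPullback fst.hom snd f.hom r.toHom) :
    IsEmbedding (AlgSp.Points.map fst.hom) ∧
      Set.range (AlgSp.Points.map fst.hom) = AlgSp.Points.map f.hom ⁻¹' {AlgSp.Points.mk r} := by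
  open Groth.Agent.Lib.Seat46.FibreEmb in
  -- every point of `h_{Spec k}` maps to the point of `r`
  have hpt : ∀ p : AlgSp.Points ((AlgSp.yon S).obj r.pt), AlgSp.Points.map r.toHom p = AlgSp.Points.mk r := by
    intro p
    obtain ⟨t, rfl⟩ := (AlgSp.Points.schemeHomeo r.pt).surjective p
    change AlgSp.Points.map r.toHom (AlgSp.Points.ofScheme r.pt t) = _
    rw [← AlgSp.Points.ofPt_eq_map_ofScheme]
    exact AlgSp.Points.ofPt_toHom r t
  have hrange : Set.range (AlgSp.Points.map fst.hom) =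
      AlgSp.Points.map f.hom ⁻¹' {AlgSp.Points.mk r} := by
    ext x
    constructor
    · rintro ⟨w, rfl⟩
      change AlgSp.Points.map f.hom (AlgSp.Points.map fst.hom w) = _
      rw [← AlgSp.Points.map_comp, hsq.w, AlgSp.Points.map_comp]
      exact hpt _
    · intro hx
      have e : AlgSp.Points.map f.hom x = AlgSp.Points.map r.toHom
          (AlgSp.Points.ofScheme r.pt (IsLocalRing.closedPoint r.K)) := by
        rw [hpt]; exact hx
      obtain ⟨p, hp1, -⟩ := Groth.Agent.S10175.exists_point_of_isPullback hsq x _ e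
      exact ⟨p, hp1⟩
  refine ⟨?_, hrange⟩
  haveI : Mono fst.hom := by
    haveI := hm
    exact hsq.mono_fst_of_mono
  refine ⟨?_, injective_map_of_mono fst.hom⟩
  refine isInducing_of_forall_open _ (AlgSp.Points.continuous_map fst.hom) fun O hO => ?_
  obtain ⟨U, a, haE, haS⟩ := X.property.atlas
  obtain ⟨T, g, fstT, sqT⟩ := hq.1 (a ≫ f.hom)
  obtain ⟨cT, rfl⟩ := (AlgSp.yon S).map_surjective fstT
  have hcond : ((AlgSp.yon S).map g ≫ a) ≫ f.hom = (AlgSp.yon S).map cT ≫ r.toHom := by
    rw [Category.assoc]; exact sqT.w.symm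
  obtain ⟨bT, hbT⟩ : ∃ bT : (AlgSp.yon S).obj T ⟶ Xk.obj, bT = hsq.lift _ _ hcond := ⟨_, rfl⟩
  have hb1 : bT ≫ fst.hom = (AlgSp.yon S).map g ≫ a := by rw [hbT, hsq.lift_fst]
  have hb2 : bT ≫ snd = (AlgSp.yon S).map cT := by rw [hbT, hsq.lift_snd]
  have sqTop : IsPullback ((AlgSp.yon S).map g) bT a fst.hom :=
    IsPullback.of_bot (by rw [hb2]; exact sqT.flip) hb1.symm hsq
  have hbE : AlgSp.RepWith @Etale bT :=
    MorphismProperty.of_isPullback (P := AlgSp.RepWith @Etale) sqTop haE
  have hbS : AlgSp.RepWith @Surjective bT :=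
    MorphismProperty.of_isPullback (P := AlgSp.RepWith @Surjective) sqTop haS
  have hemb : IsEmbedding g.left := isEmbedding_of_fieldPt_pullback Y r hm hq (a ≫ f.hom) cT g sqT
  have hOT : IsOpen (AlgSp.Points.ofPt bT ⁻¹' O) := hO.preimage (AlgSp.Points.continuous_ofPt bT)
  obtain ⟨OU, hOUo, hOU⟩ := hemb.isInducing.isOpen_iff.1 hOT
  refine ⟨AlgSp.Points.ofPt a '' OU, Groth.Agent.S10176.result X a haE _ hOUo, ?_⟩
  ext w
  constructor
  · rintro ⟨u, hu, huw⟩
    have e : AlgSp.Points.map a (AlgSp.Points.ofScheme U u) = AlgSp.Points.map fst.hom w := by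
      rw [← AlgSp.Points.ofPt_eq_map_ofScheme]; exact huw
    obtain ⟨p, hp1, hp2⟩ := Groth.Agent.S10175.exists_point_of_isPullback sqTop _ _ e
    obtain ⟨t, rfl⟩ := (AlgSp.Points.schemeHomeo T).surjective p
    have hgt : g.left t = u := by
      apply (AlgSp.Points.schemeHomeo U).injective
      rw [← AlgSp.Points.map_yon_map_apply]
      exact hp1
    have ht : t ∈ AlgSp.Points.ofPt bT ⁻¹' O := by
      rw [← hOU]; change g.left t ∈ OU; rw [hgt]; exact hu
    have : AlgSp.Points.ofPt bT t = w := by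
      rw [AlgSp.Points.ofPt_eq_map_ofScheme]; exact hp2
    rw [← this]; exact ht
  · intro hw
    obtain ⟨t, rfl⟩ := Groth.Agent.S10177.surjective_ofPt bT hbS w
    have ht : t ∈ g.left ⁻¹' OU := by rw [hOU]; exact hw
    refine ⟨g.left t, ht, ?_⟩
    rw [AlgSp.Points.map_ofPt, hb1, Groth.Agent.S10176.ofPt_map_comp]

end Groth.Agent.S10390
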