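import Groth.Statements.S10426
import Mathlib
import Groth.Agent.Lib.Seat46UBFField
import Groth.Agent.Lib.Helper12Descent
import Groth.Agent.S10176

set_option autoImplicit false
universe u
open CategoryTheory CategoryTheory.Limits AlgebraicGeometry Topology TopologicalSpace
open AlgSp

namespace Groth.Agent.S10426

/-- Let S be a scheme, X and Y algebraic spaces over S, and g : Y ⟶ X a representable morphism; let U be
a scheme, f : U ⟶ X a morphism, and f′ : U ×_X Y ⟶ Y its base change. Assume the image of |U| → |X|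
is contained in the image of |Y| → |X| and that f′ has universally bounded fibres. Then the morphism
f also has universally bounded fibres. -/
theorem result {S : Scheme.{u}} {X Y : AlgSp.Space S} (g : Y ⟶ X)
    (hg : AlgSp.Representable g.hom) {U V : Over S} (f : (AlgSp.yon S).obj U ⟶ X.obj)
    (fst : (AlgSp.yon S).obj V ⟶ (AlgSp.yon S).obj U) (f' : (AlgSp.yon S).obj V ⟶ Y.obj) (h : IsPullback fst f' f g.hom)
    (him : Set.range (AlgSp.Points.ofPt f) ⊆ Set.range (AlgSp.Points.map g.hom)) (hf' : W4dec.HasUnivBddFibres f') :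
    W4dec.HasUnivBddFibres f := by
  obtain ⟨n, hn⟩ := hf'
  refine ⟨n, fun q T c snd sq => ?_⟩
  obtain ⟨b, rfl⟩ := (AlgSp.yon S).map_surjective snd
  by_cases hT : IsEmpty ↥T.left
  · refine (Groth.Agent.Lib.Seat46.UBFField.isFinite_and_finrank_le_iff (K := q.K) c.left n).2 ?_
    refine ⟨inferInstance, ?_⟩
    letI : Algebra q.K Γ(T.left, ⊤) := (Groth.Agent.Lib.Seat46.UBFField.ringMap c.left).hom.toAlgebra
    haveI : Subsingleton Γ(T.left, ⊤) := inferInstance
    exact ⟨inferInstance, by rw [Module.finrank_zero_of_subsingleton]; exact Nat.zero_le n⟩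
  · rw [not_isEmpty_iff] at hT
    obtain ⟨t⟩ := hT
    have e1 : AlgSp.Points.ofPt f (b.left t) = AlgSp.Points.mk q := by
      rw [← Groth.Agent.S10176.ofPt_map_comp, ← sq.w, Groth.Agent.S10176.ofPt_map_comp,
        AlgSp.Points.ofPt_toHom]
    obtain ⟨y, hy⟩ := him ⟨b.left t, rfl⟩
    induction y using AlgSp.Points.ind with | h r => ?_
    rw [AlgSp.Points.map_mk, e1, AlgSp.Points.mk_eq_mk_iff] at hy
    obtain ⟨Ω, _, w, a, d, had⟩ := hy
    -- the `Ω`-valued point of `Y`
    obtain ⟨a', ha'⟩ : ∃ a' : Over.mk w ⟶ r.pt, a' = a := ⟨a, rfl⟩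
    have had' : X.obj.obj.map a'.op (g.hom.hom.app _ r.val) = X.obj.obj.map d.op q.val := by
      rw [ha']; exact had
    obtain ⟨ρ, hρ⟩ : ∃ ρ : (AlgSp.yon S).obj (Over.mk w) ⟶ Y.obj,
        ρ = (AlgSp.yon S).map a' ≫ r.toHom := ⟨_, rfl⟩
    let r' : AlgSp.FieldPt Y.obj := ⟨Ω, w, Y.obj.obj.map a'.op r.val⟩
    have hr'1 : r'.toHom = ρ := by
      rw [hρ]
      exact ((AlgSp.J S).uliftYonedaEquiv_symm_naturality_left a' Y.obj r.val).symm
    have hr' : ρ ≫ g.hom = (AlgSp.yon S).map d ≫ q.toHom := by
      rw [hρ, Category.assoc, ← AlgSp.FieldPt.toHom_map]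
      have h1 : (AlgSp.yon S).map a' ≫ (r.map g.hom).toHom =
          (AlgSp.J S).uliftYonedaEquiv.symm (X.obj.obj.map a'.op (r.map g.hom).val) :=
        (AlgSp.J S).uliftYonedaEquiv_symm_naturality_left a' X.obj (r.map g.hom).val
      have h2 : (AlgSp.yon S).map d ≫ q.toHom =
          (AlgSp.J S).uliftYonedaEquiv.symm (X.obj.obj.map d.op q.val) :=
        (AlgSp.J S).uliftYonedaEquiv_symm_naturality_left d X.obj q.val
      rw [h1, h2]
      exact congrArg _ had'
    -- the base change of `T` to `Ω`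
    have sqΩ : IsPullback ((AlgSp.yon S).map (pullback.fst c d)) ((AlgSp.yon S).map (pullback.snd c d))
        ((AlgSp.yon S).map c) ((AlgSp.yon S).map d) := (IsPullback.of_hasPullback c d).map (AlgSp.yon S)
    have big := sqΩ.paste_horiz sq.flip
    rw [← hr'] at big
    obtain ⟨l, hl1, hl2⟩ : ∃ l : (AlgSp.yon S).obj (pullback c d) ⟶ (AlgSp.yon S).obj V,
        l ≫ fst = (AlgSp.yon S).map (pullback.fst c d) ≫ (AlgSp.yon S).map b ∧
        l ≫ f' = (AlgSp.yon S).map (pullback.snd c d) ≫ ρ :=
      ⟨h.lift _ _ big.w, h.lift_fst _ _ _, h.lift_snd _ _ _⟩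
    have left : IsPullback l ((AlgSp.yon S).map (pullback.snd c d)) f' ρ := by
      refine IsPullback.of_right ?_ hl2 h
      rw [hl1]
      exact big
    have left' : IsPullback ((AlgSp.yon S).map (pullback.snd c d)) l r'.toHom f' := by
      rw [hr'1]
      exact left.flip
    obtain ⟨h1, h2⟩ := hn r' (pullback c d) (pullback.snd c d) l left'
    -- descent along `Spec Ω ⟶ Spec K`
    have sqL : IsPullback (pullback.fst c d).left (pullback.snd c d).left c.left d.left :=
      (IsPullback.of_hasPullback c d).map (Over.forget S)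
    haveI : Flat d.left := by
      haveI : Subsingleton ↥q.pt.left := (inferInstance : Subsingleton (PrimeSpectrum q.K))
      haveI : IsIntegral q.pt.left := (inferInstance : IsIntegral (Spec (CommRingCat.of q.K)))
      infer_instance
    have hds : Surjective d.left := by
      refine ⟨fun s => ⟨(IsLocalRing.closedPoint Ω : PrimeSpectrum Ω), ?_⟩⟩
      exact (inferInstance : Subsingleton (PrimeSpectrum q.K)).elim _ _
    haveI : QuasiCompact d.left := by
      haveI : IsAffine (Over.mk w).left := (inferInstance : IsAffine (Spec (CommRingCat.of Ω)))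
      haveI : IsAffine q.pt.left := (inferInstance : IsAffine (Spec (CommRingCat.of q.K)))
      infer_instance
    have hQ : (@Surjective ⊓ @Flat ⊓ @QuasiCompact : MorphismProperty Scheme.{u}) d.left :=
      ⟨⟨hds, inferInstance⟩, inferInstance⟩
    haveI : IsFinite c.left :=
      (Groth.Agent.Lib.Helper12.descendsAlong_isFinite.{u}).of_isPullback sqL.flip hQ h1
    haveI : Flat c.left := by
      haveI : Subsingleton ↥q.pt.left := (inferInstance : Subsingleton (PrimeSpectrum q.K))
      haveI : IsIntegral q.pt.left := (inferInstance : IsIntegral (Spec (CommRingCat.of q.K)))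
      infer_instance
    refine ⟨inferInstance, fun s => ?_⟩
    obtain ⟨y, rfl⟩ := hds.surj s
    rw [← Scheme.Hom.finrank_of_isPullback _ _ _ _ sqL y]
    exact h2 y

end Groth.Agent.S10426
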