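import Groth.Statements.S0364
import Groth.Agent.Lib.Seat8FieldDual
import Groth.Agent.Lib.Seat8Normalized

set_option autoImplicit false
universe u v
open CategoryTheory
attribute [local instance] HasDerivedCategory.standard
open Dual

namespace Groth.Agent.S0364

/-- For a dualizing complex ω over a Noetherian ring and a maximal ideal m with residue field κ = A/m,
the groups Hom(κ, ω[i]) in D(A) vanish except in one degree n, where the group is isomorphic to κ as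
an A-module. -/
theorem result (A : Type u) [CommRing A] [IsNoetherianRing A] (ω : Dual.D A) (hω : Dual.IsDualizing A ω) (m : Ideal A) [m.IsMaximal] : ∃ n : ℤ, (∀ i : ℤ, i ≠ n → Subsingleton (Dual.inD A (A ⧸ m) ⟶ ω⟦i⟧)) ∧ Nonempty ((Dual.inD A (A ⧸ m) ⟶ ω⟦n⟧) ≃ₗ[A] (A ⧸ m)) := by
  open Groth.Agent.Lib.Seat8.Coext Groth.Agent.Lib.Seat8.CoextShift Groth.Agent.Lib.Seat8.HomSingle
    DerivedCategory in
  let _ : Field (A ⧸ m) := Ideal.Quotient.field m
  -- the corepresenting object over the residue field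
  obtain ⟨Z, ev, h⟩ := Groth.Agent.Lib.Seat8.DualFinite.exists_isCoext (B := A ⧸ m) ω hω
  have hZ : Dual.IsDualizing (A ⧸ m) Z :=
    Groth.Agent.Lib.Seat8.DualFinite.isDualizing_of_isCoext ω hω Z ev h
  obtain ⟨n, hz, ⟨L⟩⟩ := Groth.Agent.Lib.Seat8.FieldDual.exists_degree Z hZ
  -- `Hom(k, Z[i]) ≃ H^i(Z)`
  let G : ∀ i : ℤ, (dSg (A ⧸ m) 0 ⟶ Z⟦i⟧) ≃ₗ[A ⧸ m]
      ((homologyFunctor (ModuleCat.{u} (A ⧸ m)) i).obj Z) := fun i =>
    (evEquiv (R := A ⧸ m) 0 (Z⟦i⟧)).trans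
      (((homologyFunctor (ModuleCat.{u} (A ⧸ m)) 0).shiftIso i 0 i (by omega)).app Z).toLinearEquiv
  -- restriction of the residue field
  let l₀ : ((ModuleCat.restrictScalars.{u} (algebraMap A (A ⧸ m))).obj
      (ModuleCat.of (A ⧸ m) (A ⧸ m))) ≃ₗ[A] (A ⧸ m) :=
    { toFun := fun x => x
      invFun := fun x => x
      map_add' := fun _ _ => rfl
      map_smul' := fun a x => by
        change algebraMap A (A ⧸ m) a • (show A ⧸ m from x) = a • (show A ⧸ m from x)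
        rw [algebraMap_smul]
      left_inv := fun _ => rfl
      right_inv := fun _ => rfl }
  let e₀ : (ModuleCat.restrictScalars.{u} (algebraMap A (A ⧸ m))).obj
      (ModuleCat.of (A ⧸ m) (A ⧸ m)) ≅ ModuleCat.of A (A ⧸ m) := l₀.toModuleIso
  let e : (DRing.restrictD (algebraMap A (A ⧸ m))).obj (dSg (A ⧸ m) 0) ≅ Dual.inD A (A ⧸ m) :=
    Groth.Agent.Lib.Helper1.Restrict.restrictDSingleIso (algebraMap A (A ⧸ m))
      (ModuleCat.of (A ⧸ m) (A ⧸ m)) 0 ≪≫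
      (DerivedCategory.singleFunctor (ModuleCat.{u} A) 0).mapIso e₀
  refine ⟨n, fun i hi => ?_, ?_⟩
  · obtain ⟨E, -⟩ := IsCoext.exists_shift_equiv h (dSg (A ⧸ m) 0) i
    have h1 : Subsingleton ((homologyFunctor (ModuleCat.{u} (A ⧸ m)) i).obj Z) :=
      ModuleCat.subsingleton_of_isZero (hz i hi)
    have h2 : Subsingleton (dSg (A ⧸ m) 0 ⟶ Z⟦i⟧) := (G i).toEquiv.subsingleton
    have h3 : Subsingleton ((DRing.restrictD (algebraMap A (A ⧸ m))).obj (dSg (A ⧸ m) 0) ⟶ ω⟦i⟧) :=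
      E.symm.toEquiv.subsingleton
    exact (Iso.homCongr e.symm (Iso.refl (ω⟦i⟧))).subsingleton
  · obtain ⟨E, hE⟩ := IsCoext.exists_shift_equiv h (dSg (A ⧸ m) 0) n
    let E0 : (Dual.inD A (A ⧸ m) ⟶ ω⟦n⟧) ≃ₗ[A]
        ((DRing.restrictD (algebraMap A (A ⧸ m))).obj (dSg (A ⧸ m) 0) ⟶ ω⟦n⟧) :=
      Linear.homCongr A e.symm (Iso.refl (ω⟦n⟧))
    let T : (Dual.inD A (A ⧸ m) ⟶ ω⟦n⟧) ≃+ (A ⧸ m) :=
      E0.toAddEquiv.trans (E.symm.trans ((G n).toAddEquiv.trans L.toAddEquiv))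
    refine ⟨T.toLinearEquiv ?_⟩
    intro a f
    change L (G n (E.symm (E0 (a • f)))) = a • L (G n (E.symm (E0 f)))
    have h1 : E.symm (a • E0 f) = algebraMap A (A ⧸ m) a • E.symm (E0 f) := by
      apply E.injective
      rw [hE, AddEquiv.apply_symm_apply, AddEquiv.apply_symm_apply]
    rw [map_smul, h1, map_smul, map_smul, algebraMap_smul]

end Groth.Agent.S0364
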