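import Groth.Statements.S0365
import Groth.Agent.S0367
import Groth.Agent.Lib.Seat8HomSingle

set_option autoImplicit false
universe u v
open CategoryTheory
attribute [local instance] HasDerivedCategory.standard
open Dual

namespace Groth.Agent.S0365

/-- For a Noetherian local ring with normalized dualizing complex ω, the depth of the ring is the least
δ ≥ 0 with H^{-δ}(ω) nonzero. -/
theorem result (A : Type u) [CommRing A] [IsLocalRing A] [IsNoetherianRing A] (ω : Dual.D A) (hω : Dual.IsDualizing A ω) (hn : Dual.IsNormalized A ω) (n : ℕ) : LocCoh.depth A A = n ↔ ((∀ δ : ℕ, δ < n → Subsingleton (Dual.HD A ω (-(δ : ℤ)))) ∧ Nontrivial (Dual.HD A ω (-(n : ℤ)))) := by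
  have key : ∀ i : ℤ, Nonempty ((Dual.inD A A ⟶ ω⟦i⟧) ≃ Dual.HD A ω i) := by
    intro i
    let e1 : (Dual.inD A A ⟶ ω⟦i⟧) ≃ Dual.HD A (ω⟦i⟧) 0 :=
      Equiv.ofBijective _ (Groth.Agent.Lib.Seat8.HomSingle.evD_bijective 0 (ω⟦i⟧))
    let e2 : Dual.HD A (ω⟦i⟧) 0 ≃ₗ[A] Dual.HD A ω i :=
      (((DerivedCategory.homologyFunctor (ModuleCat.{u} A) 0).shiftIso i 0 i
        (by omega)).app ω).toLinearEquiv
    exact ⟨e1.trans e2.toEquiv⟩
  rw [Groth.Agent.S0367.result A ω hω hn A n]
  constructor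
  · rintro ⟨h1, h2⟩
    refine ⟨fun δ hδ => ?_, ?_⟩
    · have := h1 δ hδ
      exact (key _).some.symm.subsingleton
    · exact (key _).some.symm.nontrivial
  · rintro ⟨h1, h2⟩
    refine ⟨fun δ hδ => ?_, ?_⟩
    · have := h1 δ hδ
      exact (key _).some.subsingleton
    · exact (key _).some.nontrivial

end Groth.Agent.S0365
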