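import Groth.Statements.S0368
import Groth.Agent.Lib.Seat8DimDual

set_option autoImplicit false
universe u v
open CategoryTheory
attribute [local instance] HasDerivedCategory.standard
open Dual

namespace Groth.Agent.S0368

/-- (1)⇔(3): for a Noetherian local ring with normalized dualizing complex ω, a nonzero finite module M
with support of dimension d is Cohen–Macaulay exactly when Hom(M, ω[−i]) vanishes in D(A) for every
i ≠ d. -/
theorem result (A : Type u) [CommRing A] [IsLocalRing A] [IsNoetherianRing A] (ω : Dual.D A) (hω : Dual.IsDualizing A ω) (hn : Dual.IsNormalized A ω) (M : Type u) [AddCommGroup M] [Module A M] [Module.Finite A M] [Nontrivial M] (d : ℕ) (hd : Module.supportDim A M = d) : LocCoh.IsCohenMacaulayModule A M ↔ ∀ i : ℤ, i ≠ d → Subsingleton (Dual.inD A M ⟶ ω⟦(-i)⟧) := by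
  have hIM : IsLocalRing.maximalIdeal A • (⊤ : Submodule A M) ≠ ⊤ :=
    Groth.Agent.Lib.Helper28.maximalIdeal_smul_top_ne_top
  have hne : LocCoh.depth A M ≠ ⊤ := Groth.Agent.Lib.Helper28.idealDepth_ne_top hIM
  obtain ⟨n, hn'⟩ := ENat.ne_top_iff_exists.mp hne
  obtain ⟨h1, h2⟩ := Groth.Agent.Lib.Seat8.DepthDual.ext_of_depth_eq ω hω hn n M hn'.symm
  have hCM : LocCoh.IsCohenMacaulayModule A M ↔ d = n := by
    unfold LocCoh.IsCohenMacaulayModule
    rw [hd, ← hn']
    constructor
    · intro h
      exact_mod_cast h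
    · intro h
      rw [h]
      rfl
  rw [hCM]
  constructor
  · rintro rfl i hi
    rcases lt_trichotomy i 0 with hi0 | hi0 | hi0
    · exact Groth.Agent.Lib.Seat8.DepthDual.subsingleton_pos ω hω hn M (-i) (by omega)
    · subst hi0
      have hd0 : 0 < d := by
        rcases Nat.eq_zero_or_pos d with h | h
        · exact absurd (by rw [h]; rfl) hi
        · exact h
      have := h1 0 hd0
      simpa using this
    · obtain ⟨δ, rfl⟩ : ∃ δ : ℕ, i = (δ : ℤ) := ⟨i.toNat, by omega⟩
      rcases lt_or_gt_of_ne (show δ ≠ d from fun h => hi (by rw [h])) with h | h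
      · exact h1 δ h
      · refine Groth.Agent.Lib.Seat8.DimDual.subsingleton_of_supportDim_lt ω hω hn (d + 1) M ?_
          (-(δ : ℤ)) (by push_cast; omega)
        rw [hd]
        exact_mod_cast Nat.lt_succ_self d
  · intro h
    by_contra hdn
    have hnd : (n : ℤ) ≠ (d : ℤ) := by
      intro h'
      exact hdn (by exact_mod_cast h'.symm)
    have := h (n : ℤ) hnd
    exact not_subsingleton _ this

end Groth.Agent.S0368
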