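import Groth.Statements.S1712
import Groth.Agent.Lib.Seat8DimFn4
import Groth.Agent.S0367

set_option autoImplicit false
universe u
open CategoryTheory
attribute [local instance] HasDerivedCategory.standard
open Dual

namespace Groth.Agent.S1712

/-- Let A be a Noetherian local ring with a normalized dualizing complex ω, M a finite A-module and E^j
the A-module of maps M → ω[-j] in D(A). A prime p is in the support of one of E^0, …, E^i if and
only if the depth of M_p over A_p plus the dimension of A/p is at most i. -/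
theorem result (A : Type u) [CommRing A] [IsLocalRing A] [IsNoetherianRing A] (ω : Dual.D A) (hω : Dual.IsDualizing A ω) (hn : Dual.IsNormalized A ω) (M : Type u) [AddCommGroup M] [Module A M] [Module.Finite A M] (i : ℕ) (p : PrimeSpectrum A) : (∃ j : ℕ, j ≤ i ∧ p ∈ Module.support A (Dual.inD A M ⟶ ω⟦(-(j : ℤ))⟧)) ↔ ((LocCoh.depth (Localization.AtPrime p.asIdeal) (LocalizedModule p.asIdeal.primeCompl M) : ℕ∞) : WithBot ℕ∞) + ringKrullDim (A ⧸ p.asIdeal) ≤ (i : WithBot ℕ∞) := by
  obtain ⟨h1, h2⟩ := Groth.Agent.Lib.Seat8.DimFn4.isDualizing_isNormalized_atPrime ω hω p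
  have hNoeth := h1.isNoetherianRing
  have hc := Groth.Agent.Lib.Seat8.DimFn3.ringKrullDim_quotient_eq ω hω hn p
  have hle := Groth.Agent.Lib.Seat8.DimFn3.deg_le_zero ω hω hn p
  -- membership in the support in terms of `A_p`
  have key : ∀ j : ℕ, p ∈ Module.support A (Dual.inD A M ⟶ ω⟦(-(j : ℤ))⟧) ↔
      Nontrivial (Dual.inD (Localization.AtPrime p.asIdeal)
        (LocalizedModule p.asIdeal.primeCompl M) ⟶
        (((Groth.Agent.Lib.Helper1.Extend.extD A (Localization.AtPrime p.asIdeal)).obj ω)⟦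
          Groth.Agent.Lib.Seat8.DimFn.deg ω hω p⟧)⟦-(j : ℤ) -
            Groth.Agent.Lib.Seat8.DimFn.deg ω hω p⟧) := by
    intro j
    obtain ⟨E⟩ := Groth.Agent.Lib.Seat8.DimFn4.nonempty_equiv_atPrime_shift ω hω p M (-(j : ℤ))
    rw [Module.mem_support_iff]
    exact ⟨fun h => E.symm.nontrivial, fun h => E.nontrivial⟩
  rw [hc]
  by_cases hN : Subsingleton (LocalizedModule p.asIdeal.primeCompl M)
  · -- both sides are false
    have hdepth : LocCoh.depth (Localization.AtPrime p.asIdeal)
        (LocalizedModule p.asIdeal.primeCompl M) = ⊤ := by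
      apply Groth.Agent.Lib.Helper28.idealDepth_eq_top_of_smul_top_eq_top
      exact Subsingleton.elim _ _
    rw [hdepth]
    constructor
    · rintro ⟨j, -, hj⟩
      rw [key] at hj
      have := Groth.Agent.Lib.Seat8.DimDual.subsingleton_hom_of_subsingleton
        (A := Localization.AtPrime p.asIdeal) (LocalizedModule p.asIdeal.primeCompl M)
        ((((Groth.Agent.Lib.Helper1.Extend.extD A (Localization.AtPrime p.asIdeal)).obj ω)⟦
          Groth.Agent.Lib.Seat8.DimFn.deg ω hω p⟧)⟦-(j : ℤ) -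
            Groth.Agent.Lib.Seat8.DimFn.deg ω hω p⟧)
      exact absurd this (not_subsingleton _)
    · intro h
      exfalso
      have h' : (((⊤ : ℕ∞) + ((-Groth.Agent.Lib.Seat8.DimFn.deg ω hω p).toNat : ℕ∞) : ℕ∞) :
          WithBot ℕ∞) ≤ ((i : ℕ∞) : WithBot ℕ∞) := by exact_mod_cast h
      rw [top_add] at h'
      exact absurd (WithBot.coe_le_coe.mp h') (by simp)
  · rw [not_subsingleton_iff_nontrivial] at hN
    have hIM : IsLocalRing.maximalIdeal (Localization.AtPrime p.asIdeal) •
        (⊤ : Submodule (Localization.AtPrime p.asIdeal)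
          (LocalizedModule p.asIdeal.primeCompl M)) ≠ ⊤ :=
      Groth.Agent.Lib.Helper28.maximalIdeal_smul_top_ne_top
    have hne : LocCoh.depth (Localization.AtPrime p.asIdeal)
        (LocalizedModule p.asIdeal.primeCompl M) ≠ ⊤ :=
      Groth.Agent.Lib.Helper28.idealDepth_ne_top hIM
    obtain ⟨t, ht⟩ := ENat.ne_top_iff_exists.mp hne
    obtain ⟨hv, hnt⟩ := (Groth.Agent.S0367.result (Localization.AtPrime p.asIdeal) _ h1 h2
      (LocalizedModule p.asIdeal.primeCompl M) t).mp ht.symm
    rw [← ht]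
    have hcast : ((((t : ℕ∞) : WithBot ℕ∞)) +
        (((-Groth.Agent.Lib.Seat8.DimFn.deg ω hω p).toNat : ℕ) : WithBot ℕ∞) ≤
          (i : WithBot ℕ∞)) ↔ t + (-Groth.Agent.Lib.Seat8.DimFn.deg ω hω p).toNat ≤ i := by
      constructor
      · intro h
        exact_mod_cast h
      · intro h
        exact_mod_cast h
    rw [hcast]
    constructor
    · rintro ⟨j, hji, hj⟩
      rw [key] at hj
      by_contra hlt
      rcases lt_or_ge (-(j : ℤ) - Groth.Agent.Lib.Seat8.DimFn.deg ω hω p) 1 with hneg | hpos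
      · -- the shift is `-δ` with `δ < t`
        obtain ⟨δ, hδ⟩ : ∃ δ : ℕ, -(j : ℤ) - Groth.Agent.Lib.Seat8.DimFn.deg ω hω p = -(δ : ℤ) :=
          ⟨((j : ℤ) + Groth.Agent.Lib.Seat8.DimFn.deg ω hω p).toNat, by omega⟩
        rw [hδ] at hj
        have := hv δ (by omega)
        exact not_subsingleton _ this
      · have := Groth.Agent.Lib.Seat8.DepthDual.subsingleton_pos _ h1 h2
          (LocalizedModule p.asIdeal.primeCompl M)
          (-(j : ℤ) - Groth.Agent.Lib.Seat8.DimFn.deg ω hω p) (by omega)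
        exact not_subsingleton _ this
    · intro h
      refine ⟨t + (-Groth.Agent.Lib.Seat8.DimFn.deg ω hω p).toNat, h, ?_⟩
      rw [key]
      have hsh : -((t + (-Groth.Agent.Lib.Seat8.DimFn.deg ω hω p).toNat : ℕ) : ℤ) -
          Groth.Agent.Lib.Seat8.DimFn.deg ω hω p = -(t : ℤ) := by
        push_cast
        rw [Int.toNat_of_nonneg (by omega)]
        ring
      rw [hsh]
      exact hnt

end Groth.Agent.S1712
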