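import Groth.Statements.S19859
import Groth.Agent.S1712
import Groth.Agent.S0366
import Groth.Agent.Lib.Helper5Depth
import Groth.Agent.Lib.Helper28DepthMore

set_option autoImplicit false
universe u
open CategoryTheory
attribute [local instance] HasDerivedCategory.standard
open Dual

namespace Groth.Agent.S19859

/-- Let A be a Noetherian local ring with a normalized dualizing complex ω (so the codimension function
of ω vanishes at the closed point) and M a nonzero finite A-module with support of dimension d. Then
Ext^{-d}(M, ω), the A-module of morphisms M → ω[-d] in D(A), is nonzero. (The source states this at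
every point x of a locally Noetherian scheme with a dualizing complex, in the degree given by the
codimension function at x minus the dimension of the stalk; localizing and shifting reduces to the
closed point of a local ring with a normalized complex, which is the form stated here.) -/
theorem result (A : Type u) [CommRing A] [IsLocalRing A]
    [IsNoetherianRing A] (ω : Dual.D A) (hω : Dual.IsDualizing A ω) (hn : Dual.IsNormalized A ω)
    (M : Type u) [AddCommGroup M] [Module A M] [Module.Finite A M] [Nontrivial M]
    (d : ℕ) (hd : Module.supportDim A M = d) :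
    Nontrivial (Dual.inD A M ⟶ ω⟦(-(d : ℤ))⟧) := by
  -- a chain of length `d` in the support
  obtain ⟨l, hl⟩ : ∃ l : LTSeries (Module.support A M), l.length = d := by
    have h1 : ((d : ℕ) : WithBot ℕ∞) ≤ Order.krullDim (Module.support A M) := by
      change _ ≤ Module.supportDim A M
      rw [hd]
    exact Order.le_krullDim_iff.mp h1
  -- a minimal prime of the support below its head
  have hann : Module.annihilator A M ≤ (l.head.val).asIdeal :=
    Module.mem_support_iff_of_finite.mp l.head.2
  obtain ⟨q, hq, hle⟩ := Ideal.exists_minimalPrimes_le hann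
  have hqp : q.IsPrime := hq.1.1
  have hqass : q ∈ associatedPrimes A M :=
    Module.associatedPrimes.minimalPrimes_annihilator_subset_associatedPrimes A M hq
  -- `coheight q ≥ d`
  let l' : LTSeries (PrimeSpectrum A) := l.map Subtype.val (fun _ _ h => h)
  have h1 : (l'.length : ℕ∞) ≤ Order.coheight l'.head := Order.length_le_coheight_head
  have h2 : Order.coheight l'.head ≤ Order.coheight (⟨q, hqp⟩ : PrimeSpectrum A) :=
    Order.coheight_anti (show (⟨q, hqp⟩ : PrimeSpectrum A) ≤ l'.head from hle)
  have h3 := Groth.Agent.Lib.Seat8.DimFn4.coheight_eq ω hω hn (⟨q, hqp⟩ : PrimeSpectrum A)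
  have hdeg := Groth.Agent.Lib.Seat8.DimFn3.deg_le_zero ω hω hn (⟨q, hqp⟩ : PrimeSpectrum A)
  have hdc : d ≤ (-Groth.Agent.Lib.Seat8.DimFn.deg ω hω ⟨q, hqp⟩).toNat := by
    have : (l'.length : ℕ∞) ≤ (((-Groth.Agent.Lib.Seat8.DimFn.deg ω hω ⟨q, hqp⟩).toNat : ℕ) : ℕ∞) :=
      h3 ▸ (h1.trans h2)
    have hl' : l'.length = d := hl
    rw [hl'] at this
    exact_mod_cast this
  -- depth zero at `q`
  have hdepth : LocCoh.depth (Localization.AtPrime q) (LocalizedModule q.primeCompl M) = 0 :=
    Groth.Agent.Lib.Helper5.depth_eq_zero_iff_maximalIdeal_mem_associatedPrimes.mpr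
      ((Groth.Agent.Lib.Helper28.maximalIdeal_mem_associatedPrimes_localization_iff q).mpr hqass)
  -- apply the support criterion
  have hc := Groth.Agent.Lib.Seat8.DimFn3.ringKrullDim_quotient_eq ω hω hn ⟨q, hqp⟩
  obtain ⟨j, hjc, hj⟩ := (Groth.Agent.S1712.result A ω hω hn M
    (-Groth.Agent.Lib.Seat8.DimFn.deg ω hω ⟨q, hqp⟩).toNat ⟨q, hqp⟩).mpr (by
      rw [hdepth, hc]
      simp)
  have hj2 := Groth.Agent.Lib.Seat8.DimFn4.le_deg_of_mem_support ω hω M _ _ hj
  have hnt : Nontrivial (Dual.inD A M ⟶ ω⟦(-(j : ℤ))⟧) := by
    by_contra h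
    rw [not_nontrivial_iff_subsingleton] at h
    rw [Module.support_eq_empty] at hj
    exact hj
  have hjd := ((Groth.Agent.S0366.result A ω hω hn M d hd (-(j : ℤ))).1 hnt).1
  have hjeq : j = d := by omega
  rw [← hjeq]
  exact hnt

end Groth.Agent.S19859
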