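import Groth.Statements.S0372
import Groth.Agent.Lib.Seat8CMLocus

set_option autoImplicit false
universe u v
open CategoryTheory
attribute [local instance] HasDerivedCategory.standard
open Dual

namespace Groth.Agent.S0372

/-- If a Noetherian ring has a dualizing complex then the set of primes at which the localization is
Cohen–Macaulay is open and dense in the prime spectrum. -/
theorem result (A : Type u) [CommRing A] [IsNoetherianRing A] (ω : Dual.D A) (hω : Dual.IsDualizing A ω) : IsOpen {p : PrimeSpectrum A | LocCoh.IsCohenMacaulayLocalRing (Localization.AtPrime p.asIdeal)} ∧ Dense {p : PrimeSpectrum A | LocCoh.IsCohenMacaulayLocalRing (Localization.AtPrime p.asIdeal)} := by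
  have hset : {p : PrimeSpectrum A | LocCoh.IsCohenMacaulayLocalRing (Localization.AtPrime p.asIdeal)} =
      {p : PrimeSpectrum A | Subsingleton (LocalizedModule p.asIdeal.primeCompl A) ∨
        LocCoh.IsCohenMacaulayModule (Localization.AtPrime p.asIdeal)
          (LocalizedModule p.asIdeal.primeCompl A)} := by
    ext p
    simp only [Set.mem_ofPred_eq]
    rw [Groth.Agent.Lib.Seat8.CMLocus.isCMRing_iff]
    constructor
    · exact fun h => Or.inr h
    · rintro (h | h)
      · have hnt : Nontrivial (LocalizedModule p.asIdeal.primeCompl A) :=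
          (Groth.Agent.Lib.Helper28.localizedModuleSelfEquiv p.asIdeal).toEquiv.nontrivial
        exact absurd h (not_subsingleton _)
      · exact h
  refine ⟨?_, ?_⟩
  · rw [hset]
    exact Groth.Agent.Lib.Seat8.CMLocus.isOpen_cm ω hω A
  · rw [dense_iff_closure_eq, Set.eq_univ_iff_forall]
    intro p
    have hp : p ∈ Module.support A A := by
      rw [Module.mem_support_iff]
      exact (Groth.Agent.Lib.Helper28.localizedModuleSelfEquiv p.asIdeal).toEquiv.nontrivial
    have := Groth.Agent.Lib.Seat8.CMLocus.support_subset_closure_cm (A := A) A hp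
    refine closure_mono ?_ this
    rintro q ⟨hq, -⟩
    exact (Groth.Agent.Lib.Seat8.CMLocus.isCMRing_iff q).mpr hq

end Groth.Agent.S0372
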