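import Groth.Statements.S1787
import Groth.Agent.Lib.Seat8DualDesc
import Groth.Agent.Lib.Helper1TorJ

set_option autoImplicit false
universe u
open CategoryTheory
attribute [local instance] HasDerivedCategory.standard
open Dual

namespace Groth.Agent.S1787

/-- Let A be a Noetherian ring and f_1, …, f_n elements generating the unit ideal. Let ω be an object of
D(A) such that for each i, assuming the derived base change functor D(A) → D(A_{f_i}) exists, the
base change of ω is a dualizing complex for A_{f_i}. Then ω is a dualizing complex for A. -/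
theorem result (A : Type u) [CommRing A] [IsNoetherianRing A] (n : ℕ) (f : Fin n → A) (hf : Ideal.span (Set.range f) = ⊤) (ω : Dual.D A) (h : ∀ i : Fin n, ∃ _ : DRing.HasLBaseChange (algebraMap A (Localization.Away (f i))), Dual.IsDualizing (Localization.Away (f i)) ((DRing.LBaseChange (algebraMap A (Localization.Away (f i)))).obj ω)) : Dual.IsDualizing A ω := by
  have hfl : ∀ i : Fin n, Module.Flat A (Localization.Away (f i)) := fun i =>
    IsLocalization.flat (Localization.Away (f i)) (Submonoid.powers (f i))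
  have h' : ∀ i : Fin n, Dual.IsDualizing (Localization.Away (f i))
      ((Groth.Agent.Lib.Helper1.Extend.extD A (Localization.Away (f i))).obj ω) := fun i => by
    obtain ⟨hL, hd⟩ := h i
    exact Groth.Agent.Lib.Seat8.DualBC.isDualizing_of_iso
      ((Groth.Agent.Lib.Seat8.DualBC.lbcFlatIso (A := A) (B := Localization.Away (f i))).app ω) hd
  have hB := Groth.Agent.Lib.Seat8.DualDesc.jointlyFaithful_away f hf
  have hD := Groth.Agent.Lib.Helper1.Tor.descFam_away f hf
  choose a b hab using fun i => (h' i).finite_injective_dimension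
  -- uniform bounds
  let a₀ : ℤ := - ∑ i, |a i|
  let b₀ : ℤ := ∑ i, |b i|
  have ha₀ : ∀ i, a₀ ≤ a i := fun i => by
    have h1 : |a i| ≤ ∑ i, |a i| :=
      Finset.single_le_sum (f := fun i => |a i|) (fun j _ => abs_nonneg (a j)) (Finset.mem_univ i)
    have h2 := neg_abs_le (a i)
    show - ∑ i, |a i| ≤ a i
    omega
  have hb₀ : ∀ i, b i ≤ b₀ := fun i => by
    have h1 : |b i| ≤ ∑ i, |b i| :=
      Finset.single_le_sum (f := fun i => |b i|) (fun j _ => abs_nonneg (b j)) (Finset.mem_univ i)
    have h2 := le_abs_self (b i)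
    show b i ≤ ∑ i, |b i|
    omega
  have hab₀ : ∀ (j : Fin n) (N : Type u) [AddCommGroup N] [Module (Localization.Away (f j)) N]
      (i : ℤ), (i < a₀ ∨ b₀ < i) → Subsingleton (Dual.inD (Localization.Away (f j)) N ⟶
        ((Groth.Agent.Lib.Helper1.Extend.extD A (Localization.Away (f j))).obj ω)⟦i⟧) := by
    intro j N _ _ i hi
    refine hab j N i ?_
    rcases hi with hi | hi
    · exact Or.inl (lt_of_lt_of_le hi (ha₀ j))
    · exact Or.inr (lt_of_le_of_lt (hb₀ j) hi)
  have hGE : ω.IsGE a₀ := hB.isGE ω a₀ (fun j =>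
    (Groth.Agent.Lib.Seat8.DualBC.isGE_isLE_of_finiteInjDim _ a₀ b₀ (hab₀ j)).1)
  refine Groth.Agent.Lib.Seat8.DualDesc.isDualizing_of_extD hB ω (fun i => ?_) ⟨a₀, b₀, ?_⟩
    (fun j => (h' j).toEnd_bijective) (fun j i hi => (h' j).ext_self_subsingleton i hi)
  · refine hD.finite _ (fun j => ?_)
    have := (h' j).finite_cohomology i
    exact Module.Finite.equiv (Groth.Agent.Lib.Helper1.Extend.homologyMapDIso
      (Groth.Agent.Lib.Helper1.Extend.ext A (Localization.Away (f j))) ω i).toLinearEquiv
  · exact Groth.Agent.Lib.Seat8.DualDesc.finiteInjDim_of_extD hB ω a₀ hGE a₀ b₀ hab₀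

end Groth.Agent.S1787
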