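import Groth.Statements.S18656
import Groth.Agent.Lib.Seat91GrTop

set_option autoImplicit false
set_option linter.style.haveILetI false
universe u
open GrLC

namespace Groth.Agent.S18656

/-- Let R be a graded ring defined over a field k = R_0, generated over k by R_1, of dimension r ≥ 1,
and let a(R) be its a-invariant. Then the homogeneous piece H^r_m(R)_n is nonzero for every n ≤
a(R). Here 'graded ring defined over a field' means R = ⊕_{n ≥ 0} R_n is Noetherian with R_0 a
field, and m = R_+ is its unique graded maximal ideal. The a-invariant a(R) is the largest degree in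
which the graded local cohomology H^n_m(R) (n = dim R, m = R_+), computed from a *injective
resolution of R in the graded category, is nonzero. -/
theorem result (R : Type u) [CommRing R] [IsNoetherianRing R] (𝒜 : ℤ → AddSubgroup R) [GradedRing 𝒜] (hpos : ∀ n : ℤ, n < 0 → 𝒜 n = ⊥) (h0 : IsField (GrLC.deg0 𝒜)) (m : HomogeneousIdeal 𝒜) (hm : GrLC.IsStarLocal 𝒜 m) (hmsp : m.toIdeal = Ideal.span (⋃ n ∈ Set.Ioi (0 : ℤ), (𝒜 n : Set R))) (hstd : Ideal.span (⋃ n ∈ Set.Ioi (0 : ℤ), (𝒜 n : Set R)) = Ideal.span ((𝒜 1 : AddSubgroup R) : Set R)) (r : ℕ) (hr : ringKrullDim R = r) (h1 : 1 ≤ r) (I : GrLC.StarInjRes 𝒜 𝒜) (a : ℤ) (ha : GrLC.endDeg (I.Hgr m r) = ((a : WithTop ℤ) : WithBot (WithTop ℤ))) (n : ℤ) (hn : n ≤ a) : I.Hcomp m r n ≠ ⊥ := by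
  classical
  have hmsp1 : m.toIdeal = Ideal.span ((𝒜 1 : AddSubgroup R) : Set R) := hmsp.trans hstd
  have hfg : (Ideal.span ((𝒜 1 : AddSubgroup R) : Set R)).FG := IsNoetherian.noetherian _
  obtain ⟨G, hGsub, hGspan⟩ := (Submodule.fg_span_iff_fg_span_finset_subset _).1 hfg
  have hdim : ringKrullDim R < ((r + 1 : ℕ) : WithBot ℕ∞) := by
    rw [hr]
    exact_mod_cast Nat.lt_succ_self r
  have htop := Groth.Agent.Lib.Seat91.GrTop.smul_top_eq_top G (fun x hx => ⟨1, hGsub hx⟩) m
    (hmsp1.trans hGspan) r h1 hdim I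
  letI : DirectSum.Decomposition (I.Hgr m r) :=
    (Groth.Agent.S13225.result R 𝒜 m R 𝒜 I r).chooseDecomposition
  have hsm : ∀ x : R, x ∈ 𝒜 1 → ∀ (g : ℤ) (v : I.H m r), v ∈ I.Hgr m r g →
      x • v ∈ I.Hgr m r (g + 1) := by
    intro x hx g v hv
    obtain ⟨z, hz, rfl⟩ := hv
    refine ⟨x • z, ?_, map_smul _ _ _⟩
    have h := SetLike.GradedSMul.smul_mem (A := 𝒜) (B := (I.X r).gr) hx hz
    rw [vadd_eq_add, add_comm] at h
    exact h
  have step : ∀ g : ℤ, I.Hgr m r g = ⊥ → I.Hgr m r (g + 1) = ⊥ := by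
    intro g hg
    have hΨ : ∀ s ∈ m.toIdeal, ∀ v : I.H m r,
        ((DirectSum.decompose (I.Hgr m r) (s • v)) (g + 1) : I.H m r) = 0 := by
      intro s hs
      rw [hmsp1] at hs
      induction hs using Submodule.span_induction with
      | mem x hx =>
        intro v
        rw [Groth.Agent.Lib.Seat91.GrShift.decompose_smul_deg (I.Hgr m r) x 1
          (fun g' v' hv' => hsm x hx g' v' hv') v g]
        have hz : ∀ w : I.H m r, w ∈ I.Hgr m r g → w = 0 := by
          intro w hw
          rw [hg] at hw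
          exact (AddSubgroup.mem_bot).1 hw
        rw [hz _ (SetLike.coe_mem _), smul_zero]
      | zero =>
        intro v
        rw [zero_smul, DirectSum.decompose_zero]
        rfl
      | add s t _ _ hs ht =>
        intro v
        rw [add_smul, DirectSum.decompose_add, DirectSum.add_apply, AddSubgroup.coe_add, hs v,
          ht v, add_zero]
      | smul c s _ hs =>
        intro v
        rw [smul_eq_mul, mul_comm, mul_smul]
        exact hs (c • v)
    have hΦ : ∀ w ∈ m.toIdeal • (⊤ : Submodule R (I.H m r)),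
        ((DirectSum.decompose (I.Hgr m r) w) (g + 1) : I.H m r) = 0 := by
      intro w hw
      refine Submodule.smul_induction_on hw (fun s hs v _ => hΨ s hs v) (fun w₁ w₂ h₁ h₂ => ?_)
      rw [DirectSum.decompose_add, DirectSum.add_apply, AddSubgroup.coe_add, h₁, h₂, add_zero]
    rw [eq_bot_iff]
    intro u hu
    have hu' : u ∈ m.toIdeal • (⊤ : Submodule R (I.H m r)) := by rw [htop]; exact Submodule.mem_top
    have := hΦ u hu'
    rw [DirectSum.decompose_of_mem_same _ hu] at this
    rw [this]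
    exact zero_mem _
  have chain : ∀ g : ℤ, I.Hgr m r g = ⊥ → ∀ j : ℕ, I.Hgr m r (g + j) = ⊥ := by
    intro g hg j
    induction j with
    | zero => simpa using hg
    | succ j ih =>
      have := step _ ih
      rw [add_assoc] at this
      exact_mod_cast this
  have hane : I.Hgr m r a ≠ ⊥ := by
    intro hbot
    have hle : GrLC.endDeg (I.Hgr m r) ≤ (((a - 1 : ℤ) : WithTop ℤ) : WithBot (WithTop ℤ)) := by
      unfold GrLC.endDeg
      refine iSup₂_le fun g hg => ?_
      have hlt : g < a := by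
        by_contra hge
        rw [not_lt] at hge
        obtain ⟨j, hj⟩ : ∃ j : ℕ, g = a + j := ⟨(g - a).toNat, by omega⟩
        rw [hj] at hg
        exact hg (chain a hbot j)
      have : g ≤ a - 1 := by omega
      exact_mod_cast this
    rw [ha] at hle
    have : a ≤ a - 1 := by exact_mod_cast hle
    omega
  intro hbot
  have hbot' : I.Hgr m r n = ⊥ := by
    show (I.Hcomp m r n).toAddSubgroup = ⊥
    rw [hbot]
    exact Submodule.bot_toAddSubgroup
  obtain ⟨j, hj⟩ : ∃ j : ℕ, a = n + j := ⟨(a - n).toNat, by omega⟩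
  rw [hj] at hane
  exact hane (chain n hbot' j)

end Groth.Agent.S18656
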