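import Groth.Statements.S18647
import Groth.Agent.Lib.Seat91SegreDim

set_option autoImplicit false
universe u
open scoped TensorProduct
open GrSegre

namespace Groth.Agent.S18647

/-- Let R and S be graded rings defined over a field k with dim R = r ≥ 1 and dim S = s ≥ 1. Then the
Segre product T = R # S has Krull dimension r + s − 1. Here a graded ring defined over k is a
commutative k-algebra of finite type, graded in nonnegative degrees by k-subspaces with degree-zero
part k·1; the Segre product T = R # S = ⊕_n R_n ⊗_k S_n (graded by T_n = R_n ⊗_k S_n) is presented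
abstractly as a graded k-algebra T with an injective k-algebra homomorphism ψ : T → R ⊗_k S carrying
T_n onto the k-span of the elementary tensors a ⊗ b with a ∈ R_n, b ∈ S_n, for every n. -/
theorem result (k : Type u) [Field k] (R : Type u) [CommRing R] [Algebra k R] (𝒜 : ℤ → Submodule k R) [GradedAlgebra 𝒜] (hposR : ∀ n : ℤ, n < 0 → 𝒜 n = ⊥) (h0R : 𝒜 0 = Submodule.span k {(1 : R)}) [Algebra.FiniteType k R] (S : Type u) [CommRing S] [Algebra k S] (ℬ : ℤ → Submodule k S) [GradedAlgebra ℬ] (hposS : ∀ n : ℤ, n < 0 → ℬ n = ⊥) (h0S : ℬ 0 = Submodule.span k {(1 : S)}) [Algebra.FiniteType k S] (T : Type u) [CommRing T] [Algebra k T] (𝒯 : ℤ → Submodule k T) [GradedAlgebra 𝒯] (ψ : T →ₐ[k] TensorProduct k R S) (hψ : Function.Injective ψ) (hdegT : ∀ n : ℤ, (𝒯 n).map ψ.toLinearMap = Submodule.span k {x : TensorProduct k R S | ∃ a ∈ 𝒜 n, ∃ b ∈ ℬ n, x = a ⊗ₜ[k] b}) (r s : ℕ) (hr : ringKrullDim R = r) (hs : ringKrullDim S = s) (h1r : 1 ≤ r) (h1s : 1 ≤ s) :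 ringKrullDim T = ((r + s - 1 : ℕ) : WithBot ℕ∞) := by
  classical
  have hdeg : ∀ n : ℤ, (𝒯 n).map ψ.toLinearMap = Groth.Agent.Lib.Seat91.SegreCoact.diag 𝒜 ℬ n := hdegT
  have : Algebra.FiniteType k (TensorProduct k R S) := Groth.Agent.Lib.Seat91.SegreDim.finiteType_tensor
  have : IsNoetherianRing (TensorProduct k R S) := Algebra.FiniteType.isNoetherianRing k _
  have : IsNoetherianRing S := Algebra.FiniteType.isNoetherianRing k S
  have : Algebra.FiniteType k T :=
    Groth.Agent.Lib.Seat91.SegreRetract.finiteType 𝒜 ℬ 𝒯 ψ hdeg hψ hposR h0R h0S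
  have h0T : 𝒯 0 = Submodule.span k {(1 : T)} :=
    Groth.Agent.Lib.Seat91.SegreRetract.zero_eq 𝒜 ℬ 𝒯 ψ hdeg hψ h0R h0S
  have hU : ringKrullDim (TensorProduct k R S) = ((r + s : ℕ) : WithBot ℕ∞) := by
    rw [Groth.Agent.Lib.Helper4.TensorDim.ringKrullDim_tensor_eq_add k R S, hr, hs]
    push_cast
    rfl
  refine le_antisymm ?_ ?_
  · refine Groth.Agent.Lib.Seat91.DimAux.ringKrullDim_le_of_forall_quotient_le _ fun 𝔮 h𝔮 => ?_
    have := h𝔮
    have := Groth.Agent.Lib.Seat91.SegreDim.dim_quotient_le 𝒜 ℬ 𝒯 ψ hdeg hψ h0T (r + s) (by omega) hU 𝔮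
    exact this
  · exact Groth.Agent.Lib.Seat91.SegreDim.le_dim 𝒜 ℬ 𝒯 ψ hdeg hposR h0R hposS h0S r s hr hs h1r h1s hU

end Groth.Agent.S18647
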