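import Groth.Statements.S18733
import Mathlib
import Groth.Agent.Lib.Seat92ColonSheaf

set_option autoImplicit false
set_option linter.style.haveILetI false
universe u
open CategoryTheory CategoryTheory.Limits AlgebraicGeometry TopologicalSpace
open ModPair

namespace Groth.Agent.S18733

open Groth.Agent.Lib.Seat92.ColonSheaf

/-- Three effective Cartier ideals are simultaneously principal on small affine opens. -/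
theorem exists_common3 {X : Scheme.{u}} {I₁ I₂ I₃ : X.IdealSheafData}
    (h₁ : BlowUp.IsEffCartierIdeal I₁) (h₂ : BlowUp.IsEffCartierIdeal I₂)
    (h₃ : BlowUp.IsEffCartierIdeal I₃) (x : X) :
    ∃ (U : X.Opens) (hU : IsAffineOpen U), x ∈ U ∧
      ∃ a₁ a₂ a₃ : Γ(X, U), a₁ ∈ nonZeroDivisors Γ(X, U) ∧ a₂ ∈ nonZeroDivisors Γ(X, U) ∧
        a₃ ∈ nonZeroDivisors Γ(X, U) ∧ I₁.ideal ⟨U, hU⟩ = Ideal.span {a₁} ∧
        I₂.ideal ⟨U, hU⟩ = Ideal.span {a₂} ∧ I₃.ideal ⟨U, hU⟩ = Ideal.span {a₃} := by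
  obtain ⟨U₁, hU₁, hxU₁, -, a₁, a₂, ha₁, ha₂, hI₁, hI₂⟩ :=
    Groth.Agent.Lib.Helper20.RelCartier.exists_common h₁ h₂ x ⊤ trivial
  obtain ⟨U, hU, hxU, hUU₁, a₃, ha₃, hI₃⟩ :=
    Groth.Agent.Lib.Helper20.EffCartier.exists_le_of_isEffCartierIdeal h₃ x U₁ hxU₁
  obtain ⟨k1, k2⟩ := Groth.Agent.Lib.Helper20.RelCartier.restrict_span I₁ hU hU₁ hUU₁ a₁ ha₁ hI₁
  obtain ⟨k3, k4⟩ := Groth.Agent.Lib.Helper20.RelCartier.restrict_span I₂ hU hU₁ hUU₁ a₂ ha₂ hI₂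
  exact ⟨U, hU, hxU, _, _, a₃, k1, k3, ha₃, k2, k4, hI₃⟩

/-- An affine open on which `I₁`, `I₂` and `I₁ ⊔ I₂` are principal, generated by
nonzerodivisors. -/
def Good {X : Scheme.{u}} (I₁ I₂ : X.IdealSheafData) (U : X.affineOpens) : Prop :=
  ∃ a₁ a₂ e : Γ(X, U.1),
    a₁ ∈ nonZeroDivisors Γ(X, U.1) ∧ a₂ ∈ nonZeroDivisors Γ(X, U.1) ∧
    e ∈ nonZeroDivisors Γ(X, U.1) ∧ I₁.ideal U = Ideal.span {a₁} ∧ I₂.ideal U = Ideal.span {a₂} ∧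
    (I₁ ⊔ I₂).ideal U = Ideal.span {e}

theorem local_structure {X : Scheme.{u}} (I₁ I₂ : X.IdealSheafData)
    (hfg : ∀ W : X.affineOpens, ((I₁ ⊔ I₂).ideal W).FG) (U : X.affineOpens) (hU : Good I₁ I₂ U) :
    ∃ a₁' a₂' e : Γ(X, U.1),
      a₁' ∈ nonZeroDivisors Γ(X, U.1) ∧ a₂' ∈ nonZeroDivisors Γ(X, U.1) ∧
      I₁.ideal U = Ideal.span {a₁' * e} ∧ I₂.ideal U = Ideal.span {a₂' * e} ∧
      (I₁ ⊔ I₂).ideal U = Ideal.span {e} ∧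
      (colonSheaf I₁ (I₁ ⊔ I₂) hfg).ideal U = Ideal.span {a₁'} ∧
      (colonSheaf I₂ (I₁ ⊔ I₂) hfg).ideal U = Ideal.span {a₂'} ∧
      Ideal.span {a₁'} ⊔ Ideal.span {a₂'} = (⊤ : Ideal Γ(X, U.1)) ∧
      I₁.ideal U ⊓ I₂.ideal U ≤ Ideal.span {a₁' * a₂' * e} := by
  obtain ⟨a₁, a₂, e, ha₁, ha₂, he, e₁, e₂, e₃⟩ := hU
  have hsup : Ideal.span {a₁} ⊔ Ideal.span {a₂} = Ideal.span {e} := by
    rw [← e₁, ← e₂, ← e₃]; rfl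
  obtain ⟨a₁', a₂', r₁, r₂, n₁, n₂, c₁, c₂, ht, hinf⟩ :=
    principal_colon (R := Γ(X, U.1)) a₁ a₂ e ha₁ ha₂ he hsup
  refine ⟨a₁', a₂', e, n₁, n₂, ?_, ?_, e₃, ?_, ?_, ht, ?_⟩
  · rw [← r₁]; exact e₁
  · rw [← r₂]; exact e₂
  · rw [colonSheaf_ideal, e₁, e₃]; exact c₁
  · rw [colonSheaf_ideal, e₂, e₃]; exact c₂
  · rw [e₁, e₂]; exact hinf

/-- Let D₁, D₂ be effective Cartier divisors on a scheme X, with quasi-coherent ideal sheaves I₁, I₂,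
such that the scheme-theoretic intersection E = D₁ ×_X D₂ (ideal sheaf I₁ ⊔ I₂) is again an
effective Cartier divisor. Then (1) the divisors D₁ − E and D₂ − E are effective and disjoint: there
are ideal sheaves I₁', I₂' of effective Cartier divisors with I₁ = I₁'·(I₁ ⊔ I₂), I₂ = I₂'·(I₁ ⊔ I₂)
and I₁' ⊔ I₂' = ⊤; and (2) the effective Cartier divisor D₁ + D₂ − E, with ideal sheaf I₁'·I₂'·(I₁ ⊔
I₂), is contained in every effective Cartier divisor D of X containing D₁ and D₂: if the ideal sheaf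
of D is ≤ I₁ and ≤ I₂ then it is ≤ I₁'·I₂'·(I₁ ⊔ I₂). -/
theorem result {X : Scheme.{u}} (I₁ I₂ : X.IdealSheafData)
    (h₁ : BlowUp.IsEffCartierIdeal I₁) (h₂ : BlowUp.IsEffCartierIdeal I₂)
    (hE : BlowUp.IsEffCartierIdeal (I₁ ⊔ I₂)) :
    ∃ I₁' I₂' : X.IdealSheafData, BlowUp.IsEffCartierIdeal I₁' ∧ BlowUp.IsEffCartierIdeal I₂' ∧
      I₁ = I₁' * (I₁ ⊔ I₂) ∧ I₂ = I₂' * (I₁ ⊔ I₂) ∧ I₁' ⊔ I₂' = ⊤ ∧
      ∀ D : X.IdealSheafData, BlowUp.IsEffCartierIdeal D → D ≤ I₁ → D ≤ I₂ →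
        D ≤ I₁' * I₂' * (I₁ ⊔ I₂) := by
  have hfg := ft_of_isEffCartierIdeal hE
  have hgood : ∀ x : X, ∃ U : X.affineOpens, Good I₁ I₂ U ∧ x ∈ U.1 := by
    intro x
    obtain ⟨U, hU, hxU, a₁, a₂, e, ha₁, ha₂, he, e₁, e₂, e₃⟩ := exists_common3 h₁ h₂ hE x
    exact ⟨⟨U, hU⟩, ⟨a₁, a₂, e, ha₁, ha₂, he, e₁, e₂, e₃⟩, hxU⟩
  have hcov : ⨆ i : {U : X.affineOpens // Good I₁ I₂ U}, (i.1.1 : X.Opens) = ⊤ := by
    rw [eq_top_iff]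
    intro x _
    obtain ⟨U, hU, hx⟩ := hgood x
    exact TopologicalSpace.Opens.mem_iSup.mpr ⟨⟨U, hU⟩, hx⟩
  refine ⟨colonSheaf I₁ (I₁ ⊔ I₂) hfg, colonSheaf I₂ (I₁ ⊔ I₂) hfg, ?_, ?_, ?_, ?_, ?_, ?_⟩
  · intro x
    obtain ⟨U, hU, hx⟩ := hgood x
    obtain ⟨a₁', a₂', e, n₁, n₂, -, -, -, c₁, -, -, -⟩ := local_structure I₁ I₂ hfg U hU
    exact ⟨U, hx, a₁', n₁, c₁⟩
  · intro x
    obtain ⟨U, hU, hx⟩ := hgood x
    obtain ⟨a₁', a₂', e, n₁, n₂, -, -, -, -, c₂, -, -⟩ := local_structure I₁ I₂ hfg U hU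
    exact ⟨U, hx, a₂', n₂, c₂⟩
  · refine Scheme.IdealSheafData.ext_of_iSup_eq_top
      (fun i : {U : X.affineOpens // Good I₁ I₂ U} => i.1) hcov fun i => ?_
    obtain ⟨a₁', a₂', e, -, -, q₁, -, q₃, c₁, -, -, -⟩ := local_structure I₁ I₂ hfg i.1 i.2
    show I₁.ideal i.1 = (colonSheaf I₁ (I₁ ⊔ I₂) hfg).ideal i.1 * (I₁ ⊔ I₂).ideal i.1
    rw [q₁, c₁, q₃, Ideal.span_singleton_mul_span_singleton]
  · refine Scheme.IdealSheafData.ext_of_iSup_eq_top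
      (fun i : {U : X.affineOpens // Good I₁ I₂ U} => i.1) hcov fun i => ?_
    obtain ⟨a₁', a₂', e, -, -, -, q₂, q₃, -, c₂, -, -⟩ := local_structure I₁ I₂ hfg i.1 i.2
    show I₂.ideal i.1 = (colonSheaf I₂ (I₁ ⊔ I₂) hfg).ideal i.1 * (I₁ ⊔ I₂).ideal i.1
    rw [q₂, c₂, q₃, Ideal.span_singleton_mul_span_singleton]
  · refine Scheme.IdealSheafData.ext_of_iSup_eq_top
      (fun i : {U : X.affineOpens // Good I₁ I₂ U} => i.1) hcov fun i => ?_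
    obtain ⟨a₁', a₂', e, -, -, -, -, -, c₁, c₂, ht, -⟩ := local_structure I₁ I₂ hfg i.1 i.2
    show (colonSheaf I₁ (I₁ ⊔ I₂) hfg).ideal i.1 ⊔ (colonSheaf I₂ (I₁ ⊔ I₂) hfg).ideal i.1 = ⊤
    rw [c₁, c₂, ht]
  · intro D _ hD₁ hD₂
    refine Scheme.IdealSheafData.le_of_iSup_eq_top
      (fun i : {U : X.affineOpens // Good I₁ I₂ U} => i.1) hcov fun i => ?_
    obtain ⟨a₁', a₂', e, -, -, -, -, q₃, c₁, c₂, -, hinf⟩ := local_structure I₁ I₂ hfg i.1 i.2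
    show D.ideal i.1 ≤ (colonSheaf I₁ (I₁ ⊔ I₂) hfg).ideal i.1 *
      (colonSheaf I₂ (I₁ ⊔ I₂) hfg).ideal i.1 * (I₁ ⊔ I₂).ideal i.1
    rw [c₁, c₂, q₃, Ideal.span_singleton_mul_span_singleton,
      Ideal.span_singleton_mul_span_singleton]
    exact le_trans (le_inf (hD₁ i.1) (hD₂ i.1)) hinf

end Groth.Agent.S18733
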