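import Groth.Statements.S7382
import Mathlib
import Groth.Agent.Lib.Seat32LimIntegral
import Groth.Agent.S7383

set_option autoImplicit false
universe u
open CategoryTheory AlgebraicGeometry
open Lim

namespace Groth.Agent.S7382

open Groth.Agent.Lib.Seat32

/-- Let `f : X → S` be integral with `S` quasi-compact and quasi-separated. Then, in the category of
schemes over `S`, `X` is the limit of a nonempty directed inverse system of schemes `X_i → S` that
are finite and locally of finite presentation. -/
theorem result {X S : Scheme.{u}} (f : X ⟶ S) [IsIntegralHom f]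
    [CompactSpace S] [QuasiSeparatedSpace S] :
    ∃ (I : Type u) (_ : Preorder I) (_ : IsDirected I (fun a b => a ≤ b)) (_ : Nonempty I)
      (D : Iᵒᵖ ⥤ Over S) (c : Limits.Cone D) (_ : Limits.IsLimit c),
      (∀ i, IsFinite (D.obj i).hom ∧ LocallyOfFinitePresentation (D.obj i).hom) ∧
      Nonempty (c.pt ≅ Over.mk f) := by
  have hX1 : CompactSpace X := QuasiCompact.compactSpace_of_compactSpace f
  have hX2 : QuasiSeparatedSpace X := quasiSeparatedSpace_of_quasiSeparated f
  obtain ⟨I, hI1, hI2, hI3, D, c, hc, hD, haff, ⟨e⟩⟩ := S7383.result f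
  have hint : IsIntegralHom c.pt.hom := by
    have h1 : c.pt.hom = e.hom.left ≫ f := (Over.w e.hom).symm
    rw [h1]
    have h2 : IsIso e.hom.left := (Over.forget S).map_isIso e.hom
    have h3 : IsIntegralHom f := inferInstance
    infer_instance
  obtain ⟨P, hP1, hP2, hP3, E, cE, hcE, hE, hpt⟩ :=
    LimIntegral.exists_pairs_system D c hc hD haff
  exact ⟨P, hP1, hP2, hP3, E, cE, hcE, hE, ⟨eqToIso hpt ≪≫ e⟩⟩

end Groth.Agent.S7382
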