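import Groth.Statements.S1376
import Mathlib
import Groth.Agent.S1377
import Groth.Agent.S7382
import Groth.Agent.S2076
import Groth.Agent.Lib.Seat86FinExt

set_option autoImplicit false
set_option linter.style.haveILetI false
universe u
open FlatMor

namespace Groth.Agent.S1376

open AlgebraicGeometry CategoryTheory Limits in
/-- Let S be quasi-compact and quasi-separated, U a quasi-compact open of S and V → U a surjective
finite morphism. Then there is a surjective finite morphism V' → S whose base change to U is V (V is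
the fibre product of V' and U over S). -/
theorem result {S V : Scheme.{u}} [CompactSpace ↑S] [QuasiSeparatedSpace ↑S] (U : S.Opens) (hU : IsCompact (U : Set ↑S))
    (v : V ⟶ (U : Scheme.{u})) [IsFinite v] [Surjective v] :
    ∃ (V' : Scheme.{u}) (π : V' ⟶ S) (i : V ⟶ V'), Surjective π ∧ IsFinite π ∧ IsPullback i v π U.ι := by
  haveI : CompactSpace ↥(U : Scheme.{u}) := isCompact_iff_compactSpace.mp hU
  haveI : QuasiCompact U.ι := inferInstance
  -- integral extension, then a limit of finite morphisms
  obtain ⟨V₀, π₀, i₀, -, hπ₀int, hpb₀⟩ := Groth.Agent.S1377.result U v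
  obtain ⟨I, _, _, _, D, c, hc, hD, ⟨e⟩⟩ := Groth.Agent.S7382.result π₀
  -- the pullback square through the limit cone point
  have hw : e.inv.left ≫ c.pt.hom = π₀ := Over.w e.inv
  have hpb₁ : IsPullback (i₀ ≫ e.inv.left) v c.pt.hom U.ι := by
    have hr : IsPullback e.inv.left π₀ c.pt.hom (𝟙 S) :=
      IsPullback.of_horiz_isIso ⟨by rw [hw, Category.comp_id]⟩
    have := hpb₀.paste_horiz hr
    rwa [Category.comp_id] at this
  let iso : V ≅ pullback c.pt.hom U.ι := hpb₁.isoPullback
  have hiso_snd : iso.hom ≫ pullback.snd c.pt.hom U.ι = v := hpb₁.isoPullback_hom_snd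
  -- base change the limit to `U`
  let P : Over S ⥤ Over (U : Scheme.{u}) := Over.pullback U.ι
  let DU : Iᵒᵖ ⥤ Over (U : Scheme.{u}) := D ⋙ P
  let cU : Cone DU := P.mapCone c
  have hcU : IsLimit cU := isLimitOfPreserves P hc
  have hfin : ∀ i, IsFinite (DU.obj i).hom := fun i => by
    haveI := (hD i).1
    change IsFinite (pullback.snd (D.obj i).hom U.ι)
    infer_instance
  haveI : ∀ (i j : Iᵒᵖ) (f : i ⟶ j), IsAffineHom (DU.map f).left := fun i j f => by
    haveI := hfin j
    haveI : IsFinite ((DU.map f).left ≫ (DU.obj j).hom) := by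
      rw [Over.w]; exact hfin i
    haveI := IsFinite.of_comp (DU.map f).left (DU.obj j).hom
    infer_instance
  haveI : ∀ i, CompactSpace (DU.obj i).left := fun i => by
    haveI := hfin i
    exact QuasiCompact.compactSpace_of_compactSpace (DU.obj i).hom
  have hsnd : cU.pt.hom = iso.inv ≫ v := by
    change pullback.snd c.pt.hom U.ι = iso.inv ≫ v
    rw [← hiso_snd, Iso.inv_hom_id_assoc]
  haveI : LocallyOfFiniteType (𝟙 cU.pt.left ≫ cU.pt.hom) := by
    rw [Category.id_comp, hsnd]; infer_instance
  obtain ⟨i, hi⟩ := Groth.Agent.S2076.result (↑U) DU cU hcU (𝟙 cU.pt.left)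
  rw [Category.id_comp] at hi
  -- the closed immersion into the stage over `U`
  let k : V ⟶ pullback (D.obj i).hom U.ι := iso.hom ≫ (cU.π.app i).left
  haveI : IsClosedImmersion k := by dsimp only [k]; infer_instance
  have hk : k ≫ pullback.snd (D.obj i).hom U.ι = v := by
    have h1 : (cU.π.app i).left ≫ pullback.snd (D.obj i).hom U.ι = pullback.snd c.pt.hom U.ι :=
      Over.w (cU.π.app i)
    dsimp only [k]
    rw [Category.assoc, h1, hiso_snd]
  have hpb₂ := Groth.Agent.Lib.Seat86.FinExt.isPullback_toImage U v (D.obj i).hom k hk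
  haveI : IsFinite (D.obj i).hom := (hD i).1
  exact Groth.Agent.Lib.Seat86.FinExt.exists_of_isPullback U v _ _ hpb₂

end Groth.Agent.S1376
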