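import Groth.Statements.S18128
import Groth.Agent.Lib.Seat88AcyclicLoc

set_option autoImplicit false
universe u
open CAlg

namespace Groth.Agent.S18128

/-- Local step of Buchsbaum–Eisenbud: let R be a Noetherian local ring with maximal ideal m, and 0 →
R^(n_e) → ⋯ → R^(n_1) → R^(n_0) a complex of finite free modules, the map R^(n_(i+1)) → R^(n_i)
being given by the matrix A i, with 1 ≤ e and e at most the depth of R (there is an R-regular
sequence of length e inside m). If for every prime ideal p ≠ m the complex of matrices over R_p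
obtained by localization is exact at R_p^(n_e), …, R_p^(n_1), then the complex is exact at R^(n_e),
…, R^(n_1). -/
theorem result
    {R : Type u} [CommRing R] [IsLocalRing R] [IsNoetherianRing R]
    (e : ℕ) (he : 1 ≤ e) (n : ℕ → ℕ) (A : (i : ℕ) → Matrix (Fin (n i)) (Fin (n (i + 1))) R)
    (hA : ∀ i, i + 2 ≤ e → A i * A (i + 1) = 0)
    (rs : List R) (hlen : rs.length = e) (hmem : ∀ x ∈ rs, x ∈ IsLocalRing.maximalIdeal R)
    (hreg : RingTheory.Sequence.IsRegular R rs)
    (hloc : ∀ (p : Ideal R) [p.IsPrime], p ≠ IsLocalRing.maximalIdeal R →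
      LinearMap.ker ((A (e - 1)).map (algebraMap R (Localization.AtPrime p))).mulVecLin = ⊥ ∧
        ∀ i, i + 2 ≤ e →
          LinearMap.ker ((A i).map (algebraMap R (Localization.AtPrime p))).mulVecLin =
            LinearMap.range ((A (i + 1)).map (algebraMap R (Localization.AtPrime p))).mulVecLin) :
    LinearMap.ker (A (e - 1)).mulVecLin = ⊥ ∧
      ∀ i, i + 2 ≤ e → LinearMap.ker (A i).mulVecLin = LinearMap.range (A (i + 1)).mulVecLin := by
  classical
  -- the truncated complex
  let d : ∀ i, (Fin (n (i + 1)) → R) →ₗ[R] (Fin (n i) → R) := fun i =>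
    if i + 1 ≤ e then (A i).mulVecLin else 0
  have hd_lt : ∀ i, i + 1 ≤ e → d i = (A i).mulVecLin := fun i hi => by
    show (if i + 1 ≤ e then (A i).mulVecLin else 0) = _
    rw [if_pos hi]
  have hd_ge : ∀ i, ¬ (i + 1 ≤ e) → d i = 0 := fun i hi => by
    show (if i + 1 ≤ e then (A i).mulVecLin else 0) = _
    rw [if_neg hi]
  have hd : ∀ i, d i ∘ₗ d (i + 1) = 0 := by
    intro i
    by_cases hi : i + 2 ≤ e
    · rw [hd_lt i (by omega), hd_lt (i + 1) (by omega), ← Matrix.mulVecLin_mul, hA i hi]
      ext v j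
      simp
    · rw [hd_ge (i + 1) (by omega), LinearMap.comp_zero]
  have hvan : ∀ i, rs.length ≤ i → d i = 0 := fun i hi => hd_ge i (by omega)
  have hreg' : ∀ i, RingTheory.Sequence.IsWeaklyRegular (Fin (n i) → R) rs := fun i =>
    ((TensorProduct.rid R (Fin (n i) → R)).isWeaklyRegular_congr rs).mp
      (hreg.toIsWeaklyRegular.isWeaklyRegular_lTensor (M₂ := Fin (n i) → R))
  -- a zero matrix, used for the top degree
  have htors : ∀ i, i < rs.length → ∀ z ∈ LinearMap.ker (d i), ∀ x ∈ rs,
      ∃ N : ℕ, x ^ N • z ∈ LinearMap.range (d (i + 1)) := by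
    intro i hi z hz x hx
    rw [hlen] at hi
    rw [hd_lt i (by omega)] at hz
    apply Groth.Agent.Lib.Seat88.AcyclicLoc.exists_pow_smul_mem
    intro p hp hxp
    have hpm : p ≠ IsLocalRing.maximalIdeal R := by
      rintro rfl
      exact hxp (hmem x hx)
    obtain ⟨htop, hmid⟩ := hloc p hpm
    by_cases hi2 : i + 2 ≤ e
    · rw [hd_lt (i + 1) (by omega)]
      exact Groth.Agent.Lib.Seat88.AcyclicLoc.exists_smul_mem_range_of_loc (A i) (A (i + 1)) p
        (le_of_eq (hmid i hi2)) z hz
    · rw [hd_ge (i + 1) (by omega)]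
      have hie : i = e - 1 := by omega
      subst hie
      have := Groth.Agent.Lib.Seat88.AcyclicLoc.exists_smul_mem_range_of_loc (A (e - 1))
        (0 : Matrix (Fin (n (e - 1 + 1))) (Fin 0) R) p (by rw [htop]; exact bot_le) z hz
      obtain ⟨s, hs, hsz⟩ := this
      refine ⟨s, hs, ?_⟩
      obtain ⟨w, hw⟩ := hsz
      rw [← hw]
      simp
  have key := Groth.Agent.Lib.Seat88.Acyclic.exact_of_torsion rs
    (fun i => Fin (n i) → R) d hd hvan hreg' htors
  refine ⟨?_, fun i hi => ?_⟩
  · have := key (e - 1) (by omega)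
    rw [hd_lt (e - 1) (by omega), hd_ge (e - 1 + 1) (by omega)] at this
    rw [this]
    exact LinearMap.range_zero
  · have := key i (by omega)
    rwa [hd_lt i (by omega), hd_lt (i + 1) (by omega)] at this

end Groth.Agent.S18128
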