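import Groth.Statements.S1851
import Groth.Agent.Lib.Seat9KeyM
import Groth.Agent.S1836

set_option autoImplicit false
universe u
open CycAlg

namespace Groth.Agent.S1851

/-- The key lemma for nonzerodivisors; a low-degree case of the Gersten complex for Milnor K-theory: let
A be a Noetherian local ring of dimension 2 and a, b nonzerodivisors. Then the sum over the
height-one primes 𝔮 of A of ord_{A/𝔮}(∂_{A_𝔮}(a, b)) is zero, where ∂_{A_𝔮} is the tame symbol of
the one-dimensional local ring A_𝔮 with values in κ(𝔮) = Frac(A/𝔮) (only finitely many terms are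
nonzero). -/
theorem result (A : Type u) [CommRing A] [IsNoetherianRing A] [IsLocalRing A] (hA : ringKrullDim A = 2) (a b : A) (ha : a ∈ nonZeroDivisors A) (hb : b ∈ nonZeroDivisors A) : ∑ᶠ (q : PrimeSpectrum A) (_ : q.asIdeal.height = 1), CycAlg.ordFrac (A ⧸ q.asIdeal) q.asIdeal.ResidueField (CycAlg.tameSymbol (Localization.AtPrime q.asIdeal) (algebraMap A (Localization.AtPrime q.asIdeal) a) (algebraMap A (Localization.AtPrime q.asIdeal) b)) = 0 := by
  classical
  open Groth.Agent.Lib.Seat9.KeyK Groth.Agent.Lib.Seat9.KeyM Groth.Agent.Lib.Seat9.KeyG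
    Groth.Agent.Lib.Seat9.Tame Groth.Agent.Lib.Seat9.GlueH1 in
  have ht : a * b ∈ nonZeroDivisors A := mul_mem ha hb
  have hfin := finite_QQ (a * b) ht
  haveI : Finite ↥(QQ (a * b)) := hfin.to_subtype
  obtain ⟨r, ⟨e⟩⟩ := Finite.exists_equiv_fin ↥(QQ (a * b))
  let q : Fin r → Ideal A := fun i => (e.symm i).1.asIdeal
  haveI hq : ∀ i, (q i).IsPrime := fun i => (e.symm i).1.2
  have hq1 : ∀ i, (q i).height = 1 := fun i => (e.symm i).2.1
  have htq : ∀ i, a * b ∈ q i := fun i => (e.symm i).2.2
  have hinj : Function.Injective q := by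
    intro i j h
    have : e.symm i = e.symm j := Subtype.ext (PrimeSpectrum.ext h)
    exact e.symm.injective this
  have hallA : ∀ p : Ideal A, p.IsPrime → p.height = 1 → a * b ∈ p → ∃ i, p = q i := by
    intro p hp hp1 hp2
    refine ⟨e ⟨⟨p, hp⟩, ⟨hp1, hp2⟩⟩, ?_⟩
    show p = (e.symm (e ⟨⟨p, hp⟩, ⟨hp1, hp2⟩⟩)).1.asIdeal
    rw [Equiv.symm_apply_apply]
  have hqm : ∀ i, q i ≠ IsLocalRing.maximalIdeal A := fun i => q_ne_maximalIdeal q hA hq1 i
  have hdimS : ∀ i, ringKrullDim (Localization.AtPrime (q i)) = 1 := by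
    intro i
    rw [IsLocalization.AtPrime.ringKrullDim_eq_height (q i) (Localization.AtPrime (q i)), hq1 i]
    rfl
  have hD : ∀ i, Nonempty (TameData (Localization.AtPrime (q i))
      (algebraMap A (Localization.AtPrime (q i)) a)
      (algebraMap A (Localization.AtPrime (q i)) b)) := by
    intro i
    have hex : Ex1836 (Localization.AtPrime (q i)) := fun r hr x hx hna =>
      Groth.Agent.S1836.result _ (hdimS i) r hr x hx hna
    have ha' : algebraMap A (Localization.AtPrime (q i)) a ∈
        nonZeroDivisors (Localization.AtPrime (q i)) :=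
      IsLocalization.map_nonZeroDivisors_le (q i).primeCompl _ (Submonoid.mem_map_of_mem _ ha)
    have hb' : algebraMap A (Localization.AtPrime (q i)) b ∈
        nonZeroDivisors (Localization.AtPrime (q i)) :=
      IsLocalization.map_nonZeroDivisors_le (q i).primeCompl _ (Submonoid.mem_map_of_mem _ hb)
    obtain ⟨M⟩ := exists_monoData hex 2 le_rfl
      ![algebraMap A (Localization.AtPrime (q i)) a, algebraMap A (Localization.AtPrime (q i)) b]
      (by
        intro k; fin_cases k
        · exact ha'
        · exact hb')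
    exact ⟨tame (Pres.ofIdx M 0) (Pres.ofIdx M 1)⟩
  exact key_of_data hA a b ha hb q hinj hq1 htq hallA (fun i => Classical.choice (hD i))

end Groth.Agent.S1851
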