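import Groth.Statements.S0820
import Groth.Agent.Lib.Seat21DevFinPush
import Groth.Agent.Lib.Helper6EquiSubB
import Groth.Agent.Lib.Helper10RedInd

set_option autoImplicit false
universe u
open Coherent

namespace Groth.Agent.S0820

open CategoryTheory AlgebraicGeometry in
/-- Let f : Y → X be finite and surjective with X locally Noetherian, and let i : Z → X be a closed
immersion from an integral scheme, ξ the image of the generic point of Z. Then some coherent
O_Y-module F has f_* F supported exactly on i(Z), with the stalk of f_* F at ξ killed by every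
element of 𝔪_{X,ξ}, the maximal ideal of O_{X,ξ}. -/
theorem result {Y X : Scheme.{u}} (f : Y ⟶ X) [IsFinite f]
    [Surjective f] [IsLocallyNoetherian X] (Z : Scheme.{u}) (i : Z ⟶ X) [IsClosedImmersion i] [IsIntegral Z] :
    ∃ F : Y.Modules, Coh.IsCoh F ∧ CohB1.support ((Coh.push f).obj F) = Set.range ⇑i ∧
      ∀ a ∈ IsLocalRing.maximalIdeal (X.presheaf.stalk (i (genericPoint Z))),
        ∀ m : ↑(((Coh.push f).obj F).presheaf.stalk (i (genericPoint Z))), a • m = 0 := by
  classical
  obtain ⟨η, hη⟩ := f.surjective (i (genericPoint Z))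
  let Wc : TopologicalSpace.Closeds Y := ⟨closure {η}, isClosed_closure⟩
  have hred : IsReduced (Scheme.IdealSheafData.vanishingIdeal Wc).subscheme :=
    Groth.Agent.Lib.Helper10.RedInd.isReduced_subscheme_vanishingIdeal Wc
  have hrj : Set.range ⇑(Scheme.IdealSheafData.vanishingIdeal Wc).subschemeι = closure {η} :=
    Groth.Agent.Lib.Helper6.EquiSub.range_subschemeι_vanishingIdeal Wc
  have hcl : IsClosedMap ⇑f := f.isClosedMap
  have himg : f '' closure {η} = closure {i (genericPoint Z)} := by
    rw [← hcl.closure_image_eq_of_continuous f.continuous, Set.image_singleton, hη]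
  have hri : Set.range ⇑i = closure {i (genericPoint Z)} := by
    have h1 : closure {genericPoint Z} = (Set.univ : Set Z) := (genericPoint_spec Z).def
    rw [← Set.image_univ, ← h1, ← i.isClosedEmbedding.isClosedMap.closure_image_eq_of_continuous i.continuous,
      Set.image_singleton]
  refine ⟨ClSub.quotMod (Scheme.IdealSheafData.vanishingIdeal Wc),
    Groth.Agent.Lib.Seat21.Dev.isCoh_quotMod _, ?_, ?_⟩
  · rw [Groth.Agent.Lib.Seat21.Dev.support_push_quotMod f _ hcl, hrj, himg, hri]
  · have hk := Groth.Agent.Lib.Seat21.Dev.killedByIdeal_push_quotMod f (Scheme.IdealSheafData.vanishingIdeal Wc)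
      (C := closure {i (genericPoint Z)}) isClosed_closure
      (fun w => himg ▸ ⟨_, hrj ▸ Set.mem_range_self w, rfl⟩)
    exact fun a ha m =>
      Groth.Agent.Lib.Seat21.Dev.maximalIdeal_smul_eq_zero_of_killedByIdeal isClosed_closure rfl hk a ha m

end Groth.Agent.S0820
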