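import Groth.Statements.S0021
import Groth.Agent.Lib.Seat21DevChev
import Groth.Agent.Lib.Helper6EquiSubB
import Groth.Agent.Lib.Helper10RedInd
import Groth.Agent.S0820
import Groth.Agent.S0014

set_option autoImplicit false
universe u
open Coherent

namespace Groth.Agent.S0021

open AlgebraicGeometry in
/-- Let f : Y → X be finite and surjective with Y affine and X Noetherian. Then X is affine. -/
theorem result {Y X : Scheme.{u}} (f : Y ⟶ X) [IsFinite f]
    [Surjective f] [IsAffine Y] [IsNoetherian X] : IsAffine X := by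
  classical
  let P : X.Modules → Prop := fun M => Subsingleton (Coh.HH X M 1)
  have hyp : Groth.Agent.Lib.Seat21.Dev.HypE P Set.univ :=
    ⟨fun M N ⟨e⟩ h => Groth.Agent.Lib.Seat21.Dev.subsingleton_HH_of_iso e 1 h,
      fun M hM => Groth.Agent.Lib.Seat21.Dev.subsingleton_HH_of_isZero hM 1,
      fun S hS _ _ _ _ h1 h3 => Groth.Agent.Lib.Seat21.Dev.subsingleton_HH_mid S hS 1 h1 h3⟩
  have hroot : ∀ (F : X.Modules) (n : ℕ), Coh.IsCoh F → P (Groth.Agent.Lib.Seat21.Dev.pw F n) → P F :=
    fun F n _ h => Groth.Agent.Lib.Seat21.Dev.subsingleton_HH_of_retract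
      (Groth.Agent.Lib.Seat21.Dev.pwι F n) (Groth.Agent.Lib.Seat21.Dev.pwπ F n)
      (Groth.Agent.Lib.Seat21.Dev.pwι_π F n) 1 h
  have key : ∀ F : X.Modules, Coh.IsCoh F → P F := by
    intro F hF
    refine Groth.Agent.Lib.Seat21.Dev.coreE hyp isClosed_univ ?_ F hF (Set.subset_univ _)
    intro Z hZ _ _ y hy hIH F' hF' hF'Z hkill
    let Zc : TopologicalSpace.Closeds X := ⟨Z, hZ⟩
    have : IrreducibleSpace ↥(Scheme.IdealSheafData.vanishingIdeal Zc).subscheme :=
      Groth.Agent.Lib.Helper6.EquiSub.irreducibleSpace_subscheme Zc y hy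
    have : IsReduced (Scheme.IdealSheafData.vanishingIdeal Zc).subscheme :=
      Groth.Agent.Lib.Helper10.RedInd.isReduced_subscheme_vanishingIdeal Zc
    have : IsIntegral (Scheme.IdealSheafData.vanishingIdeal Zc).subscheme :=
      isIntegral_of_irreducibleSpace_of_isReduced _
    have hr : Set.range ⇑(Scheme.IdealSheafData.vanishingIdeal Zc).subschemeι = Z :=
      Groth.Agent.Lib.Helper6.EquiSub.range_subschemeι_vanishingIdeal Zc
    have hgp : (Scheme.IdealSheafData.vanishingIdeal Zc).subschemeι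
        (genericPoint ↥(Scheme.IdealSheafData.vanishingIdeal Zc).subscheme) = y :=
      Groth.Agent.Lib.Helper6.EquiSub.subschemeι_genericPoint Zc y hy
    obtain ⟨F₀, hF₀, hsupp, hk⟩ := Groth.Agent.S0820.result f _ (Scheme.IdealSheafData.vanishingIdeal Zc).subschemeι
    rw [hgp] at hk
    rw [hr] at hsupp
    have := hF₀.1
    have hyZ : y ∈ Z := hy ▸ subset_closure (Set.mem_singleton y)
    refine Groth.Agent.Lib.Seat21.Dev.K_of_killed_summand hyp hroot (Set.subset_univ Z) hIH
      ((Scheme.Modules.pushforward f).obj F₀) (Groth.Agent.Lib.Seat21.Dev.isCoh_pushforward_of_isFinite f F₀ hF₀)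
      hsupp.le (hsupp ▸ hyZ) (fun r hr a => hk r hr a) ?_ F' hF' hF'Z hkill
    intro J hJ
    exact ⟨Groth.Agent.Lib.Seat21.Dev.pushMul f J F₀, Groth.Agent.Lib.Seat21.Dev.pushMulι f J F₀, inferInstance,
      Groth.Agent.Lib.Seat21.Dev.isCoh_pushMul f J F₀ hF₀,
      fun T t => Groth.Agent.Lib.Seat21.Dev.pushMulι_app_mem f J F₀ T t,
      Groth.Agent.Lib.Seat21.Dev.sm_pushMulι_bijective f J F₀ y hJ,
      Groth.Agent.Lib.Seat21.Dev.subsingleton_HH_pushMul f J F₀ 1 Nat.one_pos⟩
  refine Groth.Agent.S0014.result X ?_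
  intro I i hi hIq _
  have := hi
  have hIq' : I.IsQuasicoherent := hIq
  have hO := Groth.Agent.Lib.Seat21.Dev.isCoh_structureModule X
  exact key I (Groth.Agent.Lib.Seat21.Dev.isCoh_of_mono i hIq' hO)

end Groth.Agent.S0021
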