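import Groth.Statements.S0027
import Groth.Agent.Lib.Seat21DevTF
import Groth.Agent.Lib.Seat21DevIdeal

set_option autoImplicit false
universe u
open Coherent

namespace Groth.Agent.S0027

open AlgebraicGeometry CategoryTheory CategoryTheory.Limits in
/-- Let X be a nonempty Noetherian scheme and P an isomorphism-invariant property of O_X-modules such
that (1) in a short exact sequence of coherent modules, P for the two outer terms implies P for the
middle term, and (2) P holds for the direct image of every quasi-coherent ideal sheaf of every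
integral closed subscheme of X. Then P holds for every coherent O_X-module. (Nonemptiness of X is
needed for the zero module; the published statement leaves it implicit.) -/
theorem result (X : Scheme.{u}) [IsNoetherian X] [Nonempty X]
    (P : X.Modules → Prop) (hP : ∀ M N : X.Modules, Nonempty (M ≅ N) → P M → P N)
    (h₁ : ∀ S : ShortComplex X.Modules, S.ShortExact → Coh.IsCoh S.X₁ → Coh.IsCoh S.X₂ →
      Coh.IsCoh S.X₃ → P S.X₁ → P S.X₃ → P S.X₂)
    (h₂ : ∀ (Z : Scheme.{u}) (i : Z ⟶ X), IsClosedImmersion i → IsIntegral Z →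
      ∀ (I : Z.Modules) (ι : I ⟶ Coh.structureModule Z), Mono ι → Coh.IsQCoh I →
        P ((Coh.push i).obj I))
    (M : X.Modules) (hM : Coh.IsCoh M) : P M := by
  classical
  -- coherent subobjects of `i_* O_Z`, `Z` integral closed
  have hideal : ∀ (Z : Set X) (hZ : IsClosed Z) (y : X), closure {y} = Z →
      ∀ (N : X.Modules) (j : N ⟶ ClSub.quotMod (Scheme.IdealSheafData.vanishingIdeal ⟨Z, hZ⟩)),
        Mono j → Coh.IsCoh N → P N := by
    intro Z hZ y hy N j hj hN
    let Zc : TopologicalSpace.Closeds X := ⟨Z, hZ⟩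
    have : IrreducibleSpace ↥(Scheme.IdealSheafData.vanishingIdeal Zc).subscheme :=
      Groth.Agent.Lib.Helper6.EquiSub.irreducibleSpace_subscheme Zc y hy
    have : IsReduced (Scheme.IdealSheafData.vanishingIdeal Zc).subscheme :=
      Groth.Agent.Lib.Helper10.RedInd.isReduced_subscheme_vanishingIdeal Zc
    have hint : IsIntegral (Scheme.IdealSheafData.vanishingIdeal Zc).subscheme :=
      isIntegral_of_irreducibleSpace_of_isReduced _
    have := hN.1
    have := hj
    obtain ⟨I, ι, hι, hIq, ⟨e⟩⟩ := Groth.Agent.Lib.Seat21.Dev.exists_ideal_of_mono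
      (Scheme.IdealSheafData.vanishingIdeal Zc).subschemeι N j
    exact hP _ _ ⟨e⟩ (h₂ _ (Scheme.IdealSheafData.vanishingIdeal Zc).subschemeι inferInstance hint I ι hι hIq)
  -- zero modules
  have hzero : ∀ M : X.Modules, IsZero M → P M := by
    intro M hM0
    obtain ⟨x⟩ := (inferInstance : Nonempty X)
    have hG := Groth.Agent.Lib.Seat21.Dev.isCoh_quotMod
      (Scheme.IdealSheafData.vanishingIdeal ⟨closure {x}, isClosed_closure⟩)
    have hk : Coh.IsCoh (kernel (𝟙 (ClSub.quotMod
        (Scheme.IdealSheafData.vanishingIdeal ⟨closure {x}, isClosed_closure⟩)))) :=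
      Groth.Agent.Lib.Seat21.Dev.isCoh_kernel hG hG _
    have h3 := hideal (closure {x}) isClosed_closure x rfl _ (kernel.ι (𝟙 _)) inferInstance hk
    have hz : IsZero (kernel (𝟙 (ClSub.quotMod
        (Scheme.IdealSheafData.vanishingIdeal ⟨closure {x}, isClosed_closure⟩)))) :=
      isZero_kernel_of_mono _
    exact hP _ _ ⟨hz.iso hM0⟩ h3
  have hyp : Groth.Agent.Lib.Seat21.Dev.HypE P Set.univ :=
    ⟨hP, hzero, fun S hS h1 h2 h3 _ => h₁ S hS h1 h2 h3⟩
  refine Groth.Agent.Lib.Seat21.Dev.coreE hyp isClosed_univ ?_ M hM (Set.subset_univ _)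
  intro Z hZ _ _ y hy hIH F hF hFZ hkill
  have hr : Set.range ⇑(Scheme.IdealSheafData.vanishingIdeal ⟨Z, hZ⟩).subschemeι = Z :=
    Groth.Agent.Lib.Helper6.EquiSub.range_subschemeι_vanishingIdeal ⟨Z, hZ⟩
  exact Groth.Agent.Lib.Seat21.Dev.K_of_killed hyp (Set.subset_univ Z) hIH
    (ClSub.quotMod (Scheme.IdealSheafData.vanishingIdeal ⟨Z, hZ⟩))
    (Groth.Agent.Lib.Seat21.Dev.isCoh_quotMod _)
    ((Groth.Agent.Lib.Seat21.Dev.support_quotMod_subset _).trans hr.le)
    (Groth.Agent.Lib.Seat21.Dev.rankOne_quotMod hZ hy)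
    (Groth.Agent.Lib.Seat21.Dev.torsionFreeAt_quotMod hZ hy)
    (hideal Z hZ y hy) F hF hFZ hkill

end Groth.Agent.S0027
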