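import Groth.Statements.S0026
import Groth.Agent.Lib.Seat21DevFilt
import Groth.Agent.S0027

set_option autoImplicit false
universe u
open Coherent

namespace Groth.Agent.S0026

open AlgebraicGeometry CategoryTheory CategoryTheory.Limits in
/-- On a Noetherian scheme X, every coherent module M admits a finite chain 0 = F_0 → F_1 → … → F_m ≅ M
of monomorphisms between coherent modules such that each quotient F_{j+1}/F_j is isomorphic to the
direct image of a nonzero quasi-coherent ideal sheaf of some integral closed subscheme Z_j → X.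
(Filtration written as a chain of monomorphisms up to isomorphism.) -/
theorem result (X : Scheme.{u}) [IsNoetherian X]
    (M : X.Modules) (hM : Coh.IsCoh M) :
    ∃ (m : ℕ) (F : ℕ → X.Modules) (φ : (j : ℕ) → (F j ⟶ F (j + 1))),
      IsZero (F 0) ∧ Nonempty (F m ≅ M) ∧ (∀ j ≤ m, Coh.IsCoh (F j)) ∧ ∀ j < m, Mono (φ j) ∧
        ∃ (Z : Scheme.{u}) (i : Z ⟶ X), IsClosedImmersion i ∧ IsIntegral Z ∧
          ∃ (I : Z.Modules) (ι : I ⟶ Coh.structureModule Z), Mono ι ∧ Coh.IsQCoh I ∧ ¬ IsZero I ∧
            Nonempty (cokernel (φ j) ≅ (Coh.push i).obj I) := by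
  classical
  have hfilt : Groth.Agent.Lib.Seat21.Dev.Filt M := by
    by_cases hX : Nonempty X
    · have := hX
      refine Groth.Agent.S0027.result X Groth.Agent.Lib.Seat21.Dev.Filt (fun M N ⟨e⟩ h => h.of_iso e)
        (fun S hS h1 h2 _ hA hC => Groth.Agent.Lib.Seat21.Dev.Filt.ext hC S.f S.g S.zero hS h1 h2 hA) ?_ M hM
      intro Z i hi hZ I ι hι hIq
      have := hi
      have := hι
      by_cases hI0 : IsZero I
      · exact Groth.Agent.Lib.Seat21.Dev.Filt.zero _ ((Coh.push i).map_isZero hI0)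
      · have : IsLocallyNoetherian Z := LocallyOfFiniteType.isLocallyNoetherian i
        have hIq' : I.IsQuasicoherent := hIq
        have : (Coh.structureModule Z).IsQuasicoherent :=
          Groth.Agent.Lib.Helper20.OmegaAff.isQuasicoherent_structureModule
        have := (Groth.Agent.Lib.Seat21.Dev.isCoh_structureModule Z).2
        have hIc : Coh.IsCoh I := ⟨hIq, Groth.Agent.Lib.Helper23.FinType.isFiniteType_of_mono ι⟩
        have hpush : Coh.IsCoh ((Coh.push i).obj I) := Groth.Agent.Lib.Seat21.Dev.isCoh_push i hIc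
        exact Groth.Agent.Lib.Seat21.Dev.Filt.of_isIdealPush hpush
          ⟨Z, i, hi, hZ, I, ι, hι, hIq, hI0, ⟨Iso.refl _⟩⟩
    · refine Groth.Agent.Lib.Seat21.Dev.Filt.zero M
        (Groth.Agent.Lib.Seat21.Dev.isZero_of_support_subset_empty M fun x _ => (hX ⟨x⟩).elim)
  obtain ⟨m, F, φ, h0, hm, hcoh, hstep⟩ := hfilt.exists_chain
  exact ⟨m, F, φ, h0, hm, hcoh, hstep⟩

end Groth.Agent.S0026
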