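import Groth.Statements.S0037
import Groth.Agent.S0854
import Groth.Agent.S0028

set_option autoImplicit false
universe u
open Coherent

namespace Groth.Agent.S0037

open AlgebraicGeometry CategoryTheory in
/-- Let Y be locally Noetherian, f : X → Y proper and y a point whose fibre f⁻¹{y} is finite. Then for
every coherent F on X and every p > 0 the stalk of R^p f_* F at y vanishes. -/
theorem result {X Y : Scheme.{u}} (f : X ⟶ Y) [IsProper f]
    [IsLocallyNoetherian Y] (y : Y) (hy : (f.base ⁻¹' {y}).Finite) (M : X.Modules) (hM : Coh.IsCoh M)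
    (p : ℕ) (hp : 0 < p) :
    Limits.IsZero (TopCat.Presheaf.stalk ((Coh.RpushAb f p).obj (Coh.toAb M)).obj y) := by
  obtain ⟨V, hyV, hfin⟩ := exists_isFinite_morphismRestrict_of_finite_preimage_singleton f y hy
  have hq : M.IsQuasicoherent := hM.1
  have hqr : Coh.IsQCoh (M.restrict (f ⁻¹ᵁ V).ι) :=
    Scheme.Modules.isQuasicoherent_restrictFunctor (f ⁻¹ᵁ V).ι M
  have hz := Groth.Agent.S0028.result (f ∣_ V) (M.restrict (f ⁻¹ᵁ V).ι) p hp
  obtain ⟨e⟩ := Groth.Agent.S0854.result f.base (Coh.toAb M) V p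
  -- the two restricted maps agree
  have key : ∀ (g g' : TopCat.of ↥((TopologicalSpace.Opens.map f.base).obj V) ⟶ TopCat.of ↥V) (_ : g = g')
      (N : CohTop.Ab (TopCat.of ↥((TopologicalSpace.Opens.map f.base).obj V))),
      Limits.IsZero ((CohTop.Rpush g p).obj N) → Limits.IsZero ((CohTop.Rpush g' p).obj N) := by
    rintro g _ rfl N h
    exact h
  have hbase : (f ∣_ V).base = (TopCat.ofHom ⟨(V : Set Y).restrictPreimage f.base,
      f.base.hom.continuous.restrictPreimage⟩ :
        TopCat.of ↥((TopologicalSpace.Opens.map f.base).obj V) ⟶ TopCat.of ↥V) := by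
    ext x
    exact Subtype.ext (morphismRestrict_base_coe f V x)
  have hz' := key _ _ hbase (CohTop.restr (Coh.toAb M) ((TopologicalSpace.Opens.map f.base).obj V)) hz
  have hz'' : Limits.IsZero (CohTop.restr ((CohTop.Rpush f.base p).obj (Coh.toAb M)) V) := hz'.of_iso e
  -- sections of the restriction vanish
  have hsub : ∀ W : TopologicalSpace.Opens ↥V,
      Subsingleton ((CohTop.restr ((CohTop.Rpush f.base p).obj (Coh.toAb M)) V).obj.obj (Opposite.op W)) := by
    intro W
    have h0 : 𝟙 (CohTop.restr ((CohTop.Rpush f.base p).obj (Coh.toAb M)) V) = 0 := hz''.eq_of_src _ _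
    have h1 : ∀ a : (CohTop.restr ((CohTop.Rpush f.base p).obj (Coh.toAb M)) V).obj.obj (Opposite.op W), a = 0 := by
      intro a
      have h2 := congrArg (fun φ => (φ.hom.app (Opposite.op W)) a) h0
      exact h2
    exact ⟨fun a b => (h1 a).trans (h1 b).symm⟩
  have hzero : ∀ c : ↑(TopCat.Presheaf.stalk ((Coh.RpushAb f p).obj (Coh.toAb M)).obj y), c = 0 := by
    intro c
    obtain ⟨W, hyW, s, rfl⟩ := TopCat.Presheaf.exists_germ_eq ((Coh.RpushAb f p).obj (Coh.toAb M)).obj c
    let W'' : TopologicalSpace.Opens ↥V := (TopologicalSpace.Opens.map (TopCat.ofHom ⟨_, continuous_subtype_val⟩ :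
      TopCat.of ↥V ⟶ Y.toTopCat)).obj W
    let I : TopologicalSpace.Opens Y := (V.isOpenEmbedding.isOpenMap.functor).obj W''
    have hIW : I ≤ W := by
      rintro _ ⟨x, hx, rfl⟩
      exact hx
    have hyI : y ∈ I := ⟨⟨y, hyV⟩, hyW, rfl⟩
    have h3 := TopCat.Presheaf.germ_res_apply ((Coh.RpushAb f p).obj (Coh.toAb M)).obj (homOfLE hIW) y hyI s
    rw [← h3]
    have h4 : (((Coh.RpushAb f p).obj (Coh.toAb M)).obj.map (homOfLE hIW).op) s = 0 :=
      @Subsingleton.elim _ (hsub W'') _ _
    rw [h4, map_zero]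
  have hss : Subsingleton ↑(TopCat.Presheaf.stalk ((Coh.RpushAb f p).obj (Coh.toAb M)).obj y) :=
    ⟨fun a b => (hzero a).trans (hzero b).symm⟩
  exact AddCommGrpCat.isZero_of_subsingleton _

end Groth.Agent.S0037
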