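import Groth.Statements.S0060
import Groth.Agent.Lib.Seat54HomFF

set_option autoImplicit false
universe u
open Coherent

namespace Groth.Agent.S0060

open AlgebraicGeometry CategoryTheory Opposite in
/-- Let A be Noetherian and complete for I and X proper over Spec A. For coherent O_X-modules M, N,
every morphism of inverse systems (M/I^nM) → (N/I^nN) is induced by a unique morphism M → N; that
is, the completion functor is fully faithful on coherent modules. -/
theorem result (A : Type u) [CommRing A] [IsNoetherianRing A]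
    (I : Ideal A) [IsAdicComplete I A] (X : Scheme.{u}) [X.Over (Spec (CommRingCat.of A))]
    [IsProper (X ↘ Spec (CommRingCat.of A))] (M N : X.Modules) (hM : Coh.IsCoh M) (hN : Coh.IsCoh N)
    (τ : Formal.completion I M ⟶ Formal.completion I N) :
    ∃! φ : M ⟶ N, ∀ n : ℕ, Formal.modPowπ I (n + 1) M ≫ τ.app (op n) = φ ≫ Formal.modPowπ I (n + 1) N := by
  have hlN : IsLocallyNoetherian X :=
    LocallyOfFiniteType.isLocallyNoetherian (X ↘ Spec (CommRingCat.of A))
  have hcpt : CompactSpace X :=
    (quasiCompact_iff_compactSpace (X ↘ Spec (CommRingCat.of A))).1 inferInstance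
  have : IsNoetherian X := {}
  have hcl : IsClosed (CohB1.support M ∩ CohB1.support N) :=
    (Groth.Agent.S0020.result X M hM.2).inter (Groth.Agent.S0020.result X N hN.2)
  have hs : ClSub.IsProperOver (X ↘ Spec (CommRingCat.of A)) (CohB1.support M ∩ CohB1.support N) :=
    ⟨hcl, inferInstance⟩
  have htr : ∀ (P : X.Modules) (n : ℕ), (Formal.completion I P).map (homOfLE (Nat.le_succ n)).op =
      Formal.modPowTrans I (n + 1) P := fun P n => Functor.ofOpSequence_map_homOfLE_succ _ n
  have hy : ∀ n : ℕ, (Formal.modPowπ I (n + 1 + 1) M ≫ τ.app (op (n + 1))) ≫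
      Groth.Agent.Lib.Seat54.FFQuot.qLE (Ideal.pow_le_pow_right (Nat.le_succ (n + 1))) N =
      Formal.modPowπ I (n + 1) M ≫ τ.app (op n) := by
    intro n
    have h1 := τ.naturality (homOfLE (Nat.le_succ n)).op
    rw [htr, htr] at h1
    have h2 : τ.app (op (n + 1)) ≫ Formal.modPowTrans I (n + 1) N =
        Formal.modPowTrans I (n + 1) M ≫ τ.app (op n) := h1.symm
    have h3 : Formal.modPowπ I (n + 1 + 1) M ≫ τ.app (op (n + 1)) ≫ Formal.modPowTrans I (n + 1) N =
        Formal.modPowπ I (n + 1 + 1) M ≫ Formal.modPowTrans I (n + 1) M ≫ τ.app (op n) :=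
      congrArg (fun k => Formal.modPowπ I (n + 1 + 1) M ≫ k) h2
    have h4 : Formal.modPowπ I (n + 1 + 1) M ≫ Formal.modPowTrans I (n + 1) M ≫ τ.app (op n) =
        Formal.modPowπ I (n + 1) M ≫ τ.app (op n) :=
      (Category.assoc _ _ _).symm.trans
        (congrArg (fun k => k ≫ τ.app (op n)) (Formal.modPowπ_trans I (n + 1) M))
    exact (Category.assoc _ _ _).trans (h3.trans h4)
  obtain ⟨φ, hφ, huniq⟩ := Groth.Agent.Lib.Seat54.HomFF.existsUnique_hom_of_compat I M N hM hN hs
    (fun n => Formal.modPowπ I (n + 1) M ≫ τ.app (op n)) hy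
  exact ⟨φ, fun n => (hφ n).symm, fun φ' hφ' => huniq φ' (fun n => (hφ' n).symm)⟩

end Groth.Agent.S0060
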