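import Groth.Statements.S0067
import Groth.Agent.Lib.Seat3ClosedPush
-- import your own Groth.Agent.* helpers here

set_option autoImplicit false
open CategoryTheory CategoryTheory.Limits AlgebraicGeometry Opposite
universe u
open EtBase

namespace Groth.Agent.S0067

/-- Part (2), first half — pushforward of abelian étale sheaves along a closed immersion is fully
faithful. -/
theorem result {Z X : Scheme.{u}} (i : Z ⟶ X) [IsClosedImmersion i] [EtCoh.BCCont i] :
    (EtCoh.push i).Full ∧ (EtCoh.push i).Faithful := by
  haveI : IsIso (EtCoh.pullPushAdj i).counit := Groth.Agent.Lib.Seat3.ClosedPush.isIso_counit i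
  let ff := (EtCoh.pullPushAdj i).fullyFaithfulROfIsIsoCounit
  exact ⟨ff.full, ff.faithful⟩

end Groth.Agent.S0067
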