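import Groth.Statements.S0089
import Groth.Agent.Lib.Seat85EtSepClosed
import Groth.Agent.S4809

set_option autoImplicit false
open CategoryTheory CategoryTheory.Limits AlgebraicGeometry Opposite
universe u
open EtBase

namespace Groth.Agent.S0089

/-- Part (1) — over an integral normal scheme whose function field is separably closed, any separated
étale scheme is a disjoint union of open subschemes of the base. -/
theorem result {U X : Scheme.{u}} [IsIntegral X] (hN : ∀ x : X, IsIntegrallyClosed (X.presheaf.stalk x))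
    [IsSepClosed X.functionField] (g : U ⟶ X) [AlgebraicGeometry.Etale g] [IsSeparated g] :
    ∃ (ι : Type u) (V : ι → X.Opens) (e : (∐ fun i => (V i : Scheme.{u})) ≅ U),
      ∀ i, Sigma.ι (fun i => (V i : Scheme.{u})) i ≫ e.hom ≫ g = (V i).ι := by
  have hXn : Pi1.IsNormalScheme X := fun x => ⟨inferInstance, hN x⟩
  have hUn := Groth.Agent.Lib.Helper4.EtNormalSch.isNormalScheme_of_etale hXn g
  have hlqf : LocallyQuasiFinite g := by
    constructor
    intro U₀ hU₀ V₀ hV₀ e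
    have h1 := g.etale_appLE hU₀ hV₀ e
    algebraize [(g.appLE U₀ V₀ e).hom]
    have : Algebra.Etale Γ(X, U₀) Γ(U, V₀) := h1
    exact RingHom.quasiFinite_algebraMap.mpr inferInstance
  have huniq : ∀ Z₁ ∈ irreducibleComponents U, ∀ Z₂ ∈ irreducibleComponents U, ∀ x : U,
      x ∈ Z₁ → x ∈ Z₂ → Z₁ = Z₂ := fun Z₁ h₁ Z₂ h₂ x hx₁ hx₂ => by
    have := (hUn x).1
    exact Groth.Agent.Lib.Seat94.LocIntegral.eq_of_mem_irreducibleComponents_of_isDomain_stalk
      U x h₁ h₂ hx₁ hx₂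
  have hopen : ∀ Z ∈ irreducibleComponents U, IsOpen Z := by
    intro Z hZ
    refine Lib.Seat85.EtSepClosed.isOpen_of_mem_irreducibleComponents huniq ?_ Z hZ
    intro u
    obtain ⟨_, ⟨X₀, hX₀, rfl⟩, huX₀, -⟩ := X.isBasis_affineOpens.exists_subset_of_mem_open
      (Set.mem_univ (g u)) isOpen_univ
    obtain ⟨_, ⟨W, hW, rfl⟩, huW, hWX₀⟩ := U.isBasis_affineOpens.exists_subset_of_mem_open
      (show u ∈ (g ⁻¹ᵁ X₀ : Set U) from huX₀) (g ⁻¹ᵁ X₀).isOpen
    exact ⟨W, W.isOpen, huW,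
      Lib.Seat85.EtSepClosed.finite_components_meeting g X₀ hX₀ W hW hWX₀⟩
  obtain ⟨ι, Ui, hint, hcov, hdisj⟩ :=
    Lib.Seat85.EtSepClosed.exists_integral_decomposition_of_isOpen U (fun u => (hUn u).1) hopen
  have hoi : ∀ i, IsOpenImmersion ((Ui i).ι ≫ g) := by
    intro i
    obtain ⟨hgen, hbir⟩ :=
      Lib.Seat85.EtSepClosed.isIso_stalkMap_genericPoint_of_etale ((Ui i).ι ≫ g)
    exact (Groth.Agent.S4809.result hN ((Ui i).ι ≫ g) hgen hbir).2 inferInstance
  let D : (∐ fun i => (Ui i).toScheme) ⟶ U := Sigma.desc fun i => (Ui i).ι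
  have hD : IsIso D := by
    have h1 := nonempty_isColimit_cofanMk_of (fun i => (Ui i).ι) (by simpa using hcov)
      (by
        intro i i' hne
        simpa [Function.onFun] using hdisj hne)
    rwa [Cofan.nonempty_isColimit_iff_isIso_sigmaDesc] at h1
  let M : (∐ fun i => (Ui i).toScheme) ⟶ ∐ fun i => (((Ui i).ι ≫ g).opensRange : Scheme.{u}) :=
    Limits.Sigma.map fun i => ((Ui i).ι ≫ g).isoOpensRange.hom
  let M' : (∐ fun i => (((Ui i).ι ≫ g).opensRange : Scheme.{u})) ⟶ ∐ fun i => (Ui i).toScheme :=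
    Limits.Sigma.map fun i => ((Ui i).ι ≫ g).isoOpensRange.inv
  have h1 : M ≫ M' = 𝟙 _ := by
    apply Sigma.hom_ext
    intro i
    simp [M, M']
  have h2 : M' ≫ M = 𝟙 _ := by
    apply Sigma.hom_ext
    intro i
    simp [M, M']
  refine ⟨ι, fun i => ((Ui i).ι ≫ g).opensRange,
    ⟨M' ≫ D, inv D ≫ M, by rw [Category.assoc, IsIso.hom_inv_id_assoc, h2],
      by rw [Category.assoc, reassoc_of% h1, IsIso.inv_hom_id]⟩, ?_⟩
  intro i
  simp only [M', D, Sigma.ι_map_assoc, Category.assoc, Sigma.ι_desc_assoc,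
    Scheme.Hom.isoOpensRange_inv_comp]

end Groth.Agent.S0089
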