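import Groth.Statements.S0108
import Groth.Agent.Lib.Seat14Kummer

set_option autoImplicit false
open CategoryTheory CategoryTheory.Limits AlgebraicGeometry Opposite
universe u
open EtBase

namespace Groth.Agent.S0108

/-- The Kummer sequence — when n is invertible on S, the n-th power map on the multiplicative group
sheaf is an epimorphism of étale sheaves (its kernel μ_n is, by definition in the prelude, the sheaf
of n-th roots of unity, so the sequence 0 → μ_n → G_m → G_m → 0 is exact). -/
theorem result (S : Scheme.{u}) (n : ℕ) (hn : IsUnit (n : Γ(S, ⊤))) : Epi (EtCoh.powMap S n) := by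
  have hX : Dix.InvertibleOn S n := by
    intro x
    have h1 := hn.map (S.evaluation ⊤ x trivial).hom
    rw [map_natCast] at h1
    exact h1.ne_zero
  rcases Nat.eq_zero_or_pos n with h0 | hpos
  · subst h0
    have hS : ∀ x : S, False := fun x => hX x (by simp)
    have : Sheaf.IsLocallySurjective (EtCoh.powMap S 0) := by
      constructor
      intro U s
      rw [Groth.Agent.Lib.Seat14.Kummer.mem_smallEtale_iff]
      intro x
      exact (hS (U.hom x)).elim
    exact Sheaf.epi_of_isLocallySurjective _
  · exact Groth.Agent.Lib.Seat14.Kummer.powMap_epi S n hpos hX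

end Groth.Agent.S0108
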