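import Groth.Statements.S0175
import Mathlib
import Groth.Agent.Lib.Seat3OpenClosedSeq
import Groth.Agent.Lib.Seat38PullExact
-- import your own Groth.Agent.* helpers here

set_option autoImplicit false
universe u
open CategoryTheory CategoryTheory.Limits AlgebraicGeometry Opposite
open EtPBC

namespace Groth.Agent.S0175

open Groth.Agent.S0100 Groth.Agent.S0101 Groth.Agent.Lib.Helper16.EtStalk
  Groth.Agent.Lib.Seat3.ClosedPush Groth.Agent.Lib.Seat3.ClosedOpen
  Groth.Agent.Lib.Seat3.OpenClosedSeq

set_option backward.isDefEq.respectTransparency.types false in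
lemma isZero_pull_push' {X Z U : Scheme.{u}}
    (i : Z ⟶ X) (j : U ⟶ X) [IsOpenImmersion j]
    (hZU : Set.range j.base = (Set.range i.base)ᶜ) (G : EtCoh.Ab Z) :
    IsZero ((EtCoh.pull j).obj ((EtCoh.push i).obj G)) := by
  let e : EtCoh.pull j ≅ EtShriek.restrAlong j :=
    (EtCoh.pullPushAdj j).leftAdjointUniq (Groth.Agent.S0651.restrPushAdj j)
  refine IsZero.of_iso ?_ (e.app _)
  apply isZero_of_sections
  intro V
  change IsZero (((EtCoh.push i).obj G).obj.obj (op ((EtShriek.compEtale j).obj V)))
  apply isZero_push_sections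
  rw [Set.disjoint_left]
  rintro _ ⟨a, rfl⟩ h2
  have h3 : (V.hom ≫ j) a ∈ Set.range j.base := by
    rw [Scheme.Hom.comp_apply]
    exact ⟨_, rfl⟩
  rw [hZU] at h3
  exact h3 h2

set_option backward.isDefEq.respectTransparency.types false in
/-- a sheaf on `X` whose inverse image to the open complement of `Z` vanishes comes from `Z` -/
lemma isIso_unit_of_isZero_pull {Z X U : Scheme.{u}} (i : Z ⟶ X) [IsClosedImmersion i]
    (j : U ⟶ X) [IsOpenImmersion j] (hZU : Set.range j.base = (Set.range i.base)ᶜ)
    (K : EtCoh.Ab X) (hK : IsZero ((EtCoh.pull j).obj K)) :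
    IsIso ((EtCoh.pullPushAdj i).unit.app K) := by
  have hbij : ∀ (Ω : Type u) [Field Ω] [IsSepClosed Ω] (ξ : Spec (CommRingCat.of Ω) ⟶ X),
      Function.Bijective ((EtCoh.stalk ξ).map ((EtCoh.pullPushAdj i).unit.app K)) := by
    intro Ω _ _ ξ
    by_cases hξ : ξ (default : Spec (CommRingCat.of Ω)) ∈ Set.range i.base
    · obtain ⟨ζ, rfl⟩ := exists_fac_of_mem_range i ξ hξ
      exact stalk_unit_bijective i ζ K
    · have hd := disjoint_range_of_not_mem i ξ hξ
      have hr : Set.range ξ.base ⊆ Set.range j.base := by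
        rw [Groth.Agent.S0652.range_spec_field, hZU]
        exact Set.singleton_subset_iff.mpr hξ
      have hfac : IsOpenImmersion.lift j ξ hr ≫ j = ξ := IsOpenImmersion.lift_fac _ _ _
      have hz : IsZero ((EtCoh.stalk ξ).obj K) := by
        rw [← hfac]
        refine IsZero.of_iso ?_ ((stalkPullIso j (IsOpenImmersion.lift j ξ hr)).app K)
        exact (EtCoh.stalk (IsOpenImmersion.lift j ξ hr)).map_isZero hK
      exact bijective_of_isZero _ hz (Groth.Agent.S0069.result i _ ξ hd)
  have hm : Mono ((EtCoh.pullPushAdj i).unit.app K) :=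
    mono_of_stalks _ (fun Ω _ _ ξ => (hbij Ω ξ).1)
  have he : Epi ((EtCoh.pullPushAdj i).unit.app K) :=
    epi_of_stalks _ (fun Ω _ _ ξ => (hbij Ω ξ).2)
  exact isIso_of_mono_of_epi _

set_option backward.isDefEq.respectTransparency.types false in
/-- Let i : Z → X be a closed immersion of schemes with open complement j : U → X, and I an injective
abelian sheaf on X_ét. Then the subsheaf H_Z(I) of sections supported on Z (the kernel of I → j_*
j^* I), viewed on Z_ét via i^*, is an injective abelian sheaf on Z_ét. -/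
theorem result {Z X U : Scheme.{u}} (i : Z ⟶ X) [IsClosedImmersion i]
    (j : U ⟶ X) [IsOpenImmersion j] (hZU : Set.range j = (Set.range i)ᶜ)
    [EtCoh.BCCont i] [EtCoh.BCCont j] (I : EtCoh.Ab X) [Injective I] :
    Injective ((EtCoh.pull i).obj (kernel ((EtCoh.pullPushAdj j).unit.app I))) := by
  have hZU' : Set.range j.base = (Set.range i.base)ᶜ := hZU
  let η := (EtCoh.pullPushAdj j).unit.app I
  let K := kernel η
  let ι : K ⟶ I := kernel.ι η
  -- `j⁻¹ K = 0`
  have hK0 : IsZero ((EtCoh.pull j).obj K) := by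
    have hmono : Mono ((EtCoh.pull j).map η) := by
      have tri := (EtCoh.pullPushAdj j).left_triangle_components I
      have h3 : Mono ((EtCoh.pull j).map η ≫ (EtCoh.pullPushAdj j).counit.app ((EtCoh.pull j).obj I)) := by
        rw [tri]
        exact inferInstanceAs (Mono (𝟙 ((EtCoh.pull j).obj I)))
      exact mono_of_mono _ ((EtCoh.pullPushAdj j).counit.app ((EtCoh.pull j).obj I))
    have hker : IsZero (kernel ((EtCoh.pull j).map η)) := isZero_kernel_of_mono _
    exact IsZero.of_iso hker (PreservesKernel.iso (EtCoh.pull j) η)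
  have hu : IsIso ((EtCoh.pullPushAdj i).unit.app K) := isIso_unit_of_isZero_pull i j hZU' K hK0
  let u := (EtCoh.pullPushAdj i).unit.app K
  have : IsIso (EtCoh.pullPushAdj i).counit := isIso_counit i
  let ff := (EtCoh.pullPushAdj i).fullyFaithfulROfIsIsoCounit
  constructor
  intro A B f m hm
  -- `f : A ⟶ i⁻¹ K`, `m : A ⟶ B` mono
  have hm' : Mono ((EtCoh.push i).map m) := inferInstance
  let f' : (EtCoh.push i).obj A ⟶ I := (EtCoh.push i).map f ≫ inv u ≫ ι
  let g' : (EtCoh.push i).obj B ⟶ I := Injective.factorThru f' ((EtCoh.push i).map m)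
  have hg' : (EtCoh.push i).map m ≫ g' = f' := Injective.comp_factorThru _ _
  have hzero : g' ≫ η = 0 := by
    apply ((EtCoh.pullPushAdj j).homEquiv _ _).symm.injective
    exact (isZero_pull_push' i j hZU' B).eq_of_src _ _
  let g'' : (EtCoh.push i).obj B ⟶ K := kernel.lift η g' hzero
  have hg'' : g'' ≫ ι = g' := kernel.lift_ι _ _ _
  refine ⟨ff.preimage (g'' ≫ u), ?_⟩
  apply ff.map_injective
  rw [Functor.map_comp, ff.map_preimage]
  have e1 : (EtCoh.push i).map m ≫ g'' = (EtCoh.push i).map f ≫ inv u := by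
    rw [← cancel_mono ι, Category.assoc, hg'', hg', Category.assoc]
  rw [← Category.assoc, e1, Category.assoc, IsIso.inv_hom_id, Category.comp_id]

end Groth.Agent.S0175
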