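import Groth.Statements.S0182
import Mathlib
import Groth.Agent.Lib.Seat29EtStalkConstr
import Groth.Agent.Lib.Seat29EtStalkExact
import Groth.Agent.Lib.Seat29EtConstrKer

set_option autoImplicit false
universe u
open CategoryTheory CategoryTheory.Limits AlgebraicGeometry Opposite
open EtPBC

namespace Groth.Agent.S0182

/-- (1), surjectivity case, for abelian sheaves: X quasi-compact and quasi-separated, F -> G a map of
constructible abelian sheaves on X_et; the set of points x of X such that F -> G is surjective on
stalks at (every) geometric point over x is constructible. The source states this for constructible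
sheaves of sets; an abelian constructible sheaf is one, with the same stalks. -/
theorem result (X : Scheme.{u}) [CompactSpace X] [QuasiSeparatedSpace X]
    {F G : EtCoh.Ab X} (φ : F ⟶ G) (hF : EtPBC.IsConstructible F) (hG : EtPBC.IsConstructible G) :
    Topology.IsConstructible {x : X | ∀ (Ω : Type u) [Field Ω] [IsSepClosed Ω]
      (ξ : Spec (CommRingCat.of Ω) ⟶ X), Set.range ξ = {x} →
        Function.Surjective ((EtCoh.stalk ξ).map φ)} := by
  have hC : EtPBC.IsConstructible (cokernel φ) :=
    (Groth.Agent.Lib.Seat29.EtConstrKer.isConstructible_ker_coker φ hF hG).2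
  have h := Groth.Agent.Lib.Seat29.EtStalkConstr.isLocallyConstructible_stalkSet
    (P := fun M : AddCommGrpCat.{u + 1} => ¬ IsZero M)
    (fun M N ⟨e⟩ hM hN => hM (hN.of_iso e)) (cokernel φ) hC
  have h' := h.isConstructible.compl
  convert h' using 1
  ext x
  simp only [Set.mem_ofPred_eq, Set.mem_compl_iff,
    Groth.Agent.Lib.Seat29.EtStalkConstr.stalkSet]
  constructor
  · rintro hx ⟨Ω, _, _, ξ, hξ, hnz⟩
    exact hnz ((Groth.Agent.Lib.Seat29.EtStalkExact.surjective_iff_isZero_cokernel φ ξ).1
      (hx Ω ξ hξ))
  · intro hx Ω _ _ ξ hξ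
    rw [Groth.Agent.Lib.Seat29.EtStalkExact.surjective_iff_isZero_cokernel]
    by_contra hnz
    exact hx ⟨Ω, inferInstance, inferInstance, ξ, hξ, hnz⟩

end Groth.Agent.S0182
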