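import Groth.Statements.S0183
import Groth.Agent.Lib.Seat3WLoc
import Groth.Agent.Lib.Seat3IndZarRecog
-- import your own Groth.Agent.* helpers here

set_option autoImplicit false
universe u
open CategoryTheory CategoryTheory.Limits AlgebraicGeometry Opposite
open EtPBC

namespace Groth.Agent.S0183

open Groth.Agent.Lib.Seat3.WLoc Groth.Agent.Lib.Seat3.IndZarRecog

/-- Suppose A -> B identifies local rings (A_p -> B_q bijective for every prime q of B over p). Then B
can be enlarged along a faithfully flat ind-Zariski extension B' so that B' is already ind-Zariski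
over A; ind-Zariski means: a filtered colimit of local isomorphisms in the sense of Mathlib's
Algebra.IsLocalIso (Zariski-locally on the source a standard open immersion). -/
theorem result (A B : Type u) [CommRing A] [CommRing B] [Algebra A B]
    (h : EtPBC.IdentifiesLocalRings A B) :
    ∃ (B' : Type u) (_ : CommRing B') (_ : Algebra B B') (_ : Algebra A B') (_ : IsScalarTower A B B'),
      Module.FaithfullyFlat B B' ∧ EtPBC.IsIndZariski B B' ∧ EtPBC.IsIndZariski A B' := by
  have hπ := PT.continuous_toPrime (A := B)
  have hW := isWLocal (PT.toPrime (A := B)) hπ PT.isOpen_preimage_zeroLocus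
  have tower : IsScalarTower A B (Bw (PT.toPrime (A := B))) := by
    have h0 := IsScalarTower.of_algebraMap_eq (R := A) (S := B) (A := Bw (PT.toPrime (A := B)))
      (fun x => rfl)
    exact h0
  exact ⟨Bw (PT.toPrime (A := B)), inferInstance, inferInstance, inferInstance, tower,
    faithfullyFlat _ hπ PT.toPrime_bijective.2,
    isIndZariski_of_identifiesLocalRings_of_isWLocal _ _ (identifiesLocalRings _ hπ) hW,
    isIndZariski_of_identifiesLocalRings_of_isWLocal _ _
      (identifiesLocalRings_comp h (identifiesLocalRings _ hπ)) hW⟩

end Groth.Agent.S0183
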