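import Groth.Statements.S0215
import Groth.Agent.Lib.Seat24UnitsFGScheme

set_option autoImplicit false
universe u
open CategoryTheory CategoryTheory.Limits AlgebraicGeometry TopologicalSpace
open Curves

namespace Groth.Agent.S0215

/-- In a space with finitely many irreducible components, every irreducible component contains a
nonempty open subset of the whole space. -/
theorem exists_open_subset_of_mem_irreducibleComponents {T : Type*} [TopologicalSpace T]
    (hfin : (irreducibleComponents T).Finite) {Z : Set T} (hZ : Z ∈ irreducibleComponents T) :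
    ∃ W : Set T, IsOpen W ∧ W.Nonempty ∧ W ⊆ Z := by
  have hfin' : (irreducibleComponents T \ {Z}).Finite := hfin.subset Set.sdiff_subset
  have hcl : IsClosed (⋃₀ (irreducibleComponents T \ {Z})) := by
    rw [Set.sUnion_eq_biUnion]
    exact hfin'.isClosed_biUnion (fun s hs => isClosed_of_mem_irreducibleComponents s hs.1)
  refine ⟨(⋃₀ (irreducibleComponents T \ {Z}))ᶜ, hcl.isOpen_compl, ?_, ?_⟩
  · by_contra hne
    rw [Set.not_nonempty_iff_eq_empty, Set.compl_empty_iff] at hne
    have := mem_of_subset_sUnion_irreducibleComponents Z hZ _ hfin' Set.sdiff_subset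
      (hne ▸ Set.subset_univ Z)
    exact this.2 rfl
  · intro x hx
    by_contra hxZ
    apply hx
    refine ⟨irreducibleComponent x, ⟨irreducibleComponent_mem_irreducibleComponents x, ?_⟩,
      mem_irreducibleComponent⟩
    rintro (h : irreducibleComponent x = Z)
    exact hxZ (h ▸ mem_irreducibleComponent)

/-- An irreducible open subset of a reduced scheme has a domain of sections. -/
theorem isDomain_of_isIrreducible {X : Scheme.{u}} [IsReduced X] (U : X.Opens)
    (hU : IsIrreducible (U : Set X)) : IsDomain Γ(X, U) := by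
  have : IrreducibleSpace U := Subtype.irreducibleSpace hU
  have : IsIntegral (U : Scheme) := isIntegral_of_irreducibleSpace_of_isReduced _
  have : IsDomain Γ((U : Scheme), ⊤) := inferInstance
  exact (U.topIso.commRingCatIsoToRingEquiv).symm.toMulEquiv.isDomain

/-- For a connected reduced scheme locally of finite type over a field k with finitely many irreducible
components, in which every global function integral over k is a constant, the group of invertible
global functions modulo nonzero constants is finitely generated. -/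
theorem result (k : Type u) [Field k] (X : Scheme.{u}) (f : X ⟶ Spec (CommRingCat.of k))
    [LocallyOfFiniteType f] [IsReduced X] [ConnectedSpace X] (hirr : (irreducibleComponents (X : Type u)).Finite)
    (hint : ∀ x : Γ(X, ⊤), (f.appTop.hom.comp (Scheme.ΓSpecIso (CommRingCat.of k)).inv.hom).IsIntegralElem x →
      x ∈ Set.range (f.appTop.hom.comp (Scheme.ΓSpecIso (CommRingCat.of k)).inv.hom)) :
    Group.FG ((Γ(X, ⊤))ˣ ⧸ (Units.map ((f.appTop.hom.comp (Scheme.ΓSpecIso (CommRingCat.of k)).inv.hom : k →+* Γ(X, ⊤)) : k →* Γ(X, ⊤))).range) := by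
  classical
  set ck : k →+* Γ(X, ⊤) :=
    f.appTop.hom.comp (Scheme.ΓSpecIso (CommRingCat.of k)).inv.hom with hck
  have hfinI : Finite (irreducibleComponents (X : Type u)) := hirr.to_subtype
  -- for each irreducible component an affine open contained in it
  have hU : ∀ Z : irreducibleComponents (X : Type u), ∃ U : X.Opens,
      IsAffineOpen U ∧ (U : Set X).Nonempty ∧ (U : Set X) ⊆ Z.1 := by
    intro Z
    obtain ⟨W, hWo, ⟨x, hxW⟩, hWZ⟩ := exists_open_subset_of_mem_irreducibleComponents hirr Z.2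
    obtain ⟨_, ⟨U, hU, rfl⟩, hxU, hUW⟩ := (X.isBasis_affineOpens).exists_subset_of_mem_open
      hxW hWo
    exact ⟨U, hU, ⟨x, hxU⟩, hUW.trans hWZ⟩
  choose U hUaff hUne hUZ using hU
  have hZirr : ∀ Z : irreducibleComponents (X : Type u), IsIrreducible Z.1 := fun Z => Z.2.1
  have hUirr : ∀ Z, IsIrreducible (U Z : Set X) := fun Z =>
    ⟨hUne Z, (hZirr Z).isPreirreducible.open_subset (U Z).isOpen (hUZ Z)⟩
  have hdom : ∀ Z, IsDomain Γ(X, U Z) := fun Z => isDomain_of_isIrreducible (U Z) (hUirr Z)
  have hφ : ∀ Z, ∃ (n : ℕ) (φ : (Γ(X, ⊤))ˣ →* Multiplicative (Fin n → ℤ)), ∀ u ∈ φ.ker,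
      ((X.presheaf.map (homOfLE (le_top : U Z ≤ ⊤)).op).hom.comp ck).IsIntegralElem
        ((X.presheaf.map (homOfLE (le_top : U Z ≤ ⊤)).op).hom (u : Γ(X, ⊤))) := fun Z =>
    haveI := hdom Z
    Groth.Agent.Lib.Seat24.UnitsFGScheme.exists_hom_of_affineOpen f (U Z) (hUaff Z)
  choose n φ hφ using hφ
  refine Groth.Agent.Lib.Seat24.UnitsFG.fg_quotient_of_forall_ker_le n φ _ (fun g hg => ?_)
  -- monic polynomials killing the restrictions of `g`
  have hp : ∀ Z, ∃ p : Polynomial k, p.Monic ∧
      Polynomial.eval₂ ((X.presheaf.map (homOfLE (le_top : U Z ≤ ⊤)).op).hom.comp ck)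
        ((X.presheaf.map (homOfLE (le_top : U Z ≤ ⊤)).op).hom (g : Γ(X, ⊤))) p = 0 :=
    fun Z => hφ Z g (MonoidHom.mem_ker.2 (hg Z))
  choose p hpm hp0 using hp
  let _ : Fintype (irreducibleComponents (X : Type u)) := Fintype.ofFinite _
  set P : Polynomial k := ∏ Z, p Z with hP
  have hPm : P.Monic := Polynomial.monic_prod_of_monic _ _ (fun Z _ => hpm Z)
  set s : Γ(X, ⊤) := Polynomial.eval₂ ck (g : Γ(X, ⊤)) P with hs_def
  have hs_res : ∀ Z, (X.presheaf.map (homOfLE (le_top : U Z ≤ ⊤)).op).hom s = 0 := by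
    intro Z
    rw [hs_def, Polynomial.hom_eval₂, hP, Polynomial.eval₂_finsetProd]
    exact Finset.prod_eq_zero (Finset.mem_univ Z) (hp0 Z)
  have hs : s = 0 := by
    rw [← basicOpen_eq_bot_iff, eq_bot_iff]
    intro x hx
    set Z : irreducibleComponents (X : Type u) :=
      ⟨irreducibleComponent x, irreducibleComponent_mem_irreducibleComponents x⟩ with hZ
    obtain ⟨z, hz⟩ := hUne Z
    obtain ⟨y, hyZ, hy1, hy2⟩ := (hZirr Z).isPreirreducible (X.basicOpen s) (U Z)
      (X.basicOpen s).isOpen (U Z).isOpen ⟨x, mem_irreducibleComponent, hx⟩ ⟨z, hUZ Z hz, hz⟩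
    have hy : y ∈ X.basicOpen ((X.presheaf.map (homOfLE (le_top : U Z ≤ ⊤)).op).hom s) := by
      rw [Scheme.basicOpen_res]
      exact ⟨hy2, hy1⟩
    rw [hs_res Z, Scheme.basicOpen_zero] at hy
    exact hy
  have hgint : ck.IsIntegralElem (g : Γ(X, ⊤)) := ⟨P, hPm, hs⟩
  obtain ⟨c, hc⟩ := hint _ hgint
  have hc0 : c ≠ 0 := by
    rintro rfl
    rw [map_zero] at hc
    have : Nonempty (⊤ : X.Opens) := ⟨⟨Classical.arbitrary X, trivial⟩⟩
    exact g.ne_zero hc.symm
  exact ⟨Units.mk0 c hc0, Units.ext hc⟩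

end Groth.Agent.S0215
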