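import Groth.Statements.S0257
import Groth.Agent.Lib.Seat66CodimOne
import Groth.Agent.Lib.Helper20EtFinPart2

set_option autoImplicit false
universe u
open Pi1

open AlgebraicGeometry CategoryTheory CategoryTheory.Limits Groth.Agent.Lib.Seat45.Unram Groth.Agent.Lib.Seat66.CodimOne

set_option linter.style.haveILetI false

namespace Groth.Agent.S0257

open AlgebraicGeometry CategoryTheory CategoryTheory.Limits in
/-- Let f be flat and locally of finite type between locally Noetherian schemes, x a point of X which is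
not a generic point of an irreducible component (its local ring has dimension at least 1), with f
quasi-finite at x and unramified at all points of dimension one specializing to x. Then f is etale
on an open neighbourhood of x. -/
theorem result {X Y : Scheme.{u}} (f : X ⟶ Y) [LocallyOfFiniteType f] [Flat f] [IsLocallyNoetherian X]
    [IsLocallyNoetherian Y] (x : X) (hq : f.QuasiFiniteAt x)
    (hdim1 : (1 : WithBot ℕ∞) ≤ ringKrullDim (X.presheaf.stalk x))
    (hunr : ∀ x' : X, x' ⤳ x → ringKrullDim (X.presheaf.stalk x') = 1 →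
      (f.stalkMap x').hom.FormallyUnramified) :
    ∃ U : X.Opens, x ∈ U ∧ Etale (U.ι ≫ f) := by
  haveI : LocallyOfFinitePresentation f :=
    LocallyOfFinitePresentation.iff_locallyOfFiniteType.mpr inferInstance
  -- it suffices that the stalk map at `x` is formally unramified
  suffices hx : UnrSt f x by
    obtain ⟨W, hxW, hW1, hW2⟩ := (nbhd_iff_unrSt f x).mpr hx
    refine ⟨W, hxW, ?_⟩
    haveI := hW2
    haveI : LocallyOfFinitePresentation (W.ι ≫ f) :=
      LocallyOfFinitePresentation.iff_locallyOfFiniteType.mpr inferInstance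
    exact Etale.of_formallyUnramified_of_flat _
  -- étale localization of the finite part at `x`
  obtain ⟨U, g, u, hg, hu, hbij, V, hVfin, hV⟩ :=
    Groth.Agent.Lib.Helper20.EtSplit.exists_etale_finite_part' f (rfl : f x = f x) hq
  haveI := hg
  haveI := hVfin
  haveI : IsLocallyNoetherian U := LocallyOfFiniteType.isLocallyNoetherian g
  have sq : IsPullback (pullback.fst f g) (pullback.snd f g) f g := IsPullback.of_hasPullback f g
  obtain ⟨v₀, hv₀x, hv₀u⟩ := Scheme.Pullback.exists_preimage_pullback (f := f) (g := g) x u hu.symm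
  have hv₀V : v₀ ∈ V := (hV v₀ hv₀u).mpr hv₀x
  let h : (V : Scheme.{u}) ⟶ U := V.ι ≫ pullback.snd f g
  haveI : IsFinite h := hVfin
  haveI : Flat h := inferInstanceAs (Flat (V.ι ≫ pullback.snd f g))
  let v : (V : Scheme.{u}) := ⟨v₀, hv₀V⟩
  have hv : h v = u := hv₀u
  have hdimU : (1 : WithBot ℕ∞) ≤ ringKrullDim (U.presheaf.stalk u) := by
    have h1 := Groth.Agent.Lib.Seat45.EtDim.ringKrullDim_stalk_eq_of_etale (pullback.fst f g) v₀
    have h2 := Groth.Agent.Lib.Seat45.EtDim.ringKrullDim_stalk_eq_of_etale V.ι v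
    have h3 := Groth.Agent.Lib.Seat45.EtDim.ringKrullDim_stalk_eq_of_flat_of_lqf h v
    rw [hv] at h3
    rw [hv₀x] at h1
    rw [← h3, h2]
    change (1 : WithBot ℕ∞) ≤ ringKrullDim ((pullback f g).presheaf.stalk v₀)
    rw [h1]
    exact hdim1
  have key : ∀ v' : (V : Scheme.{u}), h v' ⤳ u → ringKrullDim ((V : Scheme.{u}).presheaf.stalk v') = 1 →
      UnrSt h v' := by
    intro v' hv'u hdimv'
    obtain ⟨v'', hsp, hv''⟩ := h.isClosedMap.specializingMap hv'u
    have hv''x : pullback.fst f g v''.1 = x := (hV v''.1 hv'').mp v''.2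
    have hx'x : pullback.fst f g v'.1 ⤳ x := by
      rw [← hv''x]
      exact (hsp.map V.ι.continuous).map (pullback.fst f g).continuous
    have hdimx' : ringKrullDim (X.presheaf.stalk (pullback.fst f g v'.1)) = 1 := by
      rw [← Groth.Agent.Lib.Seat45.EtDim.ringKrullDim_stalk_eq_of_etale (pullback.fst f g) v'.1]
      have h2 := Groth.Agent.Lib.Seat45.EtDim.ringKrullDim_stalk_eq_of_etale V.ι v'
      rw [hdimv'] at h2
      exact h2.symm
    have h1 : UnrSt f (pullback.fst f g v'.1) := hunr _ hx'x hdimx'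
    have h2 : UnrSt (pullback.snd f g) v'.1 :=
      ((unrNear_iff_unrSt _ _).symm.trans
        ((unrNear_baseChange_iff sq v'.1).trans (unrNear_iff_unrSt _ _))).mpr h1
    exact (unrSt_comp_left_iff V.ι (pullback.snd f g) v').mpr h2
  obtain ⟨W, huW, hW⟩ := exists_etale_nbhd_of_unrSt h u hdimU key
  have hvW : v ∈ h ⁻¹ᵁ W := by
    change h v ∈ W
    rw [hv]
    exact huW
  have h1 : UnrSt (h ∣_ W) ⟨v, hvW⟩ := FormallyUnramified.stalkMap (h ∣_ W) ⟨v, hvW⟩
  have h2 : UnrSt h v :=
    (unrSt_etale_local h (h ∣_ W) (h ⁻¹ᵁ W).ι W.ι (morphismRestrict_ι h W) ⟨v, hvW⟩).mpr h1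
  have h3 : UnrSt (pullback.snd f g) v₀ := (unrSt_comp_left_iff V.ι (pullback.snd f g) v).mp h2
  have h4 := unrSt_of_isPullback sq v₀ h3
  rwa [hv₀x] at h4

end Groth.Agent.S0257
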