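import Groth.Statements.S0269
import Mathlib
import Groth.Agent.S12073
import Groth.Agent.Lib.Helper22FieldLim
import Groth.Agent.Lib.Seat2HomotopyMid
import Groth.Agent.Lib.Seat2FrobDescent

set_option autoImplicit false
universe u
open Pi1

namespace Groth.Agent.S0269

open AlgebraicGeometry CategoryTheory CategoryTheory.Limits
open Groth.Agent.Lib.Helper22.FieldLim Groth.Agent.Lib.Seat2.HomotopyMid
  Groth.Agent.Lib.Seat2.FrobDescent

/-- the assembly step: a cover of `X_K` pulled back from a finite separable stage `X_E` is open and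
closed in the base change of a cover of `X`. -/
theorem asm (k : Type u) [Field k] {X : Scheme.{u}} (f : X ⟶ Spec (CommRingCat.of k))
    (K : Type u) [Field K] [Algebra k K] (E : Type u) [Field E] [Algebra k E]
    [FiniteDimensional k E] [Algebra.IsSeparable k E]
    (c : pullback f (Spec.map (CommRingCat.ofHom (algebraMap k K))) ⟶
      pullback f (Spec.map (CommRingCat.ofHom (algebraMap k E))))
    (hc : c ≫ pullback.fst _ _ = pullback.fst _ _)
    (W : FEt.Cat (pullback f (Spec.map (CommRingCat.ofHom (algebraMap k E)))))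
    (V : FEt.Cat (pullback f (Spec.map (CommRingCat.ofHom (algebraMap k K)))))
    (e : V ≅ (FEt.restrict c).obj W) :
    ∃ (U : FEt.Cat X) (ι : V ⟶ (FEt.restrict (pullback.fst f
        (Spec.map (CommRingCat.ofHom (algebraMap k K))))).obj U),
      IsOpenImmersion ι.left ∧ IsClosedImmersion ι.left := by
  have hπs : FEt.prop (pullback.fst f (Spec.map (CommRingCat.ofHom (algebraMap k E)))) :=
    MorphismProperty.pullback_fst _ _ (fieldObj k E).prop
  obtain ⟨U, ι, h1, h2⟩ := exists_clopen_of_comp _ hπs c _ hc W
  have : IsIso e.hom.left :=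
    inferInstanceAs (IsIso ((Groth.Agent.Lib.Seat2.FEtMono.toScheme _).map e.hom))
  refine ⟨U, e.hom ≫ ι, ?_, ?_⟩
  · show IsOpenImmersion (e.hom.left ≫ ι.left)
    infer_instance
  · show IsClosedImmersion (e.hom.left ≫ ι.left)
    infer_instance

open AlgebraicGeometry CategoryTheory CategoryTheory.Limits in
/-- Functor form of the injectivity of pi_1(X_{kbar}) -> pi_1(X): Let X be quasi-compact and
quasi-separated over a field k with X_{kbar} connected. Every finite etale cover of X_{kbar} admits
an open and closed immersion, over X_{kbar}, into the base change of some finite etale cover of X. -/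
theorem result (k : Type u) [Field k] {X : Scheme.{u}} (f : X ⟶ Spec (CommRingCat.of k)) [CompactSpace X]
    [QuasiSeparatedSpace X]
    [ConnectedSpace ↥(pullback f (Spec.map (CommRingCat.ofHom (algebraMap k (AlgebraicClosure k)))))]
    (V : FEt.Cat (pullback f (Spec.map (CommRingCat.ofHom (algebraMap k (AlgebraicClosure k)))))) :
    ∃ (U : FEt.Cat X) (ι : V ⟶ (FEt.restrict (pullback.fst f (Spec.map (CommRingCat.ofHom (algebraMap k (AlgebraicClosure k)))))).obj U),
      IsOpenImmersion ι.left ∧ IsClosedImmersion ι.left := by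
  obtain ⟨i, Vi, ⟨φ⟩⟩ := (Groth.Agent.S12073.result (D (K := AlgebraicClosure k) f)
    (cone (K := AlgebraicClosure k) f) (coneIsLimit f)).1 V
  let L : FinSub k (AlgebraicClosure k) := i.unop
  haveI : FiniteDimensional k L.1 := L.2
  obtain ⟨p, hp⟩ := CharP.exists k
  rcases CharP.char_is_prime_or_zero k p with hpp | rfl
  · haveI : Fact p.Prime := ⟨hpp⟩
    let Ls : IntermediateField k L.1 := separableClosure k L.1
    haveI : IsPurelyInseparable Ls L.1 := separableClosure.isPurelyInseparable k L.1
    haveI : Algebra.IsSeparable k Ls := separableClosure.isSeparable k L.1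
    haveI : CharP Ls p := charP_of_injective_algebraMap (algebraMap k Ls).injective p
    haveI : CharP L.1 p := charP_of_injective_algebraMap (algebraMap k L.1).injective p
    haveI : ExpChar Ls p := ExpChar.prime hpp
    let ψ : L.1 →+* Ls := IsPurelyInseparable.iterateFrobenius Ls L.1 p
      (le_refl (IsPurelyInseparable.exponent Ls L.1))
    obtain ⟨W, ⟨eW⟩⟩ := exists_restrict_iso_of_pow p (algebraMap Ls L.1) ψ
      (IsPurelyInseparable.exponent Ls L.1)
      (fun r => IsPurelyInseparable.iterateFrobenius_algebraMap L.1 p _ r)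
      (fun s => IsPurelyInseparable.algebraMap_iterateFrobenius Ls p _ s)
      (pullback.snd f (Spec.map (CommRingCat.ofHom (algebraMap k Ls))))
      (bc Ls L.1 f) (pullback.snd f (sL L)) (isPullback_bc Ls L.1 f) Vi
    let c := mKL f L ≫ bc Ls L.1 f
    have hc : c ≫ pullback.fst _ _ = pullback.fst _ _ := by
      simp only [c, Category.assoc, bc_fst, mKL_fst]
    have e : V ≅ (FEt.restrict c).obj W :=
      φ.symm ≪≫ (FEt.restrict (mKL f L)).mapIso eW.symm ≪≫
        (restrictCompIso (mKL f L) (bc Ls L.1 f) c rfl W).symm
    exact asm k f (AlgebraicClosure k) Ls c hc W V e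
  · haveI : CharZero k := CharP.charP_to_charZero k
    exact asm k f (AlgebraicClosure k) L.1 (mKL f L) (mKL_fst f L) Vi V φ.symm

end Groth.Agent.S0269
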