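import Groth.Statements.S0286
import Mathlib
import Groth.Agent.S0283
import Groth.Agent.Lib.Seat2HomotopyMid
import Groth.Agent.Lib.Seat2PInsepLim
import Groth.Agent.Lib.Seat2UHGlue

set_option autoImplicit false
universe u
open Pi1

namespace Groth.Agent.S0286

open AlgebraicGeometry CategoryTheory CategoryTheory.Limits in
/-- For a scheme X over a field k of characteristic p (p a prime), pulling back finite étale covers
along the projection X ×_{Spec k} Spec(k^perf) → X, where k^perf is the perfect closure of k, is an
equivalence of categories. -/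
theorem result (k : Type u) [Field k] (p : ℕ) [Fact p.Prime] [CharP k p] {X : Scheme.{u}}
    (f : X ⟶ Spec (CommRingCat.of k)) :
    (FEt.restrict (pullback.fst f
      (Spec.map (CommRingCat.ofHom (PerfectClosure.of k p))))).IsEquivalence := by
  letI : Algebra k (PerfectClosure k p) := (PerfectClosure.of k p).toAlgebra
  haveI : ExpChar k p := ExpChar.prime Fact.out
  haveI : IsPurelyInseparable k (PerfectClosure k p) := by
    rw [isPurelyInseparable_iff_pow_mem k p]
    intro x
    induction x using PerfectClosure.induction_on with
    | _ x =>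
      obtain ⟨n, y⟩ := x
      refine ⟨n, y, ?_⟩
      rw [← iterate_frobenius]
      exact (PerfectClosure.iterate_frobenius_mk k p n y).symm
  have hsK : Spec.map (CommRingCat.ofHom (PerfectClosure.of k p)) =
      Spec.map (CommRingCat.ofHom (algebraMap k (PerfectClosure k p))) := rfl
  rw [hsK]
  haveI : IsIntegralHom (Spec.map (CommRingCat.ofHom (algebraMap k (PerfectClosure k p)))) :=
    Groth.Agent.Lib.Seat2.HomotopyMid.isIntegralHom_specMap k (PerfectClosure k p)
  haveI : UniversallyInjective
      (Spec.map (CommRingCat.ofHom (algebraMap k (PerfectClosure k p)))) :=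
    Groth.Agent.Lib.Seat2.HomotopyMid.universallyInjective_specMap k (PerfectClosure k p)
  haveI : Surjective (Spec.map (CommRingCat.ofHom (algebraMap k (PerfectClosure k p)))) :=
    Groth.Agent.Lib.Seat2.HomotopyMid.surjective_specMap_field k (PerfectClosure k p)
  let sK := Spec.map (CommRingCat.ofHom (algebraMap k (PerfectClosure k p)))
  haveI : IsIntegralHom (pullback.fst f sK) :=
    MorphismProperty.pullback_fst (P := @IsIntegralHom) _ _ ‹_›
  haveI : UniversallyInjective (pullback.fst f sK) :=
    MorphismProperty.pullback_fst (P := @UniversallyInjective) _ _ ‹_›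
  haveI : Surjective (pullback.fst f sK) :=
    MorphismProperty.pullback_fst (P := @Surjective) _ _ ‹_›
  obtain ⟨hfull, hfaith⟩ := Groth.Agent.S0283.result (pullback.fst f sK)
  refine { faithful := hfaith, full := hfull, essSurj := ⟨fun V => ?_⟩ }
  refine Groth.Agent.Lib.Seat2.UHGlue.exists_restrict_iso_of_affine (pullback.fst f sK) ?_ V
  intro U V' v' hfin het
  haveI : IsAffine ((Groth.Agent.Lib.Seat2.UHGlue.cov X).X U) := U.2
  have hpb' := ((IsPullback.of_hasPullback (pullback.fst f sK)
    ((Groth.Agent.Lib.Seat2.UHGlue.cov X).f U)).paste_horiz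
      (IsPullback.of_hasPullback f sK).flip).flip
  exact Groth.Agent.Lib.Seat2.PInsepLim.exists_descent p k (PerfectClosure k p)
    ((Groth.Agent.Lib.Seat2.UHGlue.cov X).f U ≫ f) _ _ hpb' v' hfin het

end Groth.Agent.S0286
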