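import Groth.Statements.S0370
import Groth.Agent.Lib.Seat8DualCM

set_option autoImplicit false
universe u v
open CategoryTheory
attribute [local instance] HasDerivedCategory.standard
open Dual

namespace Groth.Agent.S0370

/-- A Noetherian ring admitting a finite module which, placed in degree 0, is a dualizing complex, is
Cohen–Macaulay. -/
theorem result (A : Type u) [CommRing A] [IsNoetherianRing A] (W : Type u) [AddCommGroup W] [Module A W] [Module.Finite A W] (h : Dual.IsDualizing A (Dual.inD A W)) : LocCoh.IsCohenMacaulayRing A := by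
  refine LocCoh.IsCohenMacaulayRing.mk ?_
  intro P hP
  obtain ⟨h1, h2⟩ := Groth.Agent.Lib.Seat8.DimFn4.isDualizing_isNormalized_atPrime
    (Dual.inD A W) h ⟨P, hP⟩
  have hNoeth := h1.isNoetherianRing
  refine @LocCoh.IsCohenMacaulayLocalRing.mk _ _ hNoeth _ ?_
  refine Groth.Agent.Lib.Seat8.DualCM.supportDim_eq_depth_of_concentrated _ h1 h2
    (-Groth.Agent.Lib.Seat8.DimFn.deg (Dual.inD A W) h ⟨P, hP⟩) ?_
  intro j hj
  have hk : Groth.Agent.Lib.Seat8.DimFn.deg (Dual.inD A W) h ⟨P, hP⟩ + j ≠ 0 := by omega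
  have hz : CategoryTheory.Limits.IsZero ((DerivedCategory.homologyFunctor (ModuleCat.{u} A)
      (Groth.Agent.Lib.Seat8.DimFn.deg (Dual.inD A W) h ⟨P, hP⟩ + j)).obj (Dual.inD A W)) :=
    Groth.Agent.Lib.Helper1.PC.isZero_homology_single (ModuleCat.of A W) 0 _ hk
  have hz2 : CategoryTheory.Limits.IsZero ((DerivedCategory.homologyFunctor (ModuleCat.{u} (Localization.AtPrime P))
      (Groth.Agent.Lib.Seat8.DimFn.deg (Dual.inD A W) h ⟨P, hP⟩ + j)).obj
      ((Groth.Agent.Lib.Helper1.Extend.extD A (Localization.AtPrime P)).obj (Dual.inD A W))) :=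
    ((Groth.Agent.Lib.Helper1.Extend.ext A (Localization.AtPrime P)).map_isZero hz).of_iso
      (Groth.Agent.Lib.Helper1.Extend.homologyMapDIso
        (Groth.Agent.Lib.Helper1.Extend.ext A (Localization.AtPrime P)) (Dual.inD A W) _)
  have hz3 := hz2.of_iso (((DerivedCategory.homologyFunctor (ModuleCat.{u} (Localization.AtPrime P))
    0).shiftIso (Groth.Agent.Lib.Seat8.DimFn.deg (Dual.inD A W) h ⟨P, hP⟩) j
      (Groth.Agent.Lib.Seat8.DimFn.deg (Dual.inD A W) h ⟨P, hP⟩ + j) rfl).app
        ((Groth.Agent.Lib.Helper1.Extend.extD A (Localization.AtPrime P)).obj (Dual.inD A W)))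
  exact ModuleCat.subsingleton_of_isZero hz3

end Groth.Agent.S0370
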