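import Groth.Statements.S0376
import Groth.Agent.Lib.Helper19RegQuot
import Groth.Agent.S0342
import Groth.Agent.S11179
import Groth.Agent.S0377

set_option autoImplicit false
universe u v
open CategoryTheory
attribute [local instance] HasDerivedCategory.standard
open Dual

namespace Groth.Agent.S0376

/-- A complete Noetherian local ring has a dualizing complex. -/
theorem result (A : Type u) [CommRing A] [IsLocalRing A] [IsNoetherianRing A] [IsAdicComplete (IsLocalRing.maximalIdeal A) A] : ∃ ω : Dual.D A, Dual.IsDualizing A ω := by
  obtain ⟨P, i1, i2, g, hg, -⟩ :=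
    Groth.Agent.Lib.Helper19.exists_minimal_regular_surj_of_complete A
      (IsNoetherian.noetherian (IsLocalRing.maximalIdeal A))
  have hgor : LocCoh.IsGorensteinLocalRing P := Groth.Agent.S0342.result P
  have hω : Dual.IsDualizing P (Dual.inD P P) := (Groth.Agent.S11179.result P).mp hgor
  letI : Algebra P A := g.toAlgebra
  have hft : Algebra.FiniteType P A :=
    Algebra.FiniteType.of_surjective (Algebra.ofId P A) hg
  exact Groth.Agent.S0377.result P (Dual.inD P P) hω A

end Groth.Agent.S0376
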