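import Groth.Statements.S0632
import Groth.Agent.Lib.Seat3EtaleClosedLift

set_option autoImplicit false
open CategoryTheory CategoryTheory.Limits AlgebraicGeometry Opposite
universe u
open EtCore

namespace Groth.Agent.S0632

/-- Let X -> Y be a closed immersion and U_i -> X (i in ι) a jointly surjective family of etale
morphisms. Then one can find a jointly surjective family of etale Y-schemes V_j each of which either
has empty preimage over X or, after base change to X, maps into one of the U_i over X. -/
theorem result {X Y : Scheme.{u}} (f : X ⟶ Y) [IsClosedImmersion f]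
    {ι : Type u} (U : ι → X.Etale) (hU : EtCoh.Covers U) :
    ∃ (κ : Type u) (V : κ → Y.Etale), EtCoh.Covers V ∧
      ∀ j, IsEmpty ↥(pullback (V j).hom f) ∨
        ∃ (i : ι) (h : pullback (V j).hom f ⟶ (U i).left), h ≫ (U i).hom = pullback.snd (V j).hom f := by
  classical
  have hUet : ∀ i, Etale (U i).hom := fun i => (U i).prop
  choose i y hy using hU
  choose V p hp h hcomp himm hmem using
    fun x : X => Groth.Agent.Lib.Seat3.EtaleClosedLift.exists_local_lift f (U (i x)).hom (y x)
  -- the open complement of the image of `f`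
  let V₀ : Y.Opens := ⟨(Set.range f.base)ᶜ, f.isClosedEmbedding.isClosed_range.isOpen_compl⟩
  refine ⟨Option X, fun o => o.elim (Scheme.Etale.mk V₀.ι)
    (fun x => @Scheme.Etale.mk Y (V x) (p x) (hp x)), ?_, ?_⟩
  · intro y₀
    by_cases hy₀ : y₀ ∈ Set.range f.base
    · obtain ⟨x, rfl⟩ := hy₀
      obtain ⟨z, hz⟩ := hmem x
      refine ⟨some x, (pullback.fst (p x) f).base z, ?_⟩
      change (p x).base ((pullback.fst (p x) f).base z) = f.base x
      rw [← Scheme.Hom.comp_apply, pullback.condition, ← hcomp x, Scheme.Hom.comp_apply,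
        Scheme.Hom.comp_apply, hz, hy x]
    · refine ⟨none, ⟨y₀, hy₀⟩, ?_⟩
      rfl
  · rintro (_ | x)
    · left
      constructor
      intro z
      have h1 : V₀.ι.base ((pullback.fst V₀.ι f).base z) = f.base ((pullback.snd V₀.ι f).base z) := by
        rw [← Scheme.Hom.comp_apply, ← Scheme.Hom.comp_apply, pullback.condition]
      have h2 : V₀.ι.base ((pullback.fst V₀.ι f).base z) ∈ (Set.range f.base)ᶜ :=
        ((pullback.fst V₀.ι f).base z).2
      exact h2 ⟨_, h1.symm⟩
    · right
      exact ⟨i x, h x, hcomp x⟩

end Groth.Agent.S0632
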