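import Groth.Statements.S0660
import Mathlib
import Groth.Agent.Lib.Helper16SmallEtale
-- import your own Groth.Agent.* helpers here

set_option autoImplicit false
open CategoryTheory CategoryTheory.Limits AlgebraicGeometry Opposite
universe u
open EtCore

namespace Groth.Agent.S0660

open Groth.Agent.Lib.Helper16.SmallEtale

lemma range_eq_preimage_of_isPullback {A B C D : Scheme.{u}} {f : A ⟶ B} {g : A ⟶ C} {h : B ⟶ D}
    {k : C ⟶ D} (sq : IsPullback f g h k) : Set.range f.base = h.base ⁻¹' Set.range k.base := by
  ext y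
  constructor
  · rintro ⟨a, rfl⟩
    refine ⟨g a, ?_⟩
    have := congrArg (fun m => m a) sq.w
    simp only [Scheme.Hom.comp_apply] at this
    exact this.symm
  · rintro ⟨c, hc⟩
    obtain ⟨t, ht1, -⟩ := Scheme.Pullback.exists_preimage_pullback (f := h) (g := k) y c hc.symm
    refine ⟨sq.isoPullback.inv t, ?_⟩
    rw [← Scheme.Hom.comp_apply, IsPullback.isoPullback_inv_fst]
    exact ht1

set_option backward.isDefEq.respectTransparency.types false in
/-- Let i : Z -> X be a closed immersion, U and U' schemes etale over X, and h a Z-morphism from U x_X Z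
to U' x_X Z. Then there are an etale X-scheme W and X-morphisms a : W -> U, b : W -> U' such that
the base change of a to Z is an isomorphism and h is the base change of b composed with the inverse
of the base change of a. -/
theorem result {Z X : Scheme.{u}} (i : Z ⟶ X) [IsClosedImmersion i] (U U' : X.Etale)
    (h : (EtCoh.bc i).obj U ⟶ (EtCoh.bc i).obj U') :
    ∃ (W : X.Etale) (a : W ⟶ U) (b : W ⟶ U'), IsIso ((EtCoh.bc i).map a) ∧ (EtCoh.bc i).map a ≫ h = (EtCoh.bc i).map b := by
  let F := EtCoh.bc i
  let P : X.Etale := U ⨯ U'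
  -- the graph of `h`
  let γ : F.obj U ⟶ F.obj P := prod.lift (𝟙 _) h ≫ inv (prodComparison F U U')
  have hγ1 : γ ≫ F.map prod.fst = 𝟙 _ := by
    dsimp only [γ]
    rw [Category.assoc, inv_prodComparison_map_fst]
    exact prod.lift_fst _ _
  have hγ2 : γ ≫ F.map prod.snd = h := by
    dsimp only [γ]
    rw [Category.assoc, inv_prodComparison_map_snd]
    exact prod.lift_snd _ _
  have hmono : Mono γ.left := by
    have e : γ.left ≫ (F.map (prod.fst : P ⟶ U)).left = 𝟙 _ := by
      have := congrArg (fun m => m.left) hγ1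
      exact this
    exact mono_of_mono_fac e
  have hopen : IsOpenImmersion γ.left := IsOpenImmersion.of_flat_of_mono _
  -- the closed immersion `P_Z ⟶ P`
  let ι : (F.obj P).left ⟶ P.left := pullback.fst P.hom i
  have hι : IsClosedImmersion ι := inferInstanceAs (IsClosedImmersion (pullback.fst P.hom i))
  obtain ⟨t, ht, hpre⟩ := ι.isClosedEmbedding.isInducing.isOpen_iff.mp
    γ.left.isOpenEmbedding.isOpen_range
  let O : P.left.Opens := ⟨t, ht⟩
  let W : X.Etale := Scheme.Etale.mk (O.ι ≫ P.hom)
  let w : W ⟶ P := MorphismProperty.Over.homMk O.ι rfl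
  have sq := EtCoh.isPullback_bc_map i w
  have hwopen : IsOpenImmersion (F.map w).left :=
    MorphismProperty.of_isPullback (P := @IsOpenImmersion) sq.flip (inferInstanceAs (IsOpenImmersion O.ι))
  have hrange : Set.range (F.map w).left.base = Set.range γ.left.base := by
    rw [range_eq_preimage_of_isPullback sq]
    change ι.base ⁻¹' Set.range O.ι.base = _
    rw [Scheme.Opens.range_ι]
    exact hpre
  let θ := IsOpenImmersion.isoOfRangeEq (F.map w).left γ.left hrange
  have hθ : θ.hom ≫ γ.left = (F.map w).left := IsOpenImmersion.isoOfRangeEq_hom_fac _ _ hrange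
  have ha : (F.map (w ≫ prod.fst)).left = θ.hom := by
    rw [Functor.map_comp]
    change (F.map w).left ≫ (F.map (prod.fst : P ⟶ U)).left = θ.hom
    rw [← hθ, Category.assoc]
    have e : γ.left ≫ (F.map (prod.fst : P ⟶ U)).left = 𝟙 _ := congrArg (fun m => m.left) hγ1
    rw [e, Category.comp_id]
  refine ⟨W, w ≫ prod.fst, w ≫ prod.snd, ?_, ?_⟩
  · have : IsIso ((Scheme.Etale.forget Z ⋙ Over.forget Z).map (F.map (w ≫ prod.fst))) := by
      change IsIso (F.map (w ≫ prod.fst)).left
      rw [ha]
      infer_instance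
    exact isIso_of_reflects_iso _ (Scheme.Etale.forget Z ⋙ Over.forget Z)
  · apply MorphismProperty.Over.Hom.ext
    change (F.map (w ≫ prod.fst)).left ≫ h.left = (F.map (w ≫ prod.snd)).left
    rw [ha, Functor.map_comp]
    change θ.hom ≫ h.left = (F.map w).left ≫ (F.map (prod.snd : P ⟶ U')).left
    rw [← hθ, Category.assoc]
    have e : γ.left ≫ (F.map (prod.snd : P ⟶ U')).left = h.left := congrArg (fun m => m.left) hγ2
    rw [e]

end Groth.Agent.S0660
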