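import Groth.Statements.S0696
import Groth.Agent.Lib.Seat3WLoc
import Groth.Agent.Lib.Seat3IndZarRecog
-- import your own Groth.Agent.* helpers here

set_option autoImplicit false
open CategoryTheory CategoryTheory.Limits AlgebraicGeometry Opposite Topology
universe u
open ProEtW

namespace Groth.Agent.S0696

open Groth.Agent.Lib.Seat3.WLoc Groth.Agent.Lib.Seat3.IndZarRecog

/-- Every ring A admits a faithfully flat ind-Zariski extension B whose spectrum is w-local with
extremally disconnected space of connected components. -/
theorem result (A : Type u) [CommRing A] :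
    ∃ (B : Type u) (_ : CommRing B) (_ : Algebra A B),
      Module.FaithfullyFlat A B ∧ EtPBC.IsIndZariski A B ∧ ProEtW.IsWLocal (PrimeSpectrum B) ∧
        ExtremallyDisconnected (_root_.ConnectedComponents (PrimeSpectrum B)) := by
  -- the Gleason cover of the patch space
  let X : CompHaus.{u} := CompHaus.of (PT A)
  let T' : Stonean.{u} := X.presentation
  let ρ : T' → PT A := fun t => (CompHaus.presentation.π X) t
  have hρ : Continuous ρ := (CompHaus.presentation.π X).hom.hom.continuous
  have hρs : Function.Surjective ρ :=
    (CompHaus.epi_iff_surjective (CompHaus.presentation.π X)).mp inferInstance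
  let π' : T' → PrimeSpectrum A := fun t => PT.toPrime (ρ t)
  have hπ' : Continuous π' := PT.continuous_toPrime.comp hρ
  have hcons : ∀ a : A, IsOpen (π' ⁻¹' (PrimeSpectrum.zeroLocus {a} : Set (PrimeSpectrum A))) :=
    fun a => (PT.isOpen_preimage_zeroLocus a).preimage hρ
  have hW := isWLocal π' hπ' hcons
  obtain ⟨e, -⟩ := exists_pi0_homeo π' hπ'
  exact ⟨Bw π', inferInstance, inferInstance,
    faithfullyFlat _ hπ' (PT.toPrime_bijective.2.comp hρs),
    isIndZariski_of_identifiesLocalRings_of_isWLocal _ _ (identifiesLocalRings _ hπ') hW, hW,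
    extremallyDisconnected_of_homeomorph e.symm⟩

end Groth.Agent.S0696
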