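import Groth.Statements.S0678
import Groth.Agent.S0696
import Groth.Agent.Lib.Seat3WLoc
import Groth.Agent.Lib.Seat3WLocal
import Groth.Agent.Lib.Seat3IndZarILR
import Groth.Agent.Lib.Seat3ILRIso
import Groth.Agent.Lib.Helper10Pi0
-- import your own Groth.Agent.* helpers here

set_option autoImplicit false
open CategoryTheory CategoryTheory.Limits AlgebraicGeometry Opposite Topology
universe u
open ProEtW

namespace Groth.Agent.S0678

open Groth.Agent.Lib.Seat3.WLoc Groth.Agent.Lib.Seat3.WLocal Groth.Agent.Lib.Seat3.IndZarILR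
  Groth.Agent.Lib.Seat3.ILRIso Groth.Agent.Lib.Helper10.Pi0

/-- a retract of an extremally disconnected space is extremally disconnected -/
theorem extremallyDisconnected_of_retract {X Y : Type*} [TopologicalSpace X] [TopologicalSpace Y]
    [ExtremallyDisconnected X] (i : Y → X) (r : X → Y) (hi : Continuous i) (hr : Continuous r)
    (hri : ∀ y, r (i y) = y) : ExtremallyDisconnected Y := by
  refine ⟨fun U hU => ?_⟩
  have h1 : IsOpen (closure (r ⁻¹' U)) := ExtremallyDisconnected.open_closure _ (hU.preimage hr)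
  have h2 : closure U = i ⁻¹' (closure (r ⁻¹' U)) := by
    apply Set.Subset.antisymm
    · apply closure_minimal _ (isClosed_closure.preimage hi)
      intro y hy
      apply subset_closure
      show r (i y) ∈ U
      rw [hri]
      exact hy
    · intro y hy
      have h3 : r (i y) ∈ closure (r '' (r ⁻¹' U)) :=
        image_closure_subset_closure_image hr ⟨i y, hy, rfl⟩
      rw [hri] at h3
      exact closure_mono (Set.image_preimage_subset r U) h3
  rw [h2]
  exact h1.preimage hi

/-- w-locality passes to a ring retract -/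
theorem isWLocal_of_retraction {A B : Type u} [CommRing A] [CommRing B] [Algebra A B]
    (ρ : B →ₐ[A] A) (hW : ProEtW.IsWLocal (PrimeSpectrum B)) :
    ProEtW.IsWLocal (PrimeSpectrum A) := by
  have hsurj : Function.Surjective ρ := fun a => ⟨algebraMap A B a, ρ.commutes a⟩
  have hemb : IsClosedEmbedding (PrimeSpectrum.comap ρ.toRingHom) :=
    PrimeSpectrum.isClosedEmbedding_comap_of_surjective _ _ hsurj
  have hcl : ∀ x : PrimeSpectrum A, IsClosed ({x} : Set (PrimeSpectrum A)) ↔
      IsClosed ({PrimeSpectrum.comap ρ.toRingHom x} : Set (PrimeSpectrum B)) := by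
    intro x
    rw [← Set.image_singleton, hemb.isClosed_iff_image_isClosed]
  refine ⟨inferInstance, ?_, ?_⟩
  · have : {x : PrimeSpectrum A | IsClosed ({x} : Set (PrimeSpectrum A))} =
        PrimeSpectrum.comap ρ.toRingHom ⁻¹' {y | IsClosed ({y} : Set (PrimeSpectrum B))} := by
      ext x
      exact hcl x
    rw [this]
    exact hW.2.1.preimage hemb.continuous
  · intro x
    obtain ⟨y₀, ⟨hy₀c, hy₀s⟩, hy₀u⟩ := hW.2.2 (PrimeSpectrum.comap ρ.toRingHom x)
    have hy₀r : y₀ ∈ Set.range (PrimeSpectrum.comap ρ.toRingHom) :=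
      hemb.isClosed_range.stableUnderSpecialization hy₀s ⟨x, rfl⟩
    obtain ⟨x₀, rfl⟩ := hy₀r
    refine ⟨x₀, ⟨(hcl x₀).mpr hy₀c, hemb.isInducing.specializes_iff.mp hy₀s⟩, ?_⟩
    rintro x₁ ⟨hx₁c, hx₁s⟩
    apply hemb.injective
    exact hy₀u _ ⟨(hcl x₁).mp hx₁c, hemb.isInducing.specializes_iff.mpr hx₁s⟩

theorem forward (A : Type u) [CommRing A] (hR : ProEtW.HasIndZariskiRetractions A) :
    ProEtW.IsWLocal (PrimeSpectrum A) ∧
      ExtremallyDisconnected (_root_.ConnectedComponents (PrimeSpectrum A)) := by
  obtain ⟨B, _, _, hff, hind, hW, hED⟩ := Groth.Agent.S0696.result A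
  obtain ⟨ρ⟩ := hR B hff hind
  refine ⟨isWLocal_of_retraction ρ hW, ?_⟩
  haveI := hED
  have hi : Continuous (PrimeSpectrum.comap ρ.toRingHom) := PrimeSpectrum.continuous_comap _
  have hr : Continuous (PrimeSpectrum.comap (algebraMap A B)) := PrimeSpectrum.continuous_comap _
  refine extremallyDisconnected_of_retract hi.connectedComponentsMap hr.connectedComponentsMap
    hi.connectedComponentsMap_continuous hr.connectedComponentsMap_continuous ?_
  intro c
  obtain ⟨x, rfl⟩ := _root_.ConnectedComponents.surjective_coe c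
  rw [hi.connectedComponentsMap_mk, hr.connectedComponentsMap_mk]
  congr 1
  ext a
  show ρ (algebraMap A B a) ∈ x.asIdeal ↔ a ∈ x.asIdeal
  rw [ρ.commutes]
  exact Iff.rfl

theorem backward (A : Type u) [CommRing A] (hW : ProEtW.IsWLocal (PrimeSpectrum A))
    (hED : ExtremallyDisconnected (_root_.ConnectedComponents (PrimeSpectrum A))) :
    ProEtW.HasIndZariskiRetractions A := by
  intro B _ _ hff hind
  have hILR := identifiesLocalRings_of_isIndZariski hind
  haveI : Module.Flat A B := flat_of_identifiesLocalRings hILR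
  -- the closed points form an extremally disconnected profinite space
  have hZcl : IsClosed {x : PrimeSpectrum A | IsClosed ({x} : Set (PrimeSpectrum A))} := hW.2.1
  haveI : CompactSpace ↥{x : PrimeSpectrum A | IsClosed ({x} : Set (PrimeSpectrum A))} :=
    isCompact_iff_compactSpace.mp hZcl.isCompact
  haveI : T2Space (_root_.ConnectedComponents (PrimeSpectrum A)) := t2Space_connectedComponents
  let e₀ : ↥{x : PrimeSpectrum A | IsClosed ({x} : Set (PrimeSpectrum A))} →
      _root_.ConnectedComponents (PrimeSpectrum A) := fun z => _root_.ConnectedComponents.mk z.1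
  have he₀c : Continuous e₀ :=
    _root_.ConnectedComponents.continuous_coe.comp continuous_subtype_val
  have he₀b : Function.Bijective e₀ :=
    ⟨fun z z' h => Subtype.ext (eq_of_mk_eq hW z.2 z'.2 h), fun c => by
      obtain ⟨x, hx, hxc⟩ := exists_closed_mk_eq hW c
      exact ⟨⟨x, hx⟩, hxc⟩⟩
  let e : ↥{x : PrimeSpectrum A | IsClosed ({x} : Set (PrimeSpectrum A))} ≃ₜ
      _root_.ConnectedComponents (PrimeSpectrum A) :=
    Continuous.homeoOfEquivCompactToT2 (f := Equiv.ofBijective e₀ he₀b) he₀c
  haveI : T2Space ↥{x : PrimeSpectrum A | IsClosed ({x} : Set (PrimeSpectrum A))} :=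
    e.symm.t2Space
  haveI : ExtremallyDisconnected ↥{x : PrimeSpectrum A | IsClosed ({x} : Set (PrimeSpectrum A))} :=
    extremallyDisconnected_of_homeomorph e.symm
  -- the patch space of `B` and the preimage of the closed points
  let G : PT B → PrimeSpectrum A := fun s => PrimeSpectrum.comap (algebraMap A B) (PT.toPrime s)
  have hG : Continuous G := (PrimeSpectrum.continuous_comap _).comp PT.continuous_toPrime
  have hWcl : IsClosed (G ⁻¹' {x : PrimeSpectrum A | IsClosed ({x} : Set (PrimeSpectrum A))}) :=
    hZcl.preimage hG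
  haveI : CompactSpace ↥(G ⁻¹' {x : PrimeSpectrum A | IsClosed ({x} : Set (PrimeSpectrum A))}) :=
    isCompact_iff_compactSpace.mp hWcl.isCompact
  let gW : ↥(G ⁻¹' {x : PrimeSpectrum A | IsClosed ({x} : Set (PrimeSpectrum A))}) →
      ↥{x : PrimeSpectrum A | IsClosed ({x} : Set (PrimeSpectrum A))} := fun w => ⟨G w.1, w.2⟩
  have hgW : Continuous gW := (hG.comp continuous_subtype_val).subtype_mk _
  have hgWs : Function.Surjective gW := by
    intro z
    obtain ⟨y, hy⟩ := PrimeSpectrum.comap_surjective_of_faithfullyFlat (A := A) (B := B) z.1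
    obtain ⟨s, hs⟩ := PT.toPrime_bijective.2 y
    have hGs : G s = z.1 := by
      show PrimeSpectrum.comap (algebraMap A B) (PT.toPrime s) = z.1
      rw [hs, hy]
    have hsW : s ∈ G ⁻¹' {x : PrimeSpectrum A | IsClosed ({x} : Set (PrimeSpectrum A))} := by
      show G s ∈ {x : PrimeSpectrum A | IsClosed ({x} : Set (PrimeSpectrum A))}
      rw [hGs]
      exact z.2
    exact ⟨⟨s, hsW⟩, Subtype.ext hGs⟩
  obtain ⟨σ₀, hσ₀c, hσ₀⟩ := CompactT2.ExtremallyDisconnected.projective
    (A := ↥{x : PrimeSpectrum A | IsClosed ({x} : Set (PrimeSpectrum A))})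
    (f := id) (g := gW) continuous_id hgW hgWs
  let σ : ↥{x : PrimeSpectrum A | IsClosed ({x} : Set (PrimeSpectrum A))} → PrimeSpectrum B :=
    fun z => PT.toPrime (σ₀ z).1
  have hσc : Continuous σ := PT.continuous_toPrime.comp (continuous_subtype_val.comp hσ₀c)
  have hσ : ∀ z, PrimeSpectrum.comap (algebraMap A B) (σ z) = z.1 :=
    fun z => congrArg Subtype.val (congrFun hσ₀ z)
  -- the ring `C = Bw σ`
  have hILR_BC := identifiesLocalRings σ hσc
  have tower : IsScalarTower A B (Bw σ) := by
    have h0 := IsScalarTower.of_algebraMap_eq (R := A) (S := B) (A := Bw σ) (fun x => rfl)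
    exact h0
  have hILR_AC : EtPBC.IdentifiesLocalRings A (Bw σ) := identifiesLocalRings_comp hILR hILR_BC
  have hcomap : ∀ y : PrimeSpectrum (Bw σ), PrimeSpectrum.comap (algebraMap A (Bw σ)) y =
      PrimeSpectrum.comap (algebraMap A B) (psi σ y).1 := by
    intro y
    rw [psi_fst]
    ext a
    show algebraMap A (Bw σ) a ∈ y.asIdeal ↔ algebraMap B (Bw σ) (algebraMap A B a) ∈ y.asIdeal
    rw [← IsScalarTower.algebraMap_apply A B (Bw σ)]
  have hbij : Function.Bijective (PrimeSpectrum.comap (algebraMap A (Bw σ))) := by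
    constructor
    · intro y₁ y₂ h12
      rw [hcomap, hcomap] at h12
      -- the closed points agree
      have hz : ∀ y : PrimeSpectrum (Bw σ),
          PrimeSpectrum.comap (algebraMap A B) (psi σ y).1 ⤳ ((psi σ y).2).1 := by
        intro y
        rw [← hσ (psi σ y).2, ← PrimeSpectrum.le_iff_specializes]
        exact Ideal.comap_mono (psi_le σ hσc y)
      obtain ⟨z₀, -, hz₀u⟩ := hW.2.2 (PrimeSpectrum.comap (algebraMap A B) (psi σ y₁).1)
      have h1 : ((psi σ y₁).2).1 = z₀ := hz₀u _ ⟨(psi σ y₁).2.2, hz y₁⟩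
      have h2 : ((psi σ y₂).2).1 = z₀ := hz₀u _ ⟨(psi σ y₂).2.2, h12 ▸ hz y₂⟩
      have hz12 : (psi σ y₁).2 = (psi σ y₂).2 := Subtype.ext (h1.trans h2.symm)
      -- the primes agree
      have key : ∀ y y' : PrimeSpectrum (Bw σ), (psi σ y).2 = (psi σ y').2 →
          PrimeSpectrum.comap (algebraMap A B) (psi σ y).1 =
            PrimeSpectrum.comap (algebraMap A B) (psi σ y').1 →
          (psi σ y).1.asIdeal ≤ (psi σ y').1.asIdeal := by
        intro y y' hzz hpp b hb
        obtain ⟨r, s, c, hs, hc, hcb⟩ :=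
          exists_of_identifiesLocalRings_surj hILR (σ (psi σ y).2) b
        have hc1 : c ∉ (psi σ y).1.asIdeal := fun h => hc (psi_le σ hσc y h)
        have hc2 : c ∉ (psi σ y').1.asIdeal := fun h => hc (hzz ▸ psi_le σ hσc y' h)
        have hs2 : algebraMap A B s ∉ (psi σ y').1.asIdeal :=
          fun h => hs (hzz ▸ psi_le σ hσc y' h)
        have hm1 : algebraMap A B s * b - algebraMap A B r ∈ (psi σ y).1.asIdeal := by
          have : c * (algebraMap A B s * b - algebraMap A B r) ∈ (psi σ y).1.asIdeal := by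
            rw [hcb]; exact zero_mem _
          rcases (psi σ y).1.2.mem_or_mem this with h | h
          · exact absurd h hc1
          · exact h
        have hm2 : algebraMap A B s * b - algebraMap A B r ∈ (psi σ y').1.asIdeal := by
          have : c * (algebraMap A B s * b - algebraMap A B r) ∈ (psi σ y').1.asIdeal := by
            rw [hcb]; exact zero_mem _
          rcases (psi σ y').1.2.mem_or_mem this with h | h
          · exact absurd h hc2
          · exact h
        have hr1 : algebraMap A B r ∈ (psi σ y).1.asIdeal := by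
          have := (psi σ y).1.asIdeal.sub_mem (Ideal.mul_mem_left _ (algebraMap A B s) hb) hm1
          rwa [sub_sub_cancel] at this
        have hr2 : algebraMap A B r ∈ (psi σ y').1.asIdeal := by
          have h3 : r ∈ (PrimeSpectrum.comap (algebraMap A B) (psi σ y).1).asIdeal := hr1
          rw [hpp] at h3
          exact h3
        have hsb : algebraMap A B s * b ∈ (psi σ y').1.asIdeal := by
          have := (psi σ y').1.asIdeal.add_mem hm2 hr2
          rwa [sub_add_cancel] at this
        rcases (psi σ y').1.2.mem_or_mem hsb with h | h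
        · exact absurd h hs2
        · exact h
      apply (isEmbedding_psi σ).injective
      refine Prod.ext ?_ hz12
      apply PrimeSpectrum.ext
      exact le_antisymm (key y₁ y₂ hz12 h12) (key y₂ y₁ hz12.symm h12.symm)
    · intro p
      obtain ⟨z₀, ⟨hz₀c, hpz⟩, -⟩ := hW.2.2 p
      have hle : p.asIdeal ≤ z₀.asIdeal := (PrimeSpectrum.le_iff_specializes _ _).mpr hpz
      haveI : (σ ⟨z₀, hz₀c⟩).asIdeal.LiesOver z₀.asIdeal :=
        ⟨congrArg PrimeSpectrum.asIdeal (hσ ⟨z₀, hz₀c⟩).symm⟩
      obtain ⟨q, hqle, hqp, hqover⟩ :=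
        Ideal.exists_ideal_le_liesOver_of_le (p := p.asIdeal) (q := z₀.asIdeal)
          (σ ⟨z₀, hz₀c⟩).asIdeal hle
      obtain ⟨y, hy⟩ := exists_psi_eq σ hσc (⟨q, hqp⟩, ⟨z₀, hz₀c⟩) hqle
      refine ⟨y, ?_⟩
      rw [hcomap, hy]
      apply PrimeSpectrum.ext
      exact hqover.over.symm
  have hiso := bijective_of_identifiesLocalRings_of_comap_bijective hILR_AC hbij
  let E : A ≃+* Bw σ := RingEquiv.ofBijective (algebraMap A (Bw σ)) hiso
  exact ⟨{ toRingHom := E.symm.toRingHom.comp (algebraMap B (Bw σ))
           commutes' := fun a => by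
             show E.symm (algebraMap B (Bw σ) (algebraMap A B a)) = a
             rw [← IsScalarTower.algebraMap_apply A B (Bw σ)]
             exact E.symm_apply_apply a }⟩

/-- For a ring A, every faithfully flat ind-Zariski A-algebra (filtered colimit of local isomorphisms)
has an A-algebra retraction if and only if Spec A is w-local and the space of connected components
of Spec A is extremally disconnected. -/
theorem result (A : Type u) [CommRing A] :
    ProEtW.HasIndZariskiRetractions A ↔
      (ProEtW.IsWLocal (PrimeSpectrum A) ∧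
        ExtremallyDisconnected (_root_.ConnectedComponents (PrimeSpectrum A))) := by
  exact ⟨forward A, fun h => backward A h.1 h.2⟩

end Groth.Agent.S0678
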