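import Groth.Statements.S0695
import Groth.Agent.Lib.Seat3WLoc
import Groth.Agent.Lib.Seat3WLocQuot
import Groth.Agent.Lib.Seat3WLocSelf
import Groth.Agent.Lib.Seat3IndZarRecog
-- import your own Groth.Agent.* helpers here

set_option autoImplicit false
open CategoryTheory CategoryTheory.Limits AlgebraicGeometry Opposite Topology
universe u
open ProEtW

namespace Groth.Agent.S0695

open Groth.Agent.Lib.Seat3.WLoc Groth.Agent.Lib.Seat3.WLocSelf Groth.Agent.Lib.Seat3.IndZarRecog
  Groth.Agent.Lib.Seat3.LCSpec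

section

variable {A : Type u} [CommRing A]

/-- the w-localization -/
abbrev Aw (A : Type u) [CommRing A] : Type u := Bw (PT.toPrime (A := A))

theorem PT.isInducing_val : IsInducing (fun s : PT A => s.1) := Topology.IsInducing.subtypeVal

variable {B : Type u} [CommRing B] [Algebra A B]

/-- the second coordinate of the image of a point under `Spec` of an algebra map out of `Aw` -/
noncomputable def tau (φ : Aw A →ₐ[A] B) (y : PrimeSpectrum B) : PT A :=
  (psi (PT.toPrime (A := A)) (PrimeSpectrum.comap φ.toRingHom y)).2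

theorem continuous_tau (φ : Aw A →ₐ[A] B) : Continuous (tau φ) :=
  continuous_snd.comp ((isEmbedding_psi _).continuous.comp (PrimeSpectrum.continuous_comap _))

theorem psi_comap_fst (φ : Aw A →ₐ[A] B) (y : PrimeSpectrum B) :
    (psi (PT.toPrime (A := A)) (PrimeSpectrum.comap φ.toRingHom y)).1 =
      PrimeSpectrum.comap (algebraMap A B) y := by
  rw [psi_fst]
  ext a
  show φ (algebraMap A (Aw A) a) ∈ y.asIdeal ↔ algebraMap A B a ∈ y.asIdeal
  rw [φ.commutes]

/-- an algebra map out of `Aw` is determined by `tau` -/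
theorem ext_of_tau (φ₁ φ₂ : Aw A →ₐ[A] B) (h : ∀ y, tau φ₁ y = tau φ₂ y) : φ₁ = φ₂ := by
  have hchar : ∀ (φ : Aw A →ₐ[A] B) (U : Set (PT A)) (hU : IsClopen U),
      (PrimeSpectrum.basicOpen (φ (algebraMap (LocallyConstant (PT A) A) (Aw A)
        (LocallyConstant.charFn A hU))) : Set (PrimeSpectrum B)) = tau φ ⁻¹' U := by
    intro φ U hU
    ext y
    have h1 : φ (algebraMap (LocallyConstant (PT A) A) (Aw A) (LocallyConstant.charFn A hU)) ∈
        y.asIdeal ↔ (LocallyConstant.charFn A hU) (tau φ y) ∈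
          (psi (PT.toPrime (A := A)) (PrimeSpectrum.comap φ.toRingHom y)).1.asIdeal :=
      algebraMap_mem_iff (PT.toPrime (A := A)) (PrimeSpectrum.comap φ.toRingHom y) _
    show ¬ _ ↔ _
    rw [h1]
    by_cases hy : tau φ y ∈ U
    · rw [charFn_apply_of_mem hU hy]
      simp only [Set.mem_preimage, hy, iff_true]
      exact fun h => (psi (PT.toPrime (A := A)) (PrimeSpectrum.comap φ.toRingHom y)).1.2.ne_top
        ((Ideal.eq_top_iff_one _).mpr h)
    · rw [charFn_apply_of_notMem hU hy]
      simp only [Set.mem_preimage, hy, iff_false, not_not]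
      exact zero_mem _
  have hidem : ∀ (φ : Aw A →ₐ[A] B) (U : Set (PT A)) (hU : IsClopen U),
      IsIdempotentElem (φ (algebraMap (LocallyConstant (PT A) A) (Aw A)
        (LocallyConstant.charFn A hU))) := fun φ U hU =>
    ((isIdempotentElem_charFn hU).map _).map φ
  have hcharEq : ∀ (U : Set (PT A)) (hU : IsClopen U),
      φ₁ (algebraMap (LocallyConstant (PT A) A) (Aw A) (LocallyConstant.charFn A hU)) =
        φ₂ (algebraMap (LocallyConstant (PT A) A) (Aw A) (LocallyConstant.charFn A hU)) := by
    intro U hU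
    apply PrimeSpectrum.basicOpen_injOn_isIdempotentElem (hidem φ₁ U hU) (hidem φ₂ U hU)
    apply SetLike.coe_injective
    rw [hchar φ₁ U hU, hchar φ₂ U hU]
    ext y
    simp only [Set.mem_preimage, h y]
  have hconst : ∀ (φ : Aw A →ₐ[A] B) (v : A),
      φ (algebraMap (LocallyConstant (PT A) A) (Aw A) (algebraMap A _ v)) = algebraMap A B v := by
    intro φ v
    rw [← IsScalarTower.algebraMap_apply A (LocallyConstant (PT A) A) (Aw A), φ.commutes]
  have hLC : ∀ f : LocallyConstant (PT A) A,
      φ₁ (algebraMap (LocallyConstant (PT A) A) (Aw A) f) =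
        φ₂ (algebraMap (LocallyConstant (PT A) A) (Aw A) f) := by
    intro f
    rw [eq_sum_charFn f]
    simp only [map_sum, map_mul]
    refine Finset.sum_congr rfl fun v _ => ?_
    rw [hconst φ₁, hconst φ₂, hcharEq]
  have hring : φ₁.toRingHom = φ₂.toRingHom := by
    apply IsLocalization.ringHom_ext (S (PT.toPrime (A := A)))
    ext f
    exact hLC f
  exact AlgHom.ext fun x => congr($hring x)

end

section univ

variable {A : Type u} [CommRing A] {B : Type u} [CommRing B] [Algebra A B]

/-- the patch point of the image of `y` in `Spec A` -/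
noncomputable def rr (y : PrimeSpectrum B) : PT A :=
  (PT.toPrime_bijective.2 (PrimeSpectrum.comap (algebraMap A B) y)).choose

theorem toPrime_rr (y : PrimeSpectrum B) :
    PT.toPrime (rr (A := A) y) = PrimeSpectrum.comap (algebraMap A B) y :=
  (PT.toPrime_bijective.2 (PrimeSpectrum.comap (algebraMap A B) y)).choose_spec

variable (hW : ProEtW.IsWLocal (PrimeSpectrum B))
include hW

theorem tau_eq_of_isWLocalMap (φ : Aw A →ₐ[A] B)
    (hφ : ProEtW.IsWLocalMap (PrimeSpectrum.comap φ.toRingHom)) (y : PrimeSpectrum B) :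
    tau φ y = rr (A := A) (cl hW y).1 := by
  have h1 : tau φ y = tau φ (cl hW y).1 :=
    ((specializes_cl hW y).map (continuous_tau φ)).eq
  rw [h1]
  apply PT.toPrime_bijective.1
  rw [toPrime_rr]
  have hcl := hφ.2 (cl hW y).1 (cl hW y).2
  rw [isClosed_singleton_iff _ PT.continuous_toPrime] at hcl
  rw [← psi_comap_fst φ]
  exact hcl.symm

theorem continuous_rr_clPt [T2Space (ClPt B)] :
    Continuous (fun z : ClPt B => rr (A := A) z.1) := by
  rw [PT.isInducing_val.continuous_iff]
  apply continuous_pi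
  intro a
  show Continuous (fun z : ClPt B => (rr (A := A) z.1).1 a)
  rw [continuous_bool_rng true]
  have hset : (fun z : ClPt B => (rr (A := A) z.1).1 a) ⁻¹' {true} =
      Subtype.val ⁻¹' (PrimeSpectrum.zeroLocus {algebraMap A B a} : Set (PrimeSpectrum B)) := by
    ext z
    simp only [Set.mem_preimage, Set.mem_singleton_iff, PrimeSpectrum.mem_zeroLocus,
      Set.singleton_subset_iff, SetLike.mem_coe]
    rw [← PT.mem_toPrime, toPrime_rr]
    rfl
  rw [hset]
  constructor
  · exact (PrimeSpectrum.isClosed_zeroLocus _).preimage continuous_subtype_val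
  · have hK : IsCompact ((Subtype.val : ClPt B → PrimeSpectrum B) ⁻¹'
        (PrimeSpectrum.basicOpen (algebraMap A B a) : Set (PrimeSpectrum B))) :=
      hW.2.1.isClosedEmbedding_subtypeVal.isCompact_preimage (PrimeSpectrum.isCompact_basicOpen _)
    have heq : (Subtype.val : ClPt B → PrimeSpectrum B) ⁻¹'
        (PrimeSpectrum.zeroLocus {algebraMap A B a} : Set (PrimeSpectrum B)) =
        ((Subtype.val : ClPt B → PrimeSpectrum B) ⁻¹'
          (PrimeSpectrum.basicOpen (algebraMap A B a) : Set (PrimeSpectrum B)))ᶜ := by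
      ext z
      simp only [Set.mem_preimage, PrimeSpectrum.mem_zeroLocus, Set.singleton_subset_iff,
        SetLike.mem_coe, Set.mem_compl_iff, PrimeSpectrum.mem_basicOpen, not_not]
    rw [heq]
    exact hK.isClosed.isOpen_compl

theorem exists_wLocal_algHom :
    ∃ φ : Aw A →ₐ[A] B, ProEtW.IsWLocalMap (PrimeSpectrum.comap φ.toRingHom) := by
  haveI := compactSpace_clPt hW
  haveI := totallySeparatedSpace_clPt hW
  let r₀ : C(ClPt B, PT A) := ⟨fun z => rr (A := A) z.1, continuous_rr_clPt hW⟩
  let Ψ₀ : LocallyConstant (PT A) A →+* LocallyConstant (ClPt B) B :=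
    (LocallyConstant.mapRingHom (algebraMap A B)).comp (LocallyConstant.comapRingHom r₀)
  have hΨ₀ : ∀ f z, Ψ₀ f z = algebraMap A B (f (rr (A := A) z.1)) := fun _ _ => rfl
  have hS : S (PT.toPrime (A := A)) ≤
      (S (Subtype.val : ClPt B → PrimeSpectrum B)).comap Ψ₀ := by
    intro f hf z hmem
    rw [hΨ₀] at hmem
    have h1 : f (rr (A := A) z.1) ∈ (PrimeSpectrum.comap (algebraMap A B) z.1).asIdeal := hmem
    rw [← toPrime_rr] at h1
    exact hf _ h1
  let Ψ : Aw A →+* Bw (Subtype.val : ClPt B → PrimeSpectrum B) :=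
    IsLocalization.map (Bw (Subtype.val : ClPt B → PrimeSpectrum B)) Ψ₀ hS
  let E : B ≃+* Bw (Subtype.val : ClPt B → PrimeSpectrum B) :=
    RingEquiv.ofBijective (algebraMap B (Bw (Subtype.val : ClPt B → PrimeSpectrum B)))
      (bijective_algebraMap_Bw hW)
  have hE : ∀ b, E b = algebraMap B (Bw (Subtype.val : ClPt B → PrimeSpectrum B)) b := fun _ => rfl
  let φ : Aw A →ₐ[A] B :=
    { toRingHom := E.symm.toRingHom.comp Ψ
      commutes' := fun a => by
        show E.symm (Ψ (algebraMap A (Aw A) a)) = algebraMap A B a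
        rw [IsScalarTower.algebraMap_apply A (LocallyConstant (PT A) A) (Aw A),
          IsLocalization.map_eq]
        have h1 : Ψ₀ (algebraMap A (LocallyConstant (PT A) A) a) =
            algebraMap B (LocallyConstant (ClPt B) B) (algebraMap A B a) := by
          ext z
          rfl
        rw [h1, ← IsScalarTower.algebraMap_apply B (LocallyConstant (ClPt B) B)
          (Bw (Subtype.val : ClPt B → PrimeSpectrum B)), ← hE, E.symm_apply_apply] }
  have hφ : ∀ x, φ x = E.symm (Ψ x) := fun _ => rfl
  -- membership in the pulled back prime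
  have hmem : ∀ (y : PrimeSpectrum B) (f : LocallyConstant (PT A) A),
      algebraMap (LocallyConstant (PT A) A) (Aw A) f ∈
        (PrimeSpectrum.comap φ.toRingHom y).asIdeal ↔
      f (rr (A := A) (cl hW y).1) ∈ (PrimeSpectrum.comap (algebraMap A B) y).asIdeal := by
    intro y f
    let y' : PrimeSpectrum (Bw (Subtype.val : ClPt B → PrimeSpectrum B)) :=
      PrimeSpectrum.comap E.symm.toRingHom y
    have hy'1 : (psi (Subtype.val : ClPt B → PrimeSpectrum B) y').1 = y := by
      rw [psi_fst]
      ext b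
      show E.symm (algebraMap B _ b) ∈ y.asIdeal ↔ b ∈ y.asIdeal
      rw [← hE, E.symm_apply_apply]
    have hy'2 : (psi (Subtype.val : ClPt B → PrimeSpectrum B) y').2 = cl hW y := by
      rw [psi_snd_eq_cl hW y', hy'1]
    have h1 : algebraMap (LocallyConstant (PT A) A) (Aw A) f ∈
        (PrimeSpectrum.comap φ.toRingHom y).asIdeal ↔
        algebraMap (LocallyConstant (ClPt B) B) (Bw (Subtype.val : ClPt B → PrimeSpectrum B))
          (Ψ₀ f) ∈ y'.asIdeal := by
      show φ (algebraMap _ _ f) ∈ y.asIdeal ↔ E.symm (algebraMap _ _ (Ψ₀ f)) ∈ y.asIdeal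
      rw [hφ, IsLocalization.map_eq]
    rw [h1, algebraMap_mem_iff, hy'1, hy'2, hΨ₀]
    rfl
  have htau : ∀ y, tau φ y = rr (A := A) (cl hW y).1 := by
    intro y
    have h2 : psi (PT.toPrime (A := A)) (PrimeSpectrum.comap φ.toRingHom y) =
        (PrimeSpectrum.comap (algebraMap A B) y, rr (A := A) (cl hW y).1) := by
      apply theta_injective
      rw [theta_psi]
      ext f
      rw [mem_theta]
      exact hmem y f
    exact congrArg Prod.snd h2
  refine ⟨φ, (Spec.map (CommRingCat.ofHom φ.toRingHom)).isSpectralMap, ?_⟩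
  intro y hy
  rw [isClosed_singleton_iff _ PT.continuous_toPrime, psi_comap_fst]
  have h3 : (psi (PT.toPrime (A := A)) (PrimeSpectrum.comap φ.toRingHom y)).2 =
      rr (A := A) (cl hW y).1 := htau y
  rw [h3, toPrime_rr, cl_of_isClosed hW hy]

end univ

/-- For every ring A there is a faithfully flat ind-Zariski A-algebra A_w with w-local spectrum such
that for every A-algebra B whose spectrum is w-local there is exactly one A-algebra map A_w -> B for
which Spec B -> Spec A_w is w-local. -/
theorem result (A : Type u) [CommRing A] :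
    ∃ (Aw : Type u) (_ : CommRing Aw) (_ : Algebra A Aw),
      Module.FaithfullyFlat A Aw ∧ EtPBC.IsIndZariski A Aw ∧ ProEtW.IsWLocal (PrimeSpectrum Aw) ∧
      ∀ (B : Type u) [CommRing B] [Algebra A B], ProEtW.IsWLocal (PrimeSpectrum B) →
        ∃! φ : Aw →ₐ[A] B, ProEtW.IsWLocalMap (PrimeSpectrum.comap φ.toRingHom) := by
  have hπ := PT.continuous_toPrime (A := A)
  have hW := isWLocal (PT.toPrime (A := A)) hπ PT.isOpen_preimage_zeroLocus
  refine ⟨Aw A, inferInstance, inferInstance, faithfullyFlat _ hπ PT.toPrime_bijective.2,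
    isIndZariski_of_identifiesLocalRings_of_isWLocal _ _ (identifiesLocalRings _ hπ) hW, hW, ?_⟩
  intro B _ _ hWB
  obtain ⟨φ, hφ⟩ := exists_wLocal_algHom (A := A) hWB
  refine ⟨φ, hφ, fun φ' hφ' => ext_of_tau φ' φ (fun y => ?_)⟩
  rw [tau_eq_of_isWLocalMap hWB φ' hφ', tau_eq_of_isWLocalMap hWB φ hφ]

end Groth.Agent.S0695
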