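import Groth.Statements.S0697
import Groth.Agent.Lib.Seat3IndZar
import Groth.Agent.Lib.Seat3LCSpec
import Groth.Agent.Lib.Helper10Pi0
-- import your own Groth.Agent.* helpers here

set_option autoImplicit false
open CategoryTheory CategoryTheory.Limits AlgebraicGeometry Opposite Topology
universe u
open ProEtW

namespace Groth.Agent.S0697

open Groth.Agent.Lib.Seat3.IndZar Groth.Agent.Lib.Seat3.LCSpec Groth.Agent.Lib.Helper10.Pi0

section

variable (A : Type u) [CommRing A] (T : Type u)
  [TopologicalSpace T] [CompactSpace T] [T2Space T] [TotallyDisconnectedSpace T]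
  (g : C(T, _root_.ConnectedComponents (PrimeSpectrum A)))

/-- the fibre product inside `Spec A × T` -/
def Z : Set (PrimeSpectrum A × T) := {p | _root_.ConnectedComponents.mk p.1 = g p.2}

/-- the idempotents of `LocallyConstant T A` vanishing on the fibre product -/
def S : Set (LocallyConstant T A) :=
  {f | IsIdempotentElem f ∧ ∀ x ∈ Z A T g, f ∈ (theta x).asIdeal}

/-- the ideal -/
def I : Ideal (LocallyConstant T A) := Ideal.span (S A T g)

/-- every element of `I` is fixed by multiplication with some element of `S` -/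
theorem exists_mul_eq {x : LocallyConstant T A} (hx : x ∈ I A T g) :
    ∃ f ∈ S A T g, x * f = x := by
  refine Submodule.span_induction (p := fun x _ => ∃ f ∈ S A T g, x * f = x) ?_ ?_ ?_ ?_ hx
  · intro x hx
    exact ⟨x, hx, hx.1.eq⟩
  · exact ⟨0, ⟨IsIdempotentElem.zero, fun x _ => zero_mem _⟩, by simp⟩
  · rintro x y - - ⟨f₁, hf₁, hx⟩ ⟨f₂, hf₂, hy⟩
    have h₁ : f₁ * f₁ = f₁ := hf₁.1.eq
    have h₂ : f₂ * f₂ = f₂ := hf₂.1.eq
    refine ⟨f₁ + f₂ - f₁ * f₂, ⟨?_, ?_⟩, ?_⟩
    · show (f₁ + f₂ - f₁ * f₂) * (f₁ + f₂ - f₁ * f₂) = f₁ + f₂ - f₁ * f₂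
      linear_combination (1 + f₂ ^ 2 - 2 * f₂) * h₁ + (1 - f₁) * h₂
    · intro z hz
      exact Ideal.sub_mem _ (Ideal.add_mem _ (hf₁.2 z hz) (hf₂.2 z hz))
        (Ideal.mul_mem_right _ _ (hf₁.2 z hz))
    · linear_combination (1 - f₂) * hx + (1 - f₁) * hy
  · rintro c x - ⟨f, hf, hx⟩
    exact ⟨f, hf, by rw [smul_eq_mul, mul_assoc, hx]⟩

theorem isClosed_Z : IsClosed (Z A T g) := isClosed_fp (PrimeSpectrum A) T g

/-- the zero locus of `I` is the image of the fibre product -/
theorem zeroLocus_I : PrimeSpectrum.zeroLocus (I A T g : Set (LocallyConstant T A)) =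
    theta '' Z A T g := by
  have : T2Space (_root_.ConnectedComponents (PrimeSpectrum A)) := t2Space_connectedComponents
  unfold I
  rw [PrimeSpectrum.zeroLocus_span]
  apply Set.Subset.antisymm
  · intro P hP
    obtain ⟨⟨p, t⟩, rfl⟩ := theta_surjective P
    by_contra hZ
    have hpt : _root_.ConnectedComponents.mk p ≠ g t := fun h => hZ ⟨(p, t), h, rfl⟩
    obtain ⟨V, hV, hpV, hgV⟩ := exists_isClopen_of_totally_separated hpt
    -- the clopen neighbourhood
    let N : Set (PrimeSpectrum A × T) := (_root_.ConnectedComponents.mk ⁻¹' V) ×ˢ (g ⁻¹' Vᶜ)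
    have hN : IsClopen N :=
      (hV.preimage _root_.ConnectedComponents.continuous_coe).prod
        (hV.compl.preimage g.continuous)
    have hN' : IsClopen ((thetaHomeo (T := T) (A := A)) '' N) :=
      ⟨thetaHomeo.isClosed_image.mpr hN.1, thetaHomeo.isOpen_image.mpr hN.2⟩
    obtain ⟨f, hf, hfN⟩ := PrimeSpectrum.isClopen_iff.mp hN'
    have hfS : f ∈ S A T g := by
      refine ⟨hf, ?_⟩
      intro z hz
      by_contra hzf
      have hz' : theta z ∈ (thetaHomeo (T := T) (A := A)) '' N := by
        rw [hfN]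
        exact hzf
      obtain ⟨z', hz'N, hz'z⟩ := hz'
      have : z' = z := theta_injective hz'z
      subst this
      have h1 : _root_.ConnectedComponents.mk z'.1 ∈ V := hz'N.1
      have h2 : g z'.2 ∉ V := hz'N.2
      exact h2 ((hz : _root_.ConnectedComponents.mk z'.1 = g z'.2) ▸ h1)
    have hfP : f ∈ (theta (p, t)).asIdeal := hP hfS
    have hPN : theta (p, t) ∈ (thetaHomeo (T := T) (A := A)) '' N :=
      ⟨(p, t), ⟨hpV, hgV⟩, rfl⟩
    rw [hfN] at hPN
    exact hPN hfP
  · rintro _ ⟨z, hz, rfl⟩ f hf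
    exact hf.2 z hz

/-- the ring -/
abbrev B : Type u := LocallyConstant T A ⧸ I A T g

/-- the embedding `Spec B → Spec A × T` -/
noncomputable def psi (y : PrimeSpectrum (B A T g)) : PrimeSpectrum A × T :=
  thetaHomeo.symm (PrimeSpectrum.comap (Ideal.Quotient.mk (I A T g)) y)

theorem theta_psi (y : PrimeSpectrum (B A T g)) :
    theta (psi A T g y) = PrimeSpectrum.comap (Ideal.Quotient.mk (I A T g)) y :=
  thetaHomeo.apply_symm_apply _

theorem psi_fst (y : PrimeSpectrum (B A T g)) :
    (psi A T g y).1 = PrimeSpectrum.comap (algebraMap A (B A T g)) y := by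
  rw [← comap_theta (psi A T g y), theta_psi]
  rfl

theorem isEmbedding_psi : IsEmbedding (psi A T g) :=
  thetaHomeo.symm.isEmbedding.comp
    (PrimeSpectrum.isEmbedding_comap_of_surjective _ _ Ideal.Quotient.mk_surjective)

theorem range_psi : Set.range (psi A T g) = Z A T g := by
  have hr : Set.range (PrimeSpectrum.comap (Ideal.Quotient.mk (I A T g))) = theta '' Z A T g := by
    rw [_root_.range_comap_of_surjective _ _ Ideal.Quotient.mk_surjective, Ideal.mk_ker,
      zeroLocus_I]
  ext z
  constructor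
  · rintro ⟨y, rfl⟩
    have h1 : theta (psi A T g y) ∈ theta '' Z A T g := by
      rw [theta_psi, ← hr]
      exact ⟨y, rfl⟩
    obtain ⟨z', hz', h⟩ := h1
    exact theta_injective h ▸ hz'
  · intro hz
    have h1 : theta z ∈ Set.range (PrimeSpectrum.comap (Ideal.Quotient.mk (I A T g))) := by
      rw [hr]
      exact ⟨z, hz, rfl⟩
    obtain ⟨y, hy⟩ := h1
    refine ⟨y, ?_⟩
    unfold psi
    rw [hy]
    exact thetaHomeo.symm_apply_apply z

/-- `B` is ind-Zariski over `A`. -/
theorem isIndZariski_B : EtPBC.IsIndZariski A (B A T g) := by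
  have HS : HitAll A (B A T g) := by
    intro b
    obtain ⟨f, rfl⟩ := Ideal.Quotient.mk_surjective b
    apply isHit_of_forall_maximal
    intro n hn
    let y : PrimeSpectrum (B A T g) := ⟨n, hn.isPrime⟩
    obtain ⟨⟨p, t⟩, hpt⟩ := theta_surjective (PrimeSpectrum.comap (Ideal.Quotient.mk (I A T g)) y)
    let χ := LocallyConstant.charFn A (f.isLocallyConstant.isClopen_fiber (f t))
    have hχ : IsIdempotentElem χ := isIdempotentElem_charFn _
    refine ⟨Ideal.Quotient.mk (I A T g) χ, hχ.map (Ideal.Quotient.mk (I A T g)), ?_, ?_⟩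
    · intro hmem
      have h1 : χ ∈ (theta (p, t)).asIdeal := by
        rw [hpt]
        exact hmem
      rw [mem_theta] at h1
      change χ t ∈ p.asIdeal at h1
      rw [charFn_apply_of_mem _ (show t ∈ {x | f x = f t} from rfl)] at h1
      exact p.2.ne_top ((Ideal.eq_top_iff_one _).mpr h1)
    · rw [← map_mul, mul_charFn_fiber f t, map_mul]
      exact (isHit_algebraMap (f t)).mul (isHit_of_isIdempotentElem (hχ.map _))
  apply isIndZariski_of_hitAll_killAll HS
  apply killAll_of_hitAll_of_hinj HS
  rintro n hn a ⟨c, hc, hca⟩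
  obtain ⟨g', rfl⟩ := Ideal.Quotient.mk_surjective c
  let y : PrimeSpectrum (B A T g) := ⟨n, hn.isPrime⟩
  obtain ⟨⟨p, t⟩, hpt⟩ := theta_surjective (PrimeSpectrum.comap (Ideal.Quotient.mk (I A T g)) y)
  have hmemI : g' * algebraMap A (LocallyConstant T A) a ∈ I A T g := by
    rw [← Ideal.Quotient.eq_zero_iff_mem, map_mul]
    exact hca
  obtain ⟨f, hfS, hf⟩ := exists_mul_eq A T g hmemI
  -- `h = g' (1 - f)` is not in the prime, and kills `a`
  have hfP : f ∈ (theta (p, t)).asIdeal := by
    rw [hpt]
    show Ideal.Quotient.mk (I A T g) f ∈ n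
    have hfI : f ∈ I A T g := Ideal.subset_span hfS
    rw [Ideal.Quotient.eq_zero_iff_mem.mpr hfI]
    exact zero_mem _
  have hg'P : g' ∉ (theta (p, t)).asIdeal := by
    rw [hpt]
    exact hc
  rw [mem_theta] at hfP hg'P
  change f t ∈ p.asIdeal at hfP
  change g' t ∉ p.asIdeal at hg'P
  have h1f : (1 - f t) ∉ p.asIdeal := by
    intro h
    have := p.asIdeal.add_mem h hfP
    rw [sub_add_cancel] at this
    exact p.2.ne_top ((Ideal.eq_top_iff_one _).mpr this)
  refine ⟨g' t * (1 - f t), ?_, ?_⟩
  · intro hmem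
    have h2 : algebraMap A (LocallyConstant T A) (g' t * (1 - f t)) ∈ (theta (p, t)).asIdeal := by
      rw [hpt]
      exact hmem
    rw [mem_theta] at h2
    change g' t * (1 - f t) ∈ p.asIdeal at h2
    rcases p.2.mem_or_mem h2 with h | h
    · exact hg'P h
    · exact h1f h
  · have h3 := congrArg (fun k : LocallyConstant T A => k t) hf
    simp only [LocallyConstant.mul_apply, const_apply] at h3
    linear_combination (-1 : A) * h3 + (0 : A)

end

/-- Let A be a ring, X = Spec A, T a profinite space and g : T -> pi_0(X) continuous. Then there is an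
ind-Zariski A-algebra B, with Y = Spec B, and a homeomorphism e : pi_0(Y) -> T over pi_0(X) such
that Y -> X x T, y |-> (image of y, e [y]) is a topological embedding with image the fibre product
of X and T over pi_0(X); that is, the square Y -> pi_0(Y) = T, Y -> X is cartesian in topological
spaces. -/
theorem result (A : Type u) [CommRing A] (T : Type u)
    [TopologicalSpace T] [CompactSpace T] [T2Space T] [TotallyDisconnectedSpace T]
    (g : C(T, _root_.ConnectedComponents (PrimeSpectrum A))) :
    ∃ (B : Type u) (_ : CommRing B) (_ : Algebra A B) (e : _root_.ConnectedComponents (PrimeSpectrum B) ≃ₜ T),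
      EtPBC.IsIndZariski A B ∧
      (∀ y : PrimeSpectrum B,
        g (e (_root_.ConnectedComponents.mk y)) = _root_.ConnectedComponents.mk (PrimeSpectrum.comap (algebraMap A B) y)) ∧
      Topology.IsEmbedding (fun y : PrimeSpectrum B =>
        (PrimeSpectrum.comap (algebraMap A B) y, e (_root_.ConnectedComponents.mk y))) ∧
      Set.range (fun y : PrimeSpectrum B =>
        (PrimeSpectrum.comap (algebraMap A B) y, e (_root_.ConnectedComponents.mk y))) =
        {p : PrimeSpectrum A × T | _root_.ConnectedComponents.mk p.1 = g p.2} := by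
  have hemb := isEmbedding_psi A T g
  have hrange := range_psi A T g
  let ψh : PrimeSpectrum (B A T g) ≃ₜ ↥(Z A T g) :=
    hemb.toHomeomorph.trans (Homeomorph.setCongr hrange)
  have hψh : ∀ y, (ψh y).1 = psi A T g y := fun y => rfl
  let τ : PrimeSpectrum (B A T g) → T := fun y => (psi A T g y).2
  have hτ : Continuous τ := continuous_snd.comp hemb.continuous
  have hinj : Function.Injective hτ.connectedComponentsLift := by
    intro a b hab
    obtain ⟨y₁, rfl⟩ := _root_.ConnectedComponents.surjective_coe a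
    obtain ⟨y₂, rfl⟩ := _root_.ConnectedComponents.surjective_coe b
    rw [hτ.connectedComponentsLift_apply_coe, hτ.connectedComponentsLift_apply_coe] at hab
    have h1 := fp_mk_eq_of_snd_eq (PrimeSpectrum A) T g (ψh y₁) (ψh y₂) hab
    rw [_root_.ConnectedComponents.coe_eq_coe'] at h1 ⊢
    have h2 := ψh.symm.continuous.image_connectedComponent_subset (ψh y₂) ⟨_, h1, rfl⟩
    rwa [ψh.symm_apply_apply, ψh.symm_apply_apply] at h2
  have hsurj : Function.Surjective hτ.connectedComponentsLift := by
    intro t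
    obtain ⟨p, hp⟩ := _root_.ConnectedComponents.surjective_coe (g t)
    refine ⟨_root_.ConnectedComponents.mk (ψh.symm ⟨(p, t), hp⟩), ?_⟩
    rw [hτ.connectedComponentsLift_apply_coe]
    show (psi A T g (ψh.symm ⟨(p, t), hp⟩)).2 = t
    rw [← hψh, ψh.apply_symm_apply]
  let e₀ := Equiv.ofBijective _ ⟨hinj, hsurj⟩
  have he₀ : Continuous e₀ := hτ.connectedComponentsLift_continuous
  let e : _root_.ConnectedComponents (PrimeSpectrum (B A T g)) ≃ₜ T := he₀.homeoOfEquivCompactToT2
  have he : ∀ y, e (_root_.ConnectedComponents.mk y) = (psi A T g y).2 :=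
    fun y => hτ.connectedComponentsLift_apply_coe y
  have hfun : (fun y : PrimeSpectrum (B A T g) =>
      (PrimeSpectrum.comap (algebraMap A (B A T g)) y, e (_root_.ConnectedComponents.mk y))) =
      psi A T g := by
    funext y
    exact Prod.ext (psi_fst A T g y).symm (he y)
  refine ⟨B A T g, inferInstance, inferInstance, e, isIndZariski_B A T g, ?_, ?_, ?_⟩
  · intro y
    rw [he, ← psi_fst]
    have : psi A T g y ∈ Z A T g := hrange ▸ ⟨y, rfl⟩
    exact this.symm
  · rw [hfun]
    exact hemb
  · rw [hfun, hrange]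
    rfl

end Groth.Agent.S0697
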