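import Groth.Statements.S0698
import Groth.Agent.Lib.Seat3IndZarQuot
import Groth.Agent.Lib.Helper10Pi0

set_option autoImplicit false
open CategoryTheory CategoryTheory.Limits AlgebraicGeometry Opposite Topology
universe u
open scoped TensorProduct
open ProEtW

namespace Groth.Agent.S0698

/-- Let A be a ring, X = Spec A and T a closed subset of pi_0(X). Then A has an ind-Zariski quotient
ring B (the map A -> B is surjective) whose spectrum maps homeomorphically onto the preimage of T in
X. -/
theorem result (A : Type u) [CommRing A]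
    (T : Set (_root_.ConnectedComponents (PrimeSpectrum A))) (hT : IsClosed T) :
    ∃ (B : Type u) (_ : CommRing B) (_ : Algebra A B),
      EtPBC.IsIndZariski A B ∧ Function.Surjective (algebraMap A B) ∧
      Topology.IsEmbedding (PrimeSpectrum.comap (algebraMap A B)) ∧
      Set.range (PrimeSpectrum.comap (algebraMap A B)) = _root_.ConnectedComponents.mk ⁻¹' T := by
  classical
  let S : Set A := {f : A | IsIdempotentElem f ∧
    _root_.ConnectedComponents.mk ⁻¹' T ⊆ PrimeSpectrum.zeroLocus {f}}
  have hS : ∀ s ∈ S, IsIdempotentElem s := fun s hs => hs.1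
  let I : Ideal A := Ideal.span S
  have hsurj : Function.Surjective (algebraMap A (A ⧸ I)) := Ideal.Quotient.mk_surjective
  refine ⟨A ⧸ I, inferInstance, inferInstance,
    Groth.Agent.Lib.Seat3.IndZarQuot.isIndZariski_quotient hS rfl, hsurj,
    PrimeSpectrum.isEmbedding_comap_of_surjective _ _ hsurj, ?_⟩
  rw [_root_.range_comap_of_surjective _ _ hsurj]
  have hker : RingHom.ker (algebraMap A (A ⧸ I)) = I := Ideal.mk_ker
  rw [hker, PrimeSpectrum.zeroLocus_span]
  apply Set.Subset.antisymm
  · intro x hx
    by_contra hxT
    have : T2Space (_root_.ConnectedComponents (PrimeSpectrum A)) :=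
      Groth.Agent.Lib.Helper10.Pi0.t2Space_connectedComponents
    have hopen : IsOpen Tᶜ := hT.isOpen_compl
    obtain ⟨V, hV, hxV, hVT⟩ :=
      (isTopologicalBasis_isClopen (X := _root_.ConnectedComponents (PrimeSpectrum A))).exists_subset_of_mem_open
        (show _root_.ConnectedComponents.mk x ∈ Tᶜ from hxT) hopen
    have hVc : IsClopen (_root_.ConnectedComponents.mk ⁻¹' V : Set (PrimeSpectrum A)) :=
      hV.preimage _root_.ConnectedComponents.continuous_coe
    obtain ⟨e, he, heq⟩ := PrimeSpectrum.exists_idempotent_basicOpen_eq_of_isClopen hVc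
    have heS : e ∈ S := by
      refine ⟨he, ?_⟩
      intro y hy
      rw [PrimeSpectrum.mem_zeroLocus, Set.singleton_subset_iff]
      by_contra hey
      have hyV : y ∈ (_root_.ConnectedComponents.mk ⁻¹' V : Set (PrimeSpectrum A)) := by
        rw [heq]
        exact hey
      exact hVT hyV hy
    have hex : e ∈ x.asIdeal := hx heS
    have hxV' : x ∈ (_root_.ConnectedComponents.mk ⁻¹' V : Set (PrimeSpectrum A)) := hxV
    rw [heq] at hxV'
    exact hxV' hex
  · intro x hx f hf
    have := hf.2 hx
    rw [PrimeSpectrum.mem_zeroLocus, Set.singleton_subset_iff] at this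
    exact this

end Groth.Agent.S0698
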