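import Groth.Statements.S0699
import Groth.Agent.Lib.Seat3WLocal

set_option autoImplicit false
open CategoryTheory CategoryTheory.Limits AlgebraicGeometry Opposite Topology
universe u
open scoped TensorProduct
open ProEtW

namespace Groth.Agent.S0699

open Groth.Agent.Lib.Seat3.WLocal

section
variable {A B : Type u} [CommRing A] [CommRing B] [Algebra A B]

/-- closed points of `Spec B` over the same point are equal -/
theorem closed_inj (h3 : ProEtW.IsWLocal (PrimeSpectrum B))
    (h5 : Function.Bijective
      (PrimeSpectrum.continuous_comap (algebraMap A B)).connectedComponentsMap)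
    {n n' : PrimeSpectrum B} (hn : IsClosed ({n} : Set (PrimeSpectrum B)))
    (hn' : IsClosed ({n'} : Set (PrimeSpectrum B)))
    (h : PrimeSpectrum.comap (algebraMap A B) n = PrimeSpectrum.comap (algebraMap A B) n') :
    n = n' := by
  apply eq_of_mk_eq h3 hn hn'
  apply h5.1
  rw [Continuous.connectedComponentsMap_mk, Continuous.connectedComponentsMap_mk, h]

/-- every closed point of `Spec A` is the image of a closed point of `Spec B` -/
theorem closed_surj (h2 : ProEtW.IsWLocal (PrimeSpectrum A))
    (h3 : ProEtW.IsWLocal (PrimeSpectrum B))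
    (h4 : ProEtW.IsWLocalMap (PrimeSpectrum.comap (algebraMap A B)))
    (h5 : Function.Bijective
      (PrimeSpectrum.continuous_comap (algebraMap A B)).connectedComponentsMap)
    {m : PrimeSpectrum A} (hm : IsClosed ({m} : Set (PrimeSpectrum A))) :
    ∃ n : PrimeSpectrum B, IsClosed ({n} : Set (PrimeSpectrum B)) ∧
      PrimeSpectrum.comap (algebraMap A B) n = m := by
  obtain ⟨c, hc⟩ := h5.2 (_root_.ConnectedComponents.mk m)
  obtain ⟨n, hn, rfl⟩ := exists_closed_mk_eq h3 c
  refine ⟨n, hn, ?_⟩
  rw [Continuous.connectedComponentsMap_mk] at hc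
  exact eq_of_mk_eq h2 (h4.2 n hn) hm hc

/-- Key: a prime `q` of `B` whose contraction lies in the contraction of a closed point `n` lies in
`n`. -/
theorem le_of_comap_le (h2 : ProEtW.IsWLocal (PrimeSpectrum A))
    (h3 : ProEtW.IsWLocal (PrimeSpectrum B))
    (h4 : ProEtW.IsWLocalMap (PrimeSpectrum.comap (algebraMap A B)))
    (h5 : Function.Bijective
      (PrimeSpectrum.continuous_comap (algebraMap A B)).connectedComponentsMap)
    {n : PrimeSpectrum B} (hn : IsClosed ({n} : Set (PrimeSpectrum B)))
    (q : PrimeSpectrum B)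
    (hq : PrimeSpectrum.comap (algebraMap A B) q ≤ PrimeSpectrum.comap (algebraMap A B) n) :
    q ≤ n := by
  obtain ⟨q₀, ⟨hq₀, hqq₀⟩, -⟩ := h3.2.2 q
  have hcont : Continuous (PrimeSpectrum.comap (algebraMap A B)) :=
    PrimeSpectrum.continuous_comap _
  have s1 : PrimeSpectrum.comap (algebraMap A B) q ⤳ PrimeSpectrum.comap (algebraMap A B) q₀ :=
    hqq₀.map hcont
  have s2 : PrimeSpectrum.comap (algebraMap A B) q ⤳ PrimeSpectrum.comap (algebraMap A B) n :=
    (PrimeSpectrum.le_iff_specializes _ _).mp hq
  obtain ⟨y, -, huniq⟩ := h2.2.2 (PrimeSpectrum.comap (algebraMap A B) q)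
  have e1 := huniq _ ⟨h4.2 q₀ hq₀, s1⟩
  have e2 := huniq _ ⟨h4.2 n hn, s2⟩
  have : q₀ = n := closed_inj h3 h5 hq₀ hn (e1.trans e2.symm)
  rw [← this]
  exact (PrimeSpectrum.le_iff_specializes _ _).mpr hqq₀

end

/-- Let A -> B identify local rings, with Spec A and Spec B w-local, Spec B -> Spec A w-local, and
pi_0(Spec B) -> pi_0(Spec A) bijective. Then A -> B is bijective. -/
theorem result (A B : Type u) [CommRing A] [CommRing B]
    [Algebra A B] (h1 : EtPBC.IdentifiesLocalRings A B) (h2 : ProEtW.IsWLocal (PrimeSpectrum A))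
    (h3 : ProEtW.IsWLocal (PrimeSpectrum B))
    (h4 : ProEtW.IsWLocalMap (PrimeSpectrum.comap (algebraMap A B)))
    (h5 : Function.Bijective
      (PrimeSpectrum.continuous_comap (algebraMap A B)).connectedComponentsMap) :
    Function.Bijective (algebraMap A B) := by
  classical
  constructor
  · -- injectivity
    rw [injective_iff_map_eq_zero]
    intro a ha
    by_contra hne
    -- the annihilator of `a` is a proper ideal
    let J : Ideal A := Ideal.span {a} |>.annihilator
    have hJ : J ≠ ⊤ := by
      intro h
      have h1' : (1 : A) ∈ J := by rw [h]; trivial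
      rw [Submodule.mem_annihilator_span_singleton] at h1'
      exact hne (by simpa using h1')
    obtain ⟨m, hm, hJm⟩ := Ideal.exists_le_maximal J hJ
    let mp : PrimeSpectrum A := ⟨m, hm.isPrime⟩
    have hmcl : IsClosed ({mp} : Set (PrimeSpectrum A)) :=
      (PrimeSpectrum.isClosed_singleton_iff_isMaximal mp).mpr hm
    obtain ⟨n, hn, hnm⟩ := closed_surj h2 h3 h4 h5 hmcl
    have hbij := h1 n
    have hz : algebraMap A (Localization.AtPrime (n.asIdeal.comap (algebraMap A B))) a = 0 := by
      apply hbij.1
      rw [Localization.localRingHom_to_map, ha, map_zero, map_zero]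
    rw [IsLocalization.map_eq_zero_iff (n.asIdeal.comap (algebraMap A B)).primeCompl] at hz
    obtain ⟨s, hs⟩ := hz
    have hsJ : (s : A) ∈ J := by
      rw [Submodule.mem_annihilator_span_singleton]
      exact hs
    have hsm : (s : A) ∈ m := hJm hsJ
    have hcm : n.asIdeal.comap (algebraMap A B) = m := by
      have := congrArg PrimeSpectrum.asIdeal hnm
      simpa using this
    exact s.2 (hcm ▸ hsm)
  · -- surjectivity
    intro b
    let N : Submodule A B := LinearMap.range (Algebra.linearMap A B)
    let J : Ideal A := N.colon {b}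
    by_cases hJ : J = ⊤
    · have h1' : (1 : A) ∈ J := by rw [hJ]; trivial
      have h1'' : (1 : A) • b ∈ N := Submodule.mem_colon_singleton.mp h1'
      rw [one_smul] at h1''
      obtain ⟨a, ha⟩ := h1''
      exact ⟨a, ha⟩
    · exfalso
      obtain ⟨m, hm, hJm⟩ := Ideal.exists_le_maximal J hJ
      let mp : PrimeSpectrum A := ⟨m, hm.isPrime⟩
      have hmcl : IsClosed ({mp} : Set (PrimeSpectrum A)) :=
        (PrimeSpectrum.isClosed_singleton_iff_isMaximal mp).mpr hm
      obtain ⟨n, hn, hnm⟩ := closed_surj h2 h3 h4 h5 hmcl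
      have hcm : n.asIdeal.comap (algebraMap A B) = m := by
        have := congrArg PrimeSpectrum.asIdeal hnm
        simpa using this
      have hbij := h1 n
      obtain ⟨z, hz⟩ := hbij.2 (algebraMap B (Localization.AtPrime n.asIdeal) b)
      obtain ⟨a, s, rfl⟩ := IsLocalization.exists_mk'_eq
        (n.asIdeal.comap (algebraMap A B)).primeCompl z
      rw [Localization.localRingHom_mk'] at hz
      rw [IsLocalization.mk'_eq_iff_eq_mul, ← map_mul,
        IsLocalization.eq_iff_exists n.asIdeal.primeCompl] at hz
      obtain ⟨t, ht⟩ := hz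
      -- `t ∉ n`; find `s' ∉ m` with `s' ∈ t B`
      have hex : ∃ s' : A, s' ∉ m ∧ algebraMap A B s' ∈ Ideal.span {(t : B)} := by
        by_contra hcon
        push Not at hcon
        have hdisj : Disjoint ((Ideal.span {(t : B)} : Ideal B) : Set B)
            (Submonoid.map (algebraMap A B) m.primeCompl : Submonoid B) := by
          rw [Set.disjoint_left]
          rintro x hx ⟨s', hs', rfl⟩
          exact hs' (by_contra fun h => hcon s' h hx)
        obtain ⟨q, hqp, hqle, hqd⟩ := Ideal.exists_le_prime_disjoint _ _ hdisj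
        let qp : PrimeSpectrum B := ⟨q, hqp⟩
        have hqm : PrimeSpectrum.comap (algebraMap A B) qp ≤
            PrimeSpectrum.comap (algebraMap A B) n := by
          change (PrimeSpectrum.comap (algebraMap A B) qp).asIdeal ≤
            (PrimeSpectrum.comap (algebraMap A B) n).asIdeal
          rw [PrimeSpectrum.comap_asIdeal, PrimeSpectrum.comap_asIdeal, hcm]
          intro x hx
          by_contra hxm
          exact Set.disjoint_left.mp hqd hx ⟨x, hxm, rfl⟩
        have hqn : qp ≤ n := le_of_comap_le h2 h3 h4 h5 hn qp hqm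
        have htq : (t : B) ∈ q := hqle (Ideal.mem_span_singleton_self _)
        exact t.2 (hqn htq)
      obtain ⟨s', hs'm, hs't⟩ := hex
      rw [Ideal.mem_span_singleton'] at hs't
      obtain ⟨b', hb'⟩ := hs't
      have hmem : s' * (s : A) ∈ J := by
        apply Submodule.mem_colon_singleton.mpr
        refine ⟨s' * a, ?_⟩
        simp only [Algebra.linearMap_apply, map_mul, Algebra.smul_def]
        rw [← hb']
        linear_combination b' * ht
      have : s' * (s : A) ∈ m := hJm hmem
      rcases hm.isPrime.mem_or_mem this with h | h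
      · exact hs'm h
      · exact s.2 (hcm ▸ h)

end Groth.Agent.S0699
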