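import Groth.Statements.S0708
import Groth.Agent.Lib.Helper3IndEtFP
-- import your own Groth.Agent.* helpers here

set_option autoImplicit false
open CategoryTheory CategoryTheory.Limits AlgebraicGeometry Opposite Topology
universe u
open ProEtW

namespace Groth.Agent.S0708

open TensorProduct Groth.Agent.Lib.Helper3.IndEt

/-- the binary family of types -/
def Fam (E F : Type u) : Fin 2 → Type u
  | 0 => E
  | 1 => F

instance famCommRing (E F : Type u) [CommRing E] [CommRing F] : ∀ i, CommRing (Fam E F i)
  | 0 => inferInstanceAs (CommRing E)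
  | 1 => inferInstanceAs (CommRing F)

instance famAlgebra (A E F : Type u) [CommRing A] [CommRing E] [CommRing F] [Algebra A E]
    [Algebra A F] : ∀ i, Algebra A (Fam E F i)
  | 0 => inferInstanceAs (Algebra A E)
  | 1 => inferInstanceAs (Algebra A F)

instance famEtale (A E F : Type u) [CommRing A] [CommRing E] [CommRing F] [Algebra A E]
    [Algebra A F] [Algebra.Etale A E] [Algebra.Etale A F] : ∀ i, Algebra.Etale A (Fam E F i)
  | 0 => inferInstanceAs (Algebra.Etale A E)
  | 1 => inferInstanceAs (Algebra.Etale A F)

/-- a binary product of étale algebras is étale -/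
theorem etale_prod (A E F : Type u) [CommRing A] [CommRing E] [CommRing F] [Algebra A E]
    [Algebra A F] [Algebra.Etale A E] [Algebra.Etale A F] : Algebra.Etale A (E × F) := by
  let e : (∀ i, Fam E F i) ≃ₐ[A] E × F :=
    AlgEquiv.ofRingEquiv (f := RingEquiv.piFinTwo (Fam E F)) (fun a => rfl)
  exact Algebra.Etale.of_equiv e

/-- descent of an étale algebra over a localization `S⁻¹A` to some `A_s`, `s ∈ S` -/
theorem exists_descent_etale_localization {A B : Type u} [CommRing A] [CommRing B] [Algebra A B]
    (S : Submonoid A) [IsLocalization S B] (E : Type u) [CommRing E] [Algebra B E]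
    [Algebra.Etale B E] :
    ∃ (s : S) (E₁ : Type u) (_ : CommRing E₁) (_ : Algebra (Localization.Away (s : A)) E₁)
      (_ : Algebra.Etale (Localization.Away (s : A)) E₁),
      letI := (awayTo (R := A) (L := B) S s).toRingHom.toAlgebra
      Nonempty (B ⊗[Localization.Away (s : A)] E₁ ≃ₐ[B] E) := by
  obtain ⟨A₀, E₀, _, _, hfg, _, ⟨e⟩⟩ := Algebra.Etale.exists_subalgebra_fg ℤ B E
  haveI : Algebra.FiniteType ℤ A₀ := (Subalgebra.fg_iff_finiteType A₀).mp hfg
  haveI : Algebra.FinitePresentation ℤ A₀ :=
    Algebra.FinitePresentation.of_finiteType.mp inferInstance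
  let ψ : A ⊗[ℤ] A₀ →ₐ[A] B :=
    Algebra.TensorProduct.lift (Algebra.ofId A B) A₀.val (fun _ _ => Commute.all _ _)
  obtain ⟨s, f, hf⟩ := exists_factor_localization (R := A) (C := A) (L := B) S ψ
  let β := awayTo (R := A) (L := B) S s
  letI : Algebra (Localization.Away (s : A)) B := β.toRingHom.toAlgebra
  haveI : IsScalarTower A (Localization.Away (s : A)) B :=
    IsScalarTower.of_algebraMap_eq (fun a => (β.commutes a).symm)
  letI : Algebra A₀ (Localization.Away (s : A)) :=
    (f.toRingHom.comp (Algebra.TensorProduct.includeRight : A₀ →ₐ[ℤ] A ⊗[ℤ] A₀).toRingHom).toAlgebra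
  haveI : IsScalarTower A₀ (Localization.Away (s : A)) B :=
    IsScalarTower.of_algebraMap_eq (fun a₀ => by
      show (a₀ : B) = β (f ((1 : A) ⊗ₜ[ℤ] a₀))
      have := congr($hf ((1 : A) ⊗ₜ[ℤ] a₀))
      rw [AlgHom.comp_apply] at this
      rw [this]
      simp [ψ])
  refine ⟨s, Localization.Away (s : A) ⊗[A₀] E₀, inferInstance, inferInstance, inferInstance, ⟨?_⟩⟩
  exact (Algebra.TensorProduct.cancelBaseChange A₀ (Localization.Away (s : A)) B B E₀).trans e.symm

/-- Let A be a ring all of whose faithfully flat etale algebras have retractions, I an ideal with zero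
set Z, and B a localization of A at a multiplicative subset such that the image of Spec B → Spec A
is precisely the set of points of Spec A specializing to some point of Z. Then every faithfully flat
etale B-algebra has a retraction. -/
theorem result (A B : Type u) [CommRing A] [CommRing B]
    [Algebra A B] (S : Submonoid A) [IsLocalization S B] (I : Ideal A)
    (hB : Set.range (PrimeSpectrum.comap (algebraMap A B)) =
      {x | ∃ z : PrimeSpectrum A, z ∈ PrimeSpectrum.zeroLocus (R := A) I ∧ x ⤳ z})
    (hA : ProEtW.HasEtaleRetractions A) : ProEtW.HasEtaleRetractions B := by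
  intro B' _ _ hff het
  obtain ⟨s, E₁, _, _, _, ⟨θ⟩⟩ := exists_descent_etale_localization (A := A) (B := B) S B'
  let β : Localization.Away (s : A) →ₐ[A] B := awayTo (R := A) (L := B) S s
  letI algB₁B : Algebra (Localization.Away (s : A)) B := β.toRingHom.toAlgebra
  haveI : IsScalarTower A (Localization.Away (s : A)) B :=
    IsScalarTower.of_algebraMap_eq (fun a => (β.commutes a).symm)
  letI : Algebra A E₁ :=
    ((algebraMap (Localization.Away (s : A)) E₁).comp (algebraMap A (Localization.Away (s : A)))).toAlgebra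
  haveI : IsScalarTower A (Localization.Away (s : A)) E₁ :=
    IsScalarTower.of_algebraMap_eq (fun _ => rfl)
  haveI : Algebra.Etale A E₁ := Algebra.Etale.comp A (Localization.Away (s : A)) E₁
  -- the map `E₁ → B'`
  let γ : E₁ →+* B' := (θ : B ⊗[Localization.Away (s : A)] E₁ →+* B').comp
    (Algebra.TensorProduct.includeRight :
      E₁ →ₐ[Localization.Away (s : A)] B ⊗[Localization.Away (s : A)] E₁).toRingHom
  have hγ : ∀ a : A, γ (algebraMap A E₁ a) = algebraMap B B' (algebraMap A B a) := by
    intro a
    show θ ((1 : B) ⊗ₜ[Localization.Away (s : A)]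
      (algebraMap (Localization.Away (s : A)) E₁ (algebraMap A (Localization.Away (s : A)) a))) = _
    rw [Algebra.algebraMap_eq_smul_one (algebraMap A (Localization.Away (s : A)) a),
      ← TensorProduct.smul_tmul, Algebra.smul_def, mul_one,
      ← IsScalarTower.algebraMap_apply A (Localization.Away (s : A)) B]
    have : (algebraMap A B a) ⊗ₜ[Localization.Away (s : A)] (1 : E₁) =
        algebraMap B (B ⊗[Localization.Away (s : A)] E₁) (algebraMap A B a) := by
      rw [Algebra.TensorProduct.algebraMap_apply]
      rfl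
    rw [this, θ.commutes]
  -- the image of `Spec E₁` is open and contains `V(I)`
  have hopen : IsOpen (Set.range (PrimeSpectrum.comap (algebraMap A E₁))) :=
    (PrimeSpectrum.isOpenMap_comap_of_hasGoingDown_of_finitePresentation
      (R := A) (S := E₁)).isOpen_range
  have hsub : PrimeSpectrum.zeroLocus (R := A) I ⊆
      Set.range (PrimeSpectrum.comap (algebraMap A E₁)) := by
    intro z hz
    have hz' : z ∈ Set.range (PrimeSpectrum.comap (algebraMap A B)) := by
      rw [hB]
      exact ⟨z, hz, specializes_rfl⟩
    obtain ⟨y, rfl⟩ := hz'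
    obtain ⟨y', rfl⟩ := PrimeSpectrum.comap_surjective_of_faithfullyFlat (A := B) (B := B') y
    refine ⟨PrimeSpectrum.comap γ y', ?_⟩
    ext a
    simp only [PrimeSpectrum.comap_asIdeal, Ideal.mem_comap]
    rw [hγ]
  -- separate `V(I)` from the complement
  obtain ⟨J, hJ⟩ := (PrimeSpectrum.isClosed_iff_zeroLocus_ideal _).mp hopen.isClosed_compl
  have hIJ : I ⊔ J = ⊤ := by
    rw [← PrimeSpectrum.zeroLocus_empty_iff_eq_top, PrimeSpectrum.zeroLocus_sup, ← hJ]
    rw [Set.eq_empty_iff_forall_notMem]
    rintro z ⟨hz1, hz2⟩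
    exact hz2 (hsub hz1)
  obtain ⟨i, hi, j, hj, hij⟩ := Submodule.mem_sup.mp (hIJ ▸ (Submodule.mem_top : (1 : A) ∈ ⊤))
  -- the faithfully flat étale algebra `E₁ × A_i`
  haveI het₂ : Algebra.Etale A (E₁ × Localization.Away i) := etale_prod A E₁ (Localization.Away i)
  have hsurj : Function.Surjective
      (PrimeSpectrum.comap (algebraMap A (E₁ × Localization.Away i))) := by
    intro p
    by_cases hp : p ∈ Set.range (PrimeSpectrum.comap (algebraMap A E₁))
    · obtain ⟨x, rfl⟩ := hp
      refine ⟨PrimeSpectrum.comap (RingHom.fst E₁ (Localization.Away i)) x, ?_⟩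
      ext a
      rfl
    · have hpJ : p ∈ PrimeSpectrum.zeroLocus (J : Set A) := by
        rw [← hJ]
        exact hp
      have hjp : j ∈ p.asIdeal := hpJ hj
      have hip : i ∉ p.asIdeal := by
        intro h
        have := p.asIdeal.add_mem h hjp
        rw [hij] at this
        exact p.2.ne_top ((Ideal.eq_top_iff_one _).mpr this)
      have hp' : p ∈ Set.range (PrimeSpectrum.comap (algebraMap A (Localization.Away i))) := by
        rw [PrimeSpectrum.localization_away_comap_range (Localization.Away i) i]
        exact hip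
      obtain ⟨x, rfl⟩ := hp'
      refine ⟨PrimeSpectrum.comap (RingHom.snd E₁ (Localization.Away i)) x, ?_⟩
      ext a
      rfl
  have hff₂ : Module.FaithfullyFlat A (E₁ × Localization.Away i) :=
    Module.FaithfullyFlat.of_comap_surjective hsurj
  obtain ⟨ρ⟩ := hA (E₁ × Localization.Away i) hff₂ het₂
  -- the idempotents
  have hsum : ρ (1, 0) + ρ (0, 1) = 1 := by
    rw [← map_add, Prod.mk_add_mk, add_zero, zero_add]
    exact map_one ρ
  have hprod : ρ (1, 0) * ρ (0, 1) = 0 := by
    rw [← map_mul, Prod.mk_mul_mk, mul_zero, zero_mul]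
    exact map_zero ρ
  have he'I : ρ (0, 1) ∈ I := by
    have h1 : ((0 : E₁), (1 : Localization.Away i)) =
        i • ((0 : E₁), IsLocalization.Away.invSelf (S := Localization.Away i) i) := by
      rw [Prod.smul_mk, smul_zero, Algebra.smul_def, IsLocalization.Away.mul_invSelf]
    rw [h1, map_smul, smul_eq_mul]
    exact Ideal.mul_mem_right _ _ hi
  have hidem : ρ (0, 1) * ρ (0, 1) = ρ (0, 1) := by
    linear_combination (ρ (0, 1)) * hsum - hprod
  -- `ρ (0,1)` dies in `B`
  have hzero : algebraMap A B (ρ (0, 1)) = 0 := by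
    have hnil : IsNilpotent (algebraMap A B (ρ (0, 1))) := by
      rw [nilpotent_iff_mem_prime]
      intro y hy
      by_contra hne
      let yp : PrimeSpectrum B := ⟨y, hy⟩
      have hp : PrimeSpectrum.comap (algebraMap A B) yp ∈
          Set.range (PrimeSpectrum.comap (algebraMap A B)) := ⟨yp, rfl⟩
      rw [hB] at hp
      obtain ⟨z, hz, hpz⟩ := hp
      have hle := (PrimeSpectrum.le_iff_specializes _ _).mpr hpz
      have h1 : ρ (0, 1) ∉ (PrimeSpectrum.comap (algebraMap A B) yp).asIdeal := hne
      have h2 : ρ (1, 0) ∈ (PrimeSpectrum.comap (algebraMap A B) yp).asIdeal := by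
        have : ρ (1, 0) * ρ (0, 1) ∈ (PrimeSpectrum.comap (algebraMap A B) yp).asIdeal := by
          rw [hprod]; exact zero_mem _
        rcases (PrimeSpectrum.comap (algebraMap A B) yp).2.mem_or_mem this with h | h
        · exact h
        · exact absurd h h1
      have h3 : ρ (1, 0) ∈ z.asIdeal := hle h2
      have h4 : ρ (0, 1) ∈ z.asIdeal := hz he'I
      have h5 := z.asIdeal.add_mem h3 h4
      rw [hsum] at h5
      exact z.2.ne_top ((Ideal.eq_top_iff_one _).mpr h5)
    obtain ⟨n, hn⟩ := hnil
    have hid : IsIdempotentElem (algebraMap A B (ρ (0, 1))) := by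
      show _ * _ = _
      rw [← map_mul, hidem]
    cases n with
    | zero =>
      rw [pow_zero] at hn
      calc algebraMap A B (ρ (0, 1)) = algebraMap A B (ρ (0, 1)) * 1 := (mul_one _).symm
        _ = 0 := by rw [hn, mul_zero]
    | succ n => rwa [hid.pow_succ_eq] at hn
  have hone : algebraMap A B (ρ (1, 0)) = 1 := by
    have := congrArg (algebraMap A B) hsum
    rw [map_add, hzero, add_zero, map_one] at this
    exact this
  -- the `A_s`-algebra map `E₁ → B`
  let τ₀ : E₁ →+* B :=
    { toFun := fun x => algebraMap A B (ρ (x, 0))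
      map_one' := hone
      map_mul' := fun x y => by
        rw [← map_mul, ← map_mul, Prod.mk_mul_mk, mul_zero]
      map_zero' := by
        show algebraMap A B (ρ (0, 0)) = 0
        rw [show ((0 : E₁), (0 : Localization.Away i)) = 0 from rfl, map_zero, map_zero]
      map_add' := fun x y => by
        rw [← map_add, ← map_add, Prod.mk_add_mk, add_zero] }
  have hτ₀ : τ₀.comp (algebraMap (Localization.Away (s : A)) E₁) = β.toRingHom := by
    apply IsLocalization.ringHom_ext (Submonoid.powers (s : A))
    ext a
    show algebraMap A B (ρ (algebraMap (Localization.Away (s : A)) E₁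
      (algebraMap A (Localization.Away (s : A)) a), 0)) = β (algebraMap A _ a)
    rw [β.commutes]
    have h1 : ((algebraMap (Localization.Away (s : A)) E₁
        (algebraMap A (Localization.Away (s : A)) a), (0 : Localization.Away i)) :
          E₁ × Localization.Away i) = a • ((1 : E₁), (0 : Localization.Away i)) := by
      rw [Prod.smul_mk, smul_zero, Algebra.smul_def, mul_one]
      rfl
    rw [h1, map_smul, smul_eq_mul, map_mul, hone, mul_one]
  let τ : E₁ →ₐ[Localization.Away (s : A)] B :=
    { τ₀ with
      commutes' := fun b₁ => congr($hτ₀ b₁) }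
  let r : B ⊗[Localization.Away (s : A)] E₁ →ₐ[B] B :=
    Algebra.TensorProduct.lift (AlgHom.id B B) τ (fun _ _ => Commute.all _ _)
  exact ⟨r.comp θ.symm.toAlgHom⟩

end Groth.Agent.S0708
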