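import Groth.Statements.S0739
import Groth.Agent.Lib.Seat3WEPoint
import Groth.Agent.Lib.Helper9ProEt

set_option autoImplicit false
open CategoryTheory CategoryTheory.Limits AlgebraicGeometry Opposite Topology
universe u
open ProEtS

namespace Groth.Agent.S0739

open Groth.Agent.Lib.Helper9.ProEt

lemma exists_of_map_pt {X : Scheme.{u}} {U : X.ProEt} (R : Presieve U) {Y : Scheme.{u}}
    (e : Y ⟶ U.left) (he : R.map (Fg X) e) (y : Y) :
    ∃ (Z : X.ProEt) (g : Z ⟶ U) (z : Z.left), R g ∧ g.left.base z = e.base y := by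
  obtain ⟨hu⟩ := he
  exact ⟨_, _, y, hu, rfl⟩

/-- Let U be an object of X_proet, R a covering sieve on U, and xi : Spec k -> U a geometric point (k
separably closed). Then there is a morphism V -> U in R and a geometric point of V with the same
field mapping to xi. -/
theorem result {X : Scheme.{u}} (U : X.ProEt) (R : Sieve U)
    (hR : R ∈ Scheme.ProEt.topology X U) {k : Type u} [Field k] [IsSepClosed k]
    (ξ : Spec (CommRingCat.of k) ⟶ U.left) :
    ∃ (V : X.ProEt) (g : V ⟶ U) (ξ' : Spec (CommRingCat.of k) ⟶ V.left), R g ∧ ξ' ≫ g.left = ξ := by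
  rw [mem_topology_iff] at hR
  obtain ⟨R', hR', hle⟩ := hR
  rw [mem_precoverage_iff] at hR'
  have hwe : R'.map (Fg X) ∈ Scheme.precoverage @WeaklyEtale U.left :=
    Scheme.propQCPrecoverage_le_precoverage _ hR'
  obtain ⟨E, hE⟩ := (Precoverage.mem_iff_exists_zeroHypercover).1 hwe
  obtain ⟨i, v, hv⟩ := Scheme.Cover.exists_eq E (ξ.base default)
  have hmem : (R'.map (Fg X)) (E.f i) := by
    rw [hE]
    exact ⟨i⟩
  obtain ⟨V, g, v, hu, hv'⟩ := exists_of_map_pt R' (E.f i) hmem v
  have hv : g.left.base v = ξ.base default := hv'.trans hv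
  haveI : WeaklyEtale g.left := weaklyEtale_left X g
  obtain ⟨ξ', hξ'⟩ := Groth.Agent.Lib.Seat3.WEPoint.exists_lift_of_weaklyEtale g.left ξ v hv
  exact ⟨V, g, ξ', hle _ _ hu, hξ'⟩

end Groth.Agent.S0739
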