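import Groth.Statements.S0798
import Groth.Agent.Lib.Seat54HomFF

set_option autoImplicit false
universe u
open Formal

namespace Groth.Agent.S0798

open CategoryTheory AlgebraicGeometry Opposite in
/-- Grothendieck's existence Theorem with proper supports, full faithfulness half. Let A be a Noetherian
ring complete with respect to an ideal I, and X a scheme separated and of finite type over Spec A.
For coherent O_X-modules M and N whose supports are proper over Spec A, every morphism between the
inverse systems (M/I^(n+1)M)_{n ≥ 0} and (N/I^(n+1)N)_{n ≥ 0} is induced by exactly one morphism M ⟶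
N. -/
theorem result (A : Type u) [CommRing A] [IsNoetherianRing A]
    (I : Ideal A) [IsAdicComplete I A] (X : Scheme.{u}) [X.Over (Spec (CommRingCat.of A))]
    [IsSeparated (X ↘ Spec (CommRingCat.of A))] [LocallyOfFiniteType (X ↘ Spec (CommRingCat.of A))]
    [QuasiCompact (X ↘ Spec (CommRingCat.of A))] (M N : X.Modules) (hM : Coh.IsCoh M) (hN : Coh.IsCoh N)
    (hMs : ClSub.IsProperOver (X ↘ Spec (CommRingCat.of A)) (CohB1.support M))
    (hNs : ClSub.IsProperOver (X ↘ Spec (CommRingCat.of A)) (CohB1.support N))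
    (ψ : Formal.completion I M ⟶ Formal.completion I N) :
    ∃! φ : M ⟶ N, ∀ n : ℕ, Formal.modPowπ I (n + 1) M ≫ ψ.app (op n) = φ ≫ Formal.modPowπ I (n + 1) N := by
  have hlN : IsLocallyNoetherian X :=
    LocallyOfFiniteType.isLocallyNoetherian (X ↘ Spec (CommRingCat.of A))
  have hcpt : CompactSpace X :=
    (quasiCompact_iff_compactSpace (X ↘ Spec (CommRingCat.of A))).1 inferInstance
  have : IsNoetherian X := {}
  have hcl : IsClosed (CohB1.support M ∩ CohB1.support N) :=
    (Groth.Agent.S0020.result X M hM.2).inter (Groth.Agent.S0020.result X N hN.2)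
  have hs : ClSub.IsProperOver (X ↘ Spec (CommRingCat.of A)) (CohB1.support M ∩ CohB1.support N) :=
    Groth.Agent.Lib.Seat3.ShriekSheaf.isProperOver_of_subset _ hMs hcl Set.inter_subset_left
  have htr : ∀ (P : X.Modules) (n : ℕ), (Formal.completion I P).map (homOfLE (Nat.le_succ n)).op =
      Formal.modPowTrans I (n + 1) P := fun P n => Functor.ofOpSequence_map_homOfLE_succ _ n
  have hy : ∀ n : ℕ, (Formal.modPowπ I (n + 1 + 1) M ≫ ψ.app (op (n + 1))) ≫
      Groth.Agent.Lib.Seat54.FFQuot.qLE (Ideal.pow_le_pow_right (Nat.le_succ (n + 1))) N =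
      Formal.modPowπ I (n + 1) M ≫ ψ.app (op n) := by
    intro n
    have h1 := ψ.naturality (homOfLE (Nat.le_succ n)).op
    rw [htr, htr] at h1
    have h2 : ψ.app (op (n + 1)) ≫ Formal.modPowTrans I (n + 1) N =
        Formal.modPowTrans I (n + 1) M ≫ ψ.app (op n) := h1.symm
    have h3 : Formal.modPowπ I (n + 1 + 1) M ≫ ψ.app (op (n + 1)) ≫ Formal.modPowTrans I (n + 1) N =
        Formal.modPowπ I (n + 1 + 1) M ≫ Formal.modPowTrans I (n + 1) M ≫ ψ.app (op n) :=
      congrArg (fun k => Formal.modPowπ I (n + 1 + 1) M ≫ k) h2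
    have h4 : Formal.modPowπ I (n + 1 + 1) M ≫ Formal.modPowTrans I (n + 1) M ≫ ψ.app (op n) =
        Formal.modPowπ I (n + 1) M ≫ ψ.app (op n) :=
      (Category.assoc _ _ _).symm.trans
        (congrArg (fun k => k ≫ ψ.app (op n)) (Formal.modPowπ_trans I (n + 1) M))
    exact (Category.assoc _ _ _).trans (h3.trans h4)
  obtain ⟨φ, hφ, huniq⟩ := Groth.Agent.Lib.Seat54.HomFF.existsUnique_hom_of_compat I M N hM hN hs
    (fun n => Formal.modPowπ I (n + 1) M ≫ ψ.app (op n)) hy
  exact ⟨φ, fun n => (hφ n).symm, fun φ' hφ' => huniq φ' (fun n => (hφ' n).symm)⟩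

end Groth.Agent.S0798
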