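import Groth.Statements.S0813
import Groth.Agent.Lib.Seat12PicPunct
import Groth.Agent.Lib.Helper19ComplNoeth
import Groth.Agent.Lib.Helper28DepthFlat2
import Groth.Agent.Lib.Helper20ParaF8
-- import your own Groth.Agent.* helpers here

set_option autoImplicit false
universe u
open Formal2

namespace Groth.Agent.S0813

open CategoryTheory AlgebraicGeometry in
/-- Let (A, 𝔪) be a Noetherian local ring of depth at least 2, A^ its 𝔪-adic completion, U the punctured
spectrum of A and U^ its preimage in Spec A^ (the punctured spectrum of A^). Then an invertible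
O_U-module whose pullback to U^ is trivial is trivial. -/
theorem result (A : Type u) [CommRing A] [IsNoetherianRing A]
    [IsLocalRing A] (hdepth : (2 : ℕ∞) ≤ LocCoh.depth A A) :
    Formal2.PicPullbackInjective
      (Spec.map (CommRingCat.ofHom (algebraMap A (AdicCompletion (IsLocalRing.maximalIdeal A) A))) ∣_
        FEt.puncturedSpec A) := by
  have : IsNoetherianRing (AdicCompletion (IsLocalRing.maximalIdeal A) A) :=
    Groth.Agent.Lib.Helper19.isNoetherianRing_adicCompletion _
  refine Groth.Agent.Lib.Seat12.PicPunct.picPullbackInjective_punctured A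
    (AdicCompletion (IsLocalRing.maximalIdeal A) A) ?_ ?_
  · intro q hq hqm
    have hle : IsLocalRing.maximalIdeal (AdicCompletion (IsLocalRing.maximalIdeal A) A) ≤ q := by
      rw [AdicCompletion.maximalIdeal_eq_map, Ideal.map_le_iff_le_comap, hqm]
    exact ((IsLocalRing.maximalIdeal.isMaximal _).eq_of_le hq.ne_top hle).symm
  · apply Groth.Agent.Lib.Helper20.ParaFLib.bijective_res_puncturedSpec
    rw [Groth.Agent.Lib.Helper28.depth_eq_depth_add_depth_fibre (R := A)
      (S := AdicCompletion (IsLocalRing.maximalIdeal A) A)]
    exact hdepth.trans le_self_add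

end Groth.Agent.S0813
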