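import Groth.Statements.S0816
import Groth.Agent.Lib.Seat21ExtHom
import Groth.Agent.Lib.Seat21DevLeft

set_option autoImplicit false
universe u
open Coherent

namespace Groth.Agent.S0816

open CategoryTheory AlgebraicGeometry in
/-- Let X be locally Noetherian, F and G coherent O_X-modules, U ⊆ X open and φ : F|_U → G|_U a map of
O_U-modules. Then there are a coherent submodule F' ⊆ F whose inclusion is an isomorphism over U and
a map φ' : F' → G whose restriction to U is φ (composed with that isomorphism). -/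
theorem result (X : Scheme.{u}) [IsLocallyNoetherian X] (F G : X.Modules)
    (hF : Coh.IsCoh F) (hG : Coh.IsCoh G) (U : X.Opens)
    (φ : (Scheme.Modules.restrictFunctor U.ι).obj F ⟶ (Scheme.Modules.restrictFunctor U.ι).obj G) :
    ∃ (F' : X.Modules) (ι : F' ⟶ F) (φ' : F' ⟶ G), Mono ι ∧ Coh.IsCoh F' ∧
      IsIso ((Scheme.Modules.restrictFunctor U.ι).map ι) ∧
      (Scheme.Modules.restrictFunctor U.ι).map φ' = (Scheme.Modules.restrictFunctor U.ι).map ι ≫ φ := by
  classical
  have := hF.1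
  have := hF.2
  have := hG.1
  have hFfin : ∀ T : X.Opens, IsAffineOpen T → T ≤ U → Module.Finite Γ(X, T) Γ(F, T) := fun T hT _ =>
    Groth.Agent.Lib.Helper23.FinType.finite_of_isFiniteType F hT
  have hPq : (F ⊞ G : X.Modules).IsQuasicoherent :=
    Groth.Agent.Lib.Helper23.QCohLocal.isQuasicoherent_biprod F G
  obtain ⟨N, hag, hq, hf, hinj⟩ := Groth.Agent.Lib.Seat21.ExtHom.exists_extension U φ hFfin
  let ι : N.toModules ⟶ F := N.ι ≫ (Limits.biprod.fst : F ⊞ G ⟶ F)
  let φ' : N.toModules ⟶ G := N.ι ≫ (Limits.biprod.snd : F ⊞ G ⟶ G)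
  have hιinj : ∀ V : X.Opens, Function.Injective (ι.app V) := by
    intro V
    rw [injective_iff_map_eq_zero]
    intro s hs
    have h1 : (Limits.biprod.fst : F ⊞ G ⟶ F).app V (N.ι.app V s) = 0 := hs
    have h2 := hinj V le_top (N.ι.app V s) (N.ι_app_mem V s) h1
    exact N.ι_app_injective V (h2.trans (map_zero _).symm)
  refine ⟨N.toModules, ι, φ', Groth.Agent.Lib.Seat21.Dev.mono_of_injective_app ι hιinj,
    ⟨Groth.Agent.Lib.Seat21.QSub.SubSh.isQuasicoherent_toModules hq,
      Groth.Agent.Lib.Seat21.QSub.SubSh.isFiniteType_toModules hq hf⟩, ?_, ?_⟩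
  · rw [Groth.Agent.Lib.Helper23.Extend.isIso_restrict_iff]
    intro W' hW'
    have hW'U : W' ≤ U := by
      rw [Scheme.Opens.opensRange_ι] at hW'
      exact hW'
    rw [ConcreteCategory.isIso_iff_bijective]
    refine ⟨hιinj W', fun a => ?_⟩
    have hmem : Groth.Agent.Lib.Seat21.ExtHom.pair W' a (Groth.Agent.Lib.Seat21.ExtHom.φT U φ hW'U a) ∈
        N.carrier W' := by
      rw [hag W' hW'U]
      exact Groth.Agent.Lib.Seat21.ExtHom.pair_mem_graph U φ hW'U a
    refine ⟨N.mkSec W' ⟨_, hmem⟩, ?_⟩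
    show (Limits.biprod.fst : F ⊞ G ⟶ F).app W' (N.ι.app W' (N.mkSec W' ⟨_, hmem⟩)) = a
    rw [N.ι_app_mkSec]
    exact Groth.Agent.Lib.Seat21.ExtHom.p₁_pair W' a _
  · apply Scheme.Modules.hom_ext
    intro T'
    ext s
    let s' : Γ(N.toModules, U.ι ''ᵁ T') := s
    have hmem : N.ι.app (U.ι ''ᵁ T') s' ∈ (Groth.Agent.Lib.Seat21.ExtHom.graph U φ).carrier (U.ι ''ᵁ T') := by
      rw [← hag (U.ι ''ᵁ T') (by
        have := Scheme.Hom.image_le_opensRange U.ι T'
        rwa [Scheme.Opens.opensRange_ι] at this)]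
      exact N.ι_app_mem _ s'
    have h := (Groth.Agent.Lib.Seat21.ExtHom.mem_graph_image_iff U φ T' _).1 hmem
    exact h.symm

end Groth.Agent.S0816
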