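import Groth.Statements.S0818
import Groth.Agent.Lib.Seat21DevRank
import Groth.Agent.Lib.Helper6EquiSubB
import Groth.Agent.Lib.Helper10RedInd

set_option autoImplicit false
universe u
open Coherent

namespace Groth.Agent.S0818

open CategoryTheory AlgebraicGeometry in
/-- Let X be a nonempty Noetherian scheme and P an isomorphism-invariant property of O_X-modules such
that (1) in every short exact sequence of coherent O_X-modules, if two of the three terms satisfy P
then so does the third, and (2) for every integral scheme Z and closed immersion i : Z → X, with ξ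
the generic point of Z, there is a coherent O_X-module G satisfying P whose support is exactly i(Z)
and whose stalk at i(ξ) is isomorphic, as a module over the local ring O_{X,i(ξ)}, to the residue
field of that local ring. Then every coherent O_X-module satisfies P. (The published statement
leaves the nonemptiness of X implicit; it is needed to handle the zero module and is assumed
explicitly here.) -/
theorem result (X : Scheme.{u}) [IsNoetherian X] [Nonempty X]
    (P : X.Modules → Prop) (hP : ∀ M N : X.Modules, Nonempty (M ≅ N) → P M → P N)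
    (h₁ : ∀ S : ShortComplex X.Modules, S.ShortExact → Coh.IsCoh S.X₁ → Coh.IsCoh S.X₂ → Coh.IsCoh S.X₃ →
      (P S.X₁ → P S.X₂ → P S.X₃) ∧ (P S.X₁ → P S.X₃ → P S.X₂) ∧ (P S.X₂ → P S.X₃ → P S.X₁))
    (h₂ : ∀ (Z : Scheme.{u}) (i : Z ⟶ X) [IsClosedImmersion i] [IsIntegral Z],
      ∃ G : X.Modules, Coh.IsCoh G ∧ CohB1.support G = Set.range ⇑i ∧
        Nonempty (↑(G.presheaf.stalk (i (genericPoint Z))) ≃ₗ[X.presheaf.stalk (i (genericPoint Z))]
          IsLocalRing.ResidueField (X.presheaf.stalk (i (genericPoint Z)))) ∧ P G)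
    (M : X.Modules) (hM : Coh.IsCoh M) : P M := by
  classical
  -- the generator attached to an irreducible closed subset with generic point `y`
  have hG : ∀ (Z : Set X) (hZ : IsClosed Z) (y : X), closure {y} = Z →
      ∃ G : X.Modules, Coh.IsCoh G ∧ CohB1.support G = Z ∧ Groth.Agent.Lib.Seat21.Dev.RankOne G y ∧ P G := by
    intro Z hZ y hy
    let Zc : TopologicalSpace.Closeds X := ⟨Z, hZ⟩
    haveI : IrreducibleSpace ↥(Scheme.IdealSheafData.vanishingIdeal Zc).subscheme :=
      Groth.Agent.Lib.Helper6.EquiSub.irreducibleSpace_subscheme Zc y hy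
    haveI : IsReduced (Scheme.IdealSheafData.vanishingIdeal Zc).subscheme :=
      Groth.Agent.Lib.Helper10.RedInd.isReduced_subscheme_vanishingIdeal Zc
    haveI : IsIntegral (Scheme.IdealSheafData.vanishingIdeal Zc).subscheme :=
      isIntegral_of_irreducibleSpace_of_isReduced _
    obtain ⟨G, hGc, hGs, ⟨e⟩, hPG⟩ := h₂ _ (Scheme.IdealSheafData.vanishingIdeal Zc).subschemeι
    have hgp : (Scheme.IdealSheafData.vanishingIdeal Zc).subschemeι
        (genericPoint ↥(Scheme.IdealSheafData.vanishingIdeal Zc).subscheme) = y :=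
      Groth.Agent.Lib.Helper6.EquiSub.subschemeι_genericPoint Zc y hy
    rw [hgp] at e
    refine ⟨G, hGc, ?_, Groth.Agent.Lib.Seat21.Dev.rankOne_of_linearEquiv e, hPG⟩
    rw [hGs]
    exact Groth.Agent.Lib.Helper6.EquiSub.range_subschemeι_vanishingIdeal Zc
  -- zero modules
  have hzero : ∀ M : X.Modules, Limits.IsZero M → P M := by
    intro M hM0
    obtain ⟨x⟩ := (inferInstance : Nonempty X)
    obtain ⟨G, hGc, -, -, hPG⟩ := hG (closure {x}) isClosed_closure x rfl
    have hC : Coh.IsCoh (Limits.cokernel (𝟙 G)) := Groth.Agent.Lib.Seat21.Dev.isCoh_cokernel hGc hGc _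
    have h3 : P (Limits.cokernel (𝟙 G)) :=
      (h₁ _ (Groth.Agent.Lib.Seat21.Dev.shortExact_cokernel (𝟙 G)) hGc hGc hC).1 hPG hPG
    have hz : Limits.IsZero (Limits.cokernel (𝟙 G)) := Limits.isZero_cokernel_of_epi (𝟙 G)
    exact hP _ _ ⟨hz.iso hM0⟩ h3
  have hyp : Groth.Agent.Lib.Seat21.Dev.Hyp P Set.univ :=
    ⟨hP, hzero, fun S hS h1 h2 h3 _ => h₁ S hS h1 h2 h3⟩
  refine Groth.Agent.Lib.Seat21.Dev.core hyp isClosed_univ ?_ M hM (Set.subset_univ _)
  intro Z hZ hirr _ y hy _
  obtain ⟨G, hGc, hGs, hG1, hPG⟩ := hG Z hZ y hy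
  exact ⟨G, hGc, hPG, hGs.le, fun F' hF' hF'Z hF'1 => ⟨F', hF', hF'Z, hF'1.nonempty_linearEquiv hG1, id⟩⟩

end Groth.Agent.S0818
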