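import Groth.Statements.S0819
import Groth.Agent.Lib.Seat21DevPushO
import Groth.Agent.Lib.Seat21DevRank
import Groth.Agent.Lib.Helper6EquiSubB
import Groth.Agent.Lib.Helper10RedInd

set_option autoImplicit false
universe u
open Coherent

namespace Groth.Agent.S0819

open CategoryTheory AlgebraicGeometry in
/-- Let X be a Noetherian scheme, Z₀ ⊆ X an irreducible closed subset with generic point ξ, and P an
isomorphism-invariant property of O_X-modules such that: (1) in every short exact sequence of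
coherent modules supported in Z₀, P for two of the terms implies P for the third; (2) P holds for
i_* I whenever i : Z → X is an integral closed subscheme with i(Z) a proper subset of Z₀ and I ⊆ O_Z
is a quasi-coherent ideal sheaf; (3) there is a coherent G with support exactly Z₀, stalk at ξ
isomorphic to the residue field over the local ring, and P(G). Then P holds for every coherent
module whose support is contained in Z₀. -/
theorem result (X : Scheme.{u}) [IsNoetherian X]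
    (Z₀ : Set X) (hZ₀ : IsClosed Z₀) (hirr : IsIrreducible Z₀) (ξ : X) (hξ : ξ ∈ Z₀ ∧ closure {ξ} = Z₀)
    (P : X.Modules → Prop) (hP : ∀ M N : X.Modules, Nonempty (M ≅ N) → P M → P N)
    (h₁ : ∀ S : ShortComplex X.Modules, S.ShortExact → Coh.IsCoh S.X₁ → Coh.IsCoh S.X₂ → Coh.IsCoh S.X₃ →
      CohB1.support S.X₂ ⊆ Z₀ →
      (P S.X₁ → P S.X₂ → P S.X₃) ∧ (P S.X₁ → P S.X₃ → P S.X₂) ∧ (P S.X₂ → P S.X₃ → P S.X₁))
    (h₂ : ∀ (Z : Scheme.{u}) (i : Z ⟶ X), IsClosedImmersion i → IsIntegral Z →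
      Set.range ⇑i ⊆ Z₀ → Set.range ⇑i ≠ Z₀ →
      ∀ (I : Z.Modules) (ι : I ⟶ Coh.structureModule Z), Mono ι → Coh.IsQCoh I →
        P ((Coh.push i).obj I))
    (h₃ : ∃ G : X.Modules, Coh.IsCoh G ∧ CohB1.support G = Z₀ ∧
      Nonempty (↑(G.presheaf.stalk ξ) ≃ₗ[X.presheaf.stalk ξ] IsLocalRing.ResidueField (X.presheaf.stalk ξ)) ∧ P G)
    (M : X.Modules) (hM : Coh.IsCoh M) (hsupp : CohB1.support M ⊆ Z₀) : P M := by
  classical
  obtain ⟨G₀, hG₀c, hG₀s, ⟨e₀⟩, hPG₀⟩ := h₃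
  -- zero modules
  have hzero : ∀ M : X.Modules, Limits.IsZero M → P M := by
    intro M hM0
    have hC : Coh.IsCoh (Limits.cokernel (𝟙 G₀)) := Groth.Agent.Lib.Seat21.Dev.isCoh_cokernel hG₀c hG₀c _
    have h3 : P (Limits.cokernel (𝟙 G₀)) :=
      (h₁ _ (Groth.Agent.Lib.Seat21.Dev.shortExact_cokernel (𝟙 G₀)) hG₀c hG₀c hC hG₀s.le).1 hPG₀ hPG₀
    have hz : Limits.IsZero (Limits.cokernel (𝟙 G₀)) := Limits.isZero_cokernel_of_epi (𝟙 G₀)
    exact hP _ _ ⟨hz.iso hM0⟩ h3
  have hyp : Groth.Agent.Lib.Seat21.Dev.Hyp P Z₀ :=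
    ⟨hP, hzero, fun S hS h1 h2 h3 hs => h₁ S hS h1 h2 h3 hs⟩
  refine Groth.Agent.Lib.Seat21.Dev.core hyp hZ₀ ?_ M hM hsupp
  intro Z hZ _ hZZ₀ y hy _
  by_cases hZeq : Z = Z₀
  · have hyξ : y = ξ := by
      have h : closure {y} = closure {ξ} := by rw [hy, hξ.2, hZeq]
      exact (inseparable_iff_closure_eq.2 h).eq
    subst hyξ
    exact ⟨G₀, hG₀c, hPG₀, hZeq ▸ hG₀s.le, fun F' hF' hF'Z hF'1 =>
      ⟨F', hF', hF'Z, hF'1.nonempty_linearEquiv (Groth.Agent.Lib.Seat21.Dev.rankOne_of_linearEquiv e₀), id⟩⟩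
  · let Zc : TopologicalSpace.Closeds X := ⟨Z, hZ⟩
    have : IrreducibleSpace ↥(Scheme.IdealSheafData.vanishingIdeal Zc).subscheme :=
      Groth.Agent.Lib.Helper6.EquiSub.irreducibleSpace_subscheme Zc y hy
    have : IsReduced (Scheme.IdealSheafData.vanishingIdeal Zc).subscheme :=
      Groth.Agent.Lib.Helper10.RedInd.isReduced_subscheme_vanishingIdeal Zc
    have : IsIntegral (Scheme.IdealSheafData.vanishingIdeal Zc).subscheme :=
      isIntegral_of_irreducibleSpace_of_isReduced _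
    have hr : Set.range ⇑(Scheme.IdealSheafData.vanishingIdeal Zc).subschemeι = Z :=
      Groth.Agent.Lib.Helper6.EquiSub.range_subschemeι_vanishingIdeal Zc
    have hPG : P (ClSub.quotMod (Scheme.IdealSheafData.vanishingIdeal Zc)) :=
      h₂ _ (Scheme.IdealSheafData.vanishingIdeal Zc).subschemeι inferInstance inferInstance
        (hr ▸ hZZ₀) (hr ▸ hZeq) (Coh.structureModule _) (𝟙 _) inferInstance
        Groth.Agent.Lib.Helper20.OmegaAff.isQuasicoherent_structureModule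
    exact ⟨ClSub.quotMod (Scheme.IdealSheafData.vanishingIdeal Zc),
      Groth.Agent.Lib.Seat21.Dev.isCoh_quotMod _, hPG,
      hr ▸ Groth.Agent.Lib.Seat21.Dev.support_quotMod_subset _, fun F' hF' hF'Z hF'1 =>
      ⟨F', hF', hF'Z, hF'1.nonempty_linearEquiv (Groth.Agent.Lib.Seat21.Dev.rankOne_quotMod hZ hy), id⟩⟩

end Groth.Agent.S0819
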