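import Groth.Statements.S0828
import Groth.Agent.Lib.Seat21RegCM
import Groth.Agent.Lib.Helper2RankLoc
import Groth.Agent.Lib.Helper2LocFree
import Groth.Agent.Lib.Helper23FinPres

set_option autoImplicit false
universe u
open Coherent

namespace Groth.Agent.S0828

open CategoryTheory AlgebraicGeometry in
/-- Let X be a regular scheme (locally Noetherian with regular local rings) and F a coherent O_X-module.
Then F has support all of X and Cohen–Macaulay stalks if and only if F is finite locally free of
positive rank near every point. -/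
theorem result (X : Scheme.{u}) [IsLocallyNoetherian X]
    (hreg : ∀ x : X, IsRegularLocalRing (X.presheaf.stalk x)) (F : X.Modules) (hF : Coh.IsCoh F) :
    (CohB1.support F = Set.univ ∧
        ∀ x : X, LocCoh.IsCohenMacaulayModule (X.presheaf.stalk x) ↑(F.presheaf.stalk x)) ↔
      ∀ x : X, ∃ (U : X.Opens) (n : ℕ), x ∈ U ∧ 0 < n ∧
        Nonempty (F.restrict U.ι ≅ FlatMod.freeMod (↑U) n) := by
  have hq : F.IsQuasicoherent := hF.1
  have hft : SheafOfModules.IsFiniteType (R := X.ringCatSheaf) F := hF.2
  -- positivity of the rank from nontriviality of the stalk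
  have hrank : ∀ (U : X.Opens) (n : ℕ) (x : X) (hx : x ∈ U) (e : F.restrict U.ι ≅ FlatMod.freeMod (↑U) n),
      Module.Free (X.presheaf.stalk x) (F.presheaf.stalk x) ∧
        Module.finrank (X.presheaf.stalk x) (F.presheaf.stalk x) = n := by
    intro U n x hx e
    obtain ⟨hfree, hrk⟩ := Groth.Agent.Lib.Helper2.RankLoc.fibreRank_eq_of_restrict_iso_freeMod U.ι F e ⟨x, hx⟩
    have hfree' : Module.Free (X.presheaf.stalk x) (F.presheaf.stalk x) := hfree
    refine ⟨hfree', ?_⟩
    have hrk' : Groth.Agent.Lib.Helper2.RankLoc.fibreRank F x = n := hrk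
    rw [← hrk']
    exact (Module.finrank_baseChange (R := IsLocalRing.ResidueField (X.presheaf.stalk x))
      (S := X.presheaf.stalk x) (M' := F.presheaf.stalk x)).symm
  constructor
  · rintro ⟨hsupp, hcm⟩ x
    have := hreg x
    obtain ⟨hfin, hsp⟩ := Groth.Agent.Lib.Helper4.DimFormula.stalk_facts_of_isCoh F hF x
    have hnt : Nontrivial (F.presheaf.stalk x) := by
      have hx : x ∈ CohB1.support F := hsupp ▸ Set.mem_univ x
      exact not_subsingleton_iff_nontrivial.1 hx
    have hsuppM : Module.support (X.presheaf.stalk x) (F.presheaf.stalk x) = Set.univ := by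
      ext ⟨𝔮, h𝔮⟩
      simp only [Set.mem_univ, iff_true]
      exact (hsp 𝔮 h𝔮).2 (hsupp ▸ Set.mem_univ _)
    have hfree := Groth.Agent.Lib.Seat21.RegCM.free_of_cm_of_support_univ _ _ hsuppM (hcm x)
    have hflat : FlatMod.IsFlatAt F x := (inferInstance : Module.Flat (X.presheaf.stalk x) (F.presheaf.stalk x))
    have hfp : SheafOfModules.IsFinitePresentation (R := X.ringCatSheaf) F :=
      Groth.Agent.Lib.Helper23.FinType.isFinitePresentation_of_isFiniteType F
    obtain ⟨D, m, hxD, ⟨e⟩⟩ := Groth.Agent.Lib.Helper2.LocFree.exists_restrict_iso_freeMod_of_isFlatAt F x hflat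
    refine ⟨D, m, hxD, ?_, ⟨e⟩⟩
    obtain ⟨hfr, hrk⟩ := hrank D m x hxD e
    rw [← hrk]
    exact (Module.finrank_pos_iff_of_free (R := X.presheaf.stalk x) (M := F.presheaf.stalk x)).2 hnt
  · intro h
    have hx : ∀ x : X, Module.Finite (X.presheaf.stalk x) (F.presheaf.stalk x) ∧
        Module.Free (X.presheaf.stalk x) (F.presheaf.stalk x) ∧ Nontrivial (F.presheaf.stalk x) := by
      intro x
      obtain ⟨U, n, hxU, hn, ⟨e⟩⟩ := h x
      obtain ⟨hfr, hrk⟩ := hrank U n x hxU e
      have hfin := (Groth.Agent.Lib.Helper4.DimFormula.stalk_facts_of_isCoh F hF x).1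
      refine ⟨hfin, hfr, ?_⟩
      have hpos : 0 < Module.finrank (X.presheaf.stalk x) (F.presheaf.stalk x) := hrk ▸ hn
      exact Module.nontrivial_of_finrank_pos hpos
    refine ⟨?_, fun x => ?_⟩
    · ext x
      simp only [Set.mem_univ, iff_true]
      have := (hx x).2.2
      exact not_subsingleton_iff_nontrivial.2 this
    · have := hreg x
      obtain ⟨h1, h2, h3⟩ := hx x
      exact Groth.Agent.Lib.Seat21.RegCM.cm_of_free _ _

end Groth.Agent.S0828
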