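import Groth.Statements.S0833
import Groth.Agent.Lib.Seat17ComplHom

set_option autoImplicit false
universe u
open Formal2

namespace Groth.Agent.S0833

theorem aux {C : Type*} [CategoryTheory.Category C] {a b b' c c' : C} (p' : a ⟶ b') (p : a ⟶ b)
    (tF : b' ⟶ b) (ψ' : b' ⟶ c') (ψ0 : b ⟶ c) (tG : c' ⟶ c)
    (h1 : CategoryTheory.CategoryStruct.comp tF ψ0 = CategoryTheory.CategoryStruct.comp ψ' tG)
    (h2 : CategoryTheory.CategoryStruct.comp p' tF = p) :
    CategoryTheory.CategoryStruct.comp (CategoryTheory.CategoryStruct.comp p' ψ') tG =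
      CategoryTheory.CategoryStruct.comp p ψ0 := by
  rw [CategoryTheory.Category.assoc, ← h1, ← CategoryTheory.Category.assoc, h2]

open CategoryTheory AlgebraicGeometry Opposite in
/-- The assertion on homomorphisms, for the ideal sheaf I·O_X of an ideal I of a base ring A. Let X be a
Noetherian scheme over Spec A and F, G coherent O_X-modules one of which is annihilated by a power
of I. Then every map of systems (F/I^nF) → (G/I^nG) is induced by exactly one map F → G. (The
assertion on Ext groups is not stated.) -/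
theorem result (A : Type u) [CommRing A] (I : Ideal A) (X : Scheme.{u})
    [X.Over (Spec (CommRingCat.of A))] [IsNoetherian X] (F G : X.Modules) (hF : Coh.IsCoh F) (hG : Coh.IsCoh G)
    (hc : ∃ c : ℕ, Formal.KilledBy (I ^ c) F ∨ Formal.KilledBy (I ^ c) G)
    (ψ : Formal.completion I F ⟶ Formal.completion I G) :
    ∃! φ : F ⟶ G, ∀ n : ℕ, Formal.modPowπ I (n + 1) F ≫ ψ.app (op n) = φ ≫ Formal.modPowπ I (n + 1) G := by
  have htr : ∀ (M : X.Modules) (n : ℕ),
      (Formal.completion I M).map (homOfLE (Nat.le_succ n)).op = Formal.modPowTrans I (n + 1) M :=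
    fun M n => Functor.ofOpSequence_map_homOfLE_succ _ n
  let φ : ∀ n : ℕ, F ⟶ Formal.modPow I (n + 1) G :=
    fun n => Formal.modPowπ I (n + 1) F ≫ ψ.app (op n)
  have hφ : ∀ n : ℕ, φ (n + 1) ≫ Formal.modPowTrans I (n + 1) G = φ n := by
    intro n
    have h1 := ψ.naturality (homOfLE (Nat.le_succ n)).op
    rw [htr F n, htr G n] at h1
    exact aux _ _ _ _ _ _ h1 (Formal.modPowπ_trans I (n + 1) F)
  obtain ⟨c, hc⟩ := hc
  have key : ∃! θ : F ⟶ G, ∀ n : ℕ, θ ≫ Formal.modPowπ I (n + 1) G = φ n := by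
    rcases hc with hc | hc
    · exact Groth.Agent.Lib.Seat17.ComplHom.existsUnique_of_killedBy_source I hG c hc φ hφ
    · exact Groth.Agent.Lib.Seat17.ComplHom.existsUnique_of_killedBy_target I c hc φ hφ
  obtain ⟨θ, hθ, huniq⟩ := key
  exact ⟨θ, fun n => (hθ n).symm, fun θ' hθ' => huniq θ' fun n => (hθ' n).symm⟩

end Groth.Agent.S0833
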