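import Groth.Statements.S0884
import Groth.Agent.Lib.Seat38SpecStalk

set_option autoImplicit false
universe u
open CategoryTheory
open CohTop

namespace Groth.Agent.S0884

open TopologicalSpace in
/-- Let f : X -> Y be a spectral map of spectral spaces, y a point of Y, E ⊆ Y the set of points
specializing to y, and F an abelian sheaf on X. Then the stalk (R^p f_* F)_y is isomorphic to
H^p(f^{-1}(E), F|_{f^{-1}(E)}), the cohomology of the pullback of F to the subspace f^{-1}(E). -/
theorem result {X Y : TopCat.{u}} [SpectralSpace X] [SpectralSpace Y]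
    (f : X ⟶ Y) (hf : IsSpectralMap f) (y : Y) (F : CohTop.Ab X) (p : ℕ) :
    Nonempty (CohTop.stalk ((CohTop.Rpush f p).obj F) y ≃+
      CohTop.H ((CohTop.pull (TopCat.ofHom ⟨Subtype.val, continuous_subtype_val⟩ :
          TopCat.of {x : X | y ∈ closure {f x}} ⟶ X)).obj F) p) := by
  classical
  open Groth.Agent.Lib.Seat38.Taut Groth.Agent.Lib.Seat38.TautCoh Groth.Agent.Lib.Seat38.TautColim
    Groth.Agent.Lib.Seat38.ClosedModel
    Groth.Agent.Lib.Seat38.SpecTaut Groth.Agent.Lib.Seat38.SpecStalk
    Groth.Agent.Lib.Helper16.DimShift CategoryTheory.Limits in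
  let 𝔉 : Fam X := famOfPoint f hf y
  have hsurj := spec_surj f hf y
  have hinj := spec_inj f hf y
  have hpl : PreservesFiniteLimits (CohTop.push f) :=
    have : PreservesLimitsOfSize.{0, 0} (CohTop.push f) := (adjPP f).rightAdjoint_preservesLimits
    PreservesLimitsOfSize.preservesFiniteLimits _
  let I : InjectiveResolution F := Classical.choice (HasInjectiveResolution.out)
  cases p with
  | zero =>
    have e1 : CohTop.stalk ((CohTop.Rpush f 0).obj F) y ≅ CohTop.stalk ((CohTop.push f).obj F) y :=
      (Groth.Agent.Lib.Seat38.TautStalk.stalkFun y).mapIso ((CohTop.push f).rightDerivedZeroIsoSelf.app F)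
    have : IsIso (θ f y (genFib f y) (genFib_subset f y) F) :=
      isIso_θ f y (genFib f y) (genFib_subset f y) hsurj hinj F
    have e2 : CohTop.stalk ((CohTop.push f).obj F) y ≅ ΓS (genFib f y) F :=
      asIso (θ f y (genFib f y) (genFib_subset f y) F)
    exact ⟨(e1 ≪≫ e2).addCommGroupIsoToAddEquiv.trans
      ((AddEquiv.ofBijective (qS₀ ((CohTop.pull (kk (genFib f y))).obj F)) (qS₀_bijective _)).trans
        (HEquiv _ 0))⟩
  | succ n =>
    obtain ⟨e⟩ := stalk_iso_of_cokernel f y (genFib f y) (genFib_subset f y) hsurj hinj (gg I n)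
      (πR (CohTop.push f) I n) (map_gg_πR (CohTop.push f) I n) (πRIsColimit (CohTop.push f) I n)
      (qS I n) (𝔉.qS_surjective I n) (𝔉.qS_eq_zero_iff I n)
    exact ⟨e.addCommGroupIsoToAddEquiv.trans (HEquiv _ (n + 1))⟩

end Groth.Agent.S0884
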