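import Groth.Statements.S0927
import Groth.Agent.Lib.Seat16ProjFormula2
import Groth.Agent.Lib.Helper21Dual12
import Groth.Agent.Lib.Helper21Dual9
import Groth.Agent.Lib.Helper21DerAcyc
import Groth.Agent.Lib.Helper21DerPost
import Groth.Agent.Lib.Helper1Sky9
import Groth.Agent.Lib.Helper17DS4

set_option autoImplicit false
set_option linter.style.haveILetI false
universe u
open CategoryTheory
open Coh

namespace Groth.Agent.S0927

open Groth.Agent.Lib.Helper21.ModTensor3 Groth.Agent.Lib.Helper21.ModTensor5
  Groth.Agent.Lib.Helper21.Dual Groth.Agent.Lib.Helper21.DerPost Groth.Agent.Lib.Helper21.DerAcyc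
  Groth.Agent.Lib.Seat16.ProjFormula Groth.Agent.Lib.Helper1.PT

/-- `E ⊗ -` is exact for `E` finite locally free -/
theorem preservesFiniteLimits_tL {Z : AlgebraicGeometry.Scheme.{u}} (E : Z.Modules)
    (hE : FlatMod.IsFinLocFree E) : Limits.PreservesFiniteLimits (tL Z.sheaf E) := by
  haveI : Limits.PreservesFiniteLimits (tR Z.sheaf E) :=
    preservesFiniteLimits_tR_of_isLocFF (O := Z.sheaf) E (isLocFF_of_isFinLocFree E hE)
  exact Limits.preservesFiniteLimits_of_natIso ((brd Z.sheaf).app E).symm

open AlgebraicGeometry CategoryTheory.Limits in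
/-- Projection formula, for schemes and one degree at a time: let f : X → Y be a morphism of schemes, F
an O_X-module and E a finite locally free O_Y-module. Then for every q the O_Y-module E ⊗ R^q f_* F
is isomorphic to R^q f_* (f^* E ⊗ F). The higher direct images are the right derived functors of
f_*, under the instance argument recording that O_X-modules have injective resolutions. (The
published statement treats ringed spaces and also gives a version for bounded-below complexes.) -/
theorem result {X Y : Scheme.{u}} (f : X ⟶ Y) [HasInjectiveResolutions X.Modules]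
    (F : X.Modules) (E : Y.Modules) (hE : FlatMod.IsFinLocFree E) (q : ℕ) :
    Nonempty (CohB1.tensorMod E ((Coh.Rpush f q).obj F) ≅
      (Coh.Rpush f q).obj (CohB1.tensorMod ((Scheme.Modules.pullback f).obj E) F)) := by
  haveI : EnoughInjectives X.Modules :=
    Groth.Agent.Lib.Helper17.DS.enoughInjectives_of_hasInjectiveResolutions
  have hE' : FlatMod.IsFinLocFree ((plb f).obj E) :=
    Groth.Agent.Lib.Helper1.Sky.isFinLocFree_pullback f E hE
  -- the two exact functors
  let TY : Y.Modules ⥤ Y.Modules := DCoh.tensorBi.obj E
  let TX : X.Modules ⥤ X.Modules := DCoh.tensorBi.obj ((plb f).obj E)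
  haveI : TY.Additive := tL_additive Y.sheaf E
  haveI : TX.Additive := tL_additive X.sheaf ((plb f).obj E)
  haveI : Limits.PreservesFiniteLimits TY := preservesFiniteLimits_tL E hE
  haveI : Limits.PreservesFiniteLimits TX := preservesFiniteLimits_tL ((plb f).obj E) hE'
  haveI : Limits.PreservesFiniteColimits TY := tL_preservesFiniteColimits Y.sheaf E
  haveI : Limits.PreservesFiniteColimits TX := tL_preservesFiniteColimits X.sheaf ((plb f).obj E)
  haveI : TY.PreservesHomology := inferInstance
  haveI : TX.PreservesHomology := inferInstance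
  haveI : Limits.PreservesFiniteLimits (psh f) := inferInstance
  let e1 : (psh f ⋙ TY).rightDerived q ≅ (psh f).rightDerived q ⋙ TY := postIso (psh f) TY q
  let e2 : (psh f ⋙ TY).rightDerived q ≅ (TX ⋙ psh f).rightDerived q :=
    natIsoRightDerived (projIso f E hE) q
  have hacyc : ∀ I : X.Modules, Injective I → ∀ p : ℕ, 0 < p →
      Limits.IsZero (((psh f).rightDerived p).obj (TX.obj I)) := by
    intro I hI p hp
    haveI : Injective (TX.obj I) :=
      @injective_tL_obj _ _ _ X.sheaf ((plb f).obj E) (isLocFF_of_isFinLocFree _ hE') I hI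
    obtain ⟨p', rfl⟩ := Nat.exists_eq_succ_of_ne_zero hp.ne'
    exact Functor.isZero_rightDerived_obj_injective_succ _ _ _
  obtain ⟨e3⟩ := nonempty_rightDerived_comp_iso TX (psh f) hacyc F q
  exact ⟨(e1.app F).symm ≪≫ e2.app F ≪≫ e3⟩

end Groth.Agent.S0927
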