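import Groth.Statements.S0935
import Groth.Agent.Lib.Seat28DAdj
import Groth.Agent.Lib.Seat28RD3

set_option autoImplicit false
universe u
open CategoryTheory
attribute [local instance] HasDerivedCategory.standard
open DCoh

namespace Groth.Agent.S0935

open AlgebraicGeometry CategoryTheory.Limits in
/-- Let f : X → Y be a morphism of schemes and (K_n)_{n ≥ 0} an inverse system in D(O_X) with derived
limit L. Then Rf_*L is a derived limit of the system (Rf_*K_n). Here Rf_* is the total right derived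
functor of f_* under its existence binder, and the two countable products ∏ K_n and ∏ Rf_*K_n are
assumed to exist. (The published statement is for morphisms of ringed spaces; stated here for
schemes.) -/
theorem result {X Y : Scheme.{u}} (f : X ⟶ Y) [DCoh.HasRpush f]
    (K : ℕ → DCoh.D X) (t : ∀ n, K (n + 1) ⟶ K n) [HasProduct K] [HasProduct fun n => (DCoh.Rpush f).obj (K n)]
    (L : DCoh.D X) (hL : DCoh.IsRlim K t L) :
    DCoh.IsRlim (fun n => (DCoh.Rpush f).obj (K n)) (fun n => (DCoh.Rpush f).map (t n)) ((DCoh.Rpush f).obj L) := by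
  open Groth.Agent.Lib.Seat28.RD Groth.Agent.Lib.Seat28.RD3 Pretriangulated in
  have := Groth.Agent.Lib.Helper1.Sky.hasLpull f
  have hlim : PreservesLimitsOfSize.{0, 0} (DCoh.Rpush f) :=
    (lpullRpushAdj f).rightAdjoint_preservesLimits
  have hz : (DCoh.Rpush f).PreservesZeroMorphisms := inferInstance
  have hb : PreservesBinaryBiproducts (DCoh.Rpush f) :=
    preservesBinaryBiproducts_of_preservesBinaryProducts _
  have hadd : (DCoh.Rpush f).Additive := Functor.additive_of_preservesBinaryBiproducts _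
  obtain ⟨a, c, hT⟩ := hL
  obtain ⟨w, hw⟩ := exists_distinguished_map.{u} (Scheme.Modules.pushforward f) _ hT
  let e : (DCoh.Rpush f).obj (∏ᶜ K) ≅ ∏ᶜ fun n => (DCoh.Rpush f).obj (K n) :=
    PreservesProduct.iso (DCoh.Rpush f) K
  have he : ∀ n, e.hom ≫ Pi.π (fun n => (DCoh.Rpush f).obj (K n)) n =
      (DCoh.Rpush f).map (Pi.π K n) := fun n => piComparison_comp_π (DCoh.Rpush f) K n
  refine ⟨(DCoh.Rpush f).map a ≫ e.hom, e.inv ≫ w, ?_⟩
  refine isomorphic_distinguished _ hw _ (Triangle.isoMk _ _ (Iso.refl _) e.symm e.symm ?_ ?_ ?_)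
  · show ((DCoh.Rpush f).map a ≫ e.hom) ≫ e.inv = 𝟙 _ ≫ (DCoh.Rpush f).map a
    rw [Category.assoc, Iso.hom_inv_id, Category.comp_id, Category.id_comp]
  · show (Pi.lift fun n => Pi.π (fun n => (DCoh.Rpush f).obj (K n)) n -
        Pi.π (fun n => (DCoh.Rpush f).obj (K n)) (n + 1) ≫ (DCoh.Rpush f).map (t n)) ≫ e.inv =
      e.inv ≫ (DCoh.Rpush f).map (Pi.lift fun n => Pi.π K n - Pi.π K (n + 1) ≫ t n)
    rw [← cancel_mono e.hom, Category.assoc, Iso.inv_hom_id, Category.comp_id, Category.assoc]
    rw [← cancel_epi e.hom, Iso.hom_inv_id_assoc]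
    refine Pi.hom_ext _ _ (fun n => ?_)
    rw [Category.assoc, Pi.lift_π, Category.assoc, he, ← Functor.map_comp, Pi.lift_π,
      Functor.map_sub, Functor.map_comp, Preadditive.comp_sub, he, ← Category.assoc, he]
  · show (e.inv ≫ w) ≫ (𝟙 _)⟦(1 : ℤ)⟧' = e.inv ≫ w
    rw [CategoryTheory.Functor.map_id, Category.comp_id]

end Groth.Agent.S0935
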