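import Groth.Statements.S0946
import Groth.Agent.Lib.Seat38TautColim

set_option autoImplicit false
universe u
open CategoryTheory
open CohTop

namespace Groth.Agent.S0946

open TopologicalSpace Opposite CategoryTheory.Limits in
/-- Take a quasi-compact subset Z of a topological space X whose points are pairwise separated by
disjoint opens of X, and an abelian sheaf F on X. For every p the group H^p(Z, F|_Z) (cohomology of
the pullback of F to the subspace Z) is isomorphic to the colimit of the groups H^p(U, F) over the
open neighbourhoods U of Z (existence of an isomorphism with the colimit of the cohomology presheaf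
restricted to the opens containing Z). -/
theorem result {X : TopCat.{u}} (Z : Set X) (hZ : IsCompact Z)
    (hsep : ∀ x ∈ Z, ∀ y ∈ Z, x ≠ y → ∃ U V : Opens X, x ∈ U ∧ y ∈ V ∧ Disjoint U V)
    (F : CohTop.Ab X) (p : ℕ) :
    Nonempty ((colimit (ObjectProperty.ι (fun U : (Opens X)ᵒᵖ => Z ⊆ (U.unop : Set X)) ⋙
        (Sheaf.cohomologyPresheafFunctor (Opens.grothendieckTopology X) p).obj F) : AddCommGrpCat.{u}) ≃+
      CohTop.H ((CohTop.pull (TopCat.ofHom ⟨Subtype.val, continuous_subtype_val⟩ : TopCat.of Z ⟶ X)).obj F) p) := by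
  classical
  open Groth.Agent.Lib.Seat38.Taut Groth.Agent.Lib.Seat38.TautCoh Groth.Agent.Lib.Seat38.TautColim
    Groth.Agent.Lib.Seat38.ClosedModel Groth.Agent.Lib.Helper16.DimShift
    Groth.Agent.Lib.Helper16.RpushSh in
  have hsep' : RelT2 Z := by
    intro x hx y hy hne
    obtain ⟨U, V, hxU, hyV, hUV⟩ := hsep x hx y hy hne
    exact ⟨U, V, U.isOpen, V.isOpen, hxU, hyV,
      Set.disjoint_left.2 (fun z hzU hzV => (hUV.le_bot ⟨hzU, hzV⟩ : z ∈ (⊥ : Opens X)))⟩
  let J := Opens.grothendieckTopology X
  let I : InjectiveResolution F := Classical.choice (HasInjectiveResolution.out)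
  cases p with
  | zero =>
    have hτb : ∀ U : Opens X, Function.Bijective ((τ J (Abelian.Ext.mk₀ (𝟙 F))).app (op U)) :=
      fun U => τapp_zero_bijective J F U
    have hz : ∀ (U : Opens X) (b : F.obj.obj (op U)), (0 : F ⟶ F).hom.app (op U) b = 0 :=
      fun U b => rfl
    have hpz : (CohTop.pull (kk Z)).map (0 : F ⟶ F) = 0 := by
      have := pull_additive (kk Z)
      exact Functor.map_zero _ _ _
    obtain ⟨e⟩ := colimit_addEquiv hZ hsep' (0 : F ⟶ F) (F.cohomologyPresheaf 0)
      (τ J (Abelian.Ext.mk₀ (𝟙 F))) (fun U => (hτb U).2)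
      (fun U a => by
        constructor
        · intro h
          have : a = 0 := (hτb U).1 (h.trans (map_zero _).symm)
          exact ⟨0, (hz U 0).trans this.symm⟩
        · rintro ⟨b, rfl⟩
          rw [hz]
          exact map_zero _)
      (qS₀ ((CohTop.pull (kk Z)).obj F)) (qS₀_bijective _).2
      (fun σ => by
        constructor
        · intro h
          have : σ = 0 := (qS₀_bijective _).1 (h.trans (map_zero _).symm)
          refine ⟨0, ?_⟩
          rw [this]
          exact map_zero _
        · rintro ⟨σ', rfl⟩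
          rw [hpz]
          exact map_zero _)
    exact ⟨e.trans (HEquiv _ 0)⟩
  | succ n =>
    have hD : ∀ k, Injective ((ofResolution I).J k) := fun k => I.injective k
    obtain ⟨e⟩ := colimit_addEquiv hZ hsep' (gg I n) (F.cohomologyPresheaf (n + 1))
      (τ J ((ofResolution I).cls n)) (fun U => τapp_cls_surjective J (ofResolution I) hD n U)
      (fun U a => τapp_cls_eq_zero_iff J (ofResolution I) hD n U a)
      (qS I n) (qS_surjective I hZ hsep' n) (qS_eq_zero_iff I hZ hsep' n)
    exact ⟨e.trans (HEquiv _ (n + 1))⟩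

end Groth.Agent.S0946
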