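import Groth.Statements.S0947
import Groth.Agent.Lib.Seat38SpecTautColim
import Groth.Agent.Lib.Seat38SpecFam

set_option autoImplicit false
universe u
open CategoryTheory
open CohTop

namespace Groth.Agent.S0947

open TopologicalSpace Opposite CategoryTheory.Limits in
/-- Let X be a spectral space, F an abelian sheaf on X, E ⊆ X a quasi-compact subset and W the set of
points of X specializing to some point of E. Then for every p the group H^p(W, F|_W) (cohomology of
the pullback of F to the subspace W) is isomorphic to the colimit of the groups H^p(U, F) over the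
quasi-compact open neighbourhoods U of E (existence of an isomorphism). -/
theorem result {X : TopCat.{u}} [SpectralSpace X] (E : Set X)
    (hE : IsCompact E) (F : CohTop.Ab X) (p : ℕ) :
    Nonempty ((colimit (ObjectProperty.ι (fun U : (Opens X)ᵒᵖ => E ⊆ (U.unop : Set X) ∧ IsCompact (U.unop : Set X)) ⋙
        (Sheaf.cohomologyPresheafFunctor (Opens.grothendieckTopology X) p).obj F) : AddCommGrpCat.{u}) ≃+
      CohTop.H ((CohTop.pull (TopCat.ofHom ⟨Subtype.val, continuous_subtype_val⟩ :
        TopCat.of {x : X | ∃ e ∈ E, e ∈ closure {x}} ⟶ X)).obj F) p) := by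
  classical
  open Groth.Agent.Lib.Seat38.Taut Groth.Agent.Lib.Seat38.TautCoh Groth.Agent.Lib.Seat38.SpecTaut
    Groth.Agent.Lib.Seat38.ClosedModel Groth.Agent.Lib.Helper16.DimShift
    Groth.Agent.Lib.Helper16.RpushSh in
  let 𝔉 : Fam X := famOfCompact E hE
  have hQ : ∀ U : (Opens X)ᵒᵖ, (E ⊆ (U.unop : Set X) ∧ IsCompact (U.unop : Set X)) ↔ 𝔉.P U.unop :=
    fun U => Iff.rfl
  let J := Opens.grothendieckTopology X
  let I : InjectiveResolution F := Classical.choice (HasInjectiveResolution.out)
  cases p with
  | zero =>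
    have hτb : ∀ U : Opens X, Function.Bijective ((τ J (Abelian.Ext.mk₀ (𝟙 F))).app (op U)) :=
      fun U => τapp_zero_bijective J F U
    have hz : ∀ (U : Opens X) (b : F.obj.obj (op U)), (0 : F ⟶ F).hom.app (op U) b = 0 :=
      fun U b => rfl
    have hpz : (CohTop.pull (kk 𝔉.W)).map (0 : F ⟶ F) = 0 := by
      have := pull_additive (kk 𝔉.W)
      exact Functor.map_zero _ _ _
    obtain ⟨e⟩ := 𝔉.colimit_addEquiv _ hQ (0 : F ⟶ F) (F.cohomologyPresheaf 0)
      (τ J (Abelian.Ext.mk₀ (𝟙 F))) (fun U => (hτb U).2)
      (fun U a => by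
        constructor
        · intro h
          have : a = 0 := (hτb U).1 (h.trans (map_zero _).symm)
          exact ⟨0, (hz U 0).trans this.symm⟩
        · rintro ⟨b, rfl⟩
          rw [hz]
          exact map_zero _)
      (qS₀ ((CohTop.pull (kk 𝔉.W)).obj F)) (qS₀_bijective _).2
      (fun σ => by
        constructor
        · intro h
          have : σ = 0 := (qS₀_bijective _).1 (h.trans (map_zero _).symm)
          refine ⟨0, ?_⟩
          rw [this]
          exact map_zero _
        · rintro ⟨σ', rfl⟩
          rw [hpz]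
          exact map_zero _)
    exact ⟨e.trans (HEquiv _ 0)⟩
  | succ n =>
    have hD : ∀ k, Injective ((ofResolution I).J k) := fun k => I.injective k
    obtain ⟨e⟩ := 𝔉.colimit_addEquiv _ hQ (gg I n) (F.cohomologyPresheaf (n + 1))
      (τ J ((ofResolution I).cls n)) (fun U => τapp_cls_surjective J (ofResolution I) hD n U)
      (fun U a => τapp_cls_eq_zero_iff J (ofResolution I) hD n U a)
      (qS I n) (𝔉.qS_surjective I n) (𝔉.qS_eq_zero_iff I n)
    exact ⟨e.trans (HEquiv _ (n + 1))⟩

end Groth.Agent.S0947
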