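import Groth.Statements.S10000
import Groth.Agent.Lib.Seat83LargeField
import Groth.Agent.S10176
import Groth.Agent.S10177

set_option autoImplicit false
set_option linter.style.haveILetI false
universe u
open CategoryTheory CategoryTheory.Limits AlgebraicGeometry
open AlgSp

namespace Groth.Agent.S10000

/-- For a morphism X ⟶ Y of algebraic spaces and an algebraically closed field k over S that is large
compared with X, X(k) surjects onto |X| ×_{|Y|} Y(k): every pair of a point x of |X| and a k-valued
point of Y with the same image in |Y| comes from a k-valued point of X. (The published statement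
measures largeness by a cardinal attached to X that bounds the residue fields of an etale atlas;
this row asks directly that every residue field of one surjective etale chart U of X have
cardinality smaller than that of k, which is how the bound enters the argument.) -/
theorem result {S : Scheme.{u}} {X Y : AlgSp.Space S} (f : X ⟶ Y)
    {U : Over S} (a : (AlgSp.yon S).obj U ⟶ X.obj) (ha : AlgSp.RepWith @Etale a) (has : AlgSp.RepWith @Surjective a)
    (ybar : AlgSp.FieldPt Y.obj) (hy : ybar.IsGeometric)
    (hk : ∀ u : ↥U.left, Cardinal.mk ↥(U.left.residueField u) < Cardinal.mk ybar.K)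
    (x : AlgSp.Points X.obj) (hx : AlgSp.Points.map f.hom x = AlgSp.Points.mk ybar) :
    ∃ xbar : (AlgSp.yon S).obj ybar.pt ⟶ X.obj, xbar ≫ f.hom = ybar.toHom ∧
      AlgSp.Points.ofPt xbar (IsLocalRing.closedPoint ybar.K) = x := by
  haveI : IsAlgClosed ybar.K := hy
  haveI : IsSepClosed ybar.K := inferInstance
  obtain ⟨u, rfl⟩ := Groth.Agent.S10177.surjective_ofPt a has x
  obtain ⟨V, b, hbe, hbs⟩ := Y.property.atlas
  obtain ⟨v, hv⟩ := Groth.Agent.S10177.surjective_ofPt b hbs (AlgSp.Points.mk ybar)
  -- lift the geometric point to the atlas `V`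
  obtain ⟨T, pr, q', sqT⟩ := hbe.1 ybar.toHom
  obtain ⟨q, rfl⟩ := (AlgSp.yon S).map_surjective q'
  haveI : Etale pr.left := hbe.2 _ _ _ sqT
  have eT : AlgSp.Points.ofPt b v =
      AlgSp.Points.ofPt ybar.toHom (default : ↥(Spec (CommRingCat.of ybar.K))) := by
    rw [AlgSp.Points.ofPt_toHom, hv]
  obtain ⟨t, ht1, ht2⟩ := Groth.Agent.S10176.exists_point_of_isPullback_yon sqT v _ eT
  obtain ⟨l, hl1, hl2⟩ := AlgebraicGeometry.Scheme.exists_fac_of_etale_of_isSepClosed pr.left
    (𝟙 (Spec (CommRingCat.of ybar.K))) t (by rw [ht2]; rfl)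
  have hlT : l ≫ T.hom = ybar.pt.hom := by
    rw [← Over.w pr, ← Category.assoc, hl1, Category.id_comp]
  let σ : ybar.pt ⟶ T := Over.homMk l hlT
  have hσ : σ ≫ pr = 𝟙 _ := by
    apply Over.OverMorphism.ext
    exact hl1
  have hvbar : (AlgSp.yon S).map (σ ≫ q) ≫ b = ybar.toHom := by
    rw [Functor.map_comp, Category.assoc, sqT.w, ← Category.assoc, ← Functor.map_comp, hσ,
      CategoryTheory.Functor.map_id, Category.id_comp]
  have hvpt : (σ ≫ q).left (IsLocalRing.closedPoint ybar.K) = v := by
    have h1 : l (IsLocalRing.closedPoint ybar.K) = t := by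
      rw [← hl2]
      exact congrArg (fun z => l z) (Subsingleton.elim _ _)
    have h2 : (σ ≫ q).left = l ≫ q.left := rfl
    rw [h2, Scheme.Hom.comp_apply]
    exact (congrArg (fun z => q.left z) h1).trans ht1
  -- the fibre product `W = U ×_Y V`
  obtain ⟨W, prU, qV', sqW⟩ := hbe.1 (a ≫ f.hom)
  obtain ⟨qV, rfl⟩ := (AlgSp.yon S).map_surjective qV'
  haveI : Etale prU.left := hbe.2 _ _ _ sqW
  have eW : AlgSp.Points.ofPt b v = AlgSp.Points.ofPt (a ≫ f.hom) u := by
    rw [hv, ← hx, AlgSp.Points.map_ofPt]
  obtain ⟨w, hw1, hw2⟩ := Groth.Agent.S10176.exists_point_of_isPullback_yon sqW v u eW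
  -- the geometric point of `V` factors through the residue field at `qV w`
  obtain ⟨θ, hθ⟩ : ∃ θ : V.left.residueField (qV.left w) ⟶ CommRingCat.of ybar.K,
      (σ ≫ q).left = Spec.map θ ≫ V.left.fromSpecResidueField (qV.left w) := by
    have h3 : (σ ≫ q).left (IsLocalRing.closedPoint ybar.K) = qV.left w := hvpt.trans hw1.symm
    generalize qV.left w = z at h3
    subst h3
    exact ⟨_, (Scheme.descResidueField_stalkClosedPointTo_fromSpecResidueField ybar.K V.left
      (σ ≫ q).left).symm⟩
  -- embed the residue field of `w` into `K` over that of `qV w`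
  let ρ : V.left.residueField (qV.left w) ⟶ W.left.residueField w := qV.left.residueFieldMap w
  let ρ' : U.left.residueField (prU.left w) ⟶ W.left.residueField w := prU.left.residueFieldMap w
  letI : Algebra (V.left.residueField (qV.left w)) (W.left.residueField w) := ρ.hom.toAlgebra
  letI : Algebra (V.left.residueField (qV.left w)) ybar.K := θ.hom.toAlgebra
  letI : Algebra (U.left.residueField (prU.left w)) (W.left.residueField w) := ρ'.hom.toAlgebra
  haveI : Algebra.IsSeparable (U.left.residueField (prU.left w)) (W.left.residueField w) :=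
    inferInstance
  haveI : Algebra.IsAlgebraic (U.left.residueField (prU.left w)) (W.left.residueField w) :=
    Algebra.IsSeparable.isAlgebraic _ _
  obtain ⟨τ⟩ := Groth.Agent.Lib.Seat83.LargeField.nonempty_algHom_of_isAlgebraic_of_card_lt
    (V.left.residueField (qV.left w)) (U.left.residueField (prU.left w)) (W.left.residueField w)
    ybar.K (hk (prU.left w))
  let τ' : W.left.residueField w ⟶ CommRingCat.of ybar.K := CommRingCat.ofHom τ.toRingHom
  have hτ : ρ ≫ τ' = θ := by
    ext r
    exact τ.commutes r
  -- the resulting `K`-point of `W`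
  let hl : Spec (CommRingCat.of ybar.K) ⟶ W.left := Spec.map τ' ≫ W.left.fromSpecResidueField w
  have hhq : hl ≫ qV.left = (σ ≫ q).left := by
    change (Spec.map τ' ≫ W.left.fromSpecResidueField w) ≫ qV.left = _
    rw [Category.assoc, ← Scheme.Hom.SpecMap_residueFieldMap_fromSpecResidueField, ← Category.assoc,
      ← Spec.map_comp, hθ]
    congr 2
  have hhS : hl ≫ W.hom = ybar.pt.hom := by
    rw [← Over.w qV, ← Category.assoc, hhq]
    exact Over.w (σ ≫ q)
  let h : ybar.pt ⟶ W := Over.homMk hl hhS
  have hhqV : h ≫ qV = σ ≫ q := by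
    apply Over.OverMorphism.ext
    exact hhq
  refine ⟨(AlgSp.yon S).map (h ≫ prU) ≫ a, ?_, ?_⟩
  · rw [Functor.map_comp, Category.assoc, Category.assoc, ← sqW.w, ← Category.assoc,
      ← Functor.map_comp, hhqV]
    exact hvbar
  · rw [Groth.Agent.S10176.ofPt_map_comp]
    congr 1
    have h1 : (h ≫ prU).left = hl ≫ prU.left := rfl
    rw [h1, Scheme.Hom.comp_apply]
    have h2 : hl (IsLocalRing.closedPoint ybar.K) = w := by
      change (Spec.map τ' ≫ W.left.fromSpecResidueField w) _ = w
      rw [Scheme.Hom.comp_apply]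
      exact Scheme.fromSpecResidueField_apply _ _
    rw [h2]
    exact hw2


end Groth.Agent.S10000
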