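import Groth.Statements.S10001
import Mathlib
import Groth.Agent.Lib.Seat48IdealEt2
import Groth.Agent.S10176
import Groth.Agent.S10177

set_option autoImplicit false
universe u
open CategoryTheory CategoryTheory.Limits AlgebraicGeometry Opposite
open AlgSp

namespace Groth.Agent.S10001

/-- Last assertion, on T-valued points for schemes T: if i : Z ⟶ X is the closed subspace cut out by the
sheaf of ideals I, a morphism h : h_T ⟶ X from a scheme T factors through Z exactly when h^*I ⟶ O_T
vanishes, that is, when for every affine etale chart U of X the functions in I(U) pull back to zero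
on T ×_X U (I is contained in the kernel family of h). -/
theorem result {S : Scheme.{u}} {Z X : AlgSp.Space S} (i : Z ⟶ X) (I : AlgSp.IdealEt X.obj)
    (hZ : AlgSp.IsCutOutBy I i.hom) {T : Over S} (h : (AlgSp.yon S).obj T ⟶ X.obj) (hh : AlgSp.Representable h) :
    (∃ k : (AlgSp.yon S).obj T ⟶ Z.obj, k ≫ i.hom = h) ↔ I ≤ AlgSp.idealOfRep hh := by
  obtain ⟨hi, eI⟩ := hZ
  constructor
  · rintro ⟨k, hk⟩
    rw [← eI]
    exact Groth.Agent.Lib.Seat48.IdealEtFac.idealOfRep_le_of_factor hi.1 hh k hk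
  · intro hle
    rw [← eI] at hle
    obtain ⟨J, hJ⟩ := Groth.Agent.Lib.Seat48.EffCartierSp.exists_isInvImage hi h
    have hJbot : J = ⊥ := by
      apply Groth.Agent.Lib.Seat48.IdealEtFac.ideal_eq_bot_of_comap
      intro t
      obtain ⟨U, a, ha, has⟩ := X.property.atlas
      obtain ⟨u, hu⟩ := Groth.Agent.S10177.surjective_ofPt a has (AlgSp.Points.ofPt h t)
      obtain ⟨U₁, hU₁, huU₁, -⟩ := exists_isAffineOpen_mem_and_subset (x := u)
        (U := (⊤ : U.left.Opens)) trivial
      let E : AlgSp.EtOver X.obj := Groth.Agent.Lib.Seat48.IdealEtSp.openObj a ha U₁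
      have hE : IsAffine E.obj.left.left := hU₁
      have sqh := AlgSp.EtOver.isPullback_bcObj hh E
      obtain ⟨q, hq⟩ := (AlgSp.yon S).map_surjective (AlgSp.EtOver.bcObj hh E).obj.hom
      rw [← hq] at sqh
      have hqe : Etale q.left := E.property.2 _ _ q sqh.flip
      have hpt : AlgSp.Points.ofPt E.obj.hom (⟨u, huU₁⟩ : E.obj.left.left) = AlgSp.Points.ofPt h t := by
        rw [← hu]
        exact Groth.Agent.S10176.ofPt_map_comp (Groth.Agent.Lib.Seat48.IdealEtSp.openι U₁) a
          ⟨u, huU₁⟩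
      obtain ⟨t', -, ht'⟩ := Groth.Agent.S10176.exists_point_of_isPullback_yon sqh.flip
        (⟨u, huU₁⟩ : E.obj.left.left) t hpt
      refine ⟨_, q.left, inferInstance, t', ht', ?_⟩
      obtain ⟨IE, hIE⟩ := Groth.Agent.Lib.Seat48.EffCartierSp.exists_isInvImage hi E.obj.hom
      have h1 := hJ.comap q
      have h2 := hIE.comap (AlgSp.EtOver.bcπ hh E)
      rw [sqh.w] at h1
      rw [h1.unique h2]
      have hIEtop := Groth.Agent.Lib.Seat48.IdealEtSp.idealOfRep_ideal hi E hE hIE
      apply Scheme.IdealSheafData.ext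
      funext W
      rw [Scheme.IdealSheafData.ideal_bot, Pi.bot_apply,
        Groth.Agent.Lib.Helper20.EffCartier.ideal_comap_eq_map (AlgSp.EtOver.bcπ hh E).left IE W.2
          (isAffineOpen_top _) (le_top : W.1 ≤ (AlgSp.EtOver.bcπ hh E).left ⁻¹ᵁ ⊤),
        eq_bot_iff, Ideal.map_le_iff_le_comap]
      intro f hf
      rw [Ideal.mem_comap, Ideal.mem_bot]
      have hf' : f ∈ (AlgSp.idealOfRep hh).ideal E hE := hle E hE (hIEtop ▸ hf)
      rw [AlgSp.mem_idealOfRep_iff] at hf'
      rw [Scheme.Hom.appLE, CommRingCat.hom_comp, RingHom.comp_apply]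
      have hf'' : ((AlgSp.EtOver.bcπ hh E).left.app ⊤).hom f = 0 := hf'
      rw [hf'', map_zero]
    obtain ⟨fst, sq⟩ := hJ
    have hiso : IsIso J.subschemeι := (Scheme.isIso_subschemeι_iff_eq_bot J).2 hJbot
    have hiso' : IsIso (Groth.Agent.Lib.Seat48.EffCartierSp.subι J) := by
      have : IsIso ((Over.forget S).map (Groth.Agent.Lib.Seat48.EffCartierSp.subι J)) := hiso
      exact isIso_of_reflects_iso _ (Over.forget S)
    refine ⟨(AlgSp.yon S).map (inv (Groth.Agent.Lib.Seat48.EffCartierSp.subι J)) ≫ fst, ?_⟩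
    rw [Category.assoc, sq.w, ← Category.assoc, ← Functor.map_comp, IsIso.inv_hom_id,
      CategoryTheory.Functor.map_id, Category.id_comp]

end Groth.Agent.S10001
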