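import Groth.Statements.S10002
import Groth.Agent.Lib.Seat48PushQcqs2
import Groth.Agent.Lib.Seat44LimChart2
import Groth.Agent.Lib.Helper15QcRep
import Groth.Agent.Lib.Seat48BCEt4

set_option autoImplicit false
universe u
open CategoryTheory CategoryTheory.Limits AlgebraicGeometry Opposite
open AlgSp

namespace Groth.Agent.S10002

/-- For a morphism f : X ⟶ Y of algebraic spaces that is representable by schemes, quasi-compact and
quasi-separated, the direct image f_* carries quasi-coherent O_X-modules on the small etale site to
quasi-coherent O_Y-modules. (The published statement is for an arbitrary quasi-compact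
quasi-separated morphism of algebraic spaces; the direct image functor between the small etale sites
with scheme charts is available only for representable f, which is the case stated.) -/
theorem result {S : Scheme.{u}} {X Y : AlgSp.Space S} (f : X ⟶ Y)
    (hf : AlgSp.Representable f.hom) (hqc : AlgSp.IsQuasiCompactMor f.hom) (hqs : AlgSp.IsQuasiSeparatedMor f.hom)
    (F : AlgSp.ModEt X.obj) [F.IsQuasicoherent] :
    ((AlgSp.pushModEt hf).obj F).IsQuasicoherent := by
  have hM := Groth.Agent.Lib.Seat48.BCEt.hasBCOn_of_isQuasicoherent F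
  have hqc' : ∀ E : AlgSp.EtOver Y.obj, IsAffine E.obj.left.left →
      CompactSpace (AlgSp.EtOver.bcObj hf E).obj.left.left := by
    intro E hE
    exact Groth.Agent.Lib.Seat44.LimChart2.compactSpace_of_isQuasiCompactSp_yon
      (hqc (AlgSp.IsAlgSpace.yon_obj E.obj.left)
        (Groth.Agent.Lib.Helper15QcRep.isQuasiCompactSp_yon E.obj.left hE) E.obj.hom _ _
        (AlgSp.EtOver.isPullback_bcObj hf E))
  have hqs' : ∀ E : AlgSp.EtOver Y.obj, IsAffine E.obj.left.left →
      QuasiSeparatedSpace (AlgSp.EtOver.bcObj hf E).obj.left.left := by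
    intro E hE
    have h1 : AlgSp.IsQuasiSeparatedMor ((AlgSp.yon S).map (AlgSp.EtOver.bcπ hf E)) :=
      MorphismProperty.of_isPullback (P := (AlgSp.RepWith (S := S) @QuasiCompact).diagonal)
        (AlgSp.EtOver.isPullback_bcObj hf E) hqs
    have h2 : QuasiSeparated (AlgSp.EtOver.bcπ hf E).left :=
      (AlgSp.isQuasiSeparatedMor_yon_map_iff _).1 h1
    have h3 : IsAffine E.obj.left.left := hE
    exact quasiSeparatedSpace_of_quasiSeparated (AlgSp.EtOver.bcπ hf E).left
  exact Groth.Agent.Lib.Seat48.BCEt.isQuasicoherent_of_hasBCOn _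
    (Groth.Agent.Lib.Seat48.PushQcqs.hasBCOn_push_qcqs hf hqc' hqs' F hM)

end Groth.Agent.S10002
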