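import Groth.Statements.S10020
import Groth.Agent.Lib.Seat44LimDescRep
import Groth.Agent.Lib.Seat44DiagBC
import Groth.Agent.Lib.Helper12Proper
import Groth.Agent.S9189
import Groth.Agent.S9900
import Groth.Agent.S9921
import Groth.Agent.S9874
import Groth.Agent.S10180

set_option autoImplicit false
set_option backward.isDefEq.respectTransparency false
set_option backward.isDefEq.respectTransparency.types false
universe u
open CategoryTheory CategoryTheory.Limits AlgebraicGeometry
open AlgSp

namespace Groth.Agent.S10020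

open Groth.Agent.Lib.Seat44.DiagBC Groth.Agent.Lib.Seat44.LimDescRep

/-- the relative diagonal is the base change of the absolute diagonal. -/
theorem isPullback_diagonal_diag {C : Type*} [Category C] [HasPullbacks C] [HasBinaryProducts C]
    {X Y : C} (f : X ⟶ Y) :
    IsPullback (𝟙 X) (pullback.diagonal f) (Limits.diag X)
      (prod.lift (pullback.fst f f) (pullback.snd f f)) := by
  have w : 𝟙 X ≫ Limits.diag X = pullback.diagonal f ≫ prod.lift (pullback.fst f f) (pullback.snd f f) := by
    apply Limits.prod.hom_ext <;> simp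
  refine ⟨⟨w⟩, ⟨PullbackCone.IsLimit.mk w (fun s => s.fst) (fun s => Category.comp_id _) ?_ ?_⟩⟩
  · intro s
    have h1 := congrArg (fun m => m ≫ prod.fst) s.condition
    have h2 := congrArg (fun m => m ≫ prod.snd) s.condition
    simp only [Category.assoc, prod.lift_fst, prod.lift_snd, Limits.diag] at h1 h2
    apply pullback.hom_ext
    · rw [Category.assoc, pullback.diagonal_fst, Category.comp_id]
      simpa using h1
    · rw [Category.assoc, pullback.diagonal_snd, Category.comp_id]
      simpa using h2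
  · intro s m hm _
    rw [← hm, Category.comp_id]

variable {S : Scheme.{u}}

/-- the relative diagonal inherits base-change-stable properties of the absolute diagonal. -/
theorem repWith_diagonal_of_diag (P : MorphismProperty Scheme.{u}) [P.IsStableUnderBaseChange]
    {X Y : AlgSp.Sp S} (f : X ⟶ Y) (h : AlgSp.RepWith P (Limits.diag X)) :
    AlgSp.RepWith P (pullback.diagonal f) :=
  MorphismProperty.of_isPullback (P := AlgSp.RepWith (S := S) P) (isPullback_diagonal_diag f) h

/-- scheme-level descent of closed immersions. -/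
theorem schDescendsWith_isClosedImmersion :
    SchDescendsWith.{u} @LocallyOfFiniteType @IsClosedImmersion := by
  intro I _ _ D c hc _ i₀ _ _ X₀ Y₀ f₀ g₀ _ _ _ _ hR X Y f g qY qX hY hX hf
  haveI : LocallyOfFiniteType f₀ := hR
  haveI : IsClosedImmersion f := hf
  exact Groth.Agent.S9189.result D c hc i₀ f₀ g₀ f g qY qX hY hX

/-- Let `S` be a quasi-separated scheme and `B` the limit, in fppf sheaves over `S`, of a cofiltered
system `(B_i)` of algebraic spaces over `S` whose transition maps are affine; fix an index `i₀` such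
that `B_{i₀}` is quasi-compact and quasi-separated over `S`, and a morphism `f₀ : X₀ ⟶ Y₀` of
algebraic spaces over `B_{i₀}` whose source and target are quasi-compact and quasi-separated over
`S`. Write `f_i` (for `i` mapping to `i₀`) and `f` for the base changes of `f₀` to `B_i` and to `B`,
given by pullback squares. If `f` is separated (no finiteness condition on `f₀`), then for some `i`
mapping to `i₀` every such base change `f_i` is separated. (The published statement allows any base
scheme and uses absolute quasi-separatedness; this row assumes the base quasi-separated, over which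
quasi-separatedness relative to the base is the absolute notion.) -/
theorem result (S : Scheme.{u}) [QuasiSeparatedSpace S] {I : Type u} [SmallCategory I] [IsCofiltered I]
    (D : I ⥤ AlgSp.Sp S) (hD : ∀ i, AlgSp.IsAlgSpace (D.obj i))
    (hDa : ∀ (i j : I) (φ : i ⟶ j), AlgSp.IsAffineMor (D.map φ))
    (c : Cone D) (hc : IsLimit c) (i₀ : I)
    (hBqc : AlgSp.IsQuasiCompactSp (D.obj i₀)) (hBqs : AlgSp.IsQuasiSeparatedSp (D.obj i₀))
    (X₀ Y₀ : AlgSp.Space S) (f₀ : X₀.obj ⟶ Y₀.obj) (b₀ : Y₀.obj ⟶ D.obj i₀)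
    (hXqc : AlgSp.IsQuasiCompactSp X₀.obj) (hXqs : AlgSp.IsQuasiSeparatedSp X₀.obj)
    (hYqc : AlgSp.IsQuasiCompactSp Y₀.obj) (hYqs : AlgSp.IsQuasiSeparatedSp Y₀.obj)
    (X Y : AlgSp.Sp S) (f : X ⟶ Y) (pY : Y ⟶ Y₀.obj) (qY : Y ⟶ c.pt)
    (hY : IsPullback pY qY b₀ (c.π.app i₀)) (pX : X ⟶ X₀.obj) (hX : IsPullback pX f f₀ pY)
    (hf : AlgSp.IsSeparatedMor f) :
    ∃ (i : I) (φ : i ⟶ i₀), ∀ (Xi Yi : AlgSp.Sp S) (fi : Xi ⟶ Yi) (pYi : Yi ⟶ Y₀.obj) (qYi : Yi ⟶ D.obj i)
      (_ : IsPullback pYi qYi b₀ (D.map φ)) (pXi : Xi ⟶ X₀.obj) (_ : IsPullback pXi fi f₀ pYi),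
      AlgSp.IsSeparatedMor fi := by
  have hP : IsAlgSpace (pullback f₀ f₀) :=
    Groth.Agent.S9874.isAlgSpace_of_isPullback Y₀.property.diag X₀.property X₀.property
      (IsPullback.of_hasPullback f₀ f₀)
  let PP : AlgSp.Space S := ⟨pullback f₀ f₀, hP⟩
  let ff : X₀ ⟶ Y₀ := ObjectProperty.homMk f₀
  let p1 : PP ⟶ X₀ := ObjectProperty.homMk (pullback.fst f₀ f₀)
  let p2 : PP ⟶ X₀ := ObjectProperty.homMk (pullback.snd f₀ f₀)
  have hPq : IsQuasiCompactSp PP.obj ∧ IsQuasiSeparatedSp PP.obj :=
    Groth.Agent.S9921.result ff ff p1 p2 (IsPullback.of_hasPullback f₀ f₀)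
      ⟨hXqc, hXqs⟩ ⟨hYqc, hYqs⟩ ⟨hXqc, hXqs⟩
  obtain ⟨hrep, hlft, -, hsep, -⟩ := Groth.Agent.S9900.result ff
  have hqc : AlgSp.RepWith @QuasiCompact (pullback.diagonal f₀) :=
    repWith_diagonal_of_diag @QuasiCompact f₀ hXqs
  obtain ⟨V₀, v, hV₀, hve, hvs⟩ := Groth.Agent.S10180.exists_affine_chart hPq.1
  obtain ⟨E₀, h₀, e, sqE⟩ := hrep v
  haveI := hV₀
  haveI : LocallyOfFiniteType h₀.left := hlft.2 _ _ _ sqE
  haveI : QuasiCompact h₀.left := hqc.2 _ _ _ sqE
  haveI : IsSeparated h₀.left := hsep.2 _ _ _ sqE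
  haveI : CompactSpace E₀.left := QuasiCompact.compactSpace_of_compactSpace h₀.left
  haveI : QuasiSeparatedSpace E₀.left := quasiSeparatedSpace_of_quasiSeparated h₀.left
  haveI := Groth.Agent.Lib.Helper12.descendsAlong_isClosedImmersion.{u}
  obtain ⟨i, φ, H⟩ := descend_repWith_via_target_chart @LocallyOfFiniteType @IsClosedImmersion
    schDescendsWith_isClosedImmersion D hDa c hc i₀ (pullback.diagonal f₀) hrep
    (pullback.snd f₀ f₀ ≫ f₀ ≫ b₀) hV₀ v hve hvs h₀ e sqE inferInstance
    X (pullback f f) (pullback.diagonal f) (diagMap hX) (pullback.snd f f ≫ f ≫ qY)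
    (isPullback_diagMap hY hX) pX (isPullback_diagonal hX) hf
  refine ⟨i, φ, ?_⟩
  intro Xi Yi fi pYi qYi sqY pXi sqX
  exact H Xi (pullback fi fi) (pullback.diagonal fi) (diagMap sqX) (pullback.snd fi fi ≫ fi ≫ qYi)
    (isPullback_diagMap sqY sqX) pXi (isPullback_diagonal sqX)

end Groth.Agent.S10020
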