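import Groth.Statements.S10021
import Groth.Agent.S10013
import Groth.Agent.S10015
import Groth.Agent.S10016
import Groth.Agent.S10261
import Groth.Agent.S10209
import Groth.Agent.S9947
import Groth.Agent.Lib.Seat44StageMono
import Groth.Agent.Lib.Seat44MorBasics
import Groth.Agent.Lib.Helper12OpenSub2
import Groth.Agent.Lib.Helper12TopDescent
import Groth.Agent.Lib.Helper12TopDescent2
import Groth.Agent.Lib.Helper15MonoSep
import Groth.Agent.Lib.Helper15UnivPts

set_option autoImplicit false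
set_option backward.isDefEq.respectTransparency false
set_option backward.isDefEq.respectTransparency.types false
universe u
open CategoryTheory CategoryTheory.Limits AlgebraicGeometry
open AlgSp

namespace Groth.Agent.S10021

open Groth.Agent.Lib.Seat44.StageMono

variable {S : Scheme.{u}}

/-- an isomorphism of sheaves is étale. -/
theorem isEtaleMor_of_isIso {X Y : AlgSp.Sp S} (f : X ⟶ Y) [IsIso f] : AlgSp.IsEtaleMor f := by
  intro U φ hφ
  exact (AlgSp.RepWith (S := S) @Etale).comp_mem _ _ hφ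
    (Groth.Agent.Lib.Helper15MonoSep.repWith_of_isIso @Etale f)

/-- an isomorphism of sheaves is universally injective. -/
theorem isUnivInjectiveMor_of_isIso {X Y : AlgSp.Sp S} (f : X ⟶ Y) [IsIso f] :
    AlgSp.IsUnivInjectiveMor f := by
  intro Z Z' hZ g fst snd sq
  haveI : IsIso snd := sq.isIso_snd_of_isIso
  exact (Groth.Agent.Lib.Helper15UnivPts.isHomeomorph_points_map_of_isIso snd).injective

/-- étale, universally injective and surjective morphisms of algebraic spaces are isomorphisms. -/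
theorem isIso_of_etale_univInj_surj {X Y : AlgSp.Sp S} (hX : IsAlgSpace X) (hY : IsAlgSpace Y)
    (f : X ⟶ Y) (het : AlgSp.IsEtaleMor f) (hinj : AlgSp.IsUnivInjectiveMor f)
    (hsurj : AlgSp.IsSurjectiveMor f) : IsIso f := by
  have hopen : AlgSp.RepWith @IsOpenImmersion f :=
    Groth.Agent.S10261.result (X := ⟨X, hX⟩) (Y := ⟨Y, hY⟩) (ObjectProperty.homMk f) het hinj
  have hid : AlgSp.RepWith @IsOpenImmersion (𝟙 Y) :=
    Groth.Agent.Lib.Helper15MonoSep.repWith_of_isIso @IsOpenImmersion (𝟙 Y)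
  have hr : Set.range (AlgSp.Points.map f) = Set.range (AlgSp.Points.map (𝟙 Y)) := by
    rw [hsurj.range_eq]
    ext y
    simp
  obtain ⟨e, he⟩ := Groth.Agent.Lib.Helper12.OpenSub.iso_of_range_eq f hopen (𝟙 Y) hid hr
  rw [Category.comp_id] at he
  rw [← he]
  infer_instance

/-- Let `S` be a quasi-separated scheme and `B` the limit, in fppf sheaves over `S`, of a cofiltered
system `(B_i)` of algebraic spaces over `S` whose transition maps are affine; fix an index `i₀` such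
that `B_{i₀}` is quasi-compact and quasi-separated over `S`, and a morphism `f₀ : X₀ ⟶ Y₀` of
algebraic spaces over `B_{i₀}` whose source and target are quasi-compact and quasi-separated over
`S`. Write `f_i` (for `i` mapping to `i₀`) and `f` for the base changes of `f₀` to `B_i` and to `B`,
given by pullback squares. If `f` is an isomorphism and `f₀` locally of finite presentation, then
for some `i` mapping to `i₀` every such base change `f_i` is an isomorphism. (The published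
statement allows any base scheme and uses absolute quasi-separatedness; this row assumes the base
quasi-separated, over which quasi-separatedness relative to the base is the absolute notion.) -/
theorem result (S : Scheme.{u}) [QuasiSeparatedSpace S] {I : Type u} [SmallCategory I] [IsCofiltered I]
    (D : I ⥤ AlgSp.Sp S) (hD : ∀ i, AlgSp.IsAlgSpace (D.obj i))
    (hDa : ∀ (i j : I) (φ : i ⟶ j), AlgSp.IsAffineMor (D.map φ))
    (c : Cone D) (hc : IsLimit c) (i₀ : I)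
    (hBqc : AlgSp.IsQuasiCompactSp (D.obj i₀)) (hBqs : AlgSp.IsQuasiSeparatedSp (D.obj i₀))
    (X₀ Y₀ : AlgSp.Space S) (f₀ : X₀.obj ⟶ Y₀.obj) (b₀ : Y₀.obj ⟶ D.obj i₀)
    (hXqc : AlgSp.IsQuasiCompactSp X₀.obj) (hXqs : AlgSp.IsQuasiSeparatedSp X₀.obj)
    (hYqc : AlgSp.IsQuasiCompactSp Y₀.obj) (hYqs : AlgSp.IsQuasiSeparatedSp Y₀.obj)
    (X Y : AlgSp.Sp S) (f : X ⟶ Y) (pY : Y ⟶ Y₀.obj) (qY : Y ⟶ c.pt)
    (hY : IsPullback pY qY b₀ (c.π.app i₀)) (pX : X ⟶ X₀.obj) (hX : IsPullback pX f f₀ pY)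
    [IsIso f] (hf₀ : AlgSp.LocP @LocallyOfFinitePresentation f₀) :
    ∃ (i : I) (φ : i ⟶ i₀), ∀ (Xi Yi : AlgSp.Sp S) (fi : Xi ⟶ Yi) (pYi : Yi ⟶ Y₀.obj) (qYi : Yi ⟶ D.obj i)
      (_ : IsPullback pYi qYi b₀ (D.map φ)) (pXi : Xi ⟶ X₀.obj) (_ : IsPullback pXi fi f₀ pYi),
      IsIso fi := by
  have hE := Groth.Agent.S10013.result S D hD hDa c hc i₀ hBqc hBqs X₀ Y₀ f₀ b₀ hXqc hXqs hYqc hYqs
    X Y f pY qY hY pX hX (isEtaleMor_of_isIso f) hf₀
  have hS := Groth.Agent.S10015.result S D hD hDa c hc i₀ hBqc hBqs X₀ Y₀ f₀ b₀ hXqc hXqs hYqc hYqs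
    X Y f pY qY hY pX hX (Groth.Agent.Lib.Seat44.MorBasics.isSurjectiveMor_of_isIso f) hf₀
  have hft : AlgSp.LocP @LocallyOfFiniteType f₀ := by
    intro U V a b h ha hb w
    haveI := hf₀ a b h ha hb w
    infer_instance
  have hU := Groth.Agent.S10016.result S D hD hDa c hc i₀ hBqc hBqs X₀ Y₀ f₀ b₀ hXqc hXqs hYqc hYqs
    X Y f pY qY hY pX hX (isUnivInjectiveMor_of_isIso f) hft
  obtain ⟨i₁, φ₁, h₁⟩ := hE
  obtain ⟨i₂, φ₂, h₂⟩ := hS
  obtain ⟨i₃, φ₃, h₃⟩ := hU
  obtain ⟨j, α₁, α₂, hα⟩ := exists_common_stage φ₁ φ₂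
  obtain ⟨i, β, β₃, hβ⟩ := exists_common_stage (α₁ ≫ φ₁) φ₃
  have e₁ : (β ≫ α₁) ≫ φ₁ = β ≫ α₁ ≫ φ₁ := Category.assoc _ _ _
  have e₂ : (β ≫ α₂) ≫ φ₂ = β ≫ α₁ ≫ φ₁ := by rw [Category.assoc, hα]
  have e₃ : β₃ ≫ φ₃ = β ≫ α₁ ≫ φ₁ := hβ.symm
  have k₁ : StageProp (fun {A B} g => AlgSp.IsEtaleMor g) D f₀ b₀ (β ≫ α₁ ≫ φ₁) := by
    rw [← e₁]
    refine StageProp.mono ?_ D hD X₀.property Y₀.property f₀ b₀ φ₁ (β ≫ α₁) h₁
    intro A B A' B' hA hB hA' hB' f f' p q sq hf
    exact Groth.Agent.S10209.result (X := ⟨A, hA⟩) (Y := ⟨B, hB⟩) (Z := ⟨B', hB'⟩) (P := ⟨A', hA'⟩)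
      (ObjectProperty.homMk f) (ObjectProperty.homMk q) (ObjectProperty.homMk f')
      (ObjectProperty.homMk p) sq.flip hf
  have k₂ : StageProp (fun {A B} g => AlgSp.IsSurjectiveMor g) D f₀ b₀ (β ≫ α₁ ≫ φ₁) := by
    rw [← e₂]
    refine StageProp.mono ?_ D hD X₀.property Y₀.property f₀ b₀ φ₂ (β ≫ α₂) h₂
    intro A B A' B' hA hB hA' hB' f f' p q sq hf
    exact Groth.Agent.Lib.Helper12.TopDescent.isSurjectiveMor_baseChange sq hf
  have k₃ : StageProp (fun {A B} g => AlgSp.IsUnivInjectiveMor g) D f₀ b₀ (β ≫ α₁ ≫ φ₁) := by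
    rw [← e₃]
    refine StageProp.mono ?_ D hD X₀.property Y₀.property f₀ b₀ φ₃ β₃ h₃
    intro A B A' B' hA hB hA' hB' f f' p q sq hf
    exact Groth.Agent.Lib.Helper12.TopDescent.univSp_baseChange _ sq hf
  refine ⟨i, β ≫ α₁ ≫ φ₁, ?_⟩
  intro Xi Yi fi pYi qYi sqY pXi sqX
  have hYi : IsAlgSpace Yi :=
    Groth.Agent.S9874.isAlgSpace_of_isPullback (hD i₀).diag Y₀.property (hD i) sqY
  have hXi : IsAlgSpace Xi :=
    Groth.Agent.S9874.isAlgSpace_of_isPullback Y₀.property.diag X₀.property hYi sqX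
  exact isIso_of_etale_univInj_surj hXi hYi fi (k₁ Xi Yi fi pYi qYi sqY pXi sqX)
    (k₃ Xi Yi fi pYi qYi sqY pXi sqX) (k₂ Xi Yi fi pYi qYi sqY pXi sqX)

end Groth.Agent.S10021
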