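import Groth.Statements.S10006
import Groth.Agent.Lib.Seat44HomDesc2
import Groth.Agent.Lib.Seat44EtaleModel
import Groth.Agent.Lib.Seat44MorBasics
import Groth.Agent.Lib.Helper15MonoSep
import Groth.Agent.Lib.Helper12LocPCases
import Groth.Agent.S10021
import Groth.Agent.S9943
import Groth.Agent.S9959
import Groth.Agent.S9947
import Groth.Agent.S9921
import Groth.Agent.S9874

set_option autoImplicit false
set_option backward.isDefEq.respectTransparency false
set_option backward.isDefEq.respectTransparency.types false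
universe u
open CategoryTheory CategoryTheory.Limits AlgebraicGeometry
open AlgSp

namespace Groth.Agent.S10006

open Groth.Agent.Lib.Seat44.AffLim Groth.Agent.Lib.Seat44.LimChart Groth.Agent.Lib.Seat44.LimChart2
  Groth.Agent.Lib.Seat44.HomDesc Groth.Agent.Lib.Seat44.EtaleModel

variable {S : Scheme.{u}}

/-- the sheaf of a quasi-separated scheme is quasi-separated. -/
theorem isQuasiSeparatedSp_yon (U : Over S) [QuasiSeparatedSpace U.left] :
    IsQuasiSeparatedSp ((yon S).obj U) :=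
  (repWith_diag_yon_iff @QuasiCompact U).2 QuasiSeparated.quasiCompact_diagonal

/-- the transition squares of the `W`-system are cartesian. -/
theorem isPullback_W_map {I : Type u} [SmallCategory I] (D : I ⥤ AlgSp.Sp S)
    (hDa : ∀ (i j : I) (φ : i ⟶ j), AlgSp.IsAffineMor (D.map φ))
    (i : I) {Z : Over S} (hZ : IsAffine Z.left) (g : (yon S).obj Z ⟶ D.obj i) {k k' : Over i}
    (ψ : k ⟶ k') :
    IsPullback ((yon S).map ((W D hDa i hZ g).map ψ)) (Wfst D hDa i hZ g k) (Wfst D hDa i hZ g k')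
      (D.map ψ.left) := by
  have big : IsPullback ((yon S).map ((W D hDa i hZ g).map ψ) ≫ (yon S).map (Wι D hDa i hZ g k'))
      (Wfst D hDa i hZ g k) g (D.map ψ.left ≫ D.map k'.hom) := by
    rw [← Functor.map_comp, W_map_ι, ← D.map_comp, Over.w ψ]
    exact (Wsq D hDa i hZ g k).flip
  refine IsPullback.of_right big ?_ (Wsq D hDa i hZ g k').flip
  rw [yon_map_W_map]
  exact WmapSh_fst D hDa i hZ g ψ

/-- Let `S` be a quasi-separated scheme and `X` the limit, in fppf sheaves over `S`, of a cofiltered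
system `(X_i)` of quasi-compact algebraic spaces over `S`, each quasi-separated over `S`, whose
transition maps are affine. If `X` is (representable by) an affine scheme, then so is `X_i` for some
`i`. (The published statement allows any base scheme and uses absolute quasi-separatedness; this row
assumes the base quasi-separated, over which quasi-separatedness relative to the base is the
absolute notion.) -/
theorem result (S : Scheme.{u}) [QuasiSeparatedSpace S] {I : Type u} [SmallCategory I] [IsCofiltered I]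
    (D : I ⥤ AlgSp.Sp S) (hD : ∀ i, AlgSp.IsAlgSpace (D.obj i))
    (hDa : ∀ (i j : I) (φ : i ⟶ j), AlgSp.IsAffineMor (D.map φ))
    (hqc : ∀ i, AlgSp.IsQuasiCompactSp (D.obj i)) (hqs : ∀ i, AlgSp.IsQuasiSeparatedSp (D.obj i))
    (c : Cone D) (hc : IsLimit c)
    (T : Over S) (hT : IsAffine T.left) (e : (AlgSp.yon S).obj T ≅ c.pt) :
    ∃ (i : I) (T' : Over S), IsAffine T'.left ∧ Nonempty ((AlgSp.yon S).obj T' ≅ D.obj i) := by
  obtain ⟨i₀⟩ := IsCofiltered.nonempty (C := I)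
  obtain ⟨U₀, p, hU₀, hpe, hps⟩ := Groth.Agent.S10180.exists_affine_chart (hqc i₀)
  obtain ⟨cW, hcW, fstW, hcWaff, ⟨hlimW⟩, sqW₀, sq₀⟩ := exists_chart_data' D hDa c hc i₀ hU₀ p
  -- an opaque copy of `Wfst` with the source written through the functor `W`
  obtain ⟨wf, hwf⟩ : ∃ wf : ∀ k : Over i₀, (yon S).obj ((W D hDa i₀ hU₀ p).obj k) ⟶ D.obj k.left,
      ∀ k, wf k = Wfst D hDa i₀ hU₀ p k := ⟨fun k => Wfst D hDa i₀ hU₀ p k, fun _ => rfl⟩
  have sqW : ∀ k, IsPullback ((yon S).map (cW.π.app k)) fstW (wf k) (c.π.app k.left) := fun k => by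
    rw [hwf]; exact sqW₀ k
  have wmap : ∀ {k k' : Over i₀} (ψ : k ⟶ k'),
      IsPullback ((yon S).map ((W D hDa i₀ hU₀ p).map ψ)) (wf k) (wf k') (D.map ψ.left) := by
    intro k k' ψ
    rw [hwf, hwf]
    exact isPullback_W_map D hDa i₀ hU₀ p ψ
  have wet : ∀ k, RepWith @Etale (wf k) := fun k => by
    rw [hwf]
    exact MorphismProperty.of_isPullback (P := RepWith @Etale) (Wsq D hDa i₀ hU₀ p k).flip hpe
  have waff : ∀ k, IsAffine ((W D hDa i₀ hU₀ p).obj k).left := fun k => Waff D hDa i₀ hU₀ p k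
  have hfe : RepWith @Etale fstW := MorphismProperty.of_isPullback (P := RepWith @Etale) sq₀.flip hpe
  have hfs : RepWith @Surjective fstW :=
    MorphismProperty.of_isPullback (P := RepWith @Surjective) sq₀.flip hps
  -- the chart of the limit as a morphism of affine schemes
  obtain ⟨u, hu⟩ := (yon S).map_surjective (fstW ≫ e.inv)
  haveI : Etale u.left := (repWith_yon_map_iff @Etale u).1 (by
    rw [hu]
    exact (RepWith @Etale).comp_mem _ _ hfe
      (Groth.Agent.Lib.Helper15MonoSep.repWith_of_isIso @Etale e.inv))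
  haveI : Surjective u.left := (repWith_yon_map_iff @Surjective u).1 (by
    rw [hu]
    exact (RepWith @Surjective).comp_mem _ _ hfs
      (Groth.Agent.Lib.Helper15MonoSep.repWith_of_isIso @Surjective e.inv))
  obtain ⟨Z, V, z, v, g, hZ, hV, hZfp, hvet, hvs, sqg⟩ := exists_etale_model hT hcWaff u
  haveI := hZ
  haveI := hV
  haveI := hZfp
  haveI := hvet
  haveI := hvs
  haveI : LocallyOfFinitePresentation V.hom := by
    rw [← Over.w v]
    infer_instance
  have hgv : g ≫ v = u ≫ z := Over.OverMorphism.ext sqg.w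
  -- the morphism to `Z` descends to a stage
  obtain ⟨k₁, a₁, ha₁⟩ := exists_hom_descent D hD hDa c hc i₀ (hqc i₀) (hqs i₀) Z
    (e.inv ≫ (yon S).map z)
  -- `g` descends to a stage
  obtain ⟨j, gj, hgj⟩ := over_hom_descent (W D hDa i₀ hU₀ p) waff cW hlimW V g
  -- a common stage
  obtain ⟨k₂, ψ₁, ψ₂, -⟩ : ∃ (k₂ : Over i₀) (_ : k₂ ⟶ k₁) (_ : k₂ ⟶ j), True :=
    ⟨IsCofiltered.min k₁ j, IsCofiltered.minToLeft k₁ j, IsCofiltered.minToRight k₁ j, trivial⟩
  have hfa : fstW ≫ e.inv ≫ (yon S).map z = (yon S).map (g ≫ v) := by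
    rw [hgv, Functor.map_comp, hu, Category.assoc]
  obtain ⟨b₂, hb₂⟩ := (yon S).map_surjective (wf k₂ ≫ D.map ψ₁.left ≫ a₁)
  have hagree : cW.π.app k₂ ≫ ((W D hDa i₀ hU₀ p).map ψ₂ ≫ gj) ≫ v = cW.π.app k₂ ≫ b₂ := by
    apply (yon S).map_injective
    have e1 : cW.π.app k₂ ≫ ((W D hDa i₀ hU₀ p).map ψ₂ ≫ gj) ≫ v = g ≫ v := by
      rw [← Category.assoc, ← Category.assoc, cW.w ψ₂, hgj]
    rw [e1, ← hfa, Functor.map_comp, hb₂, ← Category.assoc ((yon S).map (cW.π.app k₂)) (wf k₂),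
      (sqW k₂).w, Category.assoc, ← Category.assoc (c.π.app k₂.left), c.w ψ₁.left, ha₁]
  obtain ⟨k, ψ₃, hk⟩ := over_hom_eq (W D hDa i₀ hU₀ p) waff cW hlimW Z _ _ hagree
  -- the data at stage `k`
  obtain ⟨ak, hak⟩ : ∃ ak : D.obj k.left ⟶ (yon S).obj Z, ak = D.map ψ₃.left ≫ D.map ψ₁.left ≫ a₁ :=
    ⟨_, rfl⟩
  obtain ⟨gk, hgk⟩ : ∃ gk : (W D hDa i₀ hU₀ p).obj k ⟶ V,
      gk = (W D hDa i₀ hU₀ p).map ψ₃ ≫ (W D hDa i₀ hU₀ p).map ψ₂ ≫ gj := ⟨_, rfl⟩
  have hcak : c.π.app k.left ≫ ak = e.inv ≫ (yon S).map z := by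
    rw [hak, ← Category.assoc, c.w ψ₃.left, ← Category.assoc, c.w ψ₁.left, ha₁]
  have hcgk : cW.π.app k ≫ gk = g := by
    rw [hgk, ← Category.assoc, cW.w ψ₃, ← Category.assoc, cW.w ψ₂, hgj]
  have hcomm : wf k ≫ ak = (yon S).map gk ≫ (yon S).map v := by
    rw [← Functor.map_comp, hgk, Category.assoc, Category.assoc, ← Category.assoc _ gj v, hk,
      Functor.map_comp, hb₂, ← Category.assoc ((yon S).map ((W D hDa i₀ hU₀ p).map ψ₃)) (wf k₂),
      (wmap ψ₃).w, Category.assoc, hak]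
  -- the comparison morphism `f_k : h_{W_k} ⟶ P_k = D k ×_{h_Z} h_V`
  have hve : RepWith @Etale ((yon S).map v) := (repWith_yon_map_iff @Etale v).2 hvet
  have hvsurj : RepWith @Surjective ((yon S).map v) := (repWith_yon_map_iff @Surjective v).2 hvs
  have sqP := IsPullback.of_hasPullback ak ((yon S).map v)
  have hPalg : IsAlgSpace (pullback ak ((yon S).map v)) :=
    Groth.Agent.S9874.isAlgSpace_of_isPullback (IsAlgSpace.yon_obj Z).diag (hD k.left)
      (IsAlgSpace.yon_obj V) sqP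
  let Pk : Space S := ⟨pullback ak ((yon S).map v), hPalg⟩
  let Xk : Space S := ⟨D.obj k.left, hD k.left⟩
  let ZZ : Space S := ⟨(yon S).obj Z, IsAlgSpace.yon_obj Z⟩
  let VV : Space S := ⟨(yon S).obj V, IsAlgSpace.yon_obj V⟩
  let WW : Space S := ⟨(yon S).obj ((W D hDa i₀ hU₀ p).obj k), IsAlgSpace.yon_obj _⟩
  have hPq : IsQuasiCompactSp Pk.obj ∧ IsQuasiSeparatedSp Pk.obj :=
    Groth.Agent.S9921.result (X := Xk) (Y := ZZ) (Z := VV) (P := Pk) (ObjectProperty.homMk ak)
      (ObjectProperty.homMk ((yon S).map v)) (ObjectProperty.homMk (pullback.fst ak ((yon S).map v)))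
      (ObjectProperty.homMk (pullback.snd ak ((yon S).map v))) sqP ⟨hqc _, hqs _⟩
      ⟨Groth.Agent.Lib.Helper15QcRep.isQuasiCompactSp_yon Z hZ, isQuasiSeparatedSp_yon Z⟩
      ⟨Groth.Agent.Lib.Helper15QcRep.isQuasiCompactSp_yon V hV, isQuasiSeparatedSp_yon V⟩
  obtain ⟨fk, hfk⟩ : ∃ fk : (yon S).obj ((W D hDa i₀ hU₀ p).obj k) ⟶ pullback ak ((yon S).map v),
      fk = pullback.lift (wf k) ((yon S).map gk) hcomm := ⟨_, rfl⟩
  have hfk1 : fk ≫ pullback.fst ak ((yon S).map v) = wf k := by rw [hfk, pullback.lift_fst]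
  have hfk2 : fk ≫ pullback.snd ak ((yon S).map v) = (yon S).map gk := by rw [hfk, pullback.lift_snd]
  have hπ₁e : RepWith @Etale (pullback.fst ak ((yon S).map v)) :=
    MorphismProperty.of_isPullback (P := RepWith @Etale) sqP.flip hve
  have hf₀ : LocP @LocallyOfFinitePresentation fk := by
    have hgood := Groth.Agent.Lib.Helper12.LocPCases.good_lfp.{u}
    have hgood' := Groth.Agent.Lib.Helper12.LocPCases.good_lft.{u}
    refine Groth.Agent.S9959.result (X := WW) (Y := Pk) (Z := Xk) (ObjectProperty.homMk fk)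
      (ObjectProperty.homMk (pullback.fst ak ((yon S).map v))) ?_ ?_
    · change LocP @LocallyOfFinitePresentation (fk ≫ pullback.fst ak ((yon S).map v))
      rw [hfk1]
      exact Groth.Agent.S9947.locP_of_repWith_etale _ hgood.hEt _ (wet k)
    · exact Groth.Agent.S9947.locP_of_repWith_etale _ hgood'.hEt _ hπ₁e
  -- the base change to the limit
  have hA : IsPullback ((yon S).map g) fstW ((yon S).map v) (e.inv ≫ (yon S).map z) := by
    have s1 : IsPullback (𝟙 ((yon S).obj cW.pt)) fstW ((yon S).map u) e.inv :=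
      IsPullback.of_horiz_isIso ⟨by rw [Category.id_comp, hu]⟩
    have s2 : IsPullback ((yon S).map g) ((yon S).map u) ((yon S).map v) ((yon S).map z) :=
      (IsPullback.of_map (Over.forget S) hgv sqg).map (yon S)
    have := s1.paste_horiz s2
    rwa [Category.id_comp] at this
  have hpYw : (fstW ≫ c.π.app k.left) ≫ ak = (yon S).map g ≫ (yon S).map v := by
    rw [Category.assoc, hcak]
    exact hA.w.symm
  obtain ⟨pY, hpY⟩ : ∃ pY : (yon S).obj cW.pt ⟶ pullback ak ((yon S).map v),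
      pY = pullback.lift (fstW ≫ c.π.app k.left) ((yon S).map g) hpYw := ⟨_, rfl⟩
  have hpY1 : pY ≫ pullback.fst ak ((yon S).map v) = fstW ≫ c.π.app k.left := by
    rw [hpY, pullback.lift_fst]
  have hpY2 : pY ≫ pullback.snd ak ((yon S).map v) = (yon S).map g := by
    rw [hpY, pullback.lift_snd]
  have hY : IsPullback pY fstW (pullback.fst ak ((yon S).map v)) (c.π.app k.left) := by
    refine IsPullback.of_right ?_ hpY1 sqP.flip
    rw [hpY2, hcak]
    exact hA
  have hX : IsPullback ((yon S).map (cW.π.app k)) (𝟙 ((yon S).obj cW.pt)) fk pY := by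
    refine (IsPullback.of_right ?_ ?_ hY.flip).flip
    · rw [Category.id_comp fstW, hfk1]
      exact (sqW k).flip
    · rw [Category.id_comp pY]
      apply pullback.hom_ext
      · rw [hpY1, Category.assoc, hfk1, (sqW k).w]
      · rw [hpY2, Category.assoc, hfk2, ← Functor.map_comp, hcgk]
  obtain ⟨i₂, φ, H⟩ := Groth.Agent.S10021.result S D hD hDa c hc k.left (hqc _) (hqs _) WW Pk fk
    (pullback.fst ak ((yon S).map v))
    (Groth.Agent.Lib.Helper15QcRep.isQuasiCompactSp_yon _ (waff k))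
    (haveI := waff k; isQuasiSeparatedSp_yon _) hPq.1 hPq.2
    ((yon S).obj cW.pt) ((yon S).obj cW.pt) (𝟙 _) pY fstW hY ((yon S).map (cW.π.app k)) hX hf₀
  -- the stage `i₂`
  obtain ⟨k₄, ψ₄, hψ₄⟩ : ∃ (k₄ : Over i₀) (ψ₄ : k₄ ⟶ k), k₄.left = i₂ ∧ HEq ψ₄.left φ :=
    ⟨Over.mk (φ ≫ k.hom), Over.homMk φ, rfl, HEq.rfl⟩
  obtain ⟨rfl, hφ⟩ := hψ₄
  obtain rfl : ψ₄.left = φ := eq_of_heq hφ
  have sqYi := IsPullback.of_hasPullback (pullback.fst ak ((yon S).map v)) (D.map ψ₄.left)
  have hfiw : ((yon S).map ((W D hDa i₀ hU₀ p).map ψ₄) ≫ fk) ≫ pullback.fst ak ((yon S).map v) =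
      wf k₄ ≫ D.map ψ₄.left := by
    rw [Category.assoc, hfk1]
    exact (wmap ψ₄).w
  obtain ⟨fi, hfi⟩ : ∃ fi : (yon S).obj ((W D hDa i₀ hU₀ p).obj k₄) ⟶
      pullback (pullback.fst ak ((yon S).map v)) (D.map ψ₄.left),
      fi = pullback.lift ((yon S).map ((W D hDa i₀ hU₀ p).map ψ₄) ≫ fk) (wf k₄) hfiw := ⟨_, rfl⟩
  have hfi1 : fi ≫ pullback.fst (pullback.fst ak ((yon S).map v)) (D.map ψ₄.left) =
      (yon S).map ((W D hDa i₀ hU₀ p).map ψ₄) ≫ fk := by rw [hfi, pullback.lift_fst]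
  have hfi2 : fi ≫ pullback.snd (pullback.fst ak ((yon S).map v)) (D.map ψ₄.left) = wf k₄ := by
    rw [hfi, pullback.lift_snd]
  have sqXi : IsPullback ((yon S).map ((W D hDa i₀ hU₀ p).map ψ₄)) fi fk
      (pullback.fst (pullback.fst ak ((yon S).map v)) (D.map ψ₄.left)) := by
    refine (IsPullback.of_right ?_ hfi1 sqYi.flip).flip
    rw [hfi2, hfk1]
    exact (wmap ψ₄).flip
  haveI hiso : IsIso fi := H _ _ fi _ _ sqYi _ sqXi
  -- `D k₄ ⟶ h_Z` is affine
  have sqF : IsPullback (pullback.snd (pullback.fst ak ((yon S).map v)) (D.map ψ₄.left))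
      (pullback.fst (pullback.fst ak ((yon S).map v)) (D.map ψ₄.left) ≫
        pullback.snd ak ((yon S).map v)) (D.map ψ₄.left ≫ ak) ((yon S).map v) :=
    (sqYi.paste_horiz sqP.flip).flip
  have haffsnd : IsAffineMor (pullback.fst (pullback.fst ak ((yon S).map v)) (D.map ψ₄.left) ≫
      pullback.snd ak ((yon S).map v)) := by
    have e1 : fi ≫ pullback.fst (pullback.fst ak ((yon S).map v)) (D.map ψ₄.left) ≫
        pullback.snd ak ((yon S).map v) = (yon S).map ((W D hDa i₀ hU₀ p).map ψ₄ ≫ gk) := by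
      rw [← Category.assoc, hfi1, Category.assoc, hfk2, ← Functor.map_comp]
    haveI := waff k₄
    have h2 := Groth.Agent.Lib.Seat44.MorBasics.isAffineMor_yon_map
      ((W D hDa i₀ hU₀ p).map ψ₄ ≫ gk)
    rw [← e1] at h2
    have h3 := Groth.Agent.Lib.Seat44.MorBasics.isAffineMor_iso_comp (inv fi) h2
    rwa [IsIso.inv_hom_id_assoc] at h3
  have hPi : IsAlgSpace (pullback (pullback.fst ak ((yon S).map v)) (D.map ψ₄.left)) :=
    Groth.Agent.S9874.isAlgSpace_of_isPullback (hD k.left).diag hPalg (hD k₄.left) sqYi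
  have haff : IsAffineMor (D.map ψ₄.left ≫ ak) :=
    Groth.Agent.S9943.result (X := ⟨D.obj k₄.left, hD k₄.left⟩) (Y := ZZ)
      (ObjectProperty.homMk (D.map ψ₄.left ≫ ak)) V ((yon S).map v) hve hvsurj _ _ sqF haffsnd
  obtain ⟨T', i', fst', sq', hT'⟩ := haff hZ (𝟙 _)
  haveI : IsIso fst' := sq'.isIso_fst_of_isIso
  exact ⟨k₄.left, T', hT', ⟨asIso fst'⟩⟩


end Groth.Agent.S10006
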