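import Groth.Statements.S10017
import Groth.Agent.S10006
import Groth.Agent.Lib.Seat44BCSystem

set_option autoImplicit false
set_option backward.isDefEq.respectTransparency false
set_option backward.isDefEq.respectTransparency.types false
universe u
open CategoryTheory CategoryTheory.Limits AlgebraicGeometry
open AlgSp

namespace Groth.Agent.S10017

open Groth.Agent.Lib.Seat44.AffLim Groth.Agent.Lib.Seat44.LimChart Groth.Agent.Lib.Seat44.LimChart2
  Groth.Agent.Lib.Seat44.BCSystem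

attribute [local instance] IsCofiltered.isConnected

variable {S : Scheme.{u}}

/-- **Affine stage of a base-changed chart system.**  `E₀ ⟶ h_{V₀}` a morphism from a quasi-compact quasi-separated
algebraic space to an affine chart over `D i₀`; if the base change of `E₀` to the limit of the `W`-system is an affine
scheme, so is the base change to some stage. -/
theorem exists_affine_stage [QuasiSeparatedSpace S] {I : Type u} [SmallCategory I] [IsCofiltered I]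
    (D : I ⥤ AlgSp.Sp S) (hDa : ∀ (i j : I) (φ : i ⟶ j), AlgSp.IsAffineMor (D.map φ)) (i₀ : I)
    {V₀ : Over S} (hV₀ : IsAffine V₀.left) (gV : (yon S).obj V₀ ⟶ D.obj i₀)
    (cW : Cone (W D hDa i₀ hV₀ gV)) (hcW : IsLimit cW)
    (E₀ : AlgSp.Space S) (hEqc : IsQuasiCompactSp E₀.obj) (hEqs : IsQuasiSeparatedSp E₀.obj)
    (e₂ : E₀.obj ⟶ (yon S).obj V₀)
    (T : Over S) (hT : IsAffine T.left)
    (eT : (yon S).obj T ≅ pullback ((yon S).map (cW.π.app (Over.mk (𝟙 i₀)) ≫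
      Wι D hDa i₀ hV₀ gV (Over.mk (𝟙 i₀)))) e₂) :
    ∃ (j : Over i₀) (T' : Over S), IsAffine T'.left ∧
      Nonempty ((yon S).obj T' ≅ pullback ((yon S).map (Wι D hDa i₀ hV₀ gV j)) e₂) := by
  let F : Over i₀ ⥤ AlgSp.Sp S := W D hDa i₀ hV₀ gV ⋙ yon S
  let ζW : F ⟶ (Functor.const _).obj ((yon S).obj V₀) := ζ D hDa i₀ hV₀ gV
  let D' : Over i₀ ⥤ AlgSp.Sp S := sys F ζW e₂
  have hp : ∀ j, ((yon S).mapCone cW).π.app j ≫ ζW.app j =
      (yon S).map (cW.π.app (Over.mk (𝟙 i₀)) ≫ Wι D hDa i₀ hV₀ gV (Over.mk (𝟙 i₀))) := by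
    intro j
    change (yon S).map (cW.π.app j) ≫ (yon S).map (Wι D hDa i₀ hV₀ gV j) = _
    rw [← Functor.map_comp, cone_π_ι]
  let c' : Cone D' := cone F ζW e₂ ((yon S).mapCone cW) _ hp
  have hc' : IsLimit c' := isLimitCone F ζW e₂ _ _ hp (isLimitOfPreserves (yon S) hcW)
  have hD' : ∀ j, IsAlgSpace (D'.obj j) := fun j =>
    Groth.Agent.S9874.isAlgSpace_of_isPullback (IsAlgSpace.yon_obj V₀).diag
      (IsAlgSpace.yon_obj _) E₀.property (isPullback_pr F ζW e₂ j)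
  have hDa' : ∀ (j j' : Over i₀) (ψ : j ⟶ j'), IsAffineMor (D'.map ψ) := by
    intro j j' ψ
    haveI : IsAffine ((W D hDa i₀ hV₀ gV).obj j).left := Waff D hDa i₀ hV₀ gV j
    haveI : IsAffine ((W D hDa i₀ hV₀ gV).obj j').left := Waff D hDa i₀ hV₀ gV j'
    exact Groth.Agent.Lib.Seat44.MorBasics.isAffineMor_of_isPullback
      (isPullback_sys_map F ζW e₂ ψ).flip
      (Groth.Agent.Lib.Seat44.MorBasics.isAffineMor_yon_map ((W D hDa i₀ hV₀ gV).map ψ))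
  have hq' : ∀ j, IsQuasiCompactSp (D'.obj j) ∧ IsQuasiSeparatedSp (D'.obj j) := by
    intro j
    haveI : IsAffine ((W D hDa i₀ hV₀ gV).obj j).left := Waff D hDa i₀ hV₀ gV j
    haveI := hV₀
    exact Groth.Agent.S9921.result
      (X := ⟨(yon S).obj ((W D hDa i₀ hV₀ gV).obj j), IsAlgSpace.yon_obj _⟩)
      (Y := ⟨(yon S).obj V₀, IsAlgSpace.yon_obj _⟩) (Z := E₀) (P := ⟨D'.obj j, hD' j⟩)
      (ObjectProperty.homMk (ζW.app j)) (ObjectProperty.homMk e₂)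
      (ObjectProperty.homMk (pr₁ F ζW e₂ j)) (ObjectProperty.homMk (pr₂ F ζW e₂ j))
      (isPullback_pr F ζW e₂ j)
      ⟨Groth.Agent.Lib.Helper15QcRep.isQuasiCompactSp_yon _ inferInstance,
        Groth.Agent.S10006.isQuasiSeparatedSp_yon _⟩
      ⟨Groth.Agent.Lib.Helper15QcRep.isQuasiCompactSp_yon _ hV₀,
        Groth.Agent.S10006.isQuasiSeparatedSp_yon _⟩ ⟨hEqc, hEqs⟩
  obtain ⟨j, T', hT', ⟨e'⟩⟩ := Groth.Agent.S10006.result S D' hD' hDa' (fun j => (hq' j).1)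
    (fun j => (hq' j).2) c' hc' T hT eT
  exact ⟨j, T', hT', ⟨e'⟩⟩

/-- Let `S` be a quasi-separated scheme and `B` the limit, in fppf sheaves over `S`, of a cofiltered
system `(B_i)` of algebraic spaces over `S` whose transition maps are affine; fix an index `i₀` such
that `B_{i₀}` is quasi-compact and quasi-separated over `S`, and a morphism `f₀ : X₀ ⟶ Y₀` of
algebraic spaces over `B_{i₀}` whose source and target are quasi-compact and quasi-separated over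
`S`. Write `f_i` (for `i` mapping to `i₀`) and `f` for the base changes of `f₀` to `B_i` and to `B`,
given by pullback squares. If `f` is affine (no finiteness condition on `f₀`), then for some `i`
mapping to `i₀` every such base change `f_i` is affine. (The published statement allows any base
scheme and uses absolute quasi-separatedness; this row assumes the base quasi-separated, over which
quasi-separatedness relative to the base is the absolute notion.) -/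
theorem result (S : Scheme.{u}) [QuasiSeparatedSpace S] {I : Type u} [SmallCategory I] [IsCofiltered I]
    (D : I ⥤ AlgSp.Sp S) (hD : ∀ i, AlgSp.IsAlgSpace (D.obj i))
    (hDa : ∀ (i j : I) (φ : i ⟶ j), AlgSp.IsAffineMor (D.map φ))
    (c : Cone D) (hc : IsLimit c) (i₀ : I)
    (hBqc : AlgSp.IsQuasiCompactSp (D.obj i₀)) (hBqs : AlgSp.IsQuasiSeparatedSp (D.obj i₀))
    (X₀ Y₀ : AlgSp.Space S) (f₀ : X₀.obj ⟶ Y₀.obj) (b₀ : Y₀.obj ⟶ D.obj i₀)
    (hXqc : AlgSp.IsQuasiCompactSp X₀.obj) (hXqs : AlgSp.IsQuasiSeparatedSp X₀.obj)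
    (hYqc : AlgSp.IsQuasiCompactSp Y₀.obj) (hYqs : AlgSp.IsQuasiSeparatedSp Y₀.obj)
    (X Y : AlgSp.Sp S) (f : X ⟶ Y) (pY : Y ⟶ Y₀.obj) (qY : Y ⟶ c.pt)
    (hY : IsPullback pY qY b₀ (c.π.app i₀)) (pX : X ⟶ X₀.obj) (hX : IsPullback pX f f₀ pY)
    (hf : AlgSp.IsAffineMor f) :
    ∃ (i : I) (φ : i ⟶ i₀), ∀ (Xi Yi : AlgSp.Sp S) (fi : Xi ⟶ Yi) (pYi : Yi ⟶ Y₀.obj) (qYi : Yi ⟶ D.obj i)
      (_ : IsPullback pYi qYi b₀ (D.map φ)) (pXi : Xi ⟶ X₀.obj) (_ : IsPullback pXi fi f₀ pYi),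
      AlgSp.IsAffineMor fi := by
  obtain ⟨V₀, v, hV₀, hve, hvs⟩ := Groth.Agent.S10180.exists_affine_chart hYqc
  obtain ⟨cW, hcW, fstW, hcWaff, ⟨hlimW⟩, sqW, sq₀⟩ := exists_chart_data' D hDa c hc i₀ hV₀ (v ≫ b₀)
  -- the base change of `f₀` to the chart
  have sqE := IsPullback.of_hasPullback f₀ v
  have hE₀ : IsAlgSpace (pullback f₀ v) :=
    Groth.Agent.S9874.isAlgSpace_of_isPullback Y₀.property.diag X₀.property (IsAlgSpace.yon_obj V₀) sqE
  let E₀ : AlgSp.Space S := ⟨pullback f₀ v, hE₀⟩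
  haveI := hV₀
  have hEq : IsQuasiCompactSp E₀.obj ∧ IsQuasiSeparatedSp E₀.obj :=
    Groth.Agent.S9921.result (X := X₀) (Y := Y₀) (Z := ⟨(yon S).obj V₀, IsAlgSpace.yon_obj _⟩) (P := E₀)
      (ObjectProperty.homMk f₀) (ObjectProperty.homMk v) (ObjectProperty.homMk (pullback.fst f₀ v))
      (ObjectProperty.homMk (pullback.snd f₀ v)) sqE ⟨hXqc, hXqs⟩ ⟨hYqc, hYqs⟩
      ⟨Groth.Agent.Lib.Helper15QcRep.isQuasiCompactSp_yon _ hV₀,
        Groth.Agent.S10006.isQuasiSeparatedSp_yon _⟩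
  -- the chart of the limit
  have hcommInf : ((yon S).map (cW.π.app (Over.mk (𝟙 i₀)) ≫
      Wι D hDa i₀ hV₀ (v ≫ b₀) (Over.mk (𝟙 i₀))) ≫ v) ≫ b₀ = fstW ≫ c.π.app i₀ := by
    rw [Category.assoc]
    exact sq₀.w.symm
  have sqvY : IsPullback (hY.lift _ _ hcommInf) ((yon S).map (cW.π.app (Over.mk (𝟙 i₀)) ≫
      Wι D hDa i₀ hV₀ (v ≫ b₀) (Over.mk (𝟙 i₀)))) pY v := by
    refine IsPullback.of_right ?_ (hY.lift_fst _ _ _) hY.flip
    rw [hY.lift_snd]
    exact sq₀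
  obtain ⟨T, iT, fstT, sqT, hT⟩ := hf hcWaff (hY.lift _ _ hcommInf)
  -- the two descriptions of the base change of `f₀` to the chart of the limit
  have hA : IsPullback (pullback.snd ((yon S).map (cW.π.app (Over.mk (𝟙 i₀)) ≫
      Wι D hDa i₀ hV₀ (v ≫ b₀) (Over.mk (𝟙 i₀)))) (pullback.snd f₀ v) ≫ pullback.fst f₀ v)
      (pullback.fst ((yon S).map (cW.π.app (Over.mk (𝟙 i₀)) ≫
      Wι D hDa i₀ hV₀ (v ≫ b₀) (Over.mk (𝟙 i₀)))) (pullback.snd f₀ v)) f₀
      ((yon S).map (cW.π.app (Over.mk (𝟙 i₀)) ≫ Wι D hDa i₀ hV₀ (v ≫ b₀) (Over.mk (𝟙 i₀))) ≫ v) :=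
    (IsPullback.of_hasPullback _ _).flip.paste_horiz sqE
  have hB : IsPullback (fstT ≫ pX) ((yon S).map iT) f₀
      ((yon S).map (cW.π.app (Over.mk (𝟙 i₀)) ≫ Wι D hDa i₀ hV₀ (v ≫ b₀) (Over.mk (𝟙 i₀))) ≫ v) := by
    have := sqT.paste_horiz hX
    rwa [sqvY.w] at this
  obtain ⟨j, T', hT', ⟨e'⟩⟩ := exists_affine_stage D hDa i₀ hV₀ (v ≫ b₀) cW hcW E₀ hEq.1 hEq.2
    (pullback.snd f₀ v) T hT (hB.isoIsPullback _ _ hA)
  refine ⟨j.left, j.hom, ?_⟩
  intro Xi Yi fi pYi qYi sqY pXi sqX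
  have hYi : IsAlgSpace Yi :=
    Groth.Agent.S9874.isAlgSpace_of_isPullback (hD i₀).diag Y₀.property (hD j.left) sqY
  have hXi : IsAlgSpace Xi :=
    Groth.Agent.S9874.isAlgSpace_of_isPullback Y₀.property.diag X₀.property hYi sqX
  have hcommk : ((yon S).map (Wι D hDa i₀ hV₀ (v ≫ b₀) j) ≫ v) ≫ b₀ =
      Wfst D hDa i₀ hV₀ (v ≫ b₀) j ≫ D.map j.hom := by
    rw [Category.assoc]
    exact (Wsq D hDa i₀ hV₀ (v ≫ b₀) j).w.symm
  have sqwY : IsPullback (sqY.lift _ _ hcommk) ((yon S).map (Wι D hDa i₀ hV₀ (v ≫ b₀) j)) pYi v := by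
    refine IsPullback.of_right ?_ (sqY.lift_fst _ _ _) sqY.flip
    rw [sqY.lift_snd]
    exact Wsq D hDa i₀ hV₀ (v ≫ b₀) j
  have hAj : IsPullback (pullback.snd ((yon S).map (Wι D hDa i₀ hV₀ (v ≫ b₀) j)) (pullback.snd f₀ v) ≫
      pullback.fst f₀ v)
      (pullback.fst ((yon S).map (Wι D hDa i₀ hV₀ (v ≫ b₀) j)) (pullback.snd f₀ v)) f₀
      ((yon S).map (Wι D hDa i₀ hV₀ (v ≫ b₀) j) ≫ v) :=
    (IsPullback.of_hasPullback _ _).flip.paste_horiz sqE
  have hlw : (pullback.snd ((yon S).map (Wι D hDa i₀ hV₀ (v ≫ b₀) j)) (pullback.snd f₀ v) ≫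
      pullback.fst f₀ v) ≫ f₀ =
      (pullback.fst ((yon S).map (Wι D hDa i₀ hV₀ (v ≫ b₀) j)) (pullback.snd f₀ v) ≫
        sqY.lift _ _ hcommk) ≫ pYi := by
    rw [hAj.w, Category.assoc, sqwY.w]
  have sqF : IsPullback (sqX.lift _ _ hlw)
      (pullback.fst ((yon S).map (Wι D hDa i₀ hV₀ (v ≫ b₀) j)) (pullback.snd f₀ v)) fi
      (sqY.lift _ _ hcommk) := by
    refine IsPullback.of_right ?_ (sqX.lift_snd _ _ _) sqX
    rw [sqX.lift_fst, sqwY.w]
    exact hAj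
  have haff : IsAffineMor (pullback.fst ((yon S).map (Wι D hDa i₀ hV₀ (v ≫ b₀) j))
      (pullback.snd f₀ v)) := by
    obtain ⟨m, hm⟩ := (yon S).map_surjective (e'.hom ≫ pullback.fst
      ((yon S).map (Wι D hDa i₀ hV₀ (v ≫ b₀) j)) (pullback.snd f₀ v))
    haveI := hT'
    haveI : IsAffine (Wobj D hDa i₀ hV₀ (v ≫ b₀) j).left := Waff D hDa i₀ hV₀ (v ≫ b₀) j
    have h2 := Groth.Agent.Lib.Seat44.MorBasics.isAffineMor_yon_map m
    rw [hm] at h2
    have h3 := Groth.Agent.Lib.Seat44.MorBasics.isAffineMor_iso_comp e'.inv h2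
    rwa [Iso.inv_hom_id_assoc] at h3
  exact Groth.Agent.S9943.result (X := ⟨Xi, hXi⟩) (Y := ⟨Yi, hYi⟩) (ObjectProperty.homMk fi)
    (Wobj D hDa i₀ hV₀ (v ≫ b₀) j) (sqY.lift _ _ hcommk)
    (MorphismProperty.of_isPullback (P := RepWith @Etale) sqwY.flip hve)
    (MorphismProperty.of_isPullback (P := RepWith @Surjective) sqwY.flip hvs) _ _ sqF haff

end Groth.Agent.S10017
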