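import Groth.Statements.S10062
import Groth.Agent.Lib.Seat44ChartModel
import Groth.Agent.Lib.Helper12Proper
import Groth.Agent.S0594
import Groth.Agent.S10127
import Groth.Agent.S10180

set_option autoImplicit false
set_option backward.isDefEq.respectTransparency false
set_option backward.isDefEq.respectTransparency.types false
universe u
open CategoryTheory CategoryTheory.Limits AlgebraicGeometry
open AlgSp

namespace Groth.Agent.S10062

open Groth.Agent.Lib.Seat44.ChartModel Groth.Agent.Lib.Seat44.LimChart

/-- Let `S` be a quasi-separated scheme, `Y` an algebraic space over `S` which is quasi-compact and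
quasi-separated over `S`, and `X` the limit, in fppf sheaves, of a cofiltered system `(X_i)` of
algebraic spaces over `Y`, each quasi-compact and quasi-separated over `S`, whose transition maps
are closed immersions. Suppose every `X_i ⟶ Y` is locally of finite type and the limit map `X ⟶ Y`
is a closed immersion. In that case some index `i₀` has the property that, for every `i` mapping to
`i₀`, the map `X_i ⟶ Y` is itself a closed immersion. (The published statement allows any base
scheme and uses absolute quasi-separatedness; this row assumes the base quasi-separated, over which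
quasi-separatedness relative to the base is the absolute notion.) -/
theorem result (S : Scheme.{u}) [QuasiSeparatedSpace S] {I : Type u} [SmallCategory I] [IsCofiltered I]
    (Y : AlgSp.Space S) (D : I ⥤ AlgSp.Sp S) (hD : ∀ i, AlgSp.IsAlgSpace (D.obj i))
    (t : D ⟶ (Functor.const I).obj Y.obj)
    (hDc : ∀ (i j : I) (φ : i ⟶ j), AlgSp.RepWith @IsClosedImmersion (D.map φ))
    (c : Cone D) (hc : IsLimit c) (g : c.pt ⟶ Y.obj) (hg : ∀ i, c.π.app i ≫ t.app i = g)
    (hqc : ∀ i, AlgSp.IsQuasiCompactSp (D.obj i)) (hqs : ∀ i, AlgSp.IsQuasiSeparatedSp (D.obj i))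
    (hYqc : AlgSp.IsQuasiCompactSp Y.obj) (hYqs : AlgSp.IsQuasiSeparatedSp Y.obj)
    (hft : ∀ i, AlgSp.LocP @LocallyOfFiniteType (t.app i)) (hX : AlgSp.RepWith @IsClosedImmersion g) :
    ∃ i₀ : I, ∀ (i : I) (_ : i ⟶ i₀), AlgSp.RepWith @IsClosedImmersion (t.app i) := by
  obtain ⟨V, v, hV, hve, hvs⟩ := Groth.Agent.S10180.exists_affine_chart hYqc
  have hDa : ∀ (i j : I) (φ : i ⟶ j), AlgSp.IsAffineMor (D.map φ) :=
    fun i j φ => isAffineMor_of_repWith_isClosedImmersion _ (hDc i j φ)
  obtain ⟨i₀, WW, tW, cW, a, aInf, hWaff, ⟨hlim⟩, sq1, sq2, sq3⟩ :=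
    exists_chart_model Y D hD t hDa c hc g hg hqc hqs hYqc hYqs hV v
      (isAffineMor_of_repWith_isClosedImmersion _ hX)
  -- the scheme-level system
  let tS : WW ⋙ Over.forget S ⟶ (Functor.const _).obj V.left :=
    { app := fun k => (tW.app k).left
      naturality := fun k k' ψ => by
        have h2 : WW.map ψ ≫ tW.app k' = tW.app k := (tW.naturality ψ).trans (Category.comp_id _)
        exact (congrArg (fun m => m.left) h2).trans (Category.comp_id _).symm }
  haveI := hV
  haveI : ∀ (k k' : Over i₀) (ψ : k ⟶ k'), IsClosedImmersion ((WW ⋙ Over.forget S).map ψ) :=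
    fun k k' ψ => (hDc _ _ ψ.left).2 _ _ _ (sq2 ψ).flip
  haveI : ∀ k, CompactSpace ((WW ⋙ Over.forget S).obj k) := fun k => by
    haveI : IsAffine (WW.obj k).left := hWaff k
    change CompactSpace (WW.obj k).left
    infer_instance
  haveI : ∀ k, QuasiSeparatedSpace ((WW ⋙ Over.forget S).obj k) := fun k => by
    haveI : IsAffine (WW.obj k).left := hWaff k
    change QuasiSeparatedSpace (WW.obj k).left
    infer_instance
  have hae : ∀ k, RepWith @Etale (a k) := fun k =>
    MorphismProperty.of_isPullback (P := RepWith @Etale) (sq1 k).flip hve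
  haveI : ∀ k, LocallyOfFiniteType (tS.app k) := fun k =>
    hft k.left (a k) v (tW.app k) (hae k) hve (sq1 k).w
  haveI : IsClosedImmersion (((Over.forget S).mapCone cW).π.app (Over.mk (𝟙 i₀)) ≫
      tS.app (Over.mk (𝟙 i₀))) := hX.2 _ _ _ (sq3 (Over.mk (𝟙 i₀)))
  obtain ⟨k, hk⟩ := Groth.Agent.S0594.result V.left (WW ⋙ Over.forget S) tS
    ((Over.forget S).mapCone cW) hlim (Over.mk (𝟙 i₀))
  -- back to algebraic spaces
  have haffk : IsAffineMor (t.app k.left) := by
    haveI : IsAffine (WW.obj k).left := hWaff k
    exact Groth.Agent.S9943.result (X := ⟨D.obj k.left, hD k.left⟩) (Y := Y)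
      (ObjectProperty.homMk (t.app k.left)) V v hve hvs (a k) ((yon S).map (tW.app k)) (sq1 k)
      (Groth.Agent.Lib.Seat44.MorBasics.isAffineMor_yon_map (tW.app k))
  haveI := Groth.Agent.Lib.Helper12.descendsAlong_isClosedImmersion.{u}
  have hck : RepWith @IsClosedImmersion (t.app k.left) :=
    Groth.Agent.S10127.repWith_of_atlas @IsClosedImmersion (t.app k.left)
      (repWith_isAffineHom_of_isAffineMor _ haffk).1 v hve hvs (tW.app k) (a k) (sq1 k) hk
  refine ⟨k.left, fun i φ => ?_⟩
  have hnat : D.map φ ≫ t.app k.left = t.app i := by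
    exact (t.naturality φ).trans (Category.comp_id _)
  rw [← hnat]
  exact MorphismProperty.comp_mem (RepWith (S := S) @IsClosedImmersion) _ _ (hDc _ _ φ) hck

end Groth.Agent.S10062
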