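import Groth.Statements.S10059
import Groth.Agent.Lib.Seat44SepSys
import Groth.Agent.Lib.Seat44StageMono
import Groth.Agent.Lib.Helper12LocPCases
import Groth.Agent.S10019
import Groth.Agent.S10062
import Groth.Agent.S9900
import Groth.Agent.S9948
import Groth.Agent.S9984

set_option autoImplicit false
set_option backward.isDefEq.respectTransparency false
set_option backward.isDefEq.respectTransparency.types false
universe u
open CategoryTheory CategoryTheory.Limits AlgebraicGeometry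
open AlgSp

namespace Groth.Agent.S10059

open Groth.Agent.Lib.Seat44.KerSys Groth.Agent.Lib.Seat44.SepSys Groth.Agent.Lib.Seat44.StageMono

variable {S : Scheme.{u}}

/-- the diagonal of a morphism of algebraic spaces is locally of finite type. -/
theorem locP_lft_diagonal (X₀ Y₀ : AlgSp.Space S) (f₀ : X₀.obj ⟶ Y₀.obj) :
    AlgSp.LocP @LocallyOfFiniteType (pullback.diagonal f₀) := by
  obtain ⟨hrep, hlft, -⟩ := Groth.Agent.S9900.result (X := X₀) (Y := Y₀) (ObjectProperty.homMk f₀)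
  have hP : IsAlgSpace (pullback f₀ f₀) :=
    Groth.Agent.S9874.isAlgSpace_of_isPullback Y₀.property.diag X₀.property X₀.property
      (IsPullback.of_hasPullback f₀ f₀)
  haveI := (Groth.Agent.Lib.Helper12.LocPCases.good_lft.{u}).desc
  exact (Groth.Agent.S9948.locP_iff_repWith @LocallyOfFiniteType
    (fun g hg => by haveI := hg; infer_instance) hP (pullback.diagonal f₀) hrep).2 hlft

/-- Let `S` be a quasi-separated scheme, `Y` an algebraic space over `S` which is quasi-separated over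
`S`, and `X` the limit, in fppf sheaves, of a cofiltered system `(X_i)` of algebraic spaces over
`Y`, each quasi-compact and quasi-separated over `S`, whose transition maps are affine. If `X ⟶ Y`
is separated, then `X_i ⟶ Y` is separated for all `i` mapping to some `i₀`. (The published statement
allows any base scheme and uses absolute quasi-separatedness; this row assumes the base
quasi-separated, over which quasi-separatedness relative to the base is the absolute notion.) -/
theorem result (S : Scheme.{u}) [QuasiSeparatedSpace S] {I : Type u} [SmallCategory I] [IsCofiltered I]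
    (Y : AlgSp.Space S) (D : I ⥤ AlgSp.Sp S) (hD : ∀ i, AlgSp.IsAlgSpace (D.obj i))
    (t : D ⟶ (Functor.const I).obj Y.obj)
    (hDa : ∀ (i j : I) (φ : i ⟶ j), AlgSp.IsAffineMor (D.map φ))
    (c : Cone D) (hc : IsLimit c) (g : c.pt ⟶ Y.obj) (hg : ∀ i, c.π.app i ≫ t.app i = g)
    (hqc : ∀ i, AlgSp.IsQuasiCompactSp (D.obj i)) (hqs : ∀ i, AlgSp.IsQuasiSeparatedSp (D.obj i))
    (hYqs : AlgSp.IsQuasiSeparatedSp Y.obj) (hX : AlgSp.IsSeparatedMor g) :
    ∃ i₀ : I, ∀ (i : I) (_ : i ⟶ i₀), AlgSp.IsSeparatedMor (t.app i) := by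
  obtain ⟨i₀'⟩ := IsCofiltered.nonempty (C := I)
  haveI : Nonempty I := ⟨i₀'⟩
  obtain ⟨hXalg, hXqc, hXqs⟩ := qcqs_limit D hD hDa c hc i₀' (hqc i₀') (hqs i₀')
  -- `T = X ×_Y X`
  have hT : IsAlgSpace (pullback g g) :=
    Groth.Agent.S9874.isAlgSpace_of_isPullback Y.property.diag hXalg hXalg (IsPullback.of_hasPullback g g)
  have hTq := qcqs_of_isPullback_qs hXalg Y.property hXalg (IsPullback.of_hasPullback g g)
    ⟨hXqc, hXqs⟩ hYqs ⟨hXqc, hXqs⟩
  -- `T_i = X_i ×_Y X_i`
  have hTi : ∀ i, IsAlgSpace ((fibSys D t).obj i) := fun i =>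
    Groth.Agent.S9874.isAlgSpace_of_isPullback Y.property.diag (hD i) (hD i)
      (IsPullback.of_hasPullback (t.app i) (t.app i))
  have hTiq : ∀ i, IsQuasiCompactSp ((fibSys D t).obj i) ∧ IsQuasiSeparatedSp ((fibSys D t).obj i) :=
    fun i => qcqs_of_isPullback_qs (hD i) Y.property (hD i)
      (IsPullback.of_hasPullback (t.app i) (t.app i)) ⟨hqc i, hqs i⟩ hYqs ⟨hqc i, hqs i⟩
  have hTa : ∀ (i j : I) (φ : i ⟶ j), IsAffineMor ((fibSys D t).map φ) := fun i j φ =>
    isAffineMor_pullback_map (hDa i j φ) (hDa i j φ)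
      ((Category.comp_id _).trans (t_nat D t φ).symm) ((Category.comp_id _).trans (t_nat D t φ).symm)
  -- `K_i = X ×_{X_i} X`
  have hK : ∀ i, IsAlgSpace ((kerSys D c).obj i) := fun i =>
    Groth.Agent.S9874.isAlgSpace_of_isPullback (hD i).diag hXalg hXalg
      (IsPullback.of_hasPullback (c.π.app i) (c.π.app i))
  have hKq : ∀ i, IsQuasiCompactSp ((kerSys D c).obj i) ∧ IsQuasiSeparatedSp ((kerSys D c).obj i) :=
    fun i => qcqs_of_isPullback_qs hXalg (hD i) hXalg
      (IsPullback.of_hasPullback (c.π.app i) (c.π.app i)) ⟨hXqc, hXqs⟩ (hqs i) ⟨hXqc, hXqs⟩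
  have hsepD : ∀ (i j : I) (φ : i ⟶ j), IsSeparatedMor (D.map φ) := fun i j φ =>
    Groth.Agent.S10012.isSeparatedMor_of_isAffineMor (hD i) (hD j) (D.map φ) (hDa i j φ)
  have hKc : ∀ (i j : I) (φ : i ⟶ j), RepWith @IsClosedImmersion ((kerSys D c).map φ) := fun i j φ =>
    MorphismProperty.of_isPullback (P := RepWith @IsClosedImmersion) (isPullback_kerSys_map D c φ)
      (hsepD i j φ)
  have hKft : ∀ i, LocP @LocallyOfFiniteType ((kerToFib D t c g hg).app i) := fun i =>
    Groth.Agent.S9984.result @LocallyOfFiniteType (Or.inl rfl)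
      (X := ⟨D.obj i, hD i⟩) (Y := ⟨(fibSys D t).obj i, hTi i⟩) (Y' := ⟨pullback g g, hT⟩)
      (X' := ⟨(kerSys D c).obj i, hK i⟩)
      (ObjectProperty.homMk (pullback.diagonal (t.app i)))
      (ObjectProperty.homMk ((fibCone D t c g hg).π.app i))
      (ObjectProperty.homMk (pullback.fst (c.π.app i) (c.π.app i) ≫ c.π.app i))
      (ObjectProperty.homMk ((kerToFib D t c g hg).app i))
      (isPullback_kerToFib D t c g hg i)
      (locP_lft_diagonal ⟨D.obj i, hD i⟩ Y (t.app i))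
  -- some `K_{i₁} ⟶ T` is a closed immersion
  obtain ⟨i₁, H₁⟩ := Groth.Agent.S10062.result S ⟨pullback g g, hT⟩ (kerSys D c) hK
    (kerToFib D t c g hg) hKc (kerCone D c) (isLimitKerCone D c hc) (pullback.diagonal g)
    (kerCone_π_kerToFib D t c g hg) (fun i => (hKq i).1) (fun i => (hKq i).2) hTq.1 hTq.2 hKft hX
  have hcl₁ : RepWith @IsClosedImmersion ((kerToFib D t c g hg).app i₁) := H₁ i₁ (𝟙 i₁)
  -- descend to a stage
  obtain ⟨j, φ, H₂⟩ := Groth.Agent.S10019.result S (fibSys D t) hTi hTa (fibCone D t c g hg)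
    (isLimitFibCone D t c g hg hc) i₁ (hTiq i₁).1 (hTiq i₁).2
    ⟨D.obj i₁, hD i₁⟩ ⟨(fibSys D t).obj i₁, hTi i₁⟩ (pullback.diagonal (t.app i₁)) (𝟙 _)
    (hqc i₁) (hqs i₁) (hTiq i₁).1 (hTiq i₁).2
    ((kerSys D c).obj i₁) (pullback g g) ((kerToFib D t c g hg).app i₁)
    ((fibCone D t c g hg).π.app i₁) (𝟙 _) (IsPullback.id_vert _)
    (pullback.fst (c.π.app i₁) (c.π.app i₁) ≫ c.π.app i₁) (isPullback_kerToFib D t c g hg i₁)
    hcl₁ (locP_lft_diagonal ⟨D.obj i₁, hD i₁⟩ Y (t.app i₁))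
  refine ⟨j, fun i ψ => ?_⟩
  have H₃ : StageProp (fun {A B} (f : A ⟶ B) => RepWith @IsClosedImmersion f) (fibSys D t)
      (pullback.diagonal (t.app i₁)) (𝟙 _) (ψ ≫ φ) :=
    StageProp.mono (Q := fun {A B} (f : A ⟶ B) => RepWith @IsClosedImmersion f)
      (by
        intro A B A' B' _ _ _ _ f f' p q sq hf
        exact MorphismProperty.of_isPullback (P := RepWith @IsClosedImmersion) sq hf)
      (fibSys D t) hTi (hD i₁) (hTi i₁) (pullback.diagonal (t.app i₁)) (𝟙 _) φ ψ H₂
  have hχ : D.map (ψ ≫ φ) ≫ t.app i₁ = t.app i := t_nat D t (ψ ≫ φ)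
  have sq := isPullback_ker_fib (D.map (ψ ≫ φ)) (t.app i₁) (t.app i) hχ
  have hm := H₃ _ _ _ ((fibSys D t).map (ψ ≫ φ)) (𝟙 _) (IsPullback.id_vert _) _ sq
  have hdiag := diagonal_comp_lift (D.map (ψ ≫ φ)) (t.app i₁) (t.app i) hχ
  change RepWith @IsClosedImmersion (pullback.diagonal (t.app i))
  rw [← hdiag]
  exact MorphismProperty.comp_mem (RepWith (S := S) @IsClosedImmersion) _ _ (hsepD _ _ (ψ ≫ φ)) hm

end Groth.Agent.S10059
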