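import Groth.Statements.S10005
import Groth.Agent.S10059
import Groth.Agent.S10020
import Groth.Agent.Lib.Helper15MonoSep

set_option autoImplicit false
set_option backward.isDefEq.respectTransparency false
set_option backward.isDefEq.respectTransparency.types false
universe u
open CategoryTheory CategoryTheory.Limits AlgebraicGeometry
open AlgSp

namespace Groth.Agent.S10005

/-- over a terminal object, the fibre square is the product. -/
theorem isIso_prod_lift_of_isTerminal {C : Type*} [Category C] [HasPullbacks C] [HasBinaryProducts C]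
    {X Y : C} (hY : IsTerminal Y) (f : X ⟶ Y) :
    IsIso (prod.lift (pullback.fst f f) (pullback.snd f f)) := by
  refine ⟨pullback.lift prod.fst prod.snd (hY.hom_ext _ _), ?_, ?_⟩
  · apply pullback.hom_ext
    · rw [Category.assoc, pullback.lift_fst, prod.lift_fst, Category.id_comp]
    · rw [Category.assoc, pullback.lift_snd, prod.lift_snd, Category.id_comp]
  · apply Limits.prod.hom_ext
    · rw [Category.assoc, prod.lift_fst, pullback.lift_fst, Category.id_comp]
    · rw [Category.assoc, prod.lift_snd, pullback.lift_snd, Category.id_comp]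

/-- Let `S` be a quasi-separated scheme and `X` the limit, in fppf sheaves over `S`, of a cofiltered
system `(X_i)` of quasi-compact algebraic spaces over `S`, each quasi-separated over `S`, whose
transition maps are affine. If `X` is separated over `S`, then `X_i` is separated over `S` for some
`i`. (The published statement uses absolute separatedness and quasi-separatedness and puts no
condition on `S`; this row assumes `S` quasi-separated and takes both notions over `S`, which gives
the same quasi-separatedness and, when `S` is separated, the same separatedness.) -/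
theorem result (S : Scheme.{u}) [QuasiSeparatedSpace S] {I : Type u} [SmallCategory I] [IsCofiltered I]
    (D : I ⥤ AlgSp.Sp S) (hD : ∀ i, AlgSp.IsAlgSpace (D.obj i))
    (hDa : ∀ (i j : I) (φ : i ⟶ j), AlgSp.IsAffineMor (D.map φ))
    (hqc : ∀ i, AlgSp.IsQuasiCompactSp (D.obj i)) (hqs : ∀ i, AlgSp.IsQuasiSeparatedSp (D.obj i))
    (c : Cone D) (hc : IsLimit c)
    (hX : AlgSp.IsSeparatedSp c.pt) : ∃ i, AlgSp.IsSeparatedSp (D.obj i) := by
  have hterm : IsTerminal ((AlgSp.yon S).obj (Over.mk (𝟙 S))) :=
    IsTerminal.isTerminalObj (AlgSp.yon S) _ Over.mkIdTerminal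
  let Y : AlgSp.Space S := ⟨(AlgSp.yon S).obj (Over.mk (𝟙 S)), IsAlgSpace.yon_obj _⟩
  let t : D ⟶ (Functor.const I).obj Y.obj :=
    { app := fun i => hterm.from _
      naturality := fun i j φ => hterm.hom_ext _ _ }
  have hYqs : IsQuasiSeparatedSp Y.obj := by
    haveI : QuasiSeparatedSpace (Over.mk (𝟙 S)).left := (inferInstance : QuasiSeparatedSpace S)
    exact Groth.Agent.S10006.isQuasiSeparatedSp_yon (Over.mk (𝟙 S))
  obtain ⟨i₀, H⟩ := Groth.Agent.S10059.result S Y D hD t hDa c hc (hterm.from _)
    (fun i => hterm.hom_ext _ _) hqc hqs hYqs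
    (Groth.Agent.S10020.repWith_diagonal_of_diag @IsClosedImmersion _ hX)
  refine ⟨i₀, ?_⟩
  have h1 : RepWith @IsClosedImmersion (pullback.diagonal (t.app i₀)) := H i₀ (𝟙 i₀)
  haveI := isIso_prod_lift_of_isTerminal hterm (t.app i₀)
  have h2 : RepWith @IsClosedImmersion
      (prod.lift (pullback.fst (t.app i₀) (t.app i₀)) (pullback.snd (t.app i₀) (t.app i₀))) :=
    Groth.Agent.Lib.Helper15MonoSep.repWith_of_isIso @IsClosedImmersion _
  have e : Limits.diag (D.obj i₀) = pullback.diagonal (t.app i₀) ≫
      prod.lift (pullback.fst (t.app i₀) (t.app i₀)) (pullback.snd (t.app i₀) (t.app i₀)) := by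
    apply Limits.prod.hom_ext <;> simp
  change RepWith @IsClosedImmersion (Limits.diag (D.obj i₀))
  rw [e]
  exact MorphismProperty.comp_mem (RepWith (S := S) @IsClosedImmersion) _ _ h1 h2

end Groth.Agent.S10005
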