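import Groth.Statements.S10008
import Groth.Agent.S10180
import Groth.Agent.S10177
import Groth.Agent.Lib.Seat44AffLim
import Groth.Agent.Lib.Seat44AffLim2

set_option autoImplicit false
universe u
open CategoryTheory CategoryTheory.Limits AlgebraicGeometry
open AlgSp

namespace Groth.Agent.S10008

attribute [local instance] IsCofiltered.isConnected

/-- Let `X` be the limit, in fppf sheaves over `S`, of a cofiltered system `(X_i)` of algebraic spaces
over `S` whose transition maps are affine. If every `X_i` is quasi-compact and has at least one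
point, then `X` has a point. -/
theorem result (S : Scheme.{u}) {I : Type u} [SmallCategory I] [IsCofiltered I]
    (D : I ⥤ AlgSp.Sp S) (hD : ∀ i, AlgSp.IsAlgSpace (D.obj i))
    (hDa : ∀ (i j : I) (φ : i ⟶ j), AlgSp.IsAffineMor (D.map φ))
    (c : Cone D) (hc : IsLimit c)
    (hqc : ∀ i, AlgSp.IsQuasiCompactSp (D.obj i)) (hne : ∀ i, Nonempty (AlgSp.Points (D.obj i))) :
    Nonempty (AlgSp.Points c.pt) := by
  obtain ⟨i₀⟩ := IsCofiltered.nonempty (C := I)
  obtain ⟨U, p, hU, hpe, hps⟩ := Groth.Agent.S10180.exists_affine_chart (hqc i₀)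
  obtain ⟨cW, hcW, fst, haff, -, -⟩ := Groth.Agent.Lib.Seat44.AffLim.exists_affine_pullback D hDa c hc i₀ hU p
  have hlim := Groth.Agent.Lib.Seat44.AffLim.isLimitForgetMapCone _ (fun j => Groth.Agent.Lib.Seat44.AffLim.Waff D hDa i₀ hU p j) cW hcW
  haveI : ∀ j, IsAffine ((Groth.Agent.Lib.Seat44.AffLim.W D hDa i₀ hU p ⋙ Over.forget S).obj j) :=
    fun j => Groth.Agent.Lib.Seat44.AffLim.Waff D hDa i₀ hU p j
  haveI : ∀ j, Nonempty ↥((Groth.Agent.Lib.Seat44.AffLim.W D hDa i₀ hU p ⋙ Over.forget S).obj j) := by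
    intro j
    have hs : AlgSp.RepWith @Surjective (Groth.Agent.Lib.Seat44.AffLim.Wfst D hDa i₀ hU p j) :=
      MorphismProperty.of_isPullback (P := AlgSp.RepWith @Surjective)
        (Groth.Agent.Lib.Seat44.AffLim.Wsq D hDa i₀ hU p j).flip hps
    obtain ⟨x⟩ := hne j.left
    obtain ⟨w, -⟩ := Groth.Agent.S10177.surjective_ofPt _ hs x
    exact ⟨w⟩
  haveI : ∀ j, CompactSpace ↥((Groth.Agent.Lib.Seat44.AffLim.W D hDa i₀ hU p ⋙ Over.forget S).obj j) :=
    fun j => inferInstance
  haveI : ∀ {j j' : Over i₀} (f : j ⟶ j'),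
      IsAffineHom ((Groth.Agent.Lib.Seat44.AffLim.W D hDa i₀ hU p ⋙ Over.forget S).map f) :=
    fun f => inferInstance
  obtain ⟨w⟩ := Scheme.nonempty_of_isLimit _ _ hlim
  exact ⟨AlgSp.Points.ofPt fst w⟩

end Groth.Agent.S10008
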