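import Groth.Statements.S10086
import Groth.Agent.Lib.Seat44LimChart2
import Groth.Agent.S10180
import Groth.Agent.S9920
import Groth.Agent.S9906
import Groth.Agent.S10177
import Groth.Agent.S10004
import Groth.Agent.S10129
import Groth.Agent.Lib.Helper15QcRep

set_option autoImplicit false
set_option backward.isDefEq.respectTransparency false
set_option backward.isDefEq.respectTransparency.types false
universe u
open CategoryTheory CategoryTheory.Limits AlgebraicGeometry
open AlgSp

namespace Groth.Agent.S10086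

open Groth.Agent.Lib.Seat44 Groth.Agent.Lib.Seat44.AffLim Groth.Agent.Lib.Seat44.LimChart
  Groth.Agent.Lib.Seat44.LimChart2 Groth.Agent.Lib.Helper12.OpenSub

/-- Let `S` be a quasi-separated scheme and `X` the limit, in fppf sheaves over `S`, of a cofiltered
system `(X_i)` of algebraic spaces over `S`, each quasi-compact and quasi-separated over `S`, whose
transition maps are affine. Then every quasi-compact open subspace `U ⟶ X` is the inverse image of a
quasi-compact open subspace `U_i ⟶ X_i` for some index `i` (a pullback square over the projection `X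
⟶ X_i`). (The published statement allows any base scheme and uses absolute quasi-separatedness; this
row assumes the base quasi-separated, over which quasi-separatedness relative to the base is the
absolute notion.) -/
theorem result (S : Scheme.{u}) [QuasiSeparatedSpace ↥S] {I : Type u} [SmallCategory I] [IsCofiltered I]
    (D : I ⥤ AlgSp.Sp S) (hD : ∀ i, AlgSp.IsAlgSpace (D.obj i))
    (hDa : ∀ (i j : I) (φ : i ⟶ j), AlgSp.IsAffineMor (D.map φ))
    (hqc : ∀ i, AlgSp.IsQuasiCompactSp (D.obj i)) (hqs : ∀ i, AlgSp.IsQuasiSeparatedSp (D.obj i))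
    (c : Cone D) (hc : IsLimit c)
    (U : AlgSp.Sp S) (j : U ⟶ c.pt) (hj : AlgSp.RepWith @IsOpenImmersion j) (hU : AlgSp.IsQuasiCompactSp U) :
    ∃ (i : I) (Ui : AlgSp.Sp S) (ji : Ui ⟶ D.obj i) (q : U ⟶ Ui),
      AlgSp.RepWith @IsOpenImmersion ji ∧ AlgSp.IsQuasiCompactSp Ui ∧ IsPullback j q (c.π.app i) ji := by
  obtain ⟨i₀⟩ := IsCofiltered.nonempty (C := I)
  -- chart of the stage `i₀` and of the limit
  obtain ⟨V₀, v, hV₀, hve, hvs⟩ := Groth.Agent.S10180.exists_affine_chart (hqc i₀)
  obtain ⟨cW, hcW, fstW, hcWaff, ⟨hlimW⟩, sqW, sq₀⟩ := exists_chart_data' D hDa c hc i₀ hV₀ v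
  have hcpt : IsAlgSpace c.pt := (Groth.Agent.S10004.result S D hD hDa c hc).1
  have hUalg : IsAlgSpace U := Groth.Agent.S10129.isAlgSpace_of_representable hcpt j hj.1
  -- the open subscheme `U_V` of `V`
  obtain ⟨UV, ιV, a, sqUV⟩ := hj.1 fstW
  haveI : IsOpenImmersion ιV.left := hj.2 _ _ _ sqUV
  -- `U_V` is quasi-compact
  have hqcv : IsQuasiCompactMor v := by
    let VV : Space S := ⟨(yon S).obj V₀, IsAlgSpace.yon_obj V₀⟩
    let DD : Space S := ⟨D.obj i₀, hD i₀⟩
    let vv : VV ⟶ DD := ObjectProperty.homMk v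
    exact Groth.Agent.S9920.result vv
      (Groth.Agent.Lib.Helper15QcRep.isQuasiCompactSp_yon V₀ hV₀) (hqs i₀)
  haveI : CompactSpace UV.left := compactSpace_of_isQuasiCompactSp_yon
    (hqcv hUalg hU (j ≫ c.π.app i₀) _ _ (sqUV.paste_vert sq₀).flip)
  -- descend the open subscheme to a stage
  haveI : ∀ k, IsAffine ((W D hDa i₀ hV₀ v ⋙ Over.forget S).obj k) := fun k => Waff D hDa i₀ hV₀ v k
  haveI : ∀ {k k' : Over i₀} (ψ : k ⟶ k'), IsAffineHom ((W D hDa i₀ hV₀ v ⋙ Over.forget S).map ψ) :=
    fun ψ => inferInstance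
  obtain ⟨k, O, hOc, hO⟩ : ∃ (k : Over i₀) (O : (Wobj D hDa i₀ hV₀ v k).left.Opens),
      IsCompact (O : Set ↥(Wobj D hDa i₀ hV₀ v k).left) ∧
      (cW.π.app k).left ⁻¹ᵁ O = ιV.left.opensRange :=
    exists_preimage_eq (W D hDa i₀ hV₀ v ⋙ Over.forget S)
      ((Over.forget S).mapCone cW) hlimW ιV.left.opensRange (isCompact_range ιV.left.continuous)
  have hO' : ∀ x : ↥cW.pt.left, (cW.π.app k).left x ∈ O ↔ x ∈ Set.range ιV.left := fun x => by
    have := congrArg (fun (A : cW.pt.left.Opens) => x ∈ A) hO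
    exact (iff_of_eq this)
  -- the open set of points of the stage
  have hWet : RepWith @Etale (Wfst D hDa i₀ hV₀ v k) :=
    (RepWith @Etale).of_isPullback (Wsq D hDa i₀ hV₀ v k).flip hve
  have hfs : RepWith @Surjective fstW := (RepWith @Surjective).of_isPullback sq₀.flip hvs
  have hW'o : IsOpen (Points.ofPt (Wfst D hDa i₀ hV₀ v k) '' (O : Set ↥(Wobj D hDa i₀ hV₀ v k).left)) :=
    Groth.Agent.S10176.isOpenMap_ofPt _ hWet _ O.2
  have hW'c : IsCompact (Points.ofPt (Wfst D hDa i₀ hV₀ v k) '' (O : Set ↥(Wobj D hDa i₀ hV₀ v k).left)) :=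
    hOc.image (Points.continuous_ofPt _)
  have key : Points.map (c.π.app k.left) ⁻¹'
      (Points.ofPt (Wfst D hDa i₀ hV₀ v k) '' (O : Set ↥(Wobj D hDa i₀ hV₀ v k).left)) =
      Set.range (Points.map j) := by
    ext x
    constructor
    · rintro ⟨w, hw, hwx⟩
      rw [Points.ofPt_eq_map_ofScheme] at hwx
      obtain ⟨p, hp1, hp2⟩ := Groth.Agent.S10175.exists_point_of_isPullback (sqW k) _ _ hwx
      obtain ⟨y, rfl⟩ := (Points.schemeHomeo cW.pt).surjective p
      have h1 : (cW.π.app k).left y = w := by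
        apply (Points.schemeHomeo _).injective
        rw [← Points.map_yon_map_apply]
        exact hp1
      have h2 : y ∈ Set.range ιV.left := (hO' y).1 (by rw [h1]; exact hw)
      obtain ⟨z, rfl⟩ := h2
      refine ⟨Points.ofPt a z, ?_⟩
      rw [Points.map_ofPt, sqUV.w, Groth.Agent.S10176.ofPt_map_comp, Points.ofPt_eq_map_ofScheme]
      exact hp2
    · rintro ⟨u, rfl⟩
      obtain ⟨y, hy⟩ := Groth.Agent.S10177.surjective_ofPt fstW hfs (Points.map j u)
      rw [Points.ofPt_eq_map_ofScheme] at hy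
      obtain ⟨p, -, hp2⟩ := Groth.Agent.S10175.exists_point_of_isPullback sqUV u _ hy.symm
      obtain ⟨z, rfl⟩ := (Points.schemeHomeo UV).surjective p
      have h1 : ιV.left z = y := by
        apply (Points.schemeHomeo _).injective
        rw [← Points.map_yon_map_apply]
        exact hp2
      have h2 : (cW.π.app k).left y ∈ O := (hO' y).2 ⟨z, h1⟩
      refine ⟨(cW.π.app k).left y, h2, ?_⟩
      have e1 := Groth.Agent.S10176.ofPt_map_comp (cW.π.app k) (Wfst D hDa i₀ hV₀ v k) y
      refine e1.symm.trans ?_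
      rw [(sqW k).w, ← Points.map_ofPt, Points.ofPt_eq_map_ofScheme fstW, hy]
  obtain ⟨q, hq⟩ := exists_open_descent (c.π.app k.left) j hj hW'o key
  exact ⟨k.left, _, incl _ _, q, repWith_incl hW'o, isQuasiCompactSp_obj (hD k.left) hW'o hW'c, hq⟩

end Groth.Agent.S10086
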