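import Groth.Statements.S10007
import Groth.Agent.Lib.Seat44OverSys
import Groth.Agent.Lib.Seat44ChartSys
import Groth.Agent.Lib.Seat44LimChart2
import Groth.Agent.Lib.Helper12OpenSub2
import Groth.Agent.Lib.Helper12LargestOpen
import Groth.Agent.Lib.Helper12Proper
import Groth.Agent.Lib.Helper15QcRep
import Groth.Agent.S10006
import Groth.Agent.S10008
import Groth.Agent.S10086
import Groth.Agent.S10129
import Groth.Agent.S10192
import Groth.Agent.S10197
import Groth.Agent.S9957
import Groth.Agent.S10175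

set_option autoImplicit false
set_option backward.isDefEq.respectTransparency false
set_option backward.isDefEq.respectTransparency.types false
universe u
open CategoryTheory CategoryTheory.Limits AlgebraicGeometry
open AlgSp

namespace Groth.Agent.S10007

open Groth.Agent.Lib.Seat44.BCSystem Groth.Agent.Lib.Seat44.OverSys Groth.Agent.Lib.Seat44.ChartSys
  Groth.Agent.Lib.Seat44.SepSys Groth.Agent.Lib.Seat44.AffLim

variable {S : Scheme.{u}} {I : Type u} [SmallCategory I] (D : I ⥤ AlgSp.Sp S) (c : Cone D)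

/-- the morphism `j : U ⟶ lim D` is compatible with an open subspace of the stage `D i` which is an affine scheme. -/
def Good {U : AlgSp.Sp S} (j : U ⟶ c.pt) (i : I) : Prop :=
  ∃ (Ui : AlgSp.Sp S) (ji : Ui ⟶ D.obj i) (q : U ⟶ Ui) (T' : Over S),
    IsAffine T'.left ∧ Nonempty ((yon S).obj T' ≅ Ui) ∧ RepWith @IsOpenImmersion ji ∧
      j ≫ c.π.app i = q ≫ ji

theorem Good.mono (hDa : ∀ (i j : I) (φ : i ⟶ j), AlgSp.IsAffineMor (D.map φ))
    {U : AlgSp.Sp S} {j : U ⟶ c.pt} {i k : I} (φ : k ⟶ i) (h : Good D c j i) : Good D c j k := by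
  obtain ⟨Ui, ji, q, T', hT', ⟨e⟩, hopen, w⟩ := h
  have haff : IsAffineMor (pullback.snd (D.map φ) ji) :=
    Groth.Agent.Lib.Seat44.MorBasics.isAffineMor_of_isPullback (IsPullback.of_hasPullback (D.map φ) ji)
      (hDa _ _ φ)
  obtain ⟨W, iW, e', hW, -⟩ := exists_affine_iso_of_isAffineMor _ haff hT' e
  refine ⟨pullback (D.map φ) ji, pullback.fst (D.map φ) ji,
    pullback.lift (j ≫ c.π.app k) q (by rw [Category.assoc, c.w φ, w]), W, hW, ⟨e'⟩, ?_, ?_⟩
  · exact MorphismProperty.of_isPullback (P := RepWith @IsOpenImmersion)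
      (IsPullback.of_hasPullback (D.map φ) ji).flip hopen
  · rw [pullback.lift_fst]

/-- an open subspace of an algebraic space is an algebraic space, quasi-separated if the ambient space is. -/
theorem open_subspace_props {U X : AlgSp.Sp S} (hX : IsAlgSpace X) (j : U ⟶ X)
    (hj : RepWith @IsOpenImmersion j) (hXqs : IsQuasiSeparatedSp X) :
    IsAlgSpace U ∧ IsQuasiSeparatedSp U := by
  have hU : IsAlgSpace U := Groth.Agent.S10129.isAlgSpace_of_representable hX j hj.1
  haveI : Mono j := Groth.Agent.Lib.Helper12.LargestOpen.mono_of_open j hj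
  have hsep : IsSeparatedMor j := Groth.Agent.Lib.Helper12.Proper.isSeparatedMor_of_mono j
  have hqs : IsQuasiSeparatedMor j :=
    Groth.Agent.Lib.Seat45.Charts.repWith_mono
      (fun g hg => by haveI : IsClosedImmersion g := hg; infer_instance) hsep
  exact ⟨hU, Groth.Agent.S9957.isQuasiSeparatedSp_of_mor hU hX j hqs hXqs⟩

/-- an affine open subscheme of the limit comes from an affine open subscheme of a stage. -/
theorem exists_good [QuasiSeparatedSpace S] [IsCofiltered I]
    (hD : ∀ i, AlgSp.IsAlgSpace (D.obj i))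
    (hDa : ∀ (i j : I) (φ : i ⟶ j), AlgSp.IsAffineMor (D.map φ))
    (hqc : ∀ i, AlgSp.IsQuasiCompactSp (D.obj i)) (hqs : ∀ i, AlgSp.IsQuasiSeparatedSp (D.obj i))
    (hc : IsLimit c) {T : Over S} (hT : IsAffine T.left) (j : (yon S).obj T ⟶ c.pt)
    (hj : RepWith @IsOpenImmersion j) : ∃ i, Good D c j i := by
  obtain ⟨i, Ui, ji, q, hopen, hUiqc, sq⟩ := Groth.Agent.S10086.result S D hD hDa hqc hqs c hc
    ((yon S).obj T) j hj (Groth.Agent.Lib.Helper15QcRep.isQuasiCompactSp_yon T hT)
  obtain ⟨hUi, hUiqs⟩ := open_subspace_props (hD i) ji hopen (hqs i)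
  obtain ⟨k, T', hT', ⟨e'⟩⟩ := Groth.Agent.S10006.result S (overSys D i ji)
    (isAlgSpace_overSys D i ji hD hUi)
    (fun k k' ψ => isAffineMor_overSys_map D i ji hDa ψ)
    (fun k => (qcqs_overSys D i ji hD hUi ⟨hUiqc, hUiqs⟩ (hqs i) k ⟨hqc _, hqs _⟩).1)
    (fun k => (qcqs_overSys D i ji hD hUi ⟨hUiqc, hUiqs⟩ (hqs i) k ⟨hqc _, hqs _⟩).2)
    (overCone D i ji c) (isLimitOverCone D i ji c hc) T hT sq.isoPullback
  refine ⟨k.left, (overSys D i ji).obj k, pr₁ (Over.forget i ⋙ D) (β D i) ji k,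
    sq.isoPullback.hom ≫ (overCone D i ji c).π.app k, T', hT', ⟨e'⟩,
    repWith_pr₁ _ _ ji @IsOpenImmersion hopen k, ?_⟩
  rw [Category.assoc]
  have h1 := cone_π_pr₁ (Over.forget i ⋙ D) (β D i) ji (c.whisker (Over.forget i)) (c.π.app i)
    (overCone_aux D i c) k
  have h2 : sq.isoPullback.hom ≫ pullback.fst (c.π.app i) ji = j := sq.isoPullback_hom_fst
  rw [h1, ← Category.assoc, h2]
  rfl

/-- if open subspaces of a stage cover the limit, they cover a later stage. -/
theorem exists_stage_cover [IsCofiltered I]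
    (hD : ∀ i, AlgSp.IsAlgSpace (D.obj i))
    (hDa : ∀ (i j : I) (φ : i ⟶ j), AlgSp.IsAffineMor (D.map φ))
    (hqc : ∀ i, AlgSp.IsQuasiCompactSp (D.obj i)) (hqs : ∀ i, AlgSp.IsQuasiSeparatedSp (D.obj i))
    (hc : IsLimit c) (i : I) {A : Type*} (U : A → AlgSp.Sp S) (ju : ∀ a, U a ⟶ D.obj i)
    (hju : ∀ a, RepWith @IsOpenImmersion (ju a))
    (hcov : ∀ x : Points c.pt, ∃ a, Points.map (c.π.app i) x ∈ Set.range (Points.map (ju a))) :
    ∃ k : Over i, ∀ x : Points (D.obj k.left),
      ∃ a, Points.map (D.map k.hom) x ∈ Set.range (Points.map (ju a)) := by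
  have hW : IsClosed (⋃ a, Set.range (Points.map (ju a)))ᶜ :=
    (isOpen_iUnion (fun a =>
      Groth.Agent.Lib.Helper12.OpenSub.isOpen_range_of_open (ju a) (hju a))).isClosed_compl
  obtain ⟨Z, iZ, hcl, hrange, -⟩ := Groth.Agent.S10192.result ⟨D.obj i, hD i⟩ _ hW
  have hiZaff : IsAffineMor iZ.hom :=
    Groth.Agent.Lib.Seat44.LimChart.isAffineMor_of_repWith_isClosedImmersion _ hcl
  -- the base changes of `Z`
  have hZk : ∀ k, IsAlgSpace ((overSys D i iZ.hom).obj k) := isAlgSpace_overSys D i iZ.hom hD Z.property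
  have hZqc : ∀ k, IsQuasiCompactSp ((overSys D i iZ.hom).obj k) := fun k =>
    (qcqs_of_isAffineMor (hZk k) (hD k.left) _ (isAffineMor_pr₁ _ _ iZ.hom hiZaff k) (hqc _) (hqs _)).1
  -- the limit has no points
  have hempty : ¬ Nonempty (Points (overCone D i iZ.hom c).pt) := by
    rintro ⟨z⟩
    obtain ⟨a, u, hu⟩ := hcov (Points.map (pullback.fst (c.π.app i) iZ.hom) z)
    have h1 : Points.map (c.π.app i) (Points.map (pullback.fst (c.π.app i) iZ.hom) z) ∈
        (⋃ a, Set.range (Points.map (ju a)))ᶜ := by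
      rw [← hrange, ← Points.map_comp, pullback.condition, Points.map_comp]
      exact ⟨_, rfl⟩
    exact h1 (Set.mem_iUnion.2 ⟨a, u, hu⟩)
  have hne : ¬ ∀ k, Nonempty (Points ((overSys D i iZ.hom).obj k)) := fun h =>
    hempty (Groth.Agent.S10008.result S (overSys D i iZ.hom) hZk
      (fun k k' ψ => isAffineMor_overSys_map D i iZ.hom hDa ψ) (overCone D i iZ.hom c)
      (isLimitOverCone D i iZ.hom c hc) hZqc h)
  obtain ⟨k, hk⟩ := not_forall.1 hne
  refine ⟨k, fun x => ?_⟩
  by_contra hx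
  have hxW : Points.map (D.map k.hom) x ∈ (⋃ a, Set.range (Points.map (ju a)))ᶜ := by
    intro hmem
    obtain ⟨a, ha⟩ := Set.mem_iUnion.1 hmem
    exact hx ⟨a, ha⟩
  rw [← hrange] at hxW
  obtain ⟨z, hz⟩ := hxW
  obtain ⟨p, -, -⟩ := Groth.Agent.S10175.exists_point_of_isPullback
    (isPullback_pr (Over.forget i ⋙ D) (β D i) iZ.hom k).flip z x hz
  exact hk ⟨p⟩

/-- Let `S` be a quasi-separated scheme and `X` the limit, in fppf sheaves over `S`, of a cofiltered
system `(X_i)` of quasi-compact algebraic spaces over `S`, each quasi-separated over `S`, whose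
transition maps are affine. If `X` is a scheme (its sheaf is representable), then `X_i` is a scheme
for some `i`. (The published statement allows any base scheme and uses absolute quasi-separatedness;
this row assumes the base quasi-separated, over which quasi-separatedness relative to the base is
the absolute notion.) -/
theorem result (S : Scheme.{u}) [QuasiSeparatedSpace S] {I : Type u} [SmallCategory I] [IsCofiltered I]
    (D : I ⥤ AlgSp.Sp S) (hD : ∀ i, AlgSp.IsAlgSpace (D.obj i))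
    (hDa : ∀ (i j : I) (φ : i ⟶ j), AlgSp.IsAffineMor (D.map φ))
    (hqc : ∀ i, AlgSp.IsQuasiCompactSp (D.obj i)) (hqs : ∀ i, AlgSp.IsQuasiSeparatedSp (D.obj i))
    (c : Cone D) (hc : IsLimit c)
    (hX : c.pt.obj.IsRepresentable) : ∃ i, (D.obj i).obj.IsRepresentable := by
  obtain ⟨T, ⟨r⟩⟩ := hX.has_representation
  obtain ⟨i₀'⟩ := IsCofiltered.nonempty (C := I)
  obtain ⟨hXalg, hXqc, hXqs⟩ := qcqs_limit D hD hDa c hc i₀' (hqc i₀') (hqs i₀')
  have hTqc : IsQuasiCompactSp ((yon S).obj T) := by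
    obtain ⟨U, p, hpe, hps, hU⟩ := hXqc
    haveI : IsIso (AlgSp.isoOfRepresentableBy r).inv := inferInstance
    exact ⟨U, p ≫ (AlgSp.isoOfRepresentableBy r).inv,
      MorphismProperty.comp_mem (RepWith (S := S) @Etale) _ _ hpe
        (Groth.Agent.Lib.Helper15MonoSep.repWith_of_isIso @Etale _),
      MorphismProperty.comp_mem (RepWith (S := S) @Surjective) _ _ hps
        (Groth.Agent.Lib.Helper15MonoSep.repWith_of_isIso @Surjective _), hU⟩
  haveI : CompactSpace T.left :=
    Groth.Agent.Lib.Seat44.LimChart2.compactSpace_of_isQuasiCompactSp_yon hTqc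
  -- a finite affine open cover of `T`
  obtain ⟨A, _, Ta, ιa, haff, hopenι, hcovT⟩ : ∃ (A : Type u) (_ : Fintype A) (Ta : A → Over S)
      (ιa : ∀ a, Ta a ⟶ T), (∀ a, IsAffine (Ta a).left) ∧ (∀ a, IsOpenImmersion (ιa a).left) ∧
      ∀ t : T.left, ∃ a, t ∈ Set.range (ιa a).left := by
    let 𝒱 := T.left.affineCover.finiteSubcover
    haveI : Fintype 𝒱.I₀ := Fintype.ofFinite _
    refine ⟨𝒱.I₀, inferInstance, fun a => Over.mk (𝒱.f a ≫ T.hom), fun a => Over.homMk (𝒱.f a) rfl,
      fun a => ?_, fun a => ?_, fun t => ?_⟩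
    · dsimp [𝒱]; infer_instance
    · change IsOpenImmersion (𝒱.f a); infer_instance
    · obtain ⟨a, y, hy⟩ := 𝒱.exists_eq t
      exact ⟨a, y, hy⟩
  have hja : ∀ a, RepWith @IsOpenImmersion ((yon S).map (ιa a) ≫ (AlgSp.isoOfRepresentableBy r).hom) :=
    fun a => MorphismProperty.comp_mem (RepWith (S := S) @IsOpenImmersion) _ _
      ((AlgSp.repWith_yon_map_iff _ _).2 (hopenι a))
      (Groth.Agent.Lib.Helper15MonoSep.repWith_of_isIso @IsOpenImmersion _)
  -- a common good stage
  have hgood : ∀ a, ∃ i, Good D c ((yon S).map (ιa a) ≫ (AlgSp.isoOfRepresentableBy r).hom) i :=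
    fun a => exists_good D c hD hDa hqc hqs hc (haff a) _ (hja a)
  choose ia hia using hgood
  classical
  obtain ⟨i, hi⟩ := IsCofiltered.inf_objs_exists (Finset.univ.image ia)
  have hgi : ∀ a, Good D c ((yon S).map (ιa a) ≫ (AlgSp.isoOfRepresentableBy r).hom) i := fun a =>
    (hia a).mono D c hDa (hi (Finset.mem_image_of_mem ia (Finset.mem_univ a))).some
  choose Ui ji q T' hT' e' hopen w using hgi
  -- the opens cover a later stage
  have hcov : ∀ x : Points c.pt, ∃ a, Points.map (c.π.app i) x ∈ Set.range (Points.map (ji a)) := by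
    intro x
    obtain ⟨x', rfl⟩ : ∃ x', Points.map (AlgSp.isoOfRepresentableBy r).hom x' = x :=
      ⟨Points.map (AlgSp.isoOfRepresentableBy r).inv x, by
        rw [← Points.map_comp, Iso.inv_hom_id, Points.map_id]⟩
    obtain ⟨t, rfl⟩ := (Points.schemeHomeo T).surjective x'
    obtain ⟨a, y, hy⟩ := hcovT t
    refine ⟨a, Points.map (q a) (Points.schemeHomeo (Ta a) y), ?_⟩
    rw [← Points.map_comp, ← w a, Points.map_comp, Points.map_comp, Points.map_yon_map_apply, hy]
  obtain ⟨k, hk⟩ := exists_stage_cover D c hD hDa hqc hqs hc i Ui ji hopen hcov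
  -- the stage `k` is covered by open subspaces which are affine schemes
  refine ⟨k.left, ?_⟩
  obtain ⟨X', j', hj', hrep', hmax⟩ := Groth.Agent.S10197.result ⟨D.obj k.left, hD k.left⟩
  have hsurj : Set.range (Points.map j'.hom) = Set.univ := by
    rw [Set.eq_univ_iff_forall]
    intro x
    obtain ⟨a, ha⟩ := hk x
    -- the open `U_a ×_{D i} D k`
    have sqa := IsPullback.of_hasPullback (D.map k.hom) (ji a)
    have hopena : RepWith @IsOpenImmersion (pullback.fst (D.map k.hom) (ji a)) :=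
      MorphismProperty.of_isPullback (P := RepWith @IsOpenImmersion) sqa.flip (hopen a)
    have haffa : IsAffineMor (pullback.snd (D.map k.hom) (ji a)) :=
      Groth.Agent.Lib.Seat44.MorBasics.isAffineMor_of_isPullback sqa (hDa _ _ k.hom)
    obtain ⟨W, iW, eW, hW, -⟩ := exists_affine_iso_of_isAffineMor _ haffa (hT' a) (e' a).some
    have hPalg : IsAlgSpace (pullback (D.map k.hom) (ji a)) :=
      Groth.Agent.S10129.isAlgSpace_of_representable (hD k.left) _ hopena.1
    obtain ⟨g, hg⟩ := hmax ⟨pullback (D.map k.hom) (ji a), hPalg⟩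
      (ObjectProperty.homMk (pullback.fst (D.map k.hom) (ji a))) hopena
      ⟨W, ⟨AlgSp.representableByOfIso eW⟩⟩
    have hx : x ∈ Set.range (Points.map (pullback.fst (D.map k.hom) (ji a))) := by
      rw [Groth.Agent.Lib.Helper12.OpenSub.range_map_fst_of_isPullback sqa]
      exact ha
    obtain ⟨p, rfl⟩ := hx
    refine ⟨Points.map g.hom p, ?_⟩
    rw [← Points.map_comp]
    have : g.hom ≫ j'.hom = pullback.fst (D.map k.hom) (ji a) := congrArg (fun m => m.hom) hg
    rw [this]
  obtain ⟨e, -⟩ := Groth.Agent.Lib.Helper12.OpenSub.iso_of_range_eq j'.hom hj' (𝟙 (D.obj k.left))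
    (Groth.Agent.Lib.Helper15MonoSep.repWith_of_isIso @IsOpenImmersion _) (by
      rw [hsurj]
      ext x
      simp)
  obtain ⟨Xs, ⟨r'⟩⟩ := hrep'.has_representation
  exact ⟨Xs, ⟨AlgSp.representableByOfIso (AlgSp.isoOfRepresentableBy r' ≪≫ e)⟩⟩

end Groth.Agent.S10007
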