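import Groth.Statements.S10009
import Groth.Agent.S10180
import Groth.Agent.S9952
import Groth.Agent.S10127
import Groth.Agent.Lib.Seat44LimChart
import Groth.Agent.Lib.Seat44LimClosed

set_option autoImplicit false
set_option backward.isDefEq.respectTransparency false
set_option backward.isDefEq.respectTransparency.types false
universe u
open CategoryTheory CategoryTheory.Limits AlgebraicGeometry
open AlgSp

namespace Groth.Agent.S10009

open Groth.Agent.Lib.Seat44.AffLim Groth.Agent.Lib.Seat44.LimChart Groth.Agent.Lib.Seat44.LimClosed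

/-- Let `B` be an algebraic space over the scheme `S` and `X` the limit, in fppf sheaves, of a
cofiltered system `(X_i)` of quasi-compact algebraic spaces over `B` whose transition maps are
affine; let `y : Y ⟶ X` be a closed immersion from an algebraic space `Y` whose structure map to `B`
is locally of finite type. Then, for all `i` mapping to some `i₀`, the composite `Y ⟶ X ⟶ X_i` is a
closed immersion. -/
theorem result (S : Scheme.{u}) {I : Type u} [SmallCategory I] [IsCofiltered I]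
    (B : AlgSp.Space S) (D : I ⥤ AlgSp.Sp S) (hD : ∀ i, AlgSp.IsAlgSpace (D.obj i))
    (t : D ⟶ (Functor.const I).obj B.obj)
    (hDa : ∀ (i j : I) (φ : i ⟶ j), AlgSp.IsAffineMor (D.map φ))
    (c : Cone D) (hc : IsLimit c)
    (hqc : ∀ i, AlgSp.IsQuasiCompactSp (D.obj i))
    (Y : AlgSp.Space S) (y : Y.obj ⟶ c.pt) (hy : AlgSp.RepWith @IsClosedImmersion y) (i₁ : I)
    (hYB : AlgSp.LocP @LocallyOfFiniteType (y ≫ c.π.app i₁ ≫ t.app i₁)) :
    ∃ i₀ : I, ∀ (i : I) (_ : i ⟶ i₀), AlgSp.RepWith @IsClosedImmersion (y ≫ c.π.app i) := by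
  obtain ⟨U₀, p, hU₀, hpe, hps⟩ := Groth.Agent.S10180.exists_affine_chart (hqc i₁)
  obtain ⟨cW, hcW, fst, haff, ⟨hlim⟩, hpb⟩ := exists_chart_data D hDa c hc i₁ hU₀ p
  have hWe : ∀ k : Over i₁, AlgSp.RepWith @Etale (Wfst D hDa i₁ hU₀ p k) := fun k =>
    MorphismProperty.of_isPullback (P := AlgSp.RepWith @Etale) (Wsq D hDa i₁ hU₀ p k).flip hpe
  have hWs : ∀ k : Over i₁, AlgSp.RepWith @Surjective (Wfst D hDa i₁ hU₀ p k) := fun k =>
    MorphismProperty.of_isPullback (P := AlgSp.RepWith @Surjective) (Wsq D hDa i₁ hU₀ p k).flip hps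
  let j₁ : Over i₁ := Over.mk (𝟙 i₁)
  have hfst_et : AlgSp.RepWith @Etale fst :=
    MorphismProperty.of_isPullback (P := AlgSp.RepWith @Etale) (hpb j₁) (hWe j₁)
  -- pull back `y` to the chart
  obtain ⟨Y₀, w, pr, sqY⟩ := hy.1 fst
  haveI hwcl : IsClosedImmersion w.left := hy.2 fst pr w sqY
  haveI := haff
  haveI : IsAffine Y₀.left := isAffine_of_isAffineHom w.left
  have hpr_et : AlgSp.RepWith @Etale pr :=
    MorphismProperty.of_isPullback (P := AlgSp.RepWith @Etale) sqY.flip hfst_et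
  -- `Y ⟶ X_{i₁}` is locally of finite type
  have hlft : AlgSp.LocP @LocallyOfFiniteType (y ≫ c.π.app i₁) := by
    refine Groth.Agent.S9952.locP_of_comp @LocallyOfFiniteType (fun u k huk => ?_) B.property
      (y ≫ c.π.app i₁) (t.app i₁) (by rw [Category.assoc]; exact hYB)
    haveI : LocallyOfFiniteType (u ≫ k) := huk
    exact locallyOfFiniteType_of_comp u k
  have hcomm : pr ≫ (y ≫ c.π.app i₁) =
      (AlgSp.yon S).map (w ≫ cW.π.app j₁ ≫ Wι D hDa i₁ hU₀ p j₁) ≫ p := by
    have h1 := (hpb j₁).w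
    have h2 := (Wsq D hDa i₁ hU₀ p j₁).w
    change _ ≫ D.map (𝟙 i₁) = _ at h2
    rw [D.map_id, Category.comp_id] at h2
    rw [Functor.map_comp, Functor.map_comp, Category.assoc, Category.assoc, ← h2, h1,
      ← Category.assoc, sqY.w, Category.assoc]
    rfl
  have hlftw : LocallyOfFiniteType (w ≫ cW.π.app j₁ ≫ Wι D hDa i₁ hU₀ p j₁).left :=
    hlft pr p _ hpr_et hpe hcomm
  haveI : ∀ j, IsAffine ((W D hDa i₁ hU₀ p ⋙ Over.forget S).obj j) := fun j => Waff D hDa i₁ hU₀ p j
  haveI : IsAffine ((Over.forget S).mapCone cW).pt := haff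
  haveI : IsClosedImmersion (show Y₀.left ⟶ ((Over.forget S).mapCone cW).pt from w.left) := hwcl
  haveI : LocallyOfFiniteType ((show Y₀.left ⟶ ((Over.forget S).mapCone cW).pt from w.left) ≫
      ((Over.forget S).mapCone cW).π.app j₁) := by
    haveI : LocallyOfFiniteType ((w.left ≫ (cW.π.app j₁).left) ≫ (Wι D hDa i₁ hU₀ p j₁).left) := by
      rw [Category.assoc]; exact hlftw
    exact locallyOfFiniteType_of_comp (w.left ≫ (cW.π.app j₁).left) (Wι D hDa i₁ hU₀ p j₁).left
  obtain ⟨j₀, φ₀, hj₀⟩ := exists_isClosedImmersion_of_isLimit (W D hDa i₁ hU₀ p ⋙ Over.forget S)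
    ((Over.forget S).mapCone cW) hlim (show Y₀.left ⟶ ((Over.forget S).mapCone cW).pt from w.left) j₁
  refine ⟨j₀.left, fun i φ => ?_⟩
  let k : Over i₁ := Over.mk (φ ≫ j₀.hom)
  let ψ : k ⟶ j₀ := Over.homMk φ
  have hcl : IsClosedImmersion (w ≫ cW.π.app k).left := hj₀ k ψ
  have hrepπ := repWith_isAffineHom_of_isAffineMor (c.π.app i)
    (Groth.Agent.Lib.Seat44.AffLim.isAffineMor_π D hDa c hc i)
  have hrep : AlgSp.Representable (y ≫ c.π.app i) :=
    (AlgSp.Representable (S := S)).comp_mem _ _ hy.1 hrepπ.1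
  have sqbig : IsPullback pr ((AlgSp.yon S).map (w ≫ cW.π.app k)) (y ≫ c.π.app i)
      (Wfst D hDa i₁ hU₀ p k) := by
    have := (sqY.flip.paste_horiz (hpb k)).flip
    rw [← Functor.map_comp] at this
    exact this
  haveI := Groth.Agent.Lib.Helper12.descendsAlong_isClosedImmersion.{u}
  exact Groth.Agent.S10127.repWith_of_atlas @IsClosedImmersion (y ≫ c.π.app i) hrep
    (Wfst D hDa i₁ hU₀ p k) (hWe k) (hWs k) (w ≫ cW.π.app k) pr sqbig hcl

end Groth.Agent.S10009
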