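import Groth.Statements.S10010
import Groth.Agent.Lib.Seat44OverSys2
import Groth.Agent.Lib.Seat44QcOpen
import Groth.Agent.S10007
import Groth.Agent.S10009
import Groth.Agent.S10191
import Groth.Agent.S9934
import Groth.Agent.S9888
import Groth.Agent.S10194

set_option autoImplicit false
set_option backward.isDefEq.respectTransparency false
set_option backward.isDefEq.respectTransparency.types false
universe u
open CategoryTheory CategoryTheory.Limits AlgebraicGeometry
open AlgSp

namespace Groth.Agent.S10010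

open Groth.Agent.Lib.Seat44.BCSystem Groth.Agent.Lib.Seat44.OverSys Groth.Agent.Lib.Seat44.SepSys
  Groth.Agent.Lib.Seat44.AffLim Groth.Agent.Lib.Seat44.QcOpen

variable {S : Scheme.{u}}

theorem imm_of_open {F G : AlgSp.Sp S} {f : F ⟶ G} (h : RepWith @IsOpenImmersion f) :
    RepWith @IsImmersion f :=
  Groth.Agent.Lib.Seat45.Charts.repWith_mono
    (fun g hg => by haveI : IsOpenImmersion g := hg; infer_instance) h

theorem imm_of_closed {F G : AlgSp.Sp S} {f : F ⟶ G} (h : RepWith @IsClosedImmersion f) :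
    RepWith @IsImmersion f :=
  Groth.Agent.Lib.Seat45.Charts.repWith_mono
    (fun g hg => by haveI : IsClosedImmersion g := hg; infer_instance) h

/-- the case where all terms of the system are quasi-compact. -/
theorem eventually_immersion_qcqs [QuasiSeparatedSpace S] {I : Type u} [SmallCategory I] [IsCofiltered I]
    (B : AlgSp.Space S) (D : I ⥤ AlgSp.Sp S) (hD : ∀ i, AlgSp.IsAlgSpace (D.obj i))
    (t : D ⟶ (Functor.const I).obj B.obj)
    (hDa : ∀ (i j : I) (φ : i ⟶ j), AlgSp.IsAffineMor (D.map φ))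
    (c : Cone D) (hc : IsLimit c)
    (hqc : ∀ i, AlgSp.IsQuasiCompactSp (D.obj i)) (hqs : ∀ i, AlgSp.IsQuasiSeparatedSp (D.obj i))
    (Y : AlgSp.Space S) (hYqc : AlgSp.IsQuasiCompactSp Y.obj) (y : Y.obj ⟶ c.pt)
    (hy : AlgSp.RepWith @IsImmersion y) (i₁ : I)
    (hYB : AlgSp.LocP @LocallyOfFiniteType (y ≫ c.π.app i₁ ≫ t.app i₁)) :
    ∃ i₀ : I, ∀ (i : I) (_ : i ⟶ i₀), AlgSp.RepWith @IsImmersion (y ≫ c.π.app i) := by
  obtain ⟨hXalg, hXqc, hXqs⟩ := qcqs_limit D hD hDa c hc i₁ (hqc i₁) (hqs i₁)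
  obtain ⟨-, hlc⟩ := Groth.Agent.S10191.result (Z := Y) (X := ⟨c.pt, hXalg⟩) (ObjectProperty.homMk y) hy
  have hK := isCompact_range_map hYqc y
  obtain ⟨U, j, hj, hUqc, hKU, hUO⟩ := exists_qc_open_between ⟨c.pt, hXalg⟩ (Set.range (Points.map y))
    (coborder (Set.range (Points.map y))) hK hlc.isOpen_coborder subset_coborder
  -- factor `y` through `U`
  obtain ⟨y₁, hy₁⟩ := (Groth.Agent.S10194.exists_factor_iff j.hom hj y).2 hKU
  have hy₁imm : RepWith @IsImmersion y₁ :=
    Groth.Agent.S9888.result S c.pt Y.obj U.obj hXalg y j.hom @IsImmersion hy (imm_of_open hj) y₁ hy₁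
  -- the range of `y₁` is closed
  obtain ⟨hjemb, -⟩ := Groth.Agent.S10191.result (Z := U) (X := ⟨c.pt, hXalg⟩) j (imm_of_open hj)
  have hrange : Set.range (Points.map y₁) =
      Points.map j.hom ⁻¹' closure (Set.range (Points.map y)) := by
    ext u
    constructor
    · rintro ⟨v, rfl⟩
      apply subset_closure
      exact ⟨v, by rw [← Points.map_comp, hy₁]⟩
    · intro hu
      have h1 : Points.map j.hom u ∈ coborder (Set.range (Points.map y)) := hUO ⟨u, rfl⟩
      have h2 : Points.map j.hom u ∈ Set.range (Points.map y) := by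
        rw [← coborder_inter_closure (s := Set.range (Points.map y))]
        exact ⟨h1, hu⟩
      obtain ⟨v, hv⟩ := h2
      refine ⟨v, hjemb.injective ?_⟩
      rw [← Points.map_comp, hy₁, hv]
  have hclosed : IsClosed (Set.range (Points.map y₁)) := by
    rw [hrange]
    exact isClosed_closure.preimage (Points.continuous_map j.hom)
  have hy₁cl : RepWith @IsClosedImmersion y₁ :=
    (Groth.Agent.S9934.result (Z := Y) (X := U) (ObjectProperty.homMk y₁) hy₁imm).2 hclosed
  -- descend `U` to a stage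
  obtain ⟨i, Ui, ji, q, hopen, hUiqc, sq⟩ := Groth.Agent.S10086.result S D hD hDa hqc hqs c hc
    U.obj j.hom hj hUqc
  obtain ⟨hUi, hUiqs⟩ := Groth.Agent.S10007.open_subspace_props (hD i) ji hopen (hqs i)
  have hy'' : RepWith @IsClosedImmersion (y₁ ≫ sq.isoPullback.hom) :=
    MorphismProperty.comp_mem (RepWith (S := S) @IsClosedImmersion) _ _ hy₁cl
      (Groth.Agent.Lib.Helper15MonoSep.repWith_of_isIso @IsClosedImmersion _)
  have hfst : (y₁ ≫ sq.isoPullback.hom) ≫ pullback.fst (c.π.app i) ji = y := by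
    rw [Category.assoc, sq.isoPullback_hom_fst, hy₁]
  have hYB' : LocP @LocallyOfFiniteType ((y₁ ≫ sq.isoPullback.hom) ≫
      (overCone D i ji c).π.app (Over.mk (𝟙 i)) ≫ (tOver D t i ji).app (Over.mk (𝟙 i))) := by
    rw [overCone_π_tOver, ← Category.assoc, hfst]
    have := π_t_eq D t c i i₁
    change LocP @LocallyOfFiniteType (y ≫ c.π.app i ≫ t.app i)
    rw [this]
    exact hYB
  obtain ⟨k₀, H⟩ := Groth.Agent.S10009.result S B (overSys D i ji) (isAlgSpace_overSys D i ji hD hUi)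
    (tOver D t i ji) (fun k k' ψ => isAffineMor_overSys_map D i ji hDa ψ)
    (overCone D i ji c) (isLimitOverCone D i ji c hc)
    (fun k => (qcqs_overSys_of_affine D i ji hD hDa hUi hUiqc hUiqs k).1)
    Y (y₁ ≫ sq.isoPullback.hom) hy'' (Over.mk (𝟙 i)) hYB'
  refine ⟨k₀.left, fun m φ => ?_⟩
  have h1 := H (Over.mk (φ ≫ k₀.hom)) (Over.homMk φ)
  have h2 : y ≫ c.π.app m = ((y₁ ≫ sq.isoPullback.hom) ≫
      (overCone D i ji c).π.app (Over.mk (φ ≫ k₀.hom))) ≫
      pr₁ (Over.forget i ⋙ D) (β D i) ji (Over.mk (φ ≫ k₀.hom)) := by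
    rw [Category.assoc, overCone_π_pr₁, ← Category.assoc, hfst]
    rfl
  rw [h2]
  exact MorphismProperty.comp_mem (RepWith (S := S) @IsImmersion) _ _ (imm_of_closed h1)
    (imm_of_open (repWith_pr₁ _ _ ji @IsOpenImmersion hopen _))

/-- Let `S` be a quasi-separated scheme, `B` an algebraic space over `S`, and `X` the limit, in fppf
sheaves, of a cofiltered system `(X_i)` of algebraic spaces over `B`, each quasi-separated over `S`,
whose transition maps are affine; let `y : Y ⟶ X` be an immersion from a quasi-compact algebraic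
space `Y` whose structure map to `B` is locally of finite type. Then, for all `i` mapping to some
`i₀`, the composite `Y ⟶ X ⟶ X_i` is an immersion. (The published statement allows any base scheme
and uses absolute quasi-separatedness; this row assumes the base quasi-separated, over which
quasi-separatedness relative to the base is the absolute notion.) -/
theorem result (S : Scheme.{u}) [QuasiSeparatedSpace S] {I : Type u} [SmallCategory I] [IsCofiltered I]
    (B : AlgSp.Space S) (D : I ⥤ AlgSp.Sp S) (hD : ∀ i, AlgSp.IsAlgSpace (D.obj i))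
    (t : D ⟶ (Functor.const I).obj B.obj)
    (hDa : ∀ (i j : I) (φ : i ⟶ j), AlgSp.IsAffineMor (D.map φ))
    (c : Cone D) (hc : IsLimit c)
    (hqs : ∀ i, AlgSp.IsQuasiSeparatedSp (D.obj i))
    (Y : AlgSp.Space S) (hYqc : AlgSp.IsQuasiCompactSp Y.obj) (y : Y.obj ⟶ c.pt) (hy : AlgSp.RepWith @IsImmersion y) (i₁ : I)
    (hYB : AlgSp.LocP @LocallyOfFiniteType (y ≫ c.π.app i₁ ≫ t.app i₁)) :
    ∃ i₀ : I, ∀ (i : I) (_ : i ⟶ i₀), AlgSp.RepWith @IsImmersion (y ≫ c.π.app i) := by
  obtain ⟨hXalg, -⟩ := Groth.Agent.S10004.result S D hD hDa c hc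
  -- a quasi-compact open of `D i₁` containing the image of `Y`
  have hK := isCompact_range_map hYqc (y ≫ c.π.app i₁)
  obtain ⟨X', j₁, hj₁, hX'qc, hKX', -⟩ := exists_qc_open_between ⟨D.obj i₁, hD i₁⟩
    (Set.range (Points.map (y ≫ c.π.app i₁))) Set.univ hK isOpen_univ (Set.subset_univ _)
  obtain ⟨-, hX'qs⟩ := Groth.Agent.S10007.open_subspace_props (hD i₁) j₁.hom hj₁ (hqs i₁)
  obtain ⟨y₁, hy₁⟩ := (Groth.Agent.S10194.exists_factor_iff j₁.hom hj₁ (y ≫ c.π.app i₁)).2 hKX'
  -- the restricted system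
  have hfst : pullback.lift y y₁ hy₁.symm ≫ pullback.fst (c.π.app i₁) j₁.hom = y :=
    pullback.lift_fst _ _ _
  have hopen' : RepWith @IsOpenImmersion (pullback.fst (c.π.app i₁) j₁.hom) :=
    MorphismProperty.of_isPullback (P := RepWith @IsOpenImmersion)
      (IsPullback.of_hasPullback (c.π.app i₁) j₁.hom).flip hj₁
  have hy' : RepWith @IsImmersion (pullback.lift y y₁ hy₁.symm) :=
    Groth.Agent.S9888.result S c.pt Y.obj _ hXalg y (pullback.fst (c.π.app i₁) j₁.hom) @IsImmersion hy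
      (imm_of_open hopen') _ hfst
  have hYB' : LocP @LocallyOfFiniteType (pullback.lift y y₁ hy₁.symm ≫
      (overCone D i₁ j₁.hom c).π.app (Over.mk (𝟙 i₁)) ≫ (tOver D t i₁ j₁.hom).app (Over.mk (𝟙 i₁))) := by
    rw [overCone_π_tOver, ← Category.assoc, hfst]
    exact hYB
  obtain ⟨k₀, H⟩ := eventually_immersion_qcqs B (overSys D i₁ j₁.hom)
    (isAlgSpace_overSys D i₁ j₁.hom hD X'.property)
    (tOver D t i₁ j₁.hom) (fun k k' ψ => isAffineMor_overSys_map D i₁ j₁.hom hDa ψ)
    (overCone D i₁ j₁.hom c) (isLimitOverCone D i₁ j₁.hom c hc)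
    (fun k => (qcqs_overSys_of_affine D i₁ j₁.hom hD hDa X'.property hX'qc hX'qs k).1)
    (fun k => (qcqs_overSys_of_affine D i₁ j₁.hom hD hDa X'.property hX'qc hX'qs k).2)
    Y hYqc (pullback.lift y y₁ hy₁.symm) hy' (Over.mk (𝟙 i₁)) hYB'
  refine ⟨k₀.left, fun m φ => ?_⟩
  have h1 := H (Over.mk (φ ≫ k₀.hom)) (Over.homMk φ)
  have h2 : y ≫ c.π.app m = (pullback.lift y y₁ hy₁.symm ≫
      (overCone D i₁ j₁.hom c).π.app (Over.mk (φ ≫ k₀.hom))) ≫
      pr₁ (Over.forget i₁ ⋙ D) (β D i₁) j₁.hom (Over.mk (φ ≫ k₀.hom)) := by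
    rw [Category.assoc, overCone_π_pr₁, ← Category.assoc, hfst]
    rfl
  rw [h2]
  exact MorphismProperty.comp_mem (RepWith (S := S) @IsImmersion) _ _ h1
    (imm_of_open (repWith_pr₁ _ _ j₁.hom @IsOpenImmersion hj₁ _))

end Groth.Agent.S10010
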