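import Groth.Statements.S10022
import Groth.Agent.S10021
import Groth.Agent.S10016
import Groth.Agent.Lib.Seat44DiagBC
import Groth.Agent.S9921
import Groth.Agent.S9874

set_option autoImplicit false
set_option backward.isDefEq.respectTransparency false
set_option backward.isDefEq.respectTransparency.types false
universe u
open CategoryTheory CategoryTheory.Limits AlgebraicGeometry
open AlgSp

namespace Groth.Agent.S10022

open Groth.Agent.Lib.Seat44.DiagBC

/-- Let `S` be a quasi-separated scheme and `B` the limit, in fppf sheaves over `S`, of a cofiltered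
system `(B_i)` of algebraic spaces over `S` whose transition maps are affine; fix an index `i₀` such
that `B_{i₀}` is quasi-compact and quasi-separated over `S`, and a morphism `f₀ : X₀ ⟶ Y₀` of
algebraic spaces over `B_{i₀}` whose source and target are quasi-compact and quasi-separated over
`S`. Write `f_i` (for `i` mapping to `i₀`) and `f` for the base changes of `f₀` to `B_i` and to `B`,
given by pullback squares. If `f` is a monomorphism and `f₀` locally of finite type, then for some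
`i` mapping to `i₀` every such base change `f_i` is a monomorphism. (The published statement allows
any base scheme and uses absolute quasi-separatedness; this row assumes the base quasi-separated,
over which quasi-separatedness relative to the base is the absolute notion.) -/
theorem result (S : Scheme.{u}) [QuasiSeparatedSpace S] {I : Type u} [SmallCategory I] [IsCofiltered I]
    (D : I ⥤ AlgSp.Sp S) (hD : ∀ i, AlgSp.IsAlgSpace (D.obj i))
    (hDa : ∀ (i j : I) (φ : i ⟶ j), AlgSp.IsAffineMor (D.map φ))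
    (c : Cone D) (hc : IsLimit c) (i₀ : I)
    (hBqc : AlgSp.IsQuasiCompactSp (D.obj i₀)) (hBqs : AlgSp.IsQuasiSeparatedSp (D.obj i₀))
    (X₀ Y₀ : AlgSp.Space S) (f₀ : X₀.obj ⟶ Y₀.obj) (b₀ : Y₀.obj ⟶ D.obj i₀)
    (hXqc : AlgSp.IsQuasiCompactSp X₀.obj) (hXqs : AlgSp.IsQuasiSeparatedSp X₀.obj)
    (hYqc : AlgSp.IsQuasiCompactSp Y₀.obj) (hYqs : AlgSp.IsQuasiSeparatedSp Y₀.obj)
    (X Y : AlgSp.Sp S) (f : X ⟶ Y) (pY : Y ⟶ Y₀.obj) (qY : Y ⟶ c.pt)
    (hY : IsPullback pY qY b₀ (c.π.app i₀)) (pX : X ⟶ X₀.obj) (hX : IsPullback pX f f₀ pY)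
    [Mono f] (hf₀ : AlgSp.LocP @LocallyOfFiniteType f₀) :
    ∃ (i : I) (φ : i ⟶ i₀), ∀ (Xi Yi : AlgSp.Sp S) (fi : Xi ⟶ Yi) (pYi : Yi ⟶ Y₀.obj) (qYi : Yi ⟶ D.obj i)
      (_ : IsPullback pYi qYi b₀ (D.map φ)) (pXi : Xi ⟶ X₀.obj) (_ : IsPullback pXi fi f₀ pYi),
      Mono fi := by
  have hP : IsAlgSpace (pullback f₀ f₀) :=
    Groth.Agent.S9874.isAlgSpace_of_isPullback Y₀.property.diag X₀.property X₀.property
      (IsPullback.of_hasPullback f₀ f₀)
  let PP : AlgSp.Space S := ⟨pullback f₀ f₀, hP⟩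
  let ff : X₀ ⟶ Y₀ := ObjectProperty.homMk f₀
  let p1 : PP ⟶ X₀ := ObjectProperty.homMk (pullback.fst f₀ f₀)
  let p2 : PP ⟶ X₀ := ObjectProperty.homMk (pullback.snd f₀ f₀)
  have hPq : IsQuasiCompactSp PP.obj ∧ IsQuasiSeparatedSp PP.obj :=
    Groth.Agent.S9921.result ff ff p1 p2 (IsPullback.of_hasPullback f₀ f₀)
      ⟨hXqc, hXqs⟩ ⟨hYqc, hYqs⟩ ⟨hXqc, hXqs⟩
  haveI hΔ : IsIso (pullback.diagonal f) := inferInstance
  obtain ⟨i, φ, H⟩ := Groth.Agent.S10021.result S D hD hDa c hc i₀ hBqc hBqs X₀ PP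
    (pullback.diagonal f₀) (pullback.snd f₀ f₀ ≫ f₀ ≫ b₀) hXqc hXqs hPq.1 hPq.2
    X (pullback f f) (pullback.diagonal f) (diagMap hX) (pullback.snd f f ≫ f ≫ qY)
    (isPullback_diagMap hY hX) pX (isPullback_diagonal hX)
    (Groth.Agent.S10016.locP_lfp_diagonal X₀ Y₀ f₀ hf₀)
  refine ⟨i, φ, ?_⟩
  intro Xi Yi fi pYi qYi sqY pXi sqX
  refine (pullback.isIso_diagonal_iff fi).1 ?_
  exact H Xi (pullback fi fi) (pullback.diagonal fi) (diagMap sqX) (pullback.snd fi fi ≫ fi ≫ qYi)
    (isPullback_diagMap sqY sqX) pXi (isPullback_diagonal sqX)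

end Groth.Agent.S10022
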