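import Groth.Statements.S10026
import Groth.Agent.S10067

set_option autoImplicit false
universe u
open CategoryTheory CategoryTheory.Limits AlgebraicGeometry
open AlgSp

namespace Groth.Agent.S10026

/-- Let `a : F ⟶ G`, `b : G ⟶ H` be transformations of presheaves of sets on schemes over `S`. If `a ≫
b` and `b` are relatively limit preserving, then so is `a`. -/
theorem result (S : Scheme.{u}) {F G H : AlgSp.PSp S} (a : F ⟶ G) (b : G ⟶ H)
    (hab : AlgSp.IsRelLimitPreserving (a ≫ b)) (hb : AlgSp.IsRelLimitPreserving b) :
    AlgSp.IsRelLimitPreserving a := by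
  rw [Groth.Agent.S10067.result] at hab hb ⊢
  intro I _ _ D c hc hD hT
  have h1 := hab D c hc hD hT
  have h2 := hb D c hc hD hT
  have e : colimMap (Functor.whiskerLeft D.op (a ≫ b)) =
      colimMap (Functor.whiskerLeft D.op a) ≫ colimMap (Functor.whiskerLeft D.op b) := by
    apply colimit.hom_ext
    intro j
    simp
  rw [e] at h1
  refine IsPullback.of_right h1 ?_ h2
  apply colimit.hom_ext
  intro j
  ext x
  simp only [ι_colimMap_assoc, colimit.ι_desc, colimit.ι_desc_assoc]
  exact (NatTrans.naturality_apply a (c.π.app j.unop).op x).symm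

end Groth.Agent.S10026
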