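import Groth.Statements.S10024
import Groth.Agent.Lib.Seat44HomSurj
import Groth.Agent.S9208
import Groth.Agent.S10025
import Groth.Agent.S10026
import Groth.Agent.S9947

set_option autoImplicit false
set_option backward.isDefEq.respectTransparency false
set_option backward.isDefEq.respectTransparency.types false
universe u
open CategoryTheory CategoryTheory.Limits AlgebraicGeometry
open AlgSp

namespace Groth.Agent.S10024

open Groth.Agent.Lib.Seat44.RlpBridge Groth.Agent.Lib.Seat44.HomSurj

/-- a morphism of schemes over `S` whose associated morphism of sheaves is relatively limit preserving is locally of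
finite presentation. -/
theorem lfp_of_isRelLimitPreserving {S : Scheme.{u}} {U V : Over S} (h : U ⟶ V)
    (hh : AlgSp.IsRelLimitPreserving ((AlgSp.yon S).map h).hom) :
    LocallyOfFinitePresentation h.left := by
  have hs := homSurj_of_isRelLimitPreserving _ hh
  apply Groth.Agent.S9208.result
  intro J _ _ _ D t c hc hD j₀ g hg
  -- the composites `c.pt ⟶ D j ⟶ V` are all equal
  have hconst : ∀ j, c.π.app j ≫ t.app j = c.π.app j₀ ≫ t.app j₀ := by
    intro j
    have h1 : ∀ {j j' : Jᵒᵖ} (φ : j ⟶ j'), c.π.app j ≫ t.app j = c.π.app j' ≫ t.app j' := by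
      intro j j' φ
      have hn := t.naturality φ
      simp only [Functor.const_obj_obj, Functor.const_obj_map, Category.comp_id] at hn
      rw [← hn, ← Category.assoc, c.w φ]
    exact (h1 (IsCofiltered.minToLeft j j₀)).symm.trans (h1 (IsCofiltered.minToRight j j₀))
  -- the system over `S`
  let D₀ : Jᵒᵖ ⥤ Over S :=
    { obj := fun j => Over.mk (t.app j ≫ V.hom)
      map := fun {j j'} φ => Over.homMk (D.map φ) (by
        have hn := t.naturality φ
        simp only [Functor.const_obj_obj, Functor.const_obj_map, Category.comp_id] at hn
        change D.map φ ≫ t.app j' ≫ V.hom = t.app j ≫ V.hom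
        rw [← Category.assoc, hn])
      map_id := fun j => by
        ext
        exact D.map_id j
      map_comp := fun φ ψ => by
        ext
        exact D.map_comp φ ψ }
  let c₀ : Cone D₀ :=
    { pt := Over.mk (c.π.app j₀ ≫ t.app j₀ ≫ V.hom)
      π :=
        { app := fun j => Over.homMk (c.π.app j) (by
            change c.π.app j ≫ t.app j ≫ V.hom = c.π.app j₀ ≫ t.app j₀ ≫ V.hom
            rw [← Category.assoc, hconst j, Category.assoc])
          naturality := fun j j' φ => by
            ext
            simp only [Functor.const_obj_obj, Functor.const_obj_map, Category.id_comp]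
            exact (c.w φ).symm } }
  have hlim : IsLimit ((Over.forget S).mapCone c₀) := hc
  haveI : IsAffine c.pt := by
    haveI : ∀ j, IsAffine (D.obj j) := hD
    exact Scheme.isAffine_of_isLimit c hc
  have hgU : g ≫ U.hom = c₀.pt.hom := by
    change g ≫ U.hom = c.π.app j₀ ≫ t.app j₀ ≫ V.hom
    rw [← Over.w h, ← Category.assoc, hg, Category.assoc]
  obtain ⟨k, φ, x', h1, h2⟩ := hs D₀ c₀ hlim hD (inferInstanceAs (IsAffine c.pt)) j₀
    ((AlgSp.yon S).map (Over.homMk (t.app j₀) rfl : D₀.obj j₀ ⟶ V))
    ((AlgSp.yon S).map (Over.homMk g hgU : c₀.pt ⟶ U)) (by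
      rw [← Functor.map_comp, ← Functor.map_comp]
      congr 1
      ext
      exact hg)
  obtain ⟨gk, rfl⟩ := (AlgSp.yon S).map_surjective x'
  refine ⟨k, gk.left, ?_, ?_⟩
  · rw [← Functor.map_comp, ← Functor.map_comp] at h1
    have h1' := congrArg (fun m => m.left) ((AlgSp.yon S).map_injective h1)
    have hn := t.naturality φ
    simp only [Functor.const_obj_obj, Functor.const_obj_map, Category.comp_id] at hn
    exact h1'.trans hn
  · rw [← Functor.map_comp] at h2
    exact congrArg (fun m => m.left) ((AlgSp.yon S).map_injective h2)

/-- A morphism `f : X ⟶ Y` of algebraic spaces over `S` is locally of finite presentation if and only if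
it is limit preserving as a transformation of functors (relatively limit preserving: every fibre
functor over a scheme turns directed limits of affine schemes into colimits). -/
theorem result (S : Scheme.{u}) {X Y : AlgSp.Space S} (f : X ⟶ Y) :
    AlgSp.LocP @LocallyOfFinitePresentation f.hom ↔ AlgSp.IsRelLimitPreserving f.hom.hom := by
  constructor
  · exact isRelLimitPreserving_of_locP X Y f.hom
  · intro hf U V a b h hae hbe e
    have ha : AlgSp.IsRelLimitPreserving a.hom :=
      isRelLimitPreserving_of_locP ⟨(AlgSp.yon S).obj U, IsAlgSpace.yon_obj U⟩ X a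
        (Groth.Agent.S9947.locP_of_repWith_etale @LocallyOfFinitePresentation
          (fun g hg => by haveI := hg; infer_instance) a hae)
    have hb : AlgSp.IsRelLimitPreserving b.hom :=
      isRelLimitPreserving_of_locP ⟨(AlgSp.yon S).obj V, IsAlgSpace.yon_obj V⟩ Y b
        (Groth.Agent.S9947.locP_of_repWith_etale @LocallyOfFinitePresentation
          (fun g hg => by haveI := hg; infer_instance) b hbe)
    have hab : AlgSp.IsRelLimitPreserving (a.hom ≫ f.hom.hom) :=
      Groth.Agent.S10025.result S a.hom f.hom.hom ha hf
    have e' : a.hom ≫ f.hom.hom = ((AlgSp.yon S).map h).hom ≫ b.hom :=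
      congrArg (fun m => m.hom) e
    rw [e'] at hab
    exact lfp_of_isRelLimitPreserving h (Groth.Agent.S10026.result S _ _ hab hb)

end Groth.Agent.S10024
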