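import Groth.Statements.S10028
import Groth.Agent.Lib.Seat44ShfLP

set_option autoImplicit false
universe u
open CategoryTheory CategoryTheory.Limits AlgebraicGeometry
open AlgSp

namespace Groth.Agent.S10028

open Groth.Agent.Lib.Seat44.TopFamily Groth.Agent.Lib.Seat44.ShfLP Opposite

/-- If a presheaf of sets `F` on schemes over `S` is limit preserving, then so is (the underlying
presheaf of) its fppf sheafification. -/
theorem result (S : Scheme.{u}) (F : AlgSp.PSp S) (hF : AlgSp.IsLimitPreserving F) :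
    AlgSp.IsLimitPreserving ((presheafToSheaf (AlgSp.J S) (Type (u + 1))).obj F).obj := by
  have hG : Presieve.IsSheaf (AlgSp.J S)
      ((presheafToSheaf (AlgSp.J S) (Type (u + 1))).obj F).obj :=
    (isSheaf_iff_isSheaf_of_type _ _).1 ((presheafToSheaf (AlgSp.J S) (Type (u + 1))).obj F).property
  have hsurj : ∀ (T : Over S) (g : ((presheafToSheaf (AlgSp.J S) (Type (u + 1))).obj F).obj.obj (op T)),
      ∃ R ∈ JP (@Flat ⊓ @LocallyOfFinitePresentation) S T, ∀ ⦃Z : Over S⦄ (f : Z ⟶ T),
        R.arrows f → ∃ x : F.obj (op Z), (toSheafify (AlgSp.J S) F).app (op Z) x =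
          ((presheafToSheaf (AlgSp.J S) (Type (u + 1))).obj F).obj.map f.op g := by
    intro T g
    refine ⟨Presheaf.imageSieve (toSheafify (AlgSp.J S) F) g, ?_, fun Z f hf => hf⟩
    exact Presheaf.imageSieve_mem (AlgSp.J S) (toSheafify (AlgSp.J S) F) (U := op T) g
  have hinj : ∀ (T : Over S) (x y : F.obj (op T)),
      (toSheafify (AlgSp.J S) F).app (op T) x = (toSheafify (AlgSp.J S) F).app (op T) y →
      ∃ R ∈ JP (@Flat ⊓ @LocallyOfFinitePresentation) S T, ∀ ⦃Z : Over S⦄ (f : Z ⟶ T),
        R.arrows f → F.map f.op x = F.map f.op y := by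
    intro T x y h
    refine ⟨Presheaf.equalizerSieve (F := F) (X := op T) x y, ?_, fun Z f hf => hf⟩
    exact Presheaf.equalizerSieve_mem (AlgSp.J S) (toSheafify (AlgSp.J S) F) (X := op T) x y h
  exact isLimitPreserving_of_locally_bijective (P := @Flat ⊓ @LocallyOfFinitePresentation) adm_fppf F
    ((presheafToSheaf (AlgSp.J S) (Type (u + 1))).obj F).obj (toSheafify (AlgSp.J S) F) hG
    hsurj hinj hF

end Groth.Agent.S10028
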