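import Groth.Statements.S10029
import Groth.Agent.Lib.Seat44FiberShf
import Groth.Agent.S10030

set_option autoImplicit false
set_option backward.isDefEq.respectTransparency false
set_option backward.isDefEq.respectTransparency.types false
universe u
open CategoryTheory CategoryTheory.Limits AlgebraicGeometry
open AlgSp

namespace Groth.Agent.S10029

open Groth.Agent.Lib.Seat44.FiberShf Groth.Agent.Lib.Seat44.FppfFamily Opposite

/-- If `a : F ⟶ G` is a relatively limit preserving transformation of presheaves of sets on schemes over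
`S`, then the induced morphism of fppf sheafifications is relatively limit preserving. -/
theorem result (S : Scheme.{u}) {F G : AlgSp.PSp S} (a : F ⟶ G)
    (ha : AlgSp.IsRelLimitPreserving a) :
    AlgSp.IsRelLimitPreserving ((presheafToSheaf (AlgSp.J S) (Type (u + 1))).map a).hom := by
  intro T y
  have hF' : Presieve.IsSheaf (AlgSp.J S) ((presheafToSheaf (AlgSp.J S) (Type (u + 1))).obj F).obj :=
    (isSheaf_iff_isSheaf_of_type _ _).1 ((presheafToSheaf (AlgSp.J S) (Type (u + 1))).obj F).property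
  have hG' : Presieve.IsSheaf (AlgSp.J S) ((presheafToSheaf (AlgSp.J S) (Type (u + 1))).obj G).obj :=
    (isSheaf_iff_isSheaf_of_type _ _).1 ((presheafToSheaf (AlgSp.J S) (Type (u + 1))).obj G).property
  have hcomm : toSheafify (AlgSp.J S) F ≫ ((presheafToSheaf (AlgSp.J S) (Type (u + 1))).map a).hom =
      a ≫ toSheafify (AlgSp.J S) G := (toSheafify_naturality (AlgSp.J S) a).symm
  have hsurjF : ∀ (T : Over S) (g : ((presheafToSheaf (AlgSp.J S) (Type (u + 1))).obj F).obj.obj (op T)),
      ∃ R ∈ AlgSp.J S T, ∀ ⦃Z : Over S⦄ (f : Z ⟶ T),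
        R.arrows f → ∃ x : F.obj (op Z), (toSheafify (AlgSp.J S) F).app (op Z) x =
          ((presheafToSheaf (AlgSp.J S) (Type (u + 1))).obj F).obj.map f.op g := by
    intro T g
    refine ⟨Presheaf.imageSieve (toSheafify (AlgSp.J S) F) g, ?_, fun Z f hf => hf⟩
    exact Presheaf.imageSieve_mem (AlgSp.J S) (toSheafify (AlgSp.J S) F) (U := op T) g
  have hsurjG : ∀ (T : Over S) (g : ((presheafToSheaf (AlgSp.J S) (Type (u + 1))).obj G).obj.obj (op T)),
      ∃ R ∈ AlgSp.J S T, ∀ ⦃Z : Over S⦄ (f : Z ⟶ T),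
        R.arrows f → ∃ x : G.obj (op Z), (toSheafify (AlgSp.J S) G).app (op Z) x =
          ((presheafToSheaf (AlgSp.J S) (Type (u + 1))).obj G).obj.map f.op g := by
    intro T g
    refine ⟨Presheaf.imageSieve (toSheafify (AlgSp.J S) G) g, ?_, fun Z f hf => hf⟩
    exact Presheaf.imageSieve_mem (AlgSp.J S) (toSheafify (AlgSp.J S) G) (U := op T) g
  have hinjF : ∀ (T : Over S) (x y : F.obj (op T)),
      (toSheafify (AlgSp.J S) F).app (op T) x = (toSheafify (AlgSp.J S) F).app (op T) y →
      ∃ R ∈ AlgSp.J S T, ∀ ⦃Z : Over S⦄ (f : Z ⟶ T),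
        R.arrows f → F.map f.op x = F.map f.op y := by
    intro T x y h
    refine ⟨Presheaf.equalizerSieve (F := F) (X := op T) x y, ?_, fun Z f hf => hf⟩
    exact Presheaf.equalizerSieve_mem (AlgSp.J S) (toSheafify (AlgSp.J S) F) (X := op T) x y h
  have hinjG : ∀ (T : Over S) (x y : G.obj (op T)),
      (toSheafify (AlgSp.J S) G).app (op T) x = (toSheafify (AlgSp.J S) G).app (op T) y →
      ∃ R ∈ AlgSp.J S T, ∀ ⦃Z : Over S⦄ (f : Z ⟶ T),
        R.arrows f → G.map f.op x = G.map f.op y := by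
    intro T x y h
    refine ⟨Presheaf.equalizerSieve (F := G) (X := op T) x y, ?_, fun Z f hf => hf⟩
    exact Presheaf.equalizerSieve_mem (AlgSp.J S) (toSheafify (AlgSp.J S) G) (X := op T) x y h
  -- a covering of `T` over which `y` comes from `G`
  obtain ⟨R, hR, hRim⟩ := hsurjG T y
  obtain ⟨Y, g, hgR, hgfl, hgfp, hgs⟩ := exists_family_of_mem_J R hR
  refine Groth.Agent.S10030.result T.left
    (AlgSp.fiberFun ((presheafToSheaf (AlgSp.J S) (Type (u + 1))).map a).hom T y)
    ((isSheaf_iff_isSheaf_of_type _ _).2 (fiber_isSheaf _ hF' hG' T y))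
    (fun x : T.left => Over.mk (g x).left) (fun x => hgfl x) (fun x => hgfp x)
    (fun s => ?_) (fun x => ?_)
  · obtain ⟨z, hz⟩ := hgs s
    exact ⟨s, z, hz⟩
  · have hmem : R.arrows (overHom T (Over.mk (g x).left)) := by
      have e : overHom T (Over.mk (g x).left) =
          (Over.homMk (𝟙 _) (by simp) : (Over.map T.hom).obj (Over.mk (g x).left) ⟶ Y x) ≫ g x := by
        ext
        simp
      rw [e]
      exact R.downward_closed (hgR x) _
    obtain ⟨y₀, hy₀⟩ := hRim _ hmem
    have hlp := fiber_lp_of_lift a ((presheafToSheaf (AlgSp.J S) (Type (u + 1))).map a).hom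
      (toSheafify (AlgSp.J S) F) (toSheafify (AlgSp.J S) G) hcomm hsurjF hinjF hinjG hF' hG'
      ((Over.map T.hom).obj (Over.mk (g x).left)) y₀ (ha _ y₀)
    rw [hy₀] at hlp
    exact hlp.of_iso (restrictIso _ T y (Over.mk (g x).left)).symm

end Groth.Agent.S10029
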