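import Groth.Statements.S10031
import Groth.Agent.Lib.Seat44SCsch

set_option autoImplicit false
set_option backward.isDefEq.respectTransparency false
set_option backward.isDefEq.respectTransparency.types false
universe u
open CategoryTheory CategoryTheory.Limits AlgebraicGeometry
open AlgSp

namespace Groth.Agent.S10031

open Groth.Agent.Lib.Seat44

/-- A morphism `f : X ⟶ Y` of algebraic spaces over `S` is locally of finite presentation provided that,
whenever an affine scheme `T` over `S` is a cofiltered (e.g. directed) limit of affine schemes `T_i`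
over `S`, each `T`-point of `X` lying over a `T_i`-point of `Y` comes, compatibly with both, from a
`T_{i'}`-point of `X` for some `i'` mapping to `i` (that is, the map from `colim X(T_i)` to `X(T)
×_{Y(T)} colim Y(T_i)` is surjective). -/
theorem result (S : Scheme.{u}) {X Y : AlgSp.Space S} (f : X ⟶ Y)
    (h : ∀ ⦃I : Type u⦄ [SmallCategory I] [IsCofiltered I] (D : I ⥤ Over S) (c : Cone D),
      IsLimit ((Over.forget S).mapCone c) → (∀ i, IsAffine (D.obj i).left) → IsAffine c.pt.left →
      ∀ (x : (AlgSp.yon S).obj c.pt ⟶ X.obj) (i : I) (y : (AlgSp.yon S).obj (D.obj i) ⟶ Y.obj),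
        x ≫ f.hom = (AlgSp.yon S).map (c.π.app i) ≫ y →
        ∃ (i' : I) (φ : i' ⟶ i) (x' : (AlgSp.yon S).obj (D.obj i') ⟶ X.obj),
          (AlgSp.yon S).map (c.π.app i') ≫ x' = x ∧ x' ≫ f.hom = (AlgSp.yon S).map (D.map φ) ≫ y) :
    AlgSp.LocP @LocallyOfFinitePresentation f.hom := by
  intro U V a b hh ha hb comm
  rw [HasRingHomProperty.iff_appLE (P := @LocallyOfFinitePresentation)]
  intro V' U' e
  have key : Spec.map (hh.left.appLE V'.1 U'.1 e) ≫ V'.2.fromSpec = U'.2.fromSpec ≫ hh.left :=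
    IsAffineOpen.SpecMap_appLE_fromSpec hh.left V'.2 U'.2 e
  let σ : Spec Γ(V.left, V'.1) ⟶ S := V'.2.fromSpec ≫ V.hom
  let jU : Over.mk (Spec.map (hh.left.appLE V'.1 U'.1 e) ≫ σ) ⟶ U := Over.homMk U'.2.fromSpec (by
    simp only [Over.mk_left, Over.mk_hom, σ]
    rw [← Over.w hh, ← Category.assoc, ← Category.assoc, key])
  let jV : Over.mk σ ⟶ V := Over.homMk V'.2.fromSpec rfl
  have hjU : RepWith @Etale ((yon S).map jU) :=
    (repWith_yon_map_iff _ _).2 (inferInstance : Etale U'.2.fromSpec)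
  have hjV : RepWith @Etale ((yon S).map jV) :=
    (repWith_yon_map_iff _ _).2 (inferInstance : Etale V'.2.fromSpec)
  have ha'' : RepWith @Etale ((yon S).map jU ≫ a) := (RepWith @Etale).comp_mem _ _ hjU ha
  have hb'' : RepWith @Etale ((yon S).map jV ≫ b) := (RepWith @Etale).comp_mem _ _ hjV hb
  have comm'' : ((yon S).map jU ≫ a) ≫ f.hom =
      (yon S).map (Over.homMk (Spec.map (hh.left.appLE V'.1 U'.1 e)) rfl :
        Over.mk (Spec.map (hh.left.appLE V'.1 U'.1 e) ≫ σ) ⟶ Over.mk σ) ≫ ((yon S).map jV ≫ b) := by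
    have e1 : jU ≫ hh = (Over.homMk (Spec.map (hh.left.appLE V'.1 U'.1 e)) rfl :
        Over.mk (Spec.map (hh.left.appLE V'.1 U'.1 e) ≫ σ) ⟶ Over.mk σ) ≫ jV := by
      ext1
      exact key.symm
    rw [Category.assoc, comm]
    calc (yon S).map jU ≫ (yon S).map hh ≫ b = (yon S).map (jU ≫ hh) ≫ b := by
          rw [Functor.map_comp, Category.assoc]
      _ = _ := by rw [e1, Functor.map_comp, Category.assoc]
  have hSC := SCsch.SCsch_of_chart f.hom h _ _ _ ha'' hb'' comm''
  exact RingSC.finitePresentation_of_SCring _ (SCsch.SCring_of_SCsch _ σ hSC)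

end Groth.Agent.S10031
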