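import Groth.Statements.S10055
import Groth.Agent.S9928
import Groth.Agent.S13210

set_option autoImplicit false
universe u
open CategoryTheory CategoryTheory.Limits AlgebraicGeometry
open AlgSp

namespace Groth.Agent.S10055

/-- Let `(X_i) ⟶ (Y_i)` be a morphism of cofiltered systems of algebraic spaces over `S`, both with
affine transition morphisms, with every `X_i ⟶ Y_i` a closed immersion. Then the induced morphism of
limits (in fppf sheaves) `lim X_i ⟶ lim Y_i` is a closed immersion. -/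
theorem result (S : Scheme.{u}) {I : Type u} [SmallCategory I] [IsCofiltered I]
    (DX DY : I ⥤ AlgSp.Sp S) (hDX : ∀ i, AlgSp.IsAlgSpace (DX.obj i)) (hDY : ∀ i, AlgSp.IsAlgSpace (DY.obj i))
    (hXa : ∀ (i j : I) (φ : i ⟶ j), AlgSp.IsAffineMor (DX.map φ)) (hYa : ∀ (i j : I) (φ : i ⟶ j), AlgSp.IsAffineMor (DY.map φ))
    (τ : DX ⟶ DY) (hτ : ∀ i, AlgSp.RepWith @IsClosedImmersion (τ.app i))
    (cX : Cone DX) (hcX : IsLimit cX) (cY : Cone DY) (hcY : IsLimit cY)
    (g : cX.pt ⟶ cY.pt) (hg : ∀ i, g ≫ cY.π.app i = cX.π.app i ≫ τ.app i) :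
    AlgSp.RepWith @IsClosedImmersion g := by
  have hmono : ∀ i, Mono (τ.app i) := fun i =>
    Groth.Agent.S9928.mono_of_repWith @IsClosedImmersion
      (fun X Y f hf => by have : IsClosedImmersion f := hf; infer_instance) (τ.app i) (hτ i)
  refine MorphismProperty.relative.of_exists (fun T h => ?_)
  -- the closed subschemes `Z_i = T ×_{Y_i} X_i`
  choose Zi ιi pi sqi using fun i => (hτ i).1 (h ≫ cY.π.app i)
  have hcl : ∀ i, IsClosedImmersion (ιi i).left := fun i => (hτ i).2 _ _ _ (sqi i)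
  -- their intersection
  let 𝓘 : T.left.IdealSheafData := ⨆ i, (ιi i).left.ker
  let Z : Over S := Over.mk (𝓘.subschemeι ≫ T.hom)
  let ι : Z ⟶ T := Over.homMk 𝓘.subschemeι rfl
  have hιcl : IsClosedImmersion ι.left := by
    change IsClosedImmersion 𝓘.subschemeι
    infer_instance
  have hle : ∀ i, (ιi i).left.ker ≤ 𝓘.subschemeι.ker := fun i => by
    rw [Scheme.IdealSheafData.ker_subschemeι]
    exact le_iSup (fun i => (ιi i).left.ker) i
  let l : ∀ i, Z ⟶ Zi i := fun i =>
    haveI := hcl i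
    Over.homMk (IsClosedImmersion.lift (ιi i).left 𝓘.subschemeι (hle i)) (by
      have h1 : (Zi i).hom = (ιi i).left ≫ T.hom := (Over.w (ιi i)).symm
      rw [h1, ← Category.assoc, IsClosedImmersion.lift_fac]
      rfl)
  have hl : ∀ i, l i ≫ ιi i = ι := fun i => by
    haveI := hcl i
    ext1
    exact IsClosedImmersion.lift_fac (ιi i).left 𝓘.subschemeι (hle i)
  -- the cone over `DX`
  let q : ∀ i, (AlgSp.yon S).obj Z ⟶ DX.obj i := fun i => (AlgSp.yon S).map (l i) ≫ pi i
  have hqτ : ∀ i, q i ≫ τ.app i = (AlgSp.yon S).map ι ≫ h ≫ cY.π.app i := fun i => by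
    rw [Category.assoc, (sqi i).w, ← Category.assoc, ← Functor.map_comp, hl]
  have hqnat : ∀ ⦃i j : I⦄ (φ : i ⟶ j), q i ≫ DX.map φ = q j := fun i j φ => by
    haveI := hmono j
    rw [← cancel_mono (τ.app j), Category.assoc, τ.naturality φ, ← Category.assoc, hqτ i, hqτ j,
      Category.assoc, Category.assoc, cY.w φ]
  let cone : Cone DX :=
    { pt := (AlgSp.yon S).obj Z
      π := { app := q
             naturality := fun i j φ => by
              simp only [Functor.const_obj_obj, Functor.const_obj_map, Category.id_comp]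
              exact (hqnat φ).symm } }
  let fst : (AlgSp.yon S).obj Z ⟶ cX.pt := hcX.lift cone
  have hfst : ∀ i, fst ≫ cX.π.app i = q i := fun i => hcX.fac cone i
  have hw : fst ≫ g = (AlgSp.yon S).map ι ≫ h := by
    apply hcY.hom_ext
    intro i
    rw [Category.assoc, hg i, ← Category.assoc, hfst, hqτ i, Category.assoc]
  refine ⟨Z, fst, ι, Groth.Agent.S13210.isPullback_of_yon hw ?_, hιcl⟩
  intro T' b c hbc
  obtain ⟨w, rfl⟩ := (AlgSp.yon S).map_surjective c
  -- `w` factors through every `Z_i`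
  have hbi : ∀ i, (b ≫ cX.π.app i) ≫ τ.app i = (AlgSp.yon S).map w ≫ h ≫ cY.π.app i := fun i => by
    rw [Category.assoc, ← hg i, ← Category.assoc, hbc, Category.assoc]
  have hwi : ∀ i, ∃ wi : T' ⟶ Zi i, wi ≫ ιi i = w ∧ (AlgSp.yon S).map wi ≫ pi i = b ≫ cX.π.app i :=
    fun i => by
      obtain ⟨wi, hwi⟩ := (AlgSp.yon S).map_surjective ((sqi i).lift _ _ (hbi i))
      refine ⟨wi, ?_, ?_⟩
      · apply (AlgSp.yon S).map_injective
        rw [Functor.map_comp, hwi, (sqi i).lift_snd]
      · rw [hwi, (sqi i).lift_fst]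
  choose wi hwi1 hwi2 using hwi
  have hker : 𝓘.subschemeι.ker ≤ w.left.ker := by
    rw [Scheme.IdealSheafData.ker_subschemeι]
    refine iSup_le (fun i => ?_)
    have h1 : w.left = (wi i).left ≫ (ιi i).left := by rw [← Over.comp_left, hwi1]
    rw [h1]
    exact Scheme.Hom.le_ker_comp _ _
  haveI : IsClosedImmersion 𝓘.subschemeι := inferInstance
  let w' : T' ⟶ Z := Over.homMk (IsClosedImmersion.lift 𝓘.subschemeι w.left hker) (by
    change _ ≫ 𝓘.subschemeι ≫ T.hom = _
    rw [← Category.assoc, IsClosedImmersion.lift_fac, Over.w])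
  have hw' : w' ≫ ι = w := by
    ext1
    exact IsClosedImmersion.lift_fac 𝓘.subschemeι w.left hker
  haveI : Mono ι.left := by
    change Mono 𝓘.subschemeι
    infer_instance
  haveI : Mono ι := (Over.forget S).mono_of_mono_map ‹_›
  have hmi : ∀ i, Mono (ιi i) := fun i => by
    haveI := hcl i
    haveI : Mono (ιi i).left := inferInstance
    exact (Over.forget S).mono_of_mono_map ‹_›
  refine ⟨(AlgSp.yon S).map w', ⟨?_, ?_⟩, ?_⟩
  · apply hcX.hom_ext
    intro i
    rw [Category.assoc, hfst, ← Category.assoc, ← Functor.map_comp, ← hwi2 i]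
    congr 2
    haveI := hmi i
    rw [← cancel_mono (ιi i), Category.assoc, hl, hw', hwi1]
  · rw [← Functor.map_comp, hw']
  · rintro a' ⟨-, ha'⟩
    obtain ⟨s, rfl⟩ := (AlgSp.yon S).map_surjective a'
    congr 1
    rw [← cancel_mono ι, hw']
    apply (AlgSp.yon S).map_injective
    rw [Functor.map_comp]
    exact ha'

end Groth.Agent.S10055
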