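import Groth.Statements.S10056
import Groth.Agent.Lib.Seat44AffLim2
import Groth.Agent.Lib.Seat48WeakAssRed
import Groth.Agent.Lib.Helper12ZarGlue

set_option autoImplicit false
universe u
open CategoryTheory CategoryTheory.Limits AlgebraicGeometry
open AlgSp

namespace Groth.Agent.S10056

open Groth.Agent.Lib.Seat44.AffLim

/-- A cofiltered limit of reduced affine schemes (with affine apex) is reduced. -/
theorem isReduced_of_isLimit_affine {J : Type u} [SmallCategory J] [IsCofiltered J] (D : J ⥤ Scheme.{u})
    (c : Cone D) (hc : IsLimit c) [∀ j, IsAffine (D.obj j)] [∀ j, IsReduced (D.obj j)]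
    [IsAffine c.pt] : IsReduced c.pt := by
  haveI : _root_.IsReduced Γ(c.pt, ⊤) := by
    constructor
    rintro x ⟨n, hn⟩
    obtain ⟨j, t, rfl⟩ := exists_appTop_π_eq_of_isAffine_of_isLimit D c hc x
    have h1 : (c.π.app j).appTop (t ^ n) = 0 := by rw [map_pow, hn]
    obtain ⟨k, f, hk⟩ := exists_appTop_map_eq_zero_of_isAffine_of_isLimit D c hc j (t ^ n) h1
    rw [map_pow] at hk
    have h0 : (D.map f).appTop t = 0 := IsReduced.eq_zero _ ⟨n, hk⟩
    have h2 : (c.π.app j).appTop t = (c.π.app k).appTop ((D.map f).appTop t) := by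
      rw [← c.w f, Scheme.Hom.comp_appTop]
      rfl
    rw [h2, h0, map_zero]
  exact isReduced_of_isAffine_isReduced c.pt

attribute [local instance] IsCofiltered.isConnected

/-- Let `X` be the limit, in fppf sheaves over `S`, of a cofiltered system `(X_i)` of algebraic spaces
over `S` whose transition maps are affine. If each `X_i` is reduced, then `X` is reduced. (The
published statement does not restate that the transition morphisms are affine; the limit it refers
to is formed under that assumption, which this row states.) -/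
theorem result (S : Scheme.{u}) {I : Type u} [SmallCategory I] [IsCofiltered I]
    (D : I ⥤ AlgSp.Sp S) (hD : ∀ i, AlgSp.IsAlgSpace (D.obj i))
    (hDa : ∀ (i j : I) (φ : i ⟶ j), AlgSp.IsAffineMor (D.map φ))
    (c : Cone D) (hc : IsLimit c)
    (hred : ∀ i, AlgSp.IsReducedSp (D.obj i)) : AlgSp.IsReducedSp c.pt := by
  obtain ⟨i₀⟩ := IsCofiltered.nonempty (C := I)
  obtain ⟨U₀, p₀, hpe, hps, hU₀⟩ := hred i₀
  have haff := isAffineMor_π D hDa c hc i₀
  have hrep : AlgSp.RepWith @IsAffineHom (c.π.app i₀) :=
    Groth.Agent.Lib.Helper12.ZarGlue.repWith_of_affine @IsAffineHom _ (fun Z hZ g => by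
      obtain ⟨W, i, fst, sq, hW⟩ := haff hZ g
      haveI := hZ
      haveI := hW
      exact ⟨W, i, fst, sq, (inferInstance : IsAffineHom i.left)⟩)
  obtain ⟨V, v, fst, sq⟩ := hrep.1 p₀
  refine ⟨V, fst, MorphismProperty.of_isPullback (P := AlgSp.RepWith @Etale) sq.flip hpe,
    MorphismProperty.of_isPullback (P := AlgSp.RepWith @Surjective) sq.flip hps, ?_⟩
  -- `V` is reduced: check on the preimages of the members of an affine cover of `U₀`
  haveI : ∀ a, IsReduced ((U₀.left.affineCover.pullback₁ v.left).X a) := by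
    intro a
    let Z : Over S := Over.mk (U₀.left.affineCover.f a ≫ U₀.hom)
    let z : Z ⟶ U₀ := Over.homMk (U₀.left.affineCover.f a) rfl
    have hZ : IsAffine Z.left := by
      change IsAffine (U₀.left.affineCover.X a)
      infer_instance
    haveI : IsOpenImmersion z.left := by
      change IsOpenImmersion (U₀.left.affineCover.f a)
      infer_instance
    have hze : AlgSp.RepWith @Etale ((AlgSp.yon S).map z) :=
      (AlgSp.repWith_yon_map_iff @Etale z).2 (inferInstance : Etale z.left)
    have hge : AlgSp.RepWith @Etale ((AlgSp.yon S).map z ≫ p₀) :=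
      (AlgSp.RepWith @Etale).comp_mem _ _ hze hpe
    obtain ⟨cW, hcW, fst', hcWa, -, sqW⟩ :=
      exists_affine_pullback D hDa c hc i₀ hZ ((AlgSp.yon S).map z ≫ p₀)
    -- the members of the system `W` are reduced
    have hWred : ∀ j, IsReduced ((W D hDa i₀ hZ ((AlgSp.yon S).map z ≫ p₀) ⋙ Over.forget S).obj j) := by
      intro j
      have h1 : AlgSp.RepWith @Etale (Wfst D hDa i₀ hZ ((AlgSp.yon S).map z ≫ p₀) j) :=
        MorphismProperty.of_isPullback (P := AlgSp.RepWith @Etale)
          (Wsq D hDa i₀ hZ ((AlgSp.yon S).map z ≫ p₀) j).flip hge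
      exact Groth.Agent.Lib.Seat48.WeakAssRed.isReduced_of_isReducedSp (hred j.left) _ h1
    have hWaff : ∀ j, IsAffine ((W D hDa i₀ hZ ((AlgSp.yon S).map z ≫ p₀) ⋙ Over.forget S).obj j) :=
      fun j => Waff D hDa i₀ hZ ((AlgSp.yon S).map z ≫ p₀) j
    haveI : IsAffine ((Over.forget S).mapCone cW).pt := hcWa
    have hlim := isLimitForgetMapCone (W D hDa i₀ hZ ((AlgSp.yon S).map z ≫ p₀))
      (fun j => Waff D hDa i₀ hZ ((AlgSp.yon S).map z ≫ p₀) j) cW hcW
    have hcWred : IsReduced cW.pt.left :=
      isReduced_of_isLimit_affine (W D hDa i₀ hZ ((AlgSp.yon S).map z ≫ p₀) ⋙ Over.forget S)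
        ((Over.forget S).mapCone cW) hlim
    -- compare with the pullback
    have sqP := (IsPullback.of_hasPullback v z).map (AlgSp.yon S)
    have big := sqP.paste_horiz sq
    let e1 : (AlgSp.yon S).obj (pullback v z) ≅ (AlgSp.yon S).obj cW.pt :=
      big.isoIsPullback _ _ sqW
    let e2 : pullback v z ≅ cW.pt := (AlgSp.yon S).preimageIso e1
    let e3 : (pullback v z).left ≅ cW.pt.left := (Over.forget S).mapIso e2
    let e4 : (pullback v z).left ≅ pullback v.left z.left :=
      ((IsPullback.of_hasPullback v z).map (Over.forget S)).isoPullback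
    haveI := hcWred
    exact isReduced_of_isOpenImmersion (e4.symm ≪≫ e3).hom
  exact IsReduced.of_openCover _ (U₀.left.affineCover.pullback₁ v.left)

end Groth.Agent.S10056
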