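import Groth.Statements.S1006
import Groth.Agent.Lib.Seat63CohPerf

set_option autoImplicit false
universe u
open CategoryTheory CategoryTheory.Limits AlgebraicGeometry
attribute [local instance] HasDerivedCategory.standard
open Perf

namespace Groth.Agent.S1006

/-- On a Noetherian scheme X every perfect object of D(O_X) has coherent cohomology sheaves and is
bounded. -/
theorem result (X : Scheme.{u}) [IsNoetherian X] (E : DCoh.D X) (hE : DCoh.IsPerfect E) :
    DCoh.IsCohD E ∧ ∃ a b : ℤ, E.IsGE a ∧ E.IsLE b := by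
  obtain ⟨h1, a, b, ha, hb⟩ := Groth.Agent.Lib.Seat63.CohPerf.dbP_of_perfIn Set.univ E
    ⟨hE, fun _ => Set.subset_univ _⟩
  exact ⟨fun i => (h1 i).1, a, b, ha, hb⟩

end Groth.Agent.S1006
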