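import Groth.Statements.S10060
import Groth.Agent.Lib.Seat44ChartSys
import Groth.Agent.S9943
import Groth.Agent.S10180

set_option autoImplicit false
set_option backward.isDefEq.respectTransparency false
set_option backward.isDefEq.respectTransparency.types false
universe u
open CategoryTheory CategoryTheory.Limits AlgebraicGeometry
open AlgSp

namespace Groth.Agent.S10060

open Groth.Agent.Lib.Seat44.BCSystem Groth.Agent.Lib.Seat44.ChartSys

/-- Let `S` be a quasi-separated scheme, `Y` an algebraic space over `S` which is quasi-compact and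
quasi-separated over `S`, and `X` the limit, in fppf sheaves, of a cofiltered system `(X_i)` of
algebraic spaces over `Y`, each quasi-compact and quasi-separated over `S`, whose transition maps
are affine. If `X ⟶ Y` is affine, then `X_i ⟶ Y` is affine for all `i` mapping to some `i₀`. (The
published statement allows any base scheme and uses absolute quasi-separatedness; this row assumes
the base quasi-separated, over which quasi-separatedness relative to the base is the absolute
notion.) -/
theorem result (S : Scheme.{u}) [QuasiSeparatedSpace S] {I : Type u} [SmallCategory I] [IsCofiltered I]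
    (Y : AlgSp.Space S) (D : I ⥤ AlgSp.Sp S) (hD : ∀ i, AlgSp.IsAlgSpace (D.obj i))
    (t : D ⟶ (Functor.const I).obj Y.obj)
    (hDa : ∀ (i j : I) (φ : i ⟶ j), AlgSp.IsAffineMor (D.map φ))
    (c : Cone D) (hc : IsLimit c) (g : c.pt ⟶ Y.obj) (hg : ∀ i, c.π.app i ≫ t.app i = g)
    (hqc : ∀ i, AlgSp.IsQuasiCompactSp (D.obj i)) (hqs : ∀ i, AlgSp.IsQuasiSeparatedSp (D.obj i))
    (hYqc : AlgSp.IsQuasiCompactSp Y.obj) (hYqs : AlgSp.IsQuasiSeparatedSp Y.obj) (hX : AlgSp.IsAffineMor g) :
    ∃ i₀ : I, ∀ (i : I) (_ : i ⟶ i₀), AlgSp.IsAffineMor (t.app i) := by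
  obtain ⟨V, v, hV, hve, hvs⟩ := Groth.Agent.S10180.exists_affine_chart hYqc
  obtain ⟨i₀, T', hT', ⟨e⟩⟩ := exists_affine_stage_sys Y D t v hD hDa c hc g hg hqc hqs hYqc hYqs hV hX
  refine ⟨i₀, fun i φ => ?_⟩
  obtain ⟨W, iW, e', hW, -⟩ := exists_affine_iso_of_isAffineMor ((sys D t v).map φ)
    (isAffineMor_sys_map Y D t v φ (hDa i i₀ φ)) hT' e
  exact Groth.Agent.S9943.result (X := ⟨D.obj i, hD i⟩) (Y := Y) (ObjectProperty.homMk (t.app i))
    V v hve hvs (pr₁ D t v i) (pr₂ D t v i) (isPullback_pr D t v i)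
    (isAffineMor_of_iso_affine hW hV e' (pr₂ D t v i))

end Groth.Agent.S10060
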