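import Groth.Statements.S10061
import Groth.Agent.Lib.Seat44ChartModel
import Groth.Agent.Lib.Helper12Descent
import Groth.Agent.Lib.Helper12ZarGlue
import Groth.Agent.S10018
import Groth.Agent.S2154
import Groth.Agent.S10127
import Groth.Agent.S10180

set_option autoImplicit false
set_option backward.isDefEq.respectTransparency false
set_option backward.isDefEq.respectTransparency.types false
universe u
open CategoryTheory CategoryTheory.Limits AlgebraicGeometry
open AlgSp

namespace Groth.Agent.S10061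

open Groth.Agent.Lib.Seat44.ChartModel Groth.Agent.Lib.Seat44.LimChart

variable {S : Scheme.{u}}

/-- an integral morphism of sheaves is affine. -/
theorem isAffineMor_of_isIntegralMor {F G : AlgSp.Sp S} (f : F ⟶ G) (hf : AlgSp.IsIntegralMor f) :
    AlgSp.IsAffineMor f := by
  intro Z hZ g
  obtain ⟨W, i, fst, sq, hW, -⟩ := hf hZ g
  exact ⟨W, i, fst, sq, hW⟩

/-- an integral morphism of sheaves is representable by integral morphisms. -/
theorem repWith_isIntegralHom_of_isIntegralMor {F G : AlgSp.Sp S} (f : F ⟶ G)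
    (hf : AlgSp.IsIntegralMor f) : AlgSp.RepWith @IsIntegralHom f :=
  Groth.Agent.Lib.Helper12.ZarGlue.repWith_of_affine @IsIntegralHom f (fun Z hZ g => by
    obtain ⟨W, i, fst, sq, -, hint⟩ := hf hZ g
    exact ⟨W, i, fst, sq, hint⟩)

/-- Let `S` be a quasi-separated scheme, `Y` an algebraic space over `S` which is quasi-compact and
quasi-separated over `S`, and `X` the limit, in fppf sheaves, of a cofiltered system `(X_i)` of
algebraic spaces over `Y`, each quasi-compact and quasi-separated over `S`, whose transition maps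
are finite. If each `X_i ⟶ Y` is locally of finite type and `X ⟶ Y` is integral, then `X_i ⟶ Y` is
finite for all `i` mapping to some `i₀`. (The published statement allows any base scheme and uses
absolute quasi-separatedness; this row assumes the base quasi-separated, over which
quasi-separatedness relative to the base is the absolute notion.) -/
theorem result (S : Scheme.{u}) [QuasiSeparatedSpace S] {I : Type u} [SmallCategory I] [IsCofiltered I]
    (Y : AlgSp.Space S) (D : I ⥤ AlgSp.Sp S) (hD : ∀ i, AlgSp.IsAlgSpace (D.obj i))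
    (t : D ⟶ (Functor.const I).obj Y.obj)
    (hDf : ∀ (i j : I) (φ : i ⟶ j), AlgSp.IsFiniteMor (D.map φ))
    (c : Cone D) (hc : IsLimit c) (g : c.pt ⟶ Y.obj) (hg : ∀ i, c.π.app i ≫ t.app i = g)
    (hqc : ∀ i, AlgSp.IsQuasiCompactSp (D.obj i)) (hqs : ∀ i, AlgSp.IsQuasiSeparatedSp (D.obj i))
    (hYqc : AlgSp.IsQuasiCompactSp Y.obj) (hYqs : AlgSp.IsQuasiSeparatedSp Y.obj)
    (hft : ∀ i, AlgSp.LocP @LocallyOfFiniteType (t.app i)) (hX : AlgSp.IsIntegralMor g) :
    ∃ i₀ : I, ∀ (i : I) (_ : i ⟶ i₀), AlgSp.IsFiniteMor (t.app i) := by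
  obtain ⟨V, v, hV, hve, hvs⟩ := Groth.Agent.S10180.exists_affine_chart hYqc
  have hDa : ∀ (i j : I) (φ : i ⟶ j), AlgSp.IsAffineMor (D.map φ) :=
    fun i j φ => Groth.Agent.S10018.isAffineMor_of_isFiniteMor _ (hDf i j φ)
  have hDfin : ∀ (i j : I) (φ : i ⟶ j), AlgSp.RepWith @IsFinite (D.map φ) :=
    fun i j φ => Groth.Agent.S10018.repWith_isFinite_of_isFiniteMor _ (hDf i j φ)
  have hXint : AlgSp.RepWith @IsIntegralHom g := repWith_isIntegralHom_of_isIntegralMor g hX
  obtain ⟨i₀, WW, tW, cW, a, aInf, hWaff, ⟨hlim⟩, sq1, sq2, sq3⟩ :=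
    exists_chart_model Y D hD t hDa c hc g hg hqc hqs hYqc hYqs hV v
      (isAffineMor_of_isIntegralMor g hX)
  -- the scheme-level system
  let tS : WW ⋙ Over.forget S ⟶ (Functor.const _).obj V.left :=
    { app := fun k => (tW.app k).left
      naturality := fun k k' ψ => by
        have h2 : WW.map ψ ≫ tW.app k' = tW.app k := (tW.naturality ψ).trans (Category.comp_id _)
        exact (congrArg (fun m => m.left) h2).trans (Category.comp_id _).symm }
  have hp : ∀ k, ((Over.forget S).mapCone cW).π.app k ≫ tS.app k =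
      (cW.π.app (Over.mk (𝟙 i₀)) ≫ tW.app (Over.mk (𝟙 i₀))).left := by
    intro k
    let ψ : k ⟶ Over.mk (𝟙 i₀) := Over.homMk k.hom
    have h2 : WW.map ψ ≫ tW.app (Over.mk (𝟙 i₀)) = tW.app k :=
      (tW.naturality ψ).trans (Category.comp_id _)
    have h3 : cW.π.app k ≫ tW.app k = cW.π.app (Over.mk (𝟙 i₀)) ≫ tW.app (Over.mk (𝟙 i₀)) := by
      rw [← h2, ← Category.assoc, cW.w ψ]
    exact congrArg (fun m => m.left) h3
  haveI := hV
  haveI : ∀ (k k' : Over i₀) (ψ : k ⟶ k'),
      IsFinite ((Over.lift (WW ⋙ Over.forget S) tS).map ψ).left :=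
    fun k k' ψ => (hDfin _ _ ψ.left).2 _ _ _ (sq2 ψ).flip
  haveI : ∀ k, CompactSpace ((Over.lift (WW ⋙ Over.forget S) tS).obj k).left := fun k => by
    haveI : IsAffine (WW.obj k).left := hWaff k
    change CompactSpace (WW.obj k).left
    infer_instance
  haveI : ∀ k, QuasiSeparatedSpace ((Over.lift (WW ⋙ Over.forget S) tS).obj k).left := fun k => by
    haveI : IsAffine (WW.obj k).left := hWaff k
    change QuasiSeparatedSpace (WW.obj k).left
    infer_instance
  have hae : ∀ k, RepWith @Etale (a k) := fun k =>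
    MorphismProperty.of_isPullback (P := RepWith @Etale) (sq1 k).flip hve
  haveI : ∀ k, LocallyOfFiniteType ((Over.lift (WW ⋙ Over.forget S) tS).obj k).hom := fun k =>
    hft k.left (a k) v (tW.app k) (hae k) hve (sq1 k).w
  haveI : IsIntegralHom (Over.liftCone (WW ⋙ Over.forget S) tS ((Over.forget S).mapCone cW) _ hp).pt.hom :=
    hXint.2 _ _ _ (sq3 (Over.mk (𝟙 i₀)))
  haveI : Nonempty (Over i₀) := ⟨Over.mk (𝟙 i₀)⟩
  obtain ⟨k₀, hk₀⟩ := Groth.Agent.S2154.result V.left (Over.lift (WW ⋙ Over.forget S) tS)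
    (Over.liftCone (WW ⋙ Over.forget S) tS ((Over.forget S).mapCone cW) _ hp)
    (Over.isLimitLiftCone (WW ⋙ Over.forget S) tS ((Over.forget S).mapCone cW) _ hp hlim)
  -- back to algebraic spaces
  refine ⟨k₀.left, fun i φ => ?_⟩
  have hk : IsFinite (tW.app (Over.mk (φ ≫ k₀.hom))).left :=
    hk₀ (Over.mk (φ ≫ k₀.hom)) (Over.homMk φ)
  have haffk : IsAffineMor (t.app i) := by
    haveI : IsAffine (WW.obj (Over.mk (φ ≫ k₀.hom))).left := hWaff _
    exact Groth.Agent.S9943.result (X := ⟨D.obj i, hD i⟩) (Y := Y)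
      (ObjectProperty.homMk (t.app i)) V v hve hvs (a (Over.mk (φ ≫ k₀.hom)))
      ((yon S).map (tW.app (Over.mk (φ ≫ k₀.hom)))) (sq1 (Over.mk (φ ≫ k₀.hom)))
      (Groth.Agent.Lib.Seat44.MorBasics.isAffineMor_yon_map (tW.app (Over.mk (φ ≫ k₀.hom))))
  haveI := Groth.Agent.Lib.Helper12.descendsAlong_isFinite.{u}
  exact Groth.Agent.S10018.isFiniteMor_of_repWith_isFinite _
    (Groth.Agent.S10127.repWith_of_atlas @IsFinite (t.app i)
      (repWith_isAffineHom_of_isAffineMor _ haffk).1 v hve hvs (tW.app (Over.mk (φ ≫ k₀.hom)))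
      (a (Over.mk (φ ≫ k₀.hom))) (sq1 (Over.mk (φ ≫ k₀.hom))) hk)

end Groth.Agent.S10061
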