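import Groth.Statements.S10289
import Groth.Agent.S9979
import Groth.Agent.S9964
import Groth.Agent.S9912
import Groth.Agent.S10288
import Groth.Agent.Lib.Helper12Proper
-- import your own Groth.Agent.* helpers here

set_option autoImplicit false
universe u
open CategoryTheory CategoryTheory.Limits AlgebraicGeometry
open AlgSp

namespace Groth.Agent.S10289

/-- A quasi-separated universally closed morphism of algebraic spaces meets the existence half of the
valuative criterion. -/
theorem result {S : Scheme.{u}} {X Y : AlgSp.Space S} (f : X ⟶ Y)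
    (hqs : AlgSp.IsQuasiSeparatedMor f.hom) (hc : AlgSp.IsUnivClosedMor f.hom) : AlgSp.ExistVC f.hom := by
  open Groth.Agent.Lib.Helper12.Proper in
  intro sq
  have sqP := IsPullback.of_hasPullback f.hom sq.bot
  have hP : AlgSp.IsAlgSpace (pullback f.hom sq.bot) :=
    Groth.Agent.S9874.isAlgSpace_of_isPullback Y.property.diag X.property
      (AlgSp.IsAlgSpace.yon_obj sq.ptA) sqP
  let x : (AlgSp.yon S).obj sq.ptK ⟶ pullback f.hom sq.bot :=
    pullback.lift sq.top ((AlgSp.yon S).map sq.j) sq.comm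
  have hx1 : x ≫ pullback.fst f.hom sq.bot = sq.top := pullback.lift_fst _ _ _
  have hx2 : x ≫ pullback.snd f.hom sq.bot = (AlgSp.yon S).map sq.j := pullback.lift_snd _ _ _
  -- `x` is quasi-compact
  have hqsA : AlgSp.RepWith @QuasiCompact (pullback.diagonal (pullback.snd f.hom sq.bot)) :=
    (AlgSp.RepWith @QuasiCompact).diagonal.of_isPullback sqP hqs
  have hxqc : AlgSp.IsQuasiCompactMor x := by
    have sqΓ := pullback_lift_diagonal_isPullback x (pullback.snd f.hom sq.bot)
    have hΓ : AlgSp.RepWith @QuasiCompact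
        (pullback.lift (𝟙 _) x (by simp) :
          (AlgSp.yon S).obj sq.ptK ⟶ pullback (x ≫ pullback.snd f.hom sq.bot)
            (pullback.snd f.hom sq.bot)) :=
      MorphismProperty.of_isPullback (P := AlgSp.RepWith @QuasiCompact) sqΓ hqsA
    have hW : AlgSp.IsAlgSpace (pullback (x ≫ pullback.snd f.hom sq.bot)
        (pullback.snd f.hom sq.bot)) :=
      Groth.Agent.S9874.isAlgSpace_of_isPullback (AlgSp.IsAlgSpace.yon_obj sq.ptA).diag
        (AlgSp.IsAlgSpace.yon_obj sq.ptK) hP (IsPullback.of_hasPullback _ _)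
    have e1 : x = (pullback.lift (𝟙 _) x (by simp) :
        (AlgSp.yon S).obj sq.ptK ⟶ pullback (x ≫ pullback.snd f.hom sq.bot)
          (pullback.snd f.hom sq.bot)) ≫ pullback.snd _ _ := by
      rw [pullback.lift_snd]
    rw [e1]
    refine isQuasiCompactMor_comp hW hP _ _
      (Groth.Agent.S9912.isQuasiCompactMor_of_repWith (AlgSp.IsAlgSpace.yon_obj sq.ptK) hW.diag _ hΓ)
      ?_
    have hjqc : AlgSp.IsQuasiCompactMor (x ≫ pullback.snd f.hom sq.bot) := by
      rw [hx2]
      exact Groth.Agent.S9912.isQuasiCompactMor_of_repWith (AlgSp.IsAlgSpace.yon_obj sq.ptK)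
        (AlgSp.IsAlgSpace.yon_obj sq.ptA).diag _
        ((AlgSp.repWith_yon_map_iff @QuasiCompact sq.j).2
          (show QuasiCompact (Spec.map (CommRingCat.ofHom (algebraMap sq.A sq.K))) from
            inferInstance))
    exact isQuasiCompactMor_baseChange (IsPullback.of_hasPullback _ _) hjqc
  -- the scheme theoretic image of `x`
  let PS : AlgSp.Space S := ⟨pullback f.hom sq.bot, hP⟩
  let KS : AlgSp.Space S := ⟨(AlgSp.yon S).obj sq.ptK, AlgSp.IsAlgSpace.yon_obj sq.ptK⟩
  let xS : KS ⟶ PS := ObjectProperty.homMk x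
  obtain ⟨Z, i, hZ⟩ := Groth.Agent.S9964.result xS
  obtain ⟨x', hx'⟩ := hZ.2.1
  have hclA : IsClosedMap (AlgSp.Points.map (pullback.snd f.hom sq.bot)) :=
    hc (AlgSp.IsAlgSpace.yon_obj sq.ptA) sq.bot _ _ sqP
  have hcli : IsClosedMap (AlgSp.Points.map i.hom) :=
    isClosedMap_of_repWith_isClosedImmersion i.hom hZ.1
  have hC : IsClosed (AlgSp.Points.map (pullback.snd f.hom sq.bot) ''
      (Set.range (AlgSp.Points.map i.hom))) :=
    hclA _ (by rw [← Set.image_univ]; exact hcli _ isClosed_univ)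
  have hgen : AlgSp.Points.ofScheme sq.ptA (sq.j.left (IsLocalRing.closedPoint sq.K)) ∈
      AlgSp.Points.map (pullback.snd f.hom sq.bot) '' (Set.range (AlgSp.Points.map i.hom)) := by
    refine ⟨AlgSp.Points.map i.hom (AlgSp.Points.ofPt x' (IsLocalRing.closedPoint sq.K)),
      ⟨_, rfl⟩, ?_⟩
    rw [AlgSp.Points.map_ofPt, hx']
    show AlgSp.Points.map (pullback.snd f.hom sq.bot) (AlgSp.Points.ofPt x _) = _
    rw [AlgSp.Points.map_ofPt, hx2, ← Category.comp_id ((AlgSp.yon S).map sq.j),
      Groth.Agent.S10176.ofPt_map_comp]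
  have hs : AlgSp.Points.ofScheme sq.ptA (IsLocalRing.closedPoint sq.A) ∈
      AlgSp.Points.map (pullback.snd f.hom sq.bot) '' (Set.range (AlgSp.Points.map i.hom)) := by
    have hpre : IsClosed (AlgSp.Points.ofScheme sq.ptA ⁻¹'
        (AlgSp.Points.map (pullback.snd f.hom sq.bot) '' (Set.range (AlgSp.Points.map i.hom)))) :=
      hC.preimage (AlgSp.Points.continuous_ofPt _)
    exact hpre.stableUnderSpecialization
      (IsLocalRing.specializes_closedPoint (sq.j.left (IsLocalRing.closedPoint sq.K))) hgen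
  obtain ⟨_, ⟨z, rfl⟩, hz⟩ := hs
  obtain ⟨A', iA, iD, iV, str', a', x'', h1, h2⟩ := Groth.Agent.S9979.result xS i hxqc hZ z
  obtain ⟨m, hm⟩ := (AlgSp.yon S).map_surjective (a' ≫ i.hom ≫ pullback.snd f.hom sq.bot)
  obtain ⟨n, hn⟩ := (AlgSp.yon S).map_surjective x''
  obtain ⟨φ₀, hφ₀⟩ : ∃ φ₀ : CommRingCat.of sq.A ⟶ CommRingCat.of A', Spec.map φ₀ = m.left :=
    ⟨Spec.preimage m.left, Spec.map_preimage _⟩
  obtain ⟨ψ₀, hψ₀⟩ : ∃ ψ₀ : CommRingCat.of sq.K ⟶ CommRingCat.of (FractionRing A'),
      Spec.map ψ₀ = n.left := ⟨Spec.preimage n.left, Spec.map_preimage _⟩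
  have hstr : str' = Spec.map φ₀ ≫ sq.str := by rw [hφ₀]; exact (Over.w m).symm
  subst hstr
  -- the closed point goes to the closed point
  have hmcp : m.left (IsLocalRing.closedPoint A') = IsLocalRing.closedPoint sq.A := by
    have e1 : AlgSp.Points.ofScheme sq.ptA (m.left (IsLocalRing.closedPoint A')) =
        AlgSp.Points.ofScheme sq.ptA (IsLocalRing.closedPoint sq.A) := by
      rw [← hz, ← h1, AlgSp.Points.map_ofPt, AlgSp.Points.map_ofPt, Category.assoc, ← hm,
        ← Category.comp_id ((AlgSp.yon S).map m), Groth.Agent.S10176.ofPt_map_comp]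
    have e2 := congrArg (AlgSp.Points.toScheme sq.ptA) e1
    rwa [AlgSp.Points.toScheme_ofScheme, AlgSp.Points.toScheme_ofScheme] at e2
  have hcommO : n ≫ sq.j = (Over.homMk (Spec.map (CommRingCat.ofHom
      (algebraMap A' (FractionRing A')))) rfl :
      Over.mk (Spec.map (CommRingCat.ofHom (algebraMap A' (FractionRing A'))) ≫
        Spec.map φ₀ ≫ sq.str) ⟶ Over.mk (Spec.map φ₀ ≫ sq.str)) ≫ m := by
    apply (AlgSp.yon S).map_injective
    have h2' := congrArg (fun k => k ≫ pullback.snd f.hom sq.bot) h2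
    simp only [Category.assoc] at h2'
    rw [Functor.map_comp, Functor.map_comp, hn, hm, ← hx2]
    exact h2'
  have hring : ψ₀.hom.comp (algebraMap sq.A sq.K) =
      (algebraMap A' (FractionRing A')).comp φ₀.hom := by
    have h3 : n.left ≫ sq.j.left = Spec.map (CommRingCat.ofHom
        (algebraMap A' (FractionRing A'))) ≫ m.left := congrArg (fun k => k.left) hcommO
    rw [← hψ₀, ← hφ₀] at h3
    change Spec.map ψ₀ ≫ Spec.map (CommRingCat.ofHom (algebraMap sq.A sq.K)) = _ at h3
    rw [← Spec.map_comp, ← Spec.map_comp] at h3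
    have h4 := Spec.map_injective h3
    exact congrArg (fun k => k.hom) h4
  have hloc : IsLocalHom φ₀.hom := by
    rw [IsLocalRing.isLocalHom_iff_comap_closedPoint]
    have : (Spec.map φ₀) (IsLocalRing.closedPoint A') = IsLocalRing.closedPoint sq.A := by
      rw [hφ₀]; exact hmcp
    exact this
  let e : sq.DomExt :=
    { A' := A', K' := FractionRing A', φ := φ₀.hom, ψ := ψ₀.hom, comm := hring.symm,
      isLocalHom := hloc }
  refine ⟨e, a' ≫ i.hom ≫ pullback.fst f.hom sq.bot, ?_, ?_⟩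
  · have h2' := congrArg (fun k => k ≫ pullback.fst f.hom sq.bot) h2
    simp only [Category.assoc] at h2'
    refine h2'.symm.trans ?_
    show x'' ≫ x ≫ pullback.fst f.hom sq.bot = _
    rw [hx1, ← hn]
    congr 2
    apply Over.OverMorphism.ext
    exact hψ₀.symm
  · have c1 : (a' ≫ i.hom ≫ pullback.fst f.hom sq.bot) ≫ f.hom =
        (a' ≫ i.hom ≫ pullback.snd f.hom sq.bot) ≫ sq.bot := by
      simp only [Category.assoc, pullback.condition]
    rw [c1, ← hm]
    congr 2
    apply Over.OverMorphism.ext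
    exact hφ₀.symm

end Groth.Agent.S10289
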