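import Groth.Statements.S10070
import Mathlib
import Groth.Agent.S9900
import Groth.Agent.S9874
import Groth.Agent.S10534
import Groth.Agent.Lib.Seat43ImmDescent
import Groth.Agent.Lib.Seat43RefinedDvr
import Groth.Agent.Lib.Helper12LocPCases
import Groth.Agent.Lib.Helper4DVRRef2

set_option autoImplicit false
universe u
open CategoryTheory CategoryTheory.Limits AlgebraicGeometry
open AlgSp

namespace Groth.Agent.S10070

/-- Let `h : U ⟶ X`, `f : X ⟶ Y` be morphisms of algebraic spaces over `S` with `Y` locally Noetherian,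
`f` locally of finite type and quasi-separated, `h` of finite type and `|h|` with dense image. If
every valuative test square for `h ≫ f` over a discrete valuation ring admits at most one dotted
arrow `Spec A ⟶ X` (compatible with `Spec K ⟶ U ⟶ X` and with `Spec A ⟶ Y`), then `f` is separated. -/
theorem result (S : Scheme.{u}) {U X Y : AlgSp.Space S} (h : U ⟶ X) (f : X ⟶ Y) (hY : AlgSp.IsLocNoethSp Y.obj)
    (hflt : AlgSp.LocP @LocallyOfFiniteType f.hom) (hfqs : AlgSp.IsQuasiSeparatedMor f.hom) (hh : AlgSp.IsFiniteTypeMor h.hom) (hdense : Dense (Set.range (AlgSp.Points.map h.hom)))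
    (hval : ∀ sq : AlgSp.ValSq (h.hom ≫ f.hom), IsDiscreteValuationRing sq.A →
      ∀ l l' : (AlgSp.yon S).obj sq.ptA ⟶ X.obj, (AlgSp.yon S).map sq.j ≫ l = sq.top ≫ h.hom ∧ l ≫ f.hom = sq.bot → (AlgSp.yon S).map sq.j ≫ l' = sq.top ≫ h.hom ∧ l' ≫ f.hom = sq.bot → l = l') :
    AlgSp.IsSeparatedMor f.hom := by
  have hXX : AlgSp.IsAlgSpace (pullback f.hom f.hom) :=
    Groth.Agent.S9874.isAlgSpace_of_isPullback Y.property.diag X.property X.property
      (IsPullback.of_hasPullback _ _)
  obtain ⟨hrep, hlft, hmono, hsepd, -⟩ := Groth.Agent.S9900.result f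
  have hgood := Groth.Agent.Lib.Helper12.LocPCases.good_lft.{u}
  -- a locally Noetherian atlas of `X ×_Y X`
  obtain ⟨T', p', hp'e, hp's, hT'⟩ : ∃ (T' : Over S)
      (p' : (AlgSp.yon S).obj T' ⟶ pullback f.hom f.hom),
      AlgSp.RepWith @Etale p' ∧ AlgSp.RepWith @Surjective p' ∧ IsLocallyNoetherian T'.left := by
    obtain ⟨T₀, q, hqe, hqs'⟩ := hXX.atlas
    obtain ⟨V₀, p₀, hp₀e, hp₀s, hV₀⟩ := hY
    have hg : AlgSp.LocP @LocallyOfFiniteType (pullback.snd f.hom f.hom ≫ f.hom) :=
      hgood.locP_comp X.property Y.property _ _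
        (hgood.locP_baseChange X.property Y.property X.property
          (IsPullback.of_hasPullback f.hom f.hom) hflt) hflt
    obtain ⟨c, hc⟩ : ∃ c : (AlgSp.yon S).obj T₀ ⟶ Y.obj,
        c = q ≫ pullback.snd f.hom f.hom ≫ f.hom := ⟨_, rfl⟩
    have sq₀ := hp₀e.rep.isPullback' c
    have hsnd_e : Etale (hp₀e.rep.snd c).left := hp₀e.property_snd c
    have hsnd_s : Surjective (hp₀e.rep.snd c).left := hp₀s.2 c _ _ (hp₀e.rep.isPullback c)
    have hae : AlgSp.RepWith @Etale ((AlgSp.yon S).map (hp₀e.rep.snd c) ≫ q) :=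
      (AlgSp.repWith_isMultiplicative (S := S) @Etale).comp_mem _ _
        ((AlgSp.repWith_yon_map_iff @Etale _).2 hsnd_e) hqe
    have has : AlgSp.RepWith @Surjective ((AlgSp.yon S).map (hp₀e.rep.snd c) ≫ q) :=
      (AlgSp.repWith_isMultiplicative (S := S) @Surjective).comp_mem _ _
        ((AlgSp.repWith_yon_map_iff @Surjective _).2 hsnd_s) hqs'
    have hfst_lft : LocallyOfFiniteType (hp₀e.rep.fst' c).left :=
      hg ((AlgSp.yon S).map (hp₀e.rep.snd c) ≫ q) p₀ (hp₀e.rep.fst' c) hae hp₀e (by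
        rw [Category.assoc, ← hc]; exact sq₀.w.symm)
    haveI : IsLocallyNoetherian V₀.left := hV₀
    exact ⟨hp₀e.rep.pullback c, _, hae, has,
      LocallyOfFiniteType.isLocallyNoetherian (hp₀e.rep.fst' c).left⟩
  -- the base change of the diagonal to the atlas
  obtain ⟨W, w, pr, psq⟩ : ∃ (W : Over S) (w : W ⟶ T') (pr : (AlgSp.yon S).obj W ⟶ X.obj),
      IsPullback pr ((AlgSp.yon S).map w) (pullback.diagonal f.hom) p' :=
    ⟨hrep.pullback p', hrep.snd p', hrep.fst p', hrep.isPullback p'⟩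
  haveI : LocallyOfFiniteType w.left := hlft.2 p' pr w psq
  haveI : Mono w.left := hmono.2 p' pr w psq
  haveI : IsSeparated w.left := hsepd.2 p' pr w psq
  haveI : QuasiCompact w.left := hfqs.2 p' pr w psq
  haveI : IsLocallyNoetherian W.left := LocallyOfFiniteType.isLocallyNoetherian w.left
  have hpre : AlgSp.RepWith @Etale pr :=
    (AlgSp.repWith_isStableUnderBaseChange (S := S) @Etale).of_isPullback psq.flip hp'e
  have hpa : pr = (AlgSp.yon S).map w ≫ p' ≫ pullback.fst f.hom f.hom := by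
    have := psq.w =≫ pullback.fst f.hom f.hom
    rwa [Category.assoc, pullback.diagonal_fst, Category.comp_id, Category.assoc] at this
  have hpb : pr = (AlgSp.yon S).map w ≫ p' ≫ pullback.snd f.hom f.hom := by
    have := psq.w =≫ pullback.snd f.hom f.hom
    rwa [Category.assoc, pullback.diagonal_snd, Category.comp_id, Category.assoc] at this
  have hex : ValuativeCriterion.Existence w.left := by
    refine Groth.Agent.Lib.Helper4.DVRRef.existence_of_dvr_refined w.left (fun x => ?_)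
    obtain ⟨U₂, k, t, u₂, htk, hklft, hspec⟩ :=
      Groth.Agent.Lib.Seat43.RefinedDvr.exists_generic_chart_point h hh hdense W pr hpre x
    haveI := hklft
    refine ⟨k.left u₂, hspec, U₂.left.residueField u₂, inferInstance, k.left.residueFieldMap u₂,
      RingHom.EssFiniteType.residueFieldMap (LocallyOfFiniteType.stalkMap k.left u₂), ?_⟩
    intro V hV y hy
    haveI := hV
    rw [← Category.assoc, Scheme.Hom.SpecMap_residueFieldMap_fromSpecResidueField,
      Category.assoc] at hy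
    rw [Scheme.Hom.SpecMap_residueFieldMap_fromSpecResidueField]
    obtain ⟨xL, hxL⟩ : ∃ xL : Spec (CommRingCat.of (U₂.left.residueField u₂)) ⟶ U₂.left,
        xL = U₂.left.fromSpecResidueField u₂ := ⟨_, rfl⟩
    rw [← hxL] at hy ⊢
    have hi₀ : xL ≫ U₂.hom =
        Spec.map (CommRingCat.ofHom (algebraMap V (U₂.left.residueField u₂))) ≫ y ≫ T'.hom := by
      have h1 := hy =≫ T'.hom
      rw [Category.assoc, Category.assoc, Category.assoc, Over.w w, Over.w k] at h1
      exact h1.symm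
    let i₂' : Over.mk (y ≫ T'.hom) ⟶ T' := Over.homMk y rfl
    let jj : Over.mk (Spec.map (CommRingCat.ofHom (algebraMap V (U₂.left.residueField u₂))) ≫
        y ≫ T'.hom) ⟶ Over.mk (y ≫ T'.hom) :=
      Over.homMk (Spec.map (CommRingCat.ofHom (algebraMap V (U₂.left.residueField u₂)))) rfl
    let iU : Over.mk (Spec.map (CommRingCat.ofHom (algebraMap V (U₂.left.residueField u₂))) ≫
        y ≫ T'.hom) ⟶ U₂ := Over.homMk xL hi₀
    have hcomm' : (iU ≫ k) ≫ w = jj ≫ i₂' := by
      apply Over.OverMorphism.ext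
      show (xL ≫ k.left) ≫ w.left = _ ≫ y
      rw [Category.assoc]
      exact hy.symm
    have e : (AlgSp.yon S).map jj ≫ (AlgSp.yon S).map i₂' =
        (AlgSp.yon S).map (iU ≫ k) ≫ (AlgSp.yon S).map w := by
      rw [← Functor.map_comp, ← Functor.map_comp, hcomm']
    obtain ⟨l₁, hl₁⟩ : ∃ l₁ : (AlgSp.yon S).obj (Over.mk (y ≫ T'.hom)) ⟶ X.obj,
        l₁ = (AlgSp.yon S).map i₂' ≫ p' ≫ pullback.fst f.hom f.hom := ⟨_, rfl⟩
    obtain ⟨l₂, hl₂⟩ : ∃ l₂ : (AlgSp.yon S).obj (Over.mk (y ≫ T'.hom)) ⟶ X.obj,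
        l₂ = (AlgSp.yon S).map i₂' ≫ p' ≫ pullback.snd f.hom f.hom := ⟨_, rfl⟩
    have htop : ((AlgSp.yon S).map iU ≫ t) ≫ h.hom = (AlgSp.yon S).map (iU ≫ k) ≫ pr := by
      rw [Category.assoc, htk, Functor.map_comp, Category.assoc]
    have hj1 : (AlgSp.yon S).map jj ≫ l₁ = (AlgSp.yon S).map (iU ≫ k) ≫ pr := by
      rw [hl₁, hpa]
      simpa only [Category.assoc] using e =≫ (p' ≫ pullback.fst f.hom f.hom)
    have hj2 : (AlgSp.yon S).map jj ≫ l₂ = (AlgSp.yon S).map (iU ≫ k) ≫ pr := by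
      rw [hl₂, hpb]
      simpa only [Category.assoc] using e =≫ (p' ≫ pullback.snd f.hom f.hom)
    have hf12 : l₁ ≫ f.hom = l₂ ≫ f.hom := by
      rw [hl₁, hl₂]
      simp only [Category.assoc, pullback.condition]
    have hcomm : ((AlgSp.yon S).map iU ≫ t) ≫ h.hom ≫ f.hom =
        (AlgSp.yon S).map jj ≫ l₁ ≫ f.hom :=
      calc ((AlgSp.yon S).map iU ≫ t) ≫ h.hom ≫ f.hom
          = (((AlgSp.yon S).map iU ≫ t) ≫ h.hom) ≫ f.hom := (Category.assoc _ _ _).symm
        _ = ((AlgSp.yon S).map jj ≫ l₁) ≫ f.hom := by rw [htop, ← hj1]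
        _ = (AlgSp.yon S).map jj ≫ l₁ ≫ f.hom := Category.assoc _ _ _
    let vsq : AlgSp.ValSq (h.hom ≫ f.hom) :=
      { A := V, K := U₂.left.residueField u₂, str := y ≫ T'.hom,
        top := (AlgSp.yon S).map iU ≫ t,
        bot := l₁ ≫ f.hom,
        comm := hcomm }
    have huniq : l₁ = l₂ := hval vsq (inferInstanceAs (IsDiscreteValuationRing V)) l₁ l₂
      ⟨hj1.trans htop.symm, rfl⟩ ⟨hj2.trans htop.symm, hf12.symm⟩
    have hd : l₁ ≫ pullback.diagonal f.hom = (AlgSp.yon S).map i₂' ≫ p' := by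
      apply pullback.hom_ext
      · rw [Category.assoc, pullback.diagonal_fst, Category.comp_id, hl₁, Category.assoc]
      · rw [Category.assoc, pullback.diagonal_snd, Category.comp_id, huniq, hl₂, Category.assoc]
    obtain ⟨s, hs⟩ := (AlgSp.yon S).map_surjective (psq.lift l₁ ((AlgSp.yon S).map i₂') hd)
    have hsw : s ≫ w = i₂' := by
      apply (AlgSp.yon S).map_injective
      rw [Functor.map_comp, hs, psq.lift_snd]
    have hsl : s.left ≫ w.left = y := by
      rw [← Over.comp_left, hsw]; rfl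
    refine ⟨s.left, hsl, ?_⟩
    rw [← cancel_mono w.left, Category.assoc, hsl, Category.assoc]
    exact hy
  haveI : UniversallyClosed w.left := UniversallyClosed.of_valuativeCriterion w.left hex
  haveI : IsProper w.left := { }
  have hci : IsClosedImmersion w.left :=
    (IsClosedImmersion.iff_isProper_and_mono w.left).2 ⟨inferInstance, inferInstance⟩
  exact Groth.Agent.Lib.Seat43.ImmDescent.of_chart (AlgSp.RepWith @IsClosedImmersion)
    (Groth.Agent.S10534.result S) X.property hXX (pullback.diagonal f.hom) T' p' hp'e hp's pr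
    ((AlgSp.yon S).map w) psq ((AlgSp.repWith_yon_map_iff @IsClosedImmersion w).2 hci)

end Groth.Agent.S10070
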