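import Groth.Statements.S10072
import Mathlib
import Groth.Agent.Lib.Seat43SepLemma
import Groth.Agent.Lib.Seat47SmLift
import Groth.Agent.Lib.Helper15LocEss
import Groth.Agent.Lib.Helper12LocPCases
import Groth.Agent.S9947

set_option autoImplicit false
universe u
open CategoryTheory CategoryTheory.Limits AlgebraicGeometry
open AlgSp

namespace Groth.Agent.S10072

/-- Let `f : X ⟶ Y` be quasi-compact, `g : Z ⟶ Y` a morphism of algebraic spaces over `S`, `P = X ×_Y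
Z`, `z ∈ |Z|` and `T ⊂ |P|` closed with `z` not in the image of `T`. Then there are an affine etale
neighbourhood `(V, v) ⟶ (Z, z)`, an affine scheme `Z'` with `b : Z' ⟶ Y` locally of finite
presentation and `a : V ⟶ Z'` over `Y`, and for every fibre product `P' = X ×_Y Z'` a closed `T' ⊂
|P'|` whose image in `|Z'|` misses `a(v)` and which contains the image of the inverse image of `T`
in `|X ×_Y V|`. (The variant with `V` an open neighbourhood when `Z` is a scheme is not included.) -/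
theorem result (S : Scheme.{u}) {X Y Z : AlgSp.Space S} (f : X ⟶ Y) (g : Z ⟶ Y)
    (hf : AlgSp.IsQuasiCompactMor f.hom)
    (P : AlgSp.Sp S) (p₁ : P ⟶ X.obj) (p₂ : P ⟶ Z.obj) (hP : IsPullback p₁ p₂ f.hom g.hom)
    (z : AlgSp.Points Z.obj) (T : Set (AlgSp.Points P)) (hT : IsClosed T) (hz : z ∉ AlgSp.Points.map p₂ '' T) :
    ∃ (V : Over S) (_ : IsAffine V.left) (e : (AlgSp.yon S).obj V ⟶ Z.obj) (_ : AlgSp.RepWith @Etale e) (v : ↥V.left)
      (_ : AlgSp.Points.map e (AlgSp.Points.schemeEquiv V v) = z)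
      (Z' : Over S) (_ : IsAffine Z'.left) (b : (AlgSp.yon S).obj Z' ⟶ Y.obj) (_ : AlgSp.LocP @LocallyOfFinitePresentation b)
      (a : V ⟶ Z') (_ : (AlgSp.yon S).map a ≫ b = e ≫ g.hom),
      ∀ (P' : AlgSp.Sp S) (q₁ : P' ⟶ X.obj) (q₂ : P' ⟶ (AlgSp.yon S).obj Z'), IsPullback q₁ q₂ f.hom b →
        ∃ T' : Set (AlgSp.Points P'), IsClosed T' ∧
          AlgSp.Points.schemeEquiv Z' (a.left v) ∉ AlgSp.Points.map q₂ '' T' ∧
          ∀ (PV : AlgSp.Sp S) (r₁ : PV ⟶ X.obj) (r₂ : PV ⟶ (AlgSp.yon S).obj V), IsPullback r₁ r₂ f.hom (e ≫ g.hom) →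
            ∀ (κ₁ : PV ⟶ P) (κ₂ : PV ⟶ P'), κ₁ ≫ p₁ = r₁ → κ₁ ≫ p₂ = r₂ ≫ e → κ₂ ≫ q₁ = r₁ → κ₂ ≫ q₂ = r₂ ≫ (AlgSp.yon S).map a →
              ∀ w : AlgSp.Points PV, AlgSp.Points.map κ₁ w ∈ T → AlgSp.Points.map κ₂ w ∈ T' := by
  open Groth.Agent.Lib.Seat43.SepCore Groth.Agent.Lib.Seat43.SepLemma in
  -- an affine étale chart of `Y` through the image of `z`
  obtain ⟨R, _, sR, cY, y₀, hcYe, hy₀⟩ :=
    Groth.Agent.Lib.Seat47.SmLift.exists_affine_chart Y.property (AlgSp.Points.map g.hom z)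
  -- the fibre product `Z ×_Y Spec R` and a point over `z`
  have sqZ := IsPullback.of_hasPullback g.hom cY
  have hZ₁ : AlgSp.IsAlgSpace (pullback g.hom cY) :=
    Groth.Agent.S9874.isAlgSpace_of_isPullback Y.property.diag Z.property
      (AlgSp.IsAlgSpace.yon_obj _) sqZ
  obtain ⟨z₁, hz₁a, -⟩ := Groth.Agent.S10175.exists_point_of_isPullback sqZ z
    (AlgSp.Points.schemeEquiv _ y₀) (by
      rw [← hy₀, AlgSp.Points.ofPt_eq_map_ofScheme]; rfl)
  obtain ⟨C, _, _, cV, v, hcVe, hcVv, hcVf⟩ :=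
    exists_ring_chart_point sR (pullback.snd g.hom cY) hZ₁ z₁
  have hfste : AlgSp.RepWith @Etale (pullback.fst g.hom cY) :=
    (AlgSp.repWith_isStableUnderBaseChange (S := S) @Etale).of_isPullback sqZ.flip hcYe
  have hee : AlgSp.RepWith @Etale (cV ≫ pullback.fst g.hom cY) :=
    (AlgSp.repWith_isMultiplicative (S := S) @Etale).comp_mem _ _ hcVe hfste
  have heg : (cV ≫ pullback.fst g.hom cY) ≫ g.hom = (AlgSp.yon S).map (toBase sR C) ≫ cY := by
    rw [Category.assoc, pullback.condition, ← Category.assoc, hcVf]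
  have hev : AlgSp.Points.map (cV ≫ pullback.fst g.hom cY) (AlgSp.Points.schemeEquiv (ov sR C) v)
      = z := by
    rw [AlgSp.Points.map_comp]
    have : AlgSp.Points.map cV (AlgSp.Points.schemeEquiv (ov sR C) v) = AlgSp.Points.ofPt cV v := by
      rw [AlgSp.Points.ofPt_eq_map_ofScheme]; rfl
    rw [this, hcVv, hz₁a]
  -- the fibre product over the chart and the closed subset
  have sqV := IsPullback.of_hasPullback f.hom ((AlgSp.yon S).map (toBase sR C) ≫ cY)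
  obtain ⟨κ₀, hκ₀a, hκ₀b⟩ : ∃ κ₀ : pullback f.hom ((AlgSp.yon S).map (toBase sR C) ≫ cY) ⟶ P,
      κ₀ ≫ p₁ = pullback.fst _ _ ∧
      κ₀ ≫ p₂ = pullback.snd _ _ ≫ cV ≫ pullback.fst g.hom cY := by
    have hw : pullback.fst f.hom ((AlgSp.yon S).map (toBase sR C) ≫ cY) ≫ f.hom =
        (pullback.snd f.hom ((AlgSp.yon S).map (toBase sR C) ≫ cY) ≫
          cV ≫ pullback.fst g.hom cY) ≫ g.hom := by
      rw [Category.assoc, heg]
      exact pullback.condition
    exact ⟨hP.lift _ _ hw, hP.lift_fst _ _ hw, hP.lift_snd _ _ hw⟩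
  have hTV : IsClosed (AlgSp.Points.map κ₀ ⁻¹' T) := hT.preimage (AlgSp.Points.continuous_map κ₀)
  have hv : AlgSp.Points.schemeEquiv (ov sR C) v ∉
      AlgSp.Points.map (pullback.snd f.hom ((AlgSp.yon S).map (toBase sR C) ≫ cY)) ''
        (AlgSp.Points.map κ₀ ⁻¹' T) := by
    rintro ⟨w, hw, hwv⟩
    apply hz
    refine ⟨AlgSp.Points.map κ₀ w, hw, ?_⟩
    rw [← AlgSp.Points.map_comp, hκ₀b, AlgSp.Points.map_comp, hwv, hev]
  obtain ⟨k, φ, H⟩ := sep_general sR f hf cY C _ _ sqV _ hTV v hv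
  -- assemble
  have hlfp : AlgSp.LocP @LocallyOfFinitePresentation
      ((AlgSp.yon S).map (toBase sR (MvPolynomial (ULift.{u} (Fin k)) R)) ≫ cY) := by
    have hgood := Groth.Agent.Lib.Helper12.LocPCases.good_lfp.{u}
    refine hgood.locP_comp (AlgSp.IsAlgSpace.yon_obj _) Y.property _ _ ?_
      (Groth.Agent.S9947.locP_of_repWith_etale _ hgood.hEt cY hcYe)
    refine Groth.Agent.Lib.Helper15LocEss.locP_yon_map_of_lfp _ ?_
    show LocallyOfFinitePresentation (Spec.map (CommRingCat.ofHom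
      (algebraMap R (MvPolynomial (ULift.{u} (Fin k)) R))))
    rw [HasRingHomProperty.Spec_iff (P := @LocallyOfFinitePresentation)]
    show (algebraMap R (MvPolynomial (ULift.{u} (Fin k)) R)).FinitePresentation
    rw [RingHom.finitePresentation_algebraMap]
    infer_instance
  have hab : (AlgSp.yon S).map (ovMap sR φ) ≫
      (AlgSp.yon S).map (toBase sR (MvPolynomial (ULift.{u} (Fin k)) R)) ≫ cY =
      (cV ≫ pullback.fst g.hom cY) ≫ g.hom := by
    rw [heg, ← Category.assoc, ← Functor.map_comp, ovMap_toBase]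
  refine ⟨ov sR C, inferInstanceAs (IsAffine (Spec (CommRingCat.of C))),
    cV ≫ pullback.fst g.hom cY, hee, v, hev,
    ov sR (MvPolynomial (ULift.{u} (Fin k)) R),
    inferInstanceAs (IsAffine (Spec (CommRingCat.of (MvPolynomial (ULift.{u} (Fin k)) R)))),
    (AlgSp.yon S).map (toBase sR (MvPolynomial (ULift.{u} (Fin k)) R)) ≫ cY, hlfp,
    ovMap sR φ, hab, ?_⟩
  intro P' q₁ q₂ hP'
  obtain ⟨T', hT'c, hT'v, hT'⟩ := H P' q₁ q₂ hP'
  refine ⟨T', hT'c, hT'v, ?_⟩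
  intro PV r₁ r₂ hPV κ₁ κ₂ h1 h2 h3 h4 w hw
  -- compare `PV` with the chosen fibre product
  have hθw : r₁ ≫ f.hom = r₂ ≫ (AlgSp.yon S).map (toBase sR C) ≫ cY := by
    rw [← heg]; exact hPV.w
  obtain ⟨θ, hθ1, hθ2⟩ : ∃ θ : PV ⟶ pullback f.hom ((AlgSp.yon S).map (toBase sR C) ≫ cY),
      θ ≫ pullback.fst _ _ = r₁ ∧ θ ≫ pullback.snd _ _ = r₂ :=
    ⟨pullback.lift r₁ r₂ hθw, pullback.lift_fst _ _ _, pullback.lift_snd _ _ _⟩
  have hκ₁ : κ₁ = θ ≫ κ₀ := by
    apply hP.hom_ext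
    · rw [h1, Category.assoc, hκ₀a, hθ1]
    · rw [h2, Category.assoc, hκ₀b, ← hθ2, Category.assoc]
  have hw₂ : pullback.fst f.hom ((AlgSp.yon S).map (toBase sR C) ≫ cY) ≫ f.hom =
      (pullback.snd f.hom ((AlgSp.yon S).map (toBase sR C) ≫ cY) ≫
        (AlgSp.yon S).map (ovMap sR φ)) ≫
        (AlgSp.yon S).map (toBase sR (MvPolynomial (ULift.{u} (Fin k)) R)) ≫ cY := by
    rw [Category.assoc, hab, heg]
    exact pullback.condition
  have hκ₂ : κ₂ = θ ≫ hP'.lift _ _ hw₂ := by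
    apply hP'.hom_ext
    · rw [h3, Category.assoc, hP'.lift_fst, hθ1]
    · rw [h4, Category.assoc, hP'.lift_snd, ← hθ2, Category.assoc]
  rw [hκ₂, AlgSp.Points.map_comp]
  refine hT' _ (hP'.lift_fst _ _ hw₂) (hP'.lift_snd _ _ hw₂) _ ?_
  show AlgSp.Points.map κ₀ (AlgSp.Points.map θ w) ∈ T
  rw [← AlgSp.Points.map_comp, ← hκ₁]
  exact hw

end Groth.Agent.S10072
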