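import Groth.Statements.S10077
import Groth.Agent.Lib.Seat44SysHom
import Groth.Agent.Lib.Seat44HomSurj
import Groth.Agent.S10024
import Groth.Agent.S10006

set_option autoImplicit false
set_option backward.isDefEq.respectTransparency false
set_option backward.isDefEq.respectTransparency.types false
universe u
open CategoryTheory CategoryTheory.Limits AlgebraicGeometry
open AlgSp

namespace Groth.Agent.S10077

open Groth.Agent.Lib.Seat44.RlpBridge Groth.Agent.Lib.Seat44.HomSurj Groth.Agent.Lib.Seat44.SysHom
  Groth.Agent.Lib.Seat44.HomDescRel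

attribute [local instance] IsCofiltered.isConnected

/-- A morphism `f : X ⟶ Y` of algebraic spaces over `S` is locally of finite presentation if and only if
for every directed limit `T = lim T_i` of algebraic spaces over `S`, each quasi-compact and
quasi-separated over `S`, with affine transition maps, the square formed by `colim Mor(T_i, X) →
Mor(T, X)`, `colim Mor(T_i, Y) → Mor(T, Y)` and composition with `f` is cartesian in sets. (The
published statement allows any base scheme and uses absolute quasi-separatedness; this row assumes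
the base quasi-separated, over which quasi-separatedness relative to the base is the absolute
notion.) -/
theorem result (S : Scheme.{u}) [QuasiSeparatedSpace S]
    {X Y : AlgSp.Space S} (f : X ⟶ Y) :
    AlgSp.LocP @LocallyOfFinitePresentation f.hom ↔
      ∀ ⦃I : Type u⦄ [SmallCategory I] [IsCofiltered I] (D : I ⥤ AlgSp.Sp S),
        (∀ i, AlgSp.IsAlgSpace (D.obj i)) → (∀ (i j : I) (φ : i ⟶ j), AlgSp.IsAffineMor (D.map φ)) →
        (∀ i, AlgSp.IsQuasiCompactSp (D.obj i)) → (∀ i, AlgSp.IsQuasiSeparatedSp (D.obj i)) →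
        ∀ (c : Cone D) (_ : IsLimit c),
          IsPullback (colimMap (Functor.whiskerLeft D.op (yoneda.map f.hom)))
            (colimit.desc (D.op ⋙ yoneda.obj X.obj) ((yoneda.obj X.obj).mapCocone c.op))
            (colimit.desc (D.op ⋙ yoneda.obj Y.obj) ((yoneda.obj Y.obj).mapCocone c.op))
            ((yoneda.map f.hom).app (Opposite.op c.pt)) := by
  constructor
  · intro hf I _ _ D hD hDa hqc hqs c hc
    have hs : HomSurj f.hom := homSurj_of_locP X Y f.hom hf
    have hi : HomInj f.hom := homInj_of_locP X Y f.hom (fun A B a b m ha hb e => by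
      haveI := hf a b m ha hb e
      infer_instance)
    rw [isPullback_yoneda_iff]
    exact ⟨fun j y x hx => sysSurj_of_hom D hD hDa c hc f.hom hs hi j (hqc j) (hqs j) y x hx,
      fun j x x' h1 h2 => sysInj_of_hom D hDa c hc f.hom hi j (hqc j) x x' h1 h2⟩
  · intro H
    rw [Groth.Agent.S10024.result]
    have key : ∀ ⦃I : Type u⦄ [SmallCategory I] [IsCofiltered I] (D₀ : I ⥤ Over S) (c₀ : Cone D₀),
        IsLimit ((Over.forget S).mapCone c₀) → (∀ i, IsAffine (D₀.obj i).left) →
        SysSurj f.hom (D₀ ⋙ yon S) ((yon S).mapCone c₀) ∧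
          SysInj f.hom (D₀ ⋙ yon S) ((yon S).mapCone c₀) := by
      intro I _ _ D₀ c₀ hc₀ hD₀
      have hc₀' : IsLimit c₀ := isLimitOfReflects (Over.forget S) hc₀
      have hc : IsLimit ((yon S).mapCone c₀) := isLimitOfPreserves (yon S) hc₀'
      rw [← isPullback_yoneda_iff]
      refine H (D₀ ⋙ yon S) (fun i => IsAlgSpace.yon_obj _) (fun i i' φ => ?_)
        (fun i => Groth.Agent.Lib.Helper15QcRep.isQuasiCompactSp_yon _ (hD₀ i))
        (fun i => by
          haveI := hD₀ i
          exact Groth.Agent.S10006.isQuasiSeparatedSp_yon _) _ hc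
      haveI := hD₀ i
      haveI := hD₀ i'
      haveI : IsAffineHom (D₀.map φ).left := inferInstance
      exact Groth.Agent.Lib.Seat44.MorBasics.isAffineMor_yon_map (D₀.map φ)
    refine isRelLimitPreserving_of_hom f.hom ?_ ?_
    · intro I _ _ D₀ c₀ hc₀ hD₀ hT j y x hx
      exact (key D₀ c₀ hc₀ hD₀).1 j y x hx
    · intro I _ _ D₀ c₀ hc₀ hD₀ hT j x x' h1 h2
      exact (key D₀ c₀ hc₀ hD₀).2 j x x' h1 h2

end Groth.Agent.S10077
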