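import Groth.Statements.S10107
import Groth.Agent.S10530
import Groth.Agent.S10527
import Groth.Agent.S9984
import Groth.Agent.S9874
import Groth.Agent.Lib.Helper15DiagDescent
import Groth.Agent.Lib.Seat44QuotKernel
import Groth.Agent.Lib.Seat44AtlasReduce
import Groth.Agent.Lib.Seat44MorBasics

set_option autoImplicit false
universe u
open CategoryTheory CategoryTheory.Limits AlgebraicGeometry
open AlgSp

namespace Groth.Agent.S10107

open Groth.Agent.Lib.Seat44.QuotKernel Groth.Agent.Lib.Seat44.AtlasReduce Groth.Agent.Lib.Seat44.MorBasics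

/-- Let `F = U/R` be an algebraic space which is the fppf quotient of a groupoid in algebraic spaces
`(U, R, s, t, c)` over `S` with `s, t` flat and locally of finite presentation and `j = (t, s)` an
equivalence relation (equivalently, the composition being determined by it, of an equivalence
relation `s, t : R ⟶ U` of algebraic spaces with these properties). Then `U ⟶ F` is surjective, flat
and locally of finite presentation. -/
theorem result (S : Scheme.{u}) (R U : AlgSp.Sp S)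
    (hR : AlgSp.IsAlgSpace R) (hU : AlgSp.IsAlgSpace U) (s t : R ⟶ U) (hj : AlgSp.IsEqvRelSp s t)
    (hs : AlgSp.LocP @Flat s ∧ AlgSp.LocP @LocallyOfFinitePresentation s)
    (ht : AlgSp.LocP @Flat t ∧ AlgSp.LocP @LocallyOfFinitePresentation t)
    (hF : AlgSp.IsAlgSpace (AlgSp.quotSp s t)) :
    AlgSp.IsSurjectiveMor (AlgSp.quotSpπ s t) ∧ AlgSp.LocP @Flat (AlgSp.quotSpπ s t) ∧
      AlgSp.LocP @LocallyOfFinitePresentation (AlgSp.quotSpπ s t) := by
  have hK := isPullback_quotSpπ s t hj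
  obtain ⟨e, he1, he2⟩ := exists_rel_of_comp_eq s t hj (𝟙 U) (𝟙 U) rfl
  obtain ⟨V, b, hbe, hbs⟩ := hF.atlas
  have sqP := IsPullback.of_hasPullback (AlgSp.quotSpπ s t) b
  have hP : AlgSp.IsAlgSpace (pullback (AlgSp.quotSpπ s t) b) :=
    Groth.Agent.S9874.result S _ hF.diag ⟨U, hU⟩ ⟨(AlgSp.yon S).obj V, AlgSp.IsAlgSpace.yon_obj V⟩
      (AlgSp.quotSpπ s t) b _ _ _ sqP
  haveI : Epi (AlgSp.quotSpπ s t) := Groth.Agent.Lib.Helper9.SpQuot.epi_quotSpπ s t
  obtain ⟨T, c, l, hcov, hl⟩ := exists_fppf_lift (AlgSp.quotSpπ s t) b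
  -- the base changes to the covering
  have sq1 : ∀ x, IsPullback (pullback.fst (pullback.snd (AlgSp.quotSpπ s t) b) ((AlgSp.yon S).map (c x)))
      (pullback.snd (pullback.snd (AlgSp.quotSpπ s t) b) ((AlgSp.yon S).map (c x)))
      (pullback.snd (AlgSp.quotSpπ s t) b) ((AlgSp.yon S).map (c x)) := fun x => IsPullback.of_hasPullback _ _
  have hPx : ∀ x, AlgSp.IsAlgSpace (pullback (pullback.snd (AlgSp.quotSpπ s t) b) ((AlgSp.yon S).map (c x))) :=
    fun x => Groth.Agent.S9874.result S _ (AlgSp.IsAlgSpace.yon_obj V).diag ⟨_, hP⟩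
      ⟨(AlgSp.yon S).obj (T x), AlgSp.IsAlgSpace.yon_obj (T x)⟩ _ _ _ _ _ (sq1 x)
  -- each base change is a base change of `s`
  have key : ∀ x, ∃ (σ : pullback (pullback.snd (AlgSp.quotSpπ s t) b) ((AlgSp.yon S).map (c x)) ⟶ pullback s (l x)),
      IsIso σ ∧ σ ≫ pullback.snd s (l x) =
        pullback.snd (pullback.snd (AlgSp.quotSpπ s t) b) ((AlgSp.yon S).map (c x)) := by
    intro x
    have big1 := (sq1 x).paste_horiz sqP
    rw [← hl x] at big1
    have big2 := (IsPullback.of_hasPullback s (l x)).paste_horiz hK.flip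
    exact ⟨(big1.isoIsPullback _ _ big2).hom, inferInstance, big1.isoIsPullback_hom_snd _ _ big2⟩
  have hRx : ∀ x, AlgSp.IsAlgSpace (pullback s (l x)) := fun x =>
    Groth.Agent.S9874.result S _ hU.diag ⟨R, hR⟩ ⟨(AlgSp.yon S).obj (T x), AlgSp.IsAlgSpace.yon_obj (T x)⟩
      s (l x) _ _ _ (IsPullback.of_hasPullback s (l x))
  have hflat_x : ∀ x, AlgSp.LocP @Flat
      (pullback.snd (pullback.snd (AlgSp.quotSpπ s t) b) ((AlgSp.yon S).map (c x))) := by
    intro x
    obtain ⟨σ, hσ, hσ2⟩ := key x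
    rw [← hσ2]
    refine locP_iso_comp _ σ ?_
    exact Groth.Agent.S9984.result @Flat (Or.inr (Or.inr (Or.inl rfl))) (X := ⟨R, hR⟩) (Y := ⟨U, hU⟩)
      (Y' := ⟨(AlgSp.yon S).obj (T x), AlgSp.IsAlgSpace.yon_obj (T x)⟩) (X' := ⟨_, hRx x⟩)
      (ObjectProperty.homMk s) (ObjectProperty.homMk (l x)) (ObjectProperty.homMk (pullback.fst s (l x)))
      (ObjectProperty.homMk (pullback.snd s (l x))) (IsPullback.of_hasPullback s (l x)) hs.1
  have hlfp_x : ∀ x, AlgSp.LocP @LocallyOfFinitePresentation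
      (pullback.snd (pullback.snd (AlgSp.quotSpπ s t) b) ((AlgSp.yon S).map (c x))) := by
    intro x
    obtain ⟨σ, hσ, hσ2⟩ := key x
    rw [← hσ2]
    refine locP_iso_comp _ σ ?_
    exact Groth.Agent.S9984.result @LocallyOfFinitePresentation (Or.inr (Or.inl rfl)) (X := ⟨R, hR⟩) (Y := ⟨U, hU⟩)
      (Y' := ⟨(AlgSp.yon S).obj (T x), AlgSp.IsAlgSpace.yon_obj (T x)⟩) (X' := ⟨_, hRx x⟩)
      (ObjectProperty.homMk s) (ObjectProperty.homMk (l x)) (ObjectProperty.homMk (pullback.fst s (l x)))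
      (ObjectProperty.homMk (pullback.snd s (l x))) (IsPullback.of_hasPullback s (l x)) hs.2
  have hsurj_x : ∀ x, AlgSp.IsSurjectiveMor
      (pullback.snd (pullback.snd (AlgSp.quotSpπ s t) b) ((AlgSp.yon S).map (c x))) := by
    intro x
    obtain ⟨σ, hσ, hσ2⟩ := key x
    rw [← hσ2]
    refine isSurjectiveMor_comp (isSurjectiveMor_of_isIso σ) ?_
    refine isSurjectiveMor_of_section _ (pullback.lift (l x ≫ e) (𝟙 _) ?_) (pullback.lift_snd _ _ _)
    rw [Category.assoc, he1, Category.comp_id, Category.id_comp]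
  -- descent
  have hflat : AlgSp.LocP @Flat (pullback.snd (AlgSp.quotSpπ s t) b) :=
    ((Groth.Agent.Lib.Helper15DiagDescent.isLocalOnBase_fppf_of_fpqc _ (Groth.Agent.S10530.result S))
      (fun x => (AlgSp.yon S).obj (T x)) (fun x => (AlgSp.yon S).map (c x)) (AlgSp.IsAlgSpace.yon_obj V)
      (fun x => AlgSp.IsAlgSpace.yon_obj (T x)) hcov (pullback.snd (AlgSp.quotSpπ s t) b) hP _ _ _ hPx sq1).2 hflat_x
  have hlfp : AlgSp.LocP @LocallyOfFinitePresentation (pullback.snd (AlgSp.quotSpπ s t) b) :=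
    ((Groth.Agent.Lib.Helper15DiagDescent.isLocalOnBase_fppf_of_fpqc _ (Groth.Agent.S10527.result S))
      (fun x => (AlgSp.yon S).obj (T x)) (fun x => (AlgSp.yon S).map (c x)) (AlgSp.IsAlgSpace.yon_obj V)
      (fun x => AlgSp.IsAlgSpace.yon_obj (T x)) hcov (pullback.snd (AlgSp.quotSpπ s t) b) hP _ _ _ hPx sq1).2 hlfp_x
  have hsurj : AlgSp.IsSurjectiveMor (pullback.snd (AlgSp.quotSpπ s t) b) := by
    intro v
    obtain ⟨x, τ, hτ⟩ := hcov.2 v
    obtain ⟨ρ, hρ⟩ := hsurj_x x τ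
    refine ⟨AlgSp.Points.map (pullback.fst _ _) ρ, ?_⟩
    rw [← AlgSp.Points.map_comp, (sq1 x).w, AlgSp.Points.map_comp, hρ, hτ]
  exact ⟨isSurjectiveMor_of_pullback_atlas _ b hbs hsurj,
    locP_of_pullback_atlas @Flat (Or.inr (Or.inr (Or.inl rfl))) hU hF _ b hbe hbs hflat,
    locP_of_pullback_atlas @LocallyOfFinitePresentation (Or.inr (Or.inl rfl)) hU hF _ b hbe hbs hlfp⟩

end Groth.Agent.S10107
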