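import Groth.Statements.S10118
import Groth.Agent.S10262
import Groth.Agent.S9902
import Groth.Agent.S9984
import Groth.Agent.Lib.Seat44GrpDiag
import Groth.Agent.Lib.Seat44MorBasics
import Groth.Agent.Lib.Seat44LqfSelf

set_option autoImplicit false
universe u
open CategoryTheory CategoryTheory.Limits AlgebraicGeometry MonoidalCategory MonObj
open AlgSp AlgSp.GAction

namespace Groth.Agent.S10118

open CartesianMonoidalCategory in
/-- In a cartesian monoidal category, `x ↦ (e, x)` is the base change of the unit along the first projection. -/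
theorem isPullback_unit_fst {C : Type*} [Category* C] [CartesianMonoidalCategory C] (G X : C) [MonObj G] :
    IsPullback (lift (toUnit X ≫ η[G]) (𝟙 X)) (toUnit X) (fst G X) η[G] := by
  refine ⟨⟨?_⟩, ⟨PullbackCone.IsLimit.mk _ (fun s => s.fst ≫ snd G X) ?_ ?_ ?_⟩⟩
  · rw [lift_fst]
  · intro s
    apply CartesianMonoidalCategory.hom_ext
    · rw [Category.assoc, lift_fst, s.condition, ← Category.assoc]
      congr 1
      exact toUnit_unique _ _
    · rw [Category.assoc, lift_snd, Category.comp_id]
  · intro s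
    exact toUnit_unique _ _
  · intro s m h1 _
    rw [← h1, Category.assoc, lift_snd, Category.comp_id]

/-- Let `X` be a pseudo-torsor under a group algebraic space `G` over an algebraic space `B`, where both
`G` and `X` are locally of finite type over `B`. Whenever `G ⟶ B` is unramified, `X ⟶ B` is
unramified too; likewise, local quasi-finiteness passes from `G ⟶ B` to `X ⟶ B`. -/
theorem result (S : Scheme.{u}) (B : AlgSp.Sp S) (hB : AlgSp.IsAlgSpace B)
    (G X : Over B) [GrpObj G] (hG : AlgSp.IsAlgSpace G.left) (hX : AlgSp.IsAlgSpace X.left)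
    (a : AlgSp.GAction G X) (ha : a.IsPseudoTorsor)
    (hGt : AlgSp.LocP @LocallyOfFiniteType G.hom) (hXt : AlgSp.LocP @LocallyOfFiniteType X.hom) :
    (AlgSp.LocP (@LocallyOfFiniteType ⊓ @FormallyUnramified) G.hom →
        AlgSp.LocP (@LocallyOfFiniteType ⊓ @FormallyUnramified) X.hom) ∧
      (AlgSp.LocP (@LocallyQuasiFinite ⊓ @LocallyOfFiniteType) G.hom →
        AlgSp.LocP (@LocallyQuasiFinite ⊓ @LocallyOfFiniteType) X.hom) := by
  have : IsIso (CartesianMonoidalCategory.lift a.act (CartesianMonoidalCategory.snd G X)) := ha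
  set σ := CartesianMonoidalCategory.lift a.act (CartesianMonoidalCategory.snd G X) with hσ
  have : IsIso σ.left := (Over.forget B).map_isIso σ
  have hσsnd : σ.left ≫ pullback.snd X.hom X.hom = pullback.snd G.hom X.hom := by
    have := congrArg (fun f => f.left) (CartesianMonoidalCategory.lift_snd a.act (CartesianMonoidalCategory.snd G X))
    exact this
  refine ⟨fun hGu => ?_, fun hGq => ?_⟩
  · -- unramified
    have hdG : AlgSp.RepWith @IsOpenImmersion (pullback.diagonal G.hom) :=
      (Groth.Agent.S10262.result (X := ⟨G.left, hG⟩) (Y := ⟨B, hB⟩) (ObjectProperty.homMk G.hom)).1 hGu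
    have hη : AlgSp.RepWith @IsOpenImmersion (η[G]).left :=
      Groth.Agent.S9902.of_section (AlgSp.RepWith @IsOpenImmersion) G.hom (η[G]).left
        (Groth.Agent.Lib.Seat44.GrpDiag.unit_left_comp_hom G) hdG
    have sqε := (isPullback_unit_fst G X).map (Over.forget B)
    have hε : AlgSp.RepWith @IsOpenImmersion
        (CartesianMonoidalCategory.lift (CartesianMonoidalCategory.toUnit X ≫ η[G]) (𝟙 X)).left :=
      MorphismProperty.of_isPullback (P := AlgSp.RepWith @IsOpenImmersion) sqε.flip hη
    have hΔ : CartesianMonoidalCategory.lift (CartesianMonoidalCategory.toUnit X ≫ η[G]) (𝟙 X) ≫ σ =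
        CartesianMonoidalCategory.lift (𝟙 X) (𝟙 X) := by
      apply CartesianMonoidalCategory.hom_ext
      · rw [Category.assoc, hσ, CartesianMonoidalCategory.lift_fst, CartesianMonoidalCategory.lift_fst]
        have h1 : CartesianMonoidalCategory.lift (CartesianMonoidalCategory.toUnit X ≫ η[G]) (𝟙 X) =
            (λ_ X).inv ≫ (η[G] ▷ X) := by
          apply CartesianMonoidalCategory.hom_ext <;> simp
        rw [h1, Category.assoc, a.one_act, Iso.inv_hom_id]
      · rw [Category.assoc, hσ, CartesianMonoidalCategory.lift_snd, CartesianMonoidalCategory.lift_snd,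
          CartesianMonoidalCategory.lift_snd]
    have hΔl : pullback.diagonal X.hom =
        (CartesianMonoidalCategory.lift (CartesianMonoidalCategory.toUnit X ≫ η[G]) (𝟙 X)).left ≫ σ.left := by
      have := congrArg (fun f => f.left) hΔ
      exact this.symm
    have hdX : AlgSp.RepWith @IsOpenImmersion (pullback.diagonal X.hom) := by
      rw [hΔl]
      exact (MorphismProperty.cancel_right_of_respectsIso (AlgSp.RepWith @IsOpenImmersion) _ _).2 hε
    exact (Groth.Agent.S10262.result (X := ⟨X.left, hX⟩) (Y := ⟨B, hB⟩) (ObjectProperty.homMk X.hom)).2 hXt hdX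
  · -- locally quasi-finite
    have hP : (@LocallyQuasiFinite ⊓ @LocallyOfFiniteType : MorphismProperty Scheme.{u}) = @LocallyOfFiniteType ∨
        (@LocallyQuasiFinite ⊓ @LocallyOfFiniteType : MorphismProperty Scheme.{u}) = @LocallyOfFinitePresentation ∨
        (@LocallyQuasiFinite ⊓ @LocallyOfFiniteType : MorphismProperty Scheme.{u}) = @Flat ∨
        (@LocallyQuasiFinite ⊓ @LocallyOfFiniteType : MorphismProperty Scheme.{u}) = @Smooth ∨
        (@LocallyQuasiFinite ⊓ @LocallyOfFiniteType : MorphismProperty Scheme.{u}) = @Etale ∨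
        (∀ ⦃A B : Scheme.{u}⦄ (g : A ⟶ B),
          (@LocallyQuasiFinite ⊓ @LocallyOfFiniteType : MorphismProperty Scheme.{u}) g ↔
            (LocallyQuasiFinite g ∧ LocallyOfFiniteType g)) ∨
        (∀ ⦃A B : Scheme.{u}⦄ (g : A ⟶ B),
          (@LocallyQuasiFinite ⊓ @LocallyOfFiniteType : MorphismProperty Scheme.{u}) g ↔
            (LocallyOfFiniteType g ∧ FormallyUnramified g)) :=
      Or.inr (Or.inr (Or.inr (Or.inr (Or.inr (Or.inl (fun _ _ _ => Iff.rfl))))))
    have sq := IsPullback.of_hasPullback G.hom X.hom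
    have hGX : AlgSp.IsAlgSpace (pullback G.hom X.hom) :=
      Groth.Agent.S9874.result S B hB.diag ⟨G.left, hG⟩ ⟨X.left, hX⟩ G.hom X.hom _ _ _ sq
    have h1 : AlgSp.LocP (@LocallyQuasiFinite ⊓ @LocallyOfFiniteType) (pullback.snd G.hom X.hom) :=
      Groth.Agent.S9984.result _ hP (X := ⟨G.left, hG⟩) (Y := ⟨B, hB⟩) (Y' := ⟨X.left, hX⟩)
        (X' := ⟨pullback G.hom X.hom, hGX⟩) (ObjectProperty.homMk G.hom) (ObjectProperty.homMk X.hom)
        (ObjectProperty.homMk (pullback.fst G.hom X.hom)) (ObjectProperty.homMk (pullback.snd G.hom X.hom))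
        sq hGq
    have h2 : AlgSp.LocP (@LocallyQuasiFinite ⊓ @LocallyOfFiniteType) (pullback.snd X.hom X.hom) := by
      have e : pullback.snd X.hom X.hom = inv σ.left ≫ pullback.snd G.hom X.hom := by
        rw [← hσsnd, IsIso.inv_hom_id_assoc]
      rw [e]
      exact Groth.Agent.Lib.Seat44.MorBasics.locP_iso_comp _ (inv σ.left) h1
    exact Groth.Agent.Lib.Seat44.LqfSelf.locP_lqf_of_pullback_snd hX hB X.hom hXt h2

end Groth.Agent.S10118
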