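import Groth.Statements.S10122
import Groth.Agent.S9902
import Groth.Agent.S9912
import Groth.Agent.S9874
import Groth.Agent.Lib.Seat44GpdDiag

set_option autoImplicit false
universe u
open CategoryTheory CategoryTheory.Limits AlgebraicGeometry
open AlgSp AlgSp.GroupoidSp

namespace Groth.Agent.S10122

open Groth.Agent.Lib.Seat44.GpdDiag

/-- Let `(U, R, s, t, c)` be a groupoid in algebraic spaces over `B` with stabilizer `G ⟶ U` and unit
section `e : U ⟶ G`. Then (1) `j : R ⟶ U ×_B U` is separated iff `G ⟶ U` is separated iff `e` is a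
closed immersion; (3) `j` is quasi-separated iff `G ⟶ U` is quasi-separated iff `e` is
quasi-compact; (2) if `j` or `G ⟶ U` is locally separated then `e` is an immersion. The unit section
is written as any morphism `U ⟶ G` lifting the identity `e : U ⟶ R` of the groupoid. (The published
part (2) is a three-way equivalence; this row states only that `j` locally separated, or `G ⟶ U`
locally separated, implies that `e` is an immersion.) -/
theorem result (S : Scheme.{u}) (B : AlgSp.Sp S) (hB : AlgSp.IsAlgSpace B)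
    (G : AlgSp.GroupoidSp B) (hU : AlgSp.IsAlgSpace G.U) (hR : AlgSp.IsAlgSpace G.R)
    (eG : G.U ⟶ G.stabilizer) (heG : eG ≫ G.stabilizerι = G.e) :
    ((AlgSp.IsSeparatedMor G.j ↔ AlgSp.IsSeparatedMor G.stabilizerToU) ∧
        (AlgSp.IsSeparatedMor G.j ↔ AlgSp.RepWith @IsClosedImmersion eG)) ∧
      ((AlgSp.IsQuasiSeparatedMor G.j ↔ AlgSp.IsQuasiSeparatedMor G.stabilizerToU) ∧
        (AlgSp.IsQuasiSeparatedMor G.j ↔ AlgSp.IsQuasiCompactMor eG)) ∧
      ((AlgSp.IsLocallySeparatedMor G.j → AlgSp.RepWith @IsImmersion eG) ∧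
        (AlgSp.IsLocallySeparatedMor G.stabilizerToU → AlgSp.RepWith @IsImmersion eG)) := by
  have hsec : eG ≫ G.stabilizerToU = 𝟙 G.U := eG_toU G eG heG
  have sq := isPullback_diagonal_j G eG heG
  -- `U ×_B U` is an algebraic space
  have hUU : AlgSp.IsAlgSpace (pullback G.pU G.pU) :=
    S9874.result S B hB.diag ⟨G.U, hU⟩ ⟨G.U, hU⟩ G.pU G.pU _ _ _ (IsPullback.of_hasPullback G.pU G.pU)
  -- the stabilizer is an algebraic space
  have hstab : AlgSp.IsAlgSpace G.stabilizer :=
    S9874.result S _ hUU.diag ⟨G.R, hR⟩ ⟨G.U, hU⟩ G.j G.diag _ _ _ (IsPullback.of_hasPullback G.j G.diag)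
  let GS : AlgSp.Space S := ⟨G.stabilizer, hstab⟩
  let US : AlgSp.Space S := ⟨G.U, hU⟩
  let f : GS ⟶ US := ObjectProperty.homMk G.stabilizerToU
  let e : US ⟶ GS := ObjectProperty.homMk eG
  have hrep : AlgSp.Representable eG := (S9902.result f e (by ext1; exact hsec)).1
  have hqc := S9912.result e hrep
  -- base change of `j` along the diagonal
  have sqst : IsPullback G.stabilizerι G.stabilizerToU G.j G.diag := IsPullback.of_hasPullback G.j G.diag
  have key : ∀ (P : MorphismProperty Scheme.{u}),
      (AlgSp.RepWith (S := S) P).diagonal G.j → (AlgSp.RepWith (S := S) P).diagonal G.stabilizerToU := by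
    intro P h
    exact MorphismProperty.of_isPullback (P := (AlgSp.RepWith (S := S) P).diagonal) sqst h
  have back : ∀ (P : MorphismProperty Scheme.{u}),
      AlgSp.RepWith (S := S) P eG → AlgSp.RepWith (S := S) P (pullback.diagonal G.j) := by
    intro P h
    exact MorphismProperty.of_isPullback (P := AlgSp.RepWith P) sq.flip h
  have sec : ∀ (P : MorphismProperty Scheme.{u}),
      AlgSp.RepWith (S := S) P (pullback.diagonal G.stabilizerToU) → AlgSp.RepWith (S := S) P eG := by
    intro P h
    exact S9902.of_section (AlgSp.RepWith P) G.stabilizerToU eG hsec h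
  refine ⟨⟨⟨fun h => key _ h, fun h => back _ (sec _ h)⟩, ⟨fun h => sec _ (key _ h), fun h => back _ h⟩⟩,
    ⟨⟨fun h => key _ h, fun h => back _ (sec _ h)⟩,
      ⟨fun h => hqc.1 (sec _ (key _ h)), fun h => back _ (hqc.2 h)⟩⟩,
    ⟨fun h => sec _ (key _ h), fun h => sec _ h⟩⟩

end Groth.Agent.S10122
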