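import Groth.Statements.S10123
import Groth.Agent.S9874
import Groth.Agent.S9984
import Groth.Agent.S9985
import Groth.Agent.Lib.Seat44GpdRestrict

set_option autoImplicit false
universe u
open CategoryTheory CategoryTheory.Limits AlgebraicGeometry
open AlgSp AlgSp.GroupoidSp

namespace Groth.Agent.S10123

open Groth.Agent.Lib.Seat44.GpdRestrict

theorem aux (S : Scheme.{u}) (B : AlgSp.Sp S)
    (G G' : AlgSp.GroupoidSp B) (hU : AlgSp.IsAlgSpace G.U) (hR : AlgSp.IsAlgSpace G.R)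
    (hU' : AlgSp.IsAlgSpace G'.U) (hR' : AlgSp.IsAlgSpace G'.R) (φ : AlgSp.GroupoidSp.Hom G' G)
    (hφ : φ.IsRestriction) (P : MorphismProperty Scheme.{u})
    (hP : P = @LocallyOfFiniteType ∨ P = @LocallyOfFinitePresentation ∨ P = @Flat ∨ P = @Smooth ∨ P = @Etale ∨
      (∀ ⦃A B : Scheme.{u}⦄ (g : A ⟶ B), P g ↔ (LocallyQuasiFinite g ∧ LocallyOfFiniteType g)) ∨
      (∀ ⦃A B : Scheme.{u}⦄ (g : A ⟶ B), P g ↔ (LocallyOfFiniteType g ∧ FormallyUnramified g)))
    (hs : AlgSp.LocP P G.s) (ht : AlgSp.LocP P G.t) (hg : AlgSp.LocP P φ.fU) :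
    AlgSp.LocP P G'.s ∧ AlgSp.LocP P G'.t := by
  let US : AlgSp.Space S := ⟨G.U, hU⟩
  let RS : AlgSp.Space S := ⟨G.R, hR⟩
  let US' : AlgSp.Space S := ⟨G'.U, hU'⟩
  let RS' : AlgSp.Space S := ⟨G'.R, hR'⟩
  -- the two intermediate fibre products
  have hP1 : AlgSp.IsAlgSpace (pullback φ.fU G.t) :=
    S9874.result S G.U hU.diag US' RS φ.fU G.t _ _ _ (IsPullback.of_hasPullback φ.fU G.t)
  have hP2 : AlgSp.IsAlgSpace (pullback φ.fU G.s) :=
    S9874.result S G.U hU.diag US' RS φ.fU G.s _ _ _ (IsPullback.of_hasPullback φ.fU G.s)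
  let P1 : AlgSp.Space S := ⟨pullback φ.fU G.t, hP1⟩
  let P2 : AlgSp.Space S := ⟨pullback φ.fU G.s, hP2⟩
  constructor
  · -- `s' = (R' ⟶ U' ×_{U,s} R) ≫ fst`
    have h1 : AlgSp.LocP P (pullback.fst φ.fU G.s) :=
      S9984.result P hP (X := RS) (Y := US) (Y' := US') (X' := P2)
        (ObjectProperty.homMk G.s) (ObjectProperty.homMk φ.fU)
        (ObjectProperty.homMk (pullback.snd φ.fU G.s)) (ObjectProperty.homMk (pullback.fst φ.fU G.s))
        (IsPullback.of_hasPullback φ.fU G.s).flip hs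
    have h2 : AlgSp.LocP P (pullback.lift G'.s φ.fR φ.comm_s.symm : G'.R ⟶ pullback φ.fU G.s) :=
      S9984.result P hP (X := US') (Y := US) (Y' := P2) (X' := RS')
        (ObjectProperty.homMk φ.fU) (ObjectProperty.homMk (pullback.snd φ.fU G.s ≫ G.t))
        (ObjectProperty.homMk G'.t) (ObjectProperty.homMk (pullback.lift G'.s φ.fR φ.comm_s.symm))
        (isPullback_s φ hφ).flip hg
    have h3 := S9985.result P hP (X := RS') (Y := P2) (Z := US')
      (ObjectProperty.homMk (pullback.lift G'.s φ.fR φ.comm_s.symm))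
      (ObjectProperty.homMk (pullback.fst φ.fU G.s)) h2 h1
    have e : (pullback.lift G'.s φ.fR φ.comm_s.symm : G'.R ⟶ pullback φ.fU G.s) ≫
        pullback.fst φ.fU G.s = G'.s := pullback.lift_fst _ _ _
    rw [← e]
    exact h3
  · have h1 : AlgSp.LocP P (pullback.fst φ.fU G.t) :=
      S9984.result P hP (X := RS) (Y := US) (Y' := US') (X' := P1)
        (ObjectProperty.homMk G.t) (ObjectProperty.homMk φ.fU)
        (ObjectProperty.homMk (pullback.snd φ.fU G.t)) (ObjectProperty.homMk (pullback.fst φ.fU G.t))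
        (IsPullback.of_hasPullback φ.fU G.t).flip ht
    have h2 : AlgSp.LocP P (pullback.lift G'.t φ.fR φ.comm_t.symm : G'.R ⟶ pullback φ.fU G.t) :=
      S9984.result P hP (X := US') (Y := US) (Y' := P1) (X' := RS')
        (ObjectProperty.homMk φ.fU) (ObjectProperty.homMk (pullback.snd φ.fU G.t ≫ G.s))
        (ObjectProperty.homMk G'.s) (ObjectProperty.homMk (pullback.lift G'.t φ.fR φ.comm_t.symm))
        (isPullback_t φ hφ).flip hg
    have h3 := S9985.result P hP (X := RS') (Y := P1) (Z := US')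
      (ObjectProperty.homMk (pullback.lift G'.t φ.fR φ.comm_t.symm))
      (ObjectProperty.homMk (pullback.fst φ.fU G.t)) h2 h1
    have e : (pullback.lift G'.t φ.fR φ.comm_t.symm : G'.R ⟶ pullback φ.fU G.t) ≫
        pullback.fst φ.fU G.t = G'.t := pullback.lift_fst _ _ _
    rw [← e]
    exact h3

/-- Let `(U', R', s', t', c')` be the restriction of a groupoid in algebraic spaces `(U, R, s, t, c)`
over `B` along `g : U' ⟶ U`. If `s, t, g` are locally of finite type (resp. locally of finite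
presentation, resp. flat) then so are `s', t'`. -/
theorem result (S : Scheme.{u}) (B : AlgSp.Sp S) (hB : AlgSp.IsAlgSpace B)
    (G G' : AlgSp.GroupoidSp B) (hU : AlgSp.IsAlgSpace G.U) (hR : AlgSp.IsAlgSpace G.R)
    (hU' : AlgSp.IsAlgSpace G'.U) (hR' : AlgSp.IsAlgSpace G'.R) (φ : AlgSp.GroupoidSp.Hom G' G)
    (hφ : φ.IsRestriction) :
    (AlgSp.LocP @LocallyOfFiniteType G.s → AlgSp.LocP @LocallyOfFiniteType G.t →
        AlgSp.LocP @LocallyOfFiniteType φ.fU →
        AlgSp.LocP @LocallyOfFiniteType G'.s ∧ AlgSp.LocP @LocallyOfFiniteType G'.t) ∧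
      (AlgSp.LocP @LocallyOfFinitePresentation G.s → AlgSp.LocP @LocallyOfFinitePresentation G.t →
        AlgSp.LocP @LocallyOfFinitePresentation φ.fU →
        AlgSp.LocP @LocallyOfFinitePresentation G'.s ∧ AlgSp.LocP @LocallyOfFinitePresentation G'.t) ∧
      (AlgSp.LocP @Flat G.s → AlgSp.LocP @Flat G.t → AlgSp.LocP @Flat φ.fU →
        AlgSp.LocP @Flat G'.s ∧ AlgSp.LocP @Flat G'.t) := by
  refine ⟨fun hs ht hg => aux S B G G' hU hR hU' hR' φ hφ _ (Or.inl rfl) hs ht hg,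
    fun hs ht hg => aux S B G G' hU hR hU' hR' φ hφ _ (Or.inr (Or.inl rfl)) hs ht hg,
    fun hs ht hg => aux S B G G' hU hR hU' hR' φ hφ _ (Or.inr (Or.inr (Or.inl rfl))) hs ht hg⟩

end Groth.Agent.S10123
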