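import Groth.Statements.S10128
import Groth.Agent.S10127
import Groth.Agent.S10122
import Groth.Agent.S10129
import Groth.Agent.S10351
import Groth.Agent.S9874
import Groth.Agent.Lib.Helper12Proper

set_option autoImplicit false
universe u
open CategoryTheory CategoryTheory.Limits AlgebraicGeometry
open AlgSp AlgSp.GroupoidSp

namespace Groth.Agent.S10128

/-- A section `e : h_{Spec k} ⟶ X` of a morphism `π : X ⟶ h_{Spec k}` from a decent algebraic space `X`
to the spectrum of a field is a closed immersion. -/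
theorem repWith_isClosedImmersion_of_section {S : Scheme.{u}} {X : AlgSp.Sp S}
    (hX : AlgSp.IsAlgSpace X) (hd : AlgSp.IsDecent X) {k : Type u} [Field k]
    (σ : Spec (CommRingCat.of k) ⟶ S)
    (e : (AlgSp.yon S).obj (Over.mk σ) ⟶ X) (π : X ⟶ (AlgSp.yon S).obj (Over.mk σ))
    (hsec : e ≫ π = 𝟙 ((AlgSp.yon S).obj (Over.mk σ))) : AlgSp.RepWith @IsClosedImmersion e := by
  haveI : Mono e := SplitMono.mono ⟨π, hsec⟩
  have hrep : AlgSp.Representable e := hX.representable_from_yon e
  let q : AlgSp.FieldPt X :=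
    { K := k
      str := σ
      val := (AlgSp.J S).uliftYonedaEquiv e }
  have hq : q.toHom = e := Equiv.symm_apply_apply _ _
  obtain ⟨p, hp, hm, hpq⟩ := hd (AlgSp.Points.mk q)
  have hqc : AlgSp.RepWith @QuasiCompact e := by
    rw [← hq]
    exact Groth.Agent.S10362.result ⟨X, hX⟩ p q hm hpq hp.symm
  obtain ⟨A, a, hae, has⟩ := hX.atlas
  obtain ⟨Z, i0, pr, sq⟩ := hrep a
  obtain ⟨pr', rfl⟩ := (AlgSp.yon S).map_surjective pr
  obtain ⟨s', hs'⟩ := (AlgSp.yon S).map_surjective (a ≫ π)
  have hcomp' : i0 ≫ s' = pr' := by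
    apply (AlgSp.yon S).map_injective
    rw [Functor.map_comp, hs', ← Category.assoc, ← sq.w, Category.assoc, hsec, Category.comp_id]
  haveI : Mono ((AlgSp.yon S).map i0) := PullbackCone.mono_snd_of_is_pullback_of_mono sq.isLimit
  haveI : Mono i0 := (AlgSp.yon S).mono_of_mono_map inferInstance
  haveI : Mono i0.left := inferInstance
  haveI : QuasiCompact i0.left := hqc.2 a _ i0 sq
  have het : Etale pr'.left := hae.2 e _ pr' sq.flip
  have hcl : IsClosedImmersion i0.left :=
    Groth.Agent.Lib.Seat44.FieldClosed.isClosedImmersion_of_mono_of_etale_field i0.left s'.left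
      (by rw [← Over.comp_left, hcomp']; exact het)
  haveI := Groth.Agent.Lib.Helper12.descendsAlong_isClosedImmersion.{u}
  exact Groth.Agent.S10127.repWith_of_atlas @IsClosedImmersion e hrep a hae has i0 _ sq hcl

/-- variant for a source isomorphic to the spectrum of a field. -/
theorem repWith_isClosedImmersion_of_section' {S : Scheme.{u}} {X U : AlgSp.Sp S}
    (hX : AlgSp.IsAlgSpace X) (hd : AlgSp.IsDecent X) {k : Type u} [Field k]
    (σ : Spec (CommRingCat.of k) ⟶ S) (eU : U ≅ (AlgSp.yon S).obj (Over.mk σ))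
    (e : U ⟶ X) (π : X ⟶ U) (hsec : e ≫ π = 𝟙 U) : AlgSp.RepWith @IsClosedImmersion e := by
  have h := repWith_isClosedImmersion_of_section hX hd σ (eU.inv ≫ e) (π ≫ eU.hom)
    (by rw [Category.assoc, ← Category.assoc e, hsec, Category.id_comp, eU.inv_hom_id])
  have h2 : e = eU.hom ≫ (eU.inv ≫ e) := by rw [eU.hom_inv_id_assoc]
  rw [h2]
  exact (MorphismProperty.cancel_left_of_respectsIso (AlgSp.RepWith @IsClosedImmersion) eU.hom _).2 h

/-- Let `(U, R, s, t, c)` be a groupoid in algebraic spaces over `B` whose object space is `U = Spec k`,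
with `k` a field, and assume `R` is a decent algebraic space. Then `R` is separated over the base
scheme `S`. (The published statement concludes that `R` is separated in the absolute sense; this row
concludes that `R` is separated over `S`, which the absolute notion implies.) -/
theorem result (S : Scheme.{u}) (B : AlgSp.Sp S) (hB : AlgSp.IsAlgSpace B)
    (G : AlgSp.GroupoidSp B) (hR : AlgSp.IsAlgSpace G.R) (k : Type u) [Field k]
    (σ : Spec (CommRingCat.of k) ⟶ S) (eU : G.U ≅ (AlgSp.yon S).obj (Over.mk σ)) (hd : AlgSp.IsDecent G.R) :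
    AlgSp.IsSeparatedSp G.R := by
  have hU : AlgSp.IsAlgSpace G.U := (AlgSp.IsAlgSpace.yon_obj (Over.mk σ)).of_iso eU.symm
  have hP : AlgSp.IsAlgSpace (pullback G.pU G.pU) :=
    Groth.Agent.S9874.isAlgSpace_of_isPullback hB.diag hU hU (IsPullback.of_hasPullback _ _)
  -- the unit section of the stabilizer
  have hcond : G.e ≫ G.j = 𝟙 G.U ≫ G.diag := by
    apply pullback.hom_ext
    · rw [Category.assoc, G.j_fst, G.e_t, Category.id_comp]
      unfold AlgSp.GroupoidSp.diag
      rw [pullback.lift_fst]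
    · rw [Category.assoc, G.j_snd, G.e_s, Category.id_comp]
      unfold AlgSp.GroupoidSp.diag
      rw [pullback.lift_snd]
  obtain ⟨eG, heG, hsecG⟩ : ∃ eG : G.U ⟶ G.stabilizer,
      eG ≫ G.stabilizerι = G.e ∧ eG ≫ G.stabilizerToU = 𝟙 G.U :=
    ⟨pullback.lift G.e (𝟙 G.U) hcond, pullback.lift_fst _ _ _, pullback.lift_snd _ _ _⟩
  -- the stabilizer is a decent algebraic space
  have hdiagrep : AlgSp.Representable G.diag := by
    have h1 : AlgSp.Representable (eU.inv ≫ G.diag) := hP.representable_from_yon _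
    have h2 : G.diag = eU.hom ≫ (eU.inv ≫ G.diag) := by rw [eU.hom_inv_id_assoc]
    rw [h2]
    exact (MorphismProperty.cancel_left_of_respectsIso AlgSp.Representable eU.hom _).2 h1
  have hιrep : AlgSp.Representable G.stabilizerι :=
    MorphismProperty.of_isPullback (P := AlgSp.Representable)
      (IsPullback.of_hasPullback G.j G.diag).flip hdiagrep
  have hst : AlgSp.IsAlgSpace G.stabilizer :=
    Groth.Agent.S10129.isAlgSpace_of_representable hR G.stabilizerι hιrep
  have hstd : AlgSp.IsDecent G.stabilizer :=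
    Groth.Agent.S10351.result (X := ⟨G.stabilizer, hst⟩) (Y := ⟨G.R, hR⟩)
      (ObjectProperty.homMk G.stabilizerι) hιrep hd
  have hcl : AlgSp.RepWith @IsClosedImmersion eG :=
    repWith_isClosedImmersion_of_section' hst hstd σ eU eG G.stabilizerToU hsecG
  have hj : AlgSp.IsSeparatedMor G.j :=
    ((Groth.Agent.S10122.result S B hB G hU hR eG heG).1.2).2 hcl
  -- `U ×_B U` is separated over `S`
  have hterm : IsTerminal ((AlgSp.yon S).obj (Over.mk (𝟙 S))) :=
    IsTerminal.isTerminalObj (AlgSp.yon S) _ Over.mkIdTerminal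
  let tU : G.U ⟶ (AlgSp.yon S).obj (Over.mk (𝟙 S)) := hterm.from _
  have htU : AlgSp.IsSeparatedMor tU := by
    have h1 : tU = eU.hom ≫ (AlgSp.yon S).map (Over.homMk σ : Over.mk σ ⟶ Over.mk (𝟙 S)) :=
      hterm.hom_ext _ _
    rw [h1]
    refine Groth.Agent.Lib.Helper12.Proper.isSeparatedMor_comp _ _
      (Groth.Agent.Lib.Helper12.Proper.isSeparatedMor_of_mono _) ?_
    rw [AlgSp.isSeparatedMor_yon_map_iff]
    change IsSeparated σ
    haveI : IsSeparated (σ ≫ terminal.from S) := by
      rw [terminal.comp_from]; infer_instance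
    exact IsSeparated.of_comp σ (terminal.from S)
  let m : pullback G.pU G.pU ⟶ pullback tU tU :=
    pullback.lift (pullback.fst G.pU G.pU) (pullback.snd G.pU G.pU) (hterm.hom_ext _ _)
  have hm1 : m ≫ pullback.fst tU tU = pullback.fst G.pU G.pU := pullback.lift_fst _ _ _
  have hm2 : m ≫ pullback.snd tU tU = pullback.snd G.pU G.pU := pullback.lift_snd _ _ _
  haveI : Mono m := by
    constructor
    intro W a b hab
    apply pullback.hom_ext
    · rw [← hm1, ← Category.assoc, hab, Category.assoc]
    · rw [← hm2, ← Category.assoc, hab, Category.assoc]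
  have hsep : AlgSp.IsSeparatedMor (G.j ≫ m ≫ pullback.fst tU tU ≫ tU) := by
    refine Groth.Agent.Lib.Helper12.Proper.isSeparatedMor_comp _ _ hj ?_
    refine Groth.Agent.Lib.Helper12.Proper.isSeparatedMor_comp _ _
      (Groth.Agent.Lib.Helper12.Proper.isSeparatedMor_of_mono _) ?_
    refine Groth.Agent.Lib.Helper12.Proper.isSeparatedMor_comp _ _ ?_ htU
    exact Groth.Agent.Lib.Helper12.Proper.isSeparatedMor_baseChange
      (IsPullback.of_hasPullback tU tU).flip htU
  exact Groth.Agent.S10127.isSeparatedSp_of_isSeparatedMor_terminal hterm _ hsep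

end Groth.Agent.S10128
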