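import Groth.Statements.S10132
import Groth.Agent.Lib.Seat44OverField2
import Groth.Agent.Lib.Seat44GpdRestrict

set_option autoImplicit false
universe u
open CategoryTheory CategoryTheory.Limits AlgebraicGeometry
open AlgSp AlgSp.GroupoidSp

namespace Groth.Agent.S10132

open Groth.Agent.Lib.Seat44.OverField Groth.Agent.Lib.Seat44.MorBasics Groth.Agent.Lib.Seat44.GpdRestrict

/-- source and target of a groupoid over a field -/
theorem st_sfo {S : Scheme.{u}} {B : AlgSp.Sp S} (G : AlgSp.GroupoidSp B) (hR : AlgSp.IsAlgSpace G.R)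
    {k : Type u} [Field k] (σ : Spec (CommRingCat.of k) ⟶ S) (eU : G.U ≅ (AlgSp.yon S).obj (Over.mk σ)) :
    ∀ f ∈ [G.s, G.t], AlgSp.IsSurjectiveMor f ∧ AlgSp.LocP @Flat f ∧ AlgSp.IsUnivOpenMor f := by
  have hne : Nonempty (AlgSp.Points G.R) := by
    obtain ⟨x⟩ := nonempty_points_of_iso_field σ eU
    exact ⟨AlgSp.Points.map G.e x⟩
  intro f hf
  simp only [List.mem_cons, List.not_mem_nil, or_false] at hf
  rcases hf with rfl | rfl
  · exact sfo_to_field_iso hR hne σ eU _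
  · exact sfo_to_field_iso hR hne σ eU _

/-- Let `(U, R, s, t, c)` be a groupoid in algebraic spaces over `B` whose object space is `U = Spec k`,
let `k ⊂ k'` be a field extension and `(U', R', s', t', c')` the restriction along `Spec k' ⟶ Spec
k`. Then `s, t, s', t'`, `Spec k' ⟶ Spec k` and `R' ⟶ R` are surjective, flat and universally open,
and `R' ⟶ R` is moreover affine. (The published statement lists every arrow of the restriction
diagram; this row omits the six arrows through `R ×_{s,U} U'` and `U' ×_{U,t} R`, each a base change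
of `s`, `t` or `Spec k' ⟶ Spec k`.) -/
theorem result (S : Scheme.{u}) (B : AlgSp.Sp S) (hB : AlgSp.IsAlgSpace B)
    (G G' : AlgSp.GroupoidSp B) (hR : AlgSp.IsAlgSpace G.R) (hR' : AlgSp.IsAlgSpace G'.R)
    (k k' : Type u) [Field k] [Field k'] [Algebra k k'] (σ : Spec (CommRingCat.of k) ⟶ S)
    (eU : G.U ≅ ((AlgSp.yon S).obj (Over.mk σ)))
    (eU' : G'.U ≅ ((AlgSp.yon S).obj (Over.mk (Spec.map (CommRingCat.ofHom (algebraMap k k')) ≫ σ))))
    (φ : AlgSp.GroupoidSp.Hom G' G) (hφ : φ.IsRestriction)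
    (hfU : φ.fU = eU'.hom ≫ (AlgSp.yon S).map (Over.homMk (Spec.map (CommRingCat.ofHom (algebraMap k k'))) rfl :
      Over.mk (Spec.map (CommRingCat.ofHom (algebraMap k k')) ≫ σ) ⟶ Over.mk σ) ≫ eU.inv) :
    (∀ f ∈ [G.s, G.t], AlgSp.IsSurjectiveMor f ∧ AlgSp.LocP @Flat f ∧ AlgSp.IsUnivOpenMor f) ∧
      (∀ f ∈ [G'.s, G'.t], AlgSp.IsSurjectiveMor f ∧ AlgSp.LocP @Flat f ∧ AlgSp.IsUnivOpenMor f) ∧
      (AlgSp.IsSurjectiveMor φ.fU ∧ AlgSp.LocP @Flat φ.fU ∧ AlgSp.IsUnivOpenMor φ.fU) ∧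
      (AlgSp.IsSurjectiveMor φ.fR ∧ AlgSp.LocP @Flat φ.fR ∧ AlgSp.IsUnivOpenMor φ.fR ∧ AlgSp.IsAffineMor φ.fR) := by
  have hU : AlgSp.IsAlgSpace G.U := (AlgSp.IsAlgSpace.yon_obj _).of_iso eU.symm
  have hU' : AlgSp.IsAlgSpace G'.U := (AlgSp.IsAlgSpace.yon_obj _).of_iso eU'.symm
  have hfUsfo : SFO φ.fU := sfo_to_field_iso hU' (nonempty_points_of_iso_field _ eU') σ eU φ.fU
  -- `fU` is affine
  have hfUaff : AlgSp.IsAffineMor φ.fU := by
    rw [hfU]
    refine isAffineMor_iso_comp _ (isAffineMor_comp_iso _ ?_)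
    have : IsAffineHom (Over.homMk (Spec.map (CommRingCat.ofHom (algebraMap k k'))) rfl :
      Over.mk (Spec.map (CommRingCat.ofHom (algebraMap k k')) ≫ σ) ⟶ Over.mk σ).left := by
      change IsAffineHom (Spec.map (CommRingCat.ofHom (algebraMap k k')))
      infer_instance
    exact isAffineMor_yon_map _
  -- the intermediate fibre product `U' ×_{U,t} R`
  have hP1 : AlgSp.IsAlgSpace (pullback φ.fU G.t) :=
    Groth.Agent.S9874.result S G.U hU.diag ⟨G'.U, hU'⟩ ⟨G.R, hR⟩ φ.fU G.t _ _ _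
      (IsPullback.of_hasPullback φ.fU G.t)
  have sq1 := (isPullback_t φ hφ).flip
  have sq2 := IsPullback.of_hasPullback φ.fU G.t
  have e : (pullback.lift G'.t φ.fR φ.comm_t.symm : G'.R ⟶ pullback φ.fU G.t) ≫
      pullback.snd φ.fU G.t = φ.fR := pullback.lift_snd _ _ _
  have hfR : SFO φ.fR := by
    rw [← e]
    exact sfo_comp hR' hP1 hR (sfo_of_isPullback hU' hU hP1 sq1 hfUsfo)
      (sfo_of_isPullback hU' hU hR sq2 hfUsfo)
  have hfRaff : AlgSp.IsAffineMor φ.fR := by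
    rw [← e]
    exact isAffineMor_comp (isAffineMor_of_isPullback sq1 hfUaff) (isAffineMor_of_isPullback sq2 hfUaff)
  exact ⟨st_sfo G hR σ eU, st_sfo G' hR' _ eU', hfUsfo, hfR.1, hfR.2.1, hfR.2.2, hfRaff⟩

end Groth.Agent.S10132
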