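import Groth.Statements.S10136
import Groth.Agent.Lib.Seat45GrpUnit
import Groth.Agent.S5341
import Groth.Agent.Lib.Helper7TopDim

set_option autoImplicit false
set_option linter.style.haveILetI false
universe u
open CategoryTheory CategoryTheory.Limits AlgebraicGeometry MonoidalCategory MonObj
open AlgSp

namespace Groth.Agent.S10136

/-- For a group algebraic space `G` locally of finite type over a field `k`, `dim_g(G) = dim(G)` for
every point `g` of `G`. (The published situation allows any base scheme `S` with `k` a field over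
`S`; this row takes `S = Spec k`.) -/
theorem result (k : Type u) [Field k]
    (G : Over ((AlgSp.yon (Spec (CommRingCat.of k))).obj (Over.mk (𝟙 _)))) [GrpObj G] (hG : AlgSp.IsAlgSpace G.left)
    (hlft : AlgSp.LocP @LocallyOfFiniteType G.hom) (g : AlgSp.Points G.left) :
    AlgSp.HasAt (fun V v => FlatMor.localDim ↥V v = AlgSp.dim G.left) G.left g := by
  open Groth.Agent.Lib.Seat45.GrpUnit Groth.Agent.Lib.Seat45.FibDimSp in
  have hB : AlgSp.IsAlgSpace ((AlgSp.yon (Spec (CommRingCat.of k))).obj (Over.mk (𝟙 _))) :=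
    AlgSp.IsAlgSpace.yon_obj _
  haveI : Subsingleton ↥(Over.mk (𝟙 (Spec (CommRingCat.of k)))).left :=
    (inferInstance : Subsingleton ↥(Spec (CommRingCat.of k)))
  have hid : AlgSp.RepWith @Etale (𝟙 ((AlgSp.yon (Spec (CommRingCat.of k))).obj
      (Over.mk (𝟙 (Spec (CommRingCat.of k)))))) := AlgSp.repWith_id _ _
  -- the relative dimension on a chart is the local dimension of the chart
  have hchart : ∀ (d : WithBot ℕ∞) (V : Over (Spec (CommRingCat.of k)))
      (a : (AlgSp.yon (Spec (CommRingCat.of k))).obj V ⟶ G.left), AlgSp.RepWith @Etale a → ∀ v : ↥V.left,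
      (AlgSp.HasAtMor (fun _ _ h u => FlatMor.fibreDimAt h u = d) G.hom (AlgSp.Points.ofPt a v) ↔
        FlatMor.localDim ↥V.left v = d) := by
    intro d V a ha v
    obtain ⟨hV, hhV⟩ := (AlgSp.yon (Spec (CommRingCat.of k))).map_surjective (a ≫ G.hom)
    rw [hasAtMor_fibreDimAt_ofPt_iff (fun e => e = d) hG hB G.hom a (𝟙 _) hV ha hid
      (by rw [hhV, Category.comp_id]) v, Groth.Agent.S5341.fibreDimAt_eq_localDim_of_subsingleton]
  -- the relative dimension does not depend on the point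
  have hQ : ∀ d : WithBot ℕ∞, BCInv (fun _ _ h u => FlatMor.fibreDimAt h u = d) :=
    fun d => fun hX hY hY' hX' _ _ _ _ sq hf _ x' =>
      (hasAtMor_fibreDimAt_baseChange_iff (fun e => e = d) hX hY hY' hX' sq hf x').symm
  have hpt : ∀ g₁ g₂ : AlgSp.Points G.left, AlgSp.Points.map G.hom g₁ = AlgSp.Points.map G.hom g₂ := by
    intro g₁ g₂
    obtain ⟨t₁, h₁⟩ := (AlgSp.Points.schemeEquiv _).surjective (AlgSp.Points.map G.hom g₁)
    obtain ⟨t₂, h₂⟩ := (AlgSp.Points.schemeEquiv _).surjective (AlgSp.Points.map G.hom g₂)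
    rw [← h₁, ← h₂, Subsingleton.elim t₁ t₂]
  have hconst : ∀ (d : WithBot ℕ∞) (g₁ g₂ : AlgSp.Points G.left),
      AlgSp.HasAtMor (fun _ _ h u => FlatMor.fibreDimAt h u = d) G.hom g₁ →
        AlgSp.HasAtMor (fun _ _ h u => FlatMor.fibreDimAt h u = d) G.hom g₂ := by
    intro d g₁ g₂ h1
    rw [hasAtMor_iff_at_unit G (hQ d) hB hG hlft] at h1 ⊢
    rwa [hpt g₂ g₁]
  obtain ⟨V, a, v, ha, hv⟩ := Groth.Agent.Lib.Seat45.Charts.exists_chart hG g
  refine ⟨V, a, v, ha, hv, ?_⟩
  have hg : AlgSp.HasAtMor (fun _ _ h u => FlatMor.fibreDimAt h u = FlatMor.localDim ↥V.left v) G.hom g := by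
    rw [← hv]
    exact (hchart _ V a ha v).2 rfl
  have hall : ∀ (U : Over (Spec (CommRingCat.of k)))
      (c : (AlgSp.yon (Spec (CommRingCat.of k))).obj U ⟶ G.left), AlgSp.RepWith @Etale c → ∀ u : ↥U.left,
      FlatMor.localDim ↥U.left u = FlatMor.localDim ↥V.left v := fun U c hc u =>
    (hchart _ U c hc u).1 (hconst _ g _ hg)
  apply le_antisymm
  · unfold AlgSp.dim
    refine le_trans ?_ (le_iSup₂ (f := fun (U : Over (Spec (CommRingCat.of k)))
      (c : (AlgSp.yon (Spec (CommRingCat.of k))).obj U ⟶ G.left) =>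
        ⨆ (_ : AlgSp.RepWith @Etale c), topologicalKrullDim ↥U.left) V a)
    refine le_trans ?_ (le_iSup (fun _ : AlgSp.RepWith @Etale a => topologicalKrullDim ↥V.left) ha)
    exact Groth.Agent.Lib.Helper7.TopDim.localDim_le_dim v
  · unfold AlgSp.dim
    refine iSup_le fun U => iSup_le fun c => iSup_le fun hc => ?_
    rw [Groth.Agent.Lib.Helper7.TopDim.topologicalKrullDim_eq_iSup_localDim]
    exact iSup_le fun u => (hall U c hc u).le

end Groth.Agent.S10136
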