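import Groth.Statements.S10198
import Mathlib
import Groth.Agent.Lib.Seat45ZarQs
import Groth.Agent.S10182
import Groth.Agent.S10177

set_option autoImplicit false
set_option linter.style.haveILetI false
universe u
open CategoryTheory CategoryTheory.Limits AlgebraicGeometry Topology TopologicalSpace
open AlgSp

namespace Groth.Agent.S10198

/-- (1) if and only if (3): for an algebraic space X over a scheme S, X is Zariski locally
quasi-separated over S (it has a Zariski covering by open subspaces whose diagonals over S are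
quasi-compact) if and only if X has a Zariski covering by open subspaces each of which admits a
quasi-compact, etale, surjective map from an affine scheme. Since the second condition does not
mention S, being Zariski locally quasi-separated does not depend on the base. -/
theorem result {S : Scheme.{u}} (X : AlgSp.Space S) :
    (∃ (ι : Type u) (Xi : ι → AlgSp.Space S) (j : ∀ i, Xi i ⟶ X),
        AlgSp.IsZarCover (fun i => (Xi i).obj) (fun i => (j i).hom) ∧ ∀ i, AlgSp.IsQuasiSeparatedSp (Xi i).obj) ↔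
      (∃ (ι : Type u) (Xi : ι → AlgSp.Space S) (j : ∀ i, Xi i ⟶ X),
        AlgSp.IsZarCover (fun i => (Xi i).obj) (fun i => (j i).hom) ∧
          ∀ i, ∃ (U : Over S) (p : (AlgSp.yon S).obj U ⟶ (Xi i).obj), IsAffine U.left ∧
            AlgSp.RepWith @QuasiCompact p ∧ AlgSp.RepWith @Etale p ∧ AlgSp.RepWith @Surjective p) := by
  open Groth.Agent.Lib.Seat45.QsSober Groth.Agent.Lib.Seat45.ZarQs Groth.Agent.Lib.Helper12 in
  constructor
  · rintro ⟨ι, Xi, j, hj, hqs⟩
    choose A pA hpAe hpAs using fun i => (Xi i).property.atlas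
    have hloc : ∀ k : (Σ i : ι, ↥(A i).left), ∃ (V : S.Opens) (N : (A k.1).left.Opens),
        IsAffineOpen V ∧ IsAffineOpen N ∧ k.2 ∈ N ∧ ∀ w : ↥N, (A k.1).hom w.1 ∈ V := by
      rintro ⟨i, a₀⟩
      obtain ⟨_, ⟨V, hV, rfl⟩, ha₀V, -⟩ := S.isBasis_affineOpens.exists_subset_of_mem_open
        (Set.mem_univ ((A i).hom a₀)) isOpen_univ
      obtain ⟨_, ⟨N, hN, rfl⟩, ha₀N, hNV⟩ := (A i).left.isBasis_affineOpens.exists_subset_of_mem_open
        (show a₀ ∈ ((A i).hom ⁻¹ᵁ V : Set ↥(A i).left) from ha₀V) ((A i).hom ⁻¹ᵁ V).isOpen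
      exact ⟨V, N, hV, hN, ha₀N, fun w => hNV w.2⟩
    choose V N hV hN hkN hNV using hloc
    have hq : ∀ k : (Σ i : ι, ↥(A i).left), ∃ q : (resObj (A k.1) (N k)).left ⟶ ((V k : S.Opens) : Scheme.{u}),
        q ≫ (V k).ι = (resObj (A k.1) (N k)).hom := fun k =>
      exists_factor_opens _ (V k) (fun w => hNV k w)
    choose q hq using hq
    have ha₀ : ∀ k : (Σ i : ι, ↥(A i).left),
        AlgSp.RepWith @Etale ((AlgSp.yon S).map (resHom (A k.1) (N k)) ≫ pA k.1) := fun k =>
      repWith_etale_res (pA k.1) (hpAe k.1) (N k)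
    have hmain := fun k : (Σ i : ι, ↥(A i).left) =>
      haveI : IsAffine (resObj (A k.1) (N k)).left := hN k
      exists_affine_qc_chart (X := X.obj) (j k.1).hom (hj.1 k.1) (hqs k.1)
        ((AlgSp.yon S).map (resHom (A k.1) (N k)) ≫ pA k.1) (ha₀ k) (V k) (hV k) (q k) (hq k)
    refine ⟨Σ i : ι, ↥(A i).left,
      fun k => ⟨OpenSub.obj X.obj (Set.range (AlgSp.Points.ofPt
        (((AlgSp.yon S).map (resHom (A k.1) (N k)) ≫ pA k.1) ≫ (j k.1).hom))),
        OpenSub.isAlgSpace_obj X.property (hmain k).1⟩,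
      fun k => ObjectProperty.homMk (OpenSub.incl X.obj _), ⟨fun k => OpenSub.repWith_incl (hmain k).1, ?_⟩,
      fun k => ?_⟩
    · intro x
      obtain ⟨i, y, rfl⟩ := hj.2 x
      obtain ⟨a₀, rfl⟩ := Groth.Agent.S10177.surjective_ofPt (pA i) (hpAs i) y
      refine ⟨⟨i, a₀⟩, ?_⟩
      change _ ∈ Set.range (AlgSp.Points.map (OpenSub.incl X.obj _))
      rw [OpenSub.range_map_incl]
      refine ⟨⟨a₀, hkN ⟨i, a₀⟩⟩, ?_⟩
      rw [← AlgSp.Points.map_ofPt, ofPt_res]
      rfl
    · obtain ⟨-, p, -, hpq, hpe, hps⟩ := hmain k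
      exact ⟨resObj (A k.1) (N k), p, hN k, hpq, hpe, hps⟩
  · rintro ⟨ι, Xi, j, hj, hch⟩
    refine ⟨ι, Xi, j, hj, fun i => ?_⟩
    obtain ⟨U, p, hU, hpq, hpe, hps⟩ := hch i
    haveI := hU
    obtain ⟨R, t, s', sq⟩ := hpe.1 p
    obtain ⟨s, rfl⟩ := (AlgSp.yon S).map_surjective s'
    haveI : QuasiCompact t.left := hpq.2 p _ t sq
    exact Groth.Agent.S10182.result (Xi i) p hpe hps s t sq.flip

end Groth.Agent.S10198
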