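import Groth.Statements.S10199
import Mathlib
import Groth.Agent.Lib.Seat45QsSober
import Groth.Agent.Lib.Seat45Charts
import Groth.Agent.Lib.Seat83ZarDecent
import Groth.Agent.S10338
import Groth.Agent.S10350

set_option autoImplicit false
set_option linter.style.haveILetI false
universe u
open CategoryTheory CategoryTheory.Limits AlgebraicGeometry Topology TopologicalSpace
open AlgSp

namespace Groth.Agent.S10199

/-- Let X be an algebraic space over a scheme S that is Zariski locally quasi-separated over S (X has a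
Zariski covering by open subspaces whose diagonals over S are quasi-compact; for instance X
quasi-separated over S). Then |X| is a sober topological space. (Being Zariski locally
quasi-separated over S is the same as the absolute notion, so no hypothesis on S is needed.) -/
theorem result {S : Scheme.{u}} (X : AlgSp.Space S)
    (hX : ∃ (ι : Type u) (Xi : ι → AlgSp.Space S) (j : ∀ i, Xi i ⟶ X),
        AlgSp.IsZarCover (fun i => (Xi i).obj) (fun i => (j i).hom) ∧ ∀ i, AlgSp.IsQuasiSeparatedSp (Xi i).obj) :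
    QuasiSober (AlgSp.Points X.obj) ∧ T0Space (AlgSp.Points X.obj) := by
  open Groth.Agent.Lib.Seat45.QsSober Groth.Agent.Lib.Seat45.Charts in
  obtain ⟨ι, Xi, j, hj, hqs⟩ := hX
  have hdec : AlgSp.IsDecent X.obj :=
    Groth.Agent.Lib.Seat83.ZarDecent.isDecent_of_isZarCover (fun i => (Xi i).obj)
      (fun i => (Xi i).property) (fun i => (j i).hom) hj
      (fun i => Groth.Agent.S10350.result (Xi i) (hqs i))
  refine ⟨?_, Groth.Agent.S10338.result X hdec⟩
  refine quasiSober_of_charts (fun x => ?_)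
  obtain ⟨i, y, rfl⟩ := hj.2 x
  haveI : Mono (j i).hom := Groth.Agent.Lib.Seat83.ZarDecent.mono_of_openImm _ (hj.1 i)
  obtain ⟨U₀, a₀, u₀, ha₀, rfl⟩ := exists_chart (Xi i).property y
  -- an affine open of `S` around the image of `u₀`
  obtain ⟨_, ⟨V, hV, rfl⟩, hu₀V, -⟩ := S.isBasis_affineOpens.exists_subset_of_mem_open
    (Set.mem_univ (U₀.hom u₀)) isOpen_univ
  obtain ⟨_, ⟨N, hN, rfl⟩, hu₀N, hNV⟩ := U₀.left.isBasis_affineOpens.exists_subset_of_mem_open
    (show u₀ ∈ (U₀.hom ⁻¹ᵁ V : Set ↥U₀.left) from hu₀V) (U₀.hom ⁻¹ᵁ V).isOpen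
  haveI : IsAffine (resObj U₀ N).left := hN
  obtain ⟨N, rfl⟩ : ∃ N' : U₀.left.Opens, N' = N := ⟨N, rfl⟩
  obtain ⟨V, rfl⟩ : ∃ V' : S.Opens, V' = V := ⟨V, rfl⟩
  have hrange : Set.range (N.ι ≫ U₀.hom) ⊆ Set.range V.ι := by
    rintro _ ⟨w, rfl⟩
    rw [Scheme.Opens.range_ι]
    exact hNV w.2
  let q : (resObj U₀ N).left ⟶ (V : Scheme.{u}) := IsOpenImmersion.lift V.ι (N.ι ≫ U₀.hom) hrange
  have hq : q ≫ V.ι = (resObj U₀ N).hom := IsOpenImmersion.lift_fac _ _ _
  have ha' : AlgSp.RepWith @Etale ((AlgSp.yon S).map (resHom U₀ N) ≫ a₀) := repWith_etale_res a₀ ha₀ N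
  obtain ⟨R, t, s', sqR⟩ := ha'.1 ((AlgSp.yon S).map (resHom U₀ N) ≫ a₀)
  obtain ⟨s, rfl⟩ := (AlgSp.yon S).map_surjective s'
  have hRc : CompactSpace ↥R.left := compactSpace_of_qs_of_factors (hqs i) V hV q hq _ s t sqR
  refine ⟨resObj U₀ N, R, ((AlgSp.yon S).map (resHom U₀ N) ≫ a₀) ≫ (j i).hom, s, t, hN, hRc, ?_,
    isPullback_comp_mono sqR (j i).hom, ⟨⟨u₀, hu₀N⟩, ?_⟩⟩
  · exact (AlgSp.RepWith @Etale).comp_mem _ _ ha' (repWith_etale_of_isOpenImmersion (hj.1 i))
  · rw [← AlgSp.Points.map_ofPt, ofPt_res]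
    rfl

end Groth.Agent.S10199
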