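import Groth.Statements.S10200
import Groth.Agent.Lib.Seat45FinSch
import Groth.Agent.Lib.Seat45DegQc
import Groth.Agent.Lib.Seat45LocFinIrrSp
import Groth.Agent.Lib.Seat83ZarDecent
import Groth.Agent.S10197
import Groth.Agent.S10190
import Groth.Agent.S10350

set_option autoImplicit false
set_option linter.style.haveILetI false
universe u
open CategoryTheory CategoryTheory.Limits AlgebraicGeometry Topology TopologicalSpace
open AlgSp

namespace Groth.Agent.S10200

/-- Let X be an algebraic space over a scheme S that is Zariski locally quasi-separated over S (for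
example quasi-separated over S). Then there is a dense open subspace of X which is a scheme; more
precisely there is an open subspace X' ⟶ X with representable underlying sheaf such that |X'| is
dense in |X| and contains every codimension 0 point of X (every point under which some etale chart
has a zero-dimensional local ring). -/
theorem result {S : Scheme.{u}} (X : AlgSp.Space S)
    (hX : ∃ (ι : Type u) (Xi : ι → AlgSp.Space S) (j : ∀ i, Xi i ⟶ X),
        AlgSp.IsZarCover (fun i => (Xi i).obj) (fun i => (j i).hom) ∧ ∀ i, AlgSp.IsQuasiSeparatedSp (Xi i).obj) :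
    ∃ (X' : AlgSp.Space S) (j : X' ⟶ X), AlgSp.RepWith @IsOpenImmersion j.hom ∧ X'.obj.obj.IsRepresentable ∧
      Dense (Set.range (AlgSp.Points.map j.hom)) ∧
      ∀ x : AlgSp.Points X.obj, AlgSp.HasAt (fun U u => ringKrullDim ↥(U.presheaf.stalk u) = 0) X.obj x →
        x ∈ Set.range (AlgSp.Points.map j.hom) := by
  open Groth.Agent.Lib.Seat45.QsSober Groth.Agent.Lib.Seat45.Charts Groth.Agent.Lib.Seat45.LocFinIrr
    Groth.Agent.Lib.Seat45.DecGen in
  obtain ⟨ι, Xi, j, hj, hqs⟩ := hX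
  obtain ⟨X', jX, hjX, hrep, hmax⟩ := Groth.Agent.S10197.result X
  have hQ : ∀ {W V : Scheme.{u}} (g : W ⟶ V) [Etale g] (w : ↥W),
      ringKrullDim ↥(W.presheaf.stalk w) = 0 ↔ ringKrullDim ↥(V.presheaf.stalk (g w)) = 0 :=
    fun g _ w => by rw [Groth.Agent.Lib.Seat45.EtDim.ringKrullDim_stalk_eq_of_etale g w]
  have key : ∀ x : AlgSp.Points X.obj,
      AlgSp.HasAt (fun U u => ringKrullDim ↥(U.presheaf.stalk u) = 0) X.obj x →
        x ∈ Set.range (AlgSp.Points.map jX.hom) := by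
    intro x hx
    obtain ⟨i, y, rfl⟩ := hj.2 x
    haveI : Mono (j i).hom := Groth.Agent.Lib.Seat83.ZarDecent.mono_of_openImm _ (hj.1 i)
    have hdeci : AlgSp.IsDecent (Xi i).obj := Groth.Agent.S10350.result (Xi i) (hqs i)
    obtain ⟨U₀, a₀, u₀, ha₀, rfl⟩ := exists_chart (Xi i).property y
    obtain ⟨_, ⟨VS, hVS, rfl⟩, hu₀V, -⟩ := S.isBasis_affineOpens.exists_subset_of_mem_open
      (Set.mem_univ (U₀.hom u₀)) isOpen_univ
    obtain ⟨_, ⟨N, hN, rfl⟩, hu₀N, hNV⟩ := U₀.left.isBasis_affineOpens.exists_subset_of_mem_open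
      (show u₀ ∈ (U₀.hom ⁻¹ᵁ VS : Set ↥U₀.left) from hu₀V) (U₀.hom ⁻¹ᵁ VS).isOpen
    haveI : IsAffine (resObj U₀ N).left := hN
    obtain ⟨N, rfl⟩ : ∃ N' : U₀.left.Opens, N' = N := ⟨N, rfl⟩
    obtain ⟨VS, rfl⟩ : ∃ V' : S.Opens, V' = VS := ⟨VS, rfl⟩
    have hrange : Set.range (N.ι ≫ U₀.hom) ⊆ Set.range VS.ι := by
      rintro _ ⟨w, rfl⟩
      rw [Scheme.Opens.range_ι]
      exact hNV w.2
    let q : (resObj U₀ N).left ⟶ (VS : Scheme.{u}) := IsOpenImmersion.lift VS.ι (N.ι ≫ U₀.hom) hrange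
    have hq : q ≫ VS.ι = (resObj U₀ N).hom := IsOpenImmersion.lift_fac _ _ _
    have ha' : AlgSp.RepWith @Etale ((AlgSp.yon S).map (resHom U₀ N) ≫ a₀) := repWith_etale_res a₀ ha₀ N
    obtain ⟨R, t, s', sqR⟩ := ha'.1 ((AlgSp.yon S).map (resHom U₀ N) ≫ a₀)
    obtain ⟨s, rfl⟩ := (AlgSp.yon S).map_surjective s'
    haveI hRc : CompactSpace ↥R.left := compactSpace_of_qs_of_factors (hqs i) VS hVS q hq _ s t sqR
    -- the local ring at `u₀` has dimension zero
    have hae : AlgSp.RepWith @Etale (((AlgSp.yon S).map (resHom U₀ N) ≫ a₀) ≫ (j i).hom) :=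
      (AlgSp.RepWith @Etale).comp_mem _ _ ha' (repWith_etale_of_isOpenImmersion (hj.1 i))
    have hpt : AlgSp.Points.ofPt (((AlgSp.yon S).map (resHom U₀ N) ≫ a₀) ≫ (j i).hom)
        (⟨u₀, hu₀N⟩ : ↥(resObj U₀ N).left) =
        AlgSp.Points.map (j i).hom (AlgSp.Points.ofPt a₀ u₀) := by
      rw [← AlgSp.Points.map_ofPt, ofPt_res]
      rfl
    have hdim : ringKrullDim ↥((resObj U₀ N).left.presheaf.stalk ⟨u₀, hu₀N⟩) = 0 :=
      (hasAt_iff_forall (fun U u => ringKrullDim ↥(U.presheaf.stalk u) = 0) hQ X.property _).1 hx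
        (resObj U₀ N) _ ⟨u₀, hu₀N⟩ hae hpt
    have hmaxpt : ∀ u' : ↥(resObj U₀ N).left, u' ⤳ (⟨u₀, hu₀N⟩ : ↥(resObj U₀ N).left) →
        u' = ⟨u₀, hu₀N⟩ := (maxPt_iff_stalkDim_eq_zero _).2 hdim
    haveI : Etale s.left := (etale_left_of_isPullback ha' sqR).1
    haveI : IsSeparated s.left := (isSeparated_left_of_isPullback sqR).1
    haveI : QuasiCompact s.left := (HasAffineProperty.iff_of_isAffine (P := @QuasiCompact)).2 hRc
    have hfinfib := isFinite_fibre (Xi i) hdeci _ ha' s t sqR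
    obtain ⟨V, huV, hVfin⟩ := Groth.Agent.Lib.Seat45.DegTower.exists_open_isFinite_of_maximal s.left
      (fun y => by haveI := hfinfib y; exact Groth.Agent.Lib.Seat45.DegTower.exists_not_mem_Uopen s.left y)
      ⟨u₀, hu₀N⟩ hmaxpt
    obtain ⟨M, m, hm, hmem⟩ := Groth.Agent.Lib.Seat45.FinSch.exists_open_subscheme_of_isFinite (Xi i) _ ha'
      s t sqR V hVfin
    obtain ⟨z, hz⟩ := hmem _ huV hdim
    let X'' : AlgSp.Space S := ⟨(AlgSp.yon S).obj M, AlgSp.IsAlgSpace.yon_obj M⟩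
    let j'' : X'' ⟶ X := ObjectProperty.homMk (m ≫ (j i).hom)
    obtain ⟨k, hk⟩ := hmax X'' j'' ((AlgSp.RepWith @IsOpenImmersion).comp_mem _ _ hm (hj.1 i))
      ⟨M, ⟨AlgSp.representableByOfIso (Iso.refl _)⟩⟩
    have hkm : k.hom ≫ jX.hom = m ≫ (j i).hom := congrArg (fun f => f.hom) hk
    refine ⟨AlgSp.Points.map k.hom z, ?_⟩
    rw [← AlgSp.Points.map_comp, hkm, AlgSp.Points.map_comp, hz, ofPt_res]
    rfl
  refine ⟨X', jX, hjX, hrep, ?_, key⟩
  exact (Groth.Agent.S10190.result X).mono (fun x hx => key x hx)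

end Groth.Agent.S10200
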