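import Groth.Statements.S10201
import Mathlib
import Groth.Agent.Lib.Seat45QsSober
import Groth.Agent.S10185
import Groth.Agent.S10177
import Groth.Agent.S10338
import Groth.Agent.S10350

set_option autoImplicit false
set_option linter.style.haveILetI false
universe u
open CategoryTheory CategoryTheory.Limits AlgebraicGeometry Topology TopologicalSpace
open AlgSp

namespace Groth.Agent.S10201

/-- Let S be a quasi-separated scheme and X a quasi-compact algebraic space over S whose diagonal over S
is quasi-compact. Then |X| is a spectral space. (The published statement assumes X quasi-separated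
in the absolute sense; over a quasi-separated base that is the same as quasi-separated over S, while
for S quasi-compact and not quasi-separated the space h_S is quasi-compact with quasi-compact
diagonal over S and |h_S| = |S| is not spectral.) -/
theorem result {S : Scheme.{u}} [QuasiSeparatedSpace ↥S]
    (X : AlgSp.Space S) (hqc : AlgSp.IsQuasiCompactSp X.obj) (hqs : AlgSp.IsQuasiSeparatedSp X.obj) :
    SpectralSpace (AlgSp.Points X.obj) := by
  open Groth.Agent.Lib.Seat45.QsSober in
  obtain ⟨U, a, hae, has, hUc⟩ := hqc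
  haveI : CompactSpace ↥U.left := hUc
  have hsurj : Function.Surjective (AlgSp.Points.ofPt a) := Groth.Agent.S10177.surjective_ofPt a has
  have hcont : Continuous (AlgSp.Points.ofPt a) := AlgSp.Points.continuous_ofPt a
  have hopen : IsOpenMap (AlgSp.Points.ofPt a) := Groth.Agent.S10176.isOpenMap_ofPt a hae
  -- fibre products of restricted charts are quasi-compact
  have hcomp : ∀ (N N' : U.left.affineOpens) (E : Over S) (q : E ⟶ resObj U N.1) (p : E ⟶ resObj U N'.1),
      IsPullback ((AlgSp.yon S).map q) ((AlgSp.yon S).map p)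
        ((AlgSp.yon S).map (resHom U N.1) ≫ a) ((AlgSp.yon S).map (resHom U N'.1) ≫ a) →
      CompactSpace ↥E.left := by
    intro N N' E q p sqE
    haveI : CompactSpace ↥(resObj U N.1).left := isCompact_iff_compactSpace.1 N.2.isCompact
    haveI : CompactSpace ↥(resObj U N'.1).left := isCompact_iff_compactSpace.1 N'.2.isCompact
    exact Groth.Agent.S10185.result X hqs (resObj U N.1) (resObj U N'.1) E _ _ q p sqE
  have hinter : ∀ N N' : U.left.affineOpens,
      IsCompact (AlgSp.Points.ofPt a '' (N.1 : Set ↥U.left) ∩ AlgSp.Points.ofPt a '' (N'.1 : Set ↥U.left)) := by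
    intro N N'
    obtain ⟨E, p, q', sqE⟩ := (repWith_etale_res a hae N.1).1 ((AlgSp.yon S).map (resHom U N'.1) ≫ a)
    obtain ⟨q, rfl⟩ := (AlgSp.yon S).map_surjective q'
    haveI : CompactSpace ↥E.left := hcomp N N' E q p sqE
    rw [← range_ofPt_res a N.1, ← range_ofPt_res a N'.1, range_inter_range_eq sqE]
    exact isCompact_range (AlgSp.Points.continuous_ofPt _)
  have hbasis : TopologicalSpace.IsTopologicalBasis
      (Set.range (fun N : U.left.affineOpens => AlgSp.Points.ofPt a '' (N.1 : Set ↥U.left))) := by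
    refine TopologicalSpace.isTopologicalBasis_of_isOpen_of_nhds ?_ ?_
    · rintro _ ⟨N, rfl⟩
      exact hopen _ N.1.isOpen
    · intro x O hxO hO
      obtain ⟨u, rfl⟩ := hsurj x
      obtain ⟨_, ⟨N, hN, rfl⟩, huN, hNO⟩ := U.left.isBasis_affineOpens.exists_subset_of_mem_open
        (show u ∈ AlgSp.Points.ofPt a ⁻¹' O from hxO) (hO.preimage hcont)
      exact ⟨_, ⟨⟨N, hN⟩, rfl⟩, ⟨u, huN, rfl⟩, Set.image_subset_iff.2 hNO⟩
  haveI : T0Space (AlgSp.Points X.obj) :=
    Groth.Agent.S10338.result X (Groth.Agent.S10350.result X hqs)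
  haveI : CompactSpace (AlgSp.Points X.obj) :=
    ⟨by rw [← hsurj.range_eq]; exact isCompact_range hcont⟩
  haveI : QuasiSeparatedSpace (AlgSp.Points X.obj) :=
    QuasiSeparatedSpace.of_isTopologicalBasis hbasis hinter
  haveI : PrespectralSpace (AlgSp.Points X.obj) :=
    PrespectralSpace.of_isTopologicalBasis' hbasis (fun N => N.2.isCompact.image hcont)
  haveI : QuasiSober (AlgSp.Points X.obj) := by
    refine quasiSober_of_charts (fun x => ?_)
    obtain ⟨u, rfl⟩ := hsurj x
    obtain ⟨_, ⟨N, hN, rfl⟩, huN, -⟩ := U.left.isBasis_affineOpens.exists_subset_of_mem_open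
      (Set.mem_univ u) isOpen_univ
    obtain ⟨R, t, s', sqR⟩ := (repWith_etale_res a hae N).1 ((AlgSp.yon S).map (resHom U N) ≫ a)
    obtain ⟨s, rfl⟩ := (AlgSp.yon S).map_surjective s'
    refine ⟨resObj U N, R, _, s, t, hN, hcomp ⟨N, hN⟩ ⟨N, hN⟩ R s t sqR, repWith_etale_res a hae N, sqR, ?_⟩
    rw [range_ofPt_res]
    exact ⟨u, huN, rfl⟩
  exact {}

end Groth.Agent.S10201
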