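import Groth.Statements.S10205
import Groth.Agent.S9920
import Groth.Agent.S9927
import Groth.Agent.Lib.Seat46FieldQuot

set_option autoImplicit false
universe u
open CategoryTheory CategoryTheory.Limits AlgebraicGeometry Topology TopologicalSpace
open AlgSp

namespace Groth.Agent.S10205

/-- Let X be an algebraic space over a scheme S, k a field with a structure morphism Spec k ⟶ S, and p :
h_{Spec k} ⟶ X a surjective etale map. If the diagonal of X over S is quasi-compact, then X ≅
h_{Spec k'} for a field k' over S, where p corresponds to a finite etale morphism Spec k ⟶ Spec k'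
over S (that is, k is a finite separable extension of k'). (The published statement assumes X
quasi-separated in the absolute sense; the argument only uses that Spec k ×_X Spec k is
quasi-compact, which already follows from quasi-compactness of the diagonal over S since Spec k ×_S
Spec k is affine.) -/
theorem result {S : Scheme.{u}} (X : AlgSp.Space S)
    (hX : AlgSp.IsQuasiSeparatedSp X.obj) (k : Type u) [Field k] (str : Spec (CommRingCat.of k) ⟶ S)
    (p : (AlgSp.yon S).obj (Over.mk str) ⟶ X.obj) (hp : AlgSp.RepWith @Etale p) (hs : AlgSp.RepWith @Surjective p) :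
    ∃ (k' : Type u) (_ : Field k') (str' : Spec (CommRingCat.of k') ⟶ S)
      (e : (AlgSp.yon S).obj (Over.mk str') ≅ X.obj) (c : Over.mk str ⟶ Over.mk str'),
      (AlgSp.yon S).map c ≫ e.hom = p ∧ IsFinite c.left ∧ Etale c.left := by
  open Groth.Agent.Lib.Seat46.FieldQuot Groth.Agent.Lib.Helper9 in
  obtain ⟨R, s, fst, sq0⟩ := hp.1 p
  obtain ⟨t, rfl⟩ := (AlgSp.yon S).map_surjective fst
  haveI : Etale s.left := hp.2 _ _ _ sq0
  have hqc : QuasiCompact (prod.lift t s).left := Groth.Agent.S9920.property_of_repWith_diag hX sq0
  haveI : CompactSpace ↥(pullback (Over.mk str).hom (Over.mk str).hom) := compactSpace_pullback_field str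
  haveI : CompactSpace ↥(Over.mk str ⨯ Over.mk str).left :=
    QuasiCompact.compactSpace_of_compactSpace
      (Over.prodLeftIsoPullback (Over.mk str) (Over.mk str)).hom
  haveI : CompactSpace ↥R.left := QuasiCompact.compactSpace_of_compactSpace (prod.lift t s).left
  obtain ⟨k', fld, str', c, m, hm, hmono, hfin, het, -⟩ := exists_mono_factor str p s t sq0
  haveI : Epi p := Groth.Agent.S9927.epi_of_repWith p hp hs
  haveI : Epi m := epi_of_epi_fac hm
  haveI : IsIso m := ToposLike.isIso_of_mono_of_epi m hmono inferInstance
  exact ⟨k', fld, str', asIso m, c, hm, hfin, het⟩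

end Groth.Agent.S10205
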