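import Groth.Statements.S10216
import Groth.Agent.Lib.Seat45Charts
import Groth.Agent.S10176
import Groth.Prelude.Def_AlgSpDec

set_option autoImplicit false
set_option linter.style.haveILetI false
universe u
open CategoryTheory CategoryTheory.Limits AlgebraicGeometry Topology TopologicalSpace
open AlgSp

namespace Groth.Agent.S10216

/-- Let φ : U ⟶ X be an etale morphism of algebraic spaces over a scheme S, take a geometric point x̄ :
Spec k ⟶ X of X whose image in |X| is x, and let u ∈ |U| with φ(u) = x. Then there is a geometric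
point ū : Spec k ⟶ U (with the same field k) lying over u and with φ ∘ ū = x̄. -/
theorem result {S : Scheme.{u}} {U X : AlgSp.Space S} (φ : U ⟶ X)
    (hφ : AlgSp.IsEtaleMor φ.hom) (xbar : AlgSp.FieldPt X.obj) (hx : xbar.IsGeometric)
    (u : AlgSp.Points U.obj) (hu : AlgSp.Points.map φ.hom u = AlgSp.Points.mk xbar) :
    ∃ ubar : (AlgSp.yon S).obj xbar.pt ⟶ U.obj,
      ubar ≫ φ.hom = xbar.toHom ∧ AlgSp.Points.ofPt ubar (IsLocalRing.closedPoint xbar.K) = u := by
  haveI : IsAlgClosed xbar.K := hx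
  haveI : IsSepClosed xbar.K := inferInstance
  obtain ⟨W, c, w, hc, hw⟩ := Groth.Agent.Lib.Seat45.Charts.exists_chart U.property u
  have hce : AlgSp.RepWith @Etale (c ≫ φ.hom) := hφ c hc
  obtain ⟨T, pr, q', sq⟩ := hce.1 xbar.toHom
  obtain ⟨q, rfl⟩ := (AlgSp.yon S).map_surjective q'
  haveI : Etale pr.left := hce.2 _ _ _ sq
  have e : AlgSp.Points.ofPt (c ≫ φ.hom) w =
      AlgSp.Points.ofPt xbar.toHom (default : ↥(Spec (CommRingCat.of xbar.K))) := by
    rw [AlgSp.Points.ofPt_toHom, ← AlgSp.Points.map_ofPt, hw, hu]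
  obtain ⟨y, hy1, hy2⟩ := Groth.Agent.S10176.exists_point_of_isPullback_yon sq w _ e
  obtain ⟨l, hl1, hl2⟩ := AlgebraicGeometry.Scheme.exists_fac_of_etale_of_isSepClosed pr.left
    (𝟙 (Spec (CommRingCat.of xbar.K))) y (by rw [hy2]; rfl)
  have hlT : l ≫ T.hom = xbar.pt.hom := by
    rw [← Over.w pr, ← Category.assoc, hl1, Category.id_comp]
  let σ : xbar.pt ⟶ T := Over.homMk l hlT
  have hσ : σ ≫ pr = 𝟙 _ := by
    apply Over.OverMorphism.ext
    exact hl1
  refine ⟨(AlgSp.yon S).map (σ ≫ q) ≫ c, ?_, ?_⟩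
  · rw [Functor.map_comp, Category.assoc, Category.assoc, sq.w, ← Category.assoc, ← Functor.map_comp, hσ,
      CategoryTheory.Functor.map_id, Category.id_comp]
  · rw [Groth.Agent.S10176.ofPt_map_comp, ← hw]
    congr 1
    have h1 : l (IsLocalRing.closedPoint xbar.K) = y := by
      rw [← hl2]
      exact congrArg (fun z => l z) (Subsingleton.elim _ _)
    have h2 : (σ ≫ q).left = l ≫ q.left := rfl
    rw [h2, Scheme.Hom.comp_apply]
    exact (congrArg (fun z => q.left z) h1).trans hy1

end Groth.Agent.S10216
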