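import Groth.Statements.S10224
import Groth.Agent.Lib.Seat48OEtChart
import Groth.Agent.S0541

set_option autoImplicit false
universe u
open CategoryTheory CategoryTheory.Limits AlgebraicGeometry Topology TopologicalSpace
open AlgSp

namespace Groth.Agent.S10224

/-- Let X be an algebraic space over a scheme S, x̄ a geometric point of X lying over x ∈ |X|, and d ∈
{0, 1, 2, …, ∞}. Then the local ring of X at x has dimension d (that is, for some etale chart h_U ⟶
X and some point u of U over x the local ring of U at u has dimension d) if and only if the etale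
local ring of X at x̄ has dimension d. In particular the latter does not depend on the geometric
point over x. -/
theorem result {S : Scheme.{u}} (X : AlgSp.Space S) (p : AlgSp.FieldPt X.obj)
    (hp : p.IsGeometric) (d : ℕ∞) :
    AlgSp.HasAt (fun U u => ringKrullDim ↥(U.presheaf.stalk u) = (d : WithBot ℕ∞)) X.obj (AlgSp.Points.mk p) ↔
      ringKrullDim ↥(AlgSp.OEtStalk p) = (d : WithBot ℕ∞) := by
  have key : ∀ (U : Over S) (a : (AlgSp.yon S).obj U ⟶ X.obj) (u : ↥U.left),
      AlgSp.RepWith @Etale a → AlgSp.Points.ofPt a u = AlgSp.Points.mk p →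
      ringKrullDim ↥(AlgSp.OEtStalk p) = ringKrullDim ↥(U.left.presheaf.stalk u) := by
    intro U a u ha hu
    obtain ⟨A0, _, _, _, _, hsh, ⟨e⟩⟩ :=
      Groth.Agent.Lib.Seat48.OEtLocal.exists_strictHenselization_chart X p hp U a ha u hu
    rw [ringKrullDim_eq_of_ringEquiv e]
    exact Groth.Agent.S0541.result _ A0
  constructor
  · rintro ⟨U, a, u, ha, hu, hQ⟩
    rw [key U a u ha hu]
    exact hQ
  · intro h
    obtain ⟨U, a, u, ha, hu⟩ := Groth.Agent.Lib.Seat48.OEtLocal.exists_chart_of_geometric X p hp
    refine ⟨U, a, u, ha, hu, ?_⟩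
    change ringKrullDim ↥(U.left.presheaf.stalk u) = (d : WithBot ℕ∞)
    rw [← key U a u ha hu]
    exact h

end Groth.Agent.S10224
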