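import Groth.Statements.S10225
import Groth.Agent.Lib.Seat48OEtChart
import Groth.Agent.S2747

set_option autoImplicit false
universe u
open CategoryTheory CategoryTheory.Limits AlgebraicGeometry Topology TopologicalSpace
open AlgSp

namespace Groth.Agent.S10225

/-- Let X be an algebraic space over a scheme S and x̄ a geometric point of X lying over x ∈ |X|. Then
the local ring of X at x is reduced (for some etale chart h_U ⟶ X and some point u of U over x, the
local ring of U at u is reduced) if and only if the etale local ring of X at x̄ is reduced; in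
particular the latter does not depend on the choice of x̄ over x. -/
theorem result {S : Scheme.{u}} (X : AlgSp.Space S) (p : AlgSp.FieldPt X.obj) (hp : p.IsGeometric) :
    AlgSp.HasAt (fun U u => _root_.IsReduced ↥(U.presheaf.stalk u)) X.obj (AlgSp.Points.mk p) ↔
      _root_.IsReduced ↥(AlgSp.OEtStalk p) := by
  have key : ∀ (U : Over S) (a : (AlgSp.yon S).obj U ⟶ X.obj) (u : ↥U.left),
      AlgSp.RepWith @Etale a → AlgSp.Points.ofPt a u = AlgSp.Points.mk p →
      (_root_.IsReduced ↥(AlgSp.OEtStalk p) ↔ _root_.IsReduced ↥(U.left.presheaf.stalk u)) := by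
    intro U a u ha hu
    obtain ⟨A0, _, _, _, _, hsh, ⟨e⟩⟩ :=
      Groth.Agent.Lib.Seat48.OEtLocal.exists_strictHenselization_chart X p hp U a ha u hu
    rw [← Groth.Agent.S2747.result _ A0]
    constructor
    · intro h
      exact isReduced_of_injective e.symm.toRingHom e.symm.injective
    · intro h
      exact isReduced_of_injective e.toRingHom e.injective
  constructor
  · rintro ⟨U, a, u, ha, hu, hQ⟩
    exact (key U a u ha hu).2 hQ
  · intro h
    obtain ⟨U, a, u, ha, hu⟩ := Groth.Agent.Lib.Seat48.OEtLocal.exists_chart_of_geometric X p hp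
    exact ⟨U, a, u, ha, hu, (key U a u ha hu).1 h⟩

end Groth.Agent.S10225
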