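import Groth.Statements.S10226
import Groth.Agent.Lib.Seat48OEtChart
import Groth.Agent.Lib.Seat45Noeth
import Groth.Agent.S0540

set_option autoImplicit false
universe u
open CategoryTheory CategoryTheory.Limits AlgebraicGeometry Topology TopologicalSpace
open AlgSp

namespace Groth.Agent.S10226

/-- Let X be a Noetherian algebraic space over a scheme S (quasi-compact, with quasi-compact diagonal
over S, and locally Noetherian) and x̄ a geometric point of X. Then the etale local ring of X at x̄
is a Noetherian local ring. -/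
theorem result {S : Scheme.{u}} (X : AlgSp.Space S)
    (hqc : AlgSp.IsQuasiCompactSp X.obj) (hqs : AlgSp.IsQuasiSeparatedSp X.obj) (hX : AlgSp.IsLocNoethSp X.obj)
    (p : AlgSp.FieldPt X.obj) (hp : p.IsGeometric) :
    IsNoetherianRing ↥(AlgSp.OEtStalk p) ∧ IsLocalRing ↥(AlgSp.OEtStalk p) := by
  refine ⟨?_, Groth.Agent.Lib.Seat48.OEtLocal.isLocalRing X p hp⟩
  obtain ⟨U, a, u, ha, hu⟩ := Groth.Agent.Lib.Seat48.OEtLocal.exists_chart_of_geometric X p hp
  obtain ⟨A0, _, _, _, _, hsh, ⟨e⟩⟩ :=
    Groth.Agent.Lib.Seat48.OEtLocal.exists_strictHenselization_chart X p hp U a ha u hu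
  have h1 : IsLocallyNoetherian U.left :=
    Groth.Agent.Lib.Seat45.Noeth.isLocallyNoetherian_chart hX a ha
  have h2 : IsNoetherianRing ↥(U.left.presheaf.stalk u) := inferInstance
  have h3 : IsNoetherianRing A0 :=
    (Groth.Agent.S0540.result ↥(U.left.presheaf.stalk u) A0).1 h2
  exact isNoetherianRing_of_ringEquiv A0 e.symm

end Groth.Agent.S10226
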