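import Groth.Statements.S10231
import Groth.Agent.Lib.Seat48OEtChart
import Groth.Agent.Lib.Seat45Noeth
import Groth.Agent.S2743
import Groth.Agent.S10177

set_option autoImplicit false
universe u
open CategoryTheory CategoryTheory.Limits AlgebraicGeometry Topology TopologicalSpace
open AlgSp

namespace Groth.Agent.S10231

/-- Let X be a locally Noetherian algebraic space over a scheme S. Then X is regular (etale locally a
regular scheme: some surjective etale chart from a locally Noetherian scheme all of whose local
rings are regular) if and only if every etale local ring of X at a geometric point is a regular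
local ring. -/
theorem result {S : Scheme.{u}} (X : AlgSp.Space S) (hX : AlgSp.IsLocNoethSp X.obj) :
    AlgSp.EtaleLocally (fun U => IsLocallyNoetherian U ∧ ∀ u : ↥U, IsRegularLocalRing ↥(U.presheaf.stalk u)) X.obj ↔
      ∀ p : AlgSp.FieldPt X.obj, p.IsGeometric → IsRegularLocalRing ↥(AlgSp.OEtStalk p) := by
  have key : ∀ (p : AlgSp.FieldPt X.obj), p.IsGeometric → ∀ (U : Over S)
      (a : (AlgSp.yon S).obj U ⟶ X.obj) (u : ↥U.left),
      AlgSp.RepWith @Etale a → AlgSp.Points.ofPt a u = AlgSp.Points.mk p →
      (IsRegularLocalRing ↥(AlgSp.OEtStalk p) ↔ IsRegularLocalRing ↥(U.left.presheaf.stalk u)) := by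
    intro p hp U a u ha hu
    obtain ⟨A0, _, _, _, _, hsh, ⟨e⟩⟩ :=
      Groth.Agent.Lib.Seat48.OEtLocal.exists_strictHenselization_chart X p hp U a ha u hu
    have h1 : IsLocallyNoetherian U.left :=
      Groth.Agent.Lib.Seat45.Noeth.isLocallyNoetherian_chart hX a ha
    have h2 : IsNoetherianRing ↥(U.left.presheaf.stalk u) := inferInstance
    rw [← Groth.Agent.S2743.result ↥(U.left.presheaf.stalk u) A0]
    constructor
    · intro h
      exact IsRegularLocalRing.of_ringEquiv e
    · intro h
      exact IsRegularLocalRing.of_ringEquiv e.symm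
  constructor
  · rintro ⟨U, a, hae, has, hUn, hreg⟩ p hp
    obtain ⟨u, hu⟩ := Groth.Agent.S10177.surjective_ofPt a has (AlgSp.Points.mk p)
    exact (key p hp U a u hae hu).2 (hreg u)
  · intro h
    obtain ⟨U, a, hae, has, hUn⟩ := hX
    refine ⟨U, a, hae, has, hUn, fun u => ?_⟩
    obtain ⟨p, hp, hpx⟩ :=
      Groth.Agent.Lib.Helper9.SpPoint.exists_geometric_over (AlgSp.Points.ofPt a u)
    exact (key p hp U a u hae hpx.symm).1 (h p hp)

end Groth.Agent.S10231
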