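import Groth.Statements.S10232
import Groth.Agent.Lib.Seat48OEtChart
import Groth.Agent.S2743
import Groth.Agent.S0540

set_option autoImplicit false
universe u
open CategoryTheory CategoryTheory.Limits AlgebraicGeometry Topology TopologicalSpace
open AlgSp

namespace Groth.Agent.S10232

/-- Let X be an algebraic space over a scheme S and x ∈ |X|. Then X is regular at x (for some etale
chart h_U ⟶ X and some point u of U over x, the local ring of U at u is regular) if and only if the
etale local ring of X at x̄ is regular for every geometric point x̄ lying over x, if and only if it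
is regular for some geometric point x̄ lying over x. -/
theorem result {S : Scheme.{u}} (X : AlgSp.Space S) (x : AlgSp.Points X.obj) :
    (AlgSp.HasAt (fun U u => IsRegularLocalRing ↥(U.presheaf.stalk u)) X.obj x ↔
      ∀ p : AlgSp.FieldPt X.obj, p.IsGeometric → AlgSp.Points.mk p = x → IsRegularLocalRing ↥(AlgSp.OEtStalk p)) ∧
    (AlgSp.HasAt (fun U u => IsRegularLocalRing ↥(U.presheaf.stalk u)) X.obj x ↔
      ∃ p : AlgSp.FieldPt X.obj, p.IsGeometric ∧ AlgSp.Points.mk p = x ∧ IsRegularLocalRing ↥(AlgSp.OEtStalk p)) := by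
  have key : ∀ (p : AlgSp.FieldPt X.obj), p.IsGeometric → ∀ (U : Over S)
      (a : (AlgSp.yon S).obj U ⟶ X.obj) (u : ↥U.left),
      AlgSp.RepWith @Etale a → AlgSp.Points.ofPt a u = AlgSp.Points.mk p →
      (IsRegularLocalRing ↥(AlgSp.OEtStalk p) ↔ IsRegularLocalRing ↥(U.left.presheaf.stalk u)) := by
    intro p hp U a u ha hu
    obtain ⟨A0, _, _, _, _, hsh, ⟨e⟩⟩ :=
      Groth.Agent.Lib.Seat48.OEtLocal.exists_strictHenselization_chart X p hp U a ha u hu
    constructor
    · intro h
      have h1 : IsRegularLocalRing A0 := IsRegularLocalRing.of_ringEquiv e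
      have h2 : IsNoetherianRing A0 := inferInstance
      have h3 : IsNoetherianRing ↥(U.left.presheaf.stalk u) :=
        (Groth.Agent.S0540.result ↥(U.left.presheaf.stalk u) A0).2 h2
      exact (Groth.Agent.S2743.result ↥(U.left.presheaf.stalk u) A0).1 h1
    · intro h
      have h3 : IsNoetherianRing ↥(U.left.presheaf.stalk u) := inferInstance
      have h1 : IsRegularLocalRing A0 :=
        (Groth.Agent.S2743.result ↥(U.left.presheaf.stalk u) A0).2 h
      exact IsRegularLocalRing.of_ringEquiv e.symm
  constructor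
  · constructor
    · rintro ⟨U, a, u, ha, hu, hQ⟩ p hp hpx
      exact (key p hp U a u ha (hu.trans hpx.symm)).2 hQ
    · intro h
      obtain ⟨p, hp, hpx⟩ := Groth.Agent.Lib.Helper9.SpPoint.exists_geometric_over x
      obtain ⟨U, a, u, ha, hu⟩ := Groth.Agent.Lib.Seat48.OEtLocal.exists_chart_of_geometric X p hp
      exact ⟨U, a, u, ha, hu.trans hpx, (key p hp U a u ha hu).1 (h p hp hpx)⟩
  · constructor
    · rintro ⟨U, a, u, ha, hu, hQ⟩
      obtain ⟨p, hp, hpx⟩ := Groth.Agent.Lib.Helper9.SpPoint.exists_geometric_over x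
      exact ⟨p, hp, hpx, (key p hp U a u ha (hu.trans hpx.symm)).2 hQ⟩
    · rintro ⟨p, hp, hpx, h⟩
      obtain ⟨U, a, u, ha, hu⟩ := Groth.Agent.Lib.Seat48.OEtLocal.exists_chart_of_geometric X p hp
      exact ⟨U, a, u, ha, hu.trans hpx, (key p hp U a u ha hu).1 h⟩

end Groth.Agent.S10232
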