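import Groth.Statements.S10233
import Groth.Agent.Lib.Seat43SubSp
-- import your own Groth.Agent.* helpers here

set_option autoImplicit false
universe u
open CategoryTheory CategoryTheory.Limits AlgebraicGeometry Topology TopologicalSpace
open AlgSp

namespace Groth.Agent.S10233

/-- Let X be an algebraic space over a scheme S with a presentation (U, R, s, t, p), and let i' : Z' ⟶ U
be an immersion of schemes that is R-invariant, meaning that one locally closed subscheme R' of R is
at the same time the inverse image of Z' under s and under t. Then Z' descends to a locally closed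
subspace of X: there is a morphism of algebraic spaces i : Z ⟶ X representable by immersions
together with a map h_{Z'} ⟶ Z making h_{Z'} the fibre product Z ×_X h_U; moreover i is a closed
(resp. open) immersion when i' is. -/
theorem result {S : Scheme.{u}} (X : AlgSp.Space S) {R U : Over S} (s t : R ⟶ U)
    (p : (AlgSp.yon S).obj U ⟶ X.obj) (hp : AlgSp.IsPresentation s t p)
    {Z' R' : Scheme.{u}} (i' : Z' ⟶ U.left) [IsImmersion i'] (k : R' ⟶ R.left) (s' t' : R' ⟶ Z')
    (hs : IsPullback k s' s.left i') (ht : IsPullback k t' t.left i') :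
    ∃ (Z : AlgSp.Space S) (i : Z ⟶ X) (q : (AlgSp.yon S).obj (Over.mk (i' ≫ U.hom)) ⟶ Z.obj),
      AlgSp.RepWith @IsImmersion i.hom ∧
      IsPullback q ((AlgSp.yon S).map (Over.homMk i' rfl : Over.mk (i' ≫ U.hom) ⟶ U)) i.hom p ∧
      (IsClosedImmersion i' → AlgSp.RepWith @IsClosedImmersion i.hom) ∧
      (IsOpenImmersion i' → AlgSp.RepWith @IsOpenImmersion i.hom) := by
  classical
  let Zo : Over S := Over.mk (i' ≫ U.hom)
  let ι : Zo ⟶ U := Over.homMk i' rfl
  have hι : Mono ι := by
    refine ⟨fun {T} a b h => ?_⟩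
    apply Over.OverMorphism.ext
    rw [← cancel_mono i']
    exact congrArg (fun m => m.left) h
  have hinv : Groth.Agent.Lib.Seat43.SubSp.Invariant s t ι := by
    rintro T r ⟨z, hz⟩
    have hz' : z.left ≫ i' = r.left ≫ s.left := congrArg (fun m => m.left) hz
    let l : T.left ⟶ R' := hs.lift r.left z.left hz'.symm
    have hl1 : l ≫ k = r.left := hs.lift_fst _ _ _
    have hl : (l ≫ t') ≫ i' = r.left ≫ t.left := by
      rw [Category.assoc, ← ht.w, ← Category.assoc, hl1]
    refine ⟨Over.homMk (l ≫ t') ?_, ?_⟩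
    · show (l ≫ t') ≫ i' ≫ U.hom = T.hom
      rw [← Category.assoc, hl, Category.assoc, Over.w t, Over.w r]
    · apply Over.OverMorphism.ext
      exact hl
  obtain ⟨q, hq⟩ := Groth.Agent.Lib.Seat43.SubSp.exists_q hp.isPullback hinv
  have sq := Groth.Agent.Lib.Seat43.SubSp.isPullback_q hq
  have hZ : AlgSp.IsAlgSpace (Groth.Agent.Lib.Seat43.SubSp.obj X.obj p ι) :=
    Groth.Agent.Lib.Seat43.SubSp.isAlgSpace_obj X.property hp.etale hp.surjective hq
  let Z : AlgSp.Space S := ⟨_, hZ⟩
  let i : Z ⟶ X := ObjectProperty.homMk (Groth.Agent.Lib.Seat43.SubSp.incl X.obj p ι)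
  have himm : IsImmersion ι.left := inferInstanceAs (IsImmersion i')
  refine ⟨Z, i, q, ?_, sq, fun hc => ?_, fun ho => ?_⟩
  · exact Groth.Agent.S9932.result @IsImmersion (Or.inr (Or.inr rfl)) i U p hp.etale
      hp.surjective q _ sq ((AlgSp.repWith_yon_map_iff @IsImmersion ι).2 himm)
  · exact Groth.Agent.S9932.result @IsClosedImmersion (Or.inl rfl) i U p hp.etale
      hp.surjective q _ sq ((AlgSp.repWith_yon_map_iff @IsClosedImmersion ι).2 hc)
  · exact Groth.Agent.S9932.result @IsOpenImmersion (Or.inr (Or.inl rfl)) i U p hp.etale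
      hp.surjective q _ sq ((AlgSp.repWith_yon_map_iff @IsOpenImmersion ι).2 ho)

end Groth.Agent.S10233
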