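import Groth.Statements.S10239
import Groth.Agent.Lib.Seat48OEtBranch

set_option autoImplicit false
universe u
open CategoryTheory CategoryTheory.Limits AlgebraicGeometry Topology TopologicalSpace
open AlgSp

namespace Groth.Agent.S10239

/-- (1) ⇔ (4) ⇔ (5): let X be an algebraic space over a scheme S, x ∈ |X| and n ≥ 1 an integer. The
following are equivalent: (1) for every scheme U, etale h_U ⟶ X and u ∈ U over x the local ring of U
at u has at most n minimal primes, and for some such (U, u) exactly n; (4) for every such (U, u) the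
number of geometric branches of U at u is n; (5) for every geometric point x̄ over x the etale local
ring of X at x̄ has exactly n minimal primes. -/
theorem result {S : Scheme.{u}} (X : AlgSp.Space S) (x : AlgSp.Points X.obj)
    (n : ℕ) (hn : 1 ≤ n) :
    (((∀ (U : Over S) (a : (AlgSp.yon S).obj U ⟶ X.obj) (u : ↥U.left),
        AlgSp.RepWith @Etale a → AlgSp.Points.ofPt a u = x → (minimalPrimes ↥(U.left.presheaf.stalk u)).encard ≤ n) ∧
        AlgSp.HasAt (fun U u => (minimalPrimes ↥(U.presheaf.stalk u)).encard = n) X.obj x) ↔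
      (∀ (U : Over S) (a : (AlgSp.yon S).obj U ⟶ X.obj) (u : ↥U.left),
        AlgSp.RepWith @Etale a → AlgSp.Points.ofPt a u = x → Brnch.numGeomBranchesAt U.left u = n)) ∧
    ((∀ (U : Over S) (a : (AlgSp.yon S).obj U ⟶ X.obj) (u : ↥U.left),
        AlgSp.RepWith @Etale a → AlgSp.Points.ofPt a u = x → Brnch.numGeomBranchesAt U.left u = n) ↔
      ∀ p : AlgSp.FieldPt X.obj, p.IsGeometric → AlgSp.Points.mk p = x →
        (minimalPrimes ↥(AlgSp.OEtStalk p)).encard = n) := by
  obtain ⟨p, hp, hpx⟩ := Groth.Agent.Lib.Helper9.SpPoint.exists_geometric_over x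
  obtain ⟨U₀, a₀, u₀, ha₀, hu₀⟩ := Groth.Agent.Lib.Seat48.OEtLocal.exists_chart_of_geometric X p hp
  have hN : ∀ N : Groth.Agent.Lib.Seat48.OEtLocal.Nbhd X p,
      AlgSp.Points.ofPt N.a N.x = x := by
    intro N
    rw [← hpx]
    exact Groth.Agent.Lib.Helper9.SpPoint.ofPt_lift p N.obj N.pt _
  -- (4) is equivalent to `ν = n`
  have key4 : (∀ (U : Over S) (a : (AlgSp.yon S).obj U ⟶ X.obj) (u : ↥U.left),
        AlgSp.RepWith @Etale a → AlgSp.Points.ofPt a u = x → Brnch.numGeomBranchesAt U.left u = n) ↔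
      (minimalPrimes ↥(AlgSp.OEtStalk p)).encard = n := by
    constructor
    · intro h
      rw [← Groth.Agent.Lib.Seat48.OEtLocal.numGeomBranchesAt_eq X p hp U₀ a₀ ha₀ u₀ hu₀]
      exact h U₀ a₀ u₀ ha₀ (hu₀.trans hpx)
    · intro h U a u ha hu
      rw [Groth.Agent.Lib.Seat48.OEtLocal.numGeomBranchesAt_eq X p hp U a ha u (hu.trans hpx.symm)]
      exact h
  -- (1) is equivalent to `ν = n`
  have key1 : ((∀ (U : Over S) (a : (AlgSp.yon S).obj U ⟶ X.obj) (u : ↥U.left),
        AlgSp.RepWith @Etale a → AlgSp.Points.ofPt a u = x →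
          (minimalPrimes ↥(U.left.presheaf.stalk u)).encard ≤ n) ∧
        AlgSp.HasAt (fun U u => (minimalPrimes ↥(U.presheaf.stalk u)).encard = n) X.obj x) ↔
      (minimalPrimes ↥(AlgSp.OEtStalk p)).encard = n := by
    constructor
    · rintro ⟨h1a, ⟨U, a, u, ha, hu, hQ⟩⟩
      apply le_antisymm
      · by_contra hcon
        rw [not_le] at hcon
        have h2 : ((n + 1 : ℕ) : ℕ∞) ≤ (minimalPrimes ↥(AlgSp.OEtStalk p)).encard := by
          rw [Nat.cast_add, Nat.cast_one]
          exact Order.add_one_le_of_lt hcon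
        obtain ⟨N, hNle⟩ := Groth.Agent.Lib.Seat48.OEtLocal.exists_nbhd_le_encard hp (n + 1) h2
        have h3 : (minimalPrimes N.RN).encard ≤ n := h1a (Over.mk N.str) N.a N.x N.et (hN N)
        have h4 := hNle.trans h3
        rw [Nat.cast_le] at h4
        omega
      · have h2 := Groth.Agent.Lib.Seat48.OEtLocal.encard_minimalPrimes_stalk_le X p hp U a ha u
          (hu.trans hpx.symm)
        have hQ' : (minimalPrimes ↥(U.left.presheaf.stalk u)).encard = n := hQ
        rw [hQ'] at h2
        exact h2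
    · intro h
      refine ⟨fun U a u ha hu => ?_, ?_⟩
      · rw [← h]
        exact Groth.Agent.Lib.Seat48.OEtLocal.encard_minimalPrimes_stalk_le X p hp U a ha u
          (hu.trans hpx.symm)
      · obtain ⟨N, hNle⟩ := Groth.Agent.Lib.Seat48.OEtLocal.exists_nbhd_le_encard hp n
          (by rw [h])
        have h3 := Groth.Agent.Lib.Seat48.OEtLocal.encard_minimalPrimes_RN_le hp N
        rw [h] at h3
        exact ⟨Over.mk N.str, N.a, N.x, N.et, hN N, le_antisymm h3 hNle⟩
  refine ⟨key1.trans key4.symm, ⟨fun h p' hp' hpx' => ?_, fun h => key4.2 (h p hp hpx)⟩⟩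
  obtain ⟨U, a, u, ha, hu⟩ := Groth.Agent.Lib.Seat48.OEtLocal.exists_chart_of_geometric X p' hp'
  rw [← Groth.Agent.Lib.Seat48.OEtLocal.numGeomBranchesAt_eq X p' hp' U a ha u hu]
  exact h U a u ha (hu.trans hpx')

end Groth.Agent.S10239
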