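import Groth.Statements.S10240
import Groth.Agent.Lib.Seat48ExtBC2
import Groth.Agent.Lib.Seat48BCEt4

set_option autoImplicit false
universe u
open CategoryTheory CategoryTheory.Limits AlgebraicGeometry Topology TopologicalSpace
open AlgSp

namespace Groth.Agent.S10240

/-- Let X be an algebraic space over a scheme S. Colimits of quasi-coherent O_X-modules are
quasi-coherent; kernels and cokernels of maps between quasi-coherent O_X-modules are quasi-coherent;
and in a short exact sequence of O_X-modules, if two out of three are quasi-coherent then so is the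
third. -/
theorem result {S : Scheme.{u}} (X : AlgSp.Space S) :
    (∀ (J : Type u) [SmallCategory J] (D : J ⥤ AlgSp.ModEt X.obj) [HasColimit D],
        (∀ j, (D.obj j).IsQuasicoherent) → (colimit D).IsQuasicoherent) ∧
    (∀ (F G : AlgSp.ModEt X.obj) (φ : F ⟶ G), F.IsQuasicoherent → G.IsQuasicoherent →
        (kernel φ).IsQuasicoherent ∧ (cokernel φ).IsQuasicoherent) ∧
    (∀ C : ShortComplex (AlgSp.ModEt X.obj), C.ShortExact →
        (C.X₁.IsQuasicoherent → C.X₂.IsQuasicoherent → C.X₃.IsQuasicoherent) ∧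
        (C.X₁.IsQuasicoherent → C.X₃.IsQuasicoherent → C.X₂.IsQuasicoherent) ∧
        (C.X₂.IsQuasicoherent → C.X₃.IsQuasicoherent → C.X₁.IsQuasicoherent)) := by
  have hqc : ∀ M : AlgSp.ModEt X.obj, M.IsQuasicoherent →
      Groth.Agent.Lib.Seat48.BCSite.HasBCOn (Groth.Agent.Lib.Seat48.BCEt.affineData X.obj) M.val :=
    fun M hM => by
      have := hM
      exact Groth.Agent.Lib.Seat48.BCEt.hasBCOn_of_isQuasicoherent M
  refine ⟨?_, ?_, ?_⟩
  · intro J _ D _ hD
    exact Groth.Agent.Lib.Seat48.BCEt.isQuasicoherent_of_hasBCOn _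
      (Groth.Agent.Lib.Seat48.BCSite.hasBCOn_colimit
        (Groth.Agent.Lib.Seat48.BCEt.affineData X.obj) D (fun j => hqc _ (hD j)))
  · intro F G φ hF hG
    exact ⟨Groth.Agent.Lib.Seat48.BCEt.isQuasicoherent_of_hasBCOn _
        (Groth.Agent.Lib.Seat48.BCSite.hasBCOn_kernel
          (Groth.Agent.Lib.Seat48.BCEt.affineData X.obj) φ (hqc F hF) (hqc G hG)),
      Groth.Agent.Lib.Seat48.BCEt.isQuasicoherent_of_hasBCOn _
        (Groth.Agent.Lib.Seat48.BCSite.hasBCOn_cokernel
          (Groth.Agent.Lib.Seat48.BCEt.affineData X.obj) φ (hqc F hF) (hqc G hG))⟩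
  · intro C hC
    refine ⟨?_, ?_, ?_⟩
    · intro h₁ h₂
      exact Groth.Agent.Lib.Seat48.BCEt.isQuasicoherent_of_hasBCOn _
        (Groth.Agent.Lib.Seat48.BCSite.hasBCOn_X₃_of_shortExact
          (Groth.Agent.Lib.Seat48.BCEt.affineData X.obj) C hC (hqc _ h₁) (hqc _ h₂))
    · intro h₁ h₃
      exact Groth.Agent.Lib.Seat48.BCEt.isQuasicoherent_of_hasBCOn _
        (Groth.Agent.Lib.Seat48.BCSite.hasBCOn_of_shortExact
          (Groth.Agent.Lib.Seat48.BCEt.affineData X.obj) C hC (hqc _ h₁) (hqc _ h₃))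
    · intro h₂ h₃
      exact Groth.Agent.Lib.Seat48.BCEt.isQuasicoherent_of_hasBCOn _
        (Groth.Agent.Lib.Seat48.BCSite.hasBCOn_X₁_of_shortExact
          (Groth.Agent.Lib.Seat48.BCEt.affineData X.obj) C hC (hqc _ h₂) (hqc _ h₃))

end Groth.Agent.S10240
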