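import Groth.Statements.S10246
import Groth.Agent.S9872
import Groth.Agent.S9885
import Groth.Agent.Lib.Seat45Charts

set_option autoImplicit false
universe u
open CategoryTheory CategoryTheory.Limits AlgebraicGeometry Topology TopologicalSpace
open AlgSp

namespace Groth.Agent.S10246


lemma exists_hom_appTop {E T : Scheme.{u}} [IsAffine T] (ψ : Γ(T, ⊤) ⟶ Γ(E, ⊤)) :
    ∃ m : E ⟶ T, m.appTop = ψ := by
  refine ⟨E.toSpecΓ ≫ Spec.map ψ ≫ T.isoSpec.inv, ?_⟩
  have h0 : T.isoSpec.hom.appTop = (Scheme.ΓSpecIso Γ(T, ⊤)).hom := by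
    simp [Scheme.isoSpec, Scheme.toSpecΓ_appTop]
  have h1 : T.isoSpec.inv.appTop = (Scheme.ΓSpecIso Γ(T, ⊤)).inv := by
    have h2 : T.isoSpec.hom.appTop ≫ T.isoSpec.inv.appTop = 𝟙 _ := by
      rw [← Scheme.Hom.comp_appTop, Iso.inv_hom_id]; rfl
    rw [h0] at h2
    rw [← cancel_epi (Scheme.ΓSpecIso Γ(T, ⊤)).hom, h2, Iso.hom_inv_id]
  simp only [Scheme.Hom.comp_appTop, h1, Scheme.toSpecΓ_appTop]
  rw [Category.assoc, Scheme.ΓSpecIso_naturality, Iso.inv_hom_id_assoc]

section

variable {S : Scheme.{u}} (hS : IsTerminal S) (X : AlgSp.Sp S) (T : Over S) [IsAffine T.left]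
  (φ : Γ(T.left, ⊤) →+* ↥(AlgSp.gsectEt (AlgSp.OEt X)))

/-- The ring map `Γ(T) ⟶ Γ(E)` induced by `φ`. -/
noncomputable def ringMap (E : AlgSp.EtOver X) : Γ(T.left, ⊤) ⟶ Γ(E.obj.left.left, ⊤) :=
  CommRingCat.ofHom ((ULift.ringEquiv.toRingHom).comp
    (((limit.π (AlgSp.OEt X).obj (Opposite.op E)).hom).comp φ))

lemma ringMap_apply (E : AlgSp.EtOver X) (r : Γ(T.left, ⊤)) :
    (ringMap X T φ E).hom r = ((limit.π (AlgSp.OEt X).obj (Opposite.op E)) (φ r)).down := rfl

lemma ringMap_naturality {E E' : AlgSp.EtOver X} (k : E ⟶ E') :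
    ringMap X T φ E' ≫ k.hom.left.left.appTop = ringMap X T φ E := by
  ext r
  rw [CommRingCat.comp_apply, ringMap_apply, ringMap_apply]
  have h := limit.w (AlgSp.OEt X).obj k.op
  have h2 : (limit.π (AlgSp.OEt X).obj (Opposite.op E)) (φ r) =
      (AlgSp.OEt X).obj.map k.op ((limit.π (AlgSp.OEt X).obj (Opposite.op E')) (φ r)) := by
    rw [← h]; rfl
  rw [h2, AlgSp.OEt_map]

/-- The morphism `E ⟶ T` over `S` induced by `φ`. -/
noncomputable def schemeMap (E : AlgSp.EtOver X) : E.obj.left ⟶ T :=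
  Over.homMk (exists_hom_appTop (ringMap X T φ E)).choose (hS.hom_ext _ _)

lemma schemeMap_appTop (E : AlgSp.EtOver X) :
    (schemeMap hS X T φ E).left.appTop = ringMap X T φ E :=
  (exists_hom_appTop (ringMap X T φ E)).choose_spec

lemma schemeMap_naturality {E E' : AlgSp.EtOver X} (k : E ⟶ E') :
    k.hom.left ≫ schemeMap hS X T φ E' = schemeMap hS X T φ E := by
  apply Over.OverMorphism.ext
  apply ext_of_isAffine
  rw [Over.comp_left, Scheme.Hom.comp_appTop, schemeMap_appTop, schemeMap_appTop, ringMap_naturality]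

lemma over_hom_ext_of_appTop {E : Over S} (a b : E ⟶ T) (h : a.left.appTop = b.left.appTop) : a = b := by
  apply Over.OverMorphism.ext
  exact ext_of_isAffine h

end

/-- Let X be an algebraic space over a terminal base scheme (so that morphisms over the base are all
morphisms) and T an affine scheme. Then f ↦ f♯ is a bijection from morphisms X ⟶ T to ring maps Γ(T,
O_T) ⟶ Γ(X, O_X), where Γ(X, O_X) is the ring of global sections of the structure sheaf on the small
etale site and f♯ is characterised by: for every scheme U etale over X, following f♯ by the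
restriction Γ(X, O_X) ⟶ Γ(U, O_U) gives the map on global sections of the induced morphism U ⟶ T. -/
theorem result {S : Scheme.{u}} (hS : IsTerminal S) (X : AlgSp.Space S)
    (T : Over S) [IsAffine T.left] (φ : Γ(T.left, ⊤) →+* ↥(AlgSp.gsectEt (AlgSp.OEt X.obj))) :
    ∃! f : X.obj ⟶ (AlgSp.yon S).obj T,
      ∀ (E : AlgSp.EtOver X.obj) (r : Γ(T.left, ⊤)),
        ((limit.π (AlgSp.OEt X.obj).obj (Opposite.op E)) (φ r)).down =
          ((AlgSp.yon S).preimage (E.obj.hom ≫ f)).left.appTop r := by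
  open Groth.Agent.Lib.Seat45.Charts in
  obtain ⟨U, p, hpe, hps⟩ := X.property.atlas
  obtain ⟨R, s, t', sq'⟩ := hpe.1 p
  obtain ⟨t, rfl⟩ := (AlgSp.yon S).map_surjective t'
  -- sq' : IsPullback ((yon S).map t) ((yon S).map s) p p
  obtain ⟨-, ⟨hc⟩⟩ := Groth.Agent.S9872.result S X.obj X.property p hpe hps s t sq'
  haveI ht : Etale t.left := hpe.2 p _ t sq'.flip
  have hRe : AlgSp.RepWith @Etale ((AlgSp.yon S).map t ≫ p) := repWith_etale_comp t p hpe
  let EU : AlgSp.EtOver X.obj := AlgSp.EtOver.mk p hpe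
  let ER : AlgSp.EtOver X.obj := AlgSp.EtOver.mk ((AlgSp.yon S).map t ≫ p) hRe
  let tR : ER ⟶ EU := AlgSp.EtOver.homMk t rfl
  let sR : ER ⟶ EU := AlgSp.EtOver.homMk s sq'.w.symm
  have hcoeq : (AlgSp.yon S).map t ≫ (AlgSp.yon S).map (schemeMap hS X.obj T φ EU) =
      (AlgSp.yon S).map s ≫ (AlgSp.yon S).map (schemeMap hS X.obj T φ EU) := by
    rw [← Functor.map_comp, ← Functor.map_comp]
    congr 1
    exact (schemeMap_naturality hS X.obj T φ tR).trans (schemeMap_naturality hS X.obj T φ sR).symm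
  let f : X.obj ⟶ (AlgSp.yon S).obj T :=
    Cofork.IsColimit.desc hc ((AlgSp.yon S).map (schemeMap hS X.obj T φ EU)) hcoeq
  have hf : p ≫ f = (AlgSp.yon S).map (schemeMap hS X.obj T φ EU) :=
    Cofork.IsColimit.π_desc hc
  have hpepi : Epi p := by
    haveI : Sheaf.IsLocallySurjective p := Groth.Agent.S9885.result S _ _ p
      (repWith_mono (fun g hg => by haveI : Etale g := hg; infer_instance) hpe)
      (repWith_mono (fun g hg => by haveI : Etale g := hg; infer_instance) hpe) hps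
    exact (Sheaf.isLocallySurjective_iff_epi p).1 inferInstance
  -- the key compatibility
  have key : ∀ E : AlgSp.EtOver X.obj, E.obj.hom ≫ f = (AlgSp.yon S).map (schemeMap hS X.obj T φ E) := by
    intro E
    obtain ⟨W, pr2, pr1', sqW⟩ := hpe.1 E.obj.hom
    obtain ⟨pr1, rfl⟩ := (AlgSp.yon S).map_surjective pr1'
    -- sqW : IsPullback (yon pr1) (yon pr2) p E.hom   with pr1 : W ⟶ U, pr2 : W ⟶ E
    haveI h2e : Etale pr2.left := hpe.2 E.obj.hom _ pr2 sqW
    haveI h2s : Surjective pr2.left := hps.2 E.obj.hom _ pr2 sqW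
    have hWe : AlgSp.RepWith @Etale ((AlgSp.yon S).map pr2 ≫ E.obj.hom) :=
      repWith_etale_comp pr2 E.obj.hom E.property
    let EW : AlgSp.EtOver X.obj := AlgSp.EtOver.mk ((AlgSp.yon S).map pr2 ≫ E.obj.hom) hWe
    let k2 : EW ⟶ E := AlgSp.EtOver.homMk pr2 rfl
    let k1 : EW ⟶ EU := AlgSp.EtOver.homMk pr1 sqW.w
    have hepi : Epi ((AlgSp.yon S).map pr2) := by
      have h1 : AlgSp.RepWith @Etale ((AlgSp.yon S).map pr2) := (AlgSp.repWith_yon_map_iff _ _).2 h2e
      have h3 : AlgSp.RepWith @Surjective ((AlgSp.yon S).map pr2) := (AlgSp.repWith_yon_map_iff _ _).2 h2s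
      haveI : Sheaf.IsLocallySurjective ((AlgSp.yon S).map pr2) := Groth.Agent.S9885.result S _ _ _
        (repWith_mono (fun g hg => by haveI : Etale g := hg; infer_instance) h1)
        (repWith_mono (fun g hg => by haveI : Etale g := hg; infer_instance) h1) h3
      exact (Sheaf.isLocallySurjective_iff_epi _).1 inferInstance
    rw [← cancel_epi ((AlgSp.yon S).map pr2), ← Category.assoc, ← sqW.w, Category.assoc, hf,
      ← Functor.map_comp, ← Functor.map_comp]
    congr 1
    exact (schemeMap_naturality hS X.obj T φ k1).trans (schemeMap_naturality hS X.obj T φ k2).symm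
  refine ⟨f, ?_, ?_⟩
  · intro E r
    rw [key E, Functor.preimage_map, schemeMap_appTop]
    rfl
  · intro f' hf'
    apply Cofork.IsColimit.hom_ext hc
    change p ≫ f' = p ≫ f
    rw [hf, ← (AlgSp.yon S).map_preimage (p ≫ f')]
    congr 1
    apply over_hom_ext_of_appTop
    rw [schemeMap_appTop]
    ext r
    rw [ringMap_apply]
    exact (hf' EU r).symm

end Groth.Agent.S10246
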