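import Groth.Statements.S10250
import Groth.Agent.Lib.Seat45Charts
import Groth.Agent.Lib.Seat45EtDim

set_option autoImplicit false
universe u
open CategoryTheory CategoryTheory.Limits AlgebraicGeometry Topology TopologicalSpace
open AlgSp

namespace Groth.Agent.S10250

/-- Let f : X ⟶ Y be an etale and surjective morphism of algebraic spaces over a scheme S. Then X and Y
have the same dimension (the dimension of an algebraic space being the supremum of the Krull
dimensions of the schemes etale over it). -/
theorem result {S : Scheme.{u}} {X Y : AlgSp.Space S} (f : X ⟶ Y)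
    (hf : AlgSp.IsEtaleMor f.hom) (hs : AlgSp.IsSurjectiveMor f.hom) :
    AlgSp.dim X.obj = AlgSp.dim Y.obj := by
  open Groth.Agent.Lib.Seat45.Charts Groth.Agent.Lib.Seat45.EtDim in
  apply le_antisymm
  · exact dim_le fun U a ha => le_dim (a ≫ f.hom) (hf a ha)
  · refine dim_le fun V b hb => ?_
    rw [topologicalKrullDim_eq_iSup_ringKrullDim_stalk]
    refine iSup_le fun v => ?_
    obtain ⟨x, hx⟩ := hs (AlgSp.Points.ofPt b v)
    obtain ⟨U, a, u, ha, hu⟩ := exists_chart X.property x
    obtain ⟨W, p, q, w, hp, hq, hw1, hw2, -⟩ :=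
      exists_common_chart (a ≫ f.hom) b (hf a ha) hb u v (by rw [← AlgSp.Points.map_ofPt, hu, hx])
    rw [← hw2, ← ringKrullDim_stalk_eq_of_etale q.left w, ringKrullDim_stalk_eq_of_etale p.left w]
    refine le_trans ?_ (le_dim a ha)
    rw [topologicalKrullDim_eq_iSup_ringKrullDim_stalk]
    exact le_iSup (fun u => ringKrullDim ↥(U.left.presheaf.stalk u)) (p.left w)

end Groth.Agent.S10250
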