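import Groth.Statements.S9965
import Groth.Agent.S9974
import Groth.Agent.Lib.Helper12SrcLocal
-- import your own Groth.Agent.* helpers here

set_option autoImplicit false
universe u
open CategoryTheory CategoryTheory.Limits AlgebraicGeometry
open AlgSp

namespace Groth.Agent.S9965

/-- For a quasi-compact morphism of algebraic spaces, forming the scheme theoretic image commutes with
etale base change, and the image of the morphism is dense in the scheme theoretic image. -/
theorem result {S : Scheme.{u}} {X Y Z : AlgSp.Space S} (f : X ⟶ Y) (i : Z ⟶ Y)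
    (hq : AlgSp.IsQuasiCompactMor f.hom) (hZ : AlgSp.IsSchImage f.hom i.hom) :
    (∀ (V XV ZV : AlgSp.Space S) (b : V ⟶ Y), AlgSp.IsEtaleMor b.hom →
      ∀ (f₁ : XV ⟶ X) (fV : XV ⟶ V) (i₁ : ZV ⟶ Z) (iV : ZV ⟶ V),
        IsPullback f₁.hom fV.hom f.hom b.hom → IsPullback i₁.hom iV.hom i.hom b.hom →
        AlgSp.IsSchImage fV.hom iV.hom) ∧
    Set.range (AlgSp.Points.map i.hom) ⊆ closure (Set.range (AlgSp.Points.map f.hom)) := by
  open Groth.Agent.Lib.Seat43.SubSp Groth.Agent.Lib.Seat43.MonoFactor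
    Groth.Agent.Lib.Seat43.SchImage Groth.Agent.Lib.Seat43.QcImage Groth.Agent.Lib.Seat43.QcImage2
    Groth.Agent.Lib.Seat43.QcChart Groth.Agent.Lib.Seat43.QcTrace in
  refine ⟨?_, ?_⟩
  · intro V XV ZV b hb f₁ fV i₁ iV sqX sqZ
    have hfl : AlgSp.LocP @Flat b.hom := by
      intro U W a c h ha hc hcomm
      have : Etale h.left :=
        Groth.Agent.Lib.Helper12.SrcLocal.locP_etale_of_isEtaleMor b.hom hb a c h ha hc hcomm
      infer_instance
    exact Groth.Agent.S9974.result b hfl f hq i hZ f₁ fV sqX i₁ iV sqZ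
  · rintro _ ⟨z, rfl⟩
    obtain ⟨V, p, P, fst, snd, U, c, φ, hpe, hps, sq, hce, hcs, hφ, hqcφ⟩ := exists_qc_chart f hq
    obtain ⟨Zo, ι, prZ, sqZ⟩ := hZ.1.1 p
    have : IsClosedImmersion ι.left := hZ.1.2 _ _ ι sqZ
    have hb : AlgSp.LocP @Flat p := by
      intro U' W a c' h ha hc hcomm
      have : Etale h.left := Groth.Agent.Lib.Helper12.SrcLocal.etale_of_chart_comp c' (a ≫ p) h hc
        ((AlgSp.repWith_isMultiplicative (S := S) @Etale).comp_mem _ _ ha hpe) hcomm.symm
      infer_instance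
    have hk : ι.left.ker = φ.left.ker :=
      ker_trace_eq f hq i hZ p hb sq c hce hcs φ hφ ι prZ sqZ
    have hprs : AlgSp.RepWith @Surjective prZ :=
      (AlgSp.repWith_isStableUnderBaseChange (S := S) @Surjective).of_isPullback sqZ.flip hps
    obtain ⟨zo, rfl⟩ := Groth.Agent.S10177.surjective_ofPt prZ hprs z
    have h1 : AlgSp.Points.map i.hom (AlgSp.Points.ofPt prZ zo) = AlgSp.Points.ofPt p (ι.left zo) := by
      rw [AlgSp.Points.map_ofPt, sqZ.w, Groth.Agent.S10176.ofPt_map_comp]
    rw [h1]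
    have h2 : ι.left zo ∈ closure (Set.range φ.left) := by
      have h3 : ι.left zo ∈ (ι.left.ker.support : Set ↥V.left) :=
        ι.left.range_subset_ker_support ⟨zo, rfl⟩
      rw [hk, Scheme.Hom.support_ker] at h3
      exact h3
    have h4 := map_mem_closure (AlgSp.Points.continuous_ofPt p) h2
      (t := Set.range (AlgSp.Points.map f.hom)) (by
        rintro _ ⟨u, rfl⟩
        refine ⟨AlgSp.Points.ofPt (c ≫ fst) u, ?_⟩
        rw [AlgSp.Points.map_ofPt, Category.assoc, sq.w, ← Category.assoc, hφ,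
          Groth.Agent.S10176.ofPt_map_comp])
    exact h4

end Groth.Agent.S9965
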