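import Groth.Statements.S10281
import Groth.Agent.S9965
import Groth.Agent.S10278
import Groth.Agent.S10301
import Groth.Agent.S9915
import Groth.Agent.S9926
import Groth.Agent.S9928
import Groth.Agent.Lib.Helper12Proper
-- import your own Groth.Agent.* helpers here

set_option autoImplicit false
universe u
open CategoryTheory CategoryTheory.Limits AlgebraicGeometry
open AlgSp

namespace Groth.Agent.S10281

/-- The scheme theoretic image of a space proper over B in a space separated and locally of finite type
over B is proper over B, and the source surjects onto it. -/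
theorem result {S : Scheme.{u}} {X Y Z B : AlgSp.Space S} (h : X ⟶ Y) (f : X ⟶ B)
    (g : Y ⟶ B) (comm : h ≫ g = f) (hf : AlgSp.IsProperMor f.hom) (hg : AlgSp.IsSeparatedMor g.hom)
    (hg' : AlgSp.LocP @LocallyOfFiniteType g.hom) (i : Z ⟶ Y) (hZ : AlgSp.IsSchImage h.hom i.hom)
    (h' : X ⟶ Z) (fac : h' ≫ i = h) :
    AlgSp.IsProperMor (i ≫ g).hom ∧ AlgSp.IsSurjectiveMor h'.hom := by
  open Groth.Agent.Lib.Helper12.Proper in
  have hh : AlgSp.IsProperMor h.hom := (Groth.Agent.S10278.result h f g comm hg).2 hf
  have hqc : AlgSp.IsQuasiCompactMor h.hom := hh.2.1.2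
  have hclosed : IsClosed (Set.range (AlgSp.Points.map h.hom)) :=
    ((Groth.Agent.S10278.result h f g comm hg).1 hf.2.2).2
  have hdense := (Groth.Agent.S9965.result h i hqc hZ).2
  have hinj : Function.Injective (AlgSp.Points.map i.hom) :=
    Groth.Agent.S10301.injective_map_of_repWith (P := @IsClosedImmersion)
      (fun _ _ g hg => by have : IsClosedImmersion g := hg; exact g.isEmbedding.injective)
      i.hom hZ.1
  have hfac : h'.hom ≫ i.hom = h.hom := congrArg (fun m => m.hom) fac
  have hsurj : Function.Surjective (AlgSp.Points.map h'.hom) := by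
    intro z
    have hz : AlgSp.Points.map i.hom z ∈ Set.range (AlgSp.Points.map h.hom) := by
      have := hdense ⟨z, rfl⟩
      rwa [hclosed.closure_eq] at this
    obtain ⟨x, hx⟩ := hz
    refine ⟨x, hinj ?_⟩
    rw [← AlgSp.Points.map_comp, hfac, hx]
  have : Mono i.hom := Groth.Agent.S9928.mono_of_repWith @IsClosedImmersion
    (fun _ _ g hg => by have := hg; infer_instance) i.hom hZ.1
  have e : h'.hom ≫ (i ≫ g).hom = f.hom := by
    rw [← comm, ← fac]; rfl
  refine ⟨⟨?_, ⟨?_, ?_⟩, ?_⟩, hsurj⟩
  · exact isSeparatedMor_comp i.hom g.hom (isSeparatedMor_of_mono i.hom) hg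
  · exact locP_lft_comp Y.property B.property i.hom g.hom
      (locP_lft_of_isClosedImmersion Y.property i.hom hZ.1) hg'
  · exact Groth.Agent.S9915.isQuasiCompactMor_of_surjective_triangle Z.property B.property
      h'.hom (i ≫ g).hom hsurj (by rw [e]; exact hf.2.1.2)
  · exact Groth.Agent.S9926.isUnivClosedMor_of_surjective_comp Z.property B.property
      h'.hom (i ≫ g).hom hsurj (by rw [e]; exact hf.2.2)

end Groth.Agent.S10281
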