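import Groth.Statements.S10282
import Groth.Agent.Lib.Seat43ValLift

set_option autoImplicit false
universe u
open CategoryTheory CategoryTheory.Limits AlgebraicGeometry
open AlgSp

namespace Groth.Agent.S10282

/-- For a representable morphism of algebraic spaces the existence part of the valuative criterion with
extensions allowed is equivalent to the one without extensions. -/
theorem result {S : Scheme.{u}} {X Y : AlgSp.Space S} (f : X ⟶ Y)
    (hf : AlgSp.Representable f.hom) : AlgSp.ExistVC f.hom ↔ AlgSp.ExistVCStrict f.hom := by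
  constructor
  · intro h sq
    obtain ⟨e, l', hl1, hl2⟩ := h sq
    obtain ⟨W, w, pr, sqW⟩ := hf sq.bot
    -- the two given maps, into `W`
    let φ' : e.ptA' ⟶ sq.ptA := Over.homMk (Spec.map (CommRingCat.ofHom e.φ)) rfl
    let ιK' : e.ptK' ⟶ e.ptA' :=
      Over.homMk (Spec.map (CommRingCat.ofHom (algebraMap e.A' e.K'))) rfl
    let ψ' : e.ptK' ⟶ sq.ptK := Over.homMk (Spec.map (CommRingCat.ofHom e.ψ)) (by
      change Spec.map _ ≫ Spec.map _ ≫ _ = Spec.map _ ≫ Spec.map _ ≫ _
      rw [← Spec.map_comp_assoc, ← Spec.map_comp_assoc, ← CommRingCat.ofHom_comp,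
        ← CommRingCat.ofHom_comp, e.comm])
    have hsqcomm : ιK' ≫ φ' = ψ' ≫ sq.j := by
      apply Over.OverMorphism.ext
      show Spec.map _ ≫ Spec.map _ = Spec.map _ ≫ Spec.map _
      rw [← Spec.map_comp, ← Spec.map_comp, ← CommRingCat.ofHom_comp, ← CommRingCat.ofHom_comp,
        e.comm]
    obtain ⟨xW, hxW⟩ := (AlgSp.yon S).map_surjective
      (sqW.lift sq.top ((AlgSp.yon S).map sq.j) sq.comm)
    obtain ⟨lW, hlW⟩ := (AlgSp.yon S).map_surjective (sqW.lift l' ((AlgSp.yon S).map φ') hl2)
    have hxW1 : (AlgSp.yon S).map xW ≫ pr = sq.top := by rw [hxW, sqW.lift_fst]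
    have hxW2 : xW ≫ w = sq.j := by
      apply (AlgSp.yon S).map_injective
      rw [Functor.map_comp, hxW, sqW.lift_snd]
    have hlW1 : (AlgSp.yon S).map lW ≫ pr = l' := by rw [hlW, sqW.lift_fst]
    have hlW2 : lW ≫ w = φ' := by
      apply (AlgSp.yon S).map_injective
      rw [Functor.map_comp, hlW, sqW.lift_snd]
    have hcompat : ψ' ≫ xW = ιK' ≫ lW := by
      apply (AlgSp.yon S).map_injective
      apply sqW.hom_ext
      · rw [Functor.map_comp, Functor.map_comp, Category.assoc, Category.assoc, hxW1, hlW1]
        exact hl1.symm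
      · rw [← Functor.map_comp, ← Functor.map_comp, Category.assoc, Category.assoc, hxW2, hlW2,
          hsqcomm]
    have hφinj : Function.Injective e.φ := by
      have h1 : Function.Injective ((algebraMap e.A' e.K').comp e.φ) := by
        rw [e.comm]
        exact e.ψ.injective.comp (IsFractionRing.injective sq.A sq.K)
      exact Function.Injective.of_comp h1
    have hpre : ∀ x : sq.K, (∃ r, algebraMap e.A' e.K' r = e.ψ x) →
        ∃ a, algebraMap sq.A sq.K a = x := by
      rintro x ⟨r, hr⟩
      rcases ValuationRing.isInteger_or_isInteger sq.A x with ⟨a, ha⟩ | ⟨a, ha⟩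
      · exact ⟨a, ha⟩
      · by_cases hx : x = 0
        · exact ⟨0, by rw [map_zero, hx]⟩
        · have h1 : algebraMap e.A' e.K' (e.φ a * r) = 1 := by
            rw [map_mul, hr]
            have h2 : algebraMap e.A' e.K' (e.φ a) = e.ψ (algebraMap sq.A sq.K a) :=
              congrArg (fun m => m a) e.comm
            rw [h2, ha, ← map_mul, inv_mul_cancel₀ hx, map_one]
          have h3 : e.φ a * r = 1 := by
            apply IsFractionRing.injective e.A' e.K'
            rw [h1, map_one]
          have hu : IsUnit (e.φ a) := IsUnit.of_mul_eq_one _ h3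
          have := e.isLocalHom
          have hua : IsUnit a := isUnit_of_map_unit e.φ a hu
          obtain ⟨a', ha'⟩ := hua.exists_right_inv
          refine ⟨a', ?_⟩
          have h4 : algebraMap sq.A sq.K a * algebraMap sq.A sq.K a' = 1 := by
            rw [← map_mul, ha', map_one]
          rw [ha] at h4
          have h5 : x * (x⁻¹ * algebraMap sq.A sq.K a') = x * 1 := by rw [h4]
          rw [← mul_assoc, mul_inv_cancel₀ hx, one_mul, mul_one] at h5
          exact h5
    obtain ⟨g, hg1, hg2⟩ := Groth.Agent.Lib.Seat43.ValLift.exists_lift_of_subring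
      (T := W.left) (algebraMap sq.A sq.K) e.φ e.ψ (algebraMap e.A' e.K')
      (IsFractionRing.injective sq.A sq.K) (IsFractionRing.injective e.A' e.K') e.comm.symm hpre
      lW.left xW.left (congrArg (fun m => m.left) hcompat)
    -- `g` is a section of `w`
    have hgw : g ≫ w.left = 𝟙 _ := by
      have h1 : Spec.map (CommRingCat.ofHom e.φ) ≫ (g ≫ w.left) =
          Spec.map (CommRingCat.ofHom e.φ) ≫ 𝟙 _ := by
        rw [← Category.assoc, hg2, Category.comp_id]
        exact congrArg (fun m => m.left) hlW2
      obtain ⟨α, hα⟩ : ∃ α : CommRingCat.of sq.A ⟶ CommRingCat.of sq.A, Spec.map α = g ≫ w.left :=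
        ⟨Spec.preimage (g ≫ w.left), Spec.map_preimage _⟩
      rw [← hα, ← Spec.map_id, ← Spec.map_comp, ← Spec.map_comp] at h1
      have h2 := Spec.map_injective h1
      have h3 : α = 𝟙 _ := by
        ext a
        apply hφinj
        exact congrArg (fun m => m.hom a) h2
      rw [← hα, h3, Spec.map_id]
    let gO : sq.ptA ⟶ W := Over.homMk g (by
      rw [← Over.w w, ← Category.assoc, hgw]
      exact Category.id_comp _)
    have hgO1 : sq.j ≫ gO = xW := by
      apply Over.OverMorphism.ext
      exact hg1
    have hgO2 : gO ≫ w = 𝟙 _ := by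
      apply Over.OverMorphism.ext
      exact hgw
    refine ⟨(AlgSp.yon S).map gO ≫ pr, ?_, ?_⟩
    · rw [← Category.assoc, ← Functor.map_comp, hgO1, hxW1]
    · rw [Category.assoc, sqW.w, ← Category.assoc, ← Functor.map_comp, hgO2,
        CategoryTheory.Functor.map_id, Category.id_comp]
  · intro h sq
    obtain ⟨l, hl1, hl2⟩ := h sq
    let e : sq.DomExt :=
      { A' := sq.A, K' := sq.K, φ := RingHom.id _, ψ := RingHom.id _, comm := rfl,
        isLocalHom := inferInstance }
    refine ⟨e, (AlgSp.yon S).map (Over.homMk (Spec.map (CommRingCat.ofHom e.φ)) rfl :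
      e.ptA' ⟶ sq.ptA) ≫ l, ?_, ?_⟩
    · rw [← Category.assoc, ← Functor.map_comp, ← hl1, ← Category.assoc, ← Functor.map_comp]
      congr 2
      apply Over.OverMorphism.ext
      show Spec.map _ ≫ Spec.map _ = Spec.map _ ≫ Spec.map _
      rw [← Spec.map_comp, ← Spec.map_comp, ← CommRingCat.ofHom_comp, ← CommRingCat.ofHom_comp,
        e.comm]
    · rw [Category.assoc, hl2]

end Groth.Agent.S10282
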