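import Groth.Statements.S10545
import Mathlib
import Groth.Agent.Lib.Seat46RepDescent
import Groth.Agent.Lib.Helper12Descent
import Groth.Agent.Lib.Seat27FlatDescent

set_option autoImplicit false
universe u
open CategoryTheory CategoryTheory.Limits AlgebraicGeometry
open AlgSp

namespace Groth.Agent.S10545

lemma finLocFree_eq : (AlgSp.finLocFree.{u}) =
    (@IsFinite ⊓ (@Flat ⊓ @LocallyOfFinitePresentation) : MorphismProperty Scheme.{u}) := by
  ext X Y f
  exact Iff.rfl

set_option backward.isDefEq.respectTransparency false in
lemma zarLocal : IsZariskiLocalAtTarget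
    (@IsFinite ⊓ (@Flat ⊓ @LocallyOfFinitePresentation) : MorphismProperty Scheme.{u}) :=
  inferInstance

set_option backward.isDefEq.respectTransparency false in
lemma stable : (@IsFinite ⊓ (@Flat ⊓ @LocallyOfFinitePresentation) :
    MorphismProperty Scheme.{u}).IsStableUnderBaseChange :=
  inferInstance

set_option backward.isDefEq.respectTransparency false in
lemma descends : (@IsFinite ⊓ (@Flat ⊓ @LocallyOfFinitePresentation) :
    MorphismProperty Scheme.{u}).DescendsAlong (@Surjective ⊓ @Flat ⊓ @QuasiCompact) := by
  haveI := Groth.Agent.Lib.Helper12.descendsAlong_isFinite.{u}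
  haveI := Groth.Agent.Lib.Seat27.FlatDescent.flat_descendsAlong_fpqc.{u}
  infer_instance

/-- The property of morphisms of algebraic spaces over S given by f is finite locally free
(representable by finite, flat, locally finitely presented morphisms of schemes) is fpqc local on
the base: for an fpqc covering of an algebraic space Y by algebraic spaces Y_i, a morphism f : X ⟶ Y
of algebraic spaces and cartesian squares X_i = Y_i ×_Y X, f has the property if and only if every
X_i ⟶ Y_i has it. -/
theorem result (S : Scheme.{u}) :
    AlgSp.IsLocalOnBase (AlgSp.IsFpqcCover (S := S)) AlgSp.IsFinLocFreeMor := by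
  haveI := zarLocal.{u}
  haveI := descends.{u}
  haveI := stable.{u}
  have key := Groth.Agent.Lib.Seat46.RepDescent.isLocalOnBase_fpqc_repWith_of_affine (S := S)
    (@IsFinite ⊓ (@Flat ⊓ @LocallyOfFinitePresentation) : MorphismProperty Scheme.{u})
    (fun k hk => by haveI : IsFinite k := hk.1; infer_instance)
  rw [← finLocFree_eq] at key
  exact key

end Groth.Agent.S10545
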