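import Groth.Statements.S10296
import Groth.Agent.S10270
import Groth.Agent.S10272
import Groth.Agent.S9941
import Groth.Agent.S9905
import Groth.Agent.Lib.Seat45Charts

set_option autoImplicit false
universe u
open CategoryTheory CategoryTheory.Limits AlgebraicGeometry
open AlgSp

namespace Groth.Agent.S10296


theorem isIntegralMor_comp {S : Scheme.{u}} {F G H : AlgSp.Sp S} (f : F ⟶ G) (g : G ⟶ H)
    (hf : AlgSp.IsIntegralMor f) (hg : AlgSp.IsIntegralMor g) : AlgSp.IsIntegralMor (f ≫ g) := by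
  intro Z hZ z
  obtain ⟨W, i, fst, sq, hW, hi⟩ := hg hZ z
  obtain ⟨W', i', fst', sq', hW', hi'⟩ := hf hW fst
  refine ⟨W', i' ≫ i, fst', ?_, hW', ?_⟩
  · rw [Functor.map_comp]
    exact sq'.paste_vert sq
  · change IsIntegralHom (i'.left ≫ i.left)
    haveI := hi; haveI := hi'
    infer_instance

theorem isSeparatedMor_of_isIntegralMor {S : Scheme.{u}} {X Y : AlgSp.Space S} (f : X ⟶ Y)
    (hf : AlgSp.IsIntegralMor f.hom) : AlgSp.IsSeparatedMor f.hom := by
  have h1 : AlgSp.IsAffineMor f.hom := ((Groth.Agent.S10270.result f).1 hf).1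
  have h2 : AlgSp.RepWith @IsAffineHom f.hom := Groth.Agent.S9941.result f h1
  have h3 : AlgSp.RepWith @IsSeparated f.hom :=
    Groth.Agent.Lib.Seat45.Charts.repWith_mono
      (fun g hg => by haveI : IsAffineHom g := hg; infer_instance) h2
  exact ((Groth.Agent.S9905.result f h2.1).1).2 h3

/-- The induced morphism from the normalization of X in Y to any integral Z -> X through which Y -> X
factors is the normalization of Z in Y. -/
theorem result {S : Scheme.{u}} {Y X X' Z : AlgSp.Space S} (f : Y ⟶ X)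
    (hqc : AlgSp.IsQuasiCompactMor f.hom) (hqs : AlgSp.IsQuasiSeparatedMor f.hom) (ν : X' ⟶ X) (f' : Y ⟶ X')
    (hn : AlgSp.IsRelNormalization f.hom ν.hom f'.hom) (π : Z ⟶ X) (hπ : AlgSp.IsIntegralMor π.hom) (g : Y ⟶ Z)
    (hg : g ≫ π = f) (h : X' ⟶ Z) (h1 : f' ≫ h = g) (h2 : h ≫ π = ν) :
    AlgSp.IsRelNormalization g.hom h.hom f'.hom := by
  obtain ⟨hfac, hν, huniv⟩ := hn
  have hπsep : AlgSp.IsSeparatedMor π.hom := isSeparatedMor_of_isIntegralMor π hπ
  have hνh : AlgSp.IsIntegralMor (h ≫ π).hom := by rw [h2]; exact hν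
  have hh : AlgSp.IsIntegralMor h.hom := (Groth.Agent.S10272.result h π hπsep).2 hνh
  have hgπ : g.hom ≫ π.hom = f.hom := by
    have := congrArg (fun m => m.hom) hg
    exact this
  have h1' : f'.hom ≫ h.hom = g.hom := congrArg (fun m => m.hom) h1
  have h2' : h.hom ≫ π.hom = ν.hom := congrArg (fun m => m.hom) h2
  refine ⟨h1', hh, ?_⟩
  intro W hW π' g' hπ' hg'
  have hcomp : AlgSp.IsIntegralMor (π' ≫ π.hom) := isIntegralMor_comp π' π.hom hπ' hπ
  have hfac' : g' ≫ (π' ≫ π.hom) = f.hom := by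
    rw [← Category.assoc, hg', hgπ]
  obtain ⟨k, ⟨hk1, hk2⟩, hkuniq⟩ := huniv hW (π' ≫ π.hom) g' hcomp hfac'
  -- uniqueness for (Z, π, g)
  obtain ⟨h0, _, h0uniq⟩ := huniv Z.property π.hom g.hom hπ hgπ
  have hkπ' : k ≫ π' = h.hom := by
    have e1 : k ≫ π' = h0 := h0uniq _ ⟨by rw [← Category.assoc, hk1, hg'], by rw [Category.assoc, hk2]⟩
    have e2 : h.hom = h0 := h0uniq _ ⟨h1', h2'⟩
    rw [e1, e2]
  refine ⟨k, ⟨hk1, hkπ'⟩, ?_⟩
  rintro k' ⟨hk'1, hk'2⟩
  exact hkuniq k' ⟨hk'1, by rw [← Category.assoc, hk'2, h2']⟩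

end Groth.Agent.S10296
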