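import Groth.Statements.S10298
import Mathlib
import Groth.Agent.Lib.Helper12ZarGlue

set_option autoImplicit false
set_option linter.style.haveILetI false
universe u
open CategoryTheory CategoryTheory.Limits AlgebraicGeometry
open AlgSp

namespace Groth.Agent.S10298

/-- For a quasi-compact quasi-separated morphism of schemes, the relative normalization of schemes is
the normalization in the sense of algebraic spaces. -/
theorem result {S : Scheme.{u}} {V U N : Over S} (g : V ⟶ U)
    [QuasiCompact g.left] [QuasiSeparated g.left] (f' : V ⟶ N) (ν : N ⟶ U)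
    (e : N.left ≅ g.left.normalization) (he1 : f'.left ≫ e.hom = g.left.toNormalization)
    (he2 : e.hom ≫ g.left.fromNormalization = ν.left) :
    AlgSp.IsRelNormalization ((AlgSp.yon S).map g) ((AlgSp.yon S).map ν) ((AlgSp.yon S).map f') := by
  have hgfac : f' ≫ ν = g := by
    ext
    have : f'.left ≫ ν.left = g.left := by
      rw [← he2, ← Category.assoc, he1, Scheme.Hom.toNormalization_fromNormalization]
    simpa using this
  haveI hνint : IsIntegralHom ν.left := by
    rw [← he2]; infer_instance
  refine ⟨by rw [← Functor.map_comp, hgfac], ?_, ?_⟩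
  · -- integrality of `h_ν`
    intro Z hZ k
    obtain ⟨W, snd, fst, sq⟩ := AlgSp.representable_yon_map ν k
    haveI := hZ
    haveI : IsIntegralHom snd.left :=
      ((AlgSp.repWith_yon_map_iff @IsIntegralHom ν).2 hνint).2 k fst snd sq
    exact ⟨W, snd, fst, sq, isAffine_of_isAffineHom snd.left, inferInstance⟩
  · intro Z _ π gg hπ hgg
    -- `π` is representable with integral base changes
    have hπ' : AlgSp.RepWith @IsIntegralHom π :=
      Groth.Agent.Lib.Helper12.ZarGlue.repWith_of_affine @IsIntegralHom π (fun Z hZ k => by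
        obtain ⟨W, i, fst, sq, -, hW⟩ := hπ hZ k
        exact ⟨W, i, fst, sq, hW⟩)
    obtain ⟨W, snd, fst, sq⟩ := hπ'.1 (𝟙 ((AlgSp.yon S).obj U))
    haveI : IsIntegralHom snd.left := hπ'.2 _ fst snd sq
    haveI : IsIso fst := sq.isIso_fst_of_isIso
    have hfπ : fst ≫ π = (AlgSp.yon S).map snd := by rw [sq.w, Category.comp_id]
    -- `gg` through `W`
    obtain ⟨g₀, hg₀⟩ := (AlgSp.yon S).map_surjective (gg ≫ inv fst)
    have hg₀snd : g₀ ≫ snd = g := by
      apply (AlgSp.yon S).map_injective
      rw [Functor.map_comp, hg₀, ← hfπ, Category.assoc, IsIso.inv_hom_id_assoc, hgg]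
    have hH : g.left = g₀.left ≫ snd.left := by rw [← hg₀snd]; rfl
    let d : g.left.normalization ⟶ W.left := g.left.normalizationDesc g₀.left snd.left hH
    have hd1 : g.left.toNormalization ≫ d = g₀.left :=
      Scheme.Hom.toNormalization_normalizationDesc g.left g₀.left snd.left hH
    have hd2 : d ≫ snd.left = g.left.fromNormalization :=
      Scheme.Hom.normalizationDesc_comp g.left g₀.left snd.left hH
    have hsndw : snd.left ≫ U.hom = W.hom := Over.w snd
    have hνw : ν.left ≫ U.hom = N.hom := Over.w ν
    let h₀ : N ⟶ W := Over.homMk (e.hom ≫ d) (by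
      rw [Category.assoc, ← hsndw, reassoc_of% hd2, reassoc_of% he2, hνw])
    have hh₀l : h₀.left = e.hom ≫ d := rfl
    have hf'h₀ : f' ≫ h₀ = g₀ := by
      ext
      change f'.left ≫ h₀.left = g₀.left
      rw [hh₀l, reassoc_of% he1, hd1]
    have hh₀snd : h₀ ≫ snd = ν := by
      ext
      change h₀.left ≫ snd.left = ν.left
      rw [hh₀l, Category.assoc, hd2, he2]
    refine ⟨(AlgSp.yon S).map h₀ ≫ fst, ⟨?_, ?_⟩, ?_⟩
    · rw [← Category.assoc, ← Functor.map_comp, hf'h₀, hg₀, Category.assoc, IsIso.inv_hom_id,
        Category.comp_id]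
    · rw [Category.assoc, hfπ, ← Functor.map_comp, hh₀snd]
    · rintro h' ⟨h'1, h'2⟩
      obtain ⟨h₁, hh₁⟩ := (AlgSp.yon S).map_surjective (h' ≫ inv fst)
      have hf'h₁ : f' ≫ h₁ = g₀ := by
        apply (AlgSp.yon S).map_injective
        rw [Functor.map_comp, hh₁, hg₀, ← Category.assoc, h'1]
      have hh₁snd : h₁ ≫ snd = ν := by
        apply (AlgSp.yon S).map_injective
        rw [Functor.map_comp, hh₁, ← hfπ, Category.assoc, IsIso.inv_hom_id_assoc, h'2]
      have hf'l : f'.left = g.left.toNormalization ≫ e.inv := by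
        rw [← he1, Category.assoc, Iso.hom_inv_id, Category.comp_id]
      have key : e.inv ≫ h₁.left = d := by
        refine Scheme.Hom.normalization.hom_ext g.left _ _ snd.left ?_ ?_ hd2
        · rw [hd1, ← Category.assoc, ← hf'l]
          have := congrArg (fun q => q.left) hf'h₁
          simpa using this
        · rw [Category.assoc]
          have : h₁.left ≫ snd.left = ν.left := by
            have := congrArg (fun q => q.left) hh₁snd
            simpa using this
          rw [this, ← he2, Iso.inv_hom_id_assoc]
      have hh₁h₀ : h₁ = h₀ := by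
        ext
        change h₁.left = h₀.left
        rw [hh₀l, ← key, Iso.hom_inv_id_assoc]
      have : h' = (h' ≫ inv fst) ≫ fst := by
        rw [Category.assoc, IsIso.inv_hom_id, Category.comp_id]
      rw [this, ← hh₁, hh₁h₀]

end Groth.Agent.S10298
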