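import Groth.Statements.S10302
import Groth.Agent.Lib.Seat45Charts
import Groth.Agent.Lib.Seat45EtDim

set_option autoImplicit false
universe u
open CategoryTheory CategoryTheory.Limits AlgebraicGeometry
open AlgSp

namespace Groth.Agent.S10302

/-- A flat morphism of algebraic spaces maps points of codimension 0 to points of codimension 0. -/
theorem result {S : Scheme.{u}} {X Y : AlgSp.Space S} (f : X ⟶ Y) (hf : AlgSp.LocP @Flat f.hom)
    (x : AlgSp.Points X.obj) (hx : AlgSp.HasAt (fun U u => ringKrullDim ↥(U.presheaf.stalk u) = 0) X.obj x) :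
    AlgSp.HasAt (fun U u => ringKrullDim ↥(U.presheaf.stalk u) = 0) Y.obj (AlgSp.Points.map f.hom x) := by
  open Groth.Agent.Lib.Seat45.Charts Groth.Agent.Lib.Seat45.EtDim in
  obtain ⟨U, a, u, ha, hu, hd⟩ := hx
  obtain ⟨V, b, v, hb, hv⟩ := exists_chart Y.property (AlgSp.Points.map f.hom x)
  obtain ⟨W, p, q, w, hp, hw1, hw2, hpa, hc⟩ :=
    exists_chart_square f.hom a ha b hb u v (by rw [hu, hv])
  haveI : Flat q.left := hf _ b q hpa hb hc
  refine ⟨V, b, v, hb, hv, ?_⟩
  apply le_antisymm
  · rw [← hw2]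
    refine (ringKrullDim_stalk_le_of_flat q.left w).trans ?_
    rw [ringKrullDim_stalk_eq_of_etale p.left w, hw1, hd]
  · exact ringKrullDim_nonneg_of_nontrivial

end Groth.Agent.S10302
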