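import Groth.Statements.S10303
import Groth.Agent.Lib.Seat45LocFinIrrSp

set_option autoImplicit false
set_option linter.style.haveILetI false
universe u
open CategoryTheory CategoryTheory.Limits AlgebraicGeometry
open AlgSp

namespace Groth.Agent.S10303

/-- If Y has an etale surjective chart whose quasi-compact opens have finitely many irreducible
components and f : X -> Y is flat and locally of finite type, then X has such a chart too. -/
theorem result {S : Scheme.{u}} {X Y : AlgSp.Space S} (f : X ⟶ Y)
    (hf : AlgSp.LocP @Flat f.hom) (hf' : AlgSp.LocP @LocallyOfFiniteType f.hom)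
    (hY : AlgSp.EtaleLocally (fun U => ∀ W : U.Opens, IsCompact (W : Set ↥U) → (irreducibleComponents ↥W).Finite) Y.obj) :
    AlgSp.EtaleLocally (fun U => ∀ W : U.Opens, IsCompact (W : Set ↥U) → (irreducibleComponents ↥W).Finite) X.obj := by
  obtain ⟨V, b, hbe, hbs, hV⟩ := hY
  obtain ⟨U, a, h, hae, has, hc⟩ :=
    Groth.Agent.Lib.Seat45.LocFinIrr.exists_atlas_diagram_over X.property f.hom b hbe hbs
  haveI : Flat h.left := hf a b h hae hbe hc
  haveI : LocallyOfFiniteType h.left := hf' a b h hae hbe hc
  exact ⟨U, a, hae, has, Groth.Agent.Lib.Seat45.LocFinIrr.locFinIrr_of_flat_lft h.left hV⟩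

end Groth.Agent.S10303
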