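import Groth.Statements.S10304
import Groth.Agent.Lib.Seat45LocFinIrrSp
import Groth.Agent.Lib.Seat45Noeth
import Groth.Agent.S10177
import Groth.Prelude.Def_AlgSpEt

set_option autoImplicit false
set_option linter.style.haveILetI false
universe u
open CategoryTheory CategoryTheory.Limits AlgebraicGeometry
open AlgSp

namespace Groth.Agent.S10304

open Groth.Agent.Lib.Seat45.LocFinIrr in
/-- The scheme `W` (a quasi-compact open of a chart) as an algebraic space étale over `X`. -/
private lemma exists_qc_etale {S : Scheme.{u}} (X : AlgSp.Space S) {U : Over S}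
    (a : (AlgSp.yon S).obj U ⟶ X.obj) (hae : AlgSp.RepWith @Etale a) (W : U.left.Opens)
    (hW : IsCompact (W : Set ↥U.left)) :
    ∃ (g : (AlgSp.ofScheme S).obj (Over.mk (W.ι ≫ U.hom)) ⟶ X), AlgSp.IsEtaleMor g.hom ∧
      AlgSp.IsQuasiCompactSp ((AlgSp.ofScheme S).obj (Over.mk (W.ι ≫ U.hom))).obj := by
  let T : Over S := Over.mk (W.ι ≫ U.hom)
  let i : T ⟶ U := Over.homMk W.ι rfl
  haveI : Etale i.left := by change Etale W.ι; infer_instance
  refine ⟨ObjectProperty.homMk ((AlgSp.yon S).map i ≫ a), ?_, ?_⟩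
  · exact AlgSp.isEtaleMor_of_repWith _ (Groth.Agent.Lib.Seat45.Charts.repWith_etale_comp i a hae)
  · exact ⟨T, 𝟙 _, AlgSp.repWith_id _ T, AlgSp.repWith_id _ T, isCompact_iff_compactSpace.1 hW⟩

/-- Equivalent forms of the condition that the schemes etale over X have locally finitely many
irreducible components: one etale surjective chart, every etale chart, finiteness of codimension-0
points of quasi-compact spaces etale over X, finiteness of irreducible components of such spaces. -/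
theorem result {S : Scheme.{u}} (X : AlgSp.Space S) :
    (AlgSp.EtaleLocally (fun U => ∀ W : U.Opens, IsCompact (W : Set ↥U) → (irreducibleComponents ↥W).Finite) X.obj ↔
      ∀ (U : Over S) (a : (AlgSp.yon S).obj U ⟶ X.obj), AlgSp.RepWith @Etale a →
        ∀ W : U.left.Opens, IsCompact (W : Set ↥U.left) → (irreducibleComponents ↥W).Finite) ∧
    (AlgSp.EtaleLocally (fun U => ∀ W : U.Opens, IsCompact (W : Set ↥U) → (irreducibleComponents ↥W).Finite) X.obj ↔
      ∀ (Y : AlgSp.Space S) (g : Y ⟶ X), AlgSp.IsEtaleMor g.hom → AlgSp.IsQuasiCompactSp Y.obj →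
        {y : AlgSp.Points Y.obj |
          AlgSp.HasAt (fun U u => ringKrullDim ↥(U.presheaf.stalk u) = 0) Y.obj y}.Finite) ∧
    (AlgSp.EtaleLocally (fun U => ∀ W : U.Opens, IsCompact (W : Set ↥U) → (irreducibleComponents ↥W).Finite) X.obj ↔
      ∀ (Y : AlgSp.Space S) (g : Y ⟶ X), AlgSp.IsEtaleMor g.hom → AlgSp.IsQuasiCompactSp Y.obj →
        (irreducibleComponents (AlgSp.Points Y.obj)).Finite) := by
  have hatlas : (∀ (U : Over S) (a : (AlgSp.yon S).obj U ⟶ X.obj), AlgSp.RepWith @Etale a →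
      Groth.Agent.Lib.Seat45.LocFinIrr.LocFinIrr U.left) →
      AlgSp.EtaleLocally Groth.Agent.Lib.Seat45.LocFinIrr.LocFinIrr X.obj := by
    intro h
    obtain ⟨U, a, hae, has⟩ := X.property.atlas
    exact ⟨U, a, hae, has, h U a hae⟩
  refine ⟨⟨fun h U a ha => Groth.Agent.Lib.Seat45.LocFinIrr.locFinIrr_chart h a ha, hatlas⟩, ⟨?_, ?_⟩, ⟨?_, ?_⟩⟩
  · -- (2) ⟹
    intro hX Y g hg hY
    obtain ⟨V, p, hpe, hps, hVc⟩ := hY
    have hV : Groth.Agent.Lib.Seat45.LocFinIrr.LocFinIrr V.left :=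
      Groth.Agent.Lib.Seat45.LocFinIrr.locFinIrr_chart hX (p ≫ g.hom) (hg p hpe)
    have hfin := (Groth.Agent.Lib.Seat45.LocFinIrr.locFinIrr_iff _).1 hV ⊤
      (by simpa using (isCompact_univ (X := ↥V.left)))
    refine (hfin.image (AlgSp.Points.ofPt p)).subset ?_
    intro y hy
    obtain ⟨v, rfl⟩ := Groth.Agent.S10177.surjective_ofPt p hps y
    refine ⟨v, ⟨trivial, ?_⟩, rfl⟩
    rw [Groth.Agent.Lib.Seat45.LocFinIrr.maxPt_iff_stalkDim_eq_zero]
    exact (Groth.Agent.Lib.Seat45.Noeth.hasAt_stalkDim_iff Y.property p hpe v 0).1 hy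
  · -- (2) ⟸
    intro h
    refine hatlas fun U a hae W hW => ?_
    obtain ⟨g, hg, hqc⟩ := exists_qc_etale X a hae W hW
    have hfin := h _ g hg hqc
    set T : Over S := Over.mk (W.ι ≫ U.hom) with hT
    change (irreducibleComponents ↥T.left).Finite
    refine (Groth.Agent.Lib.Seat45.LocFinIrr.finite_irreducibleComponents_iff (α := ↥T.left)).2 ?_
    refine (hfin.preimage (f := AlgSp.Points.schemeHomeo T)
      (AlgSp.Points.schemeHomeo T).injective.injOn).subset ?_
    intro w hw
    exact ⟨T, 𝟙 _, w, AlgSp.repWith_id _ T, rfl,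
      (Groth.Agent.Lib.Seat45.LocFinIrr.maxPt_iff_stalkDim_eq_zero w).1 hw⟩
  · -- (3) ⟹
    intro hX Y g hg hY
    obtain ⟨V, p, hpe, hps, hVc⟩ := hY
    have hV : Groth.Agent.Lib.Seat45.LocFinIrr.LocFinIrr V.left :=
      Groth.Agent.Lib.Seat45.LocFinIrr.locFinIrr_chart hX (p ≫ g.hom) (hg p hpe)
    have hfin := hV ⊤ (by simpa using (isCompact_univ (X := ↥V.left)))
    refine Groth.Agent.Lib.Seat45.LocFinIrr.finite_irreducibleComponents_of_surjective
      (fun w : ↥(⊤ : V.left.Opens) => AlgSp.Points.ofPt p w.1)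
      ((AlgSp.Points.continuous_ofPt p).comp continuous_subtype_val) ?_ hfin
    intro y
    obtain ⟨v, rfl⟩ := Groth.Agent.S10177.surjective_ofPt p hps y
    exact ⟨⟨v, trivial⟩, rfl⟩
  · -- (3) ⟸
    intro h
    refine hatlas fun U a hae W hW => ?_
    obtain ⟨g, hg, hqc⟩ := exists_qc_etale X a hae W hW
    have hfin := h _ g hg hqc
    set T : Over S := Over.mk (W.ι ≫ U.hom) with hT
    change (irreducibleComponents ↥T.left).Finite
    exact Groth.Agent.Lib.Seat45.LocFinIrr.finite_irreducibleComponents_of_surjective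
      (AlgSp.Points.schemeHomeo T).symm (AlgSp.Points.schemeHomeo T).symm.continuous
      (AlgSp.Points.schemeHomeo T).symm.surjective hfin

end Groth.Agent.S10304
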