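import Groth.Statements.S10308
import Groth.Agent.Lib.Seat45ChartsMor
import Groth.Agent.S7408
import Groth.Agent.S0402

set_option autoImplicit false
universe u
open CategoryTheory CategoryTheory.Limits AlgebraicGeometry
open AlgSp

namespace Groth.Agent.S10308

/-- For f locally of finite type, the locus of points where the relative dimension of f is at most n is
open. -/
theorem result {S : Scheme.{u}} {X Y : AlgSp.Space S} (f : X ⟶ Y)
    (hf : AlgSp.LocP @LocallyOfFiniteType f.hom) (n : ℕ) :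
    IsOpen {x : AlgSp.Points X.obj |
      AlgSp.HasAtMor (fun _ _ h u => FlatMor.fibreDimAt h u ≤ (n : WithBot ℕ∞)) f.hom x} := by
  open Groth.Agent.Lib.Seat45.Charts Groth.Agent.Lib.Seat45.ChartsMor in
  obtain ⟨U, V, a, b, h, hae, has, hbe, hbs, hc⟩ := exists_atlas_diagram X.property Y.property f.hom
  rw [← (Groth.Agent.S10177.isQuotientMap_ofPt a hae has).isOpen_preimage]
  haveI : LocallyOfFiniteType h.left := hf a b h hae hbe hc
  have hQ : ∀ {U U' V V' : Scheme.{u}} (h : U ⟶ V) (h' : U' ⟶ V') (a : U' ⟶ U) (b : V' ⟶ V)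
      [Etale a] [Etale b], h' ≫ b = a ≫ h → ∀ u' : ↥U',
        FlatMor.fibreDimAt h (a u') ≤ (n : WithBot ℕ∞) ↔ FlatMor.fibreDimAt h' u' ≤ (n : WithBot ℕ∞) := by
    intro U U' V V' h h' a b _ _ comm u'
    rw [Groth.Agent.S7408.result h h' a b comm u']
  have key : AlgSp.Points.ofPt a ⁻¹' {x : AlgSp.Points X.obj |
      AlgSp.HasAtMor (fun _ _ h u => FlatMor.fibreDimAt h u ≤ (n : WithBot ℕ∞)) f.hom x} =
      {u : ↥U.left | FlatMor.fibreDimAt h.left u ≤ (n : WithBot ℕ∞)} := by
    ext u
    simp only [Set.mem_preimage, Set.mem_setOf_eq]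
    rw [hasAtMor_iff_forall (fun _ _ h u => FlatMor.fibreDimAt h u ≤ (n : WithBot ℕ∞)) hQ
      X.property Y.property]
    constructor
    · intro hall
      exact hall U V a b h u hae hbe hc rfl
    · intro hu U' V' a' b' h' u' ha' hb' hc' hu'
      have := (hasAtMor_iff_forall (fun _ _ h u => FlatMor.fibreDimAt h u ≤ (n : WithBot ℕ∞)) hQ
        X.property Y.property f.hom (AlgSp.Points.ofPt a u)).1 ⟨U, V, a, b, h, u, hae, hbe, hc, rfl, hu⟩
      exact this U' V' a' b' h' u' ha' hb' hc' hu'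
  rw [key]
  exact Groth.Agent.S0402.result h.left n

end Groth.Agent.S10308
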