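import Groth.Statements.S10309
import Groth.Agent.Lib.Seat45FibDimSp
import Groth.Agent.S9355

set_option autoImplicit false
universe u
open CategoryTheory CategoryTheory.Limits AlgebraicGeometry
open AlgSp

namespace Groth.Agent.S10309

/-- For f locally of finite presentation, the locus where the relative dimension is at most n is
retrocompact in |X|. -/
theorem result {S : Scheme.{u}} {X Y : AlgSp.Space S} (f : X ⟶ Y)
    (hf : AlgSp.LocP @LocallyOfFinitePresentation f.hom) (n : ℕ) (V : Set (AlgSp.Points X.obj))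
    (hV : IsOpen V) (hVc : IsCompact V) :
    IsCompact (V ∩ {x : AlgSp.Points X.obj |
      AlgSp.HasAtMor (fun _ _ h u => FlatMor.fibreDimAt h u ≤ (n : WithBot ℕ∞)) f.hom x}) := by
  open Groth.Agent.Lib.Seat45.Charts Groth.Agent.Lib.Seat45.ChartsMor Groth.Agent.Lib.Seat45.FibDimSp in
  obtain ⟨U, V₀, a, b, h, hae, has, hbe, hbs, hc⟩ := exists_atlas_diagram X.property Y.property f.hom
  haveI : LocallyOfFinitePresentation h.left := hf a b h hae hbe hc
  have hsurj := Groth.Agent.S10177.surjective_ofPt a has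
  have hopen := Groth.Agent.S10176.isOpenMap_ofPt a hae
  have hcont := AlgSp.Points.continuous_ofPt a
  have hE : ∀ u : ↥U.left, AlgSp.HasAtMor (fun _ _ h u => FlatMor.fibreDimAt h u ≤ (n : WithBot ℕ∞)) f.hom
      (AlgSp.Points.ofPt a u) ↔ FlatMor.fibreDimAt h.left u ≤ (n : WithBot ℕ∞) := fun u =>
    hasAtMor_fibreDimAt_ofPt_iff (fun e => e ≤ (n : WithBot ℕ∞)) X.property Y.property f.hom a b h
      hae hbe hc u
  have hretro := Groth.Agent.S9355.result h.left n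
  -- a compact open of `U` mapping onto `V`
  have hpre : IsOpen (AlgSp.Points.ofPt a ⁻¹' V) := hV.preimage hcont
  have hchoose : ∀ x : V, ∃ W : U.left.Opens, IsAffineOpen W ∧ (W : Set ↥U.left) ⊆ AlgSp.Points.ofPt a ⁻¹' V ∧
      x.1 ∈ AlgSp.Points.ofPt a '' (W : Set ↥U.left) := by
    intro x
    obtain ⟨u, hu⟩ := hsurj x.1
    obtain ⟨W, hW, huW, hWV⟩ := TopologicalSpace.Opens.isBasis_iff_nbhd.mp U.left.isBasis_affineOpens
      (show u ∈ (⟨_, hpre⟩ : U.left.Opens) from by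
        show AlgSp.Points.ofPt a u ∈ V
        rw [hu]; exact x.2)
    exact ⟨W, hW, hWV, u, huW, hu⟩
  choose W hWaff hWV hxW using hchoose
  obtain ⟨t, ht⟩ := hVc.elim_finite_subcover (fun x : V => AlgSp.Points.ofPt a '' (W x : Set ↥U.left))
    (fun x => hopen _ (W x).2) (fun x hx => Set.mem_iUnion.2 ⟨⟨x, hx⟩, hxW ⟨x, hx⟩⟩)
  let K : Set ↥U.left := ⋃ x ∈ t, (W x : Set ↥U.left)
  have hKc : IsCompact K := t.isCompact_biUnion fun x _ => (hWaff x).isCompact
  have hKo : IsOpen K := isOpen_biUnion fun x _ => (W x).2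
  have hKV : K ⊆ AlgSp.Points.ofPt a ⁻¹' V := Set.iUnion₂_subset fun x _ => hWV x
  have hVK : V ⊆ AlgSp.Points.ofPt a '' K := by
    intro x hx
    obtain ⟨y, hy, u, hu, rfl⟩ := Set.mem_iUnion₂.1 (ht hx)
    exact ⟨u, Set.mem_iUnion₂.2 ⟨y, hy, hu⟩, rfl⟩
  have hcomp : IsCompact ({u : ↥U.left | FlatMor.fibreDimAt h.left u ≤ (n : WithBot ℕ∞)} ∩ K) :=
    hretro hKc hKo
  have heq : V ∩ {x : AlgSp.Points X.obj |
      AlgSp.HasAtMor (fun _ _ h u => FlatMor.fibreDimAt h u ≤ (n : WithBot ℕ∞)) f.hom x} =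
      AlgSp.Points.ofPt a '' ({u : ↥U.left | FlatMor.fibreDimAt h.left u ≤ (n : WithBot ℕ∞)} ∩ K) := by
    ext x
    constructor
    · rintro ⟨hxV, hxE⟩
      obtain ⟨u, huK, rfl⟩ := hVK hxV
      exact ⟨u, ⟨(hE u).1 hxE, huK⟩, rfl⟩
    · rintro ⟨u, ⟨huE, huK⟩, rfl⟩
      exact ⟨hKV huK, (hE u).2 huE⟩
  rw [heq]
  exact hcomp.image hcont

end Groth.Agent.S10309
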