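import Groth.Statements.S10310
import Groth.Agent.Lib.Seat45FibDimSp

set_option autoImplicit false
universe u
open CategoryTheory CategoryTheory.Limits AlgebraicGeometry
open AlgSp

namespace Groth.Agent.S10310

/-- A morphism locally of finite type is locally quasi-finite if and only if it has relative dimension 0
at every point. -/
theorem result {S : Scheme.{u}} {X Y : AlgSp.Space S} (f : X ⟶ Y)
    (hf : AlgSp.LocP @LocallyOfFiniteType f.hom) :
    AlgSp.LocP (@LocallyQuasiFinite ⊓ @LocallyOfFiniteType) f.hom ↔
      ∀ x : AlgSp.Points X.obj, AlgSp.HasAtMor (fun _ _ h u => FlatMor.fibreDimAt h u = 0) f.hom x := by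
  open Groth.Agent.Lib.Seat45.Charts Groth.Agent.Lib.Seat45.ChartsMor Groth.Agent.Lib.Seat45.FibDimSp
    Groth.Agent.Lib.Seat45.FibDim in
  constructor
  · intro hqf x
    obtain ⟨U, V, a, b, h, u, ha, hb, hc, hu⟩ := exists_diagram X.property Y.property f.hom x
    haveI : LocallyOfFiniteType h.left := hf a b h ha hb hc
    haveI : LocallyQuasiFinite h.left := (hqf a b h ha hb hc).1
    exact ⟨U, V, a, b, h, u, ha, hb, hc, hu,
      (locallyQuasiFinite_iff_forall_fibreDimAt_eq_zero h.left).1 inferInstance u⟩
  · intro hall U V a b h ha hb hc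
    haveI : LocallyOfFiniteType h.left := hf a b h ha hb hc
    refine ⟨?_, inferInstance⟩
    rw [locallyQuasiFinite_iff_forall_fibreDimAt_eq_zero]
    intro u
    exact (hasAtMor_fibreDimAt_ofPt_iff (fun d => d = 0) X.property Y.property f.hom a b h ha hb hc u).1
      (hall _)

end Groth.Agent.S10310
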