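import Groth.Statements.S10311
import Groth.Agent.Lib.Seat45FibDimSp
import Groth.Agent.Lib.Seat45BaseChange
import Groth.Agent.S9358

set_option autoImplicit false
universe u
open CategoryTheory CategoryTheory.Limits AlgebraicGeometry
open AlgSp

namespace Groth.Agent.S10311

/-- The relative dimension at a point of a morphism locally of finite type is preserved by base change. -/
theorem result {S : Scheme.{u}} {X Y Y' X' : AlgSp.Space S} (f : X ⟶ Y) (g : Y' ⟶ Y)
    (g' : X' ⟶ X) (f' : X' ⟶ Y') (sq : IsPullback g'.hom f'.hom f.hom g.hom)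
    (hf : AlgSp.LocP @LocallyOfFiniteType f.hom) (x' : AlgSp.Points X'.obj) (d : WithBot ℕ∞)
    (hd : AlgSp.HasAtMor (fun _ _ h u => FlatMor.fibreDimAt h u = d) f.hom (AlgSp.Points.map g'.hom x')) :
    AlgSp.HasAtMor (fun _ _ h u => FlatMor.fibreDimAt h u = d) f'.hom x' := by
  open Groth.Agent.Lib.Seat45.Charts Groth.Agent.Lib.Seat45.ChartsMor Groth.Agent.Lib.Seat45.FibDimSp
    Groth.Agent.Lib.Seat45.BaseChange in
  obtain ⟨U, V, U', V', a, b, h, a', b', h', α, β, hae, has, hbe, hbs, ha'e, ha's, hb'e, hb's, hc, hc',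
    hα, hβ, sqU⟩ := exists_baseChange_atlas_diagram X.property Y.property Y'.property sq
  obtain ⟨u', hu'⟩ := Groth.Agent.S10177.surjective_ofPt a' ha's x'
  haveI : LocallyOfFiniteType h.left := hf a b h hae hbe hc
  have h1 : AlgSp.Points.map g'.hom x' = AlgSp.Points.ofPt a (α.left u') := by
    rw [← hu', AlgSp.Points.map_ofPt, hα, Groth.Agent.S10176.ofPt_map_comp]
  rw [h1] at hd
  have h2 : FlatMor.fibreDimAt h.left (α.left u') = d :=
    (hasAtMor_fibreDimAt_ofPt_iff (fun e => e = d) X.property Y.property f.hom a b h hae hbe hc _).1 hd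
  have h3 := (Groth.Agent.S9358.result h.left β.left α.left h'.left
    (sqU.map (Over.forget S)) 0).1 u'
  exact ⟨U', V', a', b', h', u', ha'e, hb'e, hc', hu', h3.trans h2⟩

end Groth.Agent.S10311
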