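import Groth.Statements.S10312
import Groth.Agent.Lib.Seat45Unram
import Groth.Agent.Lib.Seat45ChartsMor2
import Groth.Agent.Lib.Seat45BaseChange
import Groth.Agent.S9952
import Groth.Agent.S9984
import Groth.Agent.S10176
import Groth.Agent.S10177

set_option autoImplicit false
set_option linter.style.haveILetI false
universe u
open CategoryTheory CategoryTheory.Limits AlgebraicGeometry
open AlgSp

namespace Groth.Agent.S10312

open Groth.Agent.Lib.Seat45.Unram in
/-- On a chart diagram of a morphism locally of finite type, being unramified at the image point is read on the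
chart. -/
private lemma hasAtMor_unrNear_ofPt_iff {S : Scheme.{u}} {F G : AlgSp.Sp S} (hF : AlgSp.IsAlgSpace F)
    (hG : AlgSp.IsAlgSpace G) (f : F ⟶ G) (hf : AlgSp.LocP @LocallyOfFiniteType f)
    {U V : Over S} (a : (AlgSp.yon S).obj U ⟶ F) (b : (AlgSp.yon S).obj V ⟶ G) (h : U ⟶ V)
    (ha : AlgSp.RepWith @Etale a) (hb : AlgSp.RepWith @Etale b)
    (hc : a ≫ f = (AlgSp.yon S).map h ≫ b) (u : ↥U.left) :
    AlgSp.HasAtMor UnrNear f (AlgSp.Points.ofPt a u) ↔ UnrNear U.left V.left h.left u :=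
  Groth.Agent.Lib.Seat45.ChartsMor.hasAtMor_ofPt_iff_of_locP @LocallyOfFiniteType UnrNear
    (fun h h' a b _ _ hh hh' comm u' => unrNear_etale_local h h' a b hh hh' comm u')
    hF hG f hf a b h ha hb hc u

open Groth.Agent.Lib.Seat45.Unram in
private lemma isOpen_hasAtMor_unrNear {S : Scheme.{u}} {F G : AlgSp.Sp S} (f : F ⟶ G) :
    IsOpen {x : AlgSp.Points F | AlgSp.HasAtMor UnrNear f x} := by
  refine isOpen_iff_forall_mem_open.mpr fun x hx => ?_
  obtain ⟨U, V, a, b, h, u, ha, hb, hc, hu, W, huW, hW1, hW2⟩ := hx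
  refine ⟨AlgSp.Points.ofPt a '' (W : Set ↥U.left), ?_,
    Groth.Agent.S10176.isOpenMap_ofPt a ha _ W.isOpen, ⟨u, huW, hu⟩⟩
  rintro _ ⟨w, hw, rfl⟩
  exact ⟨U, V, a, b, h, w, ha, hb, hc, rfl, W, hw, hW1, hW2⟩

/-- For X -> Y over Z with X -> Z locally of finite type, the locus where X -> Y is unramified is an
open subset of |X| whose formation commutes with base change along any Z' -> Z. -/
theorem result {S : Scheme.{u}} {X Y Z Z' Y' X' : AlgSp.Space S} (f : X ⟶ Y)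
    (p : X ⟶ Z) (q : Y ⟶ Z) (comm : f ≫ q = p) (hp : AlgSp.LocP @LocallyOfFiniteType p.hom) (g : Z' ⟶ Z)
    (a : Y' ⟶ Y) (q' : Y' ⟶ Z') (sq1 : IsPullback a.hom q'.hom q.hom g.hom)
    (b : X' ⟶ X) (f' : X' ⟶ Y') (sq2 : IsPullback b.hom f'.hom f.hom a.hom) :
    IsOpen {x : AlgSp.Points X.obj | AlgSp.HasAtMor (fun U _ h u => ∃ W : U.Opens, u ∈ W ∧ LocallyOfFiniteType (W.ι ≫ h) ∧ FormallyUnramified (W.ι ≫ h)) f.hom x} ∧
    {x' : AlgSp.Points X'.obj | AlgSp.HasAtMor (fun U _ h u => ∃ W : U.Opens, u ∈ W ∧ LocallyOfFiniteType (W.ι ≫ h) ∧ FormallyUnramified (W.ι ≫ h)) f'.hom x'} =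
      AlgSp.Points.map b.hom ⁻¹' {x : AlgSp.Points X.obj | AlgSp.HasAtMor (fun U _ h u => ∃ W : U.Opens, u ∈ W ∧ LocallyOfFiniteType (W.ι ≫ h) ∧ FormallyUnramified (W.ι ≫ h)) f.hom x} := by
  have hQ : (fun U _ h u => ∃ W : U.Opens, u ∈ W ∧ LocallyOfFiniteType (W.ι ≫ h) ∧
      FormallyUnramified (W.ι ≫ h)) = Groth.Agent.Lib.Seat45.Unram.UnrNear := rfl
  rw [hQ]
  refine ⟨isOpen_hasAtMor_unrNear f.hom, ?_⟩
  have hlf : AlgSp.LocP @LocallyOfFiniteType f.hom :=
    Groth.Agent.S9952.result f q (by rw [comm]; exact hp)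
  have sqbig : IsPullback b.hom (f' ≫ q').hom (f ≫ q).hom g.hom := sq2.paste_vert sq1
  have hp' : AlgSp.LocP @LocallyOfFiniteType (f' ≫ q').hom :=
    Groth.Agent.S9984.result @LocallyOfFiniteType (Or.inl rfl) (f ≫ q) g b (f' ≫ q') sqbig
      (by rw [comm]; exact hp)
  have hlf' : AlgSp.LocP @LocallyOfFiniteType f'.hom := Groth.Agent.S9952.result f' q' hp'
  ext x'
  simp only [Set.mem_setOf_eq, Set.mem_preimage]
  obtain ⟨U, V, U', V', a₀, b₀, h, a', b', h', α, β, hae, has, hbe, hbs, ha'e, ha's, hb'e, hb's, hc, hc',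
    hα, hβ, sqU⟩ := Groth.Agent.Lib.Seat45.BaseChange.exists_baseChange_atlas_diagram X.property Y.property
      Y'.property sq2
  obtain ⟨u', hu'⟩ := Groth.Agent.S10177.surjective_ofPt a' ha's x'
  haveI : LocallyOfFiniteType h.left := hlf a₀ b₀ h hae hbe hc
  have h1 : AlgSp.Points.map b.hom x' = AlgSp.Points.ofPt a₀ (α.left u') := by
    rw [← hu', AlgSp.Points.map_ofPt, hα, Groth.Agent.S10176.ofPt_map_comp]
  rw [h1, ← hu', hasAtMor_unrNear_ofPt_iff X.property Y.property f.hom hlf a₀ b₀ h hae hbe hc,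
    hasAtMor_unrNear_ofPt_iff X'.property Y'.property f'.hom hlf' a' b' h' ha'e hb'e hc']
  have sqU' : IsPullback α.left h'.left h.left β.left := sqU.map (Over.forget S)
  exact Groth.Agent.Lib.Seat45.Unram.unrNear_baseChange_iff sqU' u'

end Groth.Agent.S10312
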