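import Groth.Statements.S10313
import Groth.Agent.Lib.Seat45FibDimSp
import Groth.Agent.S10308
import Groth.Agent.S10195
import Groth.Agent.S9984

set_option autoImplicit false
universe u
open CategoryTheory CategoryTheory.Limits AlgebraicGeometry
open AlgSp

namespace Groth.Agent.S10313

/-- For f locally of finite type there is an open subspace of X on which f is locally quasi-finite,
outside of which the relative dimension is at least 1, and whose formation commutes with base
change. -/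
theorem result {S : Scheme.{u}} {X Y : AlgSp.Space S} (f : X ⟶ Y)
    (hf : AlgSp.LocP @LocallyOfFiniteType f.hom) :
    ∃ (X' : AlgSp.Space S) (j : X' ⟶ X), AlgSp.RepWith @IsOpenImmersion j.hom ∧
      AlgSp.LocP (@LocallyQuasiFinite ⊓ @LocallyOfFiniteType) (j ≫ f).hom ∧
      (∀ x : AlgSp.Points X.obj, x ∉ Set.range (AlgSp.Points.map j.hom) →
        AlgSp.HasAtMor (fun _ _ h u => 1 ≤ FlatMor.fibreDimAt h u) f.hom x) ∧
      ∀ (Y'' X'' : AlgSp.Space S) (g : Y'' ⟶ Y) (b : X'' ⟶ X) (f'' : X'' ⟶ Y''),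
        IsPullback b.hom f''.hom f.hom g.hom → ∀ x'' : AlgSp.Points X''.obj,
          AlgSp.Points.map b.hom x'' ∈ Set.range (AlgSp.Points.map j.hom) ↔ AlgSp.HasAtMor (fun U _ h u => ∃ W : U.Opens, u ∈ W ∧ LocallyQuasiFinite (W.ι ≫ h) ∧ LocallyOfFiniteType (W.ι ≫ h)) f''.hom x'' := by
  open Groth.Agent.Lib.Seat45.Charts Groth.Agent.Lib.Seat45.ChartsMor Groth.Agent.Lib.Seat45.FibDimSp
    Groth.Agent.Lib.Seat45.FibDim in
  obtain ⟨X', j, hj, hrange⟩ := Groth.Agent.S10195.result X _ (Groth.Agent.S10308.result f hf 0)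
  have hje : AlgSp.RepWith @Etale j.hom := repWith_etale_of_isOpenImmersion hj
  refine ⟨X', j, hj, ?_, ?_, ?_⟩
  · intro U V a b h ha hb hc
    have hae : AlgSp.RepWith @Etale (a ≫ j.hom) := (AlgSp.RepWith @Etale).comp_mem _ _ ha hje
    have hc' : (a ≫ j.hom) ≫ f.hom = (AlgSp.yon S).map h ≫ b := by
      rw [Category.assoc]; exact hc
    haveI : LocallyOfFiniteType h.left := hf _ b h hae hb hc'
    refine ⟨?_, inferInstance⟩
    rw [locallyQuasiFinite_iff_forall_fibreDimAt_le_zero]
    intro u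
    have hmem : AlgSp.Points.ofPt (a ≫ j.hom) u ∈ Set.range (AlgSp.Points.map j.hom) :=
      ⟨AlgSp.Points.ofPt a u, AlgSp.Points.map_ofPt a j.hom u⟩
    rw [hrange] at hmem
    have := (hasAtMor_fibreDimAt_ofPt_iff (fun e => e ≤ ((0 : ℕ) : WithBot ℕ∞)) X.property Y.property
      f.hom _ b h hae hb hc' u).1 hmem
    simpa using this
  · intro x hx
    rw [hrange] at hx
    obtain ⟨U, V, a, b, h, u, ha, hb, hc, hu⟩ := exists_diagram X.property Y.property f.hom x
    refine ⟨U, V, a, b, h, u, ha, hb, hc, hu, ?_⟩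
    have hnot : ¬ FlatMor.fibreDimAt h.left u ≤ ((0 : ℕ) : WithBot ℕ∞) := fun hle =>
      hx ⟨U, V, a, b, h, u, ha, hb, hc, hu, hle⟩
    have hnn := fibreDimAt_nonneg h.left u
    show 1 ≤ FlatMor.fibreDimAt h.left u
    generalize FlatMor.fibreDimAt h.left u = d at hnot hnn
    induction d using WithBot.recBotCoe with
    | bot => exact absurd hnn (by simp)
    | coe m =>
      have h1 : ¬ m ≤ 0 := fun hm => hnot (by exact_mod_cast hm)
      have h2 : 1 ≤ m := Order.one_le_iff_pos.2 (pos_iff_ne_zero.2 fun h0 => h1 h0.le)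
      exact_mod_cast h2
  · intro Y'' X'' g b f'' sq x''
    have hf'' : AlgSp.LocP @LocallyOfFiniteType f''.hom :=
      Groth.Agent.S9984.result @LocallyOfFiniteType (Or.inl rfl) f g b f'' sq hf
    rw [hrange]
    show AlgSp.HasAtMor (fun _ _ h u => FlatMor.fibreDimAt h u ≤ ((0 : ℕ) : WithBot ℕ∞)) f.hom
      (AlgSp.Points.map b.hom x'') ↔ _
    rw [hasAtMor_fibreDimAt_baseChange_iff (fun e => e ≤ ((0 : ℕ) : WithBot ℕ∞)) X.property Y.property
      Y''.property X''.property sq hf x'']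
    constructor
    · rintro ⟨U, V, a, b', h, u, ha, hb, hc, hu, hle⟩
      haveI : LocallyOfFiniteType h.left := hf'' a b' h ha hb hc
      exact ⟨U, V, a, b', h, u, ha, hb, hc, hu,
        (exists_opens_lqf_iff_fibreDimAt_le_zero h.left u).2 (by simpa using hle)⟩
    · rintro ⟨U, V, a, b', h, u, ha, hb, hc, hu, hW⟩
      haveI : LocallyOfFiniteType h.left := hf'' a b' h ha hb hc
      exact ⟨U, V, a, b', h, u, ha, hb, hc, hu,
        by simpa using (exists_opens_lqf_iff_fibreDimAt_le_zero h.left u).1 hW⟩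

end Groth.Agent.S10313
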