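import Groth.Statements.S10314
import Groth.Agent.Lib.Seat45Noeth
import Groth.Agent.Lib.Seat45FibDimSp
import Groth.Agent.Lib.Helper3RelDimFlat

set_option autoImplicit false
universe u
open CategoryTheory CategoryTheory.Limits AlgebraicGeometry
open AlgSp

namespace Groth.Agent.S10314

/-- For a flat morphism locally of finite type of relative dimension d between locally Noetherian
algebraic spaces, the dimension of X at a point equals the dimension of Y at the image point plus d. -/
theorem result {S : Scheme.{u}} {X Y : AlgSp.Space S} (f : X ⟶ Y)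
    (hX : AlgSp.IsLocNoethSp X.obj) (hY : AlgSp.IsLocNoethSp Y.obj) (hf : AlgSp.LocP @Flat f.hom)
    (hf' : AlgSp.LocP @LocallyOfFiniteType f.hom) (d : ℕ)
    (hd : ∀ x : AlgSp.Points X.obj, AlgSp.HasAtMor (fun _ _ h u => FlatMor.fibreDimAt h u = (d : WithBot ℕ∞)) f.hom x)
    (x : AlgSp.Points X.obj) (dX dY : WithBot ℕ∞) (hx : AlgSp.HasAt (fun U u => FlatMor.localDim ↥U u = dX) X.obj x)
    (hy : AlgSp.HasAt (fun U u => FlatMor.localDim ↥U u = dY) Y.obj (AlgSp.Points.map f.hom x)) :
    dX = dY + (d : WithBot ℕ∞) := by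
  open Groth.Agent.Lib.Seat45.Charts Groth.Agent.Lib.Seat45.ChartsMor Groth.Agent.Lib.Seat45.FibDimSp
    Groth.Agent.Lib.Seat45.Noeth in
  obtain ⟨U, V, a, b, h, u, ha, hb, hc, hu⟩ := exists_diagram X.property Y.property f.hom x
  haveI : IsLocallyNoetherian U.left := isLocallyNoetherian_chart hX a ha
  haveI : IsLocallyNoetherian V.left := isLocallyNoetherian_chart hY b hb
  haveI : Flat h.left := hf a b h ha hb hc
  haveI : LocallyOfFiniteType h.left := hf' a b h ha hb hc
  have hd' : ∀ z : ↥U.left, FlatMor.fibreDimAt h.left z = (d : WithBot ℕ∞) := fun z =>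
    (hasAtMor_fibreDimAt_ofPt_iff (fun e => e = (d : WithBot ℕ∞)) X.property Y.property f.hom a b h ha hb hc z).1
      (hd _)
  have key := Groth.Agent.Lib.Helper3.RelDimFlat.localDim_eq_add h.left d
    ((Groth.Agent.Lib.Helper3.RelDim.hasRelDim_iff_forall_fibreDimAt_eq h.left d).2 hd') u
  subst hu
  have hx' := (hasAt_localDim_iff X.property a ha u dX).1 hx
  rw [← ofPt_diagram f.hom a b h hc u] at hy
  have hy' := (hasAt_localDim_iff Y.property b hb (h.left u) dY).1 hy
  rw [← hx', ← hy', key]

end Groth.Agent.S10314
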