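import Groth.Statements.S10315
import Groth.Agent.Lib.Seat45Noeth
import Groth.Agent.Lib.Seat45FibDimSp
import Groth.Agent.Lib.Seat45SmDim

set_option autoImplicit false
universe u
open CategoryTheory CategoryTheory.Limits AlgebraicGeometry
open AlgSp

namespace Groth.Agent.S10315

/-- For a smooth morphism of locally Noetherian algebraic spaces, the dimension of X at x is the
dimension of Y at the image of x plus the relative dimension of f at x. -/
theorem result {S : Scheme.{u}} {X Y : AlgSp.Space S} (f : X ⟶ Y)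
    (hX : AlgSp.IsLocNoethSp X.obj) (hY : AlgSp.IsLocNoethSp Y.obj) (hf : AlgSp.LocP @Smooth f.hom)
    (x : AlgSp.Points X.obj) (d dX dY : WithBot ℕ∞)
    (hd : AlgSp.HasAtMor (fun _ _ h u => FlatMor.fibreDimAt h u = d) f.hom x)
    (hx : AlgSp.HasAt (fun U u => FlatMor.localDim ↥U u = dX) X.obj x)
    (hy : AlgSp.HasAt (fun U u => FlatMor.localDim ↥U u = dY) Y.obj (AlgSp.Points.map f.hom x)) :
    dX = dY + d := by
  open Groth.Agent.Lib.Seat45.Charts Groth.Agent.Lib.Seat45.ChartsMor Groth.Agent.Lib.Seat45.FibDimSp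
    Groth.Agent.Lib.Seat45.Noeth in
  obtain ⟨U, V, a, b, h, u, ha, hb, hc, hu⟩ := exists_diagram X.property Y.property f.hom x
  haveI : IsLocallyNoetherian U.left := isLocallyNoetherian_chart hX a ha
  haveI : IsLocallyNoetherian V.left := isLocallyNoetherian_chart hY b hb
  haveI : Smooth h.left := hf a b h ha hb hc
  subst hu
  have hd' : FlatMor.fibreDimAt h.left u = d :=
    (hasAtMor_fibreDimAt_ofPt_iff (fun e => e = d) X.property Y.property f.hom a b h ha hb hc u).1 hd
  have key := Groth.Agent.Lib.Seat45.SmDim.localDim_eq_add_of_smooth h.left u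
  have hx' := (hasAt_localDim_iff X.property a ha u dX).1 hx
  rw [← ofPt_diagram f.hom a b h hc u] at hy
  have hy' := (hasAt_localDim_iff Y.property b hb (h.left u) dY).1 hy
  rw [← hx', ← hy', ← hd', key]

end Groth.Agent.S10315
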