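import Groth.Statements.S10316
import Groth.Agent.Lib.Seat45Trdeg
import Groth.Agent.Lib.Seat45Noeth
import Groth.Agent.S9985

set_option autoImplicit false
universe u
open CategoryTheory CategoryTheory.Limits AlgebraicGeometry
open AlgSp

namespace Groth.Agent.S10316

/-- For X -> Y locally quasi-finite and Y -> Z locally of finite type, the transcendence degree of x
over Z equals that of its image y over Z. -/
theorem result {S : Scheme.{u}} {X Y Z : AlgSp.Space S} (f : X ⟶ Y) (g : Y ⟶ Z)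
    (hf : AlgSp.LocP (@LocallyQuasiFinite ⊓ @LocallyOfFiniteType) f.hom) (hg : AlgSp.LocP @LocallyOfFiniteType g.hom)
    (x : AlgSp.Points X.obj) (r : Cardinal.{u}) :
    AlgSp.HasAtMor (fun _ _ h u => Dual3.resTrdeg h u = r) (f ≫ g).hom x ↔
      AlgSp.HasAtMor (fun _ _ h u => Dual3.resTrdeg h u = r) g.hom (AlgSp.Points.map f.hom x) := by
  open Groth.Agent.Lib.Seat45.Charts Groth.Agent.Lib.Seat45.ChartsMor Groth.Agent.Lib.Seat45.FibDimSp
    Groth.Agent.Lib.Seat45.Trdeg Groth.Agent.Lib.Seat45.Noeth Groth.Agent.Lib.Helper4.DimFormula in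
  have hf' : AlgSp.LocP @LocallyOfFiniteType f.hom := fun U V a b h ha hb hc => (hf a b h ha hb hc).2
  have hfg : AlgSp.LocP @LocallyOfFiniteType (f ≫ g).hom :=
    Groth.Agent.S9985.result @LocallyOfFiniteType (Or.inl rfl) f g hf' hg
  obtain ⟨U, V, W, a, b, c, h, k, u, ha, hb, hc, hac, hbc, hcomp, hu⟩ :=
    exists_diagram_comp X.property Y.property Z.property f.hom g.hom x
  haveI : LocallyOfFiniteType h.left := hf' a b h ha hb hac
  haveI : LocallyQuasiFinite h.left := (hf a b h ha hb hac).1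
  haveI : LocallyOfFiniteType k.left := hg b c k hb hc hbc
  subst hu
  have hcomp' : a ≫ (f ≫ g).hom = (AlgSp.yon S).map (h ≫ k) ≫ c := hcomp
  rw [hasAtMor_resTrdeg_ofPt_iff (fun z => z = r) X.property Z.property (f ≫ g).hom hfg a c (h ≫ k) ha hc hcomp' u,
    ← ofPt_diagram f.hom a b h hac u,
    hasAtMor_resTrdeg_ofPt_iff (fun z => z = r) Y.property Z.property g.hom hg b c k hb hc hbc (h.left u)]
  have e1 : Dual3.resTrdeg (h ≫ k).left u = Dual3.resTrdeg k.left (h.left u) := by
    change Dual3.resTrdeg (h.left ≫ k.left) u = _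
    rw [resTrdeg_eq_ptTrdeg, resTrdeg_eq_ptTrdeg, ptTrdeg_comp, ptTrdeg_eq_zero_of_lqf h.left, add_zero]
  rw [e1]

end Groth.Agent.S10316
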