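import Groth.Statements.S10318
import Groth.Agent.Lib.Seat45Trdeg

set_option autoImplicit false
universe u
open CategoryTheory CategoryTheory.Limits AlgebraicGeometry
open AlgSp

namespace Groth.Agent.S10318

/-- Over a Jacobson algebraic space, a finite type point of a space locally of finite type over it has
transcendence degree 0 over its image. -/
theorem result {S : Scheme.{u}} {X Y : AlgSp.Space S} (f : X ⟶ Y)
    (hf : AlgSp.LocP @LocallyOfFiniteType f.hom) (hY : AlgSp.EtaleLocally (fun U => JacobsonSpace ↥U) Y.obj)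
    (x : AlgSp.Points X.obj) (hx : AlgSp.HasAt (fun U u => IsClosed ({u} : Set ↥U)) X.obj x) :
    AlgSp.HasAtMor (fun _ _ h u => Dual3.resTrdeg h u = 0) f.hom x := by
  open Groth.Agent.Lib.Seat45.Charts Groth.Agent.Lib.Seat45.ChartsMor
    Groth.Agent.Lib.Seat45.Trdeg Groth.Agent.Lib.Helper4.DimFormula in
  obtain ⟨U, a, u, ha, hu, hcl⟩ := hx
  obtain ⟨V, b, v, hb, hv⟩ := exists_chart Y.property (AlgSp.Points.map f.hom x)
  obtain ⟨W, p, q, w, hp, hpw, hqw, hae, hc⟩ :=
    exists_chart_square f.hom a ha b hb u v (by rw [hu, hv])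
  haveI : Etale p.left := hp
  haveI : LocallyOfFiniteType q.left := hf _ b q hae hb hc
  have hw : IsClosed ({w} : Set ↥W.left) := isClosed_singleton_of_etale p.left w (by rw [hpw]; exact hcl)
  refine ⟨W, V, _, b, q, w, hae, hb, hc, ?_, ?_⟩
  · rw [Groth.Agent.S10176.ofPt_map_comp, hpw, hu]
  · show Dual3.resTrdeg q.left w = 0
    rw [resTrdeg_eq_ptTrdeg, ptTrdeg_eq_zero_of_isClosed q.left w hw]
    simp

end Groth.Agent.S10318
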