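import Groth.Statements.S10319
import Groth.Agent.Lib.Seat45Trdeg
import Groth.Agent.Lib.Seat45Noeth
import Groth.Agent.S9985

set_option autoImplicit false
universe u
open CategoryTheory CategoryTheory.Limits AlgebraicGeometry
open AlgSp

namespace Groth.Agent.S10319

/-- Transcendence degrees at a point add up along a composition of morphisms locally of finite type. -/
theorem result {S : Scheme.{u}} {X Y Z : AlgSp.Space S} (f : X ⟶ Y) (g : Y ⟶ Z)
    (hf : AlgSp.LocP @LocallyOfFiniteType f.hom) (hg : AlgSp.LocP @LocallyOfFiniteType g.hom)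
    (x : AlgSp.Points X.obj) (r₁ r₂ : Cardinal.{u})
    (h1 : AlgSp.HasAtMor (fun _ _ h u => Dual3.resTrdeg h u = r₁) f.hom x)
    (h2 : AlgSp.HasAtMor (fun _ _ h u => Dual3.resTrdeg h u = r₂) g.hom (AlgSp.Points.map f.hom x)) :
    AlgSp.HasAtMor (fun _ _ h u => Dual3.resTrdeg h u = r₁ + r₂) (f ≫ g).hom x := by
  open Groth.Agent.Lib.Seat45.Charts Groth.Agent.Lib.Seat45.ChartsMor Groth.Agent.Lib.Seat45.FibDimSp
    Groth.Agent.Lib.Seat45.Trdeg Groth.Agent.Lib.Seat45.Noeth Groth.Agent.Lib.Helper4.DimFormula in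
  have hfg : AlgSp.LocP @LocallyOfFiniteType (f ≫ g).hom :=
    Groth.Agent.S9985.result @LocallyOfFiniteType (Or.inl rfl) f g hf hg
  obtain ⟨U, V, W, a, b, c, h, k, u, ha, hb, hc, hac, hbc, hcomp, hu⟩ :=
    exists_diagram_comp X.property Y.property Z.property f.hom g.hom x
  haveI : LocallyOfFiniteType h.left := hf a b h ha hb hac
  haveI : LocallyOfFiniteType k.left := hg b c k hb hc hbc
  subst hu
  have hcomp' : a ≫ (f ≫ g).hom = (AlgSp.yon S).map (h ≫ k) ≫ c := hcomp
  rw [hasAtMor_resTrdeg_ofPt_iff (fun z => z = r₁ + r₂) X.property Z.property (f ≫ g).hom hfg a c (h ≫ k) ha hc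
    hcomp' u]
  rw [hasAtMor_resTrdeg_ofPt_iff (fun z => z = r₁) X.property Y.property f.hom hf a b h ha hb hac u] at h1
  rw [← ofPt_diagram f.hom a b h hac u,
    hasAtMor_resTrdeg_ofPt_iff (fun z => z = r₂) Y.property Z.property g.hom hg b c k hb hc hbc (h.left u)] at h2
  change Dual3.resTrdeg (h.left ≫ k.left) u = _
  rw [← h1, ← h2, resTrdeg_eq_ptTrdeg, resTrdeg_eq_ptTrdeg, resTrdeg_eq_ptTrdeg, ptTrdeg_comp]
  push_cast
  rw [add_comm]

end Groth.Agent.S10319
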