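import Groth.Statements.S10321
import Groth.Agent.Lib.Seat46QfSchD
import Groth.Agent.S10555

set_option autoImplicit false
universe u
open CategoryTheory CategoryTheory.Limits AlgebraicGeometry
open AlgSp

namespace Groth.Agent.S10321

/-- Let X be separated and locally quasi-finite over an affine scheme T, let T' -> T be etale with T'
affine, and let V' be an open subspace of T' ×_T X that is quasi-affine over T'. Then V' maps onto a
quasi-compact open subspace of X that is itself a scheme. -/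
theorem result {S : Scheme.{u}} {T T' : Over S} [IsAffine T.left]
    [IsAffine T'.left] (e : T' ⟶ T) [Etale e.left] {X P V' : AlgSp.Space S} (f : X ⟶ (AlgSp.ofScheme S).obj T)
    (hsep : AlgSp.IsSeparatedMor f.hom) (hqf : AlgSp.LocP (@LocallyQuasiFinite ⊓ @LocallyOfFiniteType) f.hom)
    (p1 : P ⟶ (AlgSp.ofScheme S).obj T') (p2 : P ⟶ X)
    (sq : IsPullback p2.hom p1.hom f.hom ((AlgSp.yon S).map e)) (j : V' ⟶ P)
    (hj : AlgSp.RepWith @IsOpenImmersion j.hom) (hqa : AlgSp.IsQuasiAffineMor (j ≫ p1).hom) :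
    ∃ (W : Over S) (i : (AlgSp.yon S).obj W ⟶ X.obj), AlgSp.RepWith @IsOpenImmersion i ∧ CompactSpace ↥W.left ∧
      Set.range (AlgSp.Points.map i) = Set.range (AlgSp.Points.map (j ≫ p2).hom) := by
  obtain ⟨W₀, i₀, fst, sqW, hW₀⟩ := hqa (Z := T') inferInstance (𝟙 _)
  haveI : IsIso fst := sqW.isIso_fst_of_isIso (IsIso.id _)
  haveI : LocallyQuasiFinite e.left := Groth.Agent.S10555.lqf_of_etale e.left
  obtain ⟨n, hn⟩ := Groth.Agent.Lib.Seat46.BddLifts.exists_bl_of_lqf_compact e.left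
  have hj' : AlgSp.RepWith @IsOpenImmersion (fst ≫ j.hom) :=
    (MorphismProperty.cancel_left_of_respectsIso (AlgSp.RepWith @IsOpenImmersion) fst j.hom).2 hj
  obtain ⟨W, i, hi, hWc, hri⟩ := Groth.Agent.Lib.Seat46.QfSchD.main n inferInstance inferInstance e
    inferInstance hn X.property f.hom hsep hqf p1.hom p2.hom sq W₀ hW₀ (fst ≫ j.hom) hj'
  refine ⟨W, i, hi, hWc, hri.trans ?_⟩
  have hcomp : (fst ≫ j.hom) ≫ p2.hom = fst ≫ (j ≫ p2).hom := Category.assoc _ _ _
  rw [hcomp]
  ext x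
  constructor
  · rintro ⟨y, rfl⟩
    exact ⟨AlgSp.Points.map fst y, (AlgSp.Points.map_comp _ _ _).symm⟩
  · rintro ⟨y, rfl⟩
    refine ⟨AlgSp.Points.map (inv fst) y, ?_⟩
    rw [← AlgSp.Points.map_comp, IsIso.inv_hom_id_assoc]

end Groth.Agent.S10321
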