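import Groth.Statements.S10323
import Groth.Agent.Lib.Seat45Trdeg
import Groth.Agent.Lib.Seat45Noeth
import Groth.Agent.Lib.Seat45DimIneq

set_option autoImplicit false
universe u
open CategoryTheory CategoryTheory.Limits AlgebraicGeometry
open AlgSp

namespace Groth.Agent.S10323

/-- For Y locally Noetherian and f locally of finite type, the dimension of the local ring of X at x is
at most the dimension of the local ring of Y at the image point plus E minus the transcendence
degree of x over its image, where E bounds the transcendence degrees of the codimension-0 points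
specializing to x. -/
theorem result {S : Scheme.{u}} {X Y : AlgSp.Space S} (f : X ⟶ Y)
    (hY : AlgSp.IsLocNoethSp Y.obj) (hf : AlgSp.LocP @LocallyOfFiniteType f.hom) (x : AlgSp.Points X.obj)
    (E : Cardinal.{u})
    (hE : ∀ ξ : AlgSp.Points X.obj, ξ ⤳ x → AlgSp.HasAt (fun U u => ringKrullDim ↥(U.presheaf.stalk u) = 0) X.obj ξ →
      ∀ s : Cardinal.{u}, AlgSp.HasAtMor (fun _ _ h u => Dual3.resTrdeg h u = s) f.hom ξ → s ≤ E)
    (a b : WithBot ℕ∞) (r : Cardinal.{u})
    (ha : AlgSp.HasAt (fun U u => ringKrullDim ↥(U.presheaf.stalk u) = a) X.obj x)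
    (hb : AlgSp.HasAt (fun U u => ringKrullDim ↥(U.presheaf.stalk u) = b) Y.obj (AlgSp.Points.map f.hom x))
    (hr : AlgSp.HasAtMor (fun _ _ h u => Dual3.resTrdeg h u = r) f.hom x) :
    a + ((Cardinal.toENat r : ℕ∞) : WithBot ℕ∞) ≤ b + ((Cardinal.toENat E : ℕ∞) : WithBot ℕ∞) := by
  open Groth.Agent.Lib.Seat45.Charts Groth.Agent.Lib.Seat45.ChartsMor
    Groth.Agent.Lib.Seat45.Trdeg Groth.Agent.Lib.Seat45.Noeth Groth.Agent.Lib.Helper4.DimFormula in
  obtain ⟨U, V, p, q, h, u, hp, hq, hc, hu⟩ := exists_diagram X.property Y.property f.hom x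
  haveI : IsLocallyNoetherian V.left := isLocallyNoetherian_chart hY q hq
  haveI : LocallyOfFiniteType h.left := hf p q h hp hq hc
  subst hu
  have ha' := (hasAt_stalkDim_iff X.property p hp u a).1 ha
  rw [← ofPt_diagram f.hom p q h hc u] at hb
  have hb' := (hasAt_stalkDim_iff Y.property q hq (h.left u) b).1 hb
  have hr' : Dual3.resTrdeg h.left u = r :=
    (hasAtMor_resTrdeg_ofPt_iff (fun z => z = r) X.property Y.property f.hom hf p q h hp hq hc u).1 hr
  have key := Groth.Agent.Lib.Seat45.DimIneq.stalk_add_ptTrdeg_le h.left u (Cardinal.toENat E) ?_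
  · rw [← ha', ← hb', ← hr', toENat_resTrdeg]; exact key
  · intro ξ hξ h0
    have h1 := hE (AlgSp.Points.ofPt p ξ) (hξ.map (AlgSp.Points.continuous_ofPt p)) ⟨U, p, ξ, hp, rfl, h0⟩
      (Dual3.resTrdeg h.left ξ) ⟨U, V, p, q, h, ξ, hp, hq, hc, rfl, rfl⟩
    have h2 : Cardinal.toENat (Dual3.resTrdeg h.left ξ) ≤ Cardinal.toENat E := OrderHomClass.mono _ h1
    rw [toENat_resTrdeg] at h2
    exact h2

end Groth.Agent.S10323
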