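import Groth.Statements.S10324
import Groth.Agent.Lib.Seat45Trdeg
import Groth.Agent.Lib.Seat45Noeth
import Groth.Agent.Lib.Seat45DimIneq

set_option autoImplicit false
universe u
open CategoryTheory CategoryTheory.Limits AlgebraicGeometry
open AlgSp

namespace Groth.Agent.S10324

/-- For Y locally Noetherian and f : X -> Y locally of finite type, dim X ≤ dim Y + E where E bounds the
transcendence degrees over Y of the codimension-0 points of X. -/
theorem result {S : Scheme.{u}} {X Y : AlgSp.Space S} (f : X ⟶ Y)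
    (hY : AlgSp.IsLocNoethSp Y.obj) (hf : AlgSp.LocP @LocallyOfFiniteType f.hom) (E : Cardinal.{u})
    (hE : ∀ ξ : AlgSp.Points X.obj, AlgSp.HasAt (fun U u => ringKrullDim ↥(U.presheaf.stalk u) = 0) X.obj ξ → ∀ s : Cardinal.{u}, AlgSp.HasAtMor (fun _ _ h u => Dual3.resTrdeg h u = s) f.hom ξ → s ≤ E) :
    AlgSp.dim X.obj ≤ AlgSp.dim Y.obj + ((Cardinal.toENat E : ℕ∞) : WithBot ℕ∞) := by
  open Groth.Agent.Lib.Seat45.Charts Groth.Agent.Lib.Seat45.ChartsMor Groth.Agent.Lib.Seat45.EtDim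
    Groth.Agent.Lib.Seat45.Trdeg Groth.Agent.Lib.Seat45.Noeth Groth.Agent.Lib.Helper4.DimFormula in
  apply dim_le
  intro U p hp
  rw [topologicalKrullDim_eq_iSup_ringKrullDim_stalk]
  refine iSup_le fun u => ?_
  obtain ⟨V, q, v, hq, hv⟩ := exists_chart Y.property (AlgSp.Points.map f.hom (AlgSp.Points.ofPt p u))
  obtain ⟨W, π, h, w, hπ, hπw, hhw, hpe, hc⟩ := exists_chart_square f.hom p hp q hq u v (by rw [hv])
  haveI : Etale π.left := hπ
  haveI : IsLocallyNoetherian V.left := isLocallyNoetherian_chart hY q hq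
  haveI : LocallyOfFiniteType h.left := hf _ q h hpe hq hc
  have key := Groth.Agent.Lib.Seat45.DimIneq.stalk_add_ptTrdeg_le h.left w (Cardinal.toENat E) ?_
  · have e1 : ringKrullDim (U.left.presheaf.stalk u) = ringKrullDim (W.left.presheaf.stalk w) := by
      rw [← hπw, ← ringKrullDim_stalk_eq_of_etale π.left w]
    rw [e1]
    have e2 : ringKrullDim (W.left.presheaf.stalk w) ≤
        ringKrullDim (W.left.presheaf.stalk w) + (ptTrdeg h.left w : WithBot ℕ∞) :=
      le_add_of_nonneg_right (Nat.cast_nonneg _)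
    refine e2.trans (key.trans (add_le_add ?_ le_rfl))
    refine le_trans ?_ (le_dim q hq)
    rw [topologicalKrullDim_eq_iSup_ringKrullDim_stalk]
    exact le_iSup (fun z : ↥V.left => ringKrullDim (V.left.presheaf.stalk z)) (h.left w)
  · intro ξ _ h0
    have h1 := hE (AlgSp.Points.ofPt ((AlgSp.yon S).map π ≫ p) ξ) ⟨W, _, ξ, hpe, rfl, h0⟩
      (Dual3.resTrdeg h.left ξ) ⟨W, V, _, q, h, ξ, hpe, hq, hc, rfl, rfl⟩
    have h2 : Cardinal.toENat (Dual3.resTrdeg h.left ξ) ≤ Cardinal.toENat E := OrderHomClass.mono _ h1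
    rw [toENat_resTrdeg] at h2
    exact h2

end Groth.Agent.S10324
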