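import Groth.Statements.S10325
import Mathlib
import Groth.Agent.Lib.Seat46CoprodSp
import Groth.Agent.Lib.Seat62GraphCover

set_option autoImplicit false
universe u
open CategoryTheory CategoryTheory.Limits AlgebraicGeometry
open AlgSp

namespace Groth.Agent.S10325

/-- A finite disjoint union of algebraic spaces finite over Y is finite over Y. -/
theorem result {S : Scheme.{u}} {n : ℕ} (X : Fin n → AlgSp.Space S) (Y : AlgSp.Space S)
    (g : ∀ i, X i ⟶ Y) (hg : ∀ i, AlgSp.IsFiniteMor (g i).hom) (c : Cofan fun i => (X i).obj) (hc : IsColimit c)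
    (d : c.pt ⟶ Y.obj) (hd : ∀ i, c.inj i ≫ d = (g i).hom) : AlgSp.IsFiniteMor d := by
  intro Z hZ y
  let ε : ULift.{u} (Fin n) ≃ Fin n := Equiv.ulift
  have hc' : IsColimit (Cofan.mk c.pt fun j : ULift.{u} (Fin n) => c.inj (ε j)) :=
    (Cofan.isColimitEquivOfEquiv ε c) hc
  choose W i fst sq hW hfin using fun j : ULift.{u} (Fin n) => hg (ε j) hZ y
  obtain ⟨hV⟩ := Groth.Agent.Lib.Seat46.CoprodSp.isColimit_yon_sigmaOver W
  have hau := Groth.Agent.Lib.Seat46.UnivCoprod.isUniversalColimit_cofan_sp hc'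
  have key := hau.isPullback_of_isColimit_right (fun j => (g (ε j)).hom) d y fst
    (fun j => (AlgSp.yon S).map (i j)) sq hV (fun j => hd (ε j))
  have h1 : Cofan.IsColimit.desc hV (fun j => (AlgSp.yon S).map (i j)) =
      (AlgSp.yon S).map (Groth.Agent.Lib.Seat46.CoprodSp.sigmaOverDesc W i) := by
    refine Cofan.IsColimit.hom_ext hV _ _ (fun j => ?_)
    rw [Cofan.IsColimit.fac]
    show _ = (AlgSp.yon S).map (Groth.Agent.Lib.Seat46.CoprodSp.sigmaOverι W j) ≫ _
    rw [← Functor.map_comp, Groth.Agent.Lib.Seat46.CoprodSp.sigmaOverι_desc]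
  rw [h1] at key
  refine ⟨_, _, _, key, ?_, ?_⟩
  · show IsAffine (∐ fun j => (W j).left)
    haveI := hW
    infer_instance
  · show IsFinite (Sigma.desc fun j => (i j).left)
    exact Groth.Agent.Lib.Seat62.GraphCover.isFinite_sigmaDesc _ _ _ _ hfin

end Groth.Agent.S10325
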