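import Groth.Statements.S10328
import Groth.Agent.Lib.Seat45FibDimSp
import Groth.Agent.S9354

set_option autoImplicit false
universe u
open CategoryTheory CategoryTheory.Limits AlgebraicGeometry
open AlgSp

namespace Groth.Agent.S10328

/-- The relative dimension of a composite at a point is at most the sum of the relative dimensions, with
equality when the first morphism is flat at the point. (The published part (2) allows more generally
flatness of a fibre of X -> Y over a field point of Z; only the case f flat at x is stated.) -/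
theorem result {S : Scheme.{u}} {X Y Z : AlgSp.Space S} (f : X ⟶ Y) (g : Y ⟶ Z)
    (hf : AlgSp.LocP @LocallyOfFiniteType f.hom) (hg : AlgSp.LocP @LocallyOfFiniteType g.hom)
    (x : AlgSp.Points X.obj) (a b : WithBot ℕ∞)
    (ha : AlgSp.HasAtMor (fun _ _ h u => FlatMor.fibreDimAt h u = a) f.hom x)
    (hb : AlgSp.HasAtMor (fun _ _ h u => FlatMor.fibreDimAt h u = b) g.hom (AlgSp.Points.map f.hom x)) :
    AlgSp.HasAtMor (fun _ _ h u => FlatMor.fibreDimAt h u ≤ a + b) (f ≫ g).hom x ∧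
    (AlgSp.IsFlatAtMor f.hom x → AlgSp.HasAtMor (fun _ _ h u => FlatMor.fibreDimAt h u = a + b) (f ≫ g).hom x) := by
  open Groth.Agent.Lib.Seat45.Charts Groth.Agent.Lib.Seat45.ChartsMor Groth.Agent.Lib.Seat45.FibDimSp in
  obtain ⟨W, c, w, hc, hw⟩ := exists_chart Z.property (AlgSp.Points.map g.hom (AlgSp.Points.map f.hom x))
  obtain ⟨V₀, b₀, v₀, hb₀, hv₀⟩ := exists_chart Y.property (AlgSp.Points.map f.hom x)
  obtain ⟨V, p, k, v, hp, hpv, hkv, hbe, hbc⟩ :=
    exists_chart_square g.hom b₀ hb₀ c hc v₀ w (by rw [hv₀, hw])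
  have hv : AlgSp.Points.ofPt ((AlgSp.yon S).map p ≫ b₀) v = AlgSp.Points.map f.hom x := by
    rw [Groth.Agent.S10176.ofPt_map_comp, hpv, hv₀]
  obtain ⟨U₀, a₀, u₀, ha₀, hu₀⟩ := exists_chart X.property x
  obtain ⟨U, p', h, u, hp', hpu, hhu, hae, hac⟩ :=
    exists_chart_square f.hom a₀ ha₀ _ hbe u₀ v (by rw [hu₀, hv])
  have hu : AlgSp.Points.ofPt ((AlgSp.yon S).map p' ≫ a₀) u = x := by
    rw [Groth.Agent.S10176.ofPt_map_comp, hpu, hu₀]
  haveI : LocallyOfFiniteType h.left := hf _ _ h hae hbe hac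
  haveI : LocallyOfFiniteType k.left := hg _ _ k hbe hc hbc
  have h1 : FlatMor.fibreDimAt h.left u = a := by
    rw [← hu] at ha
    exact (hasAtMor_fibreDimAt_ofPt_iff (fun e => e = a) X.property Y.property f.hom _ _ h hae hbe hac u).1 ha
  have h2 : FlatMor.fibreDimAt k.left (h.left u) = b := by
    rw [← hv, ← hhu] at hb
    exact (hasAtMor_fibreDimAt_ofPt_iff (fun e => e = b) Y.property Z.property g.hom _ _ k hbe hc hbc _).1 hb
  have hcomp : ((AlgSp.yon S).map p' ≫ a₀) ≫ (f ≫ g).hom = (AlgSp.yon S).map (h ≫ k) ≫ c := by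
    change ((AlgSp.yon S).map p' ≫ a₀) ≫ f.hom ≫ g.hom = _
    rw [← Category.assoc, hac, Category.assoc, hbc, Functor.map_comp, Category.assoc]
  have h3 := Groth.Agent.S9354.result h.left k.left u
  rw [h1, h2] at h3
  refine ⟨⟨U, W, _, c, h ≫ k, u, hae, hc, hcomp, hu, h3.1⟩, fun hfl => ?_⟩
  exact ⟨U, W, _, c, h ≫ k, u, hae, hc, hcomp, hu, h3.2 (hfl _ _ h u hae hbe hac hu)⟩

end Groth.Agent.S10328
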