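import Groth.Statements.S10329
import Groth.Agent.S10313
import Groth.Agent.Lib.Seat45FibDimSp
import Groth.Agent.Lib.Seat45EtDim
import Groth.Agent.Lib.Helper4FibDimE
import Groth.Agent.Lib.Helper6EquiSubE

set_option autoImplicit false
universe u
open CategoryTheory CategoryTheory.Limits AlgebraicGeometry
open AlgSp

namespace Groth.Agent.S10329


theorem fibreDimAt_le_localDim {U V : Scheme.{u}} (h : U ⟶ V) (u : ↥U) :
    FlatMor.fibreDimAt h u ≤ FlatMor.localDim ↥U u := by
  rw [Groth.Agent.Lib.Helper4.FibDim.fibreDimAt_eq_fibLD]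
  unfold Groth.Agent.Lib.Helper4.FibDim.fibLD
  refine (Groth.Agent.Lib.Helper6.EquiSub.localDim_mono_subset (S := h ⁻¹' {h u}) (Set.subset_univ _) u rfl).trans ?_
  rw [Groth.Agent.Lib.Helper4.FibDim.localDim_eq_of_homeomorph (Homeomorph.Set.univ ↥U) ⟨u, Set.mem_univ u⟩]
  rfl

/-- If the fibre of a morphism locally of finite type has dimension 0 at a point, then the morphism is
locally quasi-finite on some open subspace containing the image of that point. -/
theorem result {S : Scheme.{u}} {X Y F : AlgSp.Space S} (f : X ⟶ Y)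
    (hf : AlgSp.LocP @LocallyOfFiniteType f.hom) (k : Type u) [Field k] (str : Spec (.of k) ⟶ S)
    (y : (AlgSp.yon S).obj (Over.mk str) ⟶ Y.obj) (p : F ⟶ X) (q : F.obj ⟶ (AlgSp.yon S).obj (Over.mk str))
    (sq : IsPullback p.hom q f.hom y) (z : AlgSp.Points F.obj)
    (hz : AlgSp.HasAt (fun U u => FlatMor.localDim ↥U u = 0) F.obj z) :
    ∃ (X' : AlgSp.Space S) (j : X' ⟶ X), AlgSp.RepWith @IsOpenImmersion j.hom ∧
      AlgSp.Points.map p.hom z ∈ Set.range (AlgSp.Points.map j.hom) ∧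
      AlgSp.LocP (@LocallyQuasiFinite ⊓ @LocallyOfFiniteType) (j ≫ f).hom := by
  open Groth.Agent.Lib.Seat45.Charts Groth.Agent.Lib.Seat45.ChartsMor Groth.Agent.Lib.Seat45.FibDimSp in
  obtain ⟨X', j, hj, hlqf, hout, -⟩ := Groth.Agent.S10313.result f hf
  refine ⟨X', j, hj, ?_, hlqf⟩
  by_contra hnot
  have h1 := hout _ hnot
  have hk : AlgSp.IsAlgSpace ((AlgSp.yon S).obj (Over.mk str)) := AlgSp.IsAlgSpace.yon_obj _
  have h2 := (hasAtMor_fibreDimAt_baseChange_iff (fun e => 1 ≤ e) X.property Y.property hk F.property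
    sq hf z).1 h1
  obtain ⟨U, V, a, b, h, u, ha, hb, hc, hu, hle⟩ := h2
  have h3 : FlatMor.localDim ↥U.left u = 0 :=
    (hasAt_iff_forall (fun U u => FlatMor.localDim ↥U u = 0)
      (fun g _ w => by rw [Groth.Agent.Lib.Seat45.EtDim.localDim_eq_of_etale g w]) F.property z).1 hz U a u ha hu
  have h4 := fibreDimAt_le_localDim h.left u
  rw [h3] at h4
  have h5 : (1 : WithBot ℕ∞) ≤ 0 := le_trans hle h4
  exact absurd h5 (by decide)

end Groth.Agent.S10329
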