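import Groth.Statements.S10335
import Groth.Agent.Lib.Seat45Trdeg
import Groth.Agent.Lib.Seat45Noeth
import Groth.Agent.Lib.Seat45FibStalkBC
import Groth.Agent.Lib.Seat45BaseChange2
import Groth.Agent.Lib.Helper3LocDimBC
import Groth.Agent.S9984

set_option autoImplicit false
universe u
open CategoryTheory CategoryTheory.Limits AlgebraicGeometry
open AlgSp

namespace Groth.Agent.S10335

/-- In a base change square of algebraic spaces with f : X -> Y locally of finite type and f' : X' -> Y'
its base change along g : Y' -> Y, take a point x' of X' over x. The fibre of f' has a local ring at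
x' whose dimension exceeds the corresponding dimension for the fibre of f at x by exactly the
transcendence degree of x over f(x) minus that of x' over f'(x'), and this excess is never negative;
and for x in X and y' in Y' over the same point of Y some x' over both has excess zero. All four
quantities are read on some chart diagram through the point. -/
theorem result {S : Scheme.{u}} {X Y Y' X' : AlgSp.Space S} (f : X ⟶ Y) (g : Y' ⟶ Y)
    (g' : X' ⟶ X) (f' : X' ⟶ Y') (sq : IsPullback g'.hom f'.hom f.hom g.hom)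
    (hf : AlgSp.LocP @LocallyOfFiniteType f.hom) :
    (∀ (x' : AlgSp.Points X'.obj) (e e' : WithBot ℕ∞) (r r' : Cardinal.{u}),
      AlgSp.HasAtMor (fun _ _ h u => ringKrullDim ↥((h.fiber (h u)).presheaf.stalk (h.asFiber u)) = e) f.hom
          (AlgSp.Points.map g'.hom x') →
      AlgSp.HasAtMor (fun _ _ h u => Dual3.resTrdeg h u = r) f.hom (AlgSp.Points.map g'.hom x') →
      AlgSp.HasAtMor (fun _ _ h u => ringKrullDim ↥((h.fiber (h u)).presheaf.stalk (h.asFiber u)) = e') f'.hom x' →
      AlgSp.HasAtMor (fun _ _ h u => Dual3.resTrdeg h u = r') f'.hom x' →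
        e' + ((Cardinal.toENat r' : ℕ∞) : WithBot ℕ∞) = e + ((Cardinal.toENat r : ℕ∞) : WithBot ℕ∞) ∧ e ≤ e') ∧
    (∀ (x : AlgSp.Points X.obj) (y' : AlgSp.Points Y'.obj) (e : WithBot ℕ∞),
      AlgSp.Points.map f.hom x = AlgSp.Points.map g.hom y' →
      AlgSp.HasAtMor (fun _ _ h u => ringKrullDim ↥((h.fiber (h u)).presheaf.stalk (h.asFiber u)) = e) f.hom x →
        ∃ x' : AlgSp.Points X'.obj, AlgSp.Points.map g'.hom x' = x ∧ AlgSp.Points.map f'.hom x' = y' ∧
          AlgSp.HasAtMor (fun _ _ h u => ringKrullDim ↥((h.fiber (h u)).presheaf.stalk (h.asFiber u)) = e)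
            f'.hom x') := by
  open Groth.Agent.Lib.Seat45.Charts Groth.Agent.Lib.Seat45.ChartsMor
    Groth.Agent.Lib.Seat45.Trdeg Groth.Agent.Lib.Seat45.Noeth Groth.Agent.Lib.Helper4.DimFormula
    Groth.Agent.Lib.Seat45.FibStalkBC in
  obtain ⟨U, V, U', V', a, b, h, a', b', h', α, β, hae, has, hbe, hbs, ha'e, ha's, hb'e, hb's, hc, hc',
    hα, hβ, sqU, hsurj⟩ :=
    Groth.Agent.Lib.Seat45.BaseChange.exists_baseChange_atlas_diagram' X.property Y.property Y'.property sq
  haveI : LocallyOfFiniteType h.left := hf a b h hae hbe hc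
  have hf' : AlgSp.LocP @LocallyOfFiniteType f'.hom :=
    Groth.Agent.S9984.result @LocallyOfFiniteType (Or.inl rfl) f g g' f' sq hf
  haveI : LocallyOfFiniteType h'.left := hf' a' b' h' ha'e hb'e hc'
  have sqS : IsPullback α.left h'.left h.left β.left := sqU.map (Over.forget S)
  constructor
  · intro x' e e' r r' he hr he' hr'
    obtain ⟨u', hu'⟩ := Groth.Agent.S10177.surjective_ofPt a' ha's x'
    have h1 : AlgSp.Points.map g'.hom x' = AlgSp.Points.ofPt a (α.left u') := by
      rw [← hu', AlgSp.Points.map_ofPt, hα, Groth.Agent.S10176.ofPt_map_comp]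
    rw [h1] at he hr
    rw [← hu'] at he' hr'
    have he1 := (hasAtMor_fibreStalkDim_ofPt_iff (fun z => z = e) X.property Y.property f.hom hf a b h hae hbe hc
      (α.left u')).1 he
    have hr1 : Dual3.resTrdeg h.left (α.left u') = r :=
      (hasAtMor_resTrdeg_ofPt_iff (fun z => z = r) X.property Y.property f.hom hf a b h hae hbe hc
      (α.left u')).1 hr
    have he2 := (hasAtMor_fibreStalkDim_ofPt_iff (fun z => z = e') X'.property Y'.property f'.hom hf' a' b' h'
      ha'e hb'e hc' u').1 he'
    have hr2 : Dual3.resTrdeg h'.left u' = r' :=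
      (hasAtMor_resTrdeg_ofPt_iff (fun z => z = r') X'.property Y'.property f'.hom hf' a' b' h'
      ha'e hb'e hc' u').1 hr'
    have k1 := Groth.Agent.Lib.Helper3.LocDimBC.fibreDimAt_eq_of_isPullback h.left β.left α.left h'.left sqS u'
    have k2 := fibreDimAt_eq_stalk_add_ptTrdeg h.left (α.left u')
    have k3 := fibreDimAt_eq_stalk_add_ptTrdeg h'.left u'
    have k4 := fibStalkDim_le_of_isPullback sqS u'
    rw [← ringKrullDim_stalk_asFiber, ← ringKrullDim_stalk_asFiber] at k4
    rw [← he1, ← hr1, ← he2, ← hr2, toENat_resTrdeg, toENat_resTrdeg]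
    refine ⟨?_, k4⟩
    rw [k1, k2] at k3
    exact k3.symm
  · intro x y' e hxy he
    obtain ⟨u, hu⟩ := Groth.Agent.S10177.surjective_ofPt a has x
    have hyv : AlgSp.Points.map g.hom y' = AlgSp.Points.ofPt b (h.left u) := by
      rw [← hxy, ← hu, ofPt_diagram f.hom a b h hc u]
    obtain ⟨v', hv'1, hv'2⟩ := hsurj y' (h.left u) hyv
    obtain ⟨u', hu'1, hu'2, hu'3⟩ := exists_fibStalkDim_eq_of_isPullback sqS u v' hv'2.symm
    refine ⟨AlgSp.Points.ofPt a' u', ?_, ?_, ?_⟩
    · rw [AlgSp.Points.map_ofPt, hα, Groth.Agent.S10176.ofPt_map_comp, hu'1, hu]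
    · rw [← ofPt_diagram f'.hom a' b' h' hc' u', hu'2, hv'1]
    · rw [hasAtMor_fibreStalkDim_ofPt_iff (fun z => z = e) X'.property Y'.property f'.hom hf' a' b' h'
        ha'e hb'e hc' u', ringKrullDim_stalk_asFiber, hu'3, ← ringKrullDim_stalk_asFiber]
      rw [← hu] at he
      exact (hasAtMor_fibreStalkDim_ofPt_iff (fun z => z = e) X.property Y.property f.hom hf a b h hae hbe hc
        u).1 he

end Groth.Agent.S10335
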