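import Groth.Statements.S10396
import Groth.Agent.S10338
import Groth.Agent.S10339
import Groth.Agent.S10340
import Groth.Agent.S10343

set_option autoImplicit false
set_option linter.style.haveILetI false
universe u
open CategoryTheory CategoryTheory.Limits AlgebraicGeometry Topology TopologicalSpace
open AlgSp

namespace Groth.Agent.S10396

/-- Let S be a scheme, X a decent algebraic space over S, and T ⊆ |X| an irreducible closed subset with
generic point ξ. Then codim(T, |X|) equals the dimension of the local ring at ξ of X, read on any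
etale chart (U, u) ⟶ (X, ξ) as the Krull dimension of O_{U,u}. -/
theorem result {S : Scheme.{u}} (X : AlgSp.Space S)
    (hX : AlgSp.IsDecent X.obj) (T : TopologicalSpace.IrreducibleCloseds (AlgSp.Points X.obj)) (ξ : AlgSp.Points X.obj)
    (hξ : IsGenericPoint ξ (T : Set (AlgSp.Points X.obj))) {U : Over S} (a : (AlgSp.yon S).obj U ⟶ X.obj)
    (ha : AlgSp.RepWith @Etale a) (u : ↥U.left) (hu : AlgSp.Points.ofPt a u = ξ) :
    (Order.coheight T : WithBot ℕ∞) = ringKrullDim ↥(U.left.presheaf.stalk u) := by
  haveI : T0Space (AlgSp.Points X.obj) := Groth.Agent.S10338.result X hX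
  haveI : QuasiSober (AlgSp.Points X.obj) := Groth.Agent.S10339.result X hX
  letI : PartialOrder (AlgSp.Points X.obj) := specializationOrder (AlgSp.Points X.obj)
  rw [ringKrullDim_stalk_eq_coheight]
  have hle : ∀ {y y' : AlgSp.Points X.obj}, y ≤ y' ↔ y' ⤳ y := Iff.rfl
  have hleU : ∀ {v v' : ↥U.left}, v ≤ v' ↔ v' ⤳ v := Iff.rfl
  have h1 : Order.coheight T = Order.coheight ξ := by
    rw [← Order.coheight_orderIso (irreducibleSetEquivPoints (α := AlgSp.Points X.obj)) T]
    congr 1
    have h2 : IsGenericPoint (irreducibleSetEquivPoints (α := AlgSp.Points X.obj) T)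
        (T : Set (AlgSp.Points X.obj)) := by
      have := T.2.isGenericPoint_genericPoint_closure
      rwa [T.3.closure_eq] at this
    exact h2.eq hξ
  have hmono : StrictMono (AlgSp.Points.ofPt a) := by
    intro v v' hvv'
    have hs : v' ⤳ v := hleU.1 hvv'.le
    refine lt_of_le_of_ne (hle.2 (hs.map (AlgSp.Points.continuous_ofPt a))) (fun he => ?_)
    have := Groth.Agent.S10340.result X hX a ha v v' he hs
    exact hvv'.ne this
  have hlift : ∀ (v : ↥U.left) (y : AlgSp.Points X.obj), AlgSp.Points.ofPt a v < y →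
      ∃ v' : ↥U.left, v < v' ∧ AlgSp.Points.ofPt a v' = y := by
    intro v y hvy
    obtain ⟨v', hv', rfl⟩ := Groth.Agent.S10343.result X _ y (hle.1 hvy.le) (hX y) a ha v rfl
    refine ⟨v', lt_of_le_not_ge (hleU.2 hv') (fun hge => ?_), rfl⟩
    exact hvy.not_ge (hle.2 ((hleU.1 hge).map (AlgSp.Points.continuous_ofPt a)))
  rw [h1, ← hu, Order.coheight_eq_of_strictMono (AlgSp.Points.ofPt a) hmono hlift u]

end Groth.Agent.S10396
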