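import Groth.Statements.S10345
import Groth.Agent.S10396
import Groth.Agent.Lib.Seat45Charts
import Groth.Agent.Lib.Seat45EtDim

set_option autoImplicit false
set_option linter.style.haveILetI false
universe u
open CategoryTheory CategoryTheory.Limits AlgebraicGeometry Topology TopologicalSpace
open AlgSp

namespace Groth.Agent.S10345

/-- For a decent algebraic space X over a scheme S the Krull dimension of the topological space |X|
equals the dimension of X (the supremum of the Krull dimensions of the schemes etale over X). -/
theorem result {S : Scheme.{u}} (X : AlgSp.Space S)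
    (hX : AlgSp.IsDecent X.obj) :
    topologicalKrullDim (AlgSp.Points X.obj) = AlgSp.dim X.obj := by
  open Groth.Agent.Lib.Seat45.Charts Groth.Agent.Lib.Seat45.EtDim in
  haveI : T0Space (AlgSp.Points X.obj) := Groth.Agent.S10338.result X hX
  haveI : QuasiSober (AlgSp.Points X.obj) := Groth.Agent.S10339.result X hX
  unfold topologicalKrullDim
  rw [Order.krullDim_eq_iSup_coheight]
  apply le_antisymm
  · refine iSup_le fun T => ?_
    obtain ⟨ξ, hξ⟩ := QuasiSober.sober T.2 T.3
    obtain ⟨U, a, u, ha, hu⟩ := exists_chart X.property ξ
    rw [Groth.Agent.S10396.result X hX T ξ hξ a ha u hu]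
    calc ringKrullDim ↥(U.left.presheaf.stalk u)
        ≤ ⨆ x : ↥U.left, ringKrullDim ↥(U.left.presheaf.stalk x) :=
          le_iSup (fun x : ↥U.left => ringKrullDim ↥(U.left.presheaf.stalk x)) u
      _ = topologicalKrullDim ↥U.left := (topologicalKrullDim_eq_iSup_ringKrullDim_stalk _).symm
      _ ≤ AlgSp.dim X.obj := le_dim a ha
  · refine dim_le fun U a ha => ?_
    rw [topologicalKrullDim_eq_iSup_ringKrullDim_stalk]
    refine iSup_le fun u => ?_
    let T : TopologicalSpace.IrreducibleCloseds (AlgSp.Points X.obj) :=
      ⟨closure {AlgSp.Points.ofPt a u}, isIrreducible_singleton.closure, isClosed_closure⟩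
    rw [← Groth.Agent.S10396.result X hX T (AlgSp.Points.ofPt a u) isGenericPoint_closure a ha u rfl]
    exact le_iSup (fun T : TopologicalSpace.IrreducibleCloseds (AlgSp.Points X.obj) =>
      (Order.coheight T : WithBot ℕ∞)) T

end Groth.Agent.S10345
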