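import Groth.Statements.S10346
import Groth.Agent.S10396
import Groth.Agent.Lib.Seat45SoberDim
import Groth.Agent.S10176
import Groth.Agent.Lib.Seat45Charts
import Groth.Agent.Lib.Seat45EtDim

set_option autoImplicit false
set_option linter.style.haveILetI false
universe u
open CategoryTheory CategoryTheory.Limits AlgebraicGeometry Topology TopologicalSpace
open AlgSp

namespace Groth.Agent.S10346

/-- Let S be a scheme and X a decent algebraic space over S. Then for every representable etale a : h_U
⟶ X from a scheme U and every point u of U with image x ∈ |X|, the local dimension of U at u (the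
dimension of X at x) equals the local dimension of the topological space |X| at x. -/
theorem result {S : Scheme.{u}} (X : AlgSp.Space S)
    (hX : AlgSp.IsDecent X.obj) {U : Over S} (a : (AlgSp.yon S).obj U ⟶ X.obj) (ha : AlgSp.RepWith @Etale a)
    (u : ↥U.left) :
    FlatMor.localDim ↥U.left u = FlatMor.localDim (AlgSp.Points X.obj) (AlgSp.Points.ofPt a u) := by
  open Groth.Agent.Lib.Seat45.EtDim in
  haveI : T0Space (AlgSp.Points X.obj) := Groth.Agent.S10338.result X hX
  haveI : QuasiSober (AlgSp.Points X.obj) := Groth.Agent.S10339.result X hX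
  letI : PartialOrder (AlgSp.Points X.obj) := specializationOrder (AlgSp.Points X.obj)
  -- the dimension of the local ring at a point, as a coheight in the specialization order
  have hB : ∀ v : ↥U.left, (Order.coheight (AlgSp.Points.ofPt a v) : WithBot ℕ∞) =
      ringKrullDim ↥(U.left.presheaf.stalk v) := by
    intro v
    let T : TopologicalSpace.IrreducibleCloseds (AlgSp.Points X.obj) :=
      ⟨closure {AlgSp.Points.ofPt a v}, isIrreducible_singleton.closure, isClosed_closure⟩
    rw [← Groth.Agent.S10396.result X hX T (AlgSp.Points.ofPt a v) isGenericPoint_closure a ha v rfl]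
    congr 1
    rw [← Order.coheight_orderIso (irreducibleSetEquivPoints (α := AlgSp.Points X.obj)) T]
    congr 1
    have h2 : IsGenericPoint (irreducibleSetEquivPoints (α := AlgSp.Points X.obj) T)
        (T : Set (AlgSp.Points X.obj)) := by
      have := T.2.isGenericPoint_genericPoint_closure
      rwa [T.3.closure_eq] at this
    exact (h2.eq isGenericPoint_closure).symm
  have hA : ∀ O : TopologicalSpace.Opens (AlgSp.Points X.obj),
      topologicalKrullDim ↥(O : Set (AlgSp.Points X.obj)) =
        ⨆ x : ↥(O : Set (AlgSp.Points X.obj)), (Order.coheight (x.1 : AlgSp.Points X.obj) : WithBot ℕ∞) :=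
    fun O => Groth.Agent.Lib.Seat45.SoberDim.topologicalKrullDim_opens_eq O
  have hopen : IsOpenMap (AlgSp.Points.ofPt a) := Groth.Agent.S10176.isOpenMap_ofPt a ha
  have hcont : Continuous (AlgSp.Points.ofPt a) := AlgSp.Points.continuous_ofPt a
  unfold FlatMor.localDim
  apply le_antisymm
  · refine le_iInf fun O => ?_
    let N : TopologicalSpace.Opens ↥U.left := ⟨AlgSp.Points.ofPt a ⁻¹' (O.1 : Set (AlgSp.Points X.obj)),
      O.1.isOpen.preimage hcont⟩
    refine iInf_le_of_le ⟨N, O.2⟩ ?_
    rw [hA O.1, topologicalKrullDim_opens]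
    refine iSup_le fun v => ?_
    rw [← hB v.1]
    exact le_iSup (fun x : ↥(O.1 : Set (AlgSp.Points X.obj)) =>
      (Order.coheight (x.1 : AlgSp.Points X.obj) : WithBot ℕ∞)) ⟨AlgSp.Points.ofPt a v.1, v.2⟩
  · refine le_iInf fun N => ?_
    let O : TopologicalSpace.Opens (AlgSp.Points X.obj) :=
      ⟨AlgSp.Points.ofPt a '' (N.1 : Set ↥U.left), hopen _ N.1.isOpen⟩
    refine iInf_le_of_le ⟨O, ⟨u, N.2, rfl⟩⟩ ?_
    rw [hA O, topologicalKrullDim_opens]
    refine iSup_le fun x => ?_
    obtain ⟨x, v, hv, rfl⟩ := x
    rw [hB v]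
    exact le_iSup (fun v : ↥(N.1 : Set ↥U.left) => ringKrullDim ↥(U.left.presheaf.stalk v.1)) ⟨v, hv⟩

end Groth.Agent.S10346
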