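import Groth.Statements.S10347
import Groth.Agent.Lib.Seat45Charts
import Groth.Agent.Lib.Seat45EtDim

set_option autoImplicit false
universe u
open CategoryTheory CategoryTheory.Limits AlgebraicGeometry Topology TopologicalSpace
open AlgSp

namespace Groth.Agent.S10347

/-- For a locally quasi-finite morphism f : X ⟶ Y of algebraic spaces over a scheme S (locally
quasi-finite and locally of finite type, etale locally on source and target), dim X ≤ dim Y. -/
theorem result {S : Scheme.{u}} {X Y : AlgSp.Space S} (f : X ⟶ Y)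
    (hf : AlgSp.LocP (@LocallyQuasiFinite ⊓ @LocallyOfFiniteType) f.hom) :
    AlgSp.dim X.obj ≤ AlgSp.dim Y.obj := by
  open Groth.Agent.Lib.Seat45.Charts Groth.Agent.Lib.Seat45.EtDim in
  refine dim_le fun U a ha => ?_
  rw [topologicalKrullDim_eq_iSup_ringKrullDim_stalk]
  refine iSup_le fun u => ?_
  obtain ⟨V, b, v, hb, hv⟩ := exists_chart Y.property (AlgSp.Points.map f.hom (AlgSp.Points.ofPt a u))
  obtain ⟨W, p, q, w, hp, hw1, hw2, hpa, hc⟩ :=
    exists_chart_square f.hom a ha b hb u v hv.symm
  haveI : LocallyQuasiFinite q.left := (hf _ b q hpa hb hc).1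
  rw [← hw1, ← ringKrullDim_stalk_eq_of_etale p.left w]
  refine (ringKrullDim_stalk_le_of_lqf q.left w).trans ?_
  refine le_trans ?_ (le_dim b hb)
  rw [topologicalKrullDim_eq_iSup_ringKrullDim_stalk]
  exact le_iSup (fun v => ringKrullDim ↥(V.left.presheaf.stalk v)) (q.left w)

end Groth.Agent.S10347
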