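import Groth.Statements.S10361
import Groth.Agent.S10360

set_option autoImplicit false
universe u
open CategoryTheory CategoryTheory.Limits AlgebraicGeometry Topology TopologicalSpace
open AlgSp

namespace Groth.Agent.S10361

/-- (5) ⇒ (4): let S be a scheme and X an algebraic space over S. Suppose k is any field and Spec k ⟶ X
is a morphism which is representable quasi-compact. Then the point of |X| it defines is represented
by a monomorphism Spec k' ⟶ X which is representable quasi-compact. -/
theorem result {S : Scheme.{u}} (X : AlgSp.Space S)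
    (q : AlgSp.FieldPt X.obj) (hq : AlgSp.RepWith @QuasiCompact q.toHom) :
    ∃ p : AlgSp.FieldPt X.obj, AlgSp.Points.mk p = AlgSp.Points.mk q ∧ Mono p.toHom ∧
      AlgSp.RepWith @QuasiCompact p.toHom := by
  open Groth.Agent.Lib.Seat46.DecentChart Groth.Agent.Lib.Seat46.FieldQuot
    Groth.Agent.Lib.Seat46.UBFField in
  refine (Groth.Agent.S10360.result X (AlgSp.Points.mk q)).1 ?_
  intro U φ hU hφ R s t sqR
  obtain ⟨T, b, fst, sq⟩ := hq.1 φ
  obtain ⟨c, rfl⟩ := (AlgSp.yon S).map_surjective fst
  haveI : QuasiCompact b.left := hq.2 _ _ _ sq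
  haveI : CompactSpace ↥T.left := QuasiCompact.compactSpace_of_compactSpace b.left
  haveI : Etale c.left := hφ.2 q.toHom ((AlgSp.yon S).map b) c sq.flip
  haveI : IsFinite c.left := (isAffine_isFinite_of_etale_compact (K := q.K) c.left).2
  haveI : Finite ↥T.left := (finite_discrete_of_isFinite (K := q.K) c.left).1
  exact ⟨(Set.finite_range _).subset
    (Groth.Agent.Lib.Seat46.UnivBdd.fibre_subset_range_of_isPullback φ q c b sq),
    finite_fibre_kernelPair q φ c b sq s t sqR⟩

end Groth.Agent.S10361
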