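import Groth.Statements.S10353
import Groth.Agent.S10337
import Groth.Agent.S10361
import Groth.Agent.S10177
import Groth.Agent.Lib.Seat45Charts

set_option autoImplicit false
set_option linter.style.haveILetI false
universe u
open CategoryTheory CategoryTheory.Limits AlgebraicGeometry Topology TopologicalSpace
open AlgSp

namespace Groth.Agent.S10353

/-- Let X be an algebraic space over a scheme S and suppose there is a finite, etale, surjective map h_U
⟶ X from a scheme U. Then some dense open subspace of X is a scheme: an open subspace X' ⟶ X with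
representable underlying sheaf and |X'| dense in |X|. -/
theorem result {S : Scheme.{u}} (X : AlgSp.Space S)
    {U : Over S} (a : (AlgSp.yon S).obj U ⟶ X.obj) (hf : AlgSp.RepWith @IsFinite a) (he : AlgSp.RepWith @Etale a)
    (hs : AlgSp.RepWith @Surjective a) :
    ∃ (X' : AlgSp.Space S) (j : X' ⟶ X), AlgSp.RepWith @IsOpenImmersion j.hom ∧ X'.obj.obj.IsRepresentable ∧
      Dense (Set.range (AlgSp.Points.map j.hom)) := by
  have hdec : AlgSp.IsDecent X.obj := by
    intro x
    obtain ⟨u, rfl⟩ := Groth.Agent.S10177.surjective_ofPt a hs x
    refine Groth.Agent.S10361.result X (AlgSp.FieldPt.ofPt a u) ?_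
    rw [AlgSp.FieldPt.toHom_ofPt]
    refine (AlgSp.RepWith @QuasiCompact).comp_mem _ _ ?_ ?_
    · rw [AlgSp.repWith_yon_map_iff]
      change QuasiCompact (U.left.fromSpecResidueField u)
      refine ⟨fun V _ _ => ?_⟩
      exact (Set.toFinite _).isCompact
    · exact Groth.Agent.Lib.Seat45.Charts.repWith_mono
        (fun g hg => by haveI : IsFinite g := hg; exact (inferInstance : QuasiCompact g)) hf
  exact Groth.Agent.S10337.result X hdec

end Groth.Agent.S10353
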