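import Groth.Statements.S10355
import Groth.Agent.S10177
import Groth.Agent.S10360
import Groth.Agent.S9927
import Groth.Agent.Lib.Seat46AffQuot
import Groth.Agent.Lib.Seat46FieldPre

set_option autoImplicit false
universe u
open CategoryTheory CategoryTheory.Limits AlgebraicGeometry Topology TopologicalSpace
open AlgSp

namespace Groth.Agent.S10355

/-- A decent algebraic space X over a scheme S whose space of points is a single point is a scheme (the
underlying sheaf of X is representable). -/
theorem result {S : Scheme.{u}} (X : AlgSp.Space S)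
    (hX : AlgSp.IsDecent X.obj) [Nonempty (AlgSp.Points X.obj)] [Subsingleton (AlgSp.Points X.obj)] :
    X.obj.obj.IsRepresentable := by
  open Groth.Agent.S10511Aux Groth.Agent.Lib.Seat46.AffQuot Groth.Agent.Lib.Seat46.FieldPre
    Groth.Agent.Lib.Seat46.FieldQuot Groth.Agent.Lib.Seat46.UBFField Groth.Agent.Lib.Helper9 in
  obtain ⟨x⟩ := ‹Nonempty (AlgSp.Points X.obj)›
  obtain ⟨q, hqx, hm, hq⟩ := hX x
  obtain ⟨U₀, a₀, ha₀E, ha₀S⟩ := X.property.atlas
  obtain ⟨u₀, hu₀⟩ := Groth.Agent.S10177.surjective_ofPt a₀ ha₀S x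
  obtain ⟨V, hV, hu₀V, -⟩ := exists_isAffineOpen_mem_and_subset (x := u₀) (U := ⊤) trivial
  haveI : IsAffine (ov U₀ V).left := hV
  have haE : AlgSp.RepWith @Etale ((AlgSp.yon S).map (ovι U₀ V) ≫ a₀) :=
    (AlgSp.repWith_isMultiplicative (S := S) @Etale).comp_mem _ _
      ((AlgSp.repWith_yon_map_iff @Etale _).2 (inferInstanceAs (Etale V.ι))) ha₀E
  obtain ⟨a, ha⟩ : ∃ a : (AlgSp.yon S).obj (ov U₀ V) ⟶ X.obj,
      a = (AlgSp.yon S).map (ovι U₀ V) ≫ a₀ := ⟨_, rfl⟩
  rw [← ha] at haE
  have haS : AlgSp.RepWith @Surjective a := by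
    refine (AlgSp.repWith_iff _ _).2 ⟨haE.1, fun T W g fst snd sq => ⟨fun t => ?_⟩⟩
    obtain ⟨pr, rfl⟩ := (AlgSp.yon S).map_surjective fst
    obtain ⟨y, -, hy⟩ := Groth.Agent.S10176.exists_point_of_isPullback_yon sq ⟨u₀, hu₀V⟩ t
      (Subsingleton.elim _ _)
    exact ⟨y, hy⟩
  -- the fibre `K` over the point
  obtain ⟨K, m, fstK, sqK⟩ := hq.1 a
  obtain ⟨cK, rfl⟩ := (AlgSp.yon S).map_surjective fstK
  haveI : IsPreimmersion m.left := isPreimmersion_of_mono_qc_fieldPt X q hm hq a haE cK m sqK
  haveI : Etale cK.left := haE.2 q.toHom _ cK sqK.flip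
  haveI : QuasiCompact m.left := hq.2 a _ m sqK
  haveI : CompactSpace ↥K.left := QuasiCompact.compactSpace_of_compactSpace m.left
  obtain ⟨hKaff, hKfin⟩ := isAffine_isFinite_of_etale_compact (K := q.K) cK.left
  haveI := hKaff
  haveI := hKfin
  obtain ⟨hKF, hKD⟩ := finite_discrete_of_isFinite (K := q.K) cK.left
  haveI := hKF
  haveI : Surjective m.left := ⟨fun u => by
    obtain ⟨y, hy, -⟩ := Groth.Agent.S10176.exists_point_of_isPullback_yon sqK.flip u
      (IsLocalRing.closedPoint q.K) (Subsingleton.elim _ _)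
    exact ⟨y, hy⟩⟩
  haveI : IsClosedImmersion m.left := IsClosedImmersion.of_isPreimmersion _ (by
    rw [Set.range_eq_univ.2 m.left.surjective]; exact isClosed_univ)
  haveI : Finite ↥(ov U₀ V).left := Finite.of_surjective _ m.left.surjective
  haveI : T1Space ↥(ov U₀ V).left := ⟨fun u => by
    obtain ⟨y, rfl⟩ := m.left.surjective u
    have := m.left.isClosedEmbedding.isClosedMap {y} (Set.toFinite _).isClosed
    rwa [Set.image_singleton] at this⟩
  haveI : DiscreteTopology ↥(ov U₀ V).left := inferInstance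
  -- the kernel pair
  obtain ⟨R, s, fstR, sqR⟩ := haE.1 a
  obtain ⟨t, rfl⟩ := (AlgSp.yon S).map_surjective fstR
  haveI : Etale s.left := haE.2 a _ s sqR
  have hfR := ((Groth.Agent.S10360.result X x).2 ⟨q, hqx, hm, hq⟩ (ov U₀ V) a hV haE R s t sqR).2
  haveI : Finite ↥R.left := by
    have : AlgSp.Points.ofPt ((AlgSp.yon S).map t ≫ a) ⁻¹' {x} = Set.univ :=
      Set.eq_univ_of_forall fun r => Subsingleton.elim _ _
    rw [this] at hfR
    exact Set.finite_univ_iff.1 hfR
  haveI := Groth.Agent.S10555.lqf_of_etale s.left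
  haveI : DiscreteTopology ↥R.left := by
    have := s.left.isDiscrete_preimage (s := Set.univ) (isDiscrete_univ_iff.2 inferInstance)
    rw [Set.preimage_univ] at this
    exact isDiscrete_univ_iff.1 this
  haveI : IsAffine R.left := inferInstance
  -- finiteness of `s`
  have sqS := (IsPullback.of_hasPullback m s).map (Over.forget S)
  haveI : Etale (pullback.fst m s).left :=
    MorphismProperty.of_isPullback (P := @Etale) sqS.flip ‹Etale s.left›
  haveI : IsClosedImmersion (pullback.snd m s).left :=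
    MorphismProperty.of_isPullback (P := @IsClosedImmersion) sqS ‹IsClosedImmersion m.left›
  haveI : CompactSpace ↥R.left := Finite.compactSpace
  haveI : CompactSpace ↥(pullback m s).left :=
    QuasiCompact.compactSpace_of_compactSpace (pullback.snd m s).left
  haveI : IsFinite ((pullback.fst m s).left ≫ cK.left) :=
    (isAffine_isFinite_of_etale_compact (K := q.K) ((pullback.fst m s).left ≫ cK.left)).2
  haveI : IsFinite (pullback.fst m s).left := IsFinite.of_comp (pullback.fst m s).left cK.left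
  haveI : IsFinite s.left :=
    isFinite_of_isFinite_baseChange s.left m.left (pullback.fst m s).left (pullback.snd m s).left
      sqS.flip
  -- the quotient
  obtain ⟨M, c, m', hm', hmono, -, -, -⟩ := exists_mono_factor_affine a s t sqR
  haveI : Epi a := Groth.Agent.S9927.epi_of_repWith a haE haS
  haveI : Epi m' := epi_of_epi_fac hm'
  haveI : IsIso m' := ToposLike.isIso_of_mono_of_epi m' hmono inferInstance
  exact ⟨M, ⟨AlgSp.representableByOfIso (asIso m')⟩⟩

end Groth.Agent.S10355
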