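import Groth.Statements.S10357
import Groth.Agent.S10360
import Groth.Agent.S10176
import Groth.Agent.S10177
import Groth.Agent.Lib.Seat46ClosedPt

set_option autoImplicit false
universe u
open CategoryTheory CategoryTheory.Limits AlgebraicGeometry Topology TopologicalSpace
open AlgSp

namespace Groth.Agent.S10357

/-- Let S be a scheme, X a decent algebraic space over S, and Spec k ⟶ X a morphism over S from the
spectrum of a field whose image in S is a closed point s with k algebraic over κ(s). Then the image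
point of |X| is closed. Here Spec k ⟶ S is written as Spec k ⟶ Spec κ(s) ⟶ S for a ring map φ : κ(s)
→ k, integral since k is algebraic over κ(s). -/
theorem result {S : Scheme.{u}} (X : AlgSp.Space S)
    (hX : AlgSp.IsDecent X.obj) (s : ↥S) (hs : IsClosed ({s} : Set ↥S)) (k : Type u) [Field k]
    (φ : S.residueField s ⟶ CommRingCat.of k) (hφ : φ.hom.IsIntegral)
    (p : (AlgSp.yon S).obj (Over.mk (Spec.map φ ≫ S.fromSpecResidueField s)) ⟶ X.obj)
    (t : ↥(Spec (CommRingCat.of k))) :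
    IsClosed ({AlgSp.Points.ofPt p t} : Set (AlgSp.Points X.obj)) := by
  open Groth.Agent.S10511Aux Groth.Agent.Lib.Seat46.ClosedPt in
  obtain ⟨U₀, φ₀, hφ₀e, hφ₀s⟩ := X.property.atlas
  have hq := Groth.Agent.S10177.result X φ₀ hφ₀e hφ₀s
  rw [← hq.isClosed_preimage]
  rw [(TopologicalSpace.IsOpenCover.mk (iSup_affineOpens_eq_top U₀.left)).isClosed_iff_coe_preimage]
  intro V
  have hV : IsAffineOpen V.1 := V.2
  haveI : IsAffine (ov U₀ V.1).left := hV
  have ha : AlgSp.RepWith @Etale ((AlgSp.yon S).map (ovι U₀ V.1) ≫ φ₀) :=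
    (AlgSp.repWith_isMultiplicative (S := S) @Etale).comp_mem _ _
      ((AlgSp.repWith_yon_map_iff @Etale _).2 (inferInstanceAs (Etale V.1.ι))) hφ₀e
  set a := (AlgSp.yon S).map (ovι U₀ V.1) ≫ φ₀ with ha_def
  have hpt : ∀ v : ↥(ov U₀ V.1).left,
      AlgSp.Points.ofPt a v = AlgSp.Points.ofPt φ₀ ((ovι U₀ V.1).left v) :=
    fun v => Groth.Agent.S10176.ofPt_map_comp _ _ _
  have hset : ((↑) ⁻¹' (AlgSp.Points.ofPt φ₀ ⁻¹' {AlgSp.Points.ofPt p t}) : Set ↥V.1) =
      (AlgSp.Points.ofPt a ⁻¹' {AlgSp.Points.ofPt p t} : Set ↥(ov U₀ V.1).left) := by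
    ext v
    change AlgSp.Points.ofPt φ₀ ↑v = _ ↔ AlgSp.Points.ofPt a v = _
    rw [hpt]
    rfl
  rw [hset]
  -- finiteness of the fibre
  obtain ⟨R, s', fst, sqR⟩ := ha.1 a
  obtain ⟨t', rfl⟩ := (AlgSp.yon S).map_surjective fst
  have hfin := ((Groth.Agent.S10360.result X (AlgSp.Points.ofPt p t)).2 (hX _) (ov U₀ V.1) a hV ha
    R s' t' sqR).1
  -- each point of the fibre is closed
  have hcl : ∀ v ∈ AlgSp.Points.ofPt a ⁻¹' {AlgSp.Points.ofPt p t},
      IsClosed ({v} : Set ↥(ov U₀ V.1).left) := by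
    intro v hv
    obtain ⟨W, snd, fst, sq⟩ := ha.1 p
    obtain ⟨pr, rfl⟩ := (AlgSp.yon S).map_surjective fst
    haveI : Etale snd.left := ha.2 p _ snd sq
    obtain ⟨y, hy1, hy2⟩ := Groth.Agent.S10176.exists_point_of_isPullback_yon sq v t hv
    obtain ⟨L, _, m, hmfin, hmz⟩ := exists_finite_fieldPt (K := k) snd.left y
    haveI : IsClosedImmersion (S.fromSpecResidueField s) :=
      isClosed_singleton_iff_isClosedImmersion.mp hs
    haveI : IsIntegralHom (Spec.map φ) := IsIntegralHom.SpecMap_iff.2 hφ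
    have hcomp : (m ≫ pr.left) ≫ (ov U₀ V.1).hom =
        (m ≫ snd.left) ≫ Spec.map φ ≫ S.fromSpecResidueField s := by
      rw [Category.assoc, Category.assoc, Over.w pr]
      exact congrArg (m ≫ ·) (Over.w snd).symm
    haveI : IsIntegralHom ((m ≫ pr.left) ≫ (ov U₀ V.1).hom) := by
      rw [hcomp]
      infer_instance
    have h := isClosed_singleton_of_integral (ov U₀ V.1).hom (m ≫ pr.left)
      (IsLocalRing.closedPoint L)
    rwa [Scheme.Hom.comp_apply, hmz, hy1] at h
  have hU : AlgSp.Points.ofPt a ⁻¹' {AlgSp.Points.ofPt p t} =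
      ⋃ v ∈ AlgSp.Points.ofPt a ⁻¹' {AlgSp.Points.ofPt p t}, {v} := by
    rw [Set.biUnion_of_singleton]
  rw [hU]
  exact hfin.isClosed_biUnion hcl

end Groth.Agent.S10357
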