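import Groth.Statements.S10359
import Groth.Agent.Lib.Seat83ClosedPt
import Groth.Agent.Lib.Seat83MonoPoint
import Groth.Agent.S10127
import Groth.Agent.S10340
import Groth.Agent.S10176
import Groth.Agent.S10177

set_option autoImplicit false
set_option linter.style.haveILetI false
universe u
open CategoryTheory CategoryTheory.Limits AlgebraicGeometry Topology TopologicalSpace
open AlgSp

namespace Groth.Agent.S10359

/-- On a decent algebraic space X over a scheme S every closed point x of |X| is represented by a closed
immersion Spec k ⟶ X, where k is a field. -/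
theorem result {S : Scheme.{u}} (X : AlgSp.Space S)
    (hX : AlgSp.IsDecent X.obj) (x : AlgSp.Points X.obj) (hx : IsClosed ({x} : Set (AlgSp.Points X.obj))) :
    ∃ p : AlgSp.FieldPt X.obj, AlgSp.Points.mk p = x ∧ AlgSp.RepWith @IsClosedImmersion p.toHom := by
  obtain ⟨p, hp, hm, hq⟩ := hX x
  refine ⟨p, hp, ?_⟩
  obtain ⟨A, a, hae, has⟩ := X.property.atlas
  obtain ⟨Z, i0, pr, sq⟩ := hq.1 a
  obtain ⟨pr', rfl⟩ := (AlgSp.yon S).map_surjective pr
  haveI : Mono ((AlgSp.yon S).map i0) := PullbackCone.mono_snd_of_is_pullback_of_mono sq.isLimit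
  haveI : Mono i0 := (AlgSp.yon S).mono_of_mono_map inferInstance
  haveI : Mono i0.left := inferInstance
  haveI : QuasiCompact i0.left := hq.2 a _ i0 sq
  have het : Etale pr'.left := hae.2 p.toHom _ pr' sq.flip
  obtain ⟨hdisc, hred⟩ :=
    haveI := het; Groth.Agent.Lib.Seat83.MonoPoint.discrete_reduced_of_etale_field (K := p.K) pr'.left
  haveI := hdisc
  haveI := hred
  -- the image of `Z` is the fibre over `x`
  have hrange : Set.range i0.left = AlgSp.Points.ofPt a ⁻¹' {x} := by
    ext v
    constructor
    · rintro ⟨z, rfl⟩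
      rw [Set.mem_preimage, Set.mem_singleton_iff, ← Groth.Agent.S10176.ofPt_map_comp, ← sq.w,
        Groth.Agent.S10176.ofPt_map_comp, AlgSp.Points.ofPt_toHom, hp]
    · intro hv
      rw [Set.mem_preimage, Set.mem_singleton_iff] at hv
      obtain ⟨z, hz1, -⟩ := Groth.Agent.S10176.exists_point_of_isPullback_yon sq.flip v
        (IsLocalRing.closedPoint p.K) (by rw [hv, AlgSp.Points.ofPt_toHom, hp])
      exact ⟨z, hz1⟩
  have hcl : IsClosed (Set.range i0.left) := by
    rw [hrange]
    exact hx.preimage (AlgSp.Points.continuous_ofPt a)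
  have hsp : ∀ z z' : Z.left, i0.left z ⤳ i0.left z' → z = z' := by
    intro z z' hzz
    have hfib : ∀ w : Z.left, AlgSp.Points.ofPt a (i0.left w) = x := by
      intro w
      have : i0.left w ∈ Set.range i0.left := ⟨w, rfl⟩
      rw [hrange] at this
      exact this
    have := Groth.Agent.S10340.result X hX a hae (i0.left z') (i0.left z)
      ((hfib z').trans (hfib z).symm) hzz
    exact (i0.left.injective this).symm
  have hci : IsClosedImmersion i0.left :=
    Groth.Agent.Lib.Seat83.ClosedPt.isClosedImmersion_of_mono_discrete i0.left hcl hsp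
  haveI := Groth.Agent.Lib.Helper12.descendsAlong_isClosedImmersion.{u}
  exact Groth.Agent.S10127.repWith_of_atlas @IsClosedImmersion p.toHom hq.1 a hae has i0 _ sq hci


end Groth.Agent.S10359
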