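import Groth.Statements.S10358
import Groth.Agent.S10357
import Groth.Agent.S10359
import Groth.Agent.S10215
import Groth.Agent.S9928
import Groth.Agent.Lib.Seat46DecentPt

set_option autoImplicit false
set_option linter.style.haveILetI false
universe u
open CategoryTheory CategoryTheory.Limits AlgebraicGeometry Topology TopologicalSpace
open AlgSp

namespace Groth.Agent.S10358

/-- Let S be a scheme, X a decent algebraic space over S, and Spec k ⟶ X a morphism over S from the
spectrum of a field whose image in S is a closed point s with k finite over κ(s) (Spec k ⟶ S written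
through a ring map φ : κ(s) → k). Then Spec k ⟶ X is finite; if moreover φ is bijective (k = κ(s))
it is a closed immersion. -/
theorem result {S : Scheme.{u}} (X : AlgSp.Space S)
    (hX : AlgSp.IsDecent X.obj) (s : ↥S) (hs : IsClosed ({s} : Set ↥S)) (k : Type u) [Field k]
    (φ : S.residueField s ⟶ CommRingCat.of k) (hφ : φ.hom.Finite)
    (p : (AlgSp.yon S).obj (Over.mk (Spec.map φ ≫ S.fromSpecResidueField s)) ⟶ X.obj) :
    AlgSp.RepWith @IsFinite p ∧
      (Function.Bijective φ.hom → AlgSp.RepWith @IsClosedImmersion p) := by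
  let q : AlgSp.FieldPt X.obj :=
    Groth.Agent.Lib.Seat46.DecentPt.ofHom k (Spec.map φ ≫ S.fromSpecResidueField s) p
  have hq : q.toHom = p := Groth.Agent.Lib.Seat46.DecentPt.toHom_ofHom _ _ p
  -- the point is closed
  have hx : IsClosed ({AlgSp.Points.mk q} : Set (AlgSp.Points X.obj)) := by
    have h1 := Groth.Agent.S10357.result X hX s hs k φ (RingHom.IsIntegral.of_finite hφ) p
      (IsLocalRing.closedPoint k)
    have h2 : AlgSp.Points.ofPt p (IsLocalRing.closedPoint k) = AlgSp.Points.mk q := by
      have h3 := AlgSp.Points.ofPt_toHom q (IsLocalRing.closedPoint k)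
      rwa [hq] at h3
    rwa [h2] at h1
  obtain ⟨p', hp', hci⟩ := Groth.Agent.S10359.result X hX _ hx
  haveI hm' : Mono p'.toHom := Groth.Agent.S9928.mono_of_repWith @IsClosedImmersion
    (fun _ _ g hg => by haveI : IsClosedImmersion g := hg; infer_instance) p'.toHom hci
  obtain ⟨c, hc, -⟩ := Groth.Agent.S10215.result X p' q hp'
  rw [hq] at hc
  -- `c` is `Spec` of a field map `ψ : p'.K → k`
  obtain ⟨cl, hcl⟩ : ∃ cl : Spec (CommRingCat.of k) ⟶ Spec (CommRingCat.of p'.K), cl = c.left :=
    ⟨_, rfl⟩
  obtain ⟨ψ, hψ⟩ : ∃ ψ : CommRingCat.of p'.K ⟶ CommRingCat.of k, Spec.map ψ = cl :=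
    ⟨Spec.preimage cl, Spec.map_preimage _⟩
  have hw : cl ≫ p'.str = Spec.map φ ≫ S.fromSpecResidueField s := by
    rw [hcl]; exact Over.w c
  -- the structure morphism of `p'` factors through `Spec κ(s)`
  have hs' : p'.str (IsLocalRing.closedPoint p'.K) = s := by
    have h1 : (cl ≫ p'.str) (IsLocalRing.closedPoint k) = s := by
      rw [hw, Scheme.Hom.comp_apply]
      exact Scheme.fromSpecResidueField_apply _ _
    have h2 : cl (IsLocalRing.closedPoint k) = IsLocalRing.closedPoint p'.K :=
      Subsingleton.elim (α := PrimeSpectrum p'.K) _ _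
    rw [← h2]
    exact h1
  obtain ⟨θ, hθ⟩ : ∃ θ : S.residueField s ⟶ CommRingCat.of p'.K,
      p'.str = Spec.map θ ≫ S.fromSpecResidueField s := by
    subst hs'
    exact ⟨_, (Scheme.descResidueField_stalkClosedPointTo_fromSpecResidueField p'.K S p'.str).symm⟩
  have hφψ : φ = θ ≫ ψ := by
    apply Spec.map_injective
    rw [← cancel_mono (S.fromSpecResidueField s), Spec.map_comp, Category.assoc, ← hθ, hψ]
    exact hw.symm
  have hψfin : ψ.hom.Finite := by
    have h1 : (ψ.hom.comp θ.hom).Finite := by
      have : ψ.hom.comp θ.hom = φ.hom := by rw [hφψ]; rfl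
      rw [this]; exact hφ
    exact RingHom.Finite.of_comp_finite h1
  have hcfin : IsFinite c.left := by
    rw [← hcl, ← hψ]
    exact (IsFinite.SpecMap_iff ψ).2 hψfin
  refine ⟨?_, fun hbij => ?_⟩
  · rw [← hc]
    refine (AlgSp.RepWith @IsFinite).comp_mem _ _
      ((AlgSp.repWith_yon_map_iff @IsFinite c).2 hcfin) ?_
    exact ⟨hci.1, fun _ _ g fst snd sq => by
      haveI : IsClosedImmersion snd.left := hci.2 g fst snd sq
      exact (inferInstance : IsFinite snd.left)⟩
  · have hψsurj : Function.Surjective ψ := by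
      intro y
      obtain ⟨r, hr⟩ := hbij.2 y
      refine ⟨θ r, ?_⟩
      rw [hφψ] at hr
      exact hr
    have hcci : IsClosedImmersion c.left := by
      rw [← hcl, ← hψ]
      exact IsClosedImmersion.spec_of_surjective ψ hψsurj
    rw [← hc]
    exact (AlgSp.RepWith @IsClosedImmersion).comp_mem _ _
      ((AlgSp.repWith_yon_map_iff @IsClosedImmersion c).2 hcci) hci


end Groth.Agent.S10358
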