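import Groth.Statements.S10386
import Groth.Agent.Lib.Seat83ZarDecent
import Groth.Agent.S9874
import Groth.Agent.S10175

set_option autoImplicit false
universe u
open CategoryTheory CategoryTheory.Limits AlgebraicGeometry Topology TopologicalSpace
open AlgSp

namespace Groth.Agent.S10386

/-- (3) ⇒ (1): let S be a scheme, X and Y algebraic spaces over S, and f : X ⟶ Y a morphism such that Z
×_Y X is decent for every affine scheme Z and every Z ⟶ Y. Then f is decent, i.e. T ×_Y X is decent
for every scheme T over Y. -/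
theorem result {S : Scheme.{u}} {X Y : AlgSp.Space S} (f : X ⟶ Y)
    (h : ∀ (Z : Over S) (g : (AlgSp.yon S).obj Z ⟶ Y.obj) (P : AlgSp.Sp S) (fst : P ⟶ X.obj)
      (snd : P ⟶ (AlgSp.yon S).obj Z), IsAffine Z.left → IsPullback fst snd f.hom g → AlgSp.IsDecent P) :
    AlgSp.IsDecentMor f.hom := by
  intro T F' g fst snd sq
  let Ti : T.left.affineCover.I₀ → Over S := fun i => Over.mk (T.left.affineCover.f i ≫ T.hom)
  let ji : ∀ i, Ti i ⟶ T := fun i => Over.homMk (T.left.affineCover.f i) rfl
  have hF' : AlgSp.IsAlgSpace F' :=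
    Groth.Agent.S9874.isAlgSpace_of_isPullback Y.property.diag X.property
      (AlgSp.IsAlgSpace.yon_obj T) sq
  have sqi : ∀ i, IsPullback (pullback.fst snd ((AlgSp.yon S).map (ji i)))
      (pullback.snd snd ((AlgSp.yon S).map (ji i))) snd ((AlgSp.yon S).map (ji i)) :=
    fun i => IsPullback.of_hasPullback _ _
  have hFi : ∀ i, AlgSp.IsAlgSpace (pullback snd ((AlgSp.yon S).map (ji i))) := fun i =>
    Groth.Agent.S9874.isAlgSpace_of_isPullback (AlgSp.IsAlgSpace.yon_obj T).diag hF'
      (AlgSp.IsAlgSpace.yon_obj (Ti i)) (sqi i)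
  refine Groth.Agent.Lib.Seat83.ZarDecent.isDecent_of_isZarCover
    (fun i => pullback snd ((AlgSp.yon S).map (ji i))) hFi
    (fun i => pullback.fst snd ((AlgSp.yon S).map (ji i))) ⟨?_, ?_⟩ ?_
  · intro i
    have h1 : AlgSp.RepWith @IsOpenImmersion ((AlgSp.yon S).map (ji i)) :=
      (AlgSp.repWith_yon_map_iff @IsOpenImmersion (ji i)).2
        (inferInstanceAs (IsOpenImmersion (T.left.affineCover.f i)))
    exact MorphismProperty.of_isPullback (P := AlgSp.RepWith @IsOpenImmersion) (sqi i).flip h1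
  · intro x'
    obtain ⟨t, ht⟩ := (AlgSp.Points.schemeHomeo T).surjective (AlgSp.Points.map snd x')
    obtain ⟨i, y, hy⟩ := T.left.affineCover.exists_eq t
    refine ⟨i, ?_⟩
    have e : AlgSp.Points.map snd x' =
        AlgSp.Points.map ((AlgSp.yon S).map (ji i)) (AlgSp.Points.schemeHomeo (Ti i) y) := by
      rw [AlgSp.Points.map_yon_map_apply, ← ht]
      congr 1
      exact hy.symm
    obtain ⟨p, hp1, -⟩ := Groth.Agent.S10175.exists_point_of_isPullback (sqi i) x'
      (AlgSp.Points.schemeHomeo (Ti i) y) e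
    exact ⟨p, hp1⟩
  · intro i
    exact h (Ti i) ((AlgSp.yon S).map (ji i) ≫ g) _ (pullback.fst snd ((AlgSp.yon S).map (ji i)) ≫ fst)
      (pullback.snd snd ((AlgSp.yon S).map (ji i)))
      (inferInstanceAs (IsAffine (T.left.affineCover.X i))) ((sqi i).paste_horiz sq)


end Groth.Agent.S10386
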