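import Groth.Statements.S10387
import Groth.Agent.S10384
import Groth.Agent.S10386
import Groth.Agent.S10209
import Groth.Agent.S9912
import Groth.Agent.S9874
import Groth.Agent.S10175

set_option autoImplicit false
set_option linter.style.haveILetI false
universe u
open CategoryTheory CategoryTheory.Limits AlgebraicGeometry Topology TopologicalSpace
open AlgSp

namespace Groth.Agent.S10387

/-- an étale surjective morphism to a quasi-compact scheme is already surjective on a quasi-compact open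
subscheme of the source. -/
lemma exists_compact_open_surj {Z' Z : Scheme.{u}} (z : Z' ⟶ Z) [Etale z] [Surjective z]
    [CompactSpace ↥Z] :
    ∃ U : Z'.Opens, IsCompact (U : Set ↥Z') ∧ z '' (U : Set ↥Z') = Set.univ := by
  choose x' hx' using z.surjective
  have hex : ∀ x : ↥Z, ∃ A : Z'.Opens, IsAffineOpen A ∧ x' x ∈ A := fun x => by
    obtain ⟨A, hA, hxA, -⟩ := TopologicalSpace.Opens.isBasis_iff_nbhd.mp Z'.isBasis_affineOpens
      (TopologicalSpace.Opens.mem_top (x' x))
    exact ⟨A, hA, hxA⟩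
  choose A hA hxA using hex
  have hopen : ∀ x, IsOpen (z '' (A x : Set ↥Z')) := fun x => z.isOpenMap _ (A x).2
  obtain ⟨t, ht⟩ := isCompact_univ.elim_finite_subcover (fun x => z '' (A x : Set ↥Z')) hopen
    (fun y _ => Set.mem_iUnion.2 ⟨y, x' y, hxA y, hx' y⟩)
  refine ⟨⨆ x ∈ t, A x, ?_, ?_⟩
  · have h1 : ((⨆ x ∈ t, A x : Z'.Opens) : Set ↥Z') = ⋃ x ∈ t, (A x : Set ↥Z') := by
      simp
    rw [h1]
    exact t.finite_toSet.isCompact_biUnion (fun x _ => (hA x).isCompact)
  · apply Set.eq_univ_of_univ_subset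
    intro y hy
    obtain ⟨x, hx, w, hw, rfl⟩ : ∃ x ∈ t, y ∈ z '' (A x : Set ↥Z') := by
      simpa using ht hy
    refine ⟨w, ?_, rfl⟩
    have h1 : ((⨆ x ∈ t, A x : Z'.Opens) : Set ↥Z') = ⋃ x ∈ t, (A x : Set ↥Z') := by
      simp
    rw [h1]
    exact Set.mem_biUnion hx hw

/-- (5) ⇒ (1): let S be a scheme, X and Y algebraic spaces over S, f : X ⟶ Y a morphism, and V ⟶ Y a
surjective etale morphism from a scheme. If the base change V ×_Y X ⟶ V is a decent morphism, then f
is decent. -/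
theorem result {S : Scheme.{u}} {X Y : AlgSp.Space S} (f : X ⟶ Y) {V : Over S}
    (p : (AlgSp.yon S).obj V ⟶ Y.obj) (hp : AlgSp.RepWith @Etale p) (hps : AlgSp.RepWith @Surjective p)
    (X' : AlgSp.Sp S) (fst : X' ⟶ X.obj) (snd : X' ⟶ (AlgSp.yon S).obj V) (hsq : IsPullback fst snd f.hom p)
    (h : AlgSp.IsDecentMor snd) : AlgSp.IsDecentMor f.hom := by
  apply Groth.Agent.S10386.result f
  intro Z g P fstP sndP hZ sqP
  haveI := hZ
  have hP : AlgSp.IsAlgSpace P :=
    Groth.Agent.S9874.isAlgSpace_of_isPullback Y.property.diag X.property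
      (AlgSp.IsAlgSpace.yon_obj Z) sqP
  -- the étale cover `Z' = Z ×_Y V` of `Z`
  obtain ⟨Z', z, gV, sqZ'⟩ := hp.1 g
  haveI : Etale z.left := hp.2 _ _ _ sqZ'
  haveI : Surjective z.left := hps.2 _ _ _ sqZ'
  haveI : CompactSpace ↥Z.left := inferInstance
  obtain ⟨U, hUc, hUs⟩ := exists_compact_open_surj z.left
  let Z'' : Over S := Over.mk (U.ι ≫ Z'.hom)
  let ι'' : Z'' ⟶ Z' := Over.homMk U.ι rfl
  let z'' : Z'' ⟶ Z := ι'' ≫ z
  haveI : Etale z''.left := by
    change Etale (U.ι ≫ z.left)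
    infer_instance
  haveI : CompactSpace ↥Z''.left := isCompact_iff_compactSpace.1 hUc
  haveI : QuasiCompact z''.left :=
    (HasAffineProperty.iff_of_isAffine (P := @QuasiCompact) (f := z''.left)).2 inferInstance
  have hz''s : Function.Surjective z''.left := by
    intro y
    obtain ⟨w, hw, rfl⟩ : y ∈ z.left '' (U : Set ↥Z'.left) := by rw [hUs]; trivial
    exact ⟨⟨w, hw⟩, rfl⟩
  -- the base change `P''` of `P` to `Z''`
  have sqP'' : IsPullback (pullback.fst sndP ((AlgSp.yon S).map z''))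
      (pullback.snd sndP ((AlgSp.yon S).map z'')) sndP ((AlgSp.yon S).map z'') :=
    IsPullback.of_hasPullback _ _
  have hP'' : AlgSp.IsAlgSpace (pullback sndP ((AlgSp.yon S).map z'')) :=
    Groth.Agent.S9874.isAlgSpace_of_isPullback (AlgSp.IsAlgSpace.yon_obj Z).diag hP
      (AlgSp.IsAlgSpace.yon_obj Z'') sqP''
  -- `P''` is decent
  have hdec : AlgSp.IsDecent (pullback sndP ((AlgSp.yon S).map z'')) := by
    let γ : (AlgSp.yon S).obj Z'' ⟶ (AlgSp.yon S).obj V := (AlgSp.yon S).map ι'' ≫ gV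
    have hγ : γ ≫ p = (AlgSp.yon S).map z'' ≫ g := by
      change ((AlgSp.yon S).map ι'' ≫ gV) ≫ p = (AlgSp.yon S).map (ι'' ≫ z) ≫ g
      rw [Category.assoc, sqZ'.w, Functor.map_comp, Category.assoc]
    have big := sqP''.paste_horiz sqP
    rw [← hγ] at big
    obtain ⟨l, hl⟩ : ∃ l : pullback sndP ((AlgSp.yon S).map z'') ⟶ X',
        l = hsq.lift (pullback.fst sndP ((AlgSp.yon S).map z'') ≫ fstP)
          (pullback.snd sndP ((AlgSp.yon S).map z'') ≫ γ) (by
            rw [Category.assoc, Category.assoc]; exact big.w) := ⟨_, rfl⟩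
    have hl1 : l ≫ fst = pullback.fst sndP ((AlgSp.yon S).map z'') ≫ fstP := by
      rw [hl, hsq.lift_fst]
    have hl2 : l ≫ snd = pullback.snd sndP ((AlgSp.yon S).map z'') ≫ γ := by
      rw [hl, hsq.lift_snd]
    have left : IsPullback l (pullback.snd sndP ((AlgSp.yon S).map z'')) snd γ := by
      refine IsPullback.of_right ?_ hl2 hsq
      rw [hl1]
      exact big
    exact h γ l _ left
  -- descend along `P'' ⟶ P`
  have he : AlgSp.IsEtaleMor (pullback.fst sndP ((AlgSp.yon S).map z'')) :=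
    Groth.Agent.S10209.isEtaleMor_of_isPullback (AlgSp.IsAlgSpace.yon_obj Z'') hP sqP''
      ((AlgSp.isEtaleMor_yon_map_iff z'').2 inferInstance)
  have hq : AlgSp.IsQuasiCompactMor (pullback.fst sndP ((AlgSp.yon S).map z'')) := by
    apply Groth.Agent.S9912.isQuasiCompactMor_of_repWith hP'' hP.diag
    exact MorphismProperty.of_isPullback (P := AlgSp.RepWith @QuasiCompact) sqP''.flip
      ((AlgSp.repWith_yon_map_iff @QuasiCompact z'').2 inferInstance)
  have hs : AlgSp.IsSurjectiveMor (pullback.fst sndP ((AlgSp.yon S).map z'')) := by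
    intro x
    obtain ⟨t, ht⟩ := (AlgSp.Points.schemeHomeo Z).surjective (AlgSp.Points.map sndP x)
    obtain ⟨y, hy⟩ := hz''s t
    have e : AlgSp.Points.map sndP x =
        AlgSp.Points.map ((AlgSp.yon S).map z'') (AlgSp.Points.schemeHomeo Z'' y) := by
      rw [AlgSp.Points.map_yon_map_apply, ← ht, hy]
    obtain ⟨q, hq1, -⟩ := Groth.Agent.S10175.exists_point_of_isPullback sqP'' x
      (AlgSp.Points.schemeHomeo Z'' y) e
    exact ⟨q, hq1⟩
  exact Groth.Agent.S10384.result (X := ⟨_, hP''⟩) (Y := ⟨P, hP⟩)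
    (ObjectProperty.homMk (pullback.fst sndP ((AlgSp.yon S).map z''))) hq he hs hdec


end Groth.Agent.S10387
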