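import Groth.Statements.S10391
import Groth.Agent.Lib.Seat83LftField

set_option autoImplicit false
set_option linter.style.haveILetI false
universe u
open CategoryTheory CategoryTheory.Limits AlgebraicGeometry Topology TopologicalSpace
open AlgSp

namespace Groth.Agent.S10391

/-- Let k be a field, X an algebraic space over k which is locally of finite type, and x ∈ |X|. The
conditions (2) x is closed in |X| and has no proper generization, (3) x is an isolated point of |X|,
(4) dim_x(X) = 0 are equivalent; if X is decent they are also equivalent to (1) dim_x(|X|) = 0. (The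
equivalence with quasi-finiteness of X → Spec k at x is not part of this row.) -/
theorem result (k : Type u) [Field k] (X : AlgSp.Space (Spec (CommRingCat.of k)))
    (p : X.obj ⟶ (AlgSp.yon (Spec (CommRingCat.of k))).obj (Over.mk (𝟙 _))) (hp : AlgSp.LocP @LocallyOfFiniteType p) (x : AlgSp.Points X.obj) :
    (IsOpen ({x} : Set (AlgSp.Points X.obj)) ↔
        (IsClosed ({x} : Set (AlgSp.Points X.obj)) ∧ ∀ x' : AlgSp.Points X.obj, x' ⤳ x → x' = x)) ∧
      (IsOpen ({x} : Set (AlgSp.Points X.obj)) ↔ AlgSp.HasAt (fun U u => FlatMor.localDim ↥U u = 0) X.obj x) ∧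
      (AlgSp.IsDecent X.obj →
        (FlatMor.localDim (AlgSp.Points X.obj) x = 0 ↔ IsOpen ({x} : Set (AlgSp.Points X.obj)))) := by
  have hN : ∀ {U : Over (Spec (CommRingCat.of k))}
      (a : (AlgSp.yon (Spec (CommRingCat.of k))).obj U ⟶ X.obj), AlgSp.RepWith @Etale a →
      IsLocallyNoetherian U.left := fun a ha =>
    (Groth.Agent.Lib.Seat83.LftField.chart_noeth_jacobson k X p hp a ha).1
  have hJ : ∀ {U : Over (Spec (CommRingCat.of k))}
      (a : (AlgSp.yon (Spec (CommRingCat.of k))).obj U ⟶ X.obj), AlgSp.RepWith @Etale a →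
      JacobsonSpace ↥U.left := fun a ha =>
    (Groth.Agent.Lib.Seat83.LftField.chart_noeth_jacobson k X p hp a ha).2
  refine ⟨⟨fun h => ⟨?_, ?_⟩, fun h => ?_⟩, ⟨fun h => ?_, fun h => ?_⟩, fun hX => ⟨fun h => ?_, fun h => ?_⟩⟩
  · exact Groth.Agent.Lib.Seat83.LftField.isClosed_of_isOpen X hN hJ x h
  · intro x' hs
    exact hs.mem_open h rfl
  · exact Groth.Agent.Lib.Seat83.LftField.isOpen_of_isClosed_of_forall_specializes X hN x h.1 h.2
  · obtain ⟨A, a, hae, has⟩ := X.property.atlas
    obtain ⟨a0, ha0⟩ := Groth.Agent.S10177.surjective_ofPt a has x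
    haveI := hN a hae
    refine ⟨A, a, a0, hae, ha0, ?_⟩
    have h1 := (Groth.Agent.Lib.Seat83.LftField.isOpen_chart_point_of_isOpen X hN hJ x h a hae a0 ha0).2
    exact le_antisymm
      ((Groth.Agent.Lib.Helper3.GrpHomQF.isOpen_singleton_iff_localDim_le_zero A.left a0).1 h1)
      (Groth.Agent.Lib.Helper7.TopDim.localDim_nonneg a0)
  · obtain ⟨U, a, u, ha, hu, hdim⟩ := h
    haveI := hN a ha
    rw [← hu]
    exact Groth.Agent.Lib.Seat83.LftField.isOpen_of_chart_point a ha u
      ((Groth.Agent.Lib.Helper3.GrpHomQF.isOpen_singleton_iff_localDim_le_zero U.left u).2 hdim.le)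
  · exact Groth.Agent.Lib.Seat83.LftField.isOpen_of_localDim_points_eq_zero X hN hX x h
  · exact Groth.Agent.Lib.Seat83.LftField.localDim_eq_zero_of_isOpen x h


end Groth.Agent.S10391
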