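import Groth.Statements.S10392
import Groth.Agent.Lib.Seat83LftField

set_option autoImplicit false
set_option linter.style.haveILetI false
universe u
open CategoryTheory CategoryTheory.Limits AlgebraicGeometry Topology TopologicalSpace
open AlgSp

namespace Groth.Agent.S10392

/-- Let k be a field and X a nonempty algebraic space over k which is locally of finite type. Then (2)
|X| is discrete if and only if (4) dim X = 0, and these imply (3) dim |X| = 0; if X is decent then
(3) implies (2) and (1) |X| finite implies (4). (The published statement asserts (2) ⇔ (3) ⇔ (4) for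
every such X and does not exclude the empty space; for the quotient of the affine line over a field
of characteristic zero by the translation action of the integers, |X| is an infinite set with the
indiscrete topology, so (3) holds while (2) and (4) fail, and for the empty space (2) holds while
dim X = ⊥. The equivalence with local quasi-finiteness of X → Spec k is not part of this row.) -/
theorem result (k : Type u) [Field k] (X : AlgSp.Space (Spec (CommRingCat.of k)))
    (p : X.obj ⟶ (AlgSp.yon (Spec (CommRingCat.of k))).obj (Over.mk (𝟙 _))) (hp : AlgSp.LocP @LocallyOfFiniteType p) [Nonempty (AlgSp.Points X.obj)] :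
    (DiscreteTopology (AlgSp.Points X.obj) ↔ AlgSp.dim X.obj = 0) ∧
      (DiscreteTopology (AlgSp.Points X.obj) → topologicalKrullDim (AlgSp.Points X.obj) = 0) ∧
      (AlgSp.IsDecent X.obj → topologicalKrullDim (AlgSp.Points X.obj) = 0 → DiscreteTopology (AlgSp.Points X.obj)) ∧
      (AlgSp.IsDecent X.obj → Finite (AlgSp.Points X.obj) → AlgSp.dim X.obj = 0) := by
  have hN : ∀ {U : Over (Spec (CommRingCat.of k))}
      (a : (AlgSp.yon (Spec (CommRingCat.of k))).obj U ⟶ X.obj), AlgSp.RepWith @Etale a →
      IsLocallyNoetherian U.left := fun a ha =>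
    (Groth.Agent.Lib.Seat83.LftField.chart_noeth_jacobson k X p hp a ha).1
  have hJ : ∀ {U : Over (Spec (CommRingCat.of k))}
      (a : (AlgSp.yon (Spec (CommRingCat.of k))).obj U ⟶ X.obj), AlgSp.RepWith @Etale a →
      JacobsonSpace ↥U.left := fun a ha =>
    (Groth.Agent.Lib.Seat83.LftField.chart_noeth_jacobson k X p hp a ha).2
  obtain ⟨A, a, hae, has⟩ := X.property.atlas
  haveI := hN a hae
  haveI := hJ a hae
  haveI : Nonempty ↥A.left := by
    obtain ⟨x⟩ := ‹Nonempty (AlgSp.Points X.obj)›
    obtain ⟨a0, -⟩ := Groth.Agent.S10177.surjective_ofPt a has x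
    exact ⟨a0⟩
  -- discrete ⇒ dimension zero
  have D1 : DiscreteTopology (AlgSp.Points X.obj) → AlgSp.dim X.obj = 0 := by
    intro hd
    apply le_antisymm
    · refine iSup_le fun U => iSup_le fun b => iSup_le fun hb => ?_
      haveI : DiscreteTopology ↥U.left := discreteTopology_iff_isOpen_singleton.2 fun u =>
        (Groth.Agent.Lib.Seat83.LftField.isOpen_chart_point_of_isOpen X hN hJ
          (AlgSp.Points.ofPt b u) (isOpen_discrete _) b hb u rfl).2
      exact topologicalKrullDim_zero_of_discreteTopology ↥U.left
    · exact le_iSup_of_le A (le_iSup_of_le a (le_iSup_of_le hae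
        Groth.Agent.Lib.Helper7.TopDim.topologicalKrullDim_nonneg))
  refine ⟨⟨D1, fun h => ?_⟩, fun hd => ?_, fun hX h => ?_, fun hX hfin => ?_⟩
  · have hA : topologicalKrullDim ↥A.left ≤ 0 := by
      rw [← h]
      exact le_iSup_of_le A (le_iSup_of_le a (le_iSup_of_le hae le_rfl))
    refine discreteTopology_iff_isOpen_singleton.2 fun x => ?_
    obtain ⟨a0, rfl⟩ := Groth.Agent.S10177.surjective_ofPt a has x
    refine Groth.Agent.Lib.Seat83.LftField.isOpen_of_chart_point a hae a0 ?_
    exact (Groth.Agent.Lib.Helper3.GrpHomQF.isOpen_singleton_iff_localDim_le_zero A.left a0).2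
      ((Groth.Agent.Lib.Helper7.TopDim.localDim_le_dim a0).trans hA)
  · exact le_antisymm (topologicalKrullDim_zero_of_discreteTopology _)
      Groth.Agent.Lib.Helper7.TopDim.topologicalKrullDim_nonneg
  · refine discreteTopology_iff_isOpen_singleton.2 fun x => ?_
    refine Groth.Agent.Lib.Seat83.LftField.isOpen_of_localDim_points_eq_zero X hN hX x ?_
    exact le_antisymm ((Groth.Agent.Lib.Helper7.TopDim.localDim_le_dim x).trans h.le)
      (Groth.Agent.Lib.Helper7.TopDim.localDim_nonneg x)
  · haveI : JacobsonSpace (AlgSp.Points X.obj) :=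
      Groth.Agent.Lib.Seat83.Jacobson.jacobsonSpace_points X hX a hae has
    exact D1 inferInstance


end Groth.Agent.S10392
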