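import Groth.Statements.S10395
import Groth.Agent.S10394
import Groth.Agent.S10352
import Groth.Agent.Lib.Seat45Charts
import Groth.Agent.Lib.Seat45EtDim

set_option autoImplicit false
set_option linter.style.haveILetI false
universe u
open CategoryTheory CategoryTheory.Limits AlgebraicGeometry Topology TopologicalSpace
open AlgSp

namespace Groth.Agent.S10395

/-- (1) ⇔ (2) ⇔ (3): let S be a scheme, X a decent algebraic space over S, and (Y, y) ⟶ (X, x) an etale
morphism of pointed algebraic spaces. Then the point y is a generic point of some irreducible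
component of |Y| if and only if the point x is a generic point of some irreducible component of |X|. -/
theorem result {S : Scheme.{u}} {X Y : AlgSp.Space S}
    (hX : AlgSp.IsDecent X.obj) (f : Y ⟶ X) (hf : AlgSp.IsEtaleMor f.hom) (y : AlgSp.Points Y.obj) :
    (∃ T ∈ irreducibleComponents (AlgSp.Points Y.obj), IsGenericPoint y T) ↔
      (∃ T ∈ irreducibleComponents (AlgSp.Points X.obj), IsGenericPoint (AlgSp.Points.map f.hom y) T) := by
  have hY : AlgSp.IsDecent Y.obj := Groth.Agent.S10352.result f hf hX
  have hQ : ∀ {W V : Scheme.{u}} (g : W ⟶ V) [Etale g] (w : ↥W),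
      ringKrullDim ↥(W.presheaf.stalk w) = 0 ↔ ringKrullDim ↥(V.presheaf.stalk (g w)) = 0 :=
    fun g _ w => by rw [Groth.Agent.Lib.Seat45.EtDim.ringKrullDim_stalk_eq_of_etale g w]
  rw [Groth.Agent.S10394.result Y hY y, Groth.Agent.S10394.result X hX (AlgSp.Points.map f.hom y)]
  exact Groth.Agent.Lib.Seat45.Charts.hasAt_iff_of_isEtaleMor
    (fun U u => ringKrullDim ↥(U.presheaf.stalk u) = 0) hQ Y.property X.property f.hom hf y

end Groth.Agent.S10395
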