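import Groth.Statements.S10399
import Groth.Agent.Lib.Seat45QFinSp
import Groth.Agent.Lib.Seat45Noeth

set_option autoImplicit false
set_option linter.style.haveILetI false
universe u
open CategoryTheory CategoryTheory.Limits AlgebraicGeometry Topology TopologicalSpace
open AlgSp

namespace Groth.Agent.S10399

/-- Let f : X ⟶ Y be a morphism locally of finite type of algebraic spaces over a scheme S and y a
codimension 0 point of Y. The following are equivalent: (1) every point of |X| over y has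
codimension 0 on X; (2) f is quasi-finite at all points over y; (3) f is quasi-finite at all
codimension 0 points of X over y. Stated as (1) ⇔ (2) together with (3) ⇒ (1). -/
theorem result {S : Scheme.{u}} {X Y : AlgSp.Space S} (f : X ⟶ Y)
    (hf : AlgSp.LocP @LocallyOfFiniteType f.hom) (y : AlgSp.Points Y.obj) (hy : AlgSp.HasAt (fun U u => ringKrullDim ↥(U.presheaf.stalk u) = 0) Y.obj y) :
    ((∀ x : AlgSp.Points X.obj, AlgSp.Points.map f.hom x = y → AlgSp.HasAt (fun U u => ringKrullDim ↥(U.presheaf.stalk u) = 0) X.obj x) ↔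
        (∀ x : AlgSp.Points X.obj, AlgSp.Points.map f.hom x = y → AlgSp.HasAtMor (fun U _ h u => ∃ W : U.Opens, u ∈ W ∧ LocallyQuasiFinite (W.ι ≫ h) ∧ LocallyOfFiniteType (W.ι ≫ h)) f.hom x)) ∧
      ((∀ x : AlgSp.Points X.obj, AlgSp.Points.map f.hom x = y → AlgSp.HasAt (fun U u => ringKrullDim ↥(U.presheaf.stalk u) = 0) X.obj x → AlgSp.HasAtMor (fun U _ h u => ∃ W : U.Opens, u ∈ W ∧ LocallyQuasiFinite (W.ι ≫ h) ∧ LocallyOfFiniteType (W.ι ≫ h)) f.hom x) →
        ∀ x : AlgSp.Points X.obj, AlgSp.Points.map f.hom x = y → AlgSp.HasAt (fun U u => ringKrullDim ↥(U.presheaf.stalk u) = 0) X.obj x) := by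
  open Groth.Agent.Lib.Seat45.QFin Groth.Agent.Lib.Seat45.Noeth Groth.Agent.Lib.Seat45.ChartsMor
    Groth.Agent.Lib.Seat45.LocFinIrr in
  have hQ : (fun U _ h u => ∃ W : U.Opens, u ∈ W ∧ LocallyQuasiFinite (W.ι ≫ h) ∧
      LocallyOfFiniteType (W.ι ≫ h)) = QFNear := rfl
  rw [hQ]
  -- the stalk of a chart of `Y` at a point over `y` has dimension zero
  have hyV : ∀ {V : Over S} (b : (AlgSp.yon S).obj V ⟶ Y.obj), AlgSp.RepWith @Etale b → ∀ v : ↥V.left,
      AlgSp.Points.ofPt b v = y → ringKrullDim ↥(V.left.presheaf.stalk v) = 0 := by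
    intro V b hb v hv
    rw [← hv] at hy
    exact (hasAt_stalkDim_iff Y.property b hb v 0).1 hy
  refine ⟨⟨fun h1 x hxy => ?_, fun h2 x hxy => ?_⟩, fun h3 x hxy => ?_⟩
  · obtain ⟨U, V, a, b, h, u, ha, hb, hc, rfl⟩ := exists_diagram X.property Y.property f.hom x
    haveI : LocallyOfFiniteType h.left := hf a b h ha hb hc
    refine (hasAtMor_qfNear_ofPt_iff X.property Y.property f.hom hf a b h ha hb hc u).2 ?_
    refine quasiFiniteAt_of_forall_stalkDim_eq_zero h.left u fun u' hu' => ?_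
    have hx' : AlgSp.Points.map f.hom (AlgSp.Points.ofPt a u') = y := by
      rw [← ofPt_diagram f.hom a b h hc u', hu', ofPt_diagram f.hom a b h hc u, hxy]
    exact (hasAt_stalkDim_iff X.property a ha u' 0).1 (h1 _ hx')
  · obtain ⟨U, V, a, b, h, u, ha, hb, hc, rfl⟩ := exists_diagram X.property Y.property f.hom x
    haveI : LocallyOfFiniteType h.left := hf a b h ha hb hc
    have hq := (hasAtMor_qfNear_ofPt_iff X.property Y.property f.hom hf a b h ha hb hc u).1 (h2 _ hxy)
    have hle := ringKrullDim_stalk_le_of_quasiFiniteAt h.left u hq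
    rw [hyV b hb (h.left u) (by rw [ofPt_diagram f.hom a b h hc u, hxy])] at hle
    exact (hasAt_stalkDim_iff X.property a ha u 0).2 (le_antisymm hle ringKrullDim_nonneg_of_nontrivial)
  · obtain ⟨U, V, a, b, h, u, ha, hb, hc, rfl⟩ := exists_diagram X.property Y.property f.hom x
    haveI : LocallyOfFiniteType h.left := hf a b h ha hb hc
    obtain ⟨u₀, hu₀max, hu₀u⟩ := exists_maxPt_specializes u
    have hv : ringKrullDim ↥(V.left.presheaf.stalk (h.left u)) = 0 :=
      hyV b hb (h.left u) (by rw [ofPt_diagram f.hom a b h hc u, hxy])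
    have hvmax : MaxPt (h.left u) := (maxPt_iff_stalkDim_eq_zero _).2 hv
    have hhu₀ : h.left u₀ = h.left u := hvmax _ (hu₀u.map h.left.continuous)
    have hx₀ : AlgSp.Points.map f.hom (AlgSp.Points.ofPt a u₀) = y := by
      rw [← ofPt_diagram f.hom a b h hc u₀, hhu₀, ofPt_diagram f.hom a b h hc u, hxy]
    have hdim₀ : ringKrullDim ↥(U.left.presheaf.stalk u₀) = 0 := (maxPt_iff_stalkDim_eq_zero _).1 hu₀max
    have hq₀ := (hasAtMor_qfNear_ofPt_iff X.property Y.property f.hom hf a b h ha hb hc u₀).1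
      (h3 _ hx₀ ((hasAt_stalkDim_iff X.property a ha u₀ 0).2 hdim₀))
    have heq : u = u₀ := eq_of_specializes_of_quasiFiniteAt h.left hq₀ hu₀u hhu₀.symm
    rw [heq]
    exact (hasAt_stalkDim_iff X.property a ha u₀ 0).2 hdim₀

end Groth.Agent.S10399
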