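import Groth.Statements.S1040
import Groth.Agent.Lib.Helper17DBrown2
import Groth.Agent.Lib.Helper23QCohAbelian
import Groth.Agent.Lib.Helper21ModTensor3
import Groth.Agent.Lib.Seat5HomologyCoprod
-- import your own Groth.Agent.* helpers here

set_option autoImplicit false
universe u
open CategoryTheory CategoryTheory.Limits AlgebraicGeometry
attribute [local instance] HasDerivedCategory.standard
open Perf

namespace Groth.Agent.S1040

/-- Let X be a scheme and Kᵢ a family of objects of D(O_X) with quasi-coherent cohomology sheaves,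
indexed by a small type, whose direct sum exists in D(O_X). Then ∐ Kᵢ has quasi-coherent cohomology
sheaves. -/
theorem result (X : Scheme.{u}) {ι : Type u} (K : ι → DCoh.D X) (hK : ∀ i, DCoh.IsQCohD (K i)) [HasCoproduct K] :
    DCoh.IsQCohD (∐ K) := by
  have : IsGrothendieckAbelian.{u} X.Modules :=
    Groth.Agent.Lib.Helper21.ModTensor3.isGrothendieckAbelian X.sheaf
  have : HasFiniteBiproducts X.Modules := HasFiniteBiproducts.of_hasFiniteProducts
  have : AB4OfSize.{u} X.Modules := AB4.of_AB5 _
  intro n
  -- representatives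
  let F : ι → CochainComplex X.Modules ℤ := fun j => (DerivedCategory.Q).objPreimage (K j)
  let e : ∀ j, DerivedCategory.Q.obj (F j) ≅ K j := fun j => (DerivedCategory.Q).objObjPreimageIso (K j)
  -- the coproduct in the derived category
  have hc := Groth.Agent.Lib.Helper17.DBrown.isColimitQSigma (A := X.Modules) F
  let c' : Cofan K := Cofan.mk (DerivedCategory.Q.obj (∐ F))
    (fun j => (e j).inv ≫ DerivedCategory.Q.map (Sigma.ι F j))
  have hc' : IsColimit c' := by
    refine Cofan.IsColimit.mk _ (fun s => Cofan.IsColimit.desc hc (fun j => (e j).hom ≫ s.inj j))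
      (fun s j => ?_) (fun s m hm => ?_)
    · have h := Cofan.IsColimit.fac hc (fun j => (e j).hom ≫ s.inj j) j
      dsimp at h
      dsimp [c']
      rw [Category.assoc, h, Iso.inv_hom_id_assoc]
    · refine Cofan.IsColimit.hom_ext hc _ _ (fun j => ?_)
      have h := Cofan.IsColimit.fac hc (fun j => (e j).hom ≫ s.inj j) j
      dsimp at h
      have := hm j
      dsimp [c'] at this
      dsimp
      rw [h, ← this, Category.assoc, Iso.hom_inv_id_assoc]
  let φ : ∐ K ≅ DerivedCategory.Q.obj (∐ F) :=
    IsColimit.coconePointUniqueUpToIso (colimit.isColimit _) hc'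
  -- compute the homology
  have h1 : DCoh.HD (∐ K) n ≅ (∐ F).homology n :=
    (DerivedCategory.homologyFunctor X.Modules n).mapIso φ ≪≫
      (DerivedCategory.homologyFunctorFactors X.Modules n).app (∐ F)
  have h2 := Groth.Agent.Lib.Seat5.HomologyCoprod.homologyIsoColimit F n
  have h3 : ∀ j : Discrete ι,
      ((Groth.Agent.Lib.Seat5.HomologyCoprod.T F n).homology.obj j).IsQuasicoherent := by
    rintro ⟨j⟩
    have h4 := Groth.Agent.Lib.Seat5.HomologyCoprod.homologyObjIso F n j
    have h5 : (F j).homology n ≅ DCoh.HD (K j) n :=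
      ((DerivedCategory.homologyFunctorFactors X.Modules n).app (F j)).symm ≪≫
        (DerivedCategory.homologyFunctor X.Modules n).mapIso (e j)
    exact (SheafOfModules.isQuasicoherent X.ringCatSheaf).prop_of_iso (h4 ≪≫ h5).symm (hK j n)
  have h6 := Groth.Agent.Lib.Helper23.QCohLocal.isQuasicoherent_colimit
    (Groth.Agent.Lib.Seat5.HomologyCoprod.T F n).homology h3
  exact (SheafOfModules.isQuasicoherent X.ringCatSheaf).prop_of_iso (h1 ≪≫ h2).symm h6

end Groth.Agent.S1040
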