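import Groth.Statements.S10402
import Mathlib
import Groth.Agent.S10176
import Groth.Agent.S10555
import Groth.Agent.Lib.Helper12FTPoint
-- import your own Groth.Agent.* helpers here

set_option autoImplicit false
universe u
open CategoryTheory CategoryTheory.Limits AlgebraicGeometry Topology TopologicalSpace
open AlgSp

namespace Groth.Agent.S10402

/-- Closed points descend along étale surjections from Jacobson schemes: if `π : T ⟶ W` is étale and
surjective, `T` is Jacobson and `t` is a closed point of `T`, then `π t` is a closed point of `W`. -/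
theorem isClosed_singleton_image {T W : Scheme.{u}} (π : T ⟶ W) [Etale π] [Surjective π]
    [JacobsonSpace T] (t : T) (ht : IsClosed ({t} : Set T)) : IsClosed ({π t} : Set W) := by
  have hlqf : LocallyQuasiFinite π := Groth.Agent.S10555.lqf_of_etale π
  -- Step 1: `{π t}` is locally closed
  have hci : IsClosedImmersion (T.fromSpecResidueField t) :=
    isClosed_singleton_iff_isClosedImmersion.mp ht
  have hlft : LocallyOfFiniteType (T.fromSpecResidueField t ≫ π) := inferInstance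
  have hpt : ∀ s : Spec (T.residueField t), (T.fromSpecResidueField t ≫ π) s = π t := fun s => by
    rw [Scheme.Hom.comp_apply, Scheme.fromSpecResidueField_apply]
  obtain ⟨V, hV, hcl⟩ : ∃ (V : W.Opens) (hV : π t ∈ V), IsClosed ({⟨π t, hV⟩} : Set V) := by
    obtain ⟨V, hV, hcl⟩ := Groth.Agent.Lib.Helper12.FTPoint.exists_opens_isClosed_singleton
      (K' := T.residueField t) (T.fromSpecResidueField t ≫ π)
    generalize hw0 : (T.fromSpecResidueField t ≫ π)
      (IsLocalRing.closedPoint (T.residueField t)) = w0 at hV hcl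
    have : w0 = π t := hw0.symm.trans (hpt _)
    subst this
    exact ⟨V, hV, hcl⟩
  have hloc : IsLocallyClosed ({π t} : Set W) := by
    obtain ⟨C, hC, hCe⟩ := isClosed_induced_iff.mp hcl
    refine ⟨V, C, V.2, hC, ?_⟩
    ext y
    constructor
    · rintro rfl
      refine ⟨hV, ?_⟩
      have : (⟨π t, hV⟩ : V) ∈ Subtype.val ⁻¹' C := (Set.ext_iff.mp hCe _).mpr rfl
      exact this
    · rintro ⟨hyV, hyC⟩
      have : (⟨y, hyV⟩ : V) ∈ ({⟨π t, hV⟩} : Set V) := (Set.ext_iff.mp hCe _).mp hyC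
      exact congrArg Subtype.val this
  have hfib : IsLocallyClosed (π ⁻¹' {π t}) := hloc.preimage π.continuous
  have hdisc : _root_.IsDiscrete (π ⁻¹' {π t}) := π.isDiscrete_preimage_singleton (π t)
  -- Step 2: no proper specializations
  refine isClosed_of_closure_subset fun w' hw' => ?_
  have hspec : π t ⤳ w' := specializes_iff_mem_closure.mpr hw'
  obtain ⟨t', rfl⟩ := π.surjective w'
  obtain ⟨t'', ht''t', ht''⟩ := (Flat.generalizingMap π) hspec
  have hlc : IsLocallyClosed ({t''} : Set T) := by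
    have hd : DiscreteTopology ↥(π ⁻¹' {π t}) := hdisc.to_subtype
    have hmem : t'' ∈ π ⁻¹' {π t} := ht''
    have hop : IsOpen ({⟨t'', hmem⟩} : Set ↥(π ⁻¹' {π t})) := isOpen_discrete _
    obtain ⟨O, hO, hOe⟩ := isOpen_induced_iff.mp hop
    have : ({t''} : Set T) = O ∩ π ⁻¹' {π t} := by
      ext y
      constructor
      · rintro rfl
        refine ⟨?_, hmem⟩
        have : (⟨y, hmem⟩ : ↥(π ⁻¹' {π t})) ∈ Subtype.val ⁻¹' O := (Set.ext_iff.mp hOe _).mpr rfl
        exact this
      · rintro ⟨hyO, hyf⟩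
        have : (⟨y, hyf⟩ : ↥(π ⁻¹' {π t})) ∈ ({⟨t'', hmem⟩} : Set ↥(π ⁻¹' {π t})) :=
          (Set.ext_iff.mp hOe _).mp hyO
        exact congrArg Subtype.val this
    rw [this]
    exact hO.isLocallyClosed.inter hfib
  have hcl'' : IsClosed ({t''} : Set T) := isClosed_singleton_of_isLocallyClosed_singleton hlc
  have hmem' : t' ∈ ({t''} : Set T) := ht''t'.mem_closed hcl'' (Set.mem_singleton _)
  have : t' = t'' := hmem'
  subst this
  exact ht''

theorem result {S : Scheme.{u}} (X : AlgSp.Space S) (hX : AlgSp.EtaleLocally (fun U => JacobsonSpace ↥U) X.obj)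
    (x : AlgSp.Points X.obj) (hx : AlgSp.HasAt (fun U u => IsClosed ({u} : Set ↥U)) X.obj x) {W : Over S} (g : (AlgSp.yon S).obj W ⟶ X.obj)
    (hg : AlgSp.LocP @LocallyOfFiniteType g) (hxW : x ∈ Set.range (AlgSp.Points.ofPt g)) :
    ∃ w : ↥W.left, IsClosed ({w} : Set ↥W.left) ∧ AlgSp.Points.ofPt g w = x := by
  obtain ⟨U₀, p₀, hp₀e, hp₀s, hU₀⟩ := hX
  obtain ⟨U, a, u, hae, hau, hu⟩ := hx
  obtain ⟨w₀, hw₀⟩ := hxW
  have hJ₀ : JacobsonSpace ↥U₀.left := hU₀
  -- Step 2: a closed point `u₀` of `U₀` over `x`.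
  obtain ⟨u₀, hu₀cl, hu₀x⟩ : ∃ u₀ : ↥U₀.left, IsClosed ({u₀} : Set ↥U₀.left) ∧
      AlgSp.Points.ofPt p₀ u₀ = x := by
    -- `U₁ = U ×_X U₀`
    have sq := hp₀e.rep.isPullback' a
    -- sq : IsPullback (yon.map fst') (yon.map snd) p₀ a
    set pr₀ := hp₀e.rep.fst' a with hpr₀
    set pr := hp₀e.rep.snd a with hpr
    have hpr_e : Etale pr.left := hp₀e.2 a _ pr sq
    have hpr_s : Surjective pr.left := hp₀s.2 a _ pr sq
    have hpr₀_e : Etale pr₀.left := hae.2 p₀ _ pr₀ sq.flip
    have hJ₁ : JacobsonSpace ↥(hp₀e.rep.pullback a).left :=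
      LocallyOfFiniteType.jacobsonSpace pr₀.left
    have hne : (pr.left ⁻¹' {u}).Nonempty := by
      obtain ⟨y, hy⟩ := pr.left.surjective u
      exact ⟨y, hy⟩
    have hclf : IsClosed (pr.left ⁻¹' {u}) := hu.preimage pr.left.continuous
    obtain ⟨u₁, hu₁, hu₁cl⟩ := nonempty_inter_closedPoints hne hclf.isLocallyClosed
    refine ⟨pr₀.left u₁, pr₀.left.closePoints_subset_preimage_closedPoints hu₁cl, ?_⟩
    rw [← Groth.Agent.S10176.ofPt_map_comp, sq.w, Groth.Agent.S10176.ofPt_map_comp]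
    rw [show pr.left u₁ = u from hu₁, hau]
  -- Step 1/3: `T = W ×_X U₀`
  have sq := hp₀e.rep.isPullback' g
  set q₀ := hp₀e.rep.fst' g with hq₀
  set q := hp₀e.rep.snd g with hq
  have hq_e : Etale q.left := hp₀e.2 g _ q sq
  have hq_s : Surjective q.left := hp₀s.2 g _ q sq
  have hq_eR : AlgSp.RepWith @Etale ((AlgSp.yon S).map q) :=
    (AlgSp.repWith_isStableUnderBaseChange @Etale).of_isPullback sq hp₀e
  have hq₀_lft : LocallyOfFiniteType q₀.left := hg _ p₀ q₀ hq_eR hp₀e sq.w.symm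
  have hJT : JacobsonSpace ↥(hp₀e.rep.pullback g).left := LocallyOfFiniteType.jacobsonSpace q₀.left
  obtain ⟨t₀, ht₀u, ht₀w⟩ := Groth.Agent.S10176.exists_point_of_isPullback_yon sq u₀ w₀
    (hu₀x.trans hw₀.symm)
  have hclf : IsClosed (q₀.left ⁻¹' {u₀}) := hu₀cl.preimage q₀.left.continuous
  obtain ⟨t, ht, htcl⟩ := nonempty_inter_closedPoints ⟨t₀, ht₀u⟩ hclf.isLocallyClosed
  refine ⟨q.left t, isClosed_singleton_image q.left t htcl, ?_⟩
  rw [← Groth.Agent.S10176.ofPt_map_comp, ← sq.w, Groth.Agent.S10176.ofPt_map_comp]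
  rw [show q₀.left t = u₀ from ht, hu₀x]

end Groth.Agent.S10402
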