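import Groth.Statements.S10409
import Groth.Agent.Lib.Seat46DecentPt

set_option autoImplicit false
universe u
open CategoryTheory CategoryTheory.Limits AlgebraicGeometry Topology TopologicalSpace
open AlgSp

namespace Groth.Agent.S10409

/-- (3) ⇔ (4): for an algebraic space X over a scheme S and x ∈ |X|, there is a monomorphism Spec k ⟶ X
representing x if and only if there is a morphism Spec k' ⟶ X representing x whose
self-fibre-product has etale and quasi-compact projections to Spec k'. -/
theorem result {S : Scheme.{u}} (X : AlgSp.Space S)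
    (x : AlgSp.Points X.obj) :
    (∃ p : AlgSp.FieldPt X.obj, AlgSp.Points.mk p = x ∧ Mono p.toHom) ↔
      ∃ q : AlgSp.FieldPt X.obj, AlgSp.Points.mk q = x ∧
        ∀ (P : AlgSp.Sp S) (fst snd : P ⟶ (AlgSp.yon S).obj q.pt), IsPullback fst snd q.toHom q.toHom →
          AlgSp.RepWith @Etale fst ∧ AlgSp.RepWith @QuasiCompact fst := by
  constructor
  · rintro ⟨p, hp, hm⟩
    refine ⟨p, hp, fun P fst snd sq => ?_⟩
    haveI := hm
    haveI : IsIso fst := IsKernelPair.isIso_of_mono sq
    haveI := AlgSp.repWith_isMultiplicative (S := S) @Etale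
    haveI := AlgSp.repWith_isMultiplicative (S := S) @QuasiCompact
    exact ⟨MorphismProperty.of_isIso (AlgSp.RepWith @Etale) fst,
      MorphismProperty.of_isIso (AlgSp.RepWith @QuasiCompact) fst⟩
  · rintro ⟨q, hq, hprop⟩
    obtain ⟨hE, hQ⟩ := hprop (pullback q.toHom q.toHom) (pullback.fst _ _) (pullback.snd _ _)
      (IsPullback.of_hasPullback _ _)
    obtain ⟨R, r, e, sqR⟩ := hE.1 (𝟙 ((AlgSp.yon S).obj q.pt))
    haveI : IsIso e := sqR.isIso_fst_of_isIso
    haveI : Etale r.left := hE.2 _ _ _ sqR
    haveI : QuasiCompact r.left := hQ.2 _ _ _ sqR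
    obtain ⟨t, ht⟩ := (AlgSp.yon S).map_surjective (e ≫ pullback.snd q.toHom q.toHom)
    have hr : (AlgSp.yon S).map r = e ≫ pullback.fst q.toHom q.toHom := by
      rw [sqR.w, Category.comp_id]
    have sq : IsPullback ((AlgSp.yon S).map t) ((AlgSp.yon S).map r) q.toHom q.toHom := by
      rw [ht, hr]
      exact IsPullback.of_iso (IsPullback.of_hasPullback q.toHom q.toHom).flip (asIso e).symm
        (Iso.refl _) (Iso.refl _) (Iso.refl _) (by simp) (by simp) (by simp) (by simp)
    haveI : CompactSpace ↥q.pt.left := inferInstanceAs (CompactSpace ↥(Spec (CommRingCat.of q.K)))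
    haveI : CompactSpace ↥R.left := QuasiCompact.compactSpace_of_compactSpace r.left
    obtain ⟨p, hp, hm, -⟩ := Groth.Agent.Lib.Seat46.DecentPt.exists_mono_fieldPt q r t sq
    exact ⟨p, hp.trans hq, hm⟩

end Groth.Agent.S10409
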