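import Groth.Statements.S10410
import Groth.Agent.Lib.Seat83FinFibre
import Groth.Agent.S10408
import Groth.Agent.S10176

set_option autoImplicit false
set_option linter.style.haveILetI false
universe u
open CategoryTheory CategoryTheory.Limits AlgebraicGeometry Topology TopologicalSpace
open AlgSp

namespace Groth.Agent.S10410

/-- in a pullback of a monomorphic field point `p` along a chart `φ`, the points of the fibre product map
injectively into the fibre of `|U| → |X|` over the class of `p`. -/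
lemma aux_inj {S : Scheme.{u}} {F : AlgSp.Sp S} (p : AlgSp.FieldPt F) [Mono p.toHom] {U T : Over S}
    (φ : (AlgSp.yon S).obj U ⟶ F) (c : T ⟶ p.pt) (g : T ⟶ U)
    (sq : IsPullback ((AlgSp.yon S).map c) ((AlgSp.yon S).map g) p.toHom φ) :
    Function.Injective g.left ∧ ∀ w : ↥T.left, AlgSp.Points.ofPt φ (g.left w) = AlgSp.Points.mk p := by
  constructor
  · haveI : Mono ((AlgSp.yon S).map g) := sq.mono_snd_of_mono
    haveI : Mono g := (AlgSp.yon S).mono_of_mono_map inferInstance
    haveI : Mono g.left := inferInstance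
    exact g.left.injective
  · intro w
    rw [← Groth.Agent.S10176.ofPt_map_comp, ← sq.w, Groth.Agent.S10176.ofPt_map_comp]
    exact AlgSp.Points.ofPt_toHom p _

/-- Let X be an algebraic space over a scheme S, x ∈ |X|, and φ : U ⟶ X etale with U a scheme. Then x
lies in the image of |U| and the fibres of |U| → |X| and |U ×_X U| → |X| over x are finite, if and
only if x is represented by a monomorphism Spec k ⟶ X such that Spec k ×_X U is a nonempty scheme
finite over k. -/
theorem result {S : Scheme.{u}} (X : AlgSp.Space S) (x : AlgSp.Points X.obj)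
    {U : Over S} (φ : (AlgSp.yon S).obj U ⟶ X.obj) (hφ : AlgSp.RepWith @Etale φ) :
    (x ∈ Set.range (AlgSp.Points.ofPt φ) ∧ (AlgSp.Points.ofPt φ ⁻¹' {x}).Finite ∧
        ∀ (R : Over S) (s t : R ⟶ U), IsPullback ((AlgSp.yon S).map t) ((AlgSp.yon S).map s) φ φ →
          (AlgSp.Points.ofPt ((AlgSp.yon S).map t ≫ φ) ⁻¹' {x}).Finite) ↔
      ∃ p : AlgSp.FieldPt X.obj, AlgSp.Points.mk p = x ∧ Mono p.toHom ∧
        ∀ (T : Over S) (c : T ⟶ p.pt) (snd : (AlgSp.yon S).obj T ⟶ (AlgSp.yon S).obj U),
          IsPullback ((AlgSp.yon S).map c) snd p.toHom φ → Nonempty ↥T.left ∧ IsFinite c.left := by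
  constructor
  · rintro ⟨⟨u, hu⟩, hfibU, hfibR⟩
    have hfin : ∀ (R : Over S) (s t : R ⟶ U),
        IsPullback ((AlgSp.yon S).map t) ((AlgSp.yon S).map s) φ φ →
          {r : ↥R.left | s.left r = u ∧ t.left r = u}.Finite := by
      intro R s t sq
      refine (hfibR R s t sq).subset ?_
      rintro r ⟨-, hr⟩
      change AlgSp.Points.ofPt ((AlgSp.yon S).map t ≫ φ) r = x
      rw [Groth.Agent.S10176.ofPt_map_comp, hr, hu]
    obtain ⟨p, c₀, -, hx, hmono, -⟩ :=
      Groth.Agent.Lib.Seat83.FinFibre.exists_mono_of_finite_fibre X.property φ hφ u u rfl hfin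
    haveI := hmono
    refine ⟨p, hx.trans hu, hmono, ?_⟩
    intro T c snd' sq
    obtain ⟨g, rfl⟩ := (AlgSp.yon S).map_surjective snd'
    obtain ⟨hinj, himg⟩ := aux_inj p φ c g sq
    constructor
    · obtain ⟨s₀⟩ : Nonempty ↥(Spec (CommRingCat.of p.K)) := ⟨IsLocalRing.closedPoint p.K⟩
      have e : AlgSp.Points.ofPt p.toHom s₀ = AlgSp.Points.ofPt φ u := by
        rw [AlgSp.Points.ofPt_toHom, hx]
      obtain ⟨y, -, -⟩ := Groth.Agent.S10176.exists_point_of_isPullback_yon sq s₀ u e
      exact ⟨y⟩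
    · haveI : Etale c.left := hφ.2 _ _ _ sq.flip
      haveI : Finite ↥T.left := by
        haveI := hfibU.to_subtype
        exact Finite.of_injective
          (fun w => (⟨g.left w, by
            change AlgSp.Points.ofPt φ (g.left w) = x
            rw [himg w, hx, hu]⟩ : ↥(AlgSp.Points.ofPt φ ⁻¹' {x})))
          (fun w w' h => hinj (congrArg Subtype.val h))
      haveI : CompactSpace ↥T.left := inferInstance
      exact (Groth.Agent.Lib.Seat46.FieldQuot.isAffine_isFinite_of_etale_compact (K := p.K) c.left).2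
  · rintro ⟨p, hp, hmono, hT⟩
    haveI := hmono
    obtain ⟨T, c, fst', sq'⟩ := X.property.representable_from_yon φ p.toHom
    obtain ⟨g, rfl⟩ := (AlgSp.yon S).map_surjective fst'
    have sq := sq'.flip
    obtain ⟨hne, hfinc⟩ := hT T c _ sq
    obtain ⟨hinj, himg⟩ := aux_inj p φ c g sq
    haveI := hfinc
    have hTfin : Finite ↥T.left := by
      obtain ⟨s₀⟩ : Nonempty ↥(Spec (CommRingCat.of p.K)) := ⟨IsLocalRing.closedPoint p.K⟩
      have h1 := c.left.finite_preimage_singleton s₀
      have h2 : c.left ⁻¹' {s₀} = Set.univ := by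
        ext y
        simp only [Set.mem_preimage, Set.mem_univ, iff_true]
        haveI : Subsingleton ↥p.pt.left := (inferInstance : Subsingleton (PrimeSpectrum p.K))
        exact Subsingleton.elim _ _
      rw [h2] at h1
      exact Set.finite_univ_iff.1 h1
    have hfibU : (AlgSp.Points.ofPt φ ⁻¹' {x}).Finite := by
      refine (Set.finite_range g.left).subset ?_
      intro u' hu'
      obtain ⟨s₀⟩ : Nonempty ↥(Spec (CommRingCat.of p.K)) := ⟨IsLocalRing.closedPoint p.K⟩
      have e : AlgSp.Points.ofPt p.toHom s₀ = AlgSp.Points.ofPt φ u' := by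
        rw [AlgSp.Points.ofPt_toHom, hp]
        exact hu'.symm
      obtain ⟨y, -, hy⟩ := Groth.Agent.S10176.exists_point_of_isPullback_yon sq s₀ u' e
      exact ⟨y, hy⟩
    refine ⟨?_, hfibU, ?_⟩
    · obtain ⟨w⟩ := hne
      exact ⟨g.left w, by rw [himg w, hp]⟩
    · intro R s t sqR
      have hsub : AlgSp.Points.ofPt ((AlgSp.yon S).map t ≫ φ) ⁻¹' {x} ⊆
          ⋃ u₁ ∈ AlgSp.Points.ofPt φ ⁻¹' {x}, ⋃ u₂ ∈ AlgSp.Points.ofPt φ ⁻¹' {x},
            {r : ↥R.left | s.left r = u₁ ∧ t.left r = u₂} := by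
        intro r hr
        have hr' : AlgSp.Points.ofPt ((AlgSp.yon S).map t ≫ φ) r = x := hr
        have h2 : AlgSp.Points.ofPt φ (t.left r) = x := by
          rw [← Groth.Agent.S10176.ofPt_map_comp]; exact hr'
        have h1 : AlgSp.Points.ofPt φ (s.left r) = x := by
          rw [← Groth.Agent.S10176.ofPt_map_comp, ← sqR.w]; exact hr'
        simp only [Set.mem_iUnion, Set.mem_preimage, Set.mem_singleton_iff, Set.mem_ofPred_eq]
        exact ⟨s.left r, h1, t.left r, h2, rfl, rfl⟩
      refine Set.Finite.subset ?_ hsub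
      refine hfibU.biUnion (fun u₁ hu₁ => hfibU.biUnion (fun u₂ hu₂ => ?_))
      exact Groth.Agent.S10408.result X x ⟨p, hp, hmono⟩ φ hφ u₁ u₂ hu₁ hu₂ R s t sqR


end Groth.Agent.S10410
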