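import Groth.Statements.S10416
import Groth.Agent.S10192
import Groth.Agent.S10368
import Groth.Agent.S10371
import Groth.Agent.S9951
import Groth.Agent.S9928
import Groth.Agent.Lib.Helper12Proper
import Groth.Agent.Lib.Seat46FibreEmb

set_option autoImplicit false
set_option linter.style.haveILetI false
universe u
open CategoryTheory CategoryTheory.Limits AlgebraicGeometry Topology TopologicalSpace
open AlgSp

namespace Groth.Agent.S10416

/-- Let S be a scheme, X a locally Noetherian algebraic space over S, x ∈ |X|, and i : Z_x ⟶ X the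
residual space at x. Then x is closed in |X| if and only if i is a closed immersion. -/
theorem result {S : Scheme.{u}} {X Z : AlgSp.Space S}
    (hX : AlgSp.IsLocNoethSp X.obj) (x : AlgSp.Points X.obj) (i : Z ⟶ X) [Mono i.hom]
    (hi : Set.range (AlgSp.Points.map i.hom) = {x}) (hZ : ∃ (k : Type u) (_ : Field k) (str : Spec (CommRingCat.of k) ⟶ S) (p : (AlgSp.yon S).obj (Over.mk str) ⟶ Z.obj),
        AlgSp.LocP @LocallyOfFinitePresentation p ∧ AlgSp.LocP @Flat p ∧ AlgSp.IsSurjectiveMor p) :
    IsClosed ({x} : Set (AlgSp.Points X.obj)) ↔ AlgSp.RepWith @IsClosedImmersion i.hom := by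
  constructor
  · intro hx
    -- the reduced induced closed subspace on `{x}` is a residual space at `x`
    obtain ⟨Z', i', hci, hrange, hred⟩ := Groth.Agent.S10192.result X ({x} : Set (AlgSp.Points X.obj)) hx
    haveI : Mono i'.hom := Groth.Agent.S9928.mono_of_repWith @IsClosedImmersion
      (fun _ _ f hf => by haveI : IsClosedImmersion f := hf; infer_instance) i'.hom hci
    have hN : AlgSp.IsLocNoethSp Z'.obj :=
      Groth.Agent.S9951.result i'
        (Groth.Agent.Lib.Helper12.Proper.locP_lft_of_isClosedImmersion X.property i'.hom hci) hX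
    have hinj := Groth.Agent.Lib.Seat46.FibreEmb.injective_map_of_mono i'.hom
    have hne : Nonempty (AlgSp.Points Z'.obj) := by
      have : x ∈ Set.range (AlgSp.Points.map i'.hom) := by rw [hrange]; rfl
      obtain ⟨z, -⟩ := this
      exact ⟨z⟩
    have hss : Subsingleton (AlgSp.Points Z'.obj) := by
      refine ⟨fun z₁ z₂ => hinj ?_⟩
      have h1 : AlgSp.Points.map i'.hom z₁ ∈ ({x} : Set _) := by rw [← hrange]; exact ⟨z₁, rfl⟩
      have h2 : AlgSp.Points.map i'.hom z₂ ∈ ({x} : Set _) := by rw [← hrange]; exact ⟨z₂, rfl⟩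
      exact (Set.mem_singleton_iff.1 h1).trans (Set.mem_singleton_iff.1 h2).symm
    have hZ' := (Groth.Agent.S10368.result Z').1 ⟨hred, hN, hne, hss⟩
    obtain ⟨e, he⟩ := Groth.Agent.S10371.result X x i i' hi hrange hZ hZ'
    have hi_eq : i.hom = e.inv.hom ≫ i'.hom := by
      rw [← he]
      change i.hom = (e.inv ≫ e.hom ≫ i).hom
      rw [Iso.inv_hom_id_assoc]
    rw [hi_eq]
    haveI : IsIso e.inv.hom := by
      refine ⟨e.hom.hom, ?_, ?_⟩
      · change (e.inv ≫ e.hom).hom = _
        rw [e.inv_hom_id]; rfl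
      · change (e.hom ≫ e.inv).hom = _
        rw [e.hom_inv_id]; rfl
    exact (MorphismProperty.cancel_left_of_respectsIso (AlgSp.RepWith @IsClosedImmersion) e.inv.hom i'.hom).2 hci
  · intro hci
    have hcl := Groth.Agent.Lib.Helper12.Proper.isClosedMap_of_repWith_isClosedImmersion i.hom hci
    rw [← hi]
    exact hcl.isClosed_range


end Groth.Agent.S10416
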