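import Groth.Statements.S10417
import Groth.Agent.Lib.Seat45QFinSp
import Groth.Agent.S9984

set_option autoImplicit false
set_option linter.style.haveILetI false
universe u
open CategoryTheory CategoryTheory.Limits AlgebraicGeometry Topology TopologicalSpace
open AlgSp

namespace Groth.Agent.S10417

/-- Let W = X ×_Y Z be a fibre product of algebraic spaces over a scheme S with projections p, q and let
x ∈ |X|, z ∈ |Z| lie over the same point of |Y|. If f : X ⟶ Y is of finite type and quasi-finite at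
x, then the set of points of |W| mapping to x and to z is finite. -/
theorem result {S : Scheme.{u}} {X Y Z W : AlgSp.Space S} (f : X ⟶ Y)
    (g : Z ⟶ Y) (p : W ⟶ X) (q : W ⟶ Z) (hW : IsPullback p.hom q.hom f.hom g.hom) (x : AlgSp.Points X.obj)
    (z : AlgSp.Points Z.obj) (hxz : AlgSp.Points.map f.hom x = AlgSp.Points.map g.hom z)
    (hft : AlgSp.IsFiniteTypeMor f.hom) (hf : AlgSp.HasAtMor (fun U _ h u => ∃ W : U.Opens, u ∈ W ∧ LocallyQuasiFinite (W.ι ≫ h) ∧ LocallyOfFiniteType (W.ι ≫ h)) f.hom x) :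
    {w : AlgSp.Points W.obj | AlgSp.Points.map p.hom w = x ∧ AlgSp.Points.map q.hom w = z}.Finite := by
  open Groth.Agent.Lib.Seat45.QFin in
  obtain ⟨hlft, hqc⟩ := hft
  obtain ⟨T, c, t, hce, hct, hTaff⟩ := exists_affine_chart Z.property z
  haveI : IsAffine T.left := hTaff
  -- the base change of `f` to `T`
  have sqF := IsPullback.of_hasPullback f.hom (c ≫ g.hom)
  have hF' : AlgSp.IsAlgSpace (pullback f.hom (c ≫ g.hom)) :=
    Groth.Agent.S9874.isAlgSpace_of_isPullback Y.property.diag X.property (AlgSp.IsAlgSpace.yon_obj T) sqF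
  let X' : AlgSp.Space S := ⟨pullback f.hom (c ≫ g.hom), hF'⟩
  let T' : AlgSp.Space S := (AlgSp.ofScheme S).obj T
  let f' : X' ⟶ T' := ObjectProperty.homMk (pullback.snd f.hom (c ≫ g.hom))
  let pX : X' ⟶ X := ObjectProperty.homMk (pullback.fst f.hom (c ≫ g.hom))
  let gT : T' ⟶ Y := ObjectProperty.homMk (c ≫ g.hom)
  have sq' : IsPullback pX.hom f'.hom f.hom gT.hom := sqF
  have hlft' : AlgSp.LocP @LocallyOfFiniteType f'.hom :=
    Groth.Agent.S9984.result @LocallyOfFiniteType (Or.inl rfl) f gT pX f' sq' hlft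
  have hqc' : AlgSp.IsQuasiCompactMor f'.hom := by
    intro Z₁ Z₁' hZ₁ hZ₁qc g₁ fst₁ snd₁ sq₁
    exact hqc hZ₁ hZ₁qc (g₁ ≫ gT.hom) (fst₁ ≫ pX.hom) snd₁ (sq₁.paste_horiz sq')
  have hA := finite_setOf_qfNear_over_point X'.property T'.property f'.hom hlft' hqc'
    (AlgSp.Points.ofScheme T t)
  -- the comparison map to `W`
  have hcond : pullback.fst f.hom (c ≫ g.hom) ≫ f.hom = (pullback.snd f.hom (c ≫ g.hom) ≫ c) ≫ g.hom := by
    rw [Category.assoc]; exact pullback.condition
  let φ : X'.obj ⟶ W.obj := hW.lift _ _ hcond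
  have hφ1 : φ ≫ p.hom = pX.hom := hW.lift_fst _ _ hcond
  have hφ2 : φ ≫ q.hom = f'.hom ≫ c := hW.lift_snd _ _ hcond
  have sqφ : IsPullback φ f'.hom q.hom c := by
    refine IsPullback.of_right ?_ hφ2 hW
    rw [hφ1]
    exact sq'
  refine (hA.image (AlgSp.Points.map φ)).subset ?_
  rintro w ⟨hwx, hwz⟩
  have e1 : AlgSp.Points.map q.hom w = AlgSp.Points.map c (AlgSp.Points.ofScheme T t) := by
    rw [hwz, ← hct, AlgSp.Points.ofPt_eq_map_ofScheme]
  obtain ⟨w', hw'1, hw'2⟩ := Groth.Agent.S10175.exists_point_of_isPullback sqφ w _ e1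
  refine ⟨w', ⟨hw'2, ?_⟩, hw'1⟩
  have hx' : AlgSp.Points.map pX.hom w' = x := by
    rw [← hφ1, AlgSp.Points.map_comp, hw'1, hwx]
  rw [← hasAtMor_qfNear_baseChange_iff X.property Y.property T'.property X'.property sq' hlft hlft' w', hx']
  exact hf

end Groth.Agent.S10417
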