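import Groth.Statements.S10420
import Groth.Agent.S10176
import Groth.Agent.Lib.Seat46ElemNbhd

set_option autoImplicit false
universe u
open CategoryTheory CategoryTheory.Limits AlgebraicGeometry Topology TopologicalSpace
open AlgSp

namespace Groth.Agent.S10420

/-- For a decent algebraic space X over a scheme S and x ∈ |X|, the category of elementary etale
neighbourhoods (U, u) ⟶ (X, x) is cofiltered: two objects are dominated by a third and two parallel
morphisms are equalized from some object (it is nonempty by the existence of elementary etale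
neighbourhoods). -/
theorem result {S : Scheme.{u}} (X : AlgSp.Space S) (hX : AlgSp.IsDecent X.obj)
    (x : AlgSp.Points X.obj) :
    (∀ (U₁ U₂ : Over S) (a₁ : (AlgSp.yon S).obj U₁ ⟶ X.obj) (a₂ : (AlgSp.yon S).obj U₂ ⟶ X.obj) (u₁ : ↥U₁.left)
        (u₂ : ↥U₂.left), AlgSp.IsElemEtaleNbhd a₁ u₁ x → AlgSp.IsElemEtaleNbhd a₂ u₂ x →
        ∃ (U : Over S) (a : (AlgSp.yon S).obj U ⟶ X.obj) (v : ↥U.left) (h₁ : U ⟶ U₁) (h₂ : U ⟶ U₂),
          AlgSp.IsElemEtaleNbhd a v x ∧ (AlgSp.yon S).map h₁ ≫ a₁ = a ∧ (AlgSp.yon S).map h₂ ≫ a₂ = a ∧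
            h₁.left v = u₁ ∧ h₂.left v = u₂) ∧
      (∀ (U₁ U₂ : Over S) (a₁ : (AlgSp.yon S).obj U₁ ⟶ X.obj) (a₂ : (AlgSp.yon S).obj U₂ ⟶ X.obj) (u₁ : ↥U₁.left)
        (u₂ : ↥U₂.left) (b c : U₁ ⟶ U₂), AlgSp.IsElemEtaleNbhd a₁ u₁ x → AlgSp.IsElemEtaleNbhd a₂ u₂ x →
        (AlgSp.yon S).map b ≫ a₂ = a₁ → (AlgSp.yon S).map c ≫ a₂ = a₁ → b.left u₁ = u₂ → c.left u₁ = u₂ →
        ∃ (U : Over S) (a : (AlgSp.yon S).obj U ⟶ X.obj) (v : ↥U.left) (h : U ⟶ U₁),
          AlgSp.IsElemEtaleNbhd a v x ∧ (AlgSp.yon S).map h ≫ a₁ = a ∧ h.left v = u₁ ∧ h ≫ b = h ≫ c) := by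
  open Groth.Agent.Lib.Seat46.ElemNbhd Groth.Agent.Lib.Seat46.DecentChart
    Groth.Agent.Lib.Seat46.FieldQuot in
  constructor
  · intro U₁ U₂ a₁ a₂ u₁ u₂ h₁ h₂
    obtain ⟨P, pr₂, fst, sq⟩ := h₁.etale.1 a₂
    obtain ⟨pr₁, rfl⟩ := (AlgSp.yon S).map_surjective fst
    haveI : Etale pr₁.left := h₂.etale.2 a₁ ((AlgSp.yon S).map pr₂) pr₁ sq.flip
    obtain ⟨d, hd⟩ := exists_factor_of_mono (AlgSp.FieldPt.ofPt a₂ u₂) h₂.mono
      (X.property.representable_from_yon _) (AlgSp.FieldPt.ofPt a₁ u₁)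
      (h₁.ofPt_eq.trans h₂.ofPt_eq.symm)
    have cond : (AlgSp.yon S).map (ptι a₁ u₁) ≫ a₁ =
        (AlgSp.yon S).map (d ≫ ptι a₂ u₂) ≫ a₂ := by
      rw [Functor.map_comp, Category.assoc, ← toHom_ofPt', ← toHom_ofPt', hd]
    obtain ⟨w, hw⟩ := (AlgSp.yon S).map_surjective (sq.lift _ _ cond)
    have hw1 : w ≫ pr₁ = ptι a₁ u₁ := by
      apply (AlgSp.yon S).map_injective
      rw [Functor.map_comp, hw, sq.lift_fst]
    have hw2 : w ≫ pr₂ = d ≫ ptι a₂ u₂ := by
      apply (AlgSp.yon S).map_injective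
      rw [Functor.map_comp, hw, sq.lift_snd]
    have hv1 : pr₁.left (w.left (IsLocalRing.closedPoint _)) = u₁ := by
      have := congrArg (fun f => f.left (IsLocalRing.closedPoint _)) hw1
      simp only [Over.comp_left, Scheme.Hom.comp_apply] at this
      rw [this]
      exact Scheme.fromSpecResidueField_apply _ _
    have hv2 : pr₂.left (w.left (IsLocalRing.closedPoint _)) = u₂ := by
      have := congrArg (fun f => f.left (IsLocalRing.closedPoint _)) hw2
      simp only [Over.comp_left, Scheme.Hom.comp_apply] at this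
      rw [this]
      exact Scheme.fromSpecResidueField_apply _ _
    refine ⟨P, (AlgSp.yon S).map pr₁ ≫ a₁, w.left (IsLocalRing.closedPoint _), pr₁, pr₂,
      ⟨?_, ?_, ?_⟩, rfl, sq.w.symm, hv1, hv2⟩
    · exact (AlgSp.repWith_isMultiplicative (S := S) @Etale).comp_mem _ _
        ((AlgSp.repWith_yon_map_iff @Etale _).2 ‹Etale pr₁.left›) h₁.etale
    · rw [Groth.Agent.S10176.ofPt_map_comp, hv1]
      exact h₁.ofPt_eq
    · refine mono_toHom_ofPt_of_mono _ _ w ?_
      rw [← Category.assoc, ← Functor.map_comp, hw1, ← toHom_ofPt']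
      exact h₁.mono
  · intro U₁ U₂ a₁ a₂ u₁ u₂ b c h₁ h₂ hb hc hbu hcu
    obtain ⟨R₂, s₂, fst, sqR⟩ := h₂.etale.1 a₂
    obtain ⟨t₂, rfl⟩ := (AlgSp.yon S).map_surjective fst
    haveI : Etale s₂.left := h₂.etale.2 a₂ _ s₂ sqR
    obtain ⟨δ, hδt, hδs⟩ := exists_e sqR
    obtain ⟨bc, hbc1, hbc2⟩ := exists_lift sqR b c (hb.trans hc.symm)
    haveI : Etale δ.left := by
      haveI : Etale (δ.left ≫ s₂.left) := by
        rw [← Over.comp_left, hδs]
        exact inferInstanceAs (Etale (𝟙 U₂.left))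
      exact Etale.of_comp δ.left s₂.left
    have sqE := (IsPullback.of_hasPullback δ bc).map (Over.forget S)
    haveI : Etale (pullback.snd δ bc).left :=
      MorphismProperty.of_isPullback (P := @Etale) sqE ‹Etale δ.left›
    have hbeq : ptι a₁ u₁ ≫ b = ptι a₁ u₁ ≫ c := by
      refine eq_of_mono_toHom_ofPt a₂ _ _ _ u₂ ?_ ?_ h₂.mono ?_
      · rw [Over.comp_left, Scheme.Hom.comp_apply]
        refine Eq.trans (congrArg b.left ?_) hbu
        exact Scheme.fromSpecResidueField_apply _ _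
      · rw [Over.comp_left, Scheme.Hom.comp_apply]
        refine Eq.trans (congrArg c.left ?_) hcu
        exact Scheme.fromSpecResidueField_apply _ _
      · rw [Functor.map_comp, Functor.map_comp, Category.assoc, Category.assoc, hb, hc]
    have cond' : (ptι a₁ u₁ ≫ b) ≫ δ = ptι a₁ u₁ ≫ bc := by
      refine hom_ext_of_sq sqR _ _ ?_ ?_
      · rw [Category.assoc, hδt, Category.comp_id, Category.assoc, hbc1]
      · rw [Category.assoc, hδs, Category.comp_id, Category.assoc, hbc2]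
        exact hbeq
    let w := pullback.lift (ptι a₁ u₁ ≫ b) (ptι a₁ u₁) cond'
    have hw1 : w ≫ pullback.snd δ bc = ptι a₁ u₁ := pullback.lift_snd _ _ _
    have hv1 : (pullback.snd δ bc).left (w.left (IsLocalRing.closedPoint _)) = u₁ := by
      have := congrArg (fun f => f.left (IsLocalRing.closedPoint _)) hw1
      simp only [Over.comp_left, Scheme.Hom.comp_apply] at this
      rw [this]
      exact Scheme.fromSpecResidueField_apply _ _
    refine ⟨pullback δ bc, (AlgSp.yon S).map (pullback.snd δ bc) ≫ a₁,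
      w.left (IsLocalRing.closedPoint _), pullback.snd δ bc, ⟨?_, ?_, ?_⟩, rfl, hv1, ?_⟩
    · exact (AlgSp.repWith_isMultiplicative (S := S) @Etale).comp_mem _ _
        ((AlgSp.repWith_yon_map_iff @Etale _).2 ‹Etale (pullback.snd δ bc).left›) h₁.etale
    · rw [Groth.Agent.S10176.ofPt_map_comp, hv1]
      exact h₁.ofPt_eq
    · refine mono_toHom_ofPt_of_mono _ _ w ?_
      rw [← Category.assoc, ← Functor.map_comp, hw1, ← toHom_ofPt']
      exact h₁.mono
    · have e1 : pullback.snd δ bc ≫ b = pullback.fst δ bc := by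
        rw [← hbc1, ← Category.assoc, ← pullback.condition, Category.assoc, hδt, Category.comp_id]
      have e2 : pullback.snd δ bc ≫ c = pullback.fst δ bc := by
        rw [← hbc2, ← Category.assoc, ← pullback.condition, Category.assoc, hδs, Category.comp_id]
      rw [e1, e2]

end Groth.Agent.S10420
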