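import Groth.Statements.S10427
import Mathlib
import Groth.Agent.Lib.Seat46UBFField

set_option autoImplicit false
universe u
open CategoryTheory CategoryTheory.Limits AlgebraicGeometry Topology TopologicalSpace
open AlgSp

namespace Groth.Agent.S10427

/-- Let X be an algebraic space over a scheme S and U ⟶ V ⟶ X with U, V schemes, U ⟶ V surjective and
flat. If U ⟶ X has universally bounded fibres, then so does V ⟶ X. -/
theorem result {S : Scheme.{u}} (X : AlgSp.Space S) {U V : Over S} (f : U ⟶ V)
    [Surjective f.left] [Flat f.left] (h : (AlgSp.yon S).obj V ⟶ X.obj) (hg : W4dec.HasUnivBddFibres ((AlgSp.yon S).map f ≫ h)) :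
    W4dec.HasUnivBddFibres h := by
  obtain ⟨n, hn⟩ := hg
  refine ⟨n, fun q T c snd sq => ?_⟩
  obtain ⟨b, rfl⟩ := (AlgSp.yon S).map_surjective snd
  have sqT : IsPullback ((AlgSp.yon S).map (pullback.fst b f)) ((AlgSp.yon S).map (pullback.snd b f))
      ((AlgSp.yon S).map b) ((AlgSp.yon S).map f) := (IsPullback.of_hasPullback b f).map (AlgSp.yon S)
  have big := (sqT.flip.paste_vert sq.flip).flip
  rw [← Functor.map_comp] at big
  obtain ⟨h1, h2⟩ := hn q _ _ _ big
  have sqL : IsPullback (pullback.fst b f).left (pullback.snd b f).left b.left f.left :=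
    (IsPullback.of_hasPullback b f).map (Over.forget S)
  haveI : Flat (pullback.fst b f).left :=
    MorphismProperty.of_isPullback (P := @Flat) sqL.flip inferInstance
  haveI : Surjective (pullback.fst b f).left :=
    MorphismProperty.of_isPullback (P := @Surjective) sqL.flip inferInstance
  exact Groth.Agent.Lib.Seat46.UBFField.isFinite_and_finrank_le_of_flat_surjective
    (pullback.fst b f).left c.left n ⟨h1, h2⟩

end Groth.Agent.S10427
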