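import Groth.Statements.S10430
import Groth.Agent.S10360

set_option autoImplicit false
universe u
open CategoryTheory CategoryTheory.Limits AlgebraicGeometry Topology TopologicalSpace
open AlgSp

namespace Groth.Agent.S10430

/-- If every etale morphism U ⟶ X from an affine scheme to the algebraic space X has universally bounded
fibres, then X is decent. -/
theorem result {S : Scheme.{u}} (X : AlgSp.Space S)
    (h : ∀ (U : Over S) (φ : (AlgSp.yon S).obj U ⟶ X.obj), IsAffine U.left → AlgSp.RepWith @Etale φ → W4dec.HasUnivBddFibres φ) :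
    AlgSp.IsDecent X.obj := by
  open Groth.Agent.Lib.Seat46.DecentChart Groth.Agent.Lib.Seat46.UBFField in
  intro x
  induction x using AlgSp.Points.ind with | h q => ?_
  refine (Groth.Agent.S10360.result X (AlgSp.Points.mk q)).1 ?_
  intro U φ hU hφ R s t sqR
  obtain ⟨n, hn⟩ := h U φ hU hφ
  obtain ⟨T, b, fst, sq⟩ := X.property.representable_from_yon q.toHom φ
  obtain ⟨c, rfl⟩ := (AlgSp.yon S).map_surjective fst
  haveI : IsFinite c.left := (hn q T c _ sq).1
  haveI : Finite ↥T.left := (finite_discrete_of_isFinite (K := q.K) c.left).1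
  exact ⟨(Set.finite_range _).subset
    (Groth.Agent.Lib.Seat46.UnivBdd.fibre_subset_range_of_isPullback φ q c b sq),
    finite_fibre_kernelPair q φ c b sq s t sqR⟩

end Groth.Agent.S10430
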