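import Groth.Statements.S10433
import Groth.Agent.Lib.Seat83DegStratSp
import Groth.Agent.S10192

set_option autoImplicit false
set_option linter.style.haveILetI false
universe u
open CategoryTheory CategoryTheory.Limits AlgebraicGeometry Topology TopologicalSpace
open AlgSp

namespace Groth.Agent.S10433

/-- Let S be a scheme, X an algebraic space over S, W a scheme over S, and W ⟶ X a morphism which is
flat, separated, locally of finite presentation and locally quasi-finite, with universally bounded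
fibres. Then X has closed subspaces, each reduced, ∅ = Z_{-1} ⊆ Z_0 ⊆ ⋯ ⊆ Z_n with |Z_n| = |X| such
that, putting X_r = Z_r ∖ Z_{r-1}, for every morphism g : T ⟶ X the second projection W ×_X T ⟶ T is
a finite locally free morphism of degree r exactly when g(|T|) ⊆ |X_r|. (Indexing: Zs 0 = Z_{-1}, Zs
(r+1) = Z_r.) -/
theorem result {S : Scheme.{u}} (X : AlgSp.Space S) {W : Over S}
    (w : (AlgSp.yon S).obj W ⟶ X.obj) (hfl : AlgSp.RepWith @Flat w) (hfp : AlgSp.RepWith @LocallyOfFinitePresentation w)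
    (hsep : AlgSp.RepWith @IsSeparated w) (hqf : AlgSp.RepWith @LocallyQuasiFinite w) (hb : W4dec.HasUnivBddFibres w) :
    ∃ (n : ℕ) (Zs : ℕ → AlgSp.Space S) (i : ∀ r, Zs r ⟶ X),
      (∀ r, AlgSp.IsRedInduced (Set.range (AlgSp.Points.map (i r).hom)) (i r).hom) ∧
      IsEmpty (AlgSp.Points (Zs 0).obj) ∧ Set.range (AlgSp.Points.map (i (n + 1)).hom) = Set.univ ∧
      (∀ r, Set.range (AlgSp.Points.map (i r).hom) ⊆ Set.range (AlgSp.Points.map (i (r + 1)).hom)) ∧
      ∀ (r : ℕ) (T : AlgSp.Space S) (g : T ⟶ X) (P : AlgSp.Sp S) (fst : P ⟶ (AlgSp.yon S).obj W) (snd : P ⟶ T.obj),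
        IsPullback fst snd w g.hom →
          (AlgSp.IsFinLocFreeOfDegMor r snd ↔
            Set.range (AlgSp.Points.map g.hom) ⊆
              Set.range (AlgSp.Points.map (i (r + 1)).hom) \ Set.range (AlgSp.Points.map (i r).hom)) := by
  obtain ⟨n, hb⟩ := hb
  obtain ⟨δ, hle, hcl, hδ⟩ := Groth.Agent.Lib.Seat83.DegStratSp.exists_degree_function w hfl hfp hsep n hb
  choose Zs i hi using fun k : ℕ => Groth.Agent.S10192.result X {x | δ x < k} (hcl k)
  have hrange : ∀ k, Set.range (AlgSp.Points.map (i k).hom) = {x | δ x < k} := fun k => (hi k).2.1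
  refine ⟨n, Zs, i, fun r => ⟨(hi r).1, rfl, (hi r).2.2⟩, ⟨fun z => ?_⟩, ?_, fun r => ?_, ?_⟩
  · have : AlgSp.Points.map (i 0).hom z ∈ {x | δ x < 0} := by
      rw [← hrange 0]; exact ⟨z, rfl⟩
    exact absurd this (Nat.not_lt_zero _)
  · rw [hrange, Set.eq_univ_iff_forall]
    intro x
    exact Nat.lt_succ_of_le (hle x)
  · rw [hrange, hrange]
    intro x hx
    exact Nat.lt_succ_of_lt hx
  · intro r T g P fst snd hP
    rw [Groth.Agent.Lib.Seat83.DegStratSp.isFinLocFreeOfDegMor_iff w hfl hfp hsep n hb δ hδ r T g P fst snd hP,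
      hrange, hrange]
    constructor
    · rintro h _ ⟨t, rfl⟩
      refine ⟨?_, ?_⟩
      · show δ _ < r + 1
        rw [h t]; exact Nat.lt_succ_self r
      · show ¬ δ _ < r
        rw [h t]; exact lt_irrefl r
    · intro h t
      obtain ⟨h1, h2⟩ := h ⟨t, rfl⟩
      have h1' : δ (AlgSp.Points.map g.hom t) < r + 1 := h1
      have h2' : ¬ δ (AlgSp.Points.map g.hom t) < r := h2
      omega

end Groth.Agent.S10433
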