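import Groth.Statements.S10439
import Groth.Agent.S10339

set_option autoImplicit false
set_option linter.style.haveILetI false
universe u
open CategoryTheory CategoryTheory.Limits AlgebraicGeometry Topology TopologicalSpace
open AlgSp

namespace Groth.Agent.S10439

/-- A birational morphism between decent algebraic spaces over a scheme S, each with only finitely many
irreducible components, is dominant: the image of |X| is dense in |Y|. -/
theorem result {S : Scheme.{u}} {X Y : AlgSp.Space S} (f : X ⟶ Y)
    (hX : AlgSp.IsDecent X.obj) (hY : AlgSp.IsDecent Y.obj)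
    (hXf : (irreducibleComponents (AlgSp.Points X.obj)).Finite)
    (hYf : (irreducibleComponents (AlgSp.Points Y.obj)).Finite)
    (hf : W4stk3decentspacesp2.IsBirational f.hom) : AlgSp.IsDominantMor f.hom := by
  haveI : QuasiSober (AlgSp.Points Y.obj) := Groth.Agent.S10339.result Y hY
  intro y
  obtain ⟨T, hT, hyT⟩ := exists_mem_irreducibleComponents_subset_of_isIrreducible {y} isIrreducible_singleton
  have hTcl : IsClosed T := isClosed_of_mem_irreducibleComponents T hT
  obtain ⟨ξ, hξ⟩ := QuasiSober.sober hT.1 hTcl
  have hξg : ξ ∈ genericPoints (AlgSp.Points Y.obj) := by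
    change closure {ξ} ∈ irreducibleComponents _
    rw [hξ.def]; exact hT
  obtain ⟨x, -, rfl⟩ := hf.bijOn.surjOn hξg
  have h1 : T ⊆ closure (Set.range (AlgSp.Points.map f.hom)) := by
    rw [← hξ.def]
    exact closure_mono (Set.singleton_subset_iff.2 ⟨x, rfl⟩)
  exact h1 (hyT rfl)

end Groth.Agent.S10439
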