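import Groth.Statements.S10440
import Groth.Agent.Lib.Seat47EssEtStalk
import Groth.Agent.Lib.Seat47ElemNbhdRes
import Groth.Agent.Lib.Helper3EssEt
import Groth.Agent.Lib.Helper12SrcLocal

set_option autoImplicit false
universe u
open CategoryTheory CategoryTheory.Limits AlgebraicGeometry Topology TopologicalSpace
open AlgSp

namespace Groth.Agent.S10440

/-- For a decent algebraic space X over a scheme S and x ∈ |X|, let g : (U', u') ⟶ (U, u) be a morphism
of elementary etale neighbourhoods of (X, x). If R is a henselization of O_{U', u'} then, through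
the local ring map O_{U, u} ⟶ O_{U', u'} induced by g, R is a henselization of O_{U, u} as well.
(The published statement identifies the henselian local ring at x, defined as the colimit of global
sections over all elementary etale neighbourhoods, with the henselization of O_{U, u}; that ring is
not a separate construction here, and this row states the resulting independence of the
henselization from the chosen neighbourhood.) -/
theorem result {S : Scheme.{u}} (X : AlgSp.Space S)
    (hX : AlgSp.IsDecent X.obj) (x : AlgSp.Points X.obj) {U U' : Over S}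
    (a : (AlgSp.yon S).obj U ⟶ X.obj) (a' : (AlgSp.yon S).obj U' ⟶ X.obj) (g : U' ⟶ U) (u' : ↥U'.left)
    (hg : (AlgSp.yon S).map g ≫ a = a') (ha : AlgSp.IsElemEtaleNbhd a (g.left.base u') x)
    (ha' : AlgSp.IsElemEtaleNbhd a' u' x) (R : Type u) [CommRing R] [IsLocalRing R]
    [Algebra ↥(U'.left.presheaf.stalk u') R] [IsLocalHom (algebraMap ↥(U'.left.presheaf.stalk u') R)]
    [Hensel.IsHenselization ↥(U'.left.presheaf.stalk u') R] :
    letI : Algebra ↥(U.left.presheaf.stalk (g.left.base u')) R :=
      ((algebraMap ↥(U'.left.presheaf.stalk u') R).comp (g.left.stalkMap u').hom).toAlgebra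
    ∃ (_ : IsLocalHom (algebraMap ↥(U.left.presheaf.stalk (g.left.base u')) R)),
      Hensel.IsHenselization ↥(U.left.presheaf.stalk (g.left.base u')) R := by
  classical
  letI algOR : Algebra ↥(U.left.presheaf.stalk (g.left.base u')) R :=
    ((algebraMap ↥(U'.left.presheaf.stalk u') R).comp (g.left.stalkMap u').hom).toAlgebra
  haveI hφloc : IsLocalHom (g.left.stalkMap u').hom := inferInstance
  have hlocR : IsLocalHom (algebraMap ↥(U.left.presheaf.stalk (g.left.base u')) R) := by
    change IsLocalHom ((algebraMap ↥(U'.left.presheaf.stalk u') R).comp (g.left.stalkMap u').hom)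
    exact RingHom.isLocalHom_comp _ _
  refine ⟨hlocR, ?_⟩
  have hR : Hensel.IsHenselization ↥(U'.left.presheaf.stalk u') R := inferInstance
  haveI : Etale g.left :=
    Groth.Agent.Lib.Helper12.SrcLocal.etale_of_chart_comp a a' g ha.etale ha'.etale hg
  letI algOO' : Algebra ↥(U.left.presheaf.stalk (g.left.base u')) ↥(U'.left.presheaf.stalk u') :=
    (g.left.stalkMap u').hom.toAlgebra
  haveI : IsLocalHom (algebraMap ↥(U.left.presheaf.stalk (g.left.base u'))
      ↥(U'.left.presheaf.stalk u')) := hφloc
  have hEss : EGA4loc.IsEssentiallyEtale ↥(U.left.presheaf.stalk (g.left.base u'))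
      ↥(U'.left.presheaf.stalk u') :=
    Groth.Agent.Lib.Seat47.EssEtStalk.isEssentiallyEtale_stalkMap g.left u'
  have hbij : Function.Bijective (IsLocalRing.ResidueField.map (g.left.stalkMap u').hom) :=
    Groth.Agent.Lib.Seat47.ElemNbhdRes.bijective_residueField_map_of_mono a a' g u' hg ha'.mono
  refine ⟨hR.henselian, ?_⟩
  intro T _ _ f hf
  haveI := hf
  let ρ := RingEquiv.ofBijective _ hbij
  let α : IsLocalRing.ResidueField ↥(U'.left.presheaf.stalk u') →+* IsLocalRing.ResidueField T :=
    (IsLocalRing.ResidueField.map f).comp ρ.symm.toRingHom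
  have hα : α.comp (IsLocalRing.ResidueField.map
      (algebraMap ↥(U.left.presheaf.stalk (g.left.base u')) ↥(U'.left.presheaf.stalk u'))) =
      IsLocalRing.ResidueField.map f := by
    ext x
    change (IsLocalRing.ResidueField.map f) (ρ.symm (ρ x)) = _
    rw [ρ.symm_apply_apply]
  obtain ⟨ψ', ⟨hloc, hcomp, hres⟩, huniq⟩ :=
    Groth.Agent.Lib.Helper3.EssEt.existsUnique_lift _ _ hEss T f α hα
  obtain ⟨G, hG, hGuniq⟩ := hR.universal T ψ' hloc
  refine ⟨G, ?_, ?_⟩
  · change G.comp ((algebraMap ↥(U'.left.presheaf.stalk u') R).comp (g.left.stalkMap u').hom) = f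
    rw [← RingHom.comp_assoc, hG]
    exact hcomp
  · intro G' hG'
    apply hGuniq
    apply huniq
    have hcomp' : (G'.comp (algebraMap ↥(U'.left.presheaf.stalk u') R)).comp
        (algebraMap ↥(U.left.presheaf.stalk (g.left.base u')) ↥(U'.left.presheaf.stalk u')) = f := by
      rw [RingHom.comp_assoc]
      exact hG'
    have hloc' : IsLocalHom (G'.comp (algebraMap ↥(U'.left.presheaf.stalk u') R)) := by
      refine ((IsLocalRing.local_hom_TFAE _).out 0 2).2 ?_
      rw [← Groth.Agent.Lib.Helper3.EssEt.map_maximalIdeal _ _ hEss, Ideal.map_map, hcomp']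
      exact ((IsLocalRing.local_hom_TFAE f).out 0 2).1 hf
    refine ⟨hloc', hcomp', ?_⟩
    haveI := hloc'
    intro x
    obtain ⟨y, hy⟩ := hbij.2 (IsLocalRing.residue _ x)
    have h1 : IsLocalRing.residue T ((G'.comp (algebraMap ↥(U'.left.presheaf.stalk u') R)) x) =
        IsLocalRing.ResidueField.map (G'.comp (algebraMap ↥(U'.left.presheaf.stalk u') R))
          (IsLocalRing.residue _ x) := (IsLocalRing.ResidueField.map_residue _ x).symm
    rw [h1, ← hy]
    obtain ⟨y, rfl⟩ := IsLocalRing.residue_surjective y
    rw [IsLocalRing.ResidueField.map_residue, IsLocalRing.ResidueField.map_residue]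
    change IsLocalRing.residue T (((G'.comp (algebraMap ↥(U'.left.presheaf.stalk u') R)).comp
        (algebraMap ↥(U.left.presheaf.stalk (g.left.base u')) ↥(U'.left.presheaf.stalk u'))) y) = _
    rw [hcomp']
    have := congrArg (fun k => k (IsLocalRing.residue _ y)) hα
    simp only [RingHom.comp_apply, IsLocalRing.ResidueField.map_residue] at this
    exact this.symm

end Groth.Agent.S10440
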