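import Groth.Statements.S10444
import Groth.Agent.Lib.Seat83FibreQF

set_option autoImplicit false
set_option linter.style.haveILetI false
universe u
open CategoryTheory CategoryTheory.Limits AlgebraicGeometry Topology TopologicalSpace
open AlgSp

namespace Groth.Agent.S10444

/-- Take f : X ⟶ Y locally of finite type between algebraic spaces over a scheme S, a field-valued point
Spec k ⟶ Y whose class y ∈ |Y| lies in the image of |f|, the fibre product X_k = Spec k ×_Y X, and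
the fibre F = |f|⁻¹(y) ⊆ |X| with the induced topology. Numbering the conditions (1) F finite, (2) F
discrete, (3) dim F = 0, (4) |X_k| finite, (5) |X_k| discrete, (6) dim |X_k| = 0, (7) dim X_k = 0,
(8) f quasi-finite at all points over y: (5) ⇔ (7) ⇔ (8); (5) ⇒ (6), with the converse when X_k is
decent; (4) ⇒ (5) when X_k is decent; (4) ⇒ (1); (2) ⇒ (3); if Y is decent then (2) ⇔ (5); if X and
Y are decent then (3) ⇒ (2) and (1) ⇒ (2). (The published statement asserts (5) ⇔ (6) for every f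
and (2) ⇔ (3) whenever Y is decent, and does not exclude an empty fibre; for the quotient of the
affine line over a field of characteristic zero by an infinite cyclic group of translations, mapping
to the point, the space of points is infinite and indiscrete, so (3) and (6) hold while (2) and (5)
fail, and for y outside the image (5) holds while (6) and (7) fail; hence the decency hypotheses on
those two converses and the hypothesis that y is in the image. Finiteness of |X_k| for an arbitrary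
field k in the class of y is not derived here from (1).) -/
theorem result {S : Scheme.{u}} {X Y : AlgSp.Space S} (f : X ⟶ Y)
    (hf : AlgSp.LocP @LocallyOfFiniteType f.hom) (r : AlgSp.FieldPt Y.obj)
    (hy : AlgSp.Points.mk r ∈ Set.range (AlgSp.Points.map f.hom)) (Xk : AlgSp.Space S) (fst : Xk ⟶ X)
    (snd : Xk.obj ⟶ (AlgSp.yon S).obj r.pt) (hsq : IsPullback fst.hom snd f.hom r.toHom) :
    (DiscreteTopology (AlgSp.Points Xk.obj) ↔ AlgSp.dim Xk.obj = 0) ∧
    (AlgSp.dim Xk.obj = 0 ↔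
      ∀ x : AlgSp.Points X.obj, AlgSp.Points.map f.hom x = AlgSp.Points.mk r → AlgSp.HasAtMor (fun U _ h u => ∃ W : U.Opens, u ∈ W ∧ LocallyQuasiFinite (W.ι ≫ h) ∧ LocallyOfFiniteType (W.ι ≫ h)) f.hom x) ∧
    (DiscreteTopology (AlgSp.Points Xk.obj) → topologicalKrullDim (AlgSp.Points Xk.obj) = 0) ∧
    (AlgSp.IsDecent Xk.obj → topologicalKrullDim (AlgSp.Points Xk.obj) = 0 →
      DiscreteTopology (AlgSp.Points Xk.obj)) ∧
    (AlgSp.IsDecent Xk.obj → Finite (AlgSp.Points Xk.obj) → DiscreteTopology (AlgSp.Points Xk.obj)) ∧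
    (Finite (AlgSp.Points Xk.obj) → (AlgSp.Points.map f.hom ⁻¹' {AlgSp.Points.mk r}).Finite) ∧
    (DiscreteTopology ↥(AlgSp.Points.map f.hom ⁻¹' {AlgSp.Points.mk r}) → topologicalKrullDim ↥(AlgSp.Points.map f.hom ⁻¹' {AlgSp.Points.mk r}) = 0) ∧
    (AlgSp.IsDecent Y.obj → (DiscreteTopology ↥(AlgSp.Points.map f.hom ⁻¹' {AlgSp.Points.mk r}) ↔ DiscreteTopology (AlgSp.Points Xk.obj))) ∧
    (AlgSp.IsDecent Y.obj → AlgSp.IsDecent X.obj →
      (topologicalKrullDim ↥(AlgSp.Points.map f.hom ⁻¹' {AlgSp.Points.mk r}) = 0 → DiscreteTopology ↥(AlgSp.Points.map f.hom ⁻¹' {AlgSp.Points.mk r})) ∧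
        ((AlgSp.Points.map f.hom ⁻¹' {AlgSp.Points.mk r}).Finite → DiscreteTopology ↥(AlgSp.Points.map f.hom ⁻¹' {AlgSp.Points.mk r}))) := by
  have hN : ∀ {C : Over S} (e : (AlgSp.yon S).obj C ⟶ Xk.obj), AlgSp.RepWith @Etale e →
      IsLocallyNoetherian C.left := fun e he =>
    (Groth.Agent.Lib.Seat83.FibreQF.fibre_chart_noeth_jacobson f hf r Xk fst snd hsq e he).1
  have hJ : ∀ {C : Over S} (e : (AlgSp.yon S).obj C ⟶ Xk.obj), AlgSp.RepWith @Etale e →
      JacobsonSpace ↥C.left := fun e he =>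
    (Groth.Agent.Lib.Seat83.FibreQF.fibre_chart_noeth_jacobson f hf r Xk fst snd hsq e he).2
  obtain ⟨x₀, hx₀⟩ := hy
  obtain ⟨xt₀, hxt₀⟩ := Groth.Agent.Lib.Seat83.FibreQF.exists_map_fst_eq f r Xk fst snd hsq x₀ hx₀
  haveI : Nonempty (AlgSp.Points Xk.obj) := ⟨xt₀⟩
  haveI : Nonempty ↥(AlgSp.Points.map f.hom ⁻¹' {AlgSp.Points.mk r}) := ⟨⟨x₀, hx₀⟩⟩
  obtain ⟨G1, G2, G3, G4⟩ := Groth.Agent.Lib.Seat83.FibreQF.space_conditions Xk hN hJ
  have hDQ := Groth.Agent.Lib.Seat83.FibreQF.discrete_iff_forall_hasAtMor f hf r Xk fst snd hsq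
  -- the residual fibre over a decent base
  have key : AlgSp.IsDecent Y.obj → ∃ (Xκ : AlgSp.Space S) (_ : AlgSp.Points Xκ.obj ≃ₜ
      ↥(AlgSp.Points.map f.hom ⁻¹' {AlgSp.Points.mk r})),
      (DiscreteTopology (AlgSp.Points Xκ.obj) ↔ DiscreteTopology (AlgSp.Points Xk.obj)) ∧
      (AlgSp.IsDecent X.obj → topologicalKrullDim (AlgSp.Points Xκ.obj) = 0 →
        DiscreteTopology (AlgSp.Points Xκ.obj)) ∧
      (AlgSp.IsDecent X.obj → Finite (AlgSp.Points Xκ.obj) →
        DiscreteTopology (AlgSp.Points Xκ.obj)) := by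
    intro hY
    obtain ⟨r₀, Xκ, fst₀, snd₀, hr₀, sq₀, hm, hq, hrep⟩ :=
      Groth.Agent.Lib.Seat83.FibreQF.exists_residual_fibre f hY (AlgSp.Points.mk r)
    have e := Groth.Agent.Lib.Seat83.FibreQF.fibreHomeo f r₀ Xκ fst₀ snd₀ sq₀ hm hq
    rw [hr₀] at e
    have hNκ : ∀ {C : Over S} (e : (AlgSp.yon S).obj C ⟶ Xκ.obj), AlgSp.RepWith @Etale e →
        IsLocallyNoetherian C.left := fun e he =>
      (Groth.Agent.Lib.Seat83.FibreQF.fibre_chart_noeth_jacobson f hf r₀ Xκ fst₀ snd₀ sq₀ e he).1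
    have hJκ : ∀ {C : Over S} (e : (AlgSp.yon S).obj C ⟶ Xκ.obj), AlgSp.RepWith @Etale e →
        JacobsonSpace ↥C.left := fun e he =>
      (Groth.Agent.Lib.Seat83.FibreQF.fibre_chart_noeth_jacobson f hf r₀ Xκ fst₀ snd₀ sq₀ e he).2
    haveI : Nonempty (AlgSp.Points Xκ.obj) := ⟨e.symm ⟨x₀, hx₀⟩⟩
    obtain ⟨-, -, K3, K4⟩ := Groth.Agent.Lib.Seat83.FibreQF.space_conditions Xκ hNκ hJκ
    have hDQκ := Groth.Agent.Lib.Seat83.FibreQF.discrete_iff_forall_hasAtMor f hf r₀ Xκ fst₀ snd₀ sq₀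
    rw [hr₀] at hDQκ
    refine ⟨Xκ, e, hDQκ.trans hDQ.symm, fun hX => K3 ?_, fun hX => K4 ?_⟩
    · exact Groth.Agent.S10351.result fst₀ hrep hX
    · exact Groth.Agent.S10351.result fst₀ hrep hX
  refine ⟨G1, G1.symm.trans hDQ, G2, G3, G4, fun hfin => ?_, fun hd => ?_, fun hY => ?_,
    fun hY hX => ⟨fun hdim => ?_, fun hfin => ?_⟩⟩
  · exact (Set.finite_range (AlgSp.Points.map fst.hom)).subset fun x hx =>
      Groth.Agent.Lib.Seat83.FibreQF.exists_map_fst_eq f r Xk fst snd hsq x hx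
  · exact le_antisymm (topologicalKrullDim_zero_of_discreteTopology _)
      Groth.Agent.Lib.Helper7.TopDim.topologicalKrullDim_nonneg
  · obtain ⟨Xκ, e, h1, -, -⟩ := key hY
    refine Iff.trans ⟨fun hd => ?_, fun hd => ?_⟩ h1
    · haveI := hd
      exact e.isEmbedding.discreteTopology
    · haveI := hd
      exact e.symm.isEmbedding.discreteTopology
  · obtain ⟨Xκ, e, -, h3, -⟩ := key hY
    have hd : DiscreteTopology (AlgSp.Points Xκ.obj) := by
      refine h3 hX ?_
      rw [IsHomeomorph.topologicalKrullDim_eq _ e.isHomeomorph]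
      exact hdim
    haveI := hd
    exact e.symm.isEmbedding.discreteTopology
  · obtain ⟨Xκ, e, -, -, h4⟩ := key hY
    haveI : Finite ↥(AlgSp.Points.map f.hom ⁻¹' {AlgSp.Points.mk r}) := hfin.to_subtype
    have hd : DiscreteTopology (AlgSp.Points Xκ.obj) :=
      h4 hX (Finite.of_injective e e.injective)
    haveI := hd
    exact e.symm.isEmbedding.discreteTopology


end Groth.Agent.S10444
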