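import Groth.Statements.S10445
import Groth.Agent.Lib.Seat83FibreQF

set_option autoImplicit false
set_option linter.style.haveILetI false
universe u
open CategoryTheory CategoryTheory.Limits AlgebraicGeometry Topology TopologicalSpace
open AlgSp

namespace Groth.Agent.S10445

/-- Take f : X ⟶ Y locally of finite type between algebraic spaces over a scheme S, a field-valued point
Spec k ⟶ Y with class y, the fibre product X_k = Spec k ×_Y X, x ∈ |X| over y, x̃ ∈ |X_k| over x,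
and F = |f|⁻¹(y) with the induced topology. Numbering the conditions (1) dim_x F = 0, (2) x isolated
in F, (3) x closed in F with no proper generization in F, (4) dim_{x̃} |X_k| = 0, (5) x̃ isolated in
|X_k|, (6) x̃ closed in |X_k| with no proper generization, (7) dim_{x̃}(X_k) = 0 (local dimension of
an etale chart), (8) f quasi-finite at x: (5) ⇔ (6) ⇔ (7) ⇔ (8); (4) ⇔ (5) when X_k is decent; (2) ⇔
(5) and (3) ⇔ (6) when Y is decent; (1) ⇔ (2) when X and Y are decent. -/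
theorem result {S : Scheme.{u}} {X Y : AlgSp.Space S} (f : X ⟶ Y)
    (hf : AlgSp.LocP @LocallyOfFiniteType f.hom) (r : AlgSp.FieldPt Y.obj) (Xk : AlgSp.Space S) (fst : Xk ⟶ X)
    (snd : Xk.obj ⟶ (AlgSp.yon S).obj r.pt) (hsq : IsPullback fst.hom snd f.hom r.toHom)
    (x : AlgSp.Points X.obj) (hx : x ∈ (AlgSp.Points.map f.hom ⁻¹' {AlgSp.Points.mk r})) (xt : AlgSp.Points Xk.obj)
    (hxt : AlgSp.Points.map fst.hom xt = x) :
    ((IsOpen ({xt} : Set (AlgSp.Points Xk.obj)) ↔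
      IsClosed ({xt} : Set (AlgSp.Points Xk.obj)) ∧ ∀ x' : AlgSp.Points Xk.obj, x' ⤳ xt → x' = xt) ∧
    (IsOpen ({xt} : Set (AlgSp.Points Xk.obj)) ↔ AlgSp.HasAt (fun U u => FlatMor.localDim ↥U u = 0) Xk.obj xt) ∧
    (AlgSp.HasAt (fun U u => FlatMor.localDim ↥U u = 0) Xk.obj xt ↔ AlgSp.HasAtMor (fun U _ h u => ∃ W : U.Opens, u ∈ W ∧ LocallyQuasiFinite (W.ι ≫ h) ∧ LocallyOfFiniteType (W.ι ≫ h)) f.hom x) ∧
    (AlgSp.IsDecent Xk.obj →
      (FlatMor.localDim (AlgSp.Points Xk.obj) xt = 0 ↔ IsOpen ({xt} : Set (AlgSp.Points Xk.obj)))) ∧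
    (AlgSp.IsDecent Y.obj →
      (IsOpen ({(⟨x, hx⟩ : ↥(AlgSp.Points.map f.hom ⁻¹' {AlgSp.Points.mk r}))} : Set ↥(AlgSp.Points.map f.hom ⁻¹' {AlgSp.Points.mk r})) ↔ IsOpen ({xt} : Set (AlgSp.Points Xk.obj))) ∧
      ((IsClosed ({(⟨x, hx⟩ : ↥(AlgSp.Points.map f.hom ⁻¹' {AlgSp.Points.mk r}))} : Set ↥(AlgSp.Points.map f.hom ⁻¹' {AlgSp.Points.mk r})) ∧ ∀ x' : ↥(AlgSp.Points.map f.hom ⁻¹' {AlgSp.Points.mk r}), x' ⤳ (⟨x, hx⟩ : ↥(AlgSp.Points.map f.hom ⁻¹' {AlgSp.Points.mk r})) → x' = (⟨x, hx⟩ : ↥(AlgSp.Points.map f.hom ⁻¹' {AlgSp.Points.mk r}))) ↔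
        IsClosed ({xt} : Set (AlgSp.Points Xk.obj)) ∧ ∀ x' : AlgSp.Points Xk.obj, x' ⤳ xt → x' = xt)) ∧
    (AlgSp.IsDecent Y.obj → AlgSp.IsDecent X.obj →
      (FlatMor.localDim ↥(AlgSp.Points.map f.hom ⁻¹' {AlgSp.Points.mk r}) (⟨x, hx⟩ : ↥(AlgSp.Points.map f.hom ⁻¹' {AlgSp.Points.mk r})) = 0 ↔ IsOpen ({(⟨x, hx⟩ : ↥(AlgSp.Points.map f.hom ⁻¹' {AlgSp.Points.mk r}))} : Set ↥(AlgSp.Points.map f.hom ⁻¹' {AlgSp.Points.mk r}))))) := by
  have hN : ∀ {C : Over S} (e : (AlgSp.yon S).obj C ⟶ Xk.obj), AlgSp.RepWith @Etale e →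
      IsLocallyNoetherian C.left := fun e he =>
    (Groth.Agent.Lib.Seat83.FibreQF.fibre_chart_noeth_jacobson f hf r Xk fst snd hsq e he).1
  have hJ : ∀ {C : Over S} (e : (AlgSp.yon S).obj C ⟶ Xk.obj), AlgSp.RepWith @Etale e →
      JacobsonSpace ↥C.left := fun e he =>
    (Groth.Agent.Lib.Seat83.FibreQF.fibre_chart_noeth_jacobson f hf r Xk fst snd hsq e he).2
  obtain ⟨Q1, Q2, Q4⟩ := Groth.Agent.Lib.Seat83.FibreQF.point_conditions Xk hN hJ xt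
  have hstar := Groth.Agent.Lib.Seat83.FibreQF.isOpen_singleton_iff_hasAtMor f hf r Xk fst snd hsq xt
  rw [hxt] at hstar
  -- comparison with the residual fibre, for an arbitrary name of the point
  have key : ∀ (y : AlgSp.Points Y.obj) (hx : x ∈ AlgSp.Points.map f.hom ⁻¹' {y}),
      AlgSp.IsDecent Y.obj →
      ((IsOpen ({(⟨x, hx⟩ : ↥(AlgSp.Points.map f.hom ⁻¹' {y}))} :
          Set ↥(AlgSp.Points.map f.hom ⁻¹' {y})) ↔ IsOpen ({xt} : Set (AlgSp.Points Xk.obj))) ∧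
        ((IsClosed ({(⟨x, hx⟩ : ↥(AlgSp.Points.map f.hom ⁻¹' {y}))} :
            Set ↥(AlgSp.Points.map f.hom ⁻¹' {y})) ∧
          ∀ x' : ↥(AlgSp.Points.map f.hom ⁻¹' {y}),
            x' ⤳ (⟨x, hx⟩ : ↥(AlgSp.Points.map f.hom ⁻¹' {y})) →
              x' = (⟨x, hx⟩ : ↥(AlgSp.Points.map f.hom ⁻¹' {y}))) ↔
          IsOpen ({xt} : Set (AlgSp.Points Xk.obj)))) ∧
      (AlgSp.IsDecent X.obj →
        (FlatMor.localDim ↥(AlgSp.Points.map f.hom ⁻¹' {y})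
            (⟨x, hx⟩ : ↥(AlgSp.Points.map f.hom ⁻¹' {y})) = 0 ↔
          IsOpen ({(⟨x, hx⟩ : ↥(AlgSp.Points.map f.hom ⁻¹' {y}))} :
            Set ↥(AlgSp.Points.map f.hom ⁻¹' {y})))) := by
    intro y hx hY
    obtain ⟨r₀, Xκ, fst₀, snd₀, hr₀, sq₀, hm, hq, hrep⟩ :=
      Groth.Agent.Lib.Seat83.FibreQF.exists_residual_fibre f hY y
    subst hr₀
    obtain ⟨e, he⟩ : ∃ e : AlgSp.Points Xκ.obj ≃ₜ
        ↥(AlgSp.Points.map f.hom ⁻¹' {AlgSp.Points.mk r₀}),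
        e = Groth.Agent.Lib.Seat83.FibreQF.fibreHomeo f r₀ Xκ fst₀ snd₀ sq₀ hm hq := ⟨_, rfl⟩
    obtain ⟨xκ, hxκ⟩ : ∃ xκ : AlgSp.Points Xκ.obj, xκ = e.symm ⟨x, hx⟩ := ⟨_, rfl⟩
    have hexκ : e xκ = ⟨x, hx⟩ := by rw [hxκ, e.apply_symm_apply]
    have hmap : AlgSp.Points.map fst₀.hom xκ = x := by
      have h1 := Groth.Agent.Lib.Seat83.FibreQF.fibreHomeo_apply f r₀ Xκ fst₀ snd₀ sq₀ hm hq xκ
      rw [← he, hexκ] at h1
      exact h1.symm
    have hNκ : ∀ {C : Over S} (e : (AlgSp.yon S).obj C ⟶ Xκ.obj), AlgSp.RepWith @Etale e →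
        IsLocallyNoetherian C.left := fun e he =>
      (Groth.Agent.Lib.Seat83.FibreQF.fibre_chart_noeth_jacobson f hf r₀ Xκ fst₀ snd₀ sq₀ e he).1
    have hJκ : ∀ {C : Over S} (e : (AlgSp.yon S).obj C ⟶ Xκ.obj), AlgSp.RepWith @Etale e →
        JacobsonSpace ↥C.left := fun e he =>
      (Groth.Agent.Lib.Seat83.FibreQF.fibre_chart_noeth_jacobson f hf r₀ Xκ fst₀ snd₀ sq₀ e he).2
    obtain ⟨K1, -, K4⟩ := Groth.Agent.Lib.Seat83.FibreQF.point_conditions Xκ hNκ hJκ xκ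
    have hstarκ :=
      Groth.Agent.Lib.Seat83.FibreQF.isOpen_singleton_iff_hasAtMor f hf r₀ Xκ fst₀ snd₀ sq₀ xκ
    rw [hmap] at hstarκ
    have hκt : IsOpen ({xκ} : Set (AlgSp.Points Xκ.obj)) ↔
        IsOpen ({xt} : Set (AlgSp.Points Xk.obj)) := hstarκ.trans hstar.symm
    -- topological transport along the homeomorphism
    have hopen : IsOpen ({(⟨x, hx⟩ : ↥(AlgSp.Points.map f.hom ⁻¹' {AlgSp.Points.mk r₀}))} :
        Set ↥(AlgSp.Points.map f.hom ⁻¹' {AlgSp.Points.mk r₀})) ↔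
        IsOpen ({xκ} : Set (AlgSp.Points Xκ.obj)) := by
      rw [← e.isOpen_image, Set.image_singleton, hexκ]
    have hclosed : IsClosed ({(⟨x, hx⟩ : ↥(AlgSp.Points.map f.hom ⁻¹' {AlgSp.Points.mk r₀}))} :
        Set ↥(AlgSp.Points.map f.hom ⁻¹' {AlgSp.Points.mk r₀})) ↔
        IsClosed ({xκ} : Set (AlgSp.Points Xκ.obj)) := by
      rw [← e.isClosed_image, Set.image_singleton, hexκ]
    have hspec : (∀ x' : ↥(AlgSp.Points.map f.hom ⁻¹' {AlgSp.Points.mk r₀}),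
        x' ⤳ (⟨x, hx⟩ : ↥(AlgSp.Points.map f.hom ⁻¹' {AlgSp.Points.mk r₀})) →
          x' = (⟨x, hx⟩ : ↥(AlgSp.Points.map f.hom ⁻¹' {AlgSp.Points.mk r₀}))) ↔
        ∀ z : AlgSp.Points Xκ.obj, z ⤳ xκ → z = xκ := by
      constructor
      · intro H z hz
        have h1 : e z ⤳ e xκ := hz.map e.continuous
        rw [hexκ] at h1
        have h2 := H (e z) h1
        rw [← hexκ] at h2
        exact e.injective h2
      · intro H x' hx'
        have h1 : e.symm x' ⤳ e.symm ⟨x, hx⟩ := hx'.map e.symm.continuous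
        rw [← hxκ] at h1
        have h2 := H _ h1
        rw [hxκ] at h2
        exact e.symm.injective h2
    refine ⟨⟨hopen.trans hκt, ?_⟩, fun hX => ?_⟩
    · rw [hclosed, hspec, ← K1]
      exact hκt
    · have hXκ : AlgSp.IsDecent Xκ.obj := Groth.Agent.S10351.result fst₀ hrep hX
      have h1 := Groth.Agent.Lib.Seat83.FibreQF.localDim_homeomorph e.symm
        (⟨x, hx⟩ : ↥(AlgSp.Points.map f.hom ⁻¹' {AlgSp.Points.mk r₀}))
      rw [← hxκ] at h1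
      rw [h1, hopen]
      exact K4 hXκ
  refine ⟨Q1, Q2, Q2.symm.trans hstar, Q4, fun hY => ⟨(key _ hx hY).1.1, ?_⟩,
    fun hY hX => (key _ hx hY).2 hX⟩
  exact (key _ hx hY).1.2.trans Q1


end Groth.Agent.S10445
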