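import Groth.Statements.S10449
import Groth.Agent.S10448
-- import your own Groth.Agent.* helpers here

set_option autoImplicit false
universe u
open CategoryTheory CategoryTheory.Limits AlgebraicGeometry Topology TopologicalSpace
open AlgSp

namespace Groth.Agent.S10449

/-- For an integral surjective morphism f : X ⟶ Y of algebraic spaces over a scheme S, the dimension of
Y is at most the dimension of X (together with the inequality dim X ≤ dim Y, which holds for every
integral morphism, the two dimensions are equal). -/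
theorem result {S : Scheme.{u}} {X Y : AlgSp.Space S} (f : X ⟶ Y)
    (hf : AlgSp.IsIntegralMor f.hom) (hs : AlgSp.IsSurjectiveMor f.hom) :
    AlgSp.dim Y.obj ≤ AlgSp.dim X.obj := by
  open Groth.Agent.Lib.Seat45.Charts Groth.Agent.Lib.Seat45.EtDim in
  refine dim_le fun V b hb => ?_
  rw [topologicalKrullDim_eq_iSup_ringKrullDim_stalk]
  refine iSup_le fun v => ?_
  obtain ⟨V', j, v', hV', hj, hjv⟩ := Groth.Agent.S10448.exists_affine_nbhd V v
  have hje : Etale j.left := inferInstance
  have hg : AlgSp.RepWith @Etale ((AlgSp.yon S).map j ≫ b) := repWith_etale_comp j b hb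
  obtain ⟨W, i, fst, sq, hW, hi⟩ := hf hV' ((AlgSp.yon S).map j ≫ b)
  have hfst : AlgSp.RepWith @Etale fst :=
    (AlgSp.repWith_isStableUnderBaseChange @Etale).of_isPullback sq.flip hg
  have hisurj : Surjective i.left := by
    refine ⟨fun z => ?_⟩
    obtain ⟨x, hx⟩ := hs (AlgSp.Points.ofPt ((AlgSp.yon S).map j ≫ b) z)
    obtain ⟨w, -, hw⟩ := Groth.Agent.S10448.exists_point_of_isPullback_right sq x z hx
    exact ⟨w, hw⟩
  rw [← hjv, ← ringKrullDim_stalk_eq_of_etale j.left v']
  have h1 : ringKrullDim ↥(V'.left.presheaf.stalk v') ≤ topologicalKrullDim ↥V'.left := by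
    rw [topologicalKrullDim_eq_iSup_ringKrullDim_stalk]
    exact le_iSup (fun w => ringKrullDim ↥(V'.left.presheaf.stalk w)) v'
  have h2 : topologicalKrullDim ↥W.left = topologicalKrullDim ↥V'.left :=
    (Groth.Agent.Lib.Helper10.IntDim.main9683 i.left).2 hisurj
  exact h1.trans (h2.symm.le.trans (le_dim _ hfst))

end Groth.Agent.S10449
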