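import Groth.Statements.S10482
import Groth.Agent.Lib.Seat45QFin
import Groth.Agent.Lib.Seat45Charts

set_option autoImplicit false
set_option linter.style.haveILetI false
universe u
open CategoryTheory CategoryTheory.Limits AlgebraicGeometry Topology TopologicalSpace
open AlgSp

namespace Groth.Agent.S10482

/-- (1) ⇔ (2): let k be a field and X an algebraic space over k. Then X is locally quasi-finite over k
if and only if X is locally of finite type over k of dimension at most 0. (The published statement
says dimension 0; dimension at most 0 is used so that the empty space, whose dimension is the bottom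
element, is covered by both sides.) -/
theorem result (k : Type u) [Field k] (X : AlgSp.Space (Spec (CommRingCat.of k))) (p : X.obj ⟶ (AlgSp.yon (Spec (CommRingCat.of k))).obj (Over.mk (𝟙 _))) :
    AlgSp.LocP (@LocallyQuasiFinite ⊓ @LocallyOfFiniteType : MorphismProperty Scheme.{u}) p ↔ AlgSp.LocP @LocallyOfFiniteType p ∧ AlgSp.dim X.obj ≤ 0 := by
  open Groth.Agent.Lib.Seat45.QFin Groth.Agent.Lib.Seat45.Charts Groth.Agent.Lib.Seat45.EtDim in
  have hterm : IsTerminal ((AlgSp.yon (Spec (CommRingCat.of k))).obj (Over.mk (𝟙 _))) :=
    IsTerminal.isTerminalObj (AlgSp.yon _) _ Over.mkIdTerminal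
  constructor
  · intro h
    refine ⟨fun U V a b hh ha hb hc => (h a b hh ha hb hc).2, dim_le fun U a ha => ?_⟩
    have hlqf := (h a (𝟙 _) (Over.mkIdTerminal.from U) ha (AlgSp.repWith_id _ _) (hterm.hom_ext _ _)).1
    haveI : LocallyQuasiFinite (Over.mkIdTerminal.from U).left := hlqf
    rw [topologicalKrullDim_eq_iSup_ringKrullDim_stalk]
    refine iSup_le fun u => ?_
    refine (ringKrullDim_stalk_le_of_lqf (Over.mkIdTerminal.from U).left u).trans ?_
    rw [ringKrullDim_stalk_eq_coheight]
    have hsub : Subsingleton (PrimeSpectrum k) := inferInstance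
    have h0 : Order.coheight ((Over.mkIdTerminal.from U).left u) = 0 :=
      Order.coheight_eq_zero.2 (fun b _ => by rw [show b = (Over.mkIdTerminal.from U).left u from hsub.elim _ _])
    rw [h0]
    rfl
  · rintro ⟨hlft, hdim⟩ U V a b hh ha hb hc
    haveI : LocallyOfFiniteType hh.left := hlft a b hh ha hb hc
    refine ⟨?_, inferInstance⟩
    rw [← Scheme.Hom.quasiFiniteLocus_eq_top_iff, ← top_le_iff]
    rintro u -
    refine quasiFiniteAt_of_forall_stalkDim_eq_zero hh.left u fun u' _ => ?_
    have h1 : topologicalKrullDim ↥U.left ≤ 0 := (le_dim a ha).trans hdim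
    rw [topologicalKrullDim_eq_iSup_ringKrullDim_stalk] at h1
    exact le_antisymm ((le_iSup (fun x : ↥U.left => ringKrullDim ↥(U.left.presheaf.stalk x)) u').trans h1)
      ringKrullDim_nonneg_of_nontrivial

end Groth.Agent.S10482
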