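import Groth.Statements.S10451
import Groth.Agent.S10482
import Groth.Agent.Lib.Seat45LqfArt
import Groth.Agent.Lib.Seat45DiscreteSep

set_option autoImplicit false
set_option linter.style.haveILetI false
universe u
open CategoryTheory CategoryTheory.Limits AlgebraicGeometry Topology TopologicalSpace
open AlgSp

namespace Groth.Agent.S10451

/-- Let k be a field and X an algebraic space locally of finite type over k with dim X = 0. Then X is a
separated scheme and every quasi-compact open of X is affine. -/
theorem result (k : Type u) [Field k]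
    (X : AlgSp.Space (Spec (CommRingCat.of k))) (p : X.obj ⟶ (AlgSp.yon (Spec (CommRingCat.of k))).obj (Over.mk (𝟙 _)))
    (hp : AlgSp.LocP @LocallyOfFiniteType p) (hd : AlgSp.dim X.obj = 0) :
    ∃ (U : Over (Spec (CommRingCat.of k))) (_ : (AlgSp.yon (Spec (CommRingCat.of k))).obj U ≅ X.obj), U.left.IsSeparated ∧
      ∀ V : U.left.Opens, IsCompact (V : Set ↥U.left) → IsAffineOpen V := by
  have h1 := (Groth.Agent.S10482.result k X p).2 ⟨hp, hd.le⟩
  have hlqf : AlgSp.LocP @LocallyQuasiFinite p := fun U V a b h ha hb hc => (h1 a b h ha hb hc).1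
  haveI : IsLocallyArtinian (Over.mk (𝟙 (Spec (CommRingCat.of k)))).left :=
    inferInstanceAs (IsLocallyArtinian (Spec (CommRingCat.of k)))
  obtain ⟨W₀, e₀, hArt⟩ := Groth.Agent.Lib.Seat45.LqfArt.exists_iso_of_locP_lqf X.property p hlqf
  haveI := hArt
  haveI : DiscreteTopology ↥W₀.left := inferInstance
  exact ⟨W₀, e₀, Groth.Agent.Lib.Seat45.DiscreteSep.isSeparated_of_discrete _,
    fun V hV => Groth.Agent.Lib.Seat45.DiscreteSep.isAffineOpen_of_isCompact_of_discrete V hV⟩

end Groth.Agent.S10451
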