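import Groth.Statements.S10452
import Mathlib
import Groth.Agent.Lib.Seat45QsSober
import Groth.Agent.Lib.Seat45Charts
import Groth.Agent.Lib.Seat45LocFinIrrSp
import Groth.Agent.Lib.Seat45EtDim
import Groth.Agent.Lib.Helper14IrrComp
import Groth.Agent.S10185
import Groth.Agent.S10338
import Groth.Agent.S10340
import Groth.Agent.S10343
import Groth.Agent.S10350

set_option autoImplicit false
set_option linter.style.haveILetI false
universe u
open CategoryTheory CategoryTheory.Limits AlgebraicGeometry Topology TopologicalSpace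
open AlgSp

namespace Groth.Agent.S10452

/-- (2) ⇔ (3): let X be a quasi-separated algebraic space over a quasi-separated scheme S and x a point
of X. Then the local ring of X at x is zero-dimensional exactly when x is the generic point of an
irreducible component of |X|. (The published statement allows any base scheme S and takes X
quasi-separated in the absolute sense; this row asks S to be quasi-separated and X quasi-separated
over S, which together imply absolute quasi-separatedness.) -/
theorem result {S : Scheme.{u}} [QuasiSeparatedSpace S]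
    (X : AlgSp.Space S) (hqs : AlgSp.IsQuasiSeparatedSp X.obj) (x : AlgSp.Points X.obj) :
    AlgSp.HasAt (fun U u => ringKrullDim ↥(U.presheaf.stalk u) = 0) X.obj x ↔
      ∃ Z ∈ irreducibleComponents (AlgSp.Points X.obj), IsGenericPoint x Z := by
  open Groth.Agent.Lib.Seat45.QsSober Groth.Agent.Lib.Seat45.Charts Groth.Agent.Lib.Seat45.LocFinIrr in
  have hdec : AlgSp.IsDecent X.obj := Groth.Agent.S10350.result X hqs
  haveI : T0Space (AlgSp.Points X.obj) := Groth.Agent.S10338.result X hdec
  haveI : QuasiSober (AlgSp.Points X.obj) := by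
    refine quasiSober_of_charts (fun y => ?_)
    obtain ⟨U₀, a₀, u₀, ha₀, rfl⟩ := exists_chart X.property y
    obtain ⟨_, ⟨N, hN, rfl⟩, huN, -⟩ := U₀.left.isBasis_affineOpens.exists_subset_of_mem_open
      (Set.mem_univ u₀) isOpen_univ
    obtain ⟨R, t, s', sqR⟩ := (repWith_etale_res a₀ ha₀ N).1 ((AlgSp.yon S).map (resHom U₀ N) ≫ a₀)
    obtain ⟨s, rfl⟩ := (AlgSp.yon S).map_surjective s'
    haveI : CompactSpace ↥(resObj U₀ N).left := isCompact_iff_compactSpace.1 hN.isCompact
    have hRc : CompactSpace ↥R.left :=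
      Groth.Agent.S10185.result X hqs (resObj U₀ N) (resObj U₀ N) R _ _ s t sqR
    refine ⟨resObj U₀ N, R, _, s, t, hN, hRc, repWith_etale_res a₀ ha₀ N, sqR, ?_⟩
    rw [range_ofPt_res]
    exact ⟨u₀, huN, rfl⟩
  obtain ⟨U, a, u, ha, rfl⟩ := exists_chart X.property x
  have key : MaxPt (AlgSp.Points.ofPt a u) ↔ MaxPt u := by
    constructor
    · intro h u' hu'
      have h1 : AlgSp.Points.ofPt a u' ⤳ AlgSp.Points.ofPt a u :=
        hu'.map (AlgSp.Points.continuous_ofPt a)
      exact (Groth.Agent.S10340.result X hdec a ha u u' (h _ h1).symm hu').symm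
    · intro h y' hy'
      obtain ⟨u', hu', rfl⟩ := Groth.Agent.S10343.result X _ y' hy' (hdec y') a ha u rfl
      rw [h u' hu']
  have hQ : ∀ {W V : Scheme.{u}} (g : W ⟶ V) [Etale g] (w : ↥W),
      ringKrullDim ↥(W.presheaf.stalk w) = 0 ↔ ringKrullDim ↥(V.presheaf.stalk (g w)) = 0 :=
    fun g _ w => by rw [Groth.Agent.Lib.Seat45.EtDim.ringKrullDim_stalk_eq_of_etale g w]
  have h1 : AlgSp.HasAt (fun U u => ringKrullDim ↥(U.presheaf.stalk u) = 0) X.obj (AlgSp.Points.ofPt a u) ↔
      ringKrullDim ↥(U.left.presheaf.stalk u) = 0 :=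
    ⟨fun h => (hasAt_iff_forall (fun U u => ringKrullDim ↥(U.presheaf.stalk u) = 0) hQ X.property _).1 h
      U a u ha rfl, fun h => ⟨U, a, u, ha, rfl, h⟩⟩
  rw [h1, ← maxPt_iff_stalkDim_eq_zero, ← key]
  change (∀ y', y' ⤳ AlgSp.Points.ofPt a u → y' = AlgSp.Points.ofPt a u) ↔ _
  rw [← Groth.Agent.Lib.Helper14.closure_mem_irreducibleComponents_iff]
  constructor
  · intro h
    exact ⟨_, h, rfl⟩
  · rintro ⟨Z, hZ, hx⟩
    have : closure {AlgSp.Points.ofPt a u} = Z := hx
    rw [this]; exact hZ

end Groth.Agent.S10452
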