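import Groth.Statements.S10503
import Groth.Agent.S1608
import Groth.Agent.Lib.Seat45QFinSp
import Groth.Agent.Lib.Seat45Noeth
import Groth.Agent.Lib.Seat45LocFinIrrSp
import Groth.Agent.Lib.Seat45ChartsMor
import Groth.Agent.Lib.Helper14IrrComp

set_option autoImplicit false
set_option linter.style.haveILetI false
universe u
open CategoryTheory CategoryTheory.Limits AlgebraicGeometry Topology TopologicalSpace
open AlgSp

namespace Groth.Agent.S10503

/-- Let f : X ⟶ Y be a morphism of algebraic spaces over a scheme S which is locally of finite type,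
with Y locally Noetherian, and let y be a point of Y of codimension at most 1. If f is quasi-finite
at every codimension 0 point of X, then every point of X mapping to y is a point where f is
quasi-finite. -/
theorem result {S : Scheme.{u}} {X Y : AlgSp.Space S} (f : X ⟶ Y)
    (hf : AlgSp.LocP @LocallyOfFiniteType f.hom) (hY : AlgSp.IsLocNoethSp Y.obj) (y : AlgSp.Points Y.obj)
    (hy : AlgSp.HasAt (fun U u => ringKrullDim ↥(U.presheaf.stalk u) ≤ 1) Y.obj y)
    (h : ∀ x : AlgSp.Points X.obj, AlgSp.HasAt (fun U u => ringKrullDim ↥(U.presheaf.stalk u) = 0) X.obj x → AlgSp.HasAtMor (fun U _ h u => ∃ W : U.Opens, u ∈ W ∧ LocallyQuasiFinite (W.ι ≫ h) ∧ LocallyOfFiniteType (W.ι ≫ h)) f.hom x)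
    (x : AlgSp.Points X.obj) (hx : AlgSp.Points.map f.hom x = y) :
    AlgSp.HasAtMor (fun U _ h u => ∃ W : U.Opens, u ∈ W ∧ LocallyQuasiFinite (W.ι ≫ h) ∧ LocallyOfFiniteType (W.ι ≫ h)) f.hom x := by
  open Groth.Agent.Lib.Seat45.QFin Groth.Agent.Lib.Seat45.Noeth Groth.Agent.Lib.Seat45.ChartsMor
    Groth.Agent.Lib.Seat45.LocFinIrr Groth.Agent.Lib.Seat45.Charts in
  have hQ : (fun U _ h u => ∃ W : U.Opens, u ∈ W ∧ LocallyQuasiFinite (W.ι ≫ h) ∧
      LocallyOfFiniteType (W.ι ≫ h)) = QFNear := rfl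
  rw [hQ] at h ⊢
  obtain ⟨U, V, a, b, hh, u, ha, hb, hc, rfl⟩ := exists_diagram X.property Y.property f.hom x
  haveI : LocallyOfFiniteType hh.left := hf a b hh ha hb hc
  refine (hasAtMor_qfNear_ofPt_iff X.property Y.property f.hom hf a b hh ha hb hc u).2 ?_
  have hvy : AlgSp.Points.ofPt b (hh.left u) = y := by rw [ofPt_diagram f.hom a b hh hc u, hx]
  haveI : IsLocallyNoetherian V.left := isLocallyNoetherian_chart hY b hb
  haveI : IsNoetherianRing (V.left.presheaf.stalk (hh.left u)) := inferInstance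
  have hdim : ringKrullDim (V.left.presheaf.stalk (hh.left u)) ≤ 1 :=
    (hasAt_iff_forall (fun U u => ringKrullDim ↥(U.presheaf.stalk u) ≤ 1)
      (fun g _ w => by rw [Groth.Agent.Lib.Seat45.EtDim.ringKrullDim_stalk_eq_of_etale g w])
      Y.property y).1 hy V b (hh.left u) hb hvy
  refine Groth.Agent.S1608.result hh.left (hh.left u) hdim ?_ u rfl
  intro Z hZ η hη
  have hmax : MaxPt η := by
    have h1 : closure ({η} : Set ↥U.left) ∈ irreducibleComponents ↥U.left := by
      rw [hη.def]; exact hZ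
    exact (Groth.Agent.Lib.Helper14.closure_mem_irreducibleComponents_iff η).1 h1
  have hdim0 : ringKrullDim (U.left.presheaf.stalk η) = 0 := (maxPt_iff_stalkDim_eq_zero η).1 hmax
  exact (hasAtMor_qfNear_ofPt_iff X.property Y.property f.hom hf a b hh ha hb hc η).1
    (h _ ((hasAt_stalkDim_iff X.property a ha η 0).2 hdim0))

end Groth.Agent.S10503
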