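import Groth.Statements.S10456
import Groth.Agent.S10503
import Groth.Agent.Lib.Seat45MaxPtDense
import Groth.Agent.Lib.Seat45LocFinIrrSp

set_option autoImplicit false
set_option linter.style.haveILetI false
universe u
open CategoryTheory CategoryTheory.Limits AlgebraicGeometry Topology TopologicalSpace
open AlgSp

namespace Groth.Agent.S10456

/-- Let f : X ⟶ Y be a morphism of algebraic spaces over a scheme S which is locally of finite type,
with Y locally Noetherian, and let y be a point of Y of codimension at most 1. If the points of |X|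
where f is quasi-finite form a dense subset, then every point of X mapping to y is a point where f
is quasi-finite. -/
theorem result {S : Scheme.{u}} {X Y : AlgSp.Space S} (f : X ⟶ Y)
    (hf : AlgSp.LocP @LocallyOfFiniteType f.hom) (hY : AlgSp.IsLocNoethSp Y.obj) (y : AlgSp.Points Y.obj)
    (hy : AlgSp.HasAt (fun U u => ringKrullDim ↥(U.presheaf.stalk u) ≤ 1) Y.obj y)
    (h : Dense {x : AlgSp.Points X.obj | AlgSp.HasAtMor (fun U _ h u => ∃ W : U.Opens, u ∈ W ∧ LocallyQuasiFinite (W.ι ≫ h) ∧ LocallyOfFiniteType (W.ι ≫ h)) f.hom x})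
    (x : AlgSp.Points X.obj) (hx : AlgSp.Points.map f.hom x = y) :
    AlgSp.HasAtMor (fun U _ h u => ∃ W : U.Opens, u ∈ W ∧ LocallyQuasiFinite (W.ι ≫ h) ∧ LocallyOfFiniteType (W.ι ≫ h)) f.hom x := by
  open Groth.Agent.Lib.Seat45.QFin Groth.Agent.Lib.Seat45.Noeth Groth.Agent.Lib.Seat45.ChartsMor
    Groth.Agent.Lib.Seat45.LocFinIrr Groth.Agent.Lib.Seat45.Charts in
  refine Groth.Agent.S10503.result f hf hY y hy ?_ x hx
  intro x₀ hx₀
  have hQ : (fun U _ h u => ∃ W : U.Opens, u ∈ W ∧ LocallyQuasiFinite (W.ι ≫ h) ∧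
      LocallyOfFiniteType (W.ι ≫ h)) = QFNear := rfl
  rw [hQ] at h ⊢
  obtain ⟨U, V, a, b, hh, η, ha, hb, hc, rfl⟩ := exists_diagram X.property Y.property f.hom x₀
  haveI : LocallyOfFiniteType hh.left := hf a b hh ha hb hc
  haveI : IsLocallyNoetherian V.left := isLocallyNoetherian_chart hY b hb
  haveI : IsLocallyNoetherian U.left := LocallyOfFiniteType.isLocallyNoetherian hh.left
  refine (hasAtMor_qfNear_ofPt_iff X.property Y.property f.hom hf a b hh ha hb hc η).2 ?_
  have hmax : MaxPt η :=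
    (maxPt_iff_stalkDim_eq_zero η).2 ((hasAt_stalkDim_iff X.property a ha η 0).1 hx₀)
  have hpre : AlgSp.Points.ofPt a ⁻¹' {x : AlgSp.Points X.obj | AlgSp.HasAtMor QFNear f.hom x} =
      {u : ↥U.left | hh.left.QuasiFiniteAt u} := by
    ext u
    exact hasAtMor_qfNear_ofPt_iff X.property Y.property f.hom hf a b hh ha hb hc u
  have hdense : Dense {u : ↥U.left | hh.left.QuasiFiniteAt u} := by
    rw [← hpre]
    exact h.preimage (Groth.Agent.S10176.isOpenMap_ofPt a ha)
  exact mem_of_dense_open_of_maxPt _ hh.left.isOpen_quasiFiniteAt hdense η hmax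

end Groth.Agent.S10456
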