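import Groth.Statements.S10466
import Groth.Agent.Lib.Seat47GeomConnProd
import Groth.Agent.Lib.Seat44OverField

set_option autoImplicit false
universe u
open CategoryTheory CategoryTheory.Limits AlgebraicGeometry Topology TopologicalSpace
open AlgSp

namespace Groth.Agent.S10466

/-- Let k be a field and X, Y algebraic spaces over k with X geometrically connected over k. Then the
projection X ×_k Y ⟶ Y induces a bijection between connected components of |X ×_k Y| and of |Y|. -/
theorem result (k : Type u) [Field k]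
    (X Y : AlgSp.Space (Spec (CommRingCat.of k))) (hX : (∀ (K : Type u) [Field K] [Algebra k K], ConnectedSpace (AlgSp.Points (X.obj ⨯ (AlgSp.yon (Spec (CommRingCat.of k))).obj (Over.mk (Spec.map (CommRingCat.ofHom (algebraMap k K)))))))) :
    Function.Bijective (Continuous.connectedComponentsMap
      (AlgSp.Points.continuous_map (Limits.prod.snd : X.obj ⨯ Y.obj ⟶ Y.obj))) := by
  have hpt := Groth.Agent.Lib.Seat47.GeomConnProd.isTerminal_yon_mkId (S := Spec (CommRingCat.of k))
  have sq : IsPullback (Limits.prod.fst : X.obj ⨯ Y.obj ⟶ X.obj) Limits.prod.snd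
      (hpt.from X.obj) (hpt.from Y.obj) := IsPullback.of_is_product' (prodIsProd _ _) hpt
  have hopen : IsOpenMap (AlgSp.Points.map (Limits.prod.snd : X.obj ⨯ Y.obj ⟶ Y.obj)) :=
    Groth.Agent.Lib.Seat44.OverField.isUnivOpenMor_to_field X.property
      (𝟙 (Spec (CommRingCat.of k))) (hpt.from X.obj) Y.property (hpt.from Y.obj) _ _ sq
  refine Groth.Agent.Lib.Seat47.GeomConnProd.connectedComponentsMap_bijective_of_fibres sq hopen ?_
  rintro ⟨K, str, val⟩
  obtain ⟨φ, rfl⟩ : ∃ φ : CommRingCat.of k ⟶ CommRingCat.of K, Spec.map φ = str :=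
    ⟨Spec.preimage str, Spec.map_preimage str⟩
  letI : Algebra k K := φ.hom.toAlgebra
  refine ⟨X.obj ⨯ (AlgSp.yon (Spec (CommRingCat.of k))).obj
    (Over.mk (Spec.map (CommRingCat.ofHom (algebraMap k K)))), Limits.prod.fst, Limits.prod.snd,
    ?_, hX K⟩
  have h := IsPullback.of_is_product' (prodIsProd X.obj ((AlgSp.yon (Spec (CommRingCat.of k))).obj
    (Over.mk (Spec.map (CommRingCat.ofHom (algebraMap k K)))))) hpt
  rw [show AlgSp.FieldPt.toHom (⟨K, Spec.map φ, val⟩ : AlgSp.FieldPt Y.obj) ≫ hpt.from Y.obj =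
    hpt.from _ from hpt.hom_ext _ _]
  exact h

end Groth.Agent.S10466
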