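import Groth.Statements.S10467
import Groth.Agent.Lib.Seat47GeomConnFibre

set_option autoImplicit false
universe u
open CategoryTheory CategoryTheory.Limits AlgebraicGeometry Topology TopologicalSpace
open AlgSp

namespace Groth.Agent.S10467

/-- Let k be a separably closed field, K an extension field of k and X an algebraic space over k. Then
X_K ⟶ X induces a bijection of connected components. -/
theorem result (k : Type u) [Field k] [IsSepClosed k]
    (X : AlgSp.Space (Spec (CommRingCat.of k))) (K : Type u) [Field K] [Algebra k K] :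
    Function.Bijective (Continuous.connectedComponentsMap
      (AlgSp.Points.continuous_map (Limits.prod.fst : (X.obj ⨯ (AlgSp.yon (Spec (CommRingCat.of k))).obj (Over.mk (Spec.map (CommRingCat.ofHom (algebraMap k K))))) ⟶ X.obj))) := by
  let T' : Over (Spec (CommRingCat.of k)) := Over.mk (Spec.map (CommRingCat.ofHom (algebraMap k K)))
  let γ : T' ⟶ Over.mk (𝟙 (Spec (CommRingCat.of k))) := Over.mkIdTerminal.from T'
  have hpt : IsTerminal ((AlgSp.yon (Spec (CommRingCat.of k))).obj (Over.mk (𝟙 _))) :=
    IsTerminal.isTerminalObj (AlgSp.yon _) _ Over.mkIdTerminal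
  have sq : IsPullback (Limits.prod.fst : X.obj ⨯ (AlgSp.yon _).obj T' ⟶ X.obj) Limits.prod.snd
      (hpt.from X.obj) ((AlgSp.yon _).map γ) := by
    have h := IsPullback.of_is_product' (prodIsProd X.obj ((AlgSp.yon _).obj T')) hpt
    rwa [show hpt.from ((AlgSp.yon _).obj T') = (AlgSp.yon _).map γ from hpt.hom_ext _ _] at h
  have hγ : γ.left = Spec.map (CommRingCat.ofHom (algebraMap k K)) := by simp [γ, T']
  obtain ⟨h1, h2⟩ := Groth.Agent.Lib.Seat47.GeomConnFibre.univOpen_geomConn_of_isSepClosed
    (k := k) (Ω := K) (Spec.map (CommRingCat.ofHom (algebraMap k K)))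
  haveI : UniversallyOpen γ.left := hγ ▸ h1
  haveI : GeometricallyConnected γ.left := hγ ▸ h2
  exact Groth.Agent.Lib.Seat47.GeomConnFibre.connectedComponentsMap_bijective γ sq

end Groth.Agent.S10467
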