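import Groth.Statements.S10468
import Groth.Agent.Lib.Seat47GeomConnProd

set_option autoImplicit false
universe u
open CategoryTheory CategoryTheory.Limits AlgebraicGeometry Topology TopologicalSpace
open AlgSp

namespace Groth.Agent.S10468

/-- Let k be a field with separable algebraic closure k̄ and X an algebraic space over k. Then X is
geometrically connected if and only if X_{k̄} is connected. -/
theorem result (k : Type u) [Field k] (X : AlgSp.Space (Spec (CommRingCat.of k)))
    (kbar : Type u) [Field kbar] [Algebra k kbar] [IsSepClosure k kbar] :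
    (∀ (K : Type u) [Field K] [Algebra k K], ConnectedSpace (AlgSp.Points (X.obj ⨯ (AlgSp.yon (Spec (CommRingCat.of k))).obj (Over.mk (Spec.map (CommRingCat.ofHom (algebraMap k K))))))) ↔ ConnectedSpace (AlgSp.Points (X.obj ⨯ (AlgSp.yon (Spec (CommRingCat.of k))).obj (Over.mk (Spec.map (CommRingCat.ofHom (algebraMap k kbar)))))) := by
  constructor
  · intro h
    exact h kbar
  · intro h K _ _
    haveI : IsSepClosed kbar := IsSepClosure.sep_closed k
    obtain ⟨Ω, _, i₁, i₂, hi⟩ :=
      AlgSp.FieldPt.exists_amalgamation (algebraMap k K) (algebraMap k kbar)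
    letI : Algebra k Ω := (i₁.comp (algebraMap k K)).toAlgebra
    have e₁ : Spec.map (CommRingCat.ofHom i₁) ≫ Spec.map (CommRingCat.ofHom (algebraMap k K)) =
        Spec.map (CommRingCat.ofHom (algebraMap k Ω)) := by
      rw [← Spec.map_comp]
      rfl
    have e₂ : Spec.map (CommRingCat.ofHom i₂) ≫ Spec.map (CommRingCat.ofHom (algebraMap k kbar)) =
        Spec.map (CommRingCat.ofHom (algebraMap k Ω)) := by
      rw [← Spec.map_comp]
      congr 1
      exact CommRingCat.hom_ext hi.symm
    let g₁ : (Over.mk (Spec.map (CommRingCat.ofHom (algebraMap k Ω))) :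
        Over (Spec (CommRingCat.of k))) ⟶ Over.mk (Spec.map (CommRingCat.ofHom (algebraMap k K))) :=
      Over.homMk (Spec.map (CommRingCat.ofHom i₁)) e₁
    let g₂ : (Over.mk (Spec.map (CommRingCat.ofHom (algebraMap k Ω))) :
        Over (Spec (CommRingCat.of k))) ⟶
        Over.mk (Spec.map (CommRingCat.ofHom (algebraMap k kbar))) :=
      Over.homMk (Spec.map (CommRingCat.ofHom i₂)) e₂
    have sq₁ := Groth.Agent.Lib.Seat47.GeomConnProd.isPullback_prod_map X.obj g₁
    have sq₂ := Groth.Agent.Lib.Seat47.GeomConnProd.isPullback_prod_map X.obj g₂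
    obtain ⟨h1, h2⟩ := Groth.Agent.Lib.Seat47.GeomConnFibre.univOpen_geomConn_of_isSepClosed
      (k := kbar) (Ω := Ω) (Spec.map (CommRingCat.ofHom i₂))
    haveI : UniversallyOpen g₂.left := h1
    haveI : GeometricallyConnected g₂.left := h2
    haveI : ConnectedSpace (AlgSp.Points (X.obj ⨯ (AlgSp.yon (Spec (CommRingCat.of k))).obj
        (Over.mk (Spec.map (CommRingCat.ofHom (algebraMap k Ω)))))) :=
      Groth.Agent.Lib.Seat47.GeomConnProd.connectedSpace_of_isPullback_yon_map g₂ sq₂
    have hs : Function.Surjective g₁.left := by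
      intro x
      refine ⟨(default : PrimeSpectrum Ω), ?_⟩
      exact Subsingleton.elim (α := PrimeSpectrum K) _ _
    exact (Groth.Agent.Lib.Seat47.GeomConnProd.surjective_of_isPullback_yon_map g₁ hs
      sq₁).connectedSpace (AlgSp.Points.continuous_map _)

end Groth.Agent.S10468
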