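import Groth.Statements.S10472
import Groth.Agent.Lib.Seat47FieldBCStab

set_option autoImplicit false
universe u
open CategoryTheory CategoryTheory.Limits AlgebraicGeometry Topology TopologicalSpace
open AlgSp

namespace Groth.Agent.S10472

/-- Let k be a field, K/k a (possibly infinite) Galois extension, X an algebraic space over k and V a
quasi-compact open of |X_K|. Then there are a finite subextension k' of K/k and a quasi-compact open
V' of |X_{k'}| with V the inverse image of V' in |X_K|. -/
theorem result (k : Type u) [Field k] (X : AlgSp.Space (Spec (CommRingCat.of k))) (K : Type u) [Field K] [Algebra k K]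
    [IsGalois k K] (V : Set (AlgSp.Points (X.obj ⨯ (AlgSp.yon (Spec (CommRingCat.of k))).obj (Over.mk (Spec.map (CommRingCat.ofHom (algebraMap k K))))))) (hV : IsOpen V) (hVc : IsCompact V) :
    ∃ (k' : IntermediateField k K) (_ : FiniteDimensional k k')
      (g : (Over.mk (Spec.map (CommRingCat.ofHom (algebraMap k K))) : Over (Spec (CommRingCat.of k))) ⟶ Over.mk (Spec.map (CommRingCat.ofHom (algebraMap k k')))),
      g.left = Spec.map (CommRingCat.ofHom (algebraMap k' K)) ∧
      ∃ V' : Set (AlgSp.Points (X.obj ⨯ (AlgSp.yon (Spec (CommRingCat.of k))).obj (Over.mk (Spec.map (CommRingCat.ofHom (algebraMap k k')))))), IsOpen V' ∧ IsCompact V' ∧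
        AlgSp.Points.map (Limits.prod.map (𝟙 X.obj) ((AlgSp.yon (Spec (CommRingCat.of k))).map g)) ⁻¹' V' = V := by
  haveI : Algebra.IsAlgebraic k K := inferInstance
  obtain ⟨U, a, -, has⟩ := X.property.atlas
  obtain ⟨E, hEfd, hE⟩ :=
    Groth.Agent.Lib.Seat47.FieldBCStab.exists_finite_stabilizer K X V hV hVc
  haveI : Normal E K := inferInstance
  haveI : UniversallyOpen (Groth.Agent.Lib.Seat47.FieldBCTrans.ptMap (k := k) E K).left :=
    (inferInstance : UniversallyOpen (Spec.map (CommRingCat.ofHom (algebraMap E K))))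
  have hopen : IsOpenMap (AlgSp.Points.map (Limits.prod.map (𝟙 X.obj)
      ((AlgSp.yon (Spec (CommRingCat.of k))).map
        (Groth.Agent.Lib.Seat47.FieldBCTrans.ptMap (k := k) E K)))) :=
    Groth.Agent.Lib.Seat47.FieldBCTrans.isOpenMap_pr' _
      (Groth.Agent.Lib.Seat47.GeomConnProd.isPullback_prod_map X.obj
        (Groth.Agent.Lib.Seat47.FieldBCTrans.ptMap (k := k) E K))
  refine ⟨E, hEfd, Groth.Agent.Lib.Seat47.FieldBCTrans.ptMap (k := k) E K, rfl, _, hopen _ hV,
    hVc.image (AlgSp.Points.continuous_map _), ?_⟩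
  apply Set.Subset.antisymm
  · rintro z ⟨v, hv, hvz⟩
    obtain ⟨σ, hσE, hσz⟩ :=
      Groth.Agent.Lib.Seat47.FieldBCTrans.exists_gal_of_tower_eq K a has E v z hvz
    rw [← hE σ (fun x hx => hσE ⟨x, hx⟩)]
    exact ⟨v, hv, hσz⟩
  · exact Set.subset_preimage_image _ _

end Groth.Agent.S10472
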