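import Groth.Statements.S10483
import Groth.Agent.Lib.Seat45LqfArt

set_option autoImplicit false
set_option linter.style.haveILetI false
universe u
open CategoryTheory CategoryTheory.Limits AlgebraicGeometry Topology TopologicalSpace
open AlgSp

namespace Groth.Agent.S10483

/-- (1) ⇔ (5): let k be a field and X an algebraic space over k. Then X is locally quasi-finite over k
if and only if X decomposes as a disjoint union of spectra of finite-dimensional Artinian local
k-algebras: X is a scheme every point of which has an affine open neighbourhood with Artinian local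
coordinate ring, finite over k. -/
theorem result (k : Type u) [Field k] (X : AlgSp.Space (Spec (CommRingCat.of k))) (p : X.obj ⟶ (AlgSp.yon (Spec (CommRingCat.of k))).obj (Over.mk (𝟙 _))) :
    AlgSp.LocP (@LocallyQuasiFinite ⊓ @LocallyOfFiniteType : MorphismProperty Scheme.{u}) p ↔
      ∃ (U : Over (Spec (CommRingCat.of k))) (_ : (AlgSp.yon (Spec (CommRingCat.of k))).obj U ≅ X.obj), ∀ u : ↥U.left, ∃ V : U.left.Opens,
        u ∈ V ∧ IsAffineOpen V ∧ IsArtinianRing ↥Γ(U.left, V) ∧ IsLocalRing ↥Γ(U.left, V) ∧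
          IsFinite (V.ι ≫ U.hom) := by
  haveI : IsLocallyArtinian (Over.mk (𝟙 (Spec (CommRingCat.of k)))).left :=
    inferInstanceAs (IsLocallyArtinian (Spec (CommRingCat.of k)))
  constructor
  · intro h1
    have hlqf : AlgSp.LocP @LocallyQuasiFinite p := fun U V a b h ha hb hc => (h1 a b h ha hb hc).1
    obtain ⟨W₀, e₀, hArt⟩ := Groth.Agent.Lib.Seat45.LqfArt.exists_iso_of_locP_lqf X.property p hlqf
    haveI := hArt
    haveI : DiscreteTopology ↥W₀.left := inferInstance
    obtain ⟨g, hg⟩ := (AlgSp.yon (Spec (CommRingCat.of k))).map_surjective (e₀.hom ≫ p)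
    have he₀ : AlgSp.RepWith @Etale e₀.hom := (AlgSp.RepWith @Etale).of_isIso e₀.hom
    have hgl : LocallyQuasiFinite g.left :=
      hlqf e₀.hom (𝟙 _) g he₀ (AlgSp.repWith_id _ _) (by rw [hg, Category.comp_id])
    have hgw : g.left = W₀.hom := by
      have := Over.w g
      simpa using this
    haveI : LocallyQuasiFinite W₀.hom := hgw ▸ hgl
    refine ⟨W₀, e₀, fun u => ?_⟩
    let V : W₀.left.Opens := ⟨{u}, isOpen_discrete _⟩
    haveI : Subsingleton ↥V.toScheme := inferInstanceAs (Subsingleton ↥({u} : Set ↥W₀.left))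
    haveI : Nonempty ↥V.toScheme := ⟨⟨u, rfl⟩⟩
    have hVaff : IsAffineOpen V := (inferInstance : IsAffine V.toScheme)
    haveI : IsArtinianRing ↥Γ(W₀.left, V) :=
      IsLocallyArtinian.isArtinianRing_presheaf_obj (X := W₀.left) ⟨V, hVaff⟩
    refine ⟨V, rfl, hVaff, inferInstance, ?_, ?_⟩
    · -- local ring
      have hsub : Subsingleton (PrimeSpectrum ↥Γ(W₀.left, V)) :=
        (hVaff.isoSpec.hom.homeomorph.symm.injective).subsingleton
      haveI : Nontrivial ↥Γ(W₀.left, V) := by
        have : Nonempty (PrimeSpectrum ↥Γ(W₀.left, V)) :=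
          ⟨hVaff.isoSpec.hom.homeomorph ⟨u, rfl⟩⟩
        exact (PrimeSpectrum.nonempty_iff_nontrivial).1 this
      obtain ⟨m, hm⟩ := Ideal.exists_maximal ↥Γ(W₀.left, V)
      refine IsLocalRing.of_unique_max_ideal ⟨m, hm, fun m' hm' => ?_⟩
      exact congrArg PrimeSpectrum.asIdeal
        (hsub.elim ⟨m', hm'.isPrime⟩ ⟨m, hm.isPrime⟩)
    · haveI : Finite ↥V.toScheme := Finite.of_subsingleton
      haveI : QuasiCompact (V.ι ≫ W₀.hom) :=
        Groth.Agent.Lib.Seat45.LqfArt.quasiCompact_of_finite _
      haveI : LocallyQuasiFinite (V.ι ≫ W₀.hom) := inferInstance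
      haveI : IsLocallyArtinian (Spec (CommRingCat.of k)) := inferInstance
      exact IsFinite.of_locallyQuasiFinite (V.ι ≫ W₀.hom)
  · rintro ⟨U, e, hU⟩
    choose V huV hVaff hVart hVloc hVfin using hU
    have hcov : iSup V = ⊤ := by
      rw [eq_top_iff]
      intro u _
      exact TopologicalSpace.Opens.mem_iSup.2 ⟨u, huV u⟩
    have hUq : LocallyQuasiFinite U.hom :=
      IsZariskiLocalAtSource.of_iSup_eq_top (P := @LocallyQuasiFinite) V hcov
        (fun u => by haveI := hVfin u; infer_instance)
    have hUt : LocallyOfFiniteType U.hom :=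
      IsZariskiLocalAtSource.of_iSup_eq_top (P := @LocallyOfFiniteType) V hcov
        (fun u => by haveI := hVfin u; infer_instance)
    intro T W a b h ha hb hc
    obtain ⟨φ, hφ⟩ := (AlgSp.yon (Spec (CommRingCat.of k))).map_surjective (a ≫ e.inv)
    have hφe : AlgSp.RepWith @Etale ((AlgSp.yon (Spec (CommRingCat.of k))).map φ) := by
      rw [hφ]
      exact (AlgSp.RepWith @Etale).comp_mem _ _ ha ((AlgSp.RepWith @Etale).of_isIso e.inv)
    haveI : Etale φ.left := (AlgSp.repWith_yon_map_iff _ _).1 hφe
    have hTq : LocallyQuasiFinite T.hom := by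
      rw [← Over.w φ]
      haveI := Groth.Agent.S10555.lqf_of_etale φ.left
      infer_instance
    have hTt : LocallyOfFiniteType T.hom := by
      rw [← Over.w φ]
      infer_instance
    have hTh : T.hom = h.left ≫ W.hom := (Over.w h).symm
    rw [hTh] at hTq hTt
    exact ⟨LocallyQuasiFinite.of_comp h.left W.hom, locallyOfFiniteType_of_comp h.left W.hom⟩

end Groth.Agent.S10483
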