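import Groth.Statements.S10490
import Groth.Agent.Lib.Seat47ResMap
import Groth.Agent.Lib.Seat47GeomConnProd
import Groth.Agent.S1550
import Groth.Agent.S10177

set_option autoImplicit false
universe u
open CategoryTheory CategoryTheory.Limits AlgebraicGeometry Topology TopologicalSpace
open AlgSp

namespace Groth.Agent.S10490

/-- Let k be a field and X an algebraic space smooth over k. Then the points of X which are images of
morphisms Spec k' ⟶ X over k with k' a finite separable extension of k form a dense subset of |X|. -/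
theorem result (k : Type u) [Field k] (X : AlgSp.Space (Spec (CommRingCat.of k))) (p : X.obj ⟶ (AlgSp.yon (Spec (CommRingCat.of k))).obj (Over.mk (𝟙 _))) (hp : AlgSp.LocP @Smooth p) :
    Dense {x : AlgSp.Points X.obj | ∃ (k' : Type u) (_ : Field k') (_ : Algebra k k'),
      Module.Finite k k' ∧ Algebra.IsSeparable k k' ∧
        ∃ v : X.obj.obj.obj (Opposite.op (Over.mk (Spec.map (CommRingCat.ofHom (algebraMap k k'))))),
          AlgSp.Points.mk ⟨k', Spec.map (CommRingCat.ofHom (algebraMap k k')), v⟩ = x} := by
  obtain ⟨U, a, hae, has⟩ := X.property.atlas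
  have hpt := Groth.Agent.Lib.Seat47.GeomConnProd.isTerminal_yon_mkId (S := Spec (CommRingCat.of k))
  have hsm : Smooth (Over.mkIdTerminal.from U).left :=
    hp a (𝟙 _) (Over.mkIdTerminal.from U) hae (AlgSp.repWith_id @Etale _) (hpt.hom_ext _ _)
  haveI : Smooth (U.left ↘ Spec (CommRingCat.of k)) := by
    have e : (Over.mkIdTerminal.from U).left = U.hom := by simp
    rw [e] at hsm
    exact hsm
  have hd := Groth.Agent.S1550.result k U.left
  have hd' := (Groth.Agent.S10177.surjective_ofPt a has).denseRange.dense_image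
    (AlgSp.Points.continuous_ofPt a) hd
  refine hd'.mono ?_
  rintro _ ⟨u, ⟨-, hfin, hsep⟩, rfl⟩
  obtain ⟨v, hv⟩ := Groth.Agent.Lib.Seat47.ResMap.exists_val_of_str_eq (AlgSp.FieldPt.ofPt a u)
    (Spec.map (CommRingCat.ofHom (Curv2.resMap k U.left u)))
    (Groth.Agent.Lib.Seat47.ResMap.fromSpecResidueField_comp k U.left u).symm
  exact ⟨U.left.residueField u, inferInstance, Curv2.resAlgebra k U.left u, hfin, hsep, v, hv⟩

end Groth.Agent.S10490
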