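import Groth.Statements.S10491
import Mathlib
import Groth.Agent.S10202

set_option autoImplicit false
universe u
open CategoryTheory CategoryTheory.Limits AlgebraicGeometry Topology TopologicalSpace
open AlgSp

namespace Groth.Agent.S10491

/-- only finitely many irreducible components of a space meet an open subset which is a
Noetherian space. -/
lemma finite_irreducibleComponents_inter_nonempty {Y : Type*} [TopologicalSpace Y] (O : Set Y)
    (hO : IsOpen O) [NoetherianSpace ↥O] :
    {Z : Set Y | Z ∈ irreducibleComponents Y ∧ (Z ∩ O).Nonempty}.Finite := by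
  have hf : IsOpenEmbedding ((↑) : ↥O → Y) := hO.isOpenEmbedding_subtypeVal
  have hfin : (irreducibleComponents ↥O).Finite := NoetherianSpace.finite_irreducibleComponents
  refine Set.Finite.of_finite_image (f := fun Z : Set Y => ((↑) : ↥O → Y) ⁻¹' Z)
    (hfin.subset ?_) ?_
  · rintro _ ⟨Z, ⟨hZ, hne⟩, rfl⟩
    exact preimage_mem_irreducibleComponents hZ hf (by simpa using hne)
  · rintro Z ⟨hZ, hne⟩ Z' ⟨hZ', hne'⟩ (h : ((↑) : ↥O → Y) ⁻¹' Z = ((↑) : ↥O → Y) ⁻¹' Z')
    have key : ∀ Z : Set Y, Z ∈ irreducibleComponents Y → (Z ∩ O).Nonempty →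
        closure (Z ∩ O) = Z := by
      intro Z hZ hne
      apply subset_antisymm
      · exact closure_minimal Set.inter_subset_left (isClosed_of_mem_irreducibleComponents Z hZ)
      · exact subset_closure_inter_of_isPreirreducible_of_isOpen hZ.1.isPreirreducible hO hne
    have h2 : Z ∩ O = Z' ∩ O := by
      have := congrArg (fun s => ((↑) : ↥O → Y) '' s) h
      simpa [Subtype.image_preimage_coe, Set.inter_comm] using this
    rw [← key Z hZ hne, ← key Z' hZ' hne', h2]

/-- Let X be an algebraic space over a scheme S which is locally Noetherian, and T ⊂ |X| a closed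
subset. Then every point of |X| has a neighbourhood meeting only finitely many irreducible
components of T. -/
theorem result {S : Scheme.{u}} (X : AlgSp.Space S)
    (hX : AlgSp.IsLocNoethSp X.obj) (T : Set (AlgSp.Points X.obj)) (hT : IsClosed T) :
    LocallyFinite (fun Z : ↥(irreducibleComponents ↥T) => ((↑) : ↥T → AlgSp.Points X.obj) '' (Z : Set ↥T)) := by
  intro x
  obtain ⟨W, hW, hxW, hWN⟩ := Groth.Agent.S10202.result X hX x
  refine ⟨W, hW.mem_nhds hxW, ?_⟩
  let O : Set ↥T := ((↑) : ↥T → AlgSp.Points X.obj) ⁻¹' W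
  have hO : IsOpen O := hW.preimage continuous_subtype_val
  let g : ↥O → ↥W := fun p => ⟨(p.1 : AlgSp.Points X.obj), p.2⟩
  have hg : IsInducing g := by
    have h1 : IsInducing (((↑) : ↥W → AlgSp.Points X.obj) ∘ g) := by
      have : (((↑) : ↥W → AlgSp.Points X.obj) ∘ g) =
          ((↑) : ↥T → AlgSp.Points X.obj) ∘ ((↑) : ↥O → ↥T) := rfl
      rw [this]
      exact IsInducing.subtypeVal.comp IsInducing.subtypeVal
    exact IsInducing.of_comp (by fun_prop) continuous_subtype_val h1
  haveI : NoetherianSpace ↥O := hg.noetherianSpace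
  have hfin := finite_irreducibleComponents_inter_nonempty O hO
  refine (hfin.preimage (f := fun Z : ↥(irreducibleComponents ↥T) => (Z : Set ↥T))
    Subtype.val_injective.injOn).subset ?_
  rintro Z ⟨_, ⟨z, hz, rfl⟩, hzW⟩
  exact ⟨Z.2, ⟨z, hz, hzW⟩⟩

end Groth.Agent.S10491
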