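import Groth.Statements.S10494
import Groth.Agent.Lib.Seat47GsectEt
import Groth.Agent.S10177

set_option autoImplicit false
universe u
open CategoryTheory CategoryTheory.Limits AlgebraicGeometry Topology TopologicalSpace
open AlgSp

namespace Groth.Agent.S10494

/-- Let X be an integral algebraic space over a scheme S. Then Γ(X, O_X) is a domain. -/
theorem result {S : Scheme.{u}} (X : AlgSp.Space S)
    (hX : AlgSp.IsIntegralSp X.obj) : IsDomain ↥(AlgSp.gsectEt (AlgSp.OEt X.obj)) := by
  open Groth.Agent.Lib.Seat47.GsectEt in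
  obtain ⟨hred, -, hirr⟩ := hX
  haveI := hirr
  have hred' : AlgSp.IsReducedSp X.obj := hred
  have hne : (nonvanishing (1 : ↥(AlgSp.gsectEt (AlgSp.OEt X.obj)))).Nonempty := by
    obtain ⟨x⟩ := (inferInstance : Nonempty (AlgSp.Points X.obj))
    obtain ⟨U, p, hpe, hps, -⟩ := hred
    obtain ⟨u, rfl⟩ := Groth.Agent.S10177.surjective_ofPt p hps x
    refine ⟨_, (mem_nonvanishing_iff 1 (AlgSp.EtOver.mk p hpe) u).2 ?_⟩
    rw [val_one, Scheme.basicOpen_of_isUnit _ isUnit_one]
    trivial
  haveI : Nontrivial ↥(AlgSp.gsectEt (AlgSp.OEt X.obj)) := by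
    refine ⟨⟨1, 0, fun h => ?_⟩⟩
    rw [h, (nonvanishing_eq_empty_iff hred' 0).2 rfl] at hne
    exact Set.not_nonempty_empty hne
  haveI : NoZeroDivisors ↥(AlgSp.gsectEt (AlgSp.OEt X.obj)) := by
    refine ⟨fun {f g} hfg => ?_⟩
    by_contra hcon
    rw [not_or] at hcon
    have hf : (nonvanishing f).Nonempty := by
      rw [Set.nonempty_iff_ne_empty]
      exact fun h => hcon.1 ((nonvanishing_eq_empty_iff hred' f).1 h)
    have hg : (nonvanishing g).Nonempty := by
      rw [Set.nonempty_iff_ne_empty]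
      exact fun h => hcon.2 ((nonvanishing_eq_empty_iff hred' g).1 h)
    have := nonempty_preirreducible_inter (isOpen_nonvanishing f) (isOpen_nonvanishing g) hf hg
    rw [← nonvanishing_mul, hfg, (nonvanishing_eq_empty_iff hred' 0).2 rfl] at this
    exact Set.not_nonempty_empty this
  exact NoZeroDivisors.to_isDomain _

end Groth.Agent.S10494
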