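import Groth.Statements.S10495
import Groth.Agent.Lib.Seat47GsectEt2
import Groth.Agent.Lib.Seat47NormalEt
import Groth.Agent.S10494
import Groth.Agent.S10177

set_option autoImplicit false
universe u
open CategoryTheory CategoryTheory.Limits AlgebraicGeometry Topology TopologicalSpace
open AlgSp

namespace Groth.Agent.S10495

/-- Let X be a normal integral algebraic space over a scheme S. Then Γ(X, O_X) is a normal domain. -/
theorem result {S : Scheme.{u}} (X : AlgSp.Space S)
    (hXi : AlgSp.IsIntegralSp X.obj)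
    (hXn : AlgSp.EtaleLocally (fun U => ∀ u : ↥U, IsDomain ↥(U.presheaf.stalk u) ∧
      IsIntegrallyClosed ↥(U.presheaf.stalk u)) X.obj) :
    IsDomain ↥(AlgSp.gsectEt (AlgSp.OEt X.obj)) ∧ IsIntegrallyClosed ↥(AlgSp.gsectEt (AlgSp.OEt X.obj)) := by
  open Groth.Agent.Lib.Seat47.GsectEt Groth.Agent.Lib.Seat47.NormalEt
    Groth.Agent.Lib.Seat47.NormalDiv Polynomial in
  have hdom : IsDomain ↥(AlgSp.gsectEt (AlgSp.OEt X.obj)) := Groth.Agent.S10494.result X hXi
  refine ⟨hdom, ?_⟩
  obtain ⟨hred, -, hirr⟩ := hXi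
  haveI := hirr
  have hred' : AlgSp.IsReducedSp X.obj := hred
  -- all charts have normal stalks
  have hnorm : ∀ (E : AlgSp.EtOver X.obj) (u : ↥E.obj.left.left),
      IsDomain ↥(E.obj.left.left.presheaf.stalk u) ∧
        IsIntegrallyClosed ↥(E.obj.left.left.presheaf.stalk u) := by
    obtain ⟨U₀, p, hpe, hps, hU₀⟩ := hXn
    intro E u
    obtain ⟨W, w, pr', sq⟩ := hpe.1 E.obj.hom
    obtain ⟨pr, rfl⟩ := (AlgSp.yon S).map_surjective pr'
    haveI : Etale w.left := hpe.2 _ _ w sq
    haveI : Surjective w.left := hps.2 _ _ w sq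
    haveI : Etale pr.left := E.property.2 p _ pr sq.flip
    obtain ⟨y, rfl⟩ := w.left.surjective u
    exact normal_stalk_descent w.left y (normal_stalk_of_etale pr.left y (hU₀ _))
  rw [isIntegrallyClosed_iff (FractionRing ↥(AlgSp.gsectEt (AlgSp.OEt X.obj)))]
  intro x hx
  obtain ⟨a, b, hb, rfl⟩ := IsFractionRing.div_surjective (A := ↥(AlgSp.gsectEt (AlgSp.OEt X.obj))) x
  have hb0 : b ≠ 0 := nonZeroDivisors.ne_zero hb
  obtain ⟨p, hp, hroot⟩ := exists_monic_eval_scaleRoots a b hb0 hx
  -- density of the non-vanishing locus of `b` on every chart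
  have hdense : ∀ E : AlgSp.EtOver X.obj,
      Dense (E.obj.left.left.basicOpen (val b E) : Set ↥E.obj.left.left) := by
    intro E
    have h1 : Dense (nonvanishing b) := by
      refine (isOpen_nonvanishing b).dense ?_
      rw [Set.nonempty_iff_ne_empty]
      exact fun h => hb0 ((nonvanishing_eq_empty_iff hred' b).1 h)
    have h2 := h1.preimage (Groth.Agent.S10176.isOpenMap_ofPt E.obj.hom E.property)
    convert h2 using 1
    ext u
    exact (mem_nonvanishing_iff b E u).symm
  -- division on every chart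
  have hdiv : ∀ E : AlgSp.EtOver X.obj, ∃ s : Γ(E.obj.left.left, ⊤), val b E * s = val a E := by
    intro E
    haveI : IsReduced E.obj.left.left :=
      Groth.Agent.S10242.isReduced_chart hred' E.obj.hom E.property
    refine exists_mul_eq_of_forall_germ_dvd _ _ (hdense E) (fun u => ?_)
    obtain ⟨hd, hic⟩ := hnorm E u
    let ψ : ↥(AlgSp.gsectEt (AlgSp.OEt X.obj)) →+* ↥(E.obj.left.left.presheaf.stalk u) :=
      (E.obj.left.left.presheaf.germ ⊤ u trivial).hom.comp (valHom E)
    have hψb : ψ b ≠ 0 := by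
      intro h0
      have h0' : E.obj.left.left.presheaf.germ ⊤ u trivial (val b E) =
          E.obj.left.left.presheaf.germ ⊤ u trivial 0 := by
        rw [map_zero]; exact h0
      obtain ⟨V, hV, i₁, i₂, hres⟩ := TopCat.Presheaf.germ_eq E.obj.left.left.presheaf
        (U := ⊤) (V := ⊤) u trivial trivial _ _ h0'
      rw [map_zero] at hres
      have h3 : E.obj.left.left.basicOpen (E.obj.left.left.presheaf.map i₁.op (val b E)) = ⊥ := by
        erw [hres]; exact Scheme.basicOpen_zero _ _
      rw [Scheme.basicOpen_res] at h3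
      obtain ⟨y, hy1, hy2⟩ := (hdense E).inter_open_nonempty _ V.2 ⟨u, hV⟩
      have : y ∈ V ⊓ E.obj.left.left.basicOpen (val b E) := ⟨hy1, hy2⟩
      rw [h3] at this
      exact this
    have h2 : eval (ψ a) ((p.map ψ).scaleRoots (ψ b)) = 0 := by
      rw [← map_scaleRoots p b ψ (by rw [hp.leadingCoeff, map_one]; exact one_ne_zero), Polynomial.eval_map,
        eval₂_at_apply, hroot, map_zero]
    exact dvd_of_eval_scaleRoots_eq_zero (ψ a) (ψ b) hψb _ (hp.map ψ) h2
  choose sE hsE using hdiv
  have hcompat : ∀ {E E' : AlgSp.EtOver X.obj} (g : E ⟶ E'),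
      g.hom.left.left.appTop.hom (sE E') = sE E := by
    intro E E' g
    haveI : IsReduced E.obj.left.left :=
      Groth.Agent.S10242.isReduced_chart hred' E.obj.hom E.property
    have h1 : val b E * g.hom.left.left.appTop.hom (sE E') = val a E := by
      rw [← val_map b g, ← map_mul, hsE E', val_map a g]
    have h2 := eq_zero_of_mul_eq_zero_of_dense (val b E) (hdense E) (V := ⊤)
      (g.hom.left.left.appTop.hom (sE E') - sE E) (by
        have : E.obj.left.left.presheaf.map (homOfLE (le_top : (⊤ : E.obj.left.left.Opens) ≤ ⊤)).op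
            (val b E) = val b E := by
          change E.obj.left.left.presheaf.map (𝟙 _) (val b E) = val b E
          rw [E.obj.left.left.presheaf.map_id]; rfl
        rw [this, mul_sub, h1, hsE E, sub_self])
    exact sub_eq_zero.1 h2
  obtain ⟨y, hy⟩ := exists_val_eq sE (fun g => hcompat g)
  refine ⟨y, ?_⟩
  have hby : b * y = a := by
    apply Groth.Agent.Lib.Seat47.GsectEt.ext
    intro E
    rw [val_mul, hy E, hsE E]
  rw [← hby, map_mul, mul_div_cancel_left₀]
  exact fun h0 => hb0 (IsFractionRing.injective _ (FractionRing ↥(AlgSp.gsectEt (AlgSp.OEt X.obj)))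
    (by rw [h0, map_zero]))

end Groth.Agent.S10495
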