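import Groth.Statements.S10497
import Groth.Agent.Lib.Seat47FieldBCTrans
import Groth.Agent.Lib.Helper12GeomRed
import Groth.Agent.Lib.Helper12FieldBC
import Groth.Agent.S10351
import Groth.Agent.S9874

set_option autoImplicit false
universe u
open CategoryTheory CategoryTheory.Limits AlgebraicGeometry Topology TopologicalSpace
open AlgSp

namespace Groth.Agent.S10497

/-- Let k be a field and X a decent algebraic space over k. Then all base changes X_K to field
extensions K of k are integral exactly when X is geometrically reduced over k and every |X_K| is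
irreducible. -/
theorem result (k : Type u) [Field k] (X : AlgSp.Space (Spec (CommRingCat.of k))) (hX : AlgSp.IsDecent X.obj) :
    (∀ (K : Type u) [Field K] [Algebra k K], AlgSp.IsIntegralSp (X.obj ⨯ (AlgSp.yon (Spec (CommRingCat.of k))).obj (Over.mk (Spec.map (CommRingCat.ofHom (algebraMap k K)))))) ↔
      (∀ x : AlgSp.Points X.obj, (∃ (U : Over (Spec (CommRingCat.of k))) (a : (AlgSp.yon (Spec (CommRingCat.of k))).obj U ⟶ X.obj) (u : ↥U.left),
      AlgSp.RepWith @Etale a ∧ AlgSp.Points.ofPt a u = x ∧ FBase.IsGeomReducedAt U.hom u)) ∧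
        ∀ (K : Type u) [Field K] [Algebra k K], IrreducibleSpace (AlgSp.Points (X.obj ⨯ (AlgSp.yon (Spec (CommRingCat.of k))).obj (Over.mk (Spec.map (CommRingCat.ofHom (algebraMap k K)))))) := by
  obtain ⟨U, a, hae, has⟩ := X.property.atlas
  constructor
  · intro h
    refine ⟨fun x => ?_, fun K _ _ => (h K).2.2⟩
    obtain ⟨u, rfl⟩ := Groth.Agent.S10177.surjective_ofPt a has x
    refine ⟨U, a, u, hae, rfl, ?_⟩
    intro K _ _ x' _
    haveI : IsReduced (FBase.bc U.hom K) :=
      Groth.Agent.Lib.Helper12.FieldBC.isReduced_bc_of_isReducedSp K (h K).1 a hae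
    infer_instance
  · rintro ⟨hgr, hirr⟩ K _ _
    refine ⟨?_, ?_, hirr K⟩
    · apply Groth.Agent.Lib.Helper12.FieldBC.isReducedSp_bc_of_isReduced K a hae has
      haveI : ∀ x' : ↥(FBase.bc U.hom K), _root_.IsReduced ((FBase.bc U.hom K).presheaf.stalk x') := by
        intro x'
        obtain ⟨V, b, v, hbe, hbv, hv⟩ := hgr (AlgSp.Points.ofPt a ((FBase.bcπ U.hom K).base x'))
        have hu : FBase.IsGeomReducedAt U.hom ((FBase.bcπ U.hom K).base x') :=
          (Groth.Agent.Lib.Helper12.GeomRed.isGeomReducedAt_iff_of_ofPt_eq b a hbe hae v _ hbv).mp hv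
        exact hu K x' rfl
      exact isReduced_of_isReduced_stalk _
    · obtain ⟨γ, -, sq⟩ := Groth.Agent.Lib.Seat47.FieldBCTrans.exists_fst_sq K X.obj
      have hXK : AlgSp.IsAlgSpace (X.obj ⨯ (AlgSp.yon (Spec (CommRingCat.of k))).obj
          (Over.mk (Spec.map (CommRingCat.ofHom (algebraMap k K))))) :=
        Groth.Agent.S9874.isAlgSpace_of_isPullback (AlgSp.IsAlgSpace.yon_obj _).diag X.property
          (AlgSp.IsAlgSpace.yon_obj _) sq
      have hrep : AlgSp.Representable (Limits.prod.fst : X.obj ⨯ (AlgSp.yon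
          (Spec (CommRingCat.of k))).obj (Over.mk (Spec.map (CommRingCat.ofHom (algebraMap k K)))) ⟶
            X.obj) :=
        MorphismProperty.of_isPullback (P := AlgSp.Representable) sq.flip
          (AlgSp.representable_yon_map γ)
      exact Groth.Agent.S10351.result (X := ⟨_, hXK⟩) (Y := X)
        (ObjectProperty.homMk Limits.prod.fst) hrep hX

end Groth.Agent.S10497
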