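import Groth.Statements.S10498
import Mathlib
import Groth.Agent.Lib.Seat46IndEtRed
import Groth.Agent.Lib.Helper3IndEtHz
import Groth.Agent.Lib.Helper3HzP

set_option autoImplicit false
universe u
open TensorProduct
open Hensel

namespace Groth.Agent.S10498

/-- (1) ⇔ (2): let k be a field, A a local k-algebra and R a strict henselization of A. Then A is
geometrically reduced over k (K ⊗_k A reduced for every field extension K of k) if and only if R is
geometrically reduced over k. -/
theorem result (k : Type u) [Field k]
    (A : Type u) [CommRing A] [IsLocalRing A] [Algebra k A]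
    (R : Type u) [CommRing R] [IsLocalRing R] [Algebra A R] [IsLocalHom (algebraMap A R)]
    [Hensel.IsStrictHenselization A R] [Algebra k R] [IsScalarTower k A R] :
    (∀ (K : Type u) [Field K] [Algebra k K], IsReduced (TensorProduct k K A)) ↔
      ∀ (K : Type u) [Field K] [Algebra k K], IsReduced (TensorProduct k K R) := by
  have hfac : Groth.Agent.Lib.Helper3.IndEt.Obj.Factor A R :=
    Groth.Agent.Lib.Helper3.IndEt.factor_of_isIndEtale
      (Groth.Agent.Lib.Helper3.IndEt.isIndEtale_of_isStrictHenselization A R)
  have hff : Module.FaithfullyFlat A R := Groth.Agent.Lib.Helper3.HzP.sh_faithfullyFlat A R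
  have hinj : Function.Injective (algebraMap A R) := FaithfulSMul.algebraMap_injective A R
  constructor
  · intro h K _ _
    have h1 : IsReduced (K ⊗[k] A) := h K
    have h2 : IsReduced (A ⊗[k] K) :=
      isReduced_of_injective (Algebra.TensorProduct.comm k A K).toRingEquiv
        (Algebra.TensorProduct.comm k A K).injective
    have h3 : IsReduced (R ⊗[k] K) :=
      Groth.Agent.Lib.Seat46.IndEtRed.isReduced_tensor_of_factor_of_isReduced A R hfac
    exact isReduced_of_injective (Algebra.TensorProduct.comm k K R).toRingEquiv
      (Algebra.TensorProduct.comm k K R).injective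
  · intro h K _ _
    have h1 : IsReduced (K ⊗[k] R) := h K
    let φ : K ⊗[k] A →ₐ[k] K ⊗[k] R :=
      Algebra.TensorProduct.map (AlgHom.id k K) (IsScalarTower.toAlgHom k A R)
    refine isReduced_of_injective φ.toRingHom ?_
    have hφ : (φ : K ⊗[k] A → K ⊗[k] R) =
        LinearMap.lTensor K (IsScalarTower.toAlgHom k A R).toLinearMap := by
      ext x
      induction x using TensorProduct.induction_on with
      | zero => simp
      | tmul a b => simp [φ]
      | add x y hx hy => simp only [map_add, hx, hy]
    change Function.Injective (φ : K ⊗[k] A → K ⊗[k] R)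
    rw [hφ]
    exact Module.Flat.lTensor_preserves_injective_linearMap _ hinj

end Groth.Agent.S10498
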