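import Groth.Statements.S10501
import Groth.Agent.Lib.Seat47GeomConnProd

set_option autoImplicit false
universe u
open CategoryTheory CategoryTheory.Limits AlgebraicGeometry Topology TopologicalSpace
open AlgSp

namespace Groth.Agent.S10501

/-- Over a separably closed field k, an algebraic space X is geometrically connected if and only if it
is connected. -/
theorem result (k : Type u) [Field k] [IsSepClosed k]
    (X : AlgSp.Space (Spec (CommRingCat.of k))) :
    (∀ (K : Type u) [Field K] [Algebra k K], ConnectedSpace (AlgSp.Points (X.obj ⨯ (AlgSp.yon (Spec (CommRingCat.of k))).obj (Over.mk (Spec.map (CommRingCat.ofHom (algebraMap k K))))))) ↔ ConnectedSpace (AlgSp.Points X.obj) := by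
  have hpt := Groth.Agent.Lib.Seat47.GeomConnProd.isTerminal_yon_mkId (S := Spec (CommRingCat.of k))
  have key : ∀ (K : Type u) [Field K] [Algebra k K],
      ∃ γ : (Over.mk (Spec.map (CommRingCat.ofHom (algebraMap k K))) :
        Over (Spec (CommRingCat.of k))) ⟶ Over.mk (𝟙 (Spec (CommRingCat.of k))),
      γ.left = Spec.map (CommRingCat.ofHom (algebraMap k K)) ∧
      IsPullback (Limits.prod.fst : X.obj ⨯ (AlgSp.yon (Spec (CommRingCat.of k))).obj
        (Over.mk (Spec.map (CommRingCat.ofHom (algebraMap k K)))) ⟶ X.obj) Limits.prod.snd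
        (hpt.from X.obj) ((AlgSp.yon _).map γ) := by
    intro K _ _
    refine ⟨Over.mkIdTerminal.from _, by simp, ?_⟩
    have h := IsPullback.of_is_product' (prodIsProd X.obj ((AlgSp.yon (Spec (CommRingCat.of k))).obj
      (Over.mk (Spec.map (CommRingCat.ofHom (algebraMap k K)))))) hpt
    rwa [show hpt.from ((AlgSp.yon (Spec (CommRingCat.of k))).obj
      (Over.mk (Spec.map (CommRingCat.ofHom (algebraMap k K))))) =
      (AlgSp.yon _).map (Over.mkIdTerminal.from _) from hpt.hom_ext _ _] at h
  constructor
  · intro h
    obtain ⟨γ, hγ, sq⟩ := key k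
    haveI := h k
    have hs : Function.Surjective γ.left := by
      rw [hγ]
      intro x
      refine ⟨(default : PrimeSpectrum k), ?_⟩
      exact Subsingleton.elim (α := PrimeSpectrum k) _ _
    exact (Groth.Agent.Lib.Seat47.GeomConnProd.surjective_of_isPullback_yon_map γ hs
      sq).connectedSpace (AlgSp.Points.continuous_map _)
  · intro h K _ _
    obtain ⟨γ, hγ, sq⟩ := key K
    obtain ⟨h1, h2⟩ := Groth.Agent.Lib.Seat47.GeomConnFibre.univOpen_geomConn_of_isSepClosed
      (k := k) (Ω := K) (Spec.map (CommRingCat.ofHom (algebraMap k K)))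
    haveI : UniversallyOpen γ.left := by rw [hγ]; exact h1
    haveI : GeometricallyConnected γ.left := by rw [hγ]; exact h2
    exact Groth.Agent.Lib.Seat47.GeomConnProd.connectedSpace_of_isPullback_yon_map γ sq

end Groth.Agent.S10501
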