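import Groth.Statements.S10512
import Groth.Agent.Lib.Seat45Charts
-- import your own Groth.Agent.* helpers here

set_option autoImplicit false
universe u
open CategoryTheory CategoryTheory.Limits AlgebraicGeometry
open AlgSp

namespace Groth.Agent.S10512

variable {S : Scheme.{u}}

/-- The sieve on `E` of those `g : E' ⟶ E` such that `h_g ≫ φ` lies in `R`. -/
def pullSieve {Y : AlgSp.Sp S} {Z : AlgSp.Space S} (E : AlgSp.EtOver Y)
    (φ : (AlgSp.ofScheme S).obj E.obj.left ⟶ Z) (R : Sieve Z) : Sieve E where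
  arrows E' g := R ((AlgSp.ofScheme S).map g.hom.left ≫ φ)
  downward_closed := by
    intro E' E'' g hg k
    have : (AlgSp.ofScheme S).map (k ≫ g).hom.left ≫ φ =
        (AlgSp.ofScheme S).map k.hom.left ≫ ((AlgSp.ofScheme S).map g.hom.left ≫ φ) := by
      rw [← Category.assoc, ← Functor.map_comp]; rfl
    change R ((AlgSp.ofScheme S).map (k ≫ g).hom.left ≫ φ)
    rw [this]
    exact R.downward_closed hg _

lemma pullSieve_apply {Y : AlgSp.Sp S} {Z : AlgSp.Space S} (E : AlgSp.EtOver Y)
    (φ : (AlgSp.ofScheme S).obj E.obj.left ⟶ Z) (R : Sieve Z) {E' : AlgSp.EtOver Y} (g : E' ⟶ E) :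
    (pullSieve E φ R).arrows g ↔ R ((AlgSp.ofScheme S).map g.hom.left ≫ φ) := Iff.rfl

theorem pullSieve_mem {Y : AlgSp.Sp S} {Z : AlgSp.Space S} {R : Sieve Z}
    (hR : (AlgSp.spacesPre S AlgSp.IsEtaleMor).Saturate Z R) :
    ∀ (E : AlgSp.EtOver Y) (φ : (AlgSp.ofScheme S).obj E.obj.left ⟶ Z),
      pullSieve E φ R ∈ AlgSp.etTop Y E := by
  open Groth.Agent.Lib.Seat45.Charts in
  induction hR with
  | of Z P hP =>
    intro E φ
    obtain ⟨hPet, hPsurj⟩ := hP
    have key : ∀ u : ↥E.obj.left.left, ∃ (W : Over S) (p : W ⟶ E.obj.left) (w : ↥W.left),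
        Etale p.left ∧ p.left w = u ∧
          (Sieve.generate P).arrows ((AlgSp.ofScheme S).map p ≫ φ) := by
      intro u
      obtain ⟨Z', g, hg, z', hz'⟩ := hPsurj (AlgSp.Points.ofPt φ.hom u)
      obtain ⟨V, b, v, hb, hv⟩ := exists_chart Z'.property z'
      have hbg : AlgSp.RepWith @Etale (b ≫ g.hom) := hPet g hg b hb
      have e : AlgSp.Points.ofPt φ.hom u = AlgSp.Points.ofPt (b ≫ g.hom) v := by
        rw [← AlgSp.Points.map_ofPt, hv, hz']
      obtain ⟨W, p, q, w, hp, hw1, hw2, hc, -⟩ := exists_chart_over φ.hom (b ≫ g.hom) hbg u v e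
      refine ⟨W, p, w, hp, hw1, Z', ObjectProperty.homMk ((AlgSp.yon S).map q ≫ b), g, hg, ?_⟩
      apply ObjectProperty.hom_ext
      change ((AlgSp.yon S).map q ≫ b) ≫ g.hom = (AlgSp.yon S).map p ≫ φ.hom
      rw [Category.assoc, hc]
    choose W p w hp hw hmem using key
    have hpe : ∀ u, AlgSp.RepWith @Etale ((AlgSp.yon S).map (p u) ≫ E.obj.hom) := fun u =>
      have := hp u
      repWith_etale_comp (p u) E.obj.hom E.property
    let E' : ↥E.obj.left.left → AlgSp.EtOver Y := fun u => AlgSp.EtOver.mk _ (hpe u)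
    let g' : ∀ u, E' u ⟶ E := fun u => AlgSp.EtOver.homMk (p u) rfl
    have hcov : Sieve.ofArrows E' g' ∈ AlgSp.etTop Y E :=
      AlgSp.ofArrows_mem_etTop E' g' (fun x => ⟨x, w x, hw x⟩)
    refine (AlgSp.etTop Y).superset_covering ?_ hcov
    rw [Sieve.ofArrows, Sieve.generate_le_iff]
    rintro _ _ ⟨u⟩
    exact hmem u
  | top Z =>
    intro E φ
    have : pullSieve E φ (⊤ : Sieve Z) = ⊤ := by
      ext E' g
      simp [pullSieve]
    rw [this]
    exact (AlgSp.etTop Y).top_mem E
  | pullback Z R hR Z' ψ ih =>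
    intro E φ
    have h := ih E (φ ≫ ψ)
    have : pullSieve E φ (R.pullback ψ) = pullSieve E (φ ≫ ψ) R := by
      ext E' g
      simp [pullSieve, Sieve.pullback_apply, Category.assoc]
    rw [this]
    exact h
  | transitive Z R R' hR hR' ih1 ih2 =>
    intro E φ
    refine (AlgSp.etTop Y).transitive (ih1 E φ) _ ?_
    intro E' g hg
    have h := ih2 hg E' (𝟙 _)
    have : (pullSieve E φ R').pullback g =
        pullSieve E' (𝟙 _) (R'.pullback ((AlgSp.ofScheme S).map g.hom.left ≫ φ)) := by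
      ext E'' k
      rw [Sieve.pullback_apply, pullSieve_apply, pullSieve_apply, Sieve.pullback_apply]
      have : (AlgSp.ofScheme S).map (k ≫ g).hom.left ≫ φ =
          ((AlgSp.ofScheme S).map k.hom.left ≫ 𝟙 _) ≫ (AlgSp.ofScheme S).map g.hom.left ≫ φ := by
        rw [Category.comp_id, ← Category.assoc, ← Functor.map_comp]; rfl
      rw [this]
    rw [this]
    exact h

/-- For a morphism `f : Y ⟶ X` of algebraic spaces over `S`, the functor from the small etale site of
`Y` (scheme objects) to the big etale site `(Spaces/X)_{etale}` sending `h_U ⟶ Y` to `h_U ⟶ Y ⟶ X`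
is cocontinuous; for `f = 𝟙` this is the cocontinuity of the inclusion of the small etale site of
`X` into its big etale site. (Stated for the small etale site with scheme objects, which defines the
same topos as the one with algebraic-space objects.) -/
theorem result {S : Scheme.{u}} {X Y : AlgSp.Space S} (f : Y ⟶ X) :
    (AlgSp.EtOver.toEtSpOver Y ⋙ ObjectProperty.ι (fun E : Over Y => AlgSp.IsEtaleMor E.hom.hom) ⋙
        Over.map f).IsCocontinuous (AlgSp.etTop Y.obj) (AlgSp.spacesTopOver AlgSp.IsEtaleMor X) := by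
  constructor
  intro E T hT
  let R : Sieve ((AlgSp.ofScheme S).obj E.obj.left) := Sieve.overEquiv _ T
  have hTR : T = (Sieve.overEquiv _).symm R := ((Sieve.overEquiv _).symm_apply_apply T).symm
  have hT' : (AlgSp.spacesPre S AlgSp.IsEtaleMor).Saturate ((AlgSp.ofScheme S).obj E.obj.left) R := hT
  have h := pullSieve_mem (Y := Y.obj) hT' E (𝟙 _)
  refine (AlgSp.etTop Y.obj).superset_covering ?_ h
  intro E' g hg
  have hg' : R.arrows ((AlgSp.ofScheme S).map g.hom.left ≫ 𝟙 _) := hg
  rw [Category.comp_id] at hg'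
  rw [hTR]
  exact hg'

end Groth.Agent.S10512
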