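import Groth.Statements.S10513
import Mathlib
import Groth.Agent.S9875
import Groth.Agent.S10209
import Groth.Agent.S10175
-- import your own Groth.Agent.* helpers here

set_option autoImplicit false
universe u
open CategoryTheory CategoryTheory.Limits AlgebraicGeometry
open AlgSp

namespace Groth.Agent.S10513

variable {S : Scheme.{u}}

/-- The etale coverings of the big site of algebraic spaces are stable under base change. -/
theorem spacesPre_isStableUnderBaseChange :
    (AlgSp.spacesPre S AlgSp.IsEtaleMor).IsStableUnderBaseChange where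
  mem_coverings_of_isPullback {ι} Z X f hf Y₀ g P p₁ p₂ h := by
    have hι : PreservesLimitsOfShape WalkingCospan
        (ObjectProperty.ι (AlgSp.IsAlgSpace (S := S))) := (Groth.Agent.S9875.result S).2
    have h' : ∀ i, IsPullback (p₁ i).hom (p₂ i).hom g.hom (f i).hom := fun i =>
      (h i).map (ObjectProperty.ι (AlgSp.IsAlgSpace (S := S)))
    rw [AlgSp.mem_spacesPre_iff] at hf ⊢
    obtain ⟨hfe, hfs⟩ := hf
    constructor
    · rintro _ _ ⟨i⟩
      have hi : AlgSp.IsEtaleMor (f i).hom := hfe (f i) ⟨i⟩
      exact Groth.Agent.S10209.isEtaleMor_of_isPullback (X := (X i).obj) (Z := Y₀.obj) (f := (f i).hom)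
        (g := g.hom) (fst := (p₁ i).hom) (snd := (p₂ i).hom) (X i).property Y₀.property (h' i) hi
    · intro y
      obtain ⟨X', f', ⟨i⟩, x, hx⟩ := hfs (AlgSp.Points.map g.hom y)
      obtain ⟨p, hp1, -⟩ := Groth.Agent.S10175.exists_point_of_isPullback (h' i) y x hx.symm
      exact ⟨P i, p₁ i, ⟨i⟩, p, hp1⟩

/-- For a morphism `f : Y ⟶ X` of algebraic spaces over `S`, the functor from the small etale site of
`Y` (scheme objects) to the big etale site `(Spaces/X)_{etale}` sending `h_U ⟶ Y` to `h_U ⟶ Y ⟶ X`
is continuous (precomposition with it carries sheaves of types to sheaves); for `f = 𝟙` this is the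
continuity of the inclusion of the small etale site of `X` into its big etale site. (Stated for the
small etale site with scheme objects, which defines the same topos as the one with algebraic-space
objects.) -/
theorem result {S : Scheme.{u}} {X Y : AlgSp.Space S} (f : Y ⟶ X) :
    (AlgSp.EtOver.toEtSpOver Y ⋙ ObjectProperty.ι (fun E : Over Y => AlgSp.IsEtaleMor E.hom.hom) ⋙
        Over.map f).IsContinuous (AlgSp.etTop Y.obj) (AlgSp.spacesTopOver AlgSp.IsEtaleMor X) := by
  have hpb : HasPullbacks (AlgSp.Space S) := (Groth.Agent.S9875.result S).1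
  have hK : (AlgSp.spacesPre S AlgSp.IsEtaleMor).IsStableUnderBaseChange :=
    spacesPre_isStableUnderBaseChange
  set G := AlgSp.EtOver.toEtSpOver Y ⋙
    ObjectProperty.ι (fun E : Over Y => AlgSp.IsEtaleMor E.hom.hom) ⋙ Over.map f with hG
  -- `G` preserves fibre products
  have hofS : PreservesLimitsOfShape WalkingCospan (AlgSp.ofScheme S) := by
    have : PreservesLimitsOfShape WalkingCospan (AlgSp.ofScheme S ⋙ ObjectProperty.ι _) :=
      (inferInstance : PreservesLimitsOfShape WalkingCospan (AlgSp.yon S))
    exact preservesLimitsOfShape_of_reflects_of_preserves (AlgSp.ofScheme S) (ObjectProperty.ι _)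
  have hGf : PreservesLimitsOfShape WalkingCospan (G ⋙ Over.forget X) := by
    have e : AlgSp.EtOver.forget Y.obj ⋙ AlgSp.ofScheme S ≅ G ⋙ Over.forget X :=
      NatIso.ofComponents (fun _ => Iso.refl _) (by
        intro E E' g
        simp only [Iso.refl_hom]
        rfl)
    exact preservesLimitsOfShape_of_natIso e
  have hGp : PreservesLimitsOfShape WalkingCospan G :=
    preservesLimitsOfShape_of_reflects_of_preserves G (Over.forget X)
  rw [show AlgSp.spacesTopOver AlgSp.IsEtaleMor X =
      ((AlgSp.spacesPre S AlgSp.IsEtaleMor).comap (Over.forget X)).toGrothendieck from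
    over_toGrothendieck_eq_toGrothendieck_comap_forget _ _]
  unfold AlgSp.etTop
  refine Functor.isContinuous_toGrothendieck_of_pullbacksPreservedBy G (AlgSp.etPre Y.obj) _ ?_
  intro E R hR
  rw [Precoverage.mem_comap_iff, Precoverage.mem_comap_iff, AlgSp.mem_spacesPre_iff]
  have hR' : R.map (AlgSp.EtOver.toScheme Y.obj) ∈ Scheme.etalePrecoverage E.obj.left.left := hR
  constructor
  · rintro _ _ ⟨⟨hu⟩⟩
    rename_i E' u
    have : Etale u.hom.left.left := AlgSp.EtOver.etale_left u
    exact (AlgSp.isEtaleMor_yon_map_iff u.hom.left).2 this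
  · intro x
    obtain ⟨t, rfl⟩ := (AlgSp.Points.schemeHomeo E.obj.left).surjective x
    have hjs := (Presieve.mem_comap_jointlySurjectivePrecoverage_iff (F := Scheme.forget)).1 hR'.1
    obtain ⟨_, _, ⟨hu⟩, t', ht'⟩ := hjs t
    rename_i E' u
    refine ⟨_, _, ⟨⟨hu⟩⟩, AlgSp.Points.schemeHomeo E'.obj.left t', ?_⟩
    have := AlgSp.Points.map_yon_map_apply u.hom.left t'
    rw [← ht']
    exact this

end Groth.Agent.S10513
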