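import Groth.Statements.S10514
import Groth.Agent.Lib.Seat94FinCover
import Groth.Agent.Lib.Helper12FppfRefine

set_option autoImplicit false
universe u
open CategoryTheory CategoryTheory.Limits AlgebraicGeometry
open AlgSp

namespace Groth.Agent.S10514

/-- An fppf covering of an algebraic space `X` over `S` by algebraic spaces is a ph covering of `X`: its
members are locally of finite type and every morphism from an affine scheme `Z` to `X` admits a
standard ph covering of `Z` whose members lift through members of the family. -/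
theorem result {S : Scheme.{u}} (X : AlgSp.Space S) {ι : Type u}
    (Xi : ι → AlgSp.Space S) (g : ∀ i, Xi i ⟶ X)
    (h : AlgSp.IsFppfCover (fun i => (Xi i).obj) (fun i => (g i).hom)) :
    AlgSp.IsPhCover (fun i => (Xi i).obj) (fun i => (g i).hom) := by
  refine ⟨fun i U V a b hh ha hb e => ?_, fun Z hZ t => ?_⟩
  · have : LocallyOfFinitePresentation hh.left := (h.1 i).2 a b hh ha hb e
    infer_instance
  obtain ⟨Tk, c, l, hfl, hfp, hsurj, hl⟩ :=
    Groth.Agent.Lib.Helper12.FppfRefine.exists_fppf_family X.property (fun i => (Xi i).obj)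
      (fun i => (Xi i).property) (fun i => (g i).hom) h t
  let E : PreZeroHypercover.{u} Z.left :=
    { I₀ := ι
      X := fun i => (Tk i).left
      f := fun i => (c i).left }
  obtain ⟨F, hF, hFr⟩ := Groth.Agent.Lib.Seat94.FinCover.exists_standardPh_of_fppf E hfl hfp
    (fun z => by
      obtain ⟨i, x, hx⟩ := hsurj z
      exact ⟨i, x, hx⟩)
  refine ⟨F, hF, fun j => ?_⟩
  obtain ⟨i, hh, hhe⟩ := hFr j
  have hhe' : hh ≫ (c i).left = F.f j := hhe
  have hw : hh ≫ (Tk i).hom = F.f j ≫ Z.hom := by
    rw [← hhe', Category.assoc, Over.w]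
  let m : Over.mk (F.f j ≫ Z.hom) ⟶ Tk i := Over.homMk hh hw
  refine ⟨i, (AlgSp.yon S).map m ≫ l i, ?_⟩
  have hm : m ≫ c i = (Over.homMk (F.f j) rfl : Over.mk (F.f j ≫ Z.hom) ⟶ Z) := by
    apply Over.OverMorphism.ext
    exact hhe'
  rw [Category.assoc, hl i, ← Functor.map_comp_assoc, hm]

end Groth.Agent.S10514
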