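import Groth.Statements.S10517
import Groth.Agent.S7479
import Groth.Agent.Lib.Helper12Proper

set_option autoImplicit false
universe u
open CategoryTheory CategoryTheory.Limits AlgebraicGeometry
open AlgSp

namespace Groth.Agent.S10517

/-- If `{X_i ⟶ X}` is a ph covering of the algebraic space `X` by algebraic spaces and each `X_i` has a
ph covering `{X_ij ⟶ X_i}` by algebraic spaces, then the composites `X_ij ⟶ X_i ⟶ X`, indexed by the
pairs `(i, j)`, form a ph covering of `X`. -/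
theorem result {S : Scheme.{u}} (X : AlgSp.Space S) {ι : Type u}
    (Xi : ι → AlgSp.Space S) (g : ∀ i, Xi i ⟶ X) (κ : ι → Type u) (Xij : ∀ i, κ i → AlgSp.Space S)
    (gij : ∀ i j, Xij i j ⟶ Xi i)
    (h : AlgSp.IsPhCover (fun i => (Xi i).obj) (fun i => (g i).hom))
    (hij : ∀ i, AlgSp.IsPhCover (fun j => (Xij i j).obj) (fun j => (gij i j).hom)) :
    AlgSp.IsPhCover (fun r : Σ i, κ i => (Xij r.1 r.2).obj) (fun r => (gij r.1 r.2 ≫ g r.1).hom) := by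
  refine ⟨fun r => ?_, fun Z hZ t => ?_⟩
  · change AlgSp.LocP @LocallyOfFiniteType ((gij r.1 r.2).hom ≫ (g r.1).hom)
    exact Groth.Agent.Lib.Helper12.Proper.locP_lft_comp (Xi r.1).property X.property _ _
      ((hij r.1).1 r.2) (h.1 r.1)
  · obtain ⟨F, hF, hFr⟩ := h.2 Z hZ t
    choose i l hl using hFr
    have h2 : ∀ j : F.I₀, ∃ (F' : PreZeroHypercover.{0} (F.X j)), HTop.IsStandardPh F' ∧
        ∀ k : F'.I₀, ∃ (c : κ (i j))
          (l' : (AlgSp.yon S).obj (Over.mk (F'.f k ≫ F.f j ≫ Z.hom)) ⟶ (Xij (i j) c).obj),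
          l' ≫ (gij (i j) c).hom =
            (AlgSp.yon S).map (Over.homMk (F'.f k) rfl :
              Over.mk (F'.f k ≫ F.f j ≫ Z.hom) ⟶ Over.mk (F.f j ≫ Z.hom)) ≫ l j := by
      intro j
      exact (hij (i j)).2 (Over.mk (F.f j ≫ Z.hom)) (hF.isAffine_obj j) (l j)
    choose F' hF' hF'r using h2
    choose c l' hl' using hF'r
    have hZaff : IsAffine Z.left := hZ
    obtain ⟨F'', hF'', ⟨φ⟩⟩ := (Groth.Agent.S7479.result.{0, u, 0} (T := Z.left)).2 F hF F' hF'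
    refine ⟨F'', hF'', fun m => ?_⟩
    let a : F''.X m ⟶ (F' (φ.s₀ m).1).X (φ.s₀ m).2 := φ.h₀ m
    have ha : a ≫ (F' (φ.s₀ m).1).f (φ.s₀ m).2 ≫ F.f (φ.s₀ m).1 = F''.f m := φ.w₀ m
    have haw : a ≫ ((F' (φ.s₀ m).1).f (φ.s₀ m).2 ≫ F.f (φ.s₀ m).1 ≫ Z.hom) = F''.f m ≫ Z.hom := by
      rw [← ha]; simp only [Category.assoc]
    let b : Over.mk (F''.f m ≫ Z.hom) ⟶
        Over.mk ((F' (φ.s₀ m).1).f (φ.s₀ m).2 ≫ F.f (φ.s₀ m).1 ≫ Z.hom) := Over.homMk a haw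
    refine ⟨⟨i (φ.s₀ m).1, c (φ.s₀ m).1 (φ.s₀ m).2⟩,
      (AlgSp.yon S).map b ≫ l' (φ.s₀ m).1 (φ.s₀ m).2, ?_⟩
    change _ ≫ (gij _ _).hom ≫ (g _).hom = _
    rw [Category.assoc, ← Category.assoc (l' _ _), hl', Category.assoc, hl,
      ← Functor.map_comp_assoc, ← Functor.map_comp_assoc]
    congr 2
    apply Over.OverMorphism.ext
    simpa [b] using ha

end Groth.Agent.S10517
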