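import Groth.Statements.S10547
import Mathlib
import Groth.Agent.S10505
import Groth.Agent.S10506
import Groth.Agent.S10534
import Groth.Agent.S9874
import Groth.Agent.S9928
import Groth.Agent.S9962
import Groth.Agent.S10175
import Groth.Agent.S10176
import Groth.Agent.S10191
import Groth.Agent.S10194
import Groth.Agent.S10195
import Groth.Agent.S9908
import Groth.Agent.Lib.Helper12LargestOpen

set_option autoImplicit false
universe u
open CategoryTheory CategoryTheory.Limits AlgebraicGeometry
open AlgSp

namespace Groth.Agent.S10547

/-- The property of morphisms of algebraic spaces over S given by immersions (representable by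
immersions of schemes) is fppf local on the base: for an fppf covering of an algebraic space Y by
algebraic spaces Y_i (each Y_i ⟶ Y flat and locally of finite presentation, jointly surjective on
points), a morphism f : X ⟶ Y of algebraic spaces and cartesian squares X_i = Y_i ×_Y X, f is an
immersion if and only if every X_i ⟶ Y_i is. -/
theorem result (S : Scheme.{u}) :
    AlgSp.IsLocalOnBase (AlgSp.IsFppfCover (S := S)) (AlgSp.RepWith @IsImmersion) := by
  intro ι Y Yi g hY hYi hcov X f hX Xi p q hXi sq
  constructor
  · intro hf i
    exact (AlgSp.repWith_isStableUnderBaseChange @IsImmersion).of_isPullback (sq i) hf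
  · intro H
    -- the image of `f` on points
    have hpre : ∀ i, AlgSp.Points.map (g i) ⁻¹' Set.range (AlgSp.Points.map f) =
        Set.range (AlgSp.Points.map (p i)) := by
      intro i
      ext y
      constructor
      · rintro ⟨x, hx⟩
        obtain ⟨z, hz1, hz2⟩ := Groth.Agent.S10175.exists_point_of_isPullback (sq i) x y hx
        exact ⟨z, hz2⟩
      · rintro ⟨z, rfl⟩
        refine ⟨AlgSp.Points.map (q i) z, ?_⟩
        rw [← AlgSp.Points.map_comp, ← AlgSp.Points.map_comp, (sq i).w]
    have hopen : ∀ i, IsOpenMap (AlgSp.Points.map (g i)) := by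
      intro i
      exact Groth.Agent.S9962.isUnivOpenMor_of_flat_lfp (hYi i) hY (g i) (hcov.1 i).1 (hcov.1 i).2
        hY (𝟙 Y) (𝟙 _) (g i) IsPullback.of_id_fst
    have hlc : ∀ i, IsLocallyClosed (Set.range (AlgSp.Points.map (p i))) := by
      intro i
      exact (Groth.Agent.S10191.result (Z := ⟨Xi i, hXi i⟩) (X := ⟨Yi i, hYi i⟩)
        (ObjectProperty.homMk (p i)) (H i)).2
    have hcobpre : ∀ i, AlgSp.Points.map (g i) ⁻¹' coborder (Set.range (AlgSp.Points.map f)) =
        coborder (Set.range (AlgSp.Points.map (p i))) := by
      intro i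
      rw [← coborder_preimage (hopen i) (AlgSp.Points.continuous_map (g i)), hpre]
    have hcob : IsOpen (coborder (Set.range (AlgSp.Points.map f))) := by
      have h1 : coborder (Set.range (AlgSp.Points.map f)) =
          ⋃ i, AlgSp.Points.map (g i) '' coborder (Set.range (AlgSp.Points.map (p i))) := by
        ext y
        simp only [Set.mem_iUnion, Set.mem_image]
        constructor
        · intro hy
          obtain ⟨i, yi, rfl⟩ := hcov.2 y
          refine ⟨i, yi, ?_, rfl⟩
          rw [← hcobpre]
          exact hy
        · rintro ⟨i, yi, hyi, rfl⟩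
          rw [← hcobpre] at hyi
          exact hyi
      rw [h1]
      exact isOpen_iUnion fun i => hopen i _ (hlc i).isOpen_coborder
    -- the open subspace and the factorisation
    obtain ⟨Y0, j, hj, hjr⟩ := Groth.Agent.S10195.result ⟨Y, hY⟩ _ hcob
    haveI : Mono j.hom := Groth.Agent.S9928.mono_of_repWith @IsOpenImmersion
      (fun _ _ g hg => by have : IsOpenImmersion g := hg; infer_instance) j.hom hj
    obtain ⟨f0, hf0⟩ := (Groth.Agent.S10194.exists_factor_iff j.hom hj f).2
      (by rw [hjr]; exact subset_coborder)
    -- the base change of the covering to `Y0`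
    have sqY : ∀ i, IsPullback (pullback.fst j.hom (g i)) (pullback.snd j.hom (g i)) j.hom (g i) :=
      fun i => IsPullback.of_hasPullback j.hom (g i)
    have hY0i : ∀ i, AlgSp.IsAlgSpace (pullback j.hom (g i)) := fun i =>
      Groth.Agent.S9874.isAlgSpace_of_isPullback hY.diag Y0.property (hYi i) (sqY i)
    have hjs : ∀ i, AlgSp.RepWith @IsOpenImmersion (pullback.snd j.hom (g i)) := fun i =>
      MorphismProperty.of_isPullback (P := AlgSp.RepWith @IsOpenImmersion) (sqY i) hj
    let p0 : ∀ i, Xi i ⟶ pullback j.hom (g i) := fun i =>
      pullback.lift (q i ≫ f0) (p i) (by rw [Category.assoc, hf0, (sq i).w])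
    have hp0 : ∀ i, p0 i ≫ pullback.snd j.hom (g i) = p i := fun i => pullback.lift_snd _ _ _
    have hp0' : ∀ i, p0 i ≫ pullback.fst j.hom (g i) = q i ≫ f0 := fun i => pullback.lift_fst _ _ _
    clear_value p0
    have sq0 : ∀ i, IsPullback (q i) (p0 i) f0 (pullback.fst j.hom (g i)) := by
      intro i
      refine (IsPullback.of_right ?_ (hp0' i) (sqY i).flip).flip
      rw [hp0, hf0]
      exact (sq i).flip
    have hfpqc : AlgSp.IsFpqcCover (fun i => pullback j.hom (g i))
        (fun i => pullback.fst j.hom (g i)) :=
      Groth.Agent.S10506.result (X := ⟨Y, hY⟩) (X' := Y0) j (fun i => ⟨Yi i, hYi i⟩)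
        (fun i => ObjectProperty.homMk (g i)) (fun i => ⟨pullback j.hom (g i), hY0i i⟩)
        (fun i => ObjectProperty.homMk (pullback.fst j.hom (g i)))
        (fun i => ObjectProperty.homMk (pullback.snd j.hom (g i))) sqY
        (Groth.Agent.S10505.result ⟨Y, hY⟩ (fun i => ⟨Yi i, hYi i⟩)
          (fun i => ObjectProperty.homMk (g i)) hcov)
    -- the base changes of `f0` are closed immersions
    have hp0imm : ∀ i, AlgSp.RepWith @IsImmersion (p0 i) := by
      intro i
      have h1 := Groth.Agent.Lib.Helper12.LargestOpen.isPullback_id_of_mono (p0 i)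
        (pullback.snd j.hom (g i))
      rw [hp0] at h1
      exact (AlgSp.repWith_isStableUnderBaseChange @IsImmersion).of_isPullback h1 (H i)
    have hclosed : ∀ i, IsClosed (Set.range (AlgSp.Points.map (p0 i))) := by
      intro i
      have h1 : Set.range (AlgSp.Points.map (p0 i)) =
          AlgSp.Points.map (pullback.snd j.hom (g i)) ⁻¹'
            closure (Set.range (AlgSp.Points.map (p i))) := by
        ext y
        constructor
        · rintro ⟨z, rfl⟩
          apply subset_closure
          refine ⟨z, ?_⟩
          rw [← AlgSp.Points.map_comp, hp0]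
        · intro hy
          have hy2 : AlgSp.Points.map (pullback.snd j.hom (g i)) y ∈
              coborder (Set.range (AlgSp.Points.map (p i))) := by
            rw [← hcobpre, Set.mem_preimage, ← AlgSp.Points.map_comp, ← (sqY i).w,
              AlgSp.Points.map_comp, ← hjr]
            exact ⟨_, rfl⟩
          have hy3 : AlgSp.Points.map (pullback.snd j.hom (g i)) y ∈
              Set.range (AlgSp.Points.map (p i)) := by
            rw [← coborder_inter_closure (s := Set.range (AlgSp.Points.map (p i)))]
            exact ⟨hy2, hy⟩
          obtain ⟨x, hx⟩ := hy3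
          have h1 := Groth.Agent.Lib.Helper12.LargestOpen.isPullback_id_of_mono (p0 i)
            (pullback.snd j.hom (g i))
          rw [hp0] at h1
          obtain ⟨z, hz1, hz2⟩ := Groth.Agent.S10175.exists_point_of_isPullback h1 x y hx
          exact ⟨z, hz2⟩
      rw [h1]
      exact isClosed_closure.preimage (AlgSp.Points.continuous_map _)
    have hcl : ∀ i, AlgSp.RepWith @IsClosedImmersion (p0 i) := by
      intro i
      refine ⟨(hp0imm i).1, fun U V t fst w sqw => ?_⟩
      haveI : IsImmersion w.left := (hp0imm i).2 t fst w sqw
      have h1 := Groth.Agent.S9908.preimage_ofPt_map_image sqw Set.univ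
      rw [Set.image_univ, Set.preimage_univ, Set.image_univ] at h1
      refine IsClosedImmersion.of_isPreimmersion w.left ?_
      rw [← h1]
      exact (hclosed i).preimage (AlgSp.Points.continuous_ofPt t)
    have hf0cl : AlgSp.RepWith @IsClosedImmersion f0 :=
      ((Groth.Agent.S10534.result S) _ _ Y0.property hY0i hfpqc f0 hX Xi p0 q hXi sq0).2 hcl
    -- compose
    rw [← hf0]
    refine (AlgSp.repWith_isMultiplicative (S := S) @IsImmersion).comp_mem _ _ ?_ ?_
    · exact ⟨hf0cl.1, fun _ _ g a b sq' => by
        have : IsClosedImmersion b.left := hf0cl.2 g a b sq'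
        exact (inferInstance : IsImmersion b.left)⟩
    · exact ⟨hj.1, fun _ _ g a b sq' => by
        have : IsOpenImmersion b.left := hj.2 g a b sq'
        exact (inferInstance : IsImmersion b.left)⟩

end Groth.Agent.S10547
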