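import Groth.Statements.S10557
import Groth.Agent.Lib.Seat43LocSurj
import Groth.Agent.Lib.Seat43LfpSrcLocal
import Groth.Agent.S10548
import Groth.Agent.S9844
-- import your own Groth.Agent.* helpers here

set_option autoImplicit false
universe u
open CategoryTheory CategoryTheory.Limits AlgebraicGeometry
open AlgSp

namespace Groth.Agent.S10557

/-- Let g : X ⟶ Y and h : Y ⟶ Z be morphisms of algebraic spaces over S with g a surjection of fppf
sheaves (locally surjective for the fppf topology). For P one of flat, locally of finite type,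
locally of finite presentation (checked on etale charts): if the composite X ⟶ Z has P then h has P. -/
theorem result {S : Scheme.{u}} {X Y Z : AlgSp.Space S} (g : X ⟶ Y) (h : Y ⟶ Z)
    (hg : Sheaf.IsLocallySurjective g.hom) :
    (AlgSp.LocP @Flat (g ≫ h).hom → AlgSp.LocP @Flat h.hom) ∧
    (AlgSp.LocP @LocallyOfFiniteType (g ≫ h).hom → AlgSp.LocP @LocallyOfFiniteType h.hom) ∧
    (AlgSp.LocP @LocallyOfFinitePresentation (g ≫ h).hom →
      AlgSp.LocP @LocallyOfFinitePresentation h.hom) := by
  have hflat_loc : MorphismProperty.IsLocalAtSource (@Flat : MorphismProperty Scheme.{u})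
      Scheme.fppfPrecoverage.{u} :=
    haveI := Groth.Agent.S10548.flat_isLocalAtSource_fpqc.{u}
    MorphismProperty.IsLocalAtSource.of_le Scheme.fppfPrecoverage_le_fpqcPrecoverage
  refine ⟨fun H => ?_, fun H => ?_, fun H => ?_⟩
  · exact Groth.Agent.Lib.Seat43.LocSurj.locP_of_comp
      Groth.Agent.Lib.Helper12.LocPCases.good_flat hflat_loc
      (fun q hq _ => hq)
      (fun r s hsr m hm => Groth.Agent.Lib.Seat47.Retract.flat_of_section r s hsr m hm)
      X.property Y.property Z.property g.hom h.hom hg H
  · exact Groth.Agent.Lib.Seat43.LocSurj.locP_of_comp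
      Groth.Agent.Lib.Helper12.LocPCases.good_lft Groth.Agent.S9844.result
      (fun q _ hq => by have := hq; infer_instance)
      (fun r s hsr m hm =>
        Groth.Agent.Lib.Seat47.Retract.locallyOfFiniteType_of_section r s hsr m hm)
      X.property Y.property Z.property g.hom h.hom hg H
  · exact Groth.Agent.Lib.Seat43.LocSurj.locP_of_comp
      Groth.Agent.Lib.Helper12.LocPCases.good_lfp
      Groth.Agent.Lib.Seat43.LfpSrcLocal.lfp_isLocalAtSource_fppf
      (fun q _ hq => hq)
      (fun r s hsr m hm =>
        Groth.Agent.Lib.Seat47.Retract.locallyOfFinitePresentation_of_section r s hsr m hm)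
      X.property Y.property Z.property g.hom h.hom hg H

end Groth.Agent.S10557
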