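import Groth.Statements.S10558
import Groth.Agent.Lib.Seat47Charts
import Groth.Agent.S9947
import Groth.Agent.S0114
import Groth.Agent.S5938

set_option autoImplicit false
universe u
open CategoryTheory CategoryTheory.Limits AlgebraicGeometry
open AlgSp

namespace Groth.Agent.S10558

/-- Let f : X ⟶ Y and q : Y ⟶ B be morphisms of algebraic spaces over S with f surjective, flat and
locally of finite presentation. If the composite p = f ≫ q is locally of finite presentation then q
is locally of finite presentation; if p is locally of finite type then q is locally of finite type. -/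
theorem result {S : Scheme.{u}} {X Y B : AlgSp.Space S} (f : X ⟶ Y) (q : Y ⟶ B)
    (hs : AlgSp.IsSurjectiveMor f.hom) (hfl : AlgSp.LocP @Flat f.hom)
    (hfp : AlgSp.LocP @LocallyOfFinitePresentation f.hom) :
    (AlgSp.LocP @LocallyOfFinitePresentation (f ≫ q).hom → AlgSp.LocP @LocallyOfFinitePresentation q.hom) ∧
    (AlgSp.LocP @LocallyOfFiniteType (f ≫ q).hom → AlgSp.LocP @LocallyOfFiniteType q.hom) := by
  obtain ⟨W, w, hwe, hws⟩ := B.property.atlas
  obtain ⟨V, b, k, hbe, hbk, -, hbs⟩ := Groth.Agent.Lib.Seat47.Charts.exists_chart_cover q w hwe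
  have hbs' := hbs hws
  obtain ⟨U, a, h, hae, hah, hcov, -⟩ := Groth.Agent.Lib.Seat47.Charts.exists_chart_cover f b hbe
  haveI : Flat h.left := hfl a b h hae hbe hah
  haveI : LocallyOfFinitePresentation h.left := hfp a b h hae hbe hah
  haveI : Surjective h.left := ⟨fun v => by
    obtain ⟨x, hx⟩ := hs (AlgSp.Points.ofPt b v)
    obtain ⟨u, -, hu⟩ := hcov x v hx
    exact ⟨u, hu⟩⟩
  have hcomm : a ≫ (f ≫ q).hom = (AlgSp.yon S).map (h ≫ k) ≫ w := by
    change a ≫ f.hom ≫ q.hom = _
    rw [← Category.assoc, hah, Category.assoc, hbk, Functor.map_comp, Category.assoc]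
  constructor
  · intro hp
    haveI : LocallyOfFinitePresentation (h.left ≫ k.left) := hp a w (h ≫ k) hae hwe hcomm
    have hk : LocallyOfFinitePresentation k.left := Groth.Agent.S0114.result h.left k.left
    exact Groth.Agent.S9947.result @LocallyOfFinitePresentation (Or.inr (Or.inl rfl)) q b w k hbe hbs' hwe hbk hk
  · intro hp
    haveI : LocallyOfFiniteType (h.left ≫ k.left) := hp a w (h ≫ k) hae hwe hcomm
    have hk : LocallyOfFiniteType k.left := Groth.Agent.S5938.result h.left k.left
    exact Groth.Agent.S9947.result @LocallyOfFiniteType (Or.inl rfl) q b w k hbe hbs' hwe hbk hk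

end Groth.Agent.S10558
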