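import Groth.Statements.S10560
import Groth.Agent.Lib.Seat47Charts
import Groth.Agent.S9947
import Groth.Agent.S0115
import Groth.Agent.S10554
import Groth.Agent.Lib.Helper12SrcLocal
import Groth.Agent.Lib.Helper12EtSrc

set_option autoImplicit false
universe u
open CategoryTheory CategoryTheory.Limits AlgebraicGeometry
open AlgSp

namespace Groth.Agent.S10560

/-- scheme level: if `f` is surjective, flat, locally of finite presentation and `f ≫ q` is étale
then `q` is étale (`f` is then unramified, hence étale, and étaleness descends along étale covers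
of the source). -/
theorem etale_of_fppf_comp {X Y B : Scheme.{u}} (f : X ⟶ Y) (q : Y ⟶ B) [Surjective f] [Flat f]
    [LocallyOfFinitePresentation f] [Etale (f ≫ q)] : Etale q := by
  haveI : FormallyUnramified f := FormallyUnramified.of_comp f q
  haveI : Etale f := Etale.of_formallyUnramified_of_flat f
  exact Groth.Agent.Lib.Helper12.EtSrc.etale_of_etale_cover_source f q

/-- Let f : X ⟶ Y and q : Y ⟶ B be morphisms of algebraic spaces over S with f surjective, flat and
locally of finite presentation. If f ≫ q is smooth then q is smooth; if f ≫ q is etale then q is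
etale. -/
theorem result {S : Scheme.{u}} {X Y B : AlgSp.Space S} (f : X ⟶ Y) (q : Y ⟶ B)
    (hs : AlgSp.IsSurjectiveMor f.hom) (hfl : AlgSp.LocP @Flat f.hom)
    (hfp : AlgSp.LocP @LocallyOfFinitePresentation f.hom) :
    (AlgSp.LocP @Smooth (f ≫ q).hom → AlgSp.LocP @Smooth q.hom) ∧
    (AlgSp.IsEtaleMor (f ≫ q).hom → AlgSp.IsEtaleMor q.hom) := by
  obtain ⟨W, w, hwe, hws⟩ := B.property.atlas
  obtain ⟨V, b, k, hbe, hbk, -, hbs⟩ := Groth.Agent.Lib.Seat47.Charts.exists_chart_cover q w hwe
  have hbs' := hbs hws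
  obtain ⟨U, a, h, hae, hah, hcov, -⟩ := Groth.Agent.Lib.Seat47.Charts.exists_chart_cover f b hbe
  haveI : Flat h.left := hfl a b h hae hbe hah
  haveI : LocallyOfFinitePresentation h.left := hfp a b h hae hbe hah
  haveI : Surjective h.left := ⟨fun v => by
    obtain ⟨x, hx⟩ := hs (AlgSp.Points.ofPt b v)
    obtain ⟨u, -, hu⟩ := hcov x v hx
    exact ⟨u, hu⟩⟩
  have hcomm : a ≫ (f ≫ q).hom = (AlgSp.yon S).map (h ≫ k) ≫ w := by
    change a ≫ f.hom ≫ q.hom = _
    rw [← Category.assoc, hah, Category.assoc, hbk, Functor.map_comp, Category.assoc]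
  constructor
  · intro hp
    haveI : Smooth (h.left ≫ k.left) := hp a w (h ≫ k) hae hwe hcomm
    have hk : Smooth k.left := Groth.Agent.S0115.result h.left k.left
    exact Groth.Agent.S9947.result @Smooth (Or.inr (Or.inr (Or.inr (Or.inl rfl)))) q b w k hbe hbs' hwe hbk hk
  · intro hp
    have hp' : AlgSp.LocP @Etale (f ≫ q).hom :=
      Groth.Agent.Lib.Helper12.SrcLocal.locP_etale_of_isEtaleMor _ hp
    haveI : Etale (h.left ≫ k.left) := hp' a w (h ≫ k) hae hwe hcomm
    have hk : Etale k.left := etale_of_fppf_comp h.left k.left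
    exact Groth.Agent.S10554.isEtaleMor_of_locP B.property q.hom
      (Groth.Agent.S9947.result @Etale (Or.inr (Or.inr (Or.inr (Or.inr (Or.inl rfl))))) q b w k hbe hbs' hwe hbk hk)

end Groth.Agent.S10560
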