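import Groth.Statements.S10571
import Mathlib
import Groth.Agent.Lib.Seat46YonCoprod
import Groth.Agent.S9874

set_option autoImplicit false
universe u
open CategoryTheory CategoryTheory.Limits AlgebraicGeometry
open AlgSp

namespace Groth.Agent.S10571

/-- Suppose a property P of morphisms between algebraic spaces over S satisfies: (1) if finitely many
morphisms X_i ⟶ Y_i have P then so does the induced morphism ∐ X_i ⟶ ∐ Y_i, (2) f : X ⟶ Y has P
exactly when, for each affine scheme Z and each h_Z ⟶ Y, the base change h_Z ×_Y X ⟶ h_Z has P, and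
(3) for every surjective flat morphism of affine schemes Z' ⟶ Z over S and every f : X ⟶ h_Z, if the
base change h_{Z'} ×_{h_Z} X ⟶ h_{Z'} has P then f has P. Under these hypotheses, P is local on the
base for the fpqc topology. (The published statement asks (1) only for two morphisms; its proof
applies (1) to a disjoint union indexed by a finite set that may be empty, and with (1) for two
morphisms only the property that holds for no morphism satisfies all three hypotheses without being
fpqc local on the base, as the empty covering of the empty algebraic space shows. This row asks (1)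
for all finite families, the empty one included.) -/
theorem result {S : Scheme.{u}} (P : MorphismProperty (AlgSp.Sp S))
    (h1 : ∀ ⦃ι : Type u⦄ [Finite ι] (Xi Yi : ι → AlgSp.Sp S) (fi : ∀ i, Xi i ⟶ Yi i)
      (cX : Cofan Xi) (cY : Cofan Yi) (hcX : IsColimit cX) (hcY : IsColimit cY) (m : cX.pt ⟶ cY.pt),
      (∀ i, AlgSp.IsAlgSpace (Xi i)) → (∀ i, AlgSp.IsAlgSpace (Yi i)) →
      AlgSp.IsAlgSpace cX.pt → AlgSp.IsAlgSpace cY.pt →
      (∀ i, cX.inj i ≫ m = fi i ≫ cY.inj i) → (∀ i, P (fi i)) → P m)
    (h2 : ∀ ⦃X Y : AlgSp.Sp S⦄, AlgSp.IsAlgSpace X → AlgSp.IsAlgSpace Y → ∀ (f : X ⟶ Y),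
      P f ↔ ∀ (Z : Over S), IsAffine Z.left → ∀ (g : (AlgSp.yon S).obj Z ⟶ Y) (W : AlgSp.Sp S)
        (fst : W ⟶ X) (snd : W ⟶ (AlgSp.yon S).obj Z), AlgSp.IsAlgSpace W → IsPullback fst snd f g → P snd)
    (h3 : ∀ ⦃Z Z' : Over S⦄ (c : Z' ⟶ Z), IsAffine Z.left → IsAffine Z'.left → Surjective c.left → Flat c.left →
      ∀ ⦃X X' : AlgSp.Sp S⦄ (f : X ⟶ (AlgSp.yon S).obj Z) (fst : X' ⟶ X) (f' : X' ⟶ (AlgSp.yon S).obj Z'),
        AlgSp.IsAlgSpace X → AlgSp.IsAlgSpace X' → IsPullback fst f' f ((AlgSp.yon S).map c) → P f' → P f) :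
    AlgSp.IsLocalOnBase (AlgSp.IsFpqcCover (S := S)) P := by
  intro ι Y Yi g hY hYi hcov X f hX Xi p q hXi sq
  constructor
  · intro hf i
    rw [h2 (hXi i) (hYi i) (p i)]
    intro Z hZ g₀ W fst snd hW sqW
    exact (h2 hX hY f).1 hf Z hZ (g₀ ≫ g i) W (fst ≫ q i) snd hW (sqW.paste_horiz (sq i))
  · intro H
    rw [h2 hX hY f]
    intro Z hZ h W₀ fst₀ snd₀ hW₀ sq₀
    obtain ⟨m, W, c, hW, hfl, hsurj, hl⟩ := hcov.2 Z hZ h
    choose i l hl using hl
    haveI := hW
    -- the disjoint union of the covering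
    let Z' : Over S := Over.mk (Sigma.desc (fun j => (W j).hom) : (∐ fun j => (W j).left) ⟶ S)
    let e : ∀ j, W j ⟶ Z' := fun j => Over.homMk (Sigma.ι (fun j => (W j).left) j)
      (Sigma.ι_desc _ _)
    let c' : Z' ⟶ Z := Over.homMk (Sigma.desc (fun j => (c j).left)) (by
      apply Sigma.hom_ext
      intro j
      rw [← Category.assoc, Sigma.ι_desc]
      show (c j).left ≫ Z.hom = Sigma.ι _ j ≫ Sigma.desc (fun j => (W j).hom)
      rw [Sigma.ι_desc, Over.w])
    have hec : ∀ j, e j ≫ c' = c j := fun j => Over.OverMorphism.ext (Sigma.ι_desc _ _)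
    have hZ' : IsAffine Z'.left := by
      show IsAffine (∐ fun j => (W j).left)
      infer_instance
    have hc'fl : Flat c'.left := by
      show Flat (Sigma.desc (fun j => (c j).left))
      haveI : IsZariskiLocalAtSource @Flat.{u} :=
        HasRingHomProperty.instIsZariskiLocalAtSource (Q := RingHom.Flat)
      exact IsZariskiLocalAtSource.sigmaDesc (P := @Flat) hfl
    have hc'surj : Surjective c'.left := by
      refine ⟨fun z => ?_⟩
      obtain ⟨j, w, hw⟩ := hsurj z
      refine ⟨(Sigma.ι (fun j => (W j).left) j) w, ?_⟩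
      show (Sigma.desc (fun j => (c j).left)) ((Sigma.ι (fun j => (W j).left) j) w) = z
      rw [← Scheme.Hom.comp_apply, Sigma.ι_desc]
      exact hw
    -- `h_{Z'}` is the coproduct of the `h_{W j}`
    obtain ⟨hcY⟩ := Groth.Agent.Lib.Seat46.YonCoprod.isColimit_cofan_yon
      (ι := ULift.{u} (Fin m)) (W := fun j => W j.down) (Z := Z') (fun j => e j.down)
      (fun j => by
        show IsOpenImmersion (Sigma.ι (fun j => (W j).left) j.down)
        infer_instance)
      (fun a b hab => by
        have hab' : a.down ≠ b.down := fun h => hab (ULift.ext _ _ h)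
        have := disjoint_opensRange_sigmaι (fun j => (W j).left) a.down b.down hab'
        rw [← TopologicalSpace.Opens.coe_disjoint] at this
        exact this)
      (fun z => by
        obtain ⟨j, w, hw⟩ := (sigmaOpenCover (fun j => (W j).left)).exists_eq z
        exact ⟨⟨j⟩, w, hw⟩)
    -- the base change to `Z'`
    have hX' : AlgSp.IsAlgSpace (pullback snd₀ ((AlgSp.yon S).map c')) :=
      Groth.Agent.S9874.isAlgSpace_of_isPullback (AlgSp.IsAlgSpace.yon_obj Z).diag hW₀
        (AlgSp.IsAlgSpace.yon_obj Z') (IsPullback.of_hasPullback _ _)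
    refine h3 c' hZ hZ' hc'surj hc'fl snd₀ (pullback.fst snd₀ ((AlgSp.yon S).map c'))
      (pullback.snd snd₀ ((AlgSp.yon S).map c')) hW₀ hX' (IsPullback.of_hasPullback _ _) ?_
    obtain ⟨f', hf'⟩ : ∃ f' : pullback snd₀ ((AlgSp.yon S).map c') ⟶ (AlgSp.yon S).obj Z',
        f' = pullback.snd snd₀ ((AlgSp.yon S).map c') := ⟨_, rfl⟩
    rw [← hf']
    -- the pieces
    have hXi' : ∀ j : ULift.{u} (Fin m),
        AlgSp.IsAlgSpace (pullback f' ((AlgSp.yon S).map (e j.down))) := fun j =>
      Groth.Agent.S9874.isAlgSpace_of_isPullback (AlgSp.IsAlgSpace.yon_obj Z').diag hX'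
        (AlgSp.IsAlgSpace.yon_obj _) (IsPullback.of_hasPullback _ _)
    have hcX : IsColimit (Cofan.mk (pullback snd₀ ((AlgSp.yon S).map c'))
        (fun j : ULift.{u} (Fin m) => pullback.fst f' ((AlgSp.yon S).map (e j.down)))) := by
      have hvk := FinitaryExtensive.isVanKampen_finiteCoproducts hcY
      refine ((hvk (Cofan.mk (pullback snd₀ ((AlgSp.yon S).map c'))
        (fun j : ULift.{u} (Fin m) => pullback.fst f' ((AlgSp.yon S).map (e j.down))))
        (Discrete.natTrans (fun j => pullback.snd f' ((AlgSp.yon S).map (e j.as.down)))) f' ?_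
        (NatTrans.Equifibered.of_discrete _)).2 ?_).some
      · refine NatTrans.ext (funext fun ⟨j⟩ => ?_)
        simp only [NatTrans.comp_app, Discrete.natTrans_app, Cofan.mk_ι_app, Functor.const_map_app]
        exact pullback.condition.symm
      · rintro ⟨j⟩
        exact IsPullback.of_hasPullback _ _
    refine h1 (fun j : ULift.{u} (Fin m) => pullback f' ((AlgSp.yon S).map (e j.down)))
      (fun j => (AlgSp.yon S).obj (W j.down))
      (fun j => pullback.snd f' ((AlgSp.yon S).map (e j.down))) _ _ hcX hcY f' hXi'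
      (fun j => AlgSp.IsAlgSpace.yon_obj _) hX' (AlgSp.IsAlgSpace.yon_obj Z')
      (fun j => pullback.condition) (fun j => ?_)
    -- each piece is a base change of `p (i j)`
    obtain ⟨j⟩ := j
    have sqA := IsPullback.of_hasPullback f' ((AlgSp.yon S).map (e j))
    have sqB : IsPullback (pullback.fst snd₀ ((AlgSp.yon S).map c')) f' snd₀
        ((AlgSp.yon S).map c') := by
      rw [hf']
      exact IsPullback.of_hasPullback _ _
    have big : IsPullback ((pullback.fst f' ((AlgSp.yon S).map (e j)) ≫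
        pullback.fst snd₀ ((AlgSp.yon S).map c')) ≫ fst₀)
        (pullback.snd f' ((AlgSp.yon S).map (e j))) f (l j ≫ g (i j)) := by
      have := (sqA.paste_horiz sqB).paste_horiz sq₀
      rw [← Functor.map_comp, hec, ← hl] at this
      exact this
    have hw : ((pullback.fst f' ((AlgSp.yon S).map (e j)) ≫
        pullback.fst snd₀ ((AlgSp.yon S).map c')) ≫ fst₀) ≫ f =
        (pullback.snd f' ((AlgSp.yon S).map (e j)) ≫ l j) ≫ g (i j) := by
      rw [Category.assoc _ (l j)]
      exact big.w
    have sqC : IsPullback ((sq (i j)).lift _ _ hw) (pullback.snd f' ((AlgSp.yon S).map (e j)))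
        (p (i j)) (l j) := by
      refine IsPullback.of_right ?_ ((sq (i j)).lift_snd _ _ _) (sq (i j))
      rw [(sq (i j)).lift_fst]
      exact big
    exact (h2 (hXi (i j)) (hYi (i j)) (p (i j))).1 (H (i j)) (W j) (hW j) (l j) _ _ _
      (hXi' ⟨j⟩) sqC

end Groth.Agent.S10571
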