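import Groth.Statements.S10577
import Groth.Agent.Lib.Seat48PushBC2

set_option autoImplicit false
universe u
open CategoryTheory CategoryTheory.Limits AlgebraicGeometry
open AlgSp

namespace Groth.Agent.S10577

/-- Let f : X ⟶ Y be a finite morphism of algebraic spaces over S and F a quasi-coherent O_X-module (on
the small etale site). Then F is of finite type exactly when its direct image f_*F is of finite type
as an O_Y-module. (A finite morphism is representable; the row carries representability of f as an
explicit hypothesis because the direct image functor is defined for representable morphisms.) -/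
theorem result {S : Scheme.{u}} {X Y : AlgSp.Space S} (f : X ⟶ Y)
    (hrep : AlgSp.Representable f.hom) (hfin : AlgSp.IsFiniteMor f.hom)
    (F : AlgSp.ModEt X.obj) [F.IsQuasicoherent] :
    F.IsFiniteType ↔ ((AlgSp.pushModEt hrep).obj F).IsFiniteType := by
  have hF := Groth.Agent.Lib.Seat48.BCEt.hasBCOn_of_isQuasicoherent F
  have haff := Groth.Agent.Lib.Seat48.PushWeakAss.isAffineMor_of_isFiniteMor hfin
  have hpush := Groth.Agent.Lib.Seat48.PushBC.hasBCOn_push hrep haff F hF
  constructor
  · intro hft
    exact Groth.Agent.Lib.Seat48.BCEt.isFiniteType_of_finite_sections _ hpush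
      (fun E hE => Groth.Agent.Lib.Seat48.PushBC.finite_sections_push hrep hfin F
        (fun W hW => Groth.Agent.Lib.Seat48.BCEt.finite_sections F hF W hW) E hE)
  · intro hft
    exact Groth.Agent.Lib.Seat48.PushBC.isFiniteType_of_finite_sections_bc Y.property hrep haff F hF
      (fun E hE => Groth.Agent.Lib.Seat48.PushBC.finite_sections_of_push hrep F E
        (Groth.Agent.Lib.Seat48.BCEt.finite_sections _ hpush E hE))

end Groth.Agent.S10577
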