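import Groth.Statements.S10579
import Groth.Agent.Lib.Seat83Unibranch
import Groth.Agent.Lib.Seat45Charts

set_option autoImplicit false
universe u
open CategoryTheory CategoryTheory.Limits AlgebraicGeometry
open AlgSp

namespace Groth.Agent.S10579

/-- Let f : X ⟶ Y be a morphism of algebraic spaces over S and x ∈ |X|. If X is geometrically unibranch
at x and f is flat at x, then Y is geometrically unibranch at the image point f(x). Here an
algebraic space is geometrically unibranch at a point when for every etale chart from a scheme U and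
every point u of U over it the local ring of U at u is geometrically unibranch. -/
theorem result {S : Scheme.{u}} {X Y : AlgSp.Space S} (f : X ⟶ Y) (x : AlgSp.Points X.obj)
    (hf : AlgSp.IsFlatAtMor f.hom x)
    (hX : ∀ (U : Over S) (a : (AlgSp.yon S).obj U ⟶ X.obj) (v : ↥U.left), AlgSp.RepWith @Etale a →
      AlgSp.Points.ofPt a v = x → CAlg2.IsGeomUnibranch ↥(U.left.presheaf.stalk v))
    (V : Over S) (b : (AlgSp.yon S).obj V ⟶ Y.obj) (w : ↥V.left) (hb : AlgSp.RepWith @Etale b)
    (hw : AlgSp.Points.ofPt b w = AlgSp.Points.map f.hom x) :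
    CAlg2.IsGeomUnibranch ↥(V.left.presheaf.stalk w) := by
  open Groth.Agent.Lib.Seat45.Charts in
  obtain ⟨U₀, a₀, u₀, ha₀, hu₀⟩ := exists_chart X.property x
  obtain ⟨W, p, q, w', hp, hpw, hqw, hae, hac⟩ :=
    exists_chart_square f.hom a₀ ha₀ b hb u₀ w (by rw [hu₀, hw])
  have hx : AlgSp.Points.ofPt ((AlgSp.yon S).map p ≫ a₀) w' = x := by
    rw [Groth.Agent.S10176.ofPt_map_comp, hpw, hu₀]
  have hfl : (q.left.stalkMap w').hom.Flat := hf _ b q w' hae hb hac hx
  have hG := hX W _ w' hae hx
  subst hqw
  exact Groth.Agent.Lib.Seat83.Unibranch.isGeomUnibranch_of_flat (q.left.stalkMap w').hom hfl hG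


end Groth.Agent.S10579
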