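import Groth.Statements.S10582
import Groth.Agent.S10532
import Groth.Agent.S10180
import Groth.Agent.S10288
import Groth.Agent.S9874
import Groth.Agent.Lib.Helper12TopDescent2

set_option autoImplicit false
universe u
open CategoryTheory CategoryTheory.Limits AlgebraicGeometry
open AlgSp

namespace Groth.Agent.S10582

/-- A monomorphism of algebraic spaces that is quasi-compact, flat and surjective is an isomorphism. -/
theorem result {S : Scheme.{u}} {X Y : AlgSp.Space S} (f : X ⟶ Y)
    (hqc : AlgSp.IsQuasiCompactMor f.hom) (hflat : AlgSp.LocP @Flat f.hom) (hsurj : AlgSp.IsSurjectiveMor f.hom)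
    [Mono f.hom] : IsIso f.hom := by
  have hcov : AlgSp.IsFpqcCover (fun _ : PUnit.{u + 1} => X.obj) (fun _ => f.hom) := by
    refine ⟨fun _ => hflat, fun Z hZ h => ?_⟩
    have sq : IsPullback (pullback.fst f.hom h) (pullback.snd f.hom h) f.hom h :=
      IsPullback.of_hasPullback _ _
    have hP1 : AlgSp.IsAlgSpace (pullback f.hom h) :=
      Groth.Agent.S9874.isAlgSpace_of_isPullback Y.property.diag X.property
        (AlgSp.IsAlgSpace.yon_obj Z) sq
    have : IsAffine Z.left := hZ
    have hqcP1 : AlgSp.IsQuasiCompactSp (pullback f.hom h) :=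
      hqc (AlgSp.IsAlgSpace.yon_obj Z)
        ⟨Z, 𝟙 _, AlgSp.repWith_id _ Z, AlgSp.repWith_id _ Z, inferInstance⟩ h _ _ sq
    obtain ⟨U, p, hU, hpe, hps⟩ := Groth.Agent.S10180.exists_affine_chart hqcP1
    obtain ⟨c, hc⟩ := (AlgSp.yon S).map_surjective (p ≫ pullback.snd f.hom h)
    have hfl' : AlgSp.LocP @Flat (pullback.snd f.hom h) :=
      Groth.Agent.Lib.Helper12.TopDescent.locP_flat_baseChange X.property Y.property
        (AlgSp.IsAlgSpace.yon_obj Z) sq hflat
    have hcfl : Flat c.left :=
      hfl' p (𝟙 _) c hpe (AlgSp.repWith_id _ Z) (by rw [hc, Category.comp_id])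
    have hs' : AlgSp.IsSurjectiveMor (pullback.snd f.hom h) :=
      Groth.Agent.Lib.Helper12.TopDescent.isSurjectiveMor_baseChange sq hsurj
    have hcs : ∀ z : ↥Z.left, z ∈ Set.range c.left := by
      intro z
      obtain ⟨x, hx⟩ := hs' (AlgSp.Points.schemeHomeo Z z)
      obtain ⟨t, rfl⟩ := Groth.Agent.S10177.surjective_ofPt p hps x
      refine ⟨t, ?_⟩
      apply (AlgSp.Points.schemeHomeo Z).injective
      rw [← Groth.Agent.S10288.ofPt_yon_map, hc, ← AlgSp.Points.map_ofPt]
      exact hx
    refine ⟨1, fun _ => U, fun _ => c, fun _ => hU, fun _ => hcfl, fun z => ⟨0, hcs z⟩,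
      fun _ => ⟨PUnit.unit, p ≫ pullback.fst f.hom h, ?_⟩⟩
    rw [Category.assoc, sq.w, ← Category.assoc, hc]
  have hXX : AlgSp.IsAlgSpace (pullback f.hom f.hom) :=
    Groth.Agent.S9874.isAlgSpace_of_isPullback Y.property.diag X.property X.property
      (IsPullback.of_hasPullback f.hom f.hom)
  have key := (Groth.Agent.S10532.result S) (fun _ : PUnit.{u + 1} => X.obj) (fun _ => f.hom)
    Y.property (fun _ => X.property) hcov f.hom X.property (fun _ => pullback f.hom f.hom)
    (fun _ => pullback.snd f.hom f.hom) (fun _ => pullback.fst f.hom f.hom) (fun _ => hXX)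
    (fun _ => IsPullback.of_hasPullback f.hom f.hom)
  exact key.2 (fun _ => (inferInstance : IsIso (pullback.snd f.hom f.hom)))

end Groth.Agent.S10582
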