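import Groth.Statements.S10587
import Groth.Agent.Lib.Seat47ThickTop

set_option autoImplicit false
universe u
open CategoryTheory CategoryTheory.Limits AlgebraicGeometry
open AlgSp

namespace Groth.Agent.S10587

open Groth.Agent.Lib.Seat47 Groth.Agent.Lib.Seat47.ThickTop

/-- universal topological properties along a morphism of thickenings -/
theorem univSp_iff
    (Q : ∀ {A B : Type (u + 1)} [TopologicalSpace A] [TopologicalSpace B], (A → B) → Prop)
    (hcomp : ∀ {A B C : Type (u + 1)} [TopologicalSpace A] [TopologicalSpace B] [TopologicalSpace C]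
      (f : A → B) (g : B → C), Q f → Q g → Q (g ∘ f))
    (hhomeo : ∀ {A B : Type (u + 1)} [TopologicalSpace A] [TopologicalSpace B] (e : A ≃ₜ B), Q e)
    {S : Scheme.{u}} {X X' Y Y' : AlgSp.Space S} (i : X ⟶ X') (j : Y ⟶ Y')
    (f : X ⟶ Y) (f' : X' ⟶ Y') (hi : AlgSp.IsThickMor i.hom) (hj : AlgSp.IsThickMor j.hom)
    (w : i ≫ f' = f ≫ j) :
    AlgSp.UnivSp (fun _ _ s => Q (AlgSp.Points.map s)) f.hom ↔
      AlgSp.UnivSp (fun _ _ s => Q (AlgSp.Points.map s)) f'.hom := by
  have w' : i.hom ≫ f'.hom = f.hom ≫ j.hom := congrArg (fun m => m.hom) w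
  constructor
  · intro H Z P' hZ g' fst' snd' sq'
    obtain ⟨Z₀, P₀, k, g₀, fst₀, snd₀, m, sqZ, sqP, hk, hm, hc, -⟩ :=
      exists_square_of_target i.hom j.hom f.hom f'.hom hi hj w' g' fst' snd' sq'
    have hZ₀ : AlgSp.IsAlgSpace Z₀ :=
      Groth.Agent.S9874.isAlgSpace_of_isPullback Y'.property.diag hZ Y.property sqZ
    have h0 := H hZ₀ g₀ fst₀ snd₀ sqP
    exact (transfer Q hcomp hhomeo (homeoLike_of_thick m hm) (homeoLike_of_thick k hk) hc).1 h0
  · intro H Z P hZ g fst snd sq
    obtain ⟨P', fst', snd', m, sq', hm, hc, -⟩ :=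
      exists_square_of_source i.hom j.hom f.hom f'.hom hi hj w' g fst snd sq
    have h0 := H hZ (g ≫ j.hom) fst' snd' sq'
    exact (transfer Q hcomp hhomeo (homeoLike_of_thick m hm) (homeoLike_id Z)
      (by rw [hc, Category.comp_id])).2 h0


/-- Consider a morphism (f, f') from the thickening X ⊂ X' to the thickening Y ⊂ Y' of algebraic spaces
over S, meaning: i : X ⟶ X' and j : Y ⟶ Y' are thickenings (representable, every base change to a
scheme a surjective closed immersion) and i ≫ f' = f ≫ j. Then f is surjective, resp. quasi-compact,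
universally closed, universally injective, universally open, if and only if f' is. -/
theorem result {S : Scheme.{u}} {X X' Y Y' : AlgSp.Space S} (i : X ⟶ X') (j : Y ⟶ Y')
    (f : X ⟶ Y) (f' : X' ⟶ Y')
    (hi : AlgSp.IsThickMor i.hom)
    (hj : AlgSp.IsThickMor j.hom) (w : i ≫ f' = f ≫ j) :
    (AlgSp.IsSurjectiveMor f.hom ↔ AlgSp.IsSurjectiveMor f'.hom) ∧
    (AlgSp.IsQuasiCompactMor f.hom ↔ AlgSp.IsQuasiCompactMor f'.hom) ∧
    (AlgSp.IsUnivClosedMor f.hom ↔ AlgSp.IsUnivClosedMor f'.hom) ∧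
    (AlgSp.IsUnivInjectiveMor f.hom ↔ AlgSp.IsUnivInjectiveMor f'.hom) ∧
    (AlgSp.IsUnivOpenMor f.hom ↔ AlgSp.IsUnivOpenMor f'.hom) := by
  have w' : i.hom ≫ f'.hom = f.hom ≫ j.hom := congrArg (fun m => m.hom) w
  refine ⟨?_, ?_, ?_, ?_, ?_⟩
  · exact transfer_surjective (homeoLike_of_thick i.hom hi) (homeoLike_of_thick j.hom hj) w'
  · constructor
    · intro H Z P' hZ hZqc g' fst' snd' sq'
      obtain ⟨Z₀, P₀, k, g₀, fst₀, snd₀, m, sqZ, sqP, hk, hm, hc, -⟩ :=
        exists_square_of_target i.hom j.hom f.hom f'.hom hi hj w' g' fst' snd' sq'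
      have hZ₀ : AlgSp.IsAlgSpace Z₀ :=
        Groth.Agent.S9874.isAlgSpace_of_isPullback Y'.property.diag hZ Y.property sqZ
      have hP₀ : AlgSp.IsAlgSpace P₀ :=
        Groth.Agent.S9874.isAlgSpace_of_isPullback Y.property.diag X.property hZ₀ sqP
      have hP' : AlgSp.IsAlgSpace P' :=
        Groth.Agent.S9874.isAlgSpace_of_isPullback Y'.property.diag X'.property hZ sq'
      have hZ₀qc : AlgSp.IsQuasiCompactSp Z₀ :=
        (Groth.Agent.S10174.isQuasiCompactSp_iff hZ₀).2
          ((compactSpace_iff (homeoLike_of_thick k hk)).2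
            ((Groth.Agent.S10174.isQuasiCompactSp_iff hZ).1 hZqc))
      have h0 := H hZ₀ hZ₀qc g₀ fst₀ snd₀ sqP
      exact (Groth.Agent.S10174.isQuasiCompactSp_iff hP').2
        ((compactSpace_iff (homeoLike_of_thick m hm)).1
          ((Groth.Agent.S10174.isQuasiCompactSp_iff hP₀).1 h0))
    · intro H Z P hZ hZqc g fst snd sq
      obtain ⟨P', fst', snd', m, sq', hm, hc, -⟩ :=
        exists_square_of_source i.hom j.hom f.hom f'.hom hi hj w' g fst snd sq
      have hP : AlgSp.IsAlgSpace P :=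
        Groth.Agent.S9874.isAlgSpace_of_isPullback Y.property.diag X.property hZ sq
      have hP' : AlgSp.IsAlgSpace P' :=
        Groth.Agent.S9874.isAlgSpace_of_isPullback Y'.property.diag X'.property hZ sq'
      have h0 := H hZ hZqc (g ≫ j.hom) fst' snd' sq'
      exact (Groth.Agent.S10174.isQuasiCompactSp_iff hP).2
        ((compactSpace_iff (homeoLike_of_thick m hm)).2
          ((Groth.Agent.S10174.isQuasiCompactSp_iff hP').1 h0))
  · exact univSp_iff (fun f => IsClosedMap f) (fun _ _ hf hg => hg.comp hf) (fun e => e.isClosedMap)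
      i j f f' hi hj w
  · exact univSp_iff (fun f => Function.Injective f) (fun _ _ hf hg => hg.comp hf) (fun e => e.injective)
      i j f f' hi hj w
  · exact univSp_iff (fun f => IsOpenMap f) (fun _ _ hf hg => hg.comp hf) (fun e => e.isOpenMap)
      i j f f' hi hj w

end Groth.Agent.S10587
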