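import Groth.Statements.S10589
import Groth.Agent.Lib.Seat47ThickTop
import Groth.Agent.S10587
import Groth.Agent.S10280
import Groth.Agent.S9900
import Groth.Agent.S9912

set_option autoImplicit false
universe u
open CategoryTheory CategoryTheory.Limits AlgebraicGeometry
open AlgSp

namespace Groth.Agent.S10589

open Groth.Agent.Lib.Seat47 Groth.Agent.Lib.Seat47.ThickTop

instance thick_isStableUnderComposition : (AlgSp.thick.{u}).IsStableUnderComposition := by
  unfold AlgSp.thick
  infer_instance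

/-- the map `X ×_Y X ⟶ X' ×_{Y'} X'` induced by a morphism of thickenings is a thickening -/
theorem isThickMor_pullbackMap {S : Scheme.{u}} {X X' Y Y' : AlgSp.Sp S} (i : X ⟶ X') (j : Y ⟶ Y')
    (f : X ⟶ Y) (f' : X' ⟶ Y') (hi : AlgSp.IsThickMor i) (hj : AlgSp.IsThickMor j)
    (w : i ≫ f' = f ≫ j) :
    AlgSp.IsThickMor (pullback.map f f f' f' i i j w.symm w.symm) := by
  haveI := mono_of_thick j hj
  have sqA := IsPullback.of_hasPullback f' (f ≫ j)
  have sqX := IsPullback.of_hasPullback f f
  have sqX' := IsPullback.of_hasPullback f' f'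
  -- first step
  have hw₁ : (pullback.fst f f ≫ i) ≫ f' = pullback.snd f f ≫ f ≫ j := by
    rw [Category.assoc, w, ← Category.assoc, sqX.w, Category.assoc]
  have h11 : sqA.lift _ _ hw₁ ≫ pullback.fst f' (f ≫ j) = pullback.fst f f ≫ i := sqA.lift_fst _ _ hw₁
  have h12 : sqA.lift _ _ hw₁ ≫ pullback.snd f' (f ≫ j) = pullback.snd f f := sqA.lift_snd _ _ hw₁
  have outer₁ : IsPullback (pullback.fst f f) (pullback.snd f f) (f ≫ j) (f ≫ j) :=
    isPullback_comp_mono j f sqX
  have outer₁' : IsPullback (pullback.snd f f) (pullback.fst f f) (f ≫ j) (i ≫ f') := by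
    rw [w]
    exact outer₁.flip
  have sq₁ : IsPullback (sqA.lift _ _ hw₁) (pullback.fst f f) (pullback.fst f' (f ≫ j)) i := by
    refine IsPullback.of_right ?_ h11 sqA.flip
    rw [h12]
    exact outer₁'
  have hm₁ : AlgSp.IsThickMor (sqA.lift _ _ hw₁) :=
    MorphismProperty.of_isPullback (P := AlgSp.RepWith AlgSp.thick) sq₁.flip hi
  -- second step
  have hw₂ : pullback.fst f' (f ≫ j) ≫ f' = (pullback.snd f' (f ≫ j) ≫ i) ≫ f' := by
    rw [Category.assoc, w, sqA.w]
  have h21 : sqX'.lift _ _ hw₂ ≫ pullback.fst f' f' = pullback.fst f' (f ≫ j) := sqX'.lift_fst _ _ hw₂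
  have h22 : sqX'.lift _ _ hw₂ ≫ pullback.snd f' f' = pullback.snd f' (f ≫ j) ≫ i := sqX'.lift_snd _ _ hw₂
  have outer₂ : IsPullback (pullback.fst f' (f ≫ j)) (pullback.snd f' (f ≫ j)) f' (i ≫ f') := by
    rw [w]
    exact sqA
  have sq₂ : IsPullback (sqX'.lift _ _ hw₂) (pullback.snd f' (f ≫ j)) (pullback.snd f' f') i := by
    refine IsPullback.of_right ?_ h22 sqX'
    rw [h21]
    exact outer₂
  have hm₂ : AlgSp.IsThickMor (sqX'.lift _ _ hw₂) :=
    MorphismProperty.of_isPullback (P := AlgSp.RepWith AlgSp.thick) sq₂.flip hi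
  have e : pullback.map f f f' f' i i j w.symm w.symm = sqA.lift _ _ hw₁ ≫ sqX'.lift _ _ hw₂ := by
    apply pullback.hom_ext
    · rw [pullback.lift_fst, Category.assoc, h21, h11]
    · rw [pullback.lift_snd, Category.assoc, h22, ← Category.assoc, h12]
  rw [e]
  exact (AlgSp.RepWith AlgSp.thick).comp_mem _ _ hm₁ hm₂


/-- Consider a morphism (f, f') from the thickening X ⊂ X' to the thickening Y ⊂ Y' of algebraic spaces
over S, meaning: i : X ⟶ X' and j : Y ⟶ Y' are thickenings (representable, every base change to a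
scheme a surjective closed immersion) and i ≫ f' = f ≫ j. Then f is separated if and only if f' is
separated, and f is quasi-separated if and only if f' is quasi-separated. -/
theorem result {S : Scheme.{u}} {X X' Y Y' : AlgSp.Space S} (i : X ⟶ X') (j : Y ⟶ Y')
    (f : X ⟶ Y) (f' : X' ⟶ Y')
    (hi : AlgSp.IsThickMor i.hom)
    (hj : AlgSp.IsThickMor j.hom) (w : i ≫ f' = f ≫ j) :
    (AlgSp.IsSeparatedMor f.hom ↔ AlgSp.IsSeparatedMor f'.hom) ∧
    (AlgSp.IsQuasiSeparatedMor f.hom ↔ AlgSp.IsQuasiSeparatedMor f'.hom) := by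
  have w' : i.hom ≫ f'.hom = f.hom ≫ j.hom := congrArg (fun m => m.hom) w
  have hXX : AlgSp.IsAlgSpace (pullback f.hom f.hom) :=
    Groth.Agent.S9874.isAlgSpace_of_isPullback Y.property.diag X.property X.property
      (IsPullback.of_hasPullback _ _)
  have hXX' : AlgSp.IsAlgSpace (pullback f'.hom f'.hom) :=
    Groth.Agent.S9874.isAlgSpace_of_isPullback Y'.property.diag X'.property X'.property
      (IsPullback.of_hasPullback _ _)
  let XX : AlgSp.Space S := ⟨pullback f.hom f.hom, hXX⟩
  let XX' : AlgSp.Space S := ⟨pullback f'.hom f'.hom, hXX'⟩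
  let Δ : X ⟶ XX := ObjectProperty.homMk (pullback.diagonal f.hom)
  let Δ' : X' ⟶ XX' := ObjectProperty.homMk (pullback.diagonal f'.hom)
  let ii : XX ⟶ XX' := ObjectProperty.homMk (pullback.map f.hom f.hom f'.hom f'.hom i.hom i.hom j.hom
    w'.symm w'.symm)
  have hii : AlgSp.IsThickMor ii.hom := isThickMor_pullbackMap i.hom j.hom f.hom f'.hom hi hj w'
  have wΔ : i ≫ Δ' = Δ ≫ ii := by
    apply ObjectProperty.hom_ext
    show i.hom ≫ pullback.diagonal f'.hom =
      pullback.diagonal f.hom ≫ pullback.map f.hom f.hom f'.hom f'.hom i.hom i.hom j.hom w'.symm w'.symm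
    apply pullback.hom_ext
    · rw [Category.assoc, Category.assoc, pullback.diagonal_fst, Category.comp_id, pullback.lift_fst,
        ← Category.assoc, pullback.diagonal_fst, Category.id_comp]
    · rw [Category.assoc, Category.assoc, pullback.diagonal_snd, Category.comp_id, pullback.lift_snd,
        ← Category.assoc, pullback.diagonal_snd, Category.id_comp]
  obtain ⟨-, hqc, huc, -, -⟩ := Groth.Agent.S10587.result i ii Δ Δ' hi hii wΔ
  refine ⟨?_, ?_⟩
  · rw [(Groth.Agent.S10280.result f).1, (Groth.Agent.S10280.result f').1]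
    exact huc
  · have h1 := Groth.Agent.S9912.result Δ (Groth.Agent.S9900.result f).1
    have h2 := Groth.Agent.S9912.result Δ' (Groth.Agent.S9900.result f').1
    exact h1.trans (hqc.trans h2.symm)

end Groth.Agent.S10589
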