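import Groth.Statements.S10591
import Groth.Agent.Lib.Seat47DeformLocal
import Groth.Agent.Lib.Seat47ThickSrc
import Groth.Agent.S1312

set_option autoImplicit false
universe u
open CategoryTheory CategoryTheory.Limits AlgebraicGeometry
open AlgSp

namespace Groth.Agent.S10591

open Groth.Agent.Lib.Seat47

/-- Consider a morphism (f, f') from the thickening X ⊂ X' to the thickening Y ⊂ Y' of algebraic spaces
over S, meaning: i : X ⟶ X' and j : Y ⟶ Y' are thickenings (representable, every base change to a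
scheme a surjective closed immersion) and i ≫ f' = f ≫ j. Assume moreover that the square is
cartesian (X = Y ×_{Y'} X') and that i is a finite order thickening (for one n, on every affine
etale scheme chart of X' the (n+1)-st power of the ideal of the base change of X vanishes). Then f
is locally of finite type of relative dimension d, resp. locally of finite type, resp. locally
quasi-finite, resp. unramified, if and only if f' is (relative dimension d at a point: some chart
diagram through the point has fibre of local dimension d there) (all in the etale-local sense,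
locally quasi-finite and unramified including locally of finite type). -/
theorem result {S : Scheme.{u}} {X X' Y Y' : AlgSp.Space S} (i : X ⟶ X') (j : Y ⟶ Y')
    (f : X ⟶ Y) (f' : X' ⟶ Y')
    (hi : AlgSp.IsThickMor i.hom)
    (hj : AlgSp.IsThickMor j.hom) (w : i ≫ f' = f ≫ j)
    (hcart : IsPullback i.hom f.hom f'.hom j.hom)
    (hfo : AlgSp.IsFinThickMor i.hom) (d : ℕ) :
    ((AlgSp.LocP @LocallyOfFiniteType f.hom ∧
        ∀ x, AlgSp.HasAtMor (fun _ _ h u => FlatMor.fibreDimAt h u = (d : WithBot ℕ∞)) f.hom x) ↔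
      (AlgSp.LocP @LocallyOfFiniteType f'.hom ∧
        ∀ x', AlgSp.HasAtMor (fun _ _ h u => FlatMor.fibreDimAt h u = (d : WithBot ℕ∞)) f'.hom x')) ∧
    (AlgSp.LocP @LocallyOfFiniteType f.hom ↔ AlgSp.LocP @LocallyOfFiniteType f'.hom) ∧
    (AlgSp.LocP (@LocallyQuasiFinite ⊓ @LocallyOfFiniteType) f.hom ↔
      AlgSp.LocP (@LocallyQuasiFinite ⊓ @LocallyOfFiniteType) f'.hom) ∧
    (AlgSp.LocP (@LocallyOfFiniteType ⊓ @FormallyUnramified) f.hom ↔
      AlgSp.LocP (@LocallyOfFiniteType ⊓ @FormallyUnramified) f'.hom) := by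
  have hcX : IsPullback i.hom (f ≫ 𝟙 Y).hom (f' ≫ 𝟙 Y').hom j.hom := by
    rw [Category.comp_id, Category.comp_id]
    exact hcart
  have hcY : IsPullback j.hom (𝟙 Y : Y ⟶ Y).hom (𝟙 Y' : Y' ⟶ Y').hom j.hom := by
    haveI : IsIso (𝟙 Y : Y ⟶ Y).hom := inferInstanceAs (IsIso (𝟙 Y.obj))
    haveI : IsIso (𝟙 Y' : Y' ⟶ Y').hom := inferInstanceAs (IsIso (𝟙 Y'.obj))
    exact IsPullback.of_vert_isIso ⟨by
      show j.hom ≫ 𝟙 Y'.obj = 𝟙 Y.obj ≫ j.hom
      rw [Category.comp_id, Category.id_comp]⟩
  obtain ⟨D⟩ := DeformChart.exists_deformCharts i j j f f' (𝟙 Y) (𝟙 Y') hcX hcY w hj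
  have htop := DeformLocal.isPullback_top D
  have hV := DeformLocal.thick_jV D
  have hfinU : MoreMor.IsFiniteOrderThickening D.jU.left :=
    DeformChart.finThick_chart i.hom hfo D.a' D.ha'e D.a D.jU D.hXU.flip
  have hlft : LocallyOfFiniteType D.φ.left ↔ LocallyOfFiniteType D.φ'.left :=
    ⟨fun h => by
      haveI := h
      exact ThickSrc.lft_of_fthick_src D.jU.left D.jV.left D.φ.left D.φ'.left hV hfinU htop,
    fun h => MorphismProperty.of_isPullback (P := @LocallyOfFiniteType) htop h⟩
  have hfu : FormallyUnramified D.φ.left ↔ FormallyUnramified D.φ'.left :=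
    ⟨fun h => by
      haveI := h
      exact ThickSrc.fu_of_fthick_src D.jU.left D.jV.left D.φ.left D.φ'.left hV hfinU htop,
    fun h => MorphismProperty.of_isPullback (P := @FormallyUnramified) htop h⟩
  refine ⟨?_, ?_, ?_, ?_⟩
  · rw [DeformLocal.locP_iff D _ DeformLocal.cases_lft, DeformLocal.locP_iff' D _ DeformLocal.cases_lft,
      DeformLocal.forall_hasAtMor_fibreDim_iff_of_chart f D.a D.b D.φ D.hae D.has D.hbe D.hac,
      DeformLocal.forall_hasAtMor_fibreDim_iff_of_chart f' D.a' D.b' D.φ' D.ha'e D.ha's D.hb'e D.ha'c]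
    constructor
    · rintro ⟨h1, h2⟩
      haveI := hlft.1 h1
      exact ⟨inferInstance, (DeformLocal.fibreDim_iff D _).1 h2⟩
    · rintro ⟨h1, h2⟩
      haveI := h1
      exact ⟨hlft.2 h1, (DeformLocal.fibreDim_iff D _).2 h2⟩
  · rw [DeformLocal.locP_iff D _ DeformLocal.cases_lft, DeformLocal.locP_iff' D _ DeformLocal.cases_lft]
    exact hlft
  · rw [DeformLocal.locP_iff D _ DeformLocal.cases_lqf, DeformLocal.locP_iff' D _ DeformLocal.cases_lqf]
    constructor
    · rintro ⟨h1, h2⟩
      haveI := h2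
      haveI := hlft.1 h2
      exact ⟨(Groth.Agent.S1312.result D.jU.left D.jV.left D.φ.left D.φ'.left hV htop).1 h1, inferInstance⟩
    · rintro ⟨h1, h2⟩
      haveI := h2
      haveI := hlft.2 h2
      exact ⟨(Groth.Agent.S1312.result D.jU.left D.jV.left D.φ.left D.φ'.left hV htop).2 h1, inferInstance⟩
  · rw [DeformLocal.locP_iff D _ DeformLocal.cases_unram, DeformLocal.locP_iff' D _ DeformLocal.cases_unram]
    exact and_congr hlft hfu

end Groth.Agent.S10591
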