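import Groth.Statements.S10593
import Groth.Agent.Lib.Seat47DeformLocal
import Groth.Agent.S1312
import Groth.Agent.S1314

set_option autoImplicit false
universe u
open CategoryTheory CategoryTheory.Limits AlgebraicGeometry
open AlgSp

namespace Groth.Agent.S10593

open Groth.Agent.Lib.Seat47

/-- Consider a morphism (f, f') from the thickening X ⊂ X' to the thickening Y ⊂ Y' of algebraic spaces
over S, meaning: i : X ⟶ X' and j : Y ⟶ Y' are thickenings (representable, every base change to a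
scheme a surjective closed immersion) and i ≫ f' = f ≫ j. Assume moreover that the square is
cartesian (X = Y ×_{Y'} X') and that f and f' are locally of finite type. Then f is locally
quasi-finite, resp. unramified, if and only if f' is (etale-local sense, both notions including
locally of finite type). -/
theorem result {S : Scheme.{u}} {X X' Y Y' : AlgSp.Space S} (i : X ⟶ X') (j : Y ⟶ Y')
    (f : X ⟶ Y) (f' : X' ⟶ Y')
    (hi : AlgSp.IsThickMor i.hom)
    (hj : AlgSp.IsThickMor j.hom) (w : i ≫ f' = f ≫ j)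
    (hcart : IsPullback i.hom f.hom f'.hom j.hom)
    (hft : AlgSp.LocP @LocallyOfFiniteType f.hom) (hft' : AlgSp.LocP @LocallyOfFiniteType f'.hom) :
    (AlgSp.LocP (@LocallyQuasiFinite ⊓ @LocallyOfFiniteType) f.hom ↔
      AlgSp.LocP (@LocallyQuasiFinite ⊓ @LocallyOfFiniteType) f'.hom) ∧
    (AlgSp.LocP (@LocallyOfFiniteType ⊓ @FormallyUnramified) f.hom ↔
      AlgSp.LocP (@LocallyOfFiniteType ⊓ @FormallyUnramified) f'.hom) := by
  have hcX : IsPullback i.hom (f ≫ 𝟙 Y).hom (f' ≫ 𝟙 Y').hom j.hom := by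
    rw [Category.comp_id, Category.comp_id]
    exact hcart
  have hcY : IsPullback j.hom (𝟙 Y : Y ⟶ Y).hom (𝟙 Y' : Y' ⟶ Y').hom j.hom := by
    haveI : IsIso (𝟙 Y : Y ⟶ Y).hom := inferInstanceAs (IsIso (𝟙 Y.obj))
    haveI : IsIso (𝟙 Y' : Y' ⟶ Y').hom := inferInstanceAs (IsIso (𝟙 Y'.obj))
    exact IsPullback.of_vert_isIso ⟨by
      show j.hom ≫ 𝟙 Y'.obj = 𝟙 Y.obj ≫ j.hom
      rw [Category.comp_id, Category.id_comp]⟩
  obtain ⟨D⟩ := DeformChart.exists_deformCharts i j j f f' (𝟙 Y) (𝟙 Y') hcX hcY w hj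
  have htop := DeformLocal.isPullback_top D
  haveI hlft : LocallyOfFiniteType D.φ.left := hft D.a D.b D.φ D.hae D.hbe D.hac
  haveI hlft' : LocallyOfFiniteType D.φ'.left := hft' D.a' D.b' D.φ' D.ha'e D.hb'e D.ha'c
  refine ⟨?_, ?_⟩
  · rw [DeformLocal.locP_iff D _ DeformLocal.cases_lqf, DeformLocal.locP_iff' D _ DeformLocal.cases_lqf]
    constructor
    · rintro ⟨h1, -⟩
      exact ⟨(Groth.Agent.S1312.result D.jU.left D.jV.left D.φ.left D.φ'.left (DeformLocal.thick_jV D)
        htop).1 h1, hlft'⟩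
    · rintro ⟨h1, -⟩
      exact ⟨(Groth.Agent.S1312.result D.jU.left D.jV.left D.φ.left D.φ'.left (DeformLocal.thick_jV D)
        htop).2 h1, hlft⟩
  · rw [DeformLocal.locP_iff D _ DeformLocal.cases_unram, DeformLocal.locP_iff' D _ DeformLocal.cases_unram]
    constructor
    · rintro ⟨-, h1⟩
      exact ⟨hlft', (Groth.Agent.S1314.result D.jU.left D.jV.left D.φ.left D.φ'.left (DeformLocal.thick_jV D)
        htop).1 h1⟩
    · rintro ⟨-, h1⟩
      exact ⟨hlft, (Groth.Agent.S1314.result D.jU.left D.jV.left D.φ.left D.φ'.left (DeformLocal.thick_jV D)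
        htop).2 h1⟩

end Groth.Agent.S10593
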