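import Groth.Statements.S10596
import Groth.Agent.Lib.Seat47DeformLocal
import Groth.Agent.S1309
import Groth.Agent.S1310
import Groth.Agent.S1312
import Groth.Agent.S1317
import Groth.Agent.S1320
import Groth.Agent.S1321
import Groth.Agent.S1322

set_option autoImplicit false
universe u
open CategoryTheory CategoryTheory.Limits AlgebraicGeometry
open AlgSp

namespace Groth.Agent.S10596

open Groth.Agent.Lib.Seat47

/-- Let iB : B ⟶ B' be a finite order thickening of algebraic spaces over S (a thickening such that for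
one n the (n+1)-st power of the ideal vanishes on every affine etale scheme chart), f' : X' ⟶ Y' a
morphism of algebraic spaces over B' (via g' : Y' ⟶ B') with X' flat over B', and f : X ⟶ Y, g : Y ⟶
B its base change to B (both squares to iB cartesian, iX ≫ f' = f ≫ iY). Then f is locally of finite
type of relative dimension d, resp. flat, resp. locally of finite type, locally quasi-finite,
locally of finite presentation, smooth, unramified, etale, if and only if f' is (etale-local sense;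
locally quasi-finite and unramified include locally of finite type). -/
theorem result {S : Scheme.{u}} {X X' Y Y' B B' : AlgSp.Space S} (iX : X ⟶ X') (iY : Y ⟶ Y') (iB : B ⟶ B')
    (f : X ⟶ Y) (f' : X' ⟶ Y') (g : Y ⟶ B) (g' : Y' ⟶ B')
    (hcX : IsPullback iX.hom (f ≫ g).hom (f' ≫ g').hom iB.hom) (hcY : IsPullback iY.hom g.hom g'.hom iB.hom)
    (w : iX ≫ f' = f ≫ iY)
    (hB : AlgSp.IsFinThickMor iB.hom) (hflat : AlgSp.LocP @Flat (f' ≫ g').hom) (d : ℕ) :
    ((AlgSp.LocP @LocallyOfFiniteType f.hom ∧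
        ∀ x, AlgSp.HasAtMor (fun _ _ h u => FlatMor.fibreDimAt h u = (d : WithBot ℕ∞)) f.hom x) ↔
      (AlgSp.LocP @LocallyOfFiniteType f'.hom ∧
        ∀ x', AlgSp.HasAtMor (fun _ _ h u => FlatMor.fibreDimAt h u = (d : WithBot ℕ∞)) f'.hom x')) ∧
    (AlgSp.LocP @Flat f.hom ↔ AlgSp.LocP @Flat f'.hom) ∧
    (AlgSp.LocP @LocallyOfFiniteType f.hom ↔ AlgSp.LocP @LocallyOfFiniteType f'.hom) ∧
    (AlgSp.LocP (@LocallyQuasiFinite ⊓ @LocallyOfFiniteType) f.hom ↔
      AlgSp.LocP (@LocallyQuasiFinite ⊓ @LocallyOfFiniteType) f'.hom) ∧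
    (AlgSp.LocP @LocallyOfFinitePresentation f.hom ↔ AlgSp.LocP @LocallyOfFinitePresentation f'.hom) ∧
    (AlgSp.LocP @Smooth f.hom ↔ AlgSp.LocP @Smooth f'.hom) ∧
    (AlgSp.LocP (@LocallyOfFiniteType ⊓ @FormallyUnramified) f.hom ↔
      AlgSp.LocP (@LocallyOfFiniteType ⊓ @FormallyUnramified) f'.hom) ∧
    (AlgSp.IsEtaleMor f.hom ↔ AlgSp.IsEtaleMor f'.hom) := by
  have hthick : AlgSp.IsThickMor iB.hom := by
    obtain ⟨n, h1, -⟩ := hB
    exact h1
  obtain ⟨D⟩ := DeformChart.exists_deformCharts iX iY iB f f' g g' hcX hcY w hthick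
  have hfin := DeformChart.finThick_chart iB.hom hB D.q' D.hq'e D.q D.jW D.hW
  haveI : Flat (D.φ'.left ≫ D.γ'.left) :=
    hflat D.a' D.q' (D.φ' ≫ D.γ') D.ha'e D.hq'e (DeformLocal.comp_comm' D)
  have htop := DeformLocal.isPullback_top D
  have hfinV : MoreMor.IsFiniteOrderThickening D.jV.left :=
    Groth.Agent.Lib.Helper2.Thick.fthick_baseChange D.jV.left D.jW.left D.γ.left D.γ'.left hfin D.hV
  have hlft : LocallyOfFiniteType D.φ.left ↔ LocallyOfFiniteType D.φ'.left :=
    Groth.Agent.S1309.result D.jU.left D.jV.left D.φ.left D.φ'.left hfinV htop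
  have hfu : FormallyUnramified D.φ.left ↔ FormallyUnramified D.φ'.left :=
    Groth.Agent.S1310.result D.jU.left D.jV.left D.φ.left D.φ'.left hfinV htop
  refine ⟨?_, ?_, ?_, ?_, ?_, ?_, ?_, ?_⟩
  · rw [DeformLocal.locP_iff D _ DeformLocal.cases_lft, DeformLocal.locP_iff' D _ DeformLocal.cases_lft,
      DeformLocal.forall_hasAtMor_fibreDim_iff_of_chart f D.a D.b D.φ D.hae D.has D.hbe D.hac,
      DeformLocal.forall_hasAtMor_fibreDim_iff_of_chart f' D.a' D.b' D.φ' D.ha'e D.ha's D.hb'e D.ha'c]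
    constructor
    · rintro ⟨h1, h2⟩
      haveI := hlft.1 h1
      exact ⟨inferInstance, (DeformLocal.fibreDim_iff D _).1 h2⟩
    · rintro ⟨h1, h2⟩
      haveI := h1
      exact ⟨hlft.2 h1, (DeformLocal.fibreDim_iff D _).2 h2⟩
  · rw [DeformLocal.locP_iff D _ DeformLocal.cases_flat, DeformLocal.locP_iff' D _ DeformLocal.cases_flat]
    exact Groth.Agent.S1317.result D.jU.left D.jV.left D.jW.left D.φ.left D.φ'.left D.γ.left D.γ'.left hfin
      D.hU D.hV D.hw
  · rw [DeformLocal.locP_iff D _ DeformLocal.cases_lft, DeformLocal.locP_iff' D _ DeformLocal.cases_lft]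
    exact hlft
  · rw [DeformLocal.locP_iff D _ DeformLocal.cases_lqf, DeformLocal.locP_iff' D _ DeformLocal.cases_lqf]
    constructor
    · rintro ⟨h1, h2⟩
      haveI := h2
      haveI := hlft.1 h2
      exact ⟨(Groth.Agent.S1312.result D.jU.left D.jV.left D.φ.left D.φ'.left (DeformLocal.thick_jV D)
        htop).1 h1, inferInstance⟩
    · rintro ⟨h1, h2⟩
      haveI := h2
      haveI := hlft.2 h2
      exact ⟨(Groth.Agent.S1312.result D.jU.left D.jV.left D.φ.left D.φ'.left (DeformLocal.thick_jV D)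
        htop).2 h1, inferInstance⟩
  · rw [DeformLocal.locP_iff D _ DeformLocal.cases_lfp, DeformLocal.locP_iff' D _ DeformLocal.cases_lfp]
    exact Groth.Agent.S1320.result D.jU.left D.jV.left D.jW.left D.φ.left D.φ'.left D.γ.left D.γ'.left hfin
      D.hU D.hV D.hw
  · rw [DeformLocal.locP_iff D _ DeformLocal.cases_smooth, DeformLocal.locP_iff' D _ DeformLocal.cases_smooth]
    exact Groth.Agent.S1321.result D.jU.left D.jV.left D.jW.left D.φ.left D.φ'.left D.γ.left D.γ'.left hfin
      D.hU D.hV D.hw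
  · rw [DeformLocal.locP_iff D _ DeformLocal.cases_unram, DeformLocal.locP_iff' D _ DeformLocal.cases_unram]
    exact and_congr hlft hfu
  · rw [DeformLocal.isEtaleMor_iff_of_chart f D.a D.b D.φ D.hae D.has D.hbe D.hac,
      DeformLocal.isEtaleMor_iff_of_chart f' D.a' D.b' D.φ' D.ha'e D.ha's D.hb'e D.ha'c]
    exact Groth.Agent.S1322.result D.jU.left D.jV.left D.jW.left D.φ.left D.φ'.left D.γ.left D.γ'.left hfin
      D.hU D.hV D.hw

end Groth.Agent.S10596
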