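import Groth.Statements.S10598
import Groth.Agent.Lib.Seat47DeformFlat
import Groth.Agent.S1381

set_option autoImplicit false
universe u
open CategoryTheory CategoryTheory.Limits AlgebraicGeometry
open AlgSp

namespace Groth.Agent.S10598

open Groth.Agent.Lib.Seat47

/-- Let iB : B ⟶ B' be a thickening of algebraic spaces over S (representable, every base change to a
scheme a surjective closed immersion), f' : X' ⟶ Y' a morphism of algebraic spaces over B' (via g' :
Y' ⟶ B') with Y' locally of finite type over B' and X' flat and locally of finite presentation over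
B', and f : X ⟶ Y, g : Y ⟶ B its base change to B (both squares to iB cartesian, iX ≫ f' = f ≫ iY).
If f is flat, then f' is flat and g' : Y' ⟶ B' is flat at every point of Y' in the image of f'. -/
theorem result {S : Scheme.{u}} {X X' Y Y' B B' : AlgSp.Space S} (iX : X ⟶ X') (iY : Y ⟶ Y') (iB : B ⟶ B')
    (f : X ⟶ Y) (f' : X' ⟶ Y') (g : Y ⟶ B) (g' : Y' ⟶ B')
    (hcX : IsPullback iX.hom (f ≫ g).hom (f' ≫ g').hom iB.hom) (hcY : IsPullback iY.hom g.hom g'.hom iB.hom)
    (w : iX ≫ f' = f ≫ iY)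
    (hB : AlgSp.IsThickMor iB.hom)
    (hg' : AlgSp.LocP @LocallyOfFiniteType g'.hom)
    (hflat : AlgSp.LocP @Flat (f' ≫ g').hom) (hfp : AlgSp.LocP @LocallyOfFinitePresentation (f' ≫ g').hom)
    (hf : AlgSp.LocP @Flat f.hom) :
    AlgSp.LocP @Flat f'.hom ∧
    ∀ x' : AlgSp.Points X'.obj, AlgSp.IsFlatAtMor g'.hom (AlgSp.Points.map f'.hom x') := by
  obtain ⟨D⟩ := DeformChart.exists_deformCharts iX iY iB f f' g g' hcX hcY w hB
  have hcomp : D.a' ≫ (f' ≫ g').hom = (AlgSp.yon S).map (D.φ' ≫ D.γ') ≫ D.q' := by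
    rw [Functor.map_comp, Category.assoc, ← D.hb'c, ← Category.assoc, ← D.ha'c, Category.assoc]
    rfl
  haveI : Flat (D.φ'.left ≫ D.γ'.left) := hflat D.a' D.q' (D.φ' ≫ D.γ') D.ha'e D.hq'e hcomp
  haveI : LocallyOfFinitePresentation (D.φ'.left ≫ D.γ'.left) :=
    hfp D.a' D.q' (D.φ' ≫ D.γ') D.ha'e D.hq'e hcomp
  haveI : LocallyOfFiniteType D.γ'.left := hg' D.b' D.q' D.γ' D.hb'e D.hq'e D.hb'c
  haveI : Flat D.φ.left := hf D.a D.b D.φ D.hae D.hbe D.hac
  have hφ' : Flat D.φ'.left :=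
    (Groth.Agent.S1381.result D.jU.left D.jV.left D.jW.left D.φ.left D.φ'.left D.γ.left D.γ'.left D.hthick
      D.hU D.hV D.hw).1 inferInstance
  have h1 : AlgSp.LocP @Flat f'.hom :=
    Groth.Agent.S9947.result @Flat DeformFlat.flat_cases f' D.a' D.b' D.φ' D.ha'e D.ha's D.hb'e D.ha'c hφ'
  exact ⟨h1, fun x' => DeformFlat.isFlatAtMor_of_locP_flat f' g' h1 hflat x'⟩

end Groth.Agent.S10598
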