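import Groth.Statements.S10603
import Groth.Agent.Lib.Seat43FibFlatSp

set_option autoImplicit false
universe u
open CategoryTheory CategoryTheory.Limits AlgebraicGeometry
open AlgSp

namespace Groth.Agent.S10603

/-- Let f : X ⟶ Y and h : Y ⟶ Z be morphisms of algebraic spaces over S. Suppose X is flat and locally
of finite presentation over Z, Y is locally of finite type over Z, and for every field K and every z
: Spec K ⟶ Z the base change X_z ⟶ Y_z of f is flat (fibres taken as pullback squares of fppf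
sheaves). Then f is flat; if moreover f is surjective, then h is flat. -/
theorem result {S : Scheme.{u}} {X Y Z : AlgSp.Space S} (f : X ⟶ Y) (h : Y ⟶ Z)
    (hfp : AlgSp.LocP @LocallyOfFinitePresentation (f ≫ h).hom) (hfl : AlgSp.LocP @Flat (f ≫ h).hom)
    (hft : AlgSp.LocP @LocallyOfFiniteType h.hom)
    (hfib : ∀ (K : Type u) [Field K] (sK : Spec (CommRingCat.of K) ⟶ S)
      (z : (AlgSp.yon S).obj (Over.mk sK) ⟶ Z.obj) (Xz Yz : AlgSp.Sp S)
      (pX : Xz ⟶ X.obj) (qX : Xz ⟶ (AlgSp.yon S).obj (Over.mk sK))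
      (pY : Yz ⟶ Y.obj) (qY : Yz ⟶ (AlgSp.yon S).obj (Over.mk sK)) (fz : Xz ⟶ Yz),
      IsPullback pX qX (f ≫ h).hom z → IsPullback pY qY h.hom z → fz ≫ pY = pX ≫ f.hom → fz ≫ qY = qX →
      AlgSp.LocP @Flat fz) :
    AlgSp.LocP @Flat f.hom ∧ (AlgSp.IsSurjectiveMor f.hom → AlgSp.LocP @Flat h.hom) := by
  -- charts
  obtain ⟨W, c, hce, hcs⟩ := Z.property.atlas
  have sqYW := IsPullback.of_hasPullback h.hom c
  have hYW : AlgSp.IsAlgSpace (pullback h.hom c) :=
    Groth.Agent.S9874.isAlgSpace_of_isPullback Z.property.diag Y.property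
      (AlgSp.IsAlgSpace.yon_obj W) sqYW
  obtain ⟨V, b0, hb0e, hb0s⟩ := hYW.atlas
  have hy₁e : AlgSp.RepWith @Etale (pullback.fst h.hom c) :=
    (AlgSp.repWith_isStableUnderBaseChange (S := S) @Etale).of_isPullback sqYW.flip hce
  have hy₁s : AlgSp.RepWith @Surjective (pullback.fst h.hom c) :=
    (AlgSp.repWith_isStableUnderBaseChange (S := S) @Surjective).of_isPullback sqYW.flip hcs
  have hbe : AlgSp.RepWith @Etale (b0 ≫ pullback.fst h.hom c) :=
    (AlgSp.repWith_isMultiplicative (S := S) @Etale).comp_mem _ _ hb0e hy₁e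
  have hbs : AlgSp.RepWith @Surjective (b0 ≫ pullback.fst h.hom c) :=
    (AlgSp.repWith_isMultiplicative (S := S) @Surjective).comp_mem _ _ hb0s hy₁s
  obtain ⟨g, hg⟩ := (AlgSp.yon S).map_surjective (b0 ≫ pullback.snd h.hom c)
  have sqXV := IsPullback.of_hasPullback f.hom (b0 ≫ pullback.fst h.hom c)
  have hXV : AlgSp.IsAlgSpace (pullback f.hom (b0 ≫ pullback.fst h.hom c)) :=
    Groth.Agent.S9874.isAlgSpace_of_isPullback Y.property.diag X.property
      (AlgSp.IsAlgSpace.yon_obj V) sqXV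
  obtain ⟨U, a0, ha0e, ha0s⟩ := hXV.atlas
  have hp₁e : AlgSp.RepWith @Etale (pullback.fst f.hom (b0 ≫ pullback.fst h.hom c)) :=
    (AlgSp.repWith_isStableUnderBaseChange (S := S) @Etale).of_isPullback sqXV.flip hbe
  have hp₁s : AlgSp.RepWith @Surjective (pullback.fst f.hom (b0 ≫ pullback.fst h.hom c)) :=
    (AlgSp.repWith_isStableUnderBaseChange (S := S) @Surjective).of_isPullback sqXV.flip hbs
  have hae : AlgSp.RepWith @Etale (a0 ≫ pullback.fst f.hom (b0 ≫ pullback.fst h.hom c)) :=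
    (AlgSp.repWith_isMultiplicative (S := S) @Etale).comp_mem _ _ ha0e hp₁e
  have has : AlgSp.RepWith @Surjective (a0 ≫ pullback.fst f.hom (b0 ≫ pullback.fst h.hom c)) :=
    (AlgSp.repWith_isMultiplicative (S := S) @Surjective).comp_mem _ _ ha0s hp₁s
  obtain ⟨k, hk⟩ := (AlgSp.yon S).map_surjective
    (a0 ≫ pullback.snd f.hom (b0 ≫ pullback.fst h.hom c))
  have comm1 : (a0 ≫ pullback.fst f.hom (b0 ≫ pullback.fst h.hom c)) ≫ f.hom =
      (AlgSp.yon S).map k ≫ b0 ≫ pullback.fst h.hom c := by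
    rw [Category.assoc, pullback.condition, ← Category.assoc, hk]
  have comm2 : (b0 ≫ pullback.fst h.hom c) ≫ h.hom = (AlgSp.yon S).map g ≫ c := by
    rw [Category.assoc, pullback.condition, ← Category.assoc, hg]
  have comm3 : (a0 ≫ pullback.fst f.hom (b0 ≫ pullback.fst h.hom c)) ≫ (f ≫ h).hom =
      (AlgSp.yon S).map (k ≫ g) ≫ c := by
    change _ ≫ f.hom ≫ h.hom = _
    rw [← Category.assoc, comm1, Functor.map_comp]
    simp only [Category.assoc]
    rw [pullback.condition, ← Category.assoc b0, ← hg]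
  -- scheme-level hypotheses
  have h1 : LocallyOfFinitePresentation (k.left ≫ g.left) := hfp _ c (k ≫ g) hae hce comm3
  have h2 : Flat (k.left ≫ g.left) := hfl _ c (k ≫ g) hae hce comm3
  have h3 : LocallyOfFiniteType g.left := hft _ c g hbe hce comm2
  have hfibs : ∀ s : ↥W.left, Flat (MoreMor.fiberMap k.left g.left s) := fun s =>
    Groth.Agent.Lib.Seat43.FibFlatSp.flat_fiberMap_of_charts X.property Y.property Z.property
      f.hom h.hom hfib c hce b0 hb0e _ hae k g hg comm1 s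
  obtain ⟨hkflat, hgflat⟩ := Groth.Agent.Lib.Seat43.FibFlatSp.flat_of_fibres k.left g.left hfibs
  refine ⟨Groth.Agent.S9947.result @Flat (Or.inr (Or.inr (Or.inl rfl))) f _ _ k hae has hbe comm1
    hkflat, fun hsurj => ?_⟩
  -- `k` is surjective
  have hks : Function.Surjective k.left := by
    intro v
    obtain ⟨x, hx⟩ := hsurj (AlgSp.Points.ofPt (b0 ≫ pullback.fst h.hom c) v)
    obtain ⟨p, hp1, hp2⟩ := Groth.Agent.S10175.exists_point_of_isPullback sqXV x
      (AlgSp.Points.schemeHomeo V v)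
      (by rw [hx, AlgSp.Points.ofPt_eq_map_ofScheme]; rfl)
    obtain ⟨u, rfl⟩ := Groth.Agent.S10177.surjective_ofPt a0 ha0s p
    refine ⟨u, ?_⟩
    apply (AlgSp.Points.schemeHomeo V).injective
    rw [← Groth.Agent.S10288.ofPt_yon_map, hk, ← AlgSp.Points.map_ofPt]
    exact hp2
  have : Flat g.left := by
    refine Flat.of_stalkMap _ (fun v => ?_)
    obtain ⟨u, rfl⟩ := hks v
    exact hgflat u
  exact Groth.Agent.S9947.result @Flat (Or.inr (Or.inr (Or.inl rfl))) h _ c g hbe hbs hce comm2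
    inferInstance

end Groth.Agent.S10603
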