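import Groth.Statements.S10604
import Groth.Agent.Lib.Seat47FibNoeth
import Groth.Agent.Lib.Seat47FibChartSp
import Groth.Agent.Lib.Seat47Charts
import Groth.Agent.Lib.Seat45Noeth
import Groth.Agent.S9947

set_option autoImplicit false
universe u
open CategoryTheory CategoryTheory.Limits AlgebraicGeometry
open AlgSp

namespace Groth.Agent.S10604

open Groth.Agent.Lib.Seat47

/-- the chart-level statement: flatness of the top arrow `f'` of a chart diagram at every point. -/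
theorem chart_flat {S : Scheme.{u}} {X Y Z : AlgSp.Space S} (f : X ⟶ Y) (h : Y ⟶ Z)
    (hX : AlgSp.IsLocNoethSp X.obj) (hYn : AlgSp.IsLocNoethSp Y.obj) (hZ : AlgSp.IsLocNoethSp Z.obj)
    (hfl : AlgSp.LocP @Flat (f ≫ h).hom)
    (hfib : ∀ (K : Type u) [Field K] (sK : Spec (CommRingCat.of K) ⟶ S)
      (z : (AlgSp.yon S).obj (Over.mk sK) ⟶ Z.obj) (Xz Yz : AlgSp.Sp S)
      (pX : Xz ⟶ X.obj) (qX : Xz ⟶ (AlgSp.yon S).obj (Over.mk sK))
      (pY : Yz ⟶ Y.obj) (qY : Yz ⟶ (AlgSp.yon S).obj (Over.mk sK)) (fz : Xz ⟶ Yz),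
      IsPullback pX qX (f ≫ h).hom z → IsPullback pY qY h.hom z → fz ≫ pY = pX ≫ f.hom → fz ≫ qY = qX →
      AlgSp.LocP @Flat fz)
    {U V W : Over S} (a : (AlgSp.yon S).obj U ⟶ X.obj) (b : (AlgSp.yon S).obj V ⟶ Y.obj)
    (q : (AlgSp.yon S).obj W ⟶ Z.obj) (f' : U ⟶ V) (g' : V ⟶ W)
    (hae : AlgSp.RepWith @Etale a) (hbe : AlgSp.RepWith @Etale b) (hqe : AlgSp.RepWith @Etale q)
    (hac : a ≫ f.hom = (AlgSp.yon S).map f' ≫ b) (hbc : b ≫ h.hom = (AlgSp.yon S).map g' ≫ q)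
    (u : ↥U.left) : (f'.left.stalkMap u).hom.Flat := by
  haveI : IsLocallyNoetherian U.left := Groth.Agent.Lib.Seat45.Noeth.isLocallyNoetherian_chart hX a hae
  haveI : IsLocallyNoetherian V.left := Groth.Agent.Lib.Seat45.Noeth.isLocallyNoetherian_chart hYn b hbe
  haveI : IsLocallyNoetherian W.left := Groth.Agent.Lib.Seat45.Noeth.isLocallyNoetherian_chart hZ q hqe
  have hcomp : a ≫ (f ≫ h).hom = (AlgSp.yon S).map (f' ≫ g') ≫ q := by
    rw [Functor.map_comp, Category.assoc, ← hbc, ← Category.assoc, ← hac, Category.assoc]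
    rfl
  haveI hfg : Flat (f' ≫ g').left := hfl a q (f' ≫ g') hae hqe hcomp
  -- the point and its residue field
  let w : ↥W.left := (f'.left ≫ g'.left) u
  let sK : Spec (CommRingCat.of ↑(W.left.residueField w)) ⟶ S := W.left.fromSpecResidueField w ≫ W.hom
  let T : Over S := Over.mk sK
  let ι : T ⟶ W := Over.homMk (W.left.fromSpecResidueField w) rfl
  let z : (AlgSp.yon S).obj T ⟶ Z.obj := (AlgSp.yon S).map ι ≫ q
  -- the fibres as sheaves
  have pbX := IsPullback.of_hasPullback (f ≫ h).hom z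
  have pbY := IsPullback.of_hasPullback h.hom z
  have hwz : (pullback.fst (f ≫ h).hom z ≫ f.hom) ≫ h.hom = pullback.snd (f ≫ h).hom z ≫ z := by
    rw [Category.assoc]
    exact pbX.w
  let fz : pullback (f ≫ h).hom z ⟶ pullback h.hom z :=
    pullback.lift (pullback.fst (f ≫ h).hom z ≫ f.hom) (pullback.snd (f ≫ h).hom z) hwz
  have hfz1 : fz ≫ pullback.fst h.hom z = pullback.fst (f ≫ h).hom z ≫ f.hom := pullback.lift_fst _ _ _
  have hfz2 : fz ≫ pullback.snd h.hom z = pullback.snd (f ≫ h).hom z := pullback.lift_snd _ _ _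
  -- the fibres of the charts
  have pbU := IsPullback.of_hasPullback (f' ≫ g') ι
  have pbV := IsPullback.of_hasPullback g' ι
  have hwφ : (pullback.fst (f' ≫ g') ι ≫ f') ≫ g' = pullback.snd (f' ≫ g') ι ≫ ι := by
    rw [Category.assoc]
    exact pbU.w
  let φ : pullback (f' ≫ g') ι ⟶ pullback g' ι :=
    pullback.lift (pullback.fst (f' ≫ g') ι ≫ f') (pullback.snd (f' ≫ g') ι) hwφ
  have hφ1 : φ ≫ pullback.fst g' ι = pullback.fst (f' ≫ g') ι ≫ f' := pullback.lift_fst _ _ _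
  have hφ2 : φ ≫ pullback.snd g' ι = pullback.snd (f' ≫ g') ι := pullback.lift_snd _ _ _
  obtain ⟨cU, hcU1, hcU2, hcUe⟩ := FibChartSp.exists_fibre_chart X.property Z.property (f ≫ h).hom a q
    (f' ≫ g') hae hqe hcomp ι _ _ pbX _ _ pbU
  obtain ⟨cV, hcV1, hcV2, hcVe⟩ := FibChartSp.exists_fibre_chart Y.property Z.property h.hom b q
    g' hbe hqe hbc ι _ _ pbY _ _ pbV
  have hcomm : cU ≫ fz = (AlgSp.yon S).map φ ≫ cV := by
    apply pullback.hom_ext
    · rw [Category.assoc, hfz1, ← Category.assoc, hcU1, Category.assoc, hac, Category.assoc, hcV1,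
        ← Category.assoc, ← Category.assoc, ← Functor.map_comp, ← Functor.map_comp, hφ1]
    · rw [Category.assoc, hfz2, hcU2, Category.assoc, hcV2, ← Functor.map_comp, hφ2]
  have hφflat : Flat φ.left :=
    hfib ↑(W.left.residueField w) sK z _ _ _ _ _ _ fz pbX pbY hfz1 hfz2 cU cV φ hcUe hcVe hcomm
  -- the scheme-level criterion
  have pbU' := pbU.map (Over.forget S)
  have pbV' := pbV.map (Over.forget S)
  exact FibNoeth.flat_stalkMap_of_isPullback f'.left g'.left u w rfl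
    (Flat.stalkMap (f'.left ≫ g'.left) u)
    (pullback.fst (f' ≫ g') ι).left (pullback.snd (f' ≫ g') ι).left
    (pullback.fst g' ι).left (pullback.snd g' ι).left φ.left pbU' pbV'
    (by rw [← Over.comp_left, hφ1, Over.comp_left])
    (by rw [← Over.comp_left, hφ2]) hφflat

/-- Let f : X ⟶ Y and h : Y ⟶ Z be morphisms of algebraic spaces over S with X, Y and Z locally
Noetherian. Assume X is flat over Z and for every field K and every z : Spec K ⟶ Z the base change
X_z ⟶ Y_z of f is flat (fibres taken as pullback squares of fppf sheaves). Then f is flat; if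
moreover f is surjective, then h is flat. -/
theorem result {S : Scheme.{u}} {X Y Z : AlgSp.Space S} (f : X ⟶ Y) (h : Y ⟶ Z)
    (hX : AlgSp.IsLocNoethSp X.obj) (hYn : AlgSp.IsLocNoethSp Y.obj) (hZ : AlgSp.IsLocNoethSp Z.obj)
    (hfl : AlgSp.LocP @Flat (f ≫ h).hom)
    (hfib : ∀ (K : Type u) [Field K] (sK : Spec (CommRingCat.of K) ⟶ S)
      (z : (AlgSp.yon S).obj (Over.mk sK) ⟶ Z.obj) (Xz Yz : AlgSp.Sp S)
      (pX : Xz ⟶ X.obj) (qX : Xz ⟶ (AlgSp.yon S).obj (Over.mk sK))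
      (pY : Yz ⟶ Y.obj) (qY : Yz ⟶ (AlgSp.yon S).obj (Over.mk sK)) (fz : Xz ⟶ Yz),
      IsPullback pX qX (f ≫ h).hom z → IsPullback pY qY h.hom z → fz ≫ pY = pX ≫ f.hom → fz ≫ qY = qX →
      AlgSp.LocP @Flat fz) :
    AlgSp.LocP @Flat f.hom ∧ (AlgSp.IsSurjectiveMor f.hom → AlgSp.LocP @Flat h.hom) := by
  obtain ⟨W, q, hqe, hqs⟩ := Z.property.atlas
  obtain ⟨V, b, g', hbe, hbc, hbfib, hbs⟩ := Charts.exists_chart_cover h q hqe
  obtain ⟨U, a, f', hae, hac, hafib, has⟩ := Charts.exists_chart_cover f b hbe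
  have hbs' := hbs hqs
  have has' := has hbs'
  have key : ∀ u : ↥U.left, (f'.left.stalkMap u).hom.Flat := fun u =>
    chart_flat f h hX hYn hZ hfl hfib a b q f' g' hae hbe hqe hac hbc u
  have hf'flat : Flat f'.left := Flat.of_stalkMap _ key
  have hP : (@Flat : MorphismProperty Scheme.{u}) = @LocallyOfFiniteType ∨
      (@Flat : MorphismProperty Scheme.{u}) = @LocallyOfFinitePresentation ∨
      (@Flat : MorphismProperty Scheme.{u}) = @Flat ∨ (@Flat : MorphismProperty Scheme.{u}) = @Smooth ∨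
      (@Flat : MorphismProperty Scheme.{u}) = @Etale ∨
      (∀ ⦃A B : Scheme.{u}⦄ (g : A ⟶ B), Flat g ↔ (LocallyQuasiFinite g ∧ LocallyOfFiniteType g)) ∨
      (∀ ⦃A B : Scheme.{u}⦄ (g : A ⟶ B), Flat g ↔ (LocallyOfFiniteType g ∧ FormallyUnramified g)) :=
    Or.inr (Or.inr (Or.inl rfl))
  refine ⟨Groth.Agent.S9947.result @Flat hP f a b f' hae has' hbe hac hf'flat, fun hsurj => ?_⟩
  -- `f'` is surjective
  have hf'surj : Function.Surjective f'.left := by
    intro v
    obtain ⟨x, hx⟩ := hsurj (AlgSp.Points.ofPt b v)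
    obtain ⟨u, -, hu⟩ := hafib x v hx
    exact ⟨u, hu⟩
  haveI hfg : Flat (f' ≫ g').left := by
    refine hfl a q (f' ≫ g') hae hqe ?_
    rw [Functor.map_comp, Category.assoc, ← hbc, ← Category.assoc, ← hac, Category.assoc]
    rfl
  have hg'flat : Flat g'.left := by
    refine Flat.of_stalkMap _ fun v => ?_
    obtain ⟨u, rfl⟩ := hf'surj v
    exact Groth.Agent.Lib.Helper5.FiberMor.flat_of_comp f'.left g'.left u
      (Flat.stalkMap (f'.left ≫ g'.left) u) (key u)
  exact Groth.Agent.S9947.result @Flat hP h b q g' hbe hbs' hqe hbc hg'flat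

end Groth.Agent.S10604
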