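import Groth.Statements.S10605
import Mathlib
import Groth.Agent.Lib.Seat46RepDescent
import Groth.Agent.Lib.Helper12Descent

set_option autoImplicit false
universe u
open CategoryTheory CategoryTheory.Limits AlgebraicGeometry
open AlgSp

namespace Groth.Agent.S10605

set_option backward.isDefEq.respectTransparency false in
lemma zarLocal : IsZariskiLocalAtTarget
    (@IsClosedImmersion ⊓ @Surjective : MorphismProperty Scheme.{u}) :=
  inferInstance

set_option backward.isDefEq.respectTransparency false in
lemma descends : (@IsClosedImmersion ⊓ @Surjective :
    MorphismProperty Scheme.{u}).DescendsAlong (@Surjective ⊓ @Flat ⊓ @QuasiCompact) := by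
  haveI := Groth.Agent.Lib.Helper12.descendsAlong_isClosedImmersion.{u}
  infer_instance

/-- The property of a morphism of algebraic spaces over S of being a thickening (representable, every
base change to a scheme a surjective closed immersion) is local on the base for the fpqc topology.
(The published statement also claims the same for first order thickenings; this row states only the
thickening clause.) -/
theorem result {S : Scheme.{u}} :
    AlgSp.IsLocalOnBase (S := S) AlgSp.IsFpqcCover
      AlgSp.IsThickMor := by
  haveI : IsZariskiLocalAtTarget (AlgSp.thick.{u}) := zarLocal.{u}
  haveI : (AlgSp.thick.{u}).DescendsAlong (@Surjective ⊓ @Flat ⊓ @QuasiCompact) := descends.{u}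
  exact Groth.Agent.Lib.Seat46.RepDescent.isLocalOnBase_fpqc_repWith_of_affine (S := S)
    AlgSp.thick (fun k hk => by haveI : IsClosedImmersion k := hk.1; infer_instance)

end Groth.Agent.S10605
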