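import Groth.Statements.S10621
import Groth.Agent.Lib.Seat47FEt3
import Groth.Agent.Lib.Seat47Charts

set_option autoImplicit false
universe u
open CategoryTheory CategoryTheory.Limits AlgebraicGeometry
open AlgSp

namespace Groth.Agent.S10621

open Groth.Agent.Lib.Seat47.FEt Groth.Agent.Lib.Helper15

/-- one chart criterion -/
theorem one_chart {S : Scheme.{u}} {F G : AlgSp.Sp S} (f : F ⟶ G) (U V : Over S)
    (a : (AlgSp.yon S).obj U ⟶ F) (b : (AlgSp.yon S).obj V ⟶ G) (h : U ⟶ V)
    (ha : AlgSp.RepWith @Etale a) (has : AlgSp.RepWith @Surjective a)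
    (hb : AlgSp.RepWith @Etale b) (w : a ≫ f = (AlgSp.yon S).map h ≫ b)
    (hh : FormallyUnramified h.left) : AlgSp.IsFormallyUnramifiedMor f := by
  apply isFormallyUnramifiedMor_of_comp_etale_surj a f ha has
  rw [w]
  apply isFormallyUnramifiedMor_comp
  · exact (isFormallyUnramifiedMor_yon_map_iff h).2 hh
  · exact ((isFormallyEtaleMor_iff b).1 (isFormallyEtaleMor_of_repWith_etale b hb)).2

/-- For a morphism f : X ⟶ Y of algebraic spaces over S, these conditions are equivalent: f is formally
unramified (lifting along square-zero thickenings of affine schemes); for every scheme U with a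
representable etale U ⟶ X, every scheme V with a representable etale V ⟶ Y and every compatible U ⟶
V, the morphism of schemes U ⟶ V is formally unramified; and this holds as soon as it holds for one
such diagram in which both charts are moreover surjective. Formal unramifiedness of a morphism of
schemes is Mathlib's FormallyUnramified (formally unramified ring maps on affine opens, no
finite-type condition), which agrees with the lifting definition used here. -/
theorem result {S : Scheme.{u}} {X Y : AlgSp.Space S} (f : X ⟶ Y) :
    (AlgSp.IsFormallyUnramifiedMor f.hom ↔ AlgSp.LocP @FormallyUnramified f.hom) ∧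
    (∀ (U V : Over S) (a : (AlgSp.yon S).obj U ⟶ X.obj) (b : (AlgSp.yon S).obj V ⟶ Y.obj) (h : U ⟶ V),
      AlgSp.RepWith @Etale a → AlgSp.RepWith @Surjective a → AlgSp.RepWith @Etale b → AlgSp.RepWith @Surjective b →
      a ≫ f.hom = (AlgSp.yon S).map h ≫ b → FormallyUnramified h.left → AlgSp.IsFormallyUnramifiedMor f.hom) := by
  refine ⟨⟨?_, ?_⟩, ?_⟩
  · intro hf U V a b h ha hb w
    rw [← isFormallyUnramifiedMor_yon_map_iff]
    apply isFormallyUnramifiedMor_of_comp ((AlgSp.yon S).map h) b
    rw [← w]
    apply isFormallyUnramifiedMor_comp _ _ _ hf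
    exact ((isFormallyEtaleMor_iff a).1 (isFormallyEtaleMor_of_repWith_etale a ha)).2
  · intro hloc
    obtain ⟨V, b, hbe, hbs⟩ := Y.property.atlas
    obtain ⟨U, a, h, hae, w, -, has⟩ := Groth.Agent.Lib.Seat47.Charts.exists_chart_cover f b hbe
    exact one_chart f.hom U V a b h hae (has hbs) hbe w (hloc a b h hae hbe w)
  · intro U V a b h ha has hb _ w hh
    exact one_chart f.hom U V a b h ha has hb w hh

end Groth.Agent.S10621
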