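import Groth.Statements.S10614
import Groth.Agent.Lib.Seat45ClosedImm
import Groth.Agent.S10621
import Groth.Agent.S10262

set_option autoImplicit false
set_option linter.style.haveILetI false
universe u
open CategoryTheory CategoryTheory.Limits AlgebraicGeometry
open AlgSp

namespace Groth.Agent.S10614

/-- For a morphism f : X ⟶ Y of algebraic spaces over S, being a closed immersion (representable by
closed immersions) is equivalent to each of: (a) universally closed plus unramified plus
monomorphism; (b) universally closed plus unramified plus universally injective; (c) a universally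
closed monomorphism that is locally of finite type; (d) universally closed, universally injective,
locally of finite type and formally unramified (lifting sense). (Unramified is the etale-local
condition locally of finite type and formally unramified on charts; monomorphisms are taken in fppf
sheaves.) -/
theorem result {S : Scheme.{u}} {X Y : AlgSp.Space S} (f : X ⟶ Y) :
    (AlgSp.RepWith @IsClosedImmersion f.hom ↔
      (AlgSp.IsUnivClosedMor f.hom ∧ AlgSp.LocP (@LocallyOfFiniteType ⊓ @FormallyUnramified) f.hom ∧ Mono f.hom)) ∧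
    (AlgSp.RepWith @IsClosedImmersion f.hom ↔
      (AlgSp.IsUnivClosedMor f.hom ∧ AlgSp.LocP (@LocallyOfFiniteType ⊓ @FormallyUnramified) f.hom ∧ AlgSp.IsUnivInjectiveMor f.hom)) ∧
    (AlgSp.RepWith @IsClosedImmersion f.hom ↔
      (AlgSp.IsUnivClosedMor f.hom ∧ AlgSp.LocP @LocallyOfFiniteType f.hom ∧ Mono f.hom)) ∧
    (AlgSp.RepWith @IsClosedImmersion f.hom ↔
      (AlgSp.IsUnivClosedMor f.hom ∧ AlgSp.IsUnivInjectiveMor f.hom ∧ AlgSp.LocP @LocallyOfFiniteType f.hom ∧
        AlgSp.IsFormallyUnramifiedMor f.hom)) := by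
  -- consequences of being a closed immersion
  have F1 : AlgSp.RepWith @IsClosedImmersion f.hom → AlgSp.IsUnivClosedMor f.hom :=
    Groth.Agent.Lib.Helper12.Proper.isUnivClosedMor_of_isClosedImmersion f.hom
  have F2 : AlgSp.RepWith @IsClosedImmersion f.hom →
      AlgSp.LocP (@LocallyOfFiniteType ⊓ @FormallyUnramified) f.hom :=
    Groth.Agent.Lib.Seat45.ClosedImm.locP_unramified_of_isClosedImmersion f
  have F3 : AlgSp.RepWith @IsClosedImmersion f.hom → Mono f.hom :=
    Groth.Agent.Lib.Seat45.ClosedImm.mono_of_isClosedImmersion f.hom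
  have F4 : Mono f.hom → AlgSp.IsUnivInjectiveMor f.hom := fun h => by
    haveI := h
    exact Groth.Agent.Lib.Seat45.ClosedImm.isUnivInjectiveMor_of_mono f
  have F5 : AlgSp.LocP (@LocallyOfFiniteType ⊓ @FormallyUnramified) f.hom →
      AlgSp.LocP @LocallyOfFiniteType f.hom := fun h U V a b k ha hb hc => (h a b k ha hb hc).1
  have F6 : AlgSp.LocP (@LocallyOfFiniteType ⊓ @FormallyUnramified) f.hom →
      AlgSp.IsFormallyUnramifiedMor f.hom := fun h =>
    (Groth.Agent.S10621.result f).1.2 fun U V a b k ha hb hc => (h a b k ha hb hc).2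
  -- the main implication
  have B : AlgSp.IsUnivClosedMor f.hom → AlgSp.LocP (@LocallyOfFiniteType ⊓ @FormallyUnramified) f.hom →
      AlgSp.IsUnivInjectiveMor f.hom → AlgSp.RepWith @IsClosedImmersion f.hom :=
    Groth.Agent.Lib.Seat45.ClosedImm.repWith_isClosedImmersion_of_univClosed_unramified_univInjective f
  -- a monomorphism locally of finite type is unramified
  have G : AlgSp.LocP @LocallyOfFiniteType f.hom → Mono f.hom →
      AlgSp.LocP (@LocallyOfFiniteType ⊓ @FormallyUnramified) f.hom := fun h1 h2 => by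
    haveI := h2
    refine (Groth.Agent.S10262.result f).2 h1 ?_
    exact MorphismProperty.of_isIso (AlgSp.RepWith @IsOpenImmersion) (pullback.diagonal f.hom)
  refine ⟨⟨fun h => ⟨F1 h, F2 h, F3 h⟩, fun ⟨h1, h2, h3⟩ => B h1 h2 (F4 h3)⟩,
    ⟨fun h => ⟨F1 h, F2 h, F4 (F3 h)⟩, fun ⟨h1, h2, h3⟩ => B h1 h2 h3⟩,
    ⟨fun h => ⟨F1 h, F5 (F2 h), F3 h⟩, fun ⟨h1, h2, h3⟩ => B h1 (G h2 h3) (F4 h3)⟩,
    ⟨fun h => ⟨F1 h, F4 (F3 h), F5 (F2 h), F6 (F2 h)⟩, fun ⟨h1, h2, h3, h4⟩ => B h1 ?_ h2⟩⟩
  have h5 := (Groth.Agent.S10621.result f).1.1 h4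
  exact fun U V a b k ha hb hc => ⟨h3 a b k ha hb hc, h5 a b k ha hb hc⟩

end Groth.Agent.S10614
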