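import Groth.Statements.S10615
import Groth.Agent.Lib.Seat47SmLift

set_option autoImplicit false
universe u
open CategoryTheory CategoryTheory.Limits AlgebraicGeometry
open AlgSp

namespace Groth.Agent.S10615

open Groth.Agent.Lib.Seat47.FEt Groth.Agent.Lib.Seat47.Thk Groth.Agent.Lib.Seat47.LiftCover
open Groth.Agent.Lib.Seat47.SmLift

/-- Take a smooth morphism f : X ⟶ Y of algebraic spaces over S, let i : T ⟶ T' be a thickening of
algebraic spaces (representable, every base change to a scheme a surjective closed immersion) and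
let a : T ⟶ X, b : T' ⟶ Y satisfy a ≫ f = i ≫ b. Then there is an etale covering of T' on whose
members the dotted arrow exists: for every point t' of T' there are a scheme V, a representable
etale e : V ⟶ T' whose image contains t', and ℓ : V ⟶ X with ℓ ≫ f = e ≫ b whose restriction to T
×_{T'} V (any pullback square) is the restriction of a. -/
theorem result {S : Scheme.{u}} {X Y T T' : AlgSp.Space S} (f : X ⟶ Y)
    (hf : AlgSp.LocP @Smooth f.hom) (i : T ⟶ T')
    (hi : AlgSp.IsThickMor i.hom)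
    (a : T ⟶ X) (b : T' ⟶ Y) (w : a ≫ f = i ≫ b) (t' : AlgSp.Points T'.obj) :
    ∃ (V : Over S) (e : (AlgSp.yon S).obj V ⟶ T'.obj) (ℓ : (AlgSp.yon S).obj V ⟶ X.obj),
      AlgSp.RepWith @Etale e ∧ t' ∈ Set.range (AlgSp.Points.ofPt e) ∧ ℓ ≫ f.hom = e ≫ b.hom ∧
      ∀ (P : AlgSp.Sp S) (p₁ : P ⟶ T.obj) (p₂ : P ⟶ (AlgSp.yon S).obj V),
        IsPullback p₁ p₂ i.hom e → p₂ ≫ ℓ = p₁ ≫ a.hom := by
  have wh : a.hom ≫ f.hom = i.hom ≫ b.hom := congrArg (fun m => m.hom) w
  obtain ⟨A, _, str, c, w₁, hce, hcw⟩ := exists_affine_chart T'.property t'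
  obtain ⟨I, p, hpbT, hInil, hsurj⟩ := exists_closed_pullback i.hom hi str c
  obtain ⟨w₀, hw₀⟩ := hsurj w₁
  have sqG : IsPullback (pullback.fst f.hom (c ≫ b.hom)) (pullback.snd f.hom (c ≫ b.hom)) f.hom
      (c ≫ b.hom) := IsPullback.of_hasPullback _ _
  have hG : AlgSp.IsAlgSpace (pullback f.hom (c ≫ b.hom)) :=
    Groth.Agent.S9874.isAlgSpace_of_isPullback Y.property.diag X.property
      (AlgSp.IsAlgSpace.yon_obj _) sqG
  have hpr : AlgSp.LocP @Smooth (pullback.snd f.hom (c ≫ b.hom)) :=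
    Groth.Agent.Lib.Helper12.SmoothST.locP_smooth_baseChange X.property Y.property
      (AlgSp.IsAlgSpace.yon_obj _) sqG hf
  have hscond : (p ≫ a.hom) ≫ f.hom = (AlgSp.yon S).map (pj I str) ≫ (c ≫ b.hom) := by
    rw [Category.assoc, wh, ← Category.assoc, hpbT.w, Category.assoc]
  obtain ⟨B, φ, hφ, ⟨z, hz⟩, ℓG, hℓ1, hℓ2⟩ := exists_local_lift hG I hInil str _ hpr
    (pullback.lift (p ≫ a.hom) ((AlgSp.yon S).map (pj I str)) hscond) (pullback.lift_snd _ _ _) w₀
  refine ⟨rW str φ.hom, (AlgSp.yon S).map (rg str φ.hom) ≫ c,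
    ℓG ≫ pullback.fst f.hom (c ≫ b.hom), ?_, ?_, ?_, ?_⟩
  · exact MorphismProperty.comp_mem _ _ _
      ((AlgSp.repWith_yon_map_iff _ _).2
        (show Etale (Spec.map (CommRingCat.ofHom φ.hom)) from hφ)) hce
  · refine ⟨Spec.map (CommRingCat.ofHom (Ideal.Quotient.mk (I.map φ.hom))) z, ?_⟩
    rw [Groth.Agent.S10176.ofPt_map_comp]
    have h6 : (rg str φ.hom).left
        (Spec.map (CommRingCat.ofHom (Ideal.Quotient.mk (I.map φ.hom))) z) = w₁ := by
      show Spec.map (CommRingCat.ofHom φ.hom)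
        (Spec.map (CommRingCat.ofHom (Ideal.Quotient.mk (I.map φ.hom))) z) = w₁
      have h5 := congr($(spec_quot_comm I φ.hom) z)
      rw [Scheme.Hom.comp_apply, Scheme.Hom.comp_apply, hz, hw₀] at h5
      exact h5.symm
    rw [h6, hcw]
  · rw [Category.assoc, pullback.condition, ← Category.assoc, hℓ1, Category.assoc]
  · intro P p₁ p₂ hP
    have hQ0 : IsPullback (rρ I str φ.hom)
        (pj (I.map φ.hom) (Spec.map (CommRingCat.ofHom φ.hom) ≫ str)) (pj I str)
        (rg str φ.hom) :=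
      IsPullback.of_map (Over.forget S) (r_comm I str φ.hom).symm
        (isPullback_quotient φ.hom I).flip
    have hQ := (hQ0.map (AlgSp.yon S)).paste_horiz hpbT
    obtain ⟨k, hk1, hk2⟩ : ∃ k, k ≫ ((AlgSp.yon S).map (rρ I str φ.hom) ≫ p) = p₁ ∧
        k ≫ (AlgSp.yon S).map (pj (I.map φ.hom) (Spec.map (CommRingCat.ofHom φ.hom) ≫ str)) = p₂ :=
      ⟨hQ.lift p₁ p₂ hP.w, hQ.lift_fst p₁ p₂ hP.w, hQ.lift_snd p₁ p₂ hP.w⟩
    rw [← hk2, ← hk1]
    simp only [Category.assoc]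
    rw [← Category.assoc ((AlgSp.yon S).map (pj _ _)), hℓ2, Category.assoc, pullback.lift_fst]

end Groth.Agent.S10615
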