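import Groth.Statements.S10625
import Groth.Agent.Lib.Seat47FEt6
import Groth.Agent.S10624

set_option autoImplicit false
universe u
open CategoryTheory CategoryTheory.Limits AlgebraicGeometry
open AlgSp

namespace Groth.Agent.S10625

open Groth.Agent.Lib.Seat47.FEt Groth.Agent.Lib.Helper15

/-- Take a formally etale morphism f : X ⟶ Y of algebraic spaces over S and let j : T ⟶ T' be a first
order thickening of algebraic spaces (not necessarily affine schemes) with a : T ⟶ X, b : T' ⟶ Y and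
a ≫ f = j ≫ b. Then there is exactly one l : T' ⟶ X with j ≫ l = a and l ≫ f = b. -/
theorem result {S : Scheme.{u}} {X Y : AlgSp.Space S} (f : X ⟶ Y)
    (hf : AlgSp.IsFormallyEtaleMor f.hom) {T T' : AlgSp.Space S} (j : T ⟶ T') (hj : AlgSp.IsFOThickMor j.hom)
    (a : T ⟶ X) (b : T' ⟶ Y) (w : a ≫ f = j ≫ b) :
    ∃! l : T' ⟶ X, j ≫ l = a ∧ l ≫ f = b := by
  have hfu := ((isFormallyEtaleMor_iff f.hom).1 hf).2
  obtain ⟨L, ⟨h1, h2⟩, h3⟩ := existsUnique_of_foThick f.hom hf T'.property j.hom hj a.hom b.hom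
    (congrArg (fun m => m.hom) w)
    (fun l l' e1 e2 => Groth.Agent.S10624.uniq_of_foThick f.hom hfu T'.property j.hom hj l l' e1 e2)
  refine ⟨ObjectProperty.homMk L, ⟨?_, ?_⟩, ?_⟩
  · apply ObjectProperty.hom_ext
    exact h1
  · apply ObjectProperty.hom_ext
    exact h2
  · rintro l' ⟨e1, e2⟩
    apply ObjectProperty.hom_ext
    exact h3 l'.hom ⟨congrArg (fun m => m.hom) e1, congrArg (fun m => m.hom) e2⟩

end Groth.Agent.S10625
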