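import Groth.Statements.S10627
import Groth.Agent.Lib.Seat47FEt5
import Groth.Agent.S10554
import Groth.Agent.Lib.Helper12SrcLocal

set_option autoImplicit false
universe u
open CategoryTheory CategoryTheory.Limits AlgebraicGeometry
open AlgSp

namespace Groth.Agent.S10627

open Groth.Agent.Lib.Seat47.FEt

/-- A morphism f : X ⟶ Y of algebraic spaces over S is etale if and only if it is locally of finite
presentation and formally etale (lifting sense). -/
theorem result {S : Scheme.{u}} {X Y : AlgSp.Space S} (f : X ⟶ Y) :
    AlgSp.IsEtaleMor f.hom ↔ AlgSp.LocP @LocallyOfFinitePresentation f.hom ∧ AlgSp.IsFormallyEtaleMor f.hom := by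
  constructor
  · intro hf
    have hloc : AlgSp.LocP @Etale f.hom :=
      Groth.Agent.Lib.Helper12.SrcLocal.locP_etale_of_isEtaleMor f.hom hf
    refine ⟨?_, ?_⟩
    · intro U V a b h ha hb w
      haveI : Etale h.left := hloc a b h ha hb w
      exact (inferInstance : LocallyOfFinitePresentation h.left)
    · apply isFormallyEtaleMor_of_locP
      intro U V a b h ha hb w
      haveI : Etale h.left := hloc a b h ha hb w
      exact ((Groth.Agent.S1489.result h.left).1 inferInstance).2
  · rintro ⟨h1, h2⟩
    apply Groth.Agent.S10554.isEtaleMor_of_locP Y.property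
    intro U V a b h ha hb w
    exact (Groth.Agent.S1489.result h.left).2
      ⟨h1 a b h ha hb w, locP_of_isFormallyEtaleMor f.hom h2 a b h ha hb w⟩

end Groth.Agent.S10627
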