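import Groth.Statements.S10631
import Groth.Agent.Lib.Seat47FEt6
import Groth.Agent.S10624
import Groth.Agent.Lib.Helper15AlgSpInf

set_option autoImplicit false
universe u
open CategoryTheory CategoryTheory.Limits AlgebraicGeometry
open AlgSp

namespace Groth.Agent.S10631

/-- Consider morphisms Z ⟶ Y ⟶ X of algebraic spaces over S. If (i : Z ⟶ Z', h' : Z' ⟶ Y) is, over Y, a
universal first order thickening of Z and g : Y ⟶ X is formally etale, then (i, h' ≫ g) is, over X,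
a universal first order thickening of Z. -/
theorem result {S : Scheme.{u}} {Z Z' Y X : AlgSp.Space S} (hZ : Z ⟶ Y) (g : Y ⟶ X)
    (i : Z ⟶ Z') (h' : Z' ⟶ Y) (HU : AlgSp.IsUnivFOThick hZ.hom i.hom h'.hom) (hg : AlgSp.IsFormallyEtaleMor g.hom) :
    AlgSp.IsUnivFOThick (hZ ≫ g).hom i.hom (h' ≫ g).hom := by
  obtain ⟨hi, hcomp, HU⟩ := HU
  have hgu : AlgSp.IsFormallyUnramifiedMor g.hom :=
    ((Groth.Agent.Lib.Helper15.isFormallyEtaleMor_iff g.hom).1 hg).2
  refine ⟨hi, ?_, ?_⟩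
  · show i.hom ≫ (h'.hom ≫ g.hom) = hZ.hom ≫ g.hom
    rw [← Category.assoc, hcomp]
  · intro T T' hT hT' j a b hj w
    -- the unique lift `c : T' ⟶ Y` of `b` with `j ≫ c = a ≫ hZ`
    have w' : (a ≫ hZ.hom) ≫ g.hom = j ≫ b := by
      rw [Category.assoc]; exact w.symm
    obtain ⟨c, ⟨hc1, hc2⟩, hcu⟩ :=
      Groth.Agent.Lib.Seat47.FEt.existsUnique_of_foThick g.hom hg hT' j hj (a ≫ hZ.hom) b w'
        (fun l l' h1 h2 => Groth.Agent.S10624.uniq_of_foThick g.hom hgu hT' j hj l l' h1 h2)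
    obtain ⟨a', ⟨ha1, ha2⟩, hau⟩ := HU hT hT' j a c hj hc1
    refine ⟨a', ⟨ha1, ?_⟩, ?_⟩
    · show a' ≫ (h'.hom ≫ g.hom) = b
      rw [← Category.assoc, ha2, hc2]
    · intro a'' ⟨h1, h2⟩
      apply hau
      refine ⟨h1, ?_⟩
      apply hcu
      refine ⟨?_, ?_⟩
      · rw [← Category.assoc, h1, Category.assoc, hcomp]
      · rw [Category.assoc]; exact h2

end Groth.Agent.S10631
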