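import Groth.Statements.S10632
import Groth.Agent.Lib.Seat47FEt6
import Groth.Agent.S10624
import Groth.Agent.S10627
import Groth.Agent.Lib.Helper15AlgSpInf

set_option autoImplicit false
universe u
open CategoryTheory CategoryTheory.Limits AlgebraicGeometry
open AlgSp

namespace Groth.Agent.S10632

/-- Let e : Z ⟶ Y be an etale morphism of algebraic spaces over S, hY : Y ⟶ X, and let (iY : Y ⟶ Y', hY'
: Y' ⟶ X) be a universal first order thickening of Y over X. Let e' : Z' ⟶ Y' be etale with iZ : Z ⟶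
Z' making Z = Y ×_{Y'} Z' a pullback square. Then (iZ, e' ≫ hY') is a universal first order
thickening of Z over X. -/
theorem result {S : Scheme.{u}} {Z Y Y' Z' X : AlgSp.Space S} (e : Z ⟶ Y)
    (he : AlgSp.IsEtaleMor e.hom) (hY : Y ⟶ X) (iY : Y ⟶ Y') (hY' : Y' ⟶ X)
    (HU : AlgSp.IsUnivFOThick hY.hom iY.hom hY'.hom) (iZ : Z ⟶ Z') (e' : Z' ⟶ Y') (he' : AlgSp.IsEtaleMor e'.hom)
    (sq : IsPullback e.hom iZ.hom iY.hom e'.hom) :
    AlgSp.IsUnivFOThick (e ≫ hY).hom iZ.hom (e' ≫ hY').hom := by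
  obtain ⟨hi, hcomp, HU⟩ := HU
  have hfe : AlgSp.IsFormallyEtaleMor e'.hom := ((Groth.Agent.S10627.result e').1 he').2
  have hfu : AlgSp.IsFormallyUnramifiedMor e'.hom :=
    ((Groth.Agent.Lib.Helper15.isFormallyEtaleMor_iff e'.hom).1 hfe).2
  refine ⟨⟨?_, ?_⟩, ?_, ?_⟩
  · exact (AlgSp.RepWith AlgSp.thick).of_isPullback sq hi.1
  · intro V W b fst snd hV hb hpb
    exact hi.2 (b ≫ e'.hom) (fst ≫ e.hom) snd hV (he' b hb) (hpb.paste_horiz sq)
  · show iZ.hom ≫ (e'.hom ≫ hY'.hom) = e.hom ≫ hY.hom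
    rw [← Category.assoc, ← sq.w, Category.assoc, hcomp]
  · intro T T' hT hT' j a b hj w
    have w1 : j ≫ b = (a ≫ e.hom) ≫ hY.hom := by
      rw [Category.assoc]; exact w
    obtain ⟨c, ⟨hc1, hc2⟩, hcu⟩ := HU hT hT' j (a ≫ e.hom) b hj w1
    have w2 : (a ≫ iZ.hom) ≫ e'.hom = j ≫ c := by
      rw [hc1, Category.assoc, Category.assoc, sq.w]
    obtain ⟨a', ⟨ha1, ha2⟩, hau⟩ :=
      Groth.Agent.Lib.Seat47.FEt.existsUnique_of_foThick e'.hom hfe hT' j hj (a ≫ iZ.hom) c w2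
        (fun l l' h1 h2 => Groth.Agent.S10624.uniq_of_foThick e'.hom hfu hT' j hj l l' h1 h2)
    refine ⟨a', ⟨ha1, ?_⟩, ?_⟩
    · show a' ≫ (e'.hom ≫ hY'.hom) = b
      rw [← Category.assoc, ha2, hc2]
    · intro a'' ⟨h1, h2⟩
      apply hau
      refine ⟨h1, ?_⟩
      apply hcu
      refine ⟨?_, ?_⟩
      · rw [← Category.assoc, h1, Category.assoc, Category.assoc, sq.w]
      · rw [Category.assoc]; exact h2

end Groth.Agent.S10632
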