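import Groth.Statements.S10633
import Groth.Agent.Lib.Seat47Rel2

set_option autoImplicit false
universe u
open CategoryTheory CategoryTheory.Limits AlgebraicGeometry
open AlgSp

namespace Groth.Agent.S10633

open Groth.Agent.Lib.Seat47.FEt Groth.Agent.Lib.Seat47.Thk Groth.Agent.Lib.Seat47.UFO
open Groth.Agent.Lib.Seat47.Rel Groth.Agent.Lib.Helper15

/-- a chart of the source of an étale surjective morphism gives an étale surjective chart of the
target -/
lemma chart_comp {S : Scheme.{u}} {F G : AlgSp.Sp S} (f : F ⟶ G) (hf : AlgSp.IsEtaleMor f)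
    (hfs : Function.Surjective (AlgSp.Points.map f)) {U : Over S} (p : (AlgSp.yon S).obj U ⟶ F)
    (hp : AlgSp.RepWith @Etale p) (hps : AlgSp.RepWith @Surjective p) :
    AlgSp.RepWith @Etale (p ≫ f) ∧ AlgSp.RepWith @Surjective (p ≫ f) := by
  have h1 : AlgSp.RepWith @Etale (p ≫ f) := hf p hp
  refine ⟨h1, (Groth.Agent.S9906.repWith_surjective_iff _ h1.1).2 ?_⟩
  intro y
  obtain ⟨x, rfl⟩ := hfs y
  obtain ⟨z, rfl⟩ := Groth.Agent.S9906.surjective_map_of_repWith p hps x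
  exact ⟨z, AlgSp.Points.map_comp p f z⟩

/-- Let e : Z ⟶ Y be a surjective etale morphism of algebraic spaces over S, hY : Y ⟶ X, and let (Z ⊂
Z') ⟶ (Y ⊂ Y') be an etale morphism of first order thickenings over X: iZ : Z ⟶ Z' and iY : Y ⟶ Y'
first order thickenings, f' : Z' ⟶ Y' etale with iZ ≫ f' = e ≫ iY, hY' : Y' ⟶ X with iY ≫ hY' = hY.
If (iZ, f' ≫ hY') is a universal first order thickening of Z over X, then (iY, hY') is a universal
first order thickening of Y over X. -/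
theorem result {S : Scheme.{u}} {Z Y Z' Y' X : AlgSp.Space S} (e : Z ⟶ Y)
    (he : AlgSp.IsEtaleMor e.hom) (hes : AlgSp.IsSurjectiveMor e.hom) (hY : Y ⟶ X)
    (iZ : Z ⟶ Z') (iY : Y ⟶ Y') (hiZ : AlgSp.IsFOThickMor iZ.hom) (hiY : AlgSp.IsFOThickMor iY.hom)
    (f' : Z' ⟶ Y') (hf' : AlgSp.IsEtaleMor f'.hom) (w : iZ ≫ f' = e ≫ iY) (hY' : Y' ⟶ X) (w' : iY ≫ hY' = hY)
    (HU : AlgSp.IsUnivFOThick (e ≫ hY).hom iZ.hom (f' ≫ hY').hom) :
    AlgSp.IsUnivFOThick hY.hom iY.hom hY'.hom := by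
  have wh : iZ.hom ≫ f'.hom = e.hom ≫ iY.hom := congrArg (fun m => m.hom) w
  have wh' : iY.hom ≫ hY'.hom = hY.hom := congrArg (fun m => m.hom) w'
  -- `f' ≫ hY'` is formally unramified
  have hfu' : AlgSp.IsFormallyUnramifiedMor (f'.hom ≫ hY'.hom) :=
    unramified_of_univFOThick Z'.property (e ≫ hY).hom iZ.hom (f' ≫ hY').hom HU
  -- `f'` is surjective on points
  have hiYs : Function.Surjective (AlgSp.Points.map iY.hom) :=
    Groth.Agent.S9906.surjective_map_of_repWith iY.hom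
      ⟨hiY.1.1, fun _ _ g fst snd h => (hiY.1.2 g fst snd h).2⟩
  have hf's : Function.Surjective (AlgSp.Points.map f'.hom) := by
    intro y
    obtain ⟨x, rfl⟩ := hiYs y
    obtain ⟨z, rfl⟩ := hes x
    refine ⟨AlgSp.Points.map iZ.hom z, ?_⟩
    rw [← AlgSp.Points.map_comp, wh, AlgSp.Points.map_comp]
  -- `hY'` is formally unramified
  obtain ⟨Z₂', p, hp, hps⟩ := Z'.property.atlas
  obtain ⟨hpe', hps'⟩ := chart_comp f'.hom hf' hf's p hp hps
  have hfu : AlgSp.IsFormallyUnramifiedMor hY'.hom := by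
    apply isFormallyUnramifiedMor_of_comp_etale_surj (p ≫ f'.hom) hY'.hom hpe' hps'
    rw [Category.assoc]
    exact isFormallyUnramifiedMor_comp p _
      ((isFormallyEtaleMor_iff p).1 (isFormallyEtaleMor_of_repWith_etale p hp)).2 hfu'
  -- the chart of `Z`
  obtain ⟨Z₂, q, hq, hqs⟩ := Z.property.atlas
  obtain ⟨hqe', hqs'⟩ := chart_comp e.hom he hes q hq hqs
  obtain ⟨hiZ', hcompZ, HUZ⟩ := HU
  refine ⟨hiY, wh', ?_⟩
  intro T T' hT hT' j a b hj hw
  have hw2 : (a ≫ iY.hom) ≫ hY'.hom = j ≫ b := by rw [Category.assoc, wh', hw]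
  refine existsUnique_of_foThick_rel iY.hom hY'.hom hfu ?_ hT' j hj a b hw2
  intro A _ I hI str a₀ bot hc₀
  refine exists_lift_of_etale_cover iZ.hom iY.hom e.hom f'.hom hY'.hom wh hfu q hqe' hqs' ?_
    I hI str a₀ bot hc₀
  intro A' _ I' hI' str' a₁ bot' hc₁
  obtain ⟨l, hl, -⟩ := HUZ (AlgSp.IsAlgSpace.yon_obj _) (AlgSp.IsAlgSpace.yon_obj _)
    ((AlgSp.yon S).map (pj I' str')) a₁ bot' (isFOThickMor_yon_map _ (fo_spec A' I' hI')) (by
      rw [← hc₁]
      show (a₁ ≫ iZ.hom) ≫ f'.hom ≫ hY'.hom = a₁ ≫ (e.hom ≫ hY.hom)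
      rw [Category.assoc, ← Category.assoc iZ.hom, wh, Category.assoc, wh'])
  exact ⟨l, hl⟩

end Groth.Agent.S10633
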