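import Groth.Statements.S10635
import Groth.Agent.Lib.Seat47InfNbhd2
import Groth.Agent.S10631

set_option autoImplicit false
universe u
open CategoryTheory CategoryTheory.Limits AlgebraicGeometry
open AlgSp

namespace Groth.Agent.S10635

/-- Take an immersion i : Z ⟶ X of algebraic spaces over S, written as a closed immersion c : Z ⟶ U
followed by an open immersion u : U ⟶ X, and let (j : Z ⟶ Z₁, k : Z₁ ⟶ U) be the first order
infinitesimal neighbourhood of Z in U. Then (j, k ≫ u) is a universal first order thickening of Z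
over X. -/
theorem result {S : Scheme.{u}} {Z U X Z₁ : AlgSp.Space S} (c : Z ⟶ U)
    (hc : AlgSp.RepWith @IsClosedImmersion c.hom) (u : U ⟶ X) (hu : AlgSp.RepWith @IsOpenImmersion u.hom)
    (j : Z ⟶ Z₁) (k : Z₁ ⟶ U) (hN : AlgSp.IsInfNbhd 1 c.hom j.hom k.hom) :
    AlgSp.IsUnivFOThick (c ≫ u).hom j.hom (k ≫ u).hom := by
  have h1 : AlgSp.IsUnivFOThick c.hom j.hom k.hom :=
    Groth.Agent.Lib.Seat47.InfNbhd.isUnivFOThick_of_isInfNbhd U.property Z₁.property hN
  have hue : AlgSp.RepWith @Etale u.hom :=
    ⟨hu.1, fun {_ _} b fst snd h => by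
      haveI : IsOpenImmersion snd.left := hu.2 b fst snd h
      exact (inferInstance : Etale snd.left)⟩
  exact Groth.Agent.S10631.result c u j k h1
    (Groth.Agent.Lib.Seat47.FEt.isFormallyEtaleMor_of_repWith_etale u.hom hue)

end Groth.Agent.S10635
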