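import Groth.Statements.S10639
import Groth.Agent.Lib.Seat45Where
import Groth.Agent.Lib.Seat45UnramSp

set_option autoImplicit false
set_option linter.style.haveILetI false
universe u
open CategoryTheory CategoryTheory.Limits AlgebraicGeometry
open AlgSp

namespace Groth.Agent.S10639

/-- For morphisms f : X ⟶ Y, p : X ⟶ Z and q : Y ⟶ Z of algebraic spaces over S with f ≫ q = p, where p
is closed (the map on points is closed) and locally of finite type, there is an open subspace W of Z
with the following property: a morphism of algebraic spaces g : Z' ⟶ Z factors through W exactly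
when the base change X' ⟶ Y' of f along g is unramified (locally of finite type and formally
unramified, etale locally on source and target). Here the base change of f along g is any f' : X' ⟶
Y' obtained from pullback squares Y' = Y ×_Z Z' and X' = X ×_Y Y' of algebraic spaces over S, and W
⊂ Z is given as a representable open immersion w : W ⟶ Z. -/
theorem result {S : Scheme.{u}} {X Y Z : AlgSp.Space S}
    (f : X ⟶ Y) (p : X ⟶ Z) (q : Y ⟶ Z) (hc : f ≫ q = p)
    (hp1 : AlgSp.LocP @LocallyOfFiniteType p.hom) (hp2 : AlgSp.IsClosedMor p.hom) :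
    ∃ (W : AlgSp.Space S) (w : W ⟶ Z), AlgSp.RepWith @IsOpenImmersion w.hom ∧
      ∀ (Z' : AlgSp.Space S) (g : Z' ⟶ Z),
        (∃ k : Z' ⟶ W, k ≫ w = g) ↔
          ∀ (Y' : AlgSp.Space S) (gY : Y' ⟶ Y) (q' : Y' ⟶ Z'),
            IsPullback gY.hom q'.hom q.hom g.hom →
            ∀ (X' : AlgSp.Space S) (gX : X' ⟶ X) (f' : X' ⟶ Y'),
              IsPullback gX.hom f'.hom f.hom gY.hom →
                AlgSp.LocP (@LocallyOfFiniteType ⊓ @FormallyUnramified) f'.hom := by
  have hlf : AlgSp.LocP @LocallyOfFiniteType f.hom :=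
    Groth.Agent.S9952.result f q (by rw [hc]; exact hp1)
  refine Groth.Agent.Lib.Seat45.Where.exists_where f p q hc hp2
    {x | AlgSp.HasAtMor Groth.Agent.Lib.Seat45.Unram.UnrNear f.hom x}ᶜ
    (Groth.Agent.Lib.Seat45.Unram.isOpen_hasAtMor_unrNear f.hom).isClosed_compl
    (fun X' Y' f' => AlgSp.LocP (@LocallyOfFiniteType ⊓ @FormallyUnramified) f'.hom) ?_
  intro Z' g Y' gY q' sq1 X' gX f' sq2
  have sqbig : IsPullback gX.hom (f' ≫ q').hom (f ≫ q).hom g.hom := sq2.paste_vert sq1
  have hp' : AlgSp.LocP @LocallyOfFiniteType (f' ≫ q').hom :=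
    Groth.Agent.S9984.result @LocallyOfFiniteType (Or.inl rfl) (f ≫ q) g gX (f' ≫ q') sqbig
      (by rw [hc]; exact hp1)
  have hlf' : AlgSp.LocP @LocallyOfFiniteType f'.hom := Groth.Agent.S9952.result f' q' hp'
  rw [Groth.Agent.Lib.Seat45.Unram.locP_unramified_iff X'.property Y'.property f'.hom hlf']
  refine forall_congr' fun x' => ?_
  rw [Set.mem_compl_iff, not_not, Set.mem_setOf_eq]
  exact Groth.Agent.Lib.Seat45.Unram.hasAtMor_unrNear_baseChange_iff X.property Y.property Y'.property
    X'.property sq2 hlf hlf' x'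

end Groth.Agent.S10639
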