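import Groth.Statements.S10640
import Groth.Agent.Lib.Seat45DiagOpen
import Groth.Agent.Lib.Seat45GrpUnit
import Groth.Agent.S9938
import Groth.Agent.S9984
import Groth.Agent.S9952

set_option autoImplicit false
set_option linter.style.haveILetI false
universe u
open CategoryTheory CategoryTheory.Limits AlgebraicGeometry
open AlgSp

namespace Groth.Agent.S10640

/-- For morphisms f : X ⟶ Y, p : X ⟶ Z and q : Y ⟶ Z of algebraic spaces over S with f ≫ q = p, write XX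
= X ×_Y X with projections pr0, pr1, and assume that p is closed and locally of finite type and that
the composite XX ⟶ X ⟶ Z (through pr1 and p) is closed as well. Then there is an open subspace W of
Z with the following property: a morphism of algebraic spaces g : Z' ⟶ Z factors through W exactly
when the base change X' ⟶ Y' of f along g is unramified and universally injective. Here the base
change of f along g is any f' : X' ⟶ Y' obtained from pullback squares Y' = Y ×_Z Z' and X' = X ×_Y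
Y' of algebraic spaces over S, and W ⊂ Z is given as a representable open immersion w : W ⟶ Z. -/
theorem result {S : Scheme.{u}} {X Y Z : AlgSp.Space S}
    (f : X ⟶ Y) (p : X ⟶ Z) (q : Y ⟶ Z) (hc : f ≫ q = p)
    (XX : AlgSp.Space S) (pr0 pr1 : XX ⟶ X) (hXX : IsPullback pr0.hom pr1.hom f.hom f.hom)
    (hp1 : AlgSp.LocP @LocallyOfFiniteType p.hom) (hp2 : AlgSp.IsClosedMor p.hom)
    (hp3 : AlgSp.IsClosedMor (pr1 ≫ p).hom) :
    ∃ (W : AlgSp.Space S) (w : W ⟶ Z), AlgSp.RepWith @IsOpenImmersion w.hom ∧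
      ∀ (Z' : AlgSp.Space S) (g : Z' ⟶ Z),
        (∃ k : Z' ⟶ W, k ≫ w = g) ↔
          ∀ (Y' : AlgSp.Space S) (gY : Y' ⟶ Y) (q' : Y' ⟶ Z'),
            IsPullback gY.hom q'.hom q.hom g.hom →
            ∀ (X' : AlgSp.Space S) (gX : X' ⟶ X) (f' : X' ⟶ Y'),
              IsPullback gX.hom f'.hom f.hom gY.hom →
                (AlgSp.LocP (@LocallyOfFiniteType ⊓ @FormallyUnramified) f'.hom ∧ AlgSp.IsUnivInjectiveMor f'.hom) := by
  have hlf : AlgSp.LocP @LocallyOfFiniteType f.hom :=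
    Groth.Agent.S9952.result f q (by rw [hc]; exact hp1)
  -- the ramified locus
  obtain ⟨T₁, hT₁def⟩ : ∃ T₁ : Set (AlgSp.Points X.obj),
      T₁ = {x | AlgSp.HasAtMor Groth.Agent.Lib.Seat45.Unram.UnrNear f.hom x}ᶜ := ⟨_, rfl⟩
  have hT₁ : IsClosed T₁ := by
    rw [hT₁def]
    exact (Groth.Agent.Lib.Seat45.Unram.isOpen_hasAtMor_unrNear f.hom).isClosed_compl
  obtain ⟨X₁, j, hj, hjr⟩ := Groth.Agent.S10195.result X T₁ᶜ hT₁.isOpen_compl
  have hjf : AlgSp.LocP (@LocallyOfFiniteType ⊓ @FormallyUnramified) (j ≫ f).hom := by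
    refine Groth.Agent.Lib.Seat45.DiagOpen.locP_unramified_of_forall X₁.property X.property Y.property
      j.hom hj f.hom hlf fun x₁ => ?_
    have h1 : AlgSp.Points.map j.hom x₁ ∈ T₁ᶜ := hjr ▸ ⟨x₁, rfl⟩
    rw [hT₁def, compl_compl] at h1
    exact h1
  -- the diagonal
  obtain ⟨Δ, hΔ0, hΔ1⟩ : ∃ Δ : X ⟶ XX, Δ ≫ pr0 = 𝟙 X ∧ Δ ≫ pr1 = 𝟙 X := by
    refine ⟨ObjectProperty.homMk (hXX.lift (𝟙 _) (𝟙 _) rfl), ?_, ?_⟩
    · ext1; exact hXX.lift_fst _ _ _
    · ext1; exact hXX.lift_snd _ _ _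
  have hΔ0' : Δ.hom ≫ pr0.hom = 𝟙 _ := congrArg (fun m => m.hom) hΔ0
  have hΔ1' : Δ.hom ≫ pr1.hom = 𝟙 _ := congrArg (fun m => m.hom) hΔ1
  have hopen : AlgSp.RepWith @IsOpenImmersion (j ≫ Δ).hom :=
    Groth.Agent.Lib.Seat45.DiagOpen.repWith_isOpenImmersion_comp_diag j hj f hjf pr0 pr1 hXX Δ hΔ0 hΔ1
  obtain ⟨T₂, hT₂def⟩ : ∃ T₂ : Set (AlgSp.Points XX.obj),
      T₂ = (Set.range (AlgSp.Points.map (j ≫ Δ).hom))ᶜ := ⟨_, rfl⟩
  have hT₂ : IsClosed T₂ := by
    rw [hT₂def]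
    exact (Groth.Agent.Lib.Helper12.OpenSub.isOpen_range_of_open _ hopen).isClosed_compl
  have hO : IsOpen (AlgSp.Points.map p.hom '' T₁ ∪ AlgSp.Points.map (pr1 ≫ p).hom '' T₂)ᶜ :=
    ((hp2 T₁ hT₁).union (hp3 T₂ hT₂)).isOpen_compl
  obtain ⟨W, w, hw, hrange⟩ := Groth.Agent.S10195.result Z _ hO
  refine ⟨W, w, hw, fun Z' g => ?_⟩
  rw [Groth.Agent.S10194.result w hw g, hrange]
  constructor
  · intro hsub Y' gY q' sq1 X' gX f' sq2
    have sqbig : IsPullback gX.hom (f' ≫ q').hom (f ≫ q).hom g.hom := sq2.paste_vert sq1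
    have ebig : gX.hom ≫ p.hom = (f' ≫ q').hom ≫ g.hom := by
      rw [← hc]; exact sqbig.w
    have hp' : AlgSp.LocP @LocallyOfFiniteType (f' ≫ q').hom :=
      Groth.Agent.S9984.result @LocallyOfFiniteType (Or.inl rfl) (f ≫ q) g gX (f' ≫ q') sqbig
        (by rw [hc]; exact hp1)
    have hlf' : AlgSp.LocP @LocallyOfFiniteType f'.hom := Groth.Agent.S9952.result f' q' hp'
    refine ⟨?_, ?_⟩
    · rw [Groth.Agent.Lib.Seat45.Unram.locP_unramified_iff X'.property Y'.property f'.hom hlf']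
      intro x'
      rw [Groth.Agent.Lib.Seat45.Unram.hasAtMor_unrNear_baseChange_iff X.property Y.property
        Y'.property X'.property sq2 hlf hlf' x']
      by_contra hnot
      have h1 : AlgSp.Points.map g.hom (AlgSp.Points.map (f' ≫ q').hom x') ∈
          (AlgSp.Points.map p.hom '' T₁ ∪ AlgSp.Points.map (pr1 ≫ p).hom '' T₂)ᶜ := hsub ⟨_, rfl⟩
      apply h1
      left
      refine ⟨AlgSp.Points.map gX.hom x', ?_, ?_⟩
      · rw [hT₁def]; exact hnot
      · rw [← AlgSp.Points.map_comp, ← AlgSp.Points.map_comp, ebig]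
    · rw [← (Groth.Agent.S9938.result f').1]
      intro K _ str a b hab
      have hab' : a ≫ f'.hom = b ≫ f'.hom := hab
      have e1 : (a ≫ gX.hom) ≫ f.hom = (b ≫ gX.hom) ≫ f.hom := by
        rw [Category.assoc, Category.assoc, sq2.w, ← Category.assoc, ← Category.assoc, hab']
      obtain ⟨c, hc0, hc1⟩ : ∃ c : (AlgSp.yon S).obj (Over.mk str) ⟶ XX.obj,
          c ≫ pr0.hom = a ≫ gX.hom ∧ c ≫ pr1.hom = b ≫ gX.hom :=
        ⟨hXX.lift _ _ e1, hXX.lift_fst _ _ _, hXX.lift_snd _ _ _⟩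
      have hsubc : Set.range (AlgSp.Points.map c) ⊆ Set.range (AlgSp.Points.map (j ≫ Δ).hom) := by
        rintro _ ⟨y, rfl⟩
        by_contra hnot
        have h1 : AlgSp.Points.map g.hom (AlgSp.Points.map (f' ≫ q').hom (AlgSp.Points.map b y)) ∈
            (AlgSp.Points.map p.hom '' T₁ ∪ AlgSp.Points.map (pr1 ≫ p).hom '' T₂)ᶜ := hsub ⟨_, rfl⟩
        apply h1
        right
        refine ⟨AlgSp.Points.map c y, ?_, ?_⟩
        · rw [hT₂def]; exact hnot
        · rw [← AlgSp.Points.map_comp, ← AlgSp.Points.map_comp, ← AlgSp.Points.map_comp]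
          congr 1
          change c ≫ pr1.hom ≫ p.hom = b ≫ (f' ≫ q').hom ≫ g.hom
          rw [← Category.assoc, hc1, Category.assoc, ebig]
      obtain ⟨k, hk⟩ := (Groth.Agent.Lib.Seat45.GrpUnit.factors_iff_range_subset XX.property X₁.property
        (AlgSp.IsAlgSpace.yon_obj _) (j ≫ Δ).hom hopen c).2 hsubc
      have e2 : a ≫ gX.hom = b ≫ gX.hom := by
        have hk' : k ≫ j.hom ≫ Δ.hom = c := hk
        rw [← hc0, ← hc1, ← hk', Category.assoc, Category.assoc, Category.assoc, Category.assoc,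
          hΔ0', hΔ1']
      exact sq2.hom_ext e2 hab'
  · intro H
    obtain ⟨Y', gY, q', sq1⟩ := Groth.Agent.Lib.Seat45.Where.exists_pullback q g
    obtain ⟨X', gX, f', sq2⟩ := Groth.Agent.Lib.Seat45.Where.exists_pullback f gY
    obtain ⟨hun, hui⟩ := H Y' gY q' sq1 X' gX f' sq2
    have sqbig : IsPullback gX.hom (f' ≫ q').hom (f ≫ q).hom g.hom := sq2.paste_vert sq1
    rw [hc] at sqbig
    have hp' : AlgSp.LocP @LocallyOfFiniteType (f' ≫ q').hom :=
      Groth.Agent.S9984.result @LocallyOfFiniteType (Or.inl rfl) p g gX (f' ≫ q') sqbig hp1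
    have hlf' : AlgSp.LocP @LocallyOfFiniteType f'.hom := Groth.Agent.S9952.result f' q' hp'
    rw [Groth.Agent.Lib.Seat45.Unram.locP_unramified_iff X'.property Y'.property f'.hom hlf'] at hun
    rw [← (Groth.Agent.S9938.result f').1] at hui
    -- points of `T₁` are not hit
    have key1 : ∀ (x : AlgSp.Points X.obj) (z' : AlgSp.Points Z'.obj),
        AlgSp.Points.map p.hom x = AlgSp.Points.map g.hom z' → x ∉ T₁ := by
      intro x z' hxz hxT
      obtain ⟨x', hx'1, -⟩ := Groth.Agent.S10175.exists_point_of_isPullback sqbig x z' hxz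
      have h2 := (Groth.Agent.Lib.Seat45.Unram.hasAtMor_unrNear_baseChange_iff X.property Y.property
        Y'.property X'.property sq2 hlf hlf' x').1 (hun x')
      rw [hx'1] at h2
      rw [hT₁def] at hxT
      exact hxT h2
    rintro _ ⟨z', rfl⟩ (⟨x, hxT, hxz⟩ | ⟨ξ, hξT, hξz⟩)
    · exact key1 x z' hxz hxT
    · -- the case of a point of `T₂`
      obtain ⟨P, uP, vP, sqP⟩ := Groth.Agent.Lib.Seat45.Where.exists_pullback (pr1 ≫ p) g
      obtain ⟨π, hπ1, hπ2⟩ := Groth.Agent.S10175.exists_point_of_isPullback sqP ξ z' hξz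
      obtain ⟨r, rfl⟩ := AlgSp.Points.mk_surjective π
      obtain ⟨cP, hcP⟩ : ∃ cP : (AlgSp.yon S).obj (Over.mk r.str) ⟶ P.obj, cP = r.toHom := ⟨_, rfl⟩
      have hfpr : pr0.hom ≫ f.hom ≫ q.hom = pr1.hom ≫ p.hom := by
        rw [← Category.assoc, hXX.w, Category.assoc]
        congr 1
        exact congrArg (fun m => m.hom) hc
      have hpw : (cP ≫ uP.hom ≫ pr0.hom) ≫ f.hom ≫ q.hom = (cP ≫ vP.hom) ≫ g.hom := by
        have := sqP.w
        change uP.hom ≫ pr1.hom ≫ p.hom = vP.hom ≫ g.hom at this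
        rw [Category.assoc, Category.assoc, hfpr, Category.assoc, ← this]
      obtain ⟨y₀, hy₀1, hy₀2⟩ : ∃ y₀ : (AlgSp.yon S).obj (Over.mk r.str) ⟶ Y'.obj,
          y₀ ≫ gY.hom = (cP ≫ uP.hom ≫ pr0.hom) ≫ f.hom ∧ y₀ ≫ q'.hom = cP ≫ vP.hom :=
        ⟨sq1.lift _ _ (by rw [Category.assoc]; exact hpw), sq1.lift_fst _ _ _, sq1.lift_snd _ _ _⟩
      obtain ⟨a', ha'1, ha'2⟩ : ∃ a' : (AlgSp.yon S).obj (Over.mk r.str) ⟶ X'.obj,
          a' ≫ gX.hom = cP ≫ uP.hom ≫ pr0.hom ∧ a' ≫ f'.hom = y₀ :=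
        ⟨sq2.lift _ _ hy₀1.symm, sq2.lift_fst _ _ _, sq2.lift_snd _ _ _⟩
      have hy₀1' : (cP ≫ uP.hom ≫ pr1.hom) ≫ f.hom = y₀ ≫ gY.hom := by
        rw [hy₀1, Category.assoc, Category.assoc, Category.assoc, Category.assoc, hXX.w]
      obtain ⟨b', hb'1, hb'2⟩ : ∃ b' : (AlgSp.yon S).obj (Over.mk r.str) ⟶ X'.obj,
          b' ≫ gX.hom = cP ≫ uP.hom ≫ pr1.hom ∧ b' ≫ f'.hom = y₀ :=
        ⟨sq2.lift _ _ hy₀1', sq2.lift_fst _ _ _, sq2.lift_snd _ _ _⟩
      have hab : a' = b' := hui r.K r.str (ha'2.trans hb'2.symm)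
      have e01 : cP ≫ uP.hom ≫ pr0.hom = cP ≫ uP.hom ≫ pr1.hom := by
        rw [← ha'1, ← hb'1, hab]
      have ecu : cP ≫ uP.hom = (cP ≫ uP.hom ≫ pr0.hom) ≫ Δ.hom := by
        apply hXX.hom_ext
        · rw [Category.assoc, Category.assoc, Category.assoc, Category.assoc, hΔ0', Category.comp_id]
        · rw [Category.assoc (cP ≫ uP.hom ≫ pr0.hom), hΔ1', Category.comp_id, e01, Category.assoc]
      obtain ⟨s⟩ : Nonempty ↥(Spec (CommRingCat.of r.K)) := inferInstance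
      have hξ : ξ = AlgSp.Points.map Δ.hom (AlgSp.Points.ofPt (cP ≫ uP.hom ≫ pr0.hom) s) := by
        rw [AlgSp.Points.map_ofPt, ← ecu, ← AlgSp.Points.map_ofPt, hcP, AlgSp.Points.ofPt_toHom, hπ1]
      -- the point `x = pr0 ξ`
      have hx : AlgSp.Points.ofPt (cP ≫ uP.hom ≫ pr0.hom) s ∉ T₁ := by
        refine key1 _ z' ?_
        have h3 : AlgSp.Points.ofPt (cP ≫ uP.hom ≫ pr0.hom) s = AlgSp.Points.map pr0.hom ξ := by
          rw [hξ, ← AlgSp.Points.map_comp, hΔ0', AlgSp.Points.map_id]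
        rw [h3, ← hξz, ← AlgSp.Points.map_comp]
        congr 1
        change pr0.hom ≫ p.hom = pr1.hom ≫ p.hom
        rw [← hfpr]
        congr 1
        exact (congrArg (fun m => m.hom) hc).symm
      have hx' : AlgSp.Points.ofPt (cP ≫ uP.hom ≫ pr0.hom) s ∈ Set.range (AlgSp.Points.map j.hom) := by
        rw [hjr]; exact hx
      obtain ⟨x₁, hx₁⟩ := hx'
      rw [hT₂def] at hξT
      apply hξT
      refine ⟨x₁, ?_⟩
      rw [hξ, ← hx₁, ← AlgSp.Points.map_comp]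
      rfl

end Groth.Agent.S10640
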