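import Groth.Statements.S10641
import Groth.Agent.Lib.Seat45ClosedImm
import Groth.Agent.S10640
import Groth.Agent.S10278

set_option autoImplicit false
set_option linter.style.haveILetI false
universe u
open CategoryTheory CategoryTheory.Limits AlgebraicGeometry
open AlgSp

namespace Groth.Agent.S10641

/-- For morphisms f : X ⟶ Y, p : X ⟶ Z and q : Y ⟶ Z of algebraic spaces over S with f ≫ q = p, where p
is universally closed and locally of finite type and q is separated, there is an open subspace W of
Z with the following property: a morphism of algebraic spaces g : Z' ⟶ Z factors through W exactly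
when the base change X' ⟶ Y' of f along g is a closed immersion (representable, and a closed
immersion on every represented pullback). Here the base change of f along g is any f' : X' ⟶ Y'
obtained from pullback squares Y' = Y ×_Z Z' and X' = X ×_Y Y' of algebraic spaces over S, and W ⊂ Z
is given as a representable open immersion w : W ⟶ Z. -/
theorem result {S : Scheme.{u}} {X Y Z : AlgSp.Space S}
    (f : X ⟶ Y) (p : X ⟶ Z) (q : Y ⟶ Z) (hc : f ≫ q = p)
    (hp1 : AlgSp.LocP @LocallyOfFiniteType p.hom) (hp2 : AlgSp.IsUnivClosedMor p.hom)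
    (hq : AlgSp.IsSeparatedMor q.hom) :
    ∃ (W : AlgSp.Space S) (w : W ⟶ Z), AlgSp.RepWith @IsOpenImmersion w.hom ∧
      ∀ (Z' : AlgSp.Space S) (g : Z' ⟶ Z),
        (∃ k : Z' ⟶ W, k ≫ w = g) ↔
          ∀ (Y' : AlgSp.Space S) (gY : Y' ⟶ Y) (q' : Y' ⟶ Z'),
            IsPullback gY.hom q'.hom q.hom g.hom →
            ∀ (X' : AlgSp.Space S) (gX : X' ⟶ X) (f' : X' ⟶ Y'),
              IsPullback gX.hom f'.hom f.hom gY.hom →
                AlgSp.RepWith @IsClosedImmersion f'.hom := by
  obtain ⟨XX, pr0, pr1, hXX⟩ := Groth.Agent.Lib.Seat45.Where.exists_pullback f f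
  have hfuc : AlgSp.IsUnivClosedMor f.hom := ((Groth.Agent.S10278.result f p q hc hq).1 hp2).1
  have hp2c : AlgSp.IsClosedMor p.hom := hp2 Z.property (𝟙 _) (𝟙 _) p.hom IsPullback.of_id_fst
  have hpr1 : IsClosedMap (AlgSp.Points.map pr1.hom) := hfuc X.property f.hom pr0.hom pr1.hom hXX
  have hp3 : AlgSp.IsClosedMor (pr1 ≫ p).hom := by
    have e : AlgSp.Points.map (pr1 ≫ p).hom = AlgSp.Points.map p.hom ∘ AlgSp.Points.map pr1.hom := by
      funext x
      exact AlgSp.Points.map_comp pr1.hom p.hom x
    change IsClosedMap (AlgSp.Points.map (pr1 ≫ p).hom)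
    rw [e]
    exact IsClosedMap.comp hp2c hpr1
  obtain ⟨W, w, hw, hW⟩ := Groth.Agent.S10640.result f p q hc XX pr0 pr1 hXX hp1 hp2c hp3
  refine ⟨W, w, hw, fun Z' g => (hW Z' g).trans ?_⟩
  refine forall_congr' fun Y' => forall_congr' fun gY => forall_congr' fun q' =>
    forall_congr' fun sq1 => forall_congr' fun X' => forall_congr' fun gX => forall_congr' fun f' =>
    forall_congr' fun sq2 => ?_
  have huc' : AlgSp.IsUnivClosedMor f'.hom :=
    Groth.Agent.Lib.Helper12.Proper.isUnivClosedMor_baseChange sq2 hfuc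
  constructor
  · rintro ⟨h1, h2⟩
    exact Groth.Agent.Lib.Seat45.ClosedImm.repWith_isClosedImmersion_of_univClosed_unramified_univInjective
      f' huc' h1 h2
  · intro h
    exact ⟨Groth.Agent.Lib.Seat45.ClosedImm.locP_unramified_of_isClosedImmersion f' h,
      Groth.Agent.Lib.Seat45.ClosedImm.isUnivInjectiveMor_of_isClosedImmersion f' h⟩

end Groth.Agent.S10641
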