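import Groth.Statements.S10642
import Groth.Agent.Lib.Seat45Where
import Groth.Agent.S10609

set_option autoImplicit false
set_option linter.style.haveILetI false
universe u
open CategoryTheory CategoryTheory.Limits AlgebraicGeometry
open AlgSp

namespace Groth.Agent.S10642

/-- Flatness of a morphism of algebraic spaces is flatness at all points. -/
lemma locP_flat_iff_forall_isFlatAtMor {S : Scheme.{u}} {F G : AlgSp.Sp S} (f : F ⟶ G) :
    AlgSp.LocP @Flat f ↔ ∀ x : AlgSp.Points F, AlgSp.IsFlatAtMor f x := by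
  constructor
  · intro H x U V a b h u ha hb hc _
    haveI : Flat h.left := H a b h ha hb hc
    exact Flat.stalkMap h.left u
  · intro H U V a b h ha hb hc
    exact Flat.of_stalkMap _ fun u => H (AlgSp.Points.ofPt a u) a b h u ha hb hc rfl

/-- For morphisms f : X ⟶ Y, p : X ⟶ Z and q : Y ⟶ Z of algebraic spaces over S with f ≫ q = p, where p
is flat, closed and locally of finite presentation and q is locally of finite type, there is an open
subspace W of Z with the following property: a morphism of algebraic spaces g : Z' ⟶ Z factors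
through W exactly when the base change X' ⟶ Y' of f along g is flat. Here the base change of f along
g is any f' : X' ⟶ Y' obtained from pullback squares Y' = Y ×_Z Z' and X' = X ×_Y Y' of algebraic
spaces over S, and W ⊂ Z is given as a representable open immersion w : W ⟶ Z. -/
theorem result {S : Scheme.{u}} {X Y Z : AlgSp.Space S}
    (f : X ⟶ Y) (p : X ⟶ Z) (q : Y ⟶ Z) (hc : f ≫ q = p)
    (hp1 : AlgSp.LocP @LocallyOfFinitePresentation p.hom) (hp2 : AlgSp.LocP @Flat p.hom)
    (hp3 : AlgSp.IsClosedMor p.hom) (hq : AlgSp.LocP @LocallyOfFiniteType q.hom) :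
    ∃ (W : AlgSp.Space S) (w : W ⟶ Z), AlgSp.RepWith @IsOpenImmersion w.hom ∧
      ∀ (Z' : AlgSp.Space S) (g : Z' ⟶ Z),
        (∃ k : Z' ⟶ W, k ≫ w = g) ↔
          ∀ (Y' : AlgSp.Space S) (gY : Y' ⟶ Y) (q' : Y' ⟶ Z'),
            IsPullback gY.hom q'.hom q.hom g.hom →
            ∀ (X' : AlgSp.Space S) (gX : X' ⟶ X) (f' : X' ⟶ Y'),
              IsPullback gX.hom f'.hom f.hom gY.hom →
                AlgSp.LocP @Flat f'.hom := by
  subst hc
  have h609 := Groth.Agent.S10609.result f q hp1 hp2 hq
  refine Groth.Agent.Lib.Seat45.Where.exists_where f (f ≫ q) q rfl hp3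
    {x | AlgSp.IsFlatAtMor f.hom x}ᶜ h609.1.isClosed_compl
    (fun X' Y' f' => AlgSp.LocP @Flat f'.hom) ?_
  intro Z' g Y' gY q' sq1 X' gX f' sq2
  rw [locP_flat_iff_forall_isFlatAtMor]
  have h2 := h609.2 X' Y' Z' g f' q' gX gY sq1 sq2
  refine forall_congr' fun x' => ?_
  rw [Set.mem_compl_iff, not_not]
  exact Set.ext_iff.1 h2 x'

end Groth.Agent.S10642
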