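import Groth.Statements.S10643
import Groth.Agent.Lib.Seat45Where
import Groth.Agent.S10609
import Groth.Agent.S10642

set_option autoImplicit false
set_option linter.style.haveILetI false
universe u
open CategoryTheory CategoryTheory.Limits AlgebraicGeometry
open AlgSp

namespace Groth.Agent.S10643

/-- For morphisms f : X ⟶ Y, p : X ⟶ Z and q : Y ⟶ Z of algebraic spaces over S with f ≫ q = p, where p
is flat, closed and locally of finite presentation and q is closed and locally of finite type, there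
is an open subspace W of Z with the following property: a morphism of algebraic spaces g : Z' ⟶ Z
factors through W exactly when the base change X' ⟶ Y' of f along g is flat and surjective (on
points). Here the base change of f along g is any f' : X' ⟶ Y' obtained from pullback squares Y' = Y
×_Z Z' and X' = X ×_Y Y' of algebraic spaces over S, and W ⊂ Z is given as a representable open
immersion w : W ⟶ Z. -/
theorem result {S : Scheme.{u}} {X Y Z : AlgSp.Space S}
    (f : X ⟶ Y) (p : X ⟶ Z) (q : Y ⟶ Z) (hc : f ≫ q = p)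
    (hp1 : AlgSp.LocP @LocallyOfFinitePresentation p.hom) (hp2 : AlgSp.LocP @Flat p.hom)
    (hp3 : AlgSp.IsClosedMor p.hom) (hq1 : AlgSp.LocP @LocallyOfFiniteType q.hom)
    (hq2 : AlgSp.IsClosedMor q.hom) :
    ∃ (W : AlgSp.Space S) (w : W ⟶ Z), AlgSp.RepWith @IsOpenImmersion w.hom ∧
      ∀ (Z' : AlgSp.Space S) (g : Z' ⟶ Z),
        (∃ k : Z' ⟶ W, k ≫ w = g) ↔
          ∀ (Y' : AlgSp.Space S) (gY : Y' ⟶ Y) (q' : Y' ⟶ Z'),
            IsPullback gY.hom q'.hom q.hom g.hom →
            ∀ (X' : AlgSp.Space S) (gX : X' ⟶ X) (f' : X' ⟶ Y'),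
              IsPullback gX.hom f'.hom f.hom gY.hom →
                (AlgSp.IsSurjectiveMor f'.hom ∧ AlgSp.LocP @Flat f'.hom) := by
  open Groth.Agent.Lib.Seat45.FlatLoc in
  subst hc
  have hf : AlgSp.LocP @LocallyOfFinitePresentation f.hom :=
    locP_lfp_of_comp Z.property f.hom q.hom hp1 hq1
  have h609 := Groth.Agent.S10609.result f q hp1 hp2 hq1
  have himg : IsOpen (AlgSp.Points.map f.hom '' {x | AlgSp.IsFlatAtMor f.hom x}) := by
    have : {x : AlgSp.Points X.obj | AlgSp.IsFlatAtMor f.hom x} = {x | AlgSp.HasAtMor FlStQ f.hom x} := by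
      ext x
      exact isFlatAtMor_iff X.property Y.property f.hom hf x
    rw [this]
    exact isOpen_image_hasAtMor_flStQ f.hom hf
  refine Groth.Agent.Lib.Seat45.Where.exists_where₂ f (f ≫ q) q rfl hp3 hq2
    {x | AlgSp.IsFlatAtMor f.hom x}ᶜ h609.1.isClosed_compl
    (AlgSp.Points.map f.hom '' {x | AlgSp.IsFlatAtMor f.hom x})ᶜ himg.isClosed_compl
    (fun X' Y' f' => AlgSp.IsSurjectiveMor f'.hom ∧ AlgSp.LocP @Flat f'.hom) ?_
  intro Z' g Y' gY q' sq1 X' gX f' sq2
  have h2 := h609.2 X' Y' Z' g f' q' gX gY sq1 sq2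
  constructor
  · rintro ⟨hsurj, hflat⟩
    have hx : ∀ x' : AlgSp.Points X'.obj,
        AlgSp.Points.map gX.hom x' ∈ {x | AlgSp.IsFlatAtMor f.hom x} := fun x' =>
      (Set.ext_iff.1 h2 x').1 ((Groth.Agent.S10642.locP_flat_iff_forall_isFlatAtMor f'.hom).1 hflat x')
    refine ⟨fun x' h => h (hx x'), fun y' hy' => hy' ?_⟩
    obtain ⟨x', rfl⟩ := hsurj y'
    exact ⟨AlgSp.Points.map gX.hom x', hx x', by
      rw [← AlgSp.Points.map_comp, ← AlgSp.Points.map_comp, sq2.w]⟩
  · rintro ⟨hx, hy⟩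
    refine ⟨fun y' => ?_, (Groth.Agent.S10642.locP_flat_iff_forall_isFlatAtMor f'.hom).2 fun x' =>
      (Set.ext_iff.1 h2 x').2 (not_not.1 (hx x'))⟩
    obtain ⟨x, -, hxy⟩ : AlgSp.Points.map gY.hom y' ∈
        AlgSp.Points.map f.hom '' {x | AlgSp.IsFlatAtMor f.hom x} := not_not.1 (hy y')
    obtain ⟨x', -, hx'2⟩ := Groth.Agent.S10175.exists_point_of_isPullback sq2 x y' hxy
    exact ⟨x', hx'2⟩

end Groth.Agent.S10643
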