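import Groth.Statements.S10644
import Groth.Agent.Lib.Seat45ClosedImm
import Groth.Agent.S10641
import Groth.Agent.S10643
import Groth.Agent.S10582

set_option autoImplicit false
set_option linter.style.haveILetI false
universe u
open CategoryTheory CategoryTheory.Limits AlgebraicGeometry
open AlgSp

namespace Groth.Agent.S10644

/-- For morphisms f : X ⟶ Y, p : X ⟶ Z and q : Y ⟶ Z of algebraic spaces over S with f ≫ q = p, where p
is flat, universally closed and locally of finite presentation and q is closed, separated and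
locally of finite type, there is an open subspace W of Z with the following property: a morphism of
algebraic spaces g : Z' ⟶ Z factors through W exactly when the base change X' ⟶ Y' of f along g is
an isomorphism. Here the base change of f along g is any f' : X' ⟶ Y' obtained from pullback squares
Y' = Y ×_Z Z' and X' = X ×_Y Y' of algebraic spaces over S, and W ⊂ Z is given as a representable
open immersion w : W ⟶ Z. -/
theorem result {S : Scheme.{u}} {X Y Z : AlgSp.Space S}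
    (f : X ⟶ Y) (p : X ⟶ Z) (q : Y ⟶ Z) (hc : f ≫ q = p)
    (hp1 : AlgSp.LocP @LocallyOfFinitePresentation p.hom) (hp2 : AlgSp.LocP @Flat p.hom)
    (hp3 : AlgSp.IsUnivClosedMor p.hom) (hq1 : AlgSp.LocP @LocallyOfFiniteType q.hom)
    (hq2 : AlgSp.IsClosedMor q.hom) (hq3 : AlgSp.IsSeparatedMor q.hom) :
    ∃ (W : AlgSp.Space S) (w : W ⟶ Z), AlgSp.RepWith @IsOpenImmersion w.hom ∧
      ∀ (Z' : AlgSp.Space S) (g : Z' ⟶ Z),
        (∃ k : Z' ⟶ W, k ≫ w = g) ↔
          ∀ (Y' : AlgSp.Space S) (gY : Y' ⟶ Y) (q' : Y' ⟶ Z'),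
            IsPullback gY.hom q'.hom q.hom g.hom →
            ∀ (X' : AlgSp.Space S) (gX : X' ⟶ X) (f' : X' ⟶ Y'),
              IsPullback gX.hom f'.hom f.hom gY.hom →
                IsIso f'.hom := by
  have hp1' : AlgSp.LocP @LocallyOfFiniteType p.hom := fun U V a b h ha hb hc => by
    haveI : LocallyOfFinitePresentation h.left := hp1 a b h ha hb hc
    exact (inferInstance : LocallyOfFiniteType h.left)
  have hp3c : AlgSp.IsClosedMor p.hom := hp3 Z.property (𝟙 _) (𝟙 _) p.hom IsPullback.of_id_fst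
  obtain ⟨W₁, w₁, hw₁, hW₁⟩ := Groth.Agent.S10641.result f p q hc hp1' hp3 hq3
  obtain ⟨W₂, w₂, hw₂, hW₂⟩ := Groth.Agent.S10643.result f p q hc hp1 hp2 hp3c hq1 hq2
  obtain ⟨W, a₁, a₂, sqW⟩ := Groth.Agent.Lib.Seat45.Where.exists_pullback w₁ w₂
  have hW : a₁ ≫ w₁ = a₂ ≫ w₂ := by ext1; exact sqW.w
  refine ⟨W, a₁ ≫ w₁, ?_, fun Z' g => ?_⟩
  · exact (AlgSp.RepWith @IsOpenImmersion).comp_mem _ _
      (MorphismProperty.of_isPullback (P := AlgSp.RepWith @IsOpenImmersion) sqW.flip hw₂) hw₁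
  constructor
  · rintro ⟨k, hk⟩ Y' gY q' sq1 X' gX f' sq2
    have h1 := (hW₁ Z' g).1 ⟨k ≫ a₁, by rw [Category.assoc, hk]⟩ Y' gY q' sq1 X' gX f' sq2
    have h2 := (hW₂ Z' g).1 ⟨k ≫ a₂, by rw [Category.assoc, ← hW, hk]⟩ Y' gY q' sq1 X' gX f' sq2
    haveI := Groth.Agent.Lib.Seat45.ClosedImm.mono_of_isClosedImmersion f'.hom h1
    exact Groth.Agent.S10582.result f'
      (Groth.Agent.Lib.Helper12.Proper.isQuasiCompactMor_of_isClosedImmersion f'.hom h1) h2.2 h2.1
  · intro H
    obtain ⟨k₁, hk₁⟩ := (hW₁ Z' g).2 (fun Y' gY q' sq1 X' gX f' sq2 => by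
      haveI := H Y' gY q' sq1 X' gX f' sq2
      exact MorphismProperty.of_isIso (AlgSp.RepWith @IsClosedImmersion) f'.hom)
    obtain ⟨k₂, hk₂⟩ := (hW₂ Z' g).2 (fun Y' gY q' sq1 X' gX f' sq2 => by
      haveI := H Y' gY q' sq1 X' gX f' sq2
      refine ⟨fun x => ⟨AlgSp.Points.map (inv f'.hom) x, ?_⟩, ?_⟩
      · rw [← AlgSp.Points.map_comp, IsIso.inv_hom_id, AlgSp.Points.map_id]
      · rw [Groth.Agent.S9948.result @Flat (Or.inr (Or.inr (Or.inl rfl))) f'
          (MorphismProperty.of_isIso (AlgSp.RepWith @IsOpenImmersion) f'.hom).1]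
        exact MorphismProperty.of_isIso (AlgSp.RepWith @Flat) f'.hom)
    have hk12 : k₁.hom ≫ w₁.hom = k₂.hom ≫ w₂.hom := by
      have := hk₁.trans hk₂.symm
      exact congrArg (fun m => m.hom) this
    refine ⟨ObjectProperty.homMk (sqW.lift k₁.hom k₂.hom hk12), ?_⟩
    ext1
    change sqW.lift k₁.hom k₂.hom hk12 ≫ a₁.hom ≫ w₁.hom = g.hom
    rw [← Category.assoc, sqW.lift_fst]
    exact congrArg (fun m => m.hom) hk₁

end Groth.Agent.S10644
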