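import Groth.Statements.S10653
import Groth.Agent.Lib.Seat45FibDimSp
import Groth.Agent.S1240
import Groth.Agent.S10175
import Groth.Agent.S9912

set_option autoImplicit false
set_option linter.style.haveILetI false
universe u
open CategoryTheory CategoryTheory.Limits AlgebraicGeometry
open AlgSp

namespace Groth.Agent.S10653

/-- For a flat morphism f : X ⟶ Y of algebraic spaces over S which is locally of finite type, and an
open subspace j : V ⟶ Y with |V| dense in |Y| such that the base change X ×_Y V ⟶ V has relative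
dimension at most d (at every point some etale chart diagram has top arrow with local fibre
dimension at most d): if either j is quasi-compact or f is locally of finite presentation, then f
has relative dimension at most d at every point of |X|. -/
theorem result {S : Scheme.{u}} {X Y V : AlgSp.Space S} (f : X ⟶ Y) (j : V ⟶ Y) (d : ℕ)
    (hf1 : AlgSp.LocP @Flat f.hom) (hf2 : AlgSp.LocP @LocallyOfFiniteType f.hom)
    (hj1 : AlgSp.RepWith @IsOpenImmersion j.hom) (hj2 : Dense (Set.range (AlgSp.Points.map j.hom)))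
    (P : AlgSp.Space S) (fst : P ⟶ X) (snd : P ⟶ V) (hP : IsPullback fst.hom snd.hom f.hom j.hom)
    (hV : ∀ x, AlgSp.HasAtMor (fun _ _ h u => FlatMor.fibreDimAt h u ≤ (d : WithBot ℕ∞)) snd.hom x)
    (h : AlgSp.LocP @LocallyOfFinitePresentation f.hom ∨ AlgSp.IsQuasiCompactMor j.hom) :
    ∀ x, AlgSp.HasAtMor (fun _ _ h u => FlatMor.fibreDimAt h u ≤ (d : WithBot ℕ∞)) f.hom x := by
  intro x
  have hX := X.property
  have hY := Y.property
  obtain ⟨U, W, a, b, k, hae, has, hbe, hbs, hc⟩ :=
    Groth.Agent.Lib.Seat45.ChartsMor.exists_atlas_diagram hX hY f.hom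
  obtain ⟨u, rfl⟩ := Groth.Agent.S10177.surjective_ofPt a has x
  haveI : Flat k.left := hf1 a b k hae hbe hc
  haveI : LocallyOfFiniteType k.left := hf2 a b k hae hbe hc
  -- the open subscheme of `W` over `V`
  obtain ⟨T, i, q', sq⟩ := hj1.1 b
  haveI hi : IsOpenImmersion i.left := hj1.2 _ _ _ sq
  have hmem : ∀ w : ↥W.left, w ∈ Set.range i.left ↔
      AlgSp.Points.ofPt b w ∈ Set.range (AlgSp.Points.map j.hom) := by
    intro w
    constructor
    · rintro ⟨t, rfl⟩
      refine ⟨AlgSp.Points.ofPt q' t, ?_⟩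
      rw [AlgSp.Points.map_ofPt, sq.w, Groth.Agent.S10176.ofPt_map_comp]
    · rintro ⟨v, hv⟩
      obtain ⟨p, -, hp2⟩ := Groth.Agent.S10175.exists_point_of_isPullback sq v
        (AlgSp.Points.ofScheme W w) (by rw [hv, ← AlgSp.Points.ofPt_eq_map_ofScheme])
      obtain ⟨t, rfl⟩ := (AlgSp.Points.schemeEquiv T).surjective p
      refine ⟨t, (AlgSp.Points.schemeEquiv W).injective ?_⟩
      refine Eq.trans ?_ hp2
      change AlgSp.Points.ofScheme W (i.left t) = AlgSp.Points.map _ (AlgSp.Points.ofScheme T t)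
      rw [← AlgSp.Points.ofPt_eq_map_ofScheme, ← Category.comp_id ((AlgSp.yon S).map i),
        Groth.Agent.S10176.ofPt_map_comp]
  have hdense : Dense ((i.left.opensRange : W.left.Opens) : Set ↥W.left) := by
    have h1 : Dense (AlgSp.Points.ofPt b ⁻¹' Set.range (AlgSp.Points.map j.hom)) :=
      hj2.preimage (Groth.Agent.S10176.isOpenMap_ofPt b hbe)
    convert h1 using 1
    ext w
    exact hmem w
  have hle : ∀ u' : ↥U.left, k.left u' ∈ i.left.opensRange →
      FlatMor.fibreDimAt k.left u' ≤ (d : WithBot ℕ∞) := by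
    intro u' hu'
    obtain ⟨v, hv⟩ := (hmem _).1 hu'
    have e : AlgSp.Points.map f.hom (AlgSp.Points.ofPt a u') = AlgSp.Points.map j.hom v := by
      rw [hv, AlgSp.Points.map_ofPt, hc, Groth.Agent.S10176.ofPt_map_comp]
    obtain ⟨p, hp1, -⟩ := Groth.Agent.S10175.exists_point_of_isPullback hP _ _ e
    have h1 := (Groth.Agent.Lib.Seat45.FibDimSp.hasAtMor_fibreDimAt_baseChange_iff
      (fun e => e ≤ (d : WithBot ℕ∞)) hX hY V.property P.property hP hf2 p).2 (hV p)
    rw [hp1] at h1
    exact (Groth.Agent.Lib.Seat45.FibDimSp.hasAtMor_fibreDimAt_ofPt_iff (fun e => e ≤ (d : WithBot ℕ∞))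
      hX hY f.hom a b k hae hbe hc u').1 h1
  have hcase : LocallyOfFinitePresentation k.left ∨
      IsRetrocompact ((i.left.opensRange : W.left.Opens) : Set ↥W.left) := by
    rcases h with h | h
    · exact Or.inl (h a b k hae hbe hc)
    · right
      haveI : QuasiCompact i.left :=
        (Groth.Agent.S9912.repWith_quasiCompact_of_isQuasiCompactMor j.hom hj1.1 h).2 _ _ _ sq
      intro K hK hKo
      have h1 : IsCompact (i.left ⁻¹' K) := QuasiCompact.isCompact_preimage (f := i.left) K hKo hK
      have h2 := h1.image i.left.continuous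
      rwa [Set.image_preimage_eq_range_inter] at h2
  exact (Groth.Agent.Lib.Seat45.FibDimSp.hasAtMor_fibreDimAt_ofPt_iff (fun e => e ≤ (d : WithBot ℕ∞))
    hX hY f.hom a b k hae hbe hc u).2
    (Groth.Agent.S1240.result k.left i.left.opensRange hdense d hle hcase u)

end Groth.Agent.S10653
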