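import Groth.Statements.S10659
import Groth.Agent.S9883
import Groth.Agent.Lib.Seat47EtLoc

set_option autoImplicit false
universe u
open CategoryTheory CategoryTheory.Limits AlgebraicGeometry
open AlgSp

namespace Groth.Agent.S10659

/-- For a property P of morphisms of schemes that is etale local on the target (local for the etale
precoverage) and a representable morphism f : X ⟶ Y of algebraic spaces over S: if for one scheme V
with a representable etale surjective b : h_V ⟶ Y and one pullback square of f along b with corner
h_W the projection W ⟶ V has P, then f has P etale locally on the target in the representable sense,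
i.e. every such projection along every etale h_V ⟶ Y has P. (The published statement also asserts
the converse direction and that, for X and Y representable, the condition is equivalent to f having
P; this row states only that one surjective etale chart suffices.) -/
theorem result {S : Scheme.{u}} (P : MorphismProperty Scheme.{u}) [P.IsLocalAtTarget Scheme.etalePrecoverage]
    {X Y : AlgSp.Space S} (f : X ⟶ Y) (hf : AlgSp.Representable f.hom)
    {V W : Over S} (b : (AlgSp.yon S).obj V ⟶ Y.obj) (hb1 : AlgSp.RepWith @Etale b) (hb2 : AlgSp.RepWith @Surjective b)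
    (fst : (AlgSp.yon S).obj W ⟶ X.obj) (snd : W ⟶ V)
    (sq : IsPullback fst ((AlgSp.yon S).map snd) f.hom b) (hP : P snd.left) :
    AlgSp.RepLocT P f.hom := by
  refine ⟨hf, ?_⟩
  intro V' W' b' fst' snd' hb' sq'
  -- pull back the chart `b` along `b'`
  obtain ⟨T1, t1, u', sqT⟩ := hb1.1 b'
  obtain ⟨u, rfl⟩ := (AlgSp.yon S).map_surjective u'
  haveI : Etale t1.left := hb1.2 _ _ t1 sqT
  haveI : Surjective t1.left := hb2.2 _ _ t1 sqT
  haveI : Etale u.left := hb'.2 _ _ u sqT.flip
  have h1 : IsPullback ((AlgSp.yon S).map (pullback.fst snd' t1)) ((AlgSp.yon S).map (pullback.snd snd' t1))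
      ((AlgSp.yon S).map snd') ((AlgSp.yon S).map t1) :=
    (IsPullback.of_hasPullback snd' t1).map (AlgSp.yon S)
  have h2 : IsPullback ((AlgSp.yon S).map (pullback.fst snd u)) ((AlgSp.yon S).map (pullback.snd snd u))
      ((AlgSp.yon S).map snd) ((AlgSp.yon S).map u) :=
    (IsPullback.of_hasPullback snd u).map (AlgSp.yon S)
  have h1' := h1.paste_horiz sq'
  have h2' := h2.paste_horiz sq
  rw [← sqT.w] at h1'
  obtain ⟨e, he⟩ := Groth.Agent.S9883.exists_iso_of_isPullback h1' h2'
  have hsq2 : IsPullback (pullback.fst snd u).left (pullback.snd snd u).left snd.left u.left :=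
    (IsPullback.of_hasPullback snd u).map (Over.forget S)
  have hV : P (pullback.snd snd u).left :=
    Groth.Agent.Lib.Seat47.EtLoc.of_isPullback_etale P hsq2 hP
  have hW : P (pullback.snd snd' t1).left := by
    rw [← he]
    exact (P.cancel_left_of_respectsIso (e.hom.left) _).2 hV
  have hsq1 : IsPullback (pullback.fst snd' t1).left (pullback.snd snd' t1).left snd'.left t1.left :=
    (IsPullback.of_hasPullback snd' t1).map (Over.forget S)
  exact Groth.Agent.Lib.Seat47.EtLoc.descend_etale_surj P hsq1 hW

end Groth.Agent.S10659
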