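import Groth.Statements.S5003
import Groth.Agent.Lib.Seat22RegIdeal
import Groth.Agent.Lib.Seat22KerBasic
import Groth.Agent.S5802

set_option autoImplicit false
universe u
open CategoryTheory CategoryTheory.Limits AlgebraicGeometry TopologicalSpace
open Nrm16

namespace Groth.Agent.S5003

/-- Let X be a locally Noetherian scheme and j : Y ⟶ X a morphism. Then j is a regular immersion if and
only if j is a quasi-regular immersion. -/
theorem result {X Y : Scheme.{u}} [IsLocallyNoetherian X] (j : Y ⟶ X) :
    RegImm.IsRegularImmersion RegImm.Kind.regular j ↔ RegImm.IsRegularImmersion RegImm.Kind.quasi j := by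
  constructor
  · rintro ⟨himm, hz⟩
    refine ⟨himm, fun z => ?_⟩
    obtain ⟨U, hzU, hcl, rs, hrs, hker⟩ := hz z
    refine ⟨U, hzU, hcl, rs, ?_, hker⟩
    have hw : RingTheory.Sequence.IsWeaklyRegular Γ(X, U.1) (List.ofFn rs.get) := by
      rw [List.ofFn_get]
      exact hrs.toIsWeaklyRegular
    exact Groth.Agent.S5802.result Γ(X, U.1) rs.length rs.get hw
  · rintro ⟨himm, hz⟩
    refine ⟨himm, fun z => ?_⟩
    obtain ⟨U, hzU, hcl, rs, hrs, hker⟩ := hz z
    -- the preimage of `U` is affine, hence quasi-compact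
    have haff : IsAffineOpen (j ⁻¹ᵁ U.1) := by
      have : IsAffine (U.1 : Scheme.{u}) := U.2
      exact isAffine_of_isAffineHom (j ∣_ U.1)
    have hzero : ∀ f ∈ Ideal.ofList rs, j z ∉ X.basicOpen f := by
      intro f hf hzf
      rw [← hker, RingHom.mem_ker] at hf
      have h1 : z ∈ j ⁻¹ᵁ X.basicOpen f := hzf
      rw [Scheme.preimage_basicOpen] at h1
      have h2 : Y.basicOpen ((j.app U.1).hom f) = ⊥ := by
        rw [hf]; exact Y.basicOpen_zero _
      rw [h2] at h1
      exact h1
    obtain ⟨g, hxg, hreg⟩ :=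
      Groth.Agent.Lib.Seat22.RegIdeal.exists_basicOpen_isRegular U (j z) hzU rs hrs hzero
    refine ⟨X.affineBasicOpen g, hxg, ?_,
      rs.map (X.presheaf.map (homOfLE (X.basicOpen_le g)).op).hom, hreg, ?_⟩
    · have h1 : IsClosedImmersion (j ∣_ U.1 ∣_
          (U.1 : Scheme.{u}).basicOpen (X.presheaf.map (eqToHom U.1.isOpenEmbedding_obj_top).op g)) :=
        IsZariskiLocalAtTarget.restrict hcl _
      exact ((MorphismProperty.arrow_mk_iso_iff @IsClosedImmersion
        (morphismRestrictRestrictBasicOpen j U.1 g)).mp h1 :)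
    · have := Groth.Agent.Lib.Seat22.KerBasic.ker_app_basicOpen j U.2 haff.isCompact g
      rw [hker, Ideal.map_ofList] at this
      exact this

end Groth.Agent.S5003
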