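import Groth.Statements.S10661
import Groth.Agent.S8905
import Groth.Agent.S5003
import Groth.Agent.Lib.Seat45Noeth

set_option autoImplicit false
universe u
open CategoryTheory CategoryTheory.Limits AlgebraicGeometry
open AlgSp

namespace Groth.Agent.S10661

/-- For an immersion i : Z ⟶ X of algebraic spaces over S with X locally Noetherian (some etale
surjective chart is a locally Noetherian scheme), the three conditions Koszul-regular immersion,
H_1-regular immersion and quasi-regular immersion on i are equivalent. -/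
theorem result {S : Scheme.{u}} {Z X : AlgSp.Space S} (i : Z ⟶ X) (hi : AlgSp.RepWith @IsImmersion i.hom)
    (hX : AlgSp.IsLocNoethSp X.obj) :
    (AlgSp.IsRegImmMor RegImm.Kind.koszul i.hom ↔ AlgSp.IsRegImmMor RegImm.Kind.h1 i.hom) ∧
      (AlgSp.IsRegImmMor RegImm.Kind.h1 i.hom ↔ AlgSp.IsRegImmMor RegImm.Kind.quasi i.hom) := by
  have hN : ∀ {V : Over S} (b : (AlgSp.yon S).obj V ⟶ X.obj), AlgSp.RepWith @Etale b →
      IsLocallyNoetherian V.left := fun b hb =>
    Groth.Agent.Lib.Seat45.Noeth.isLocallyNoetherian_chart hX b hb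
  have hqk : ∀ {V W : Over S} (b : (AlgSp.yon S).obj V ⟶ X.obj) (snd : W ⟶ V),
      AlgSp.RepWith @Etale b → RegImm.IsRegularImmersion RegImm.Kind.quasi snd.left →
      RegImm.IsRegularImmersion RegImm.Kind.koszul snd.left := by
    intro V W b snd hb h
    haveI := hN b hb
    exact (Groth.Agent.S8905.result snd.left).1 ((Groth.Agent.S5003.result snd.left).2 h)
  refine ⟨⟨?_, ?_⟩, ⟨?_, ?_⟩⟩
  · rintro ⟨hrep, hall⟩
    exact ⟨hrep, fun V W b fst snd hb hsq =>
      (Groth.Agent.S8905.result snd.left).2.1 (hall b fst snd hb hsq)⟩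
  · rintro ⟨hrep, hall⟩
    exact ⟨hrep, fun V W b fst snd hb hsq =>
      hqk b snd hb ((Groth.Agent.S8905.result snd.left).2.2 (hall b fst snd hb hsq))⟩
  · rintro ⟨hrep, hall⟩
    exact ⟨hrep, fun V W b fst snd hb hsq =>
      (Groth.Agent.S8905.result snd.left).2.2 (hall b fst snd hb hsq)⟩
  · rintro ⟨hrep, hall⟩
    exact ⟨hrep, fun V W b fst snd hb hsq =>
      (Groth.Agent.S8905.result snd.left).2.1 (hqk b snd hb (hall b fst snd hb hsq))⟩

end Groth.Agent.S10661
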