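import Groth.Statements.S10665
import Groth.Agent.Lib.Seat31LciEtale
import Groth.Agent.Lib.Helper12LargestOpen
import Groth.Agent.S9947

set_option autoImplicit false
universe u
open CategoryTheory CategoryTheory.Limits AlgebraicGeometry
open AlgSp

namespace Groth.Agent.S10665

/-- A Koszul-regular immersion between algebraic spaces over S (representable, Koszul-regular immersion
on every etale scheme chart of the target) is a local complete intersection morphism (Koszul at
every point, etale locally on source and target). -/
theorem result {S : Scheme.{u}} {X Y : AlgSp.Space S} (i : X ⟶ Y) (hi : AlgSp.IsRegImmMor RegImm.Kind.koszul i.hom) :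
    AlgSp.IsLCIMor i.hom := by
  open Groth.Agent.Lib.Seat31.LciHom in
  intro U V a b h ha hb hcomm
  -- the base change of `i` along the chart `b`
  obtain ⟨W, snd, fst, sq⟩ := hi.1 b
  have hreg : RegImm.IsRegularImmersion .koszul snd.left := hi.2 b fst snd hb sq
  have hfst : AlgSp.RepWith @Etale fst := (AlgSp.RepWith @Etale).of_isPullback sq.flip hb
  -- the induced map `U ⟶ W`
  obtain ⟨e, he⟩ := (AlgSp.yon S).map_surjective (sq.lift a ((AlgSp.yon S).map h) hcomm)
  have he1 : (AlgSp.yon S).map e ≫ fst = a := by rw [he, sq.lift_fst]
  have he2 : e ≫ snd = h := by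
    apply (AlgSp.yon S).map_injective
    rw [Functor.map_comp, he, sq.lift_snd]
  -- it is etale
  have h1 : AlgSp.LocP @Etale ((AlgSp.yon S).map e ≫ fst) := by
    rw [he1]
    exact Groth.Agent.S9947.locP_of_repWith_etale @Etale (fun g hg => hg) a ha
  have h2 : AlgSp.LocP @Etale ((AlgSp.yon S).map e) :=
    Groth.Agent.Lib.Helper12.LargestOpen.locP_cancel_repEtale @Etale _ fst hfst h1
  haveI hee : Etale e.left := AlgSp.locP_yon_map h2
  -- conclusion
  have hl : LciM h.left := by
    rw [← he2, Over.comp_left]
    exact lciM_comp (lciM_of_smooth e.left) (lciM_of_regImm snd.left hreg)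
  exact isKoszulAt_of_lciM h.left hl

end Groth.Agent.S10665
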