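import Groth.Statements.S10669
import Groth.Agent.Lib.Seat47DvrRedSp

set_option autoImplicit false
universe u
open CategoryTheory CategoryTheory.Limits AlgebraicGeometry
open AlgSp

namespace Groth.Agent.S10669

/-- For a discrete valuation ring R with residue field κ and fraction field K and an algebraic space X
over Spec R whose structure morphism s (to the terminal sheaf h_{Spec R}) is flat and proper: if the
special fibre X ×_{Spec R} Spec κ is reduced (some etale surjective scheme chart is reduced), then X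
is reduced and so is the generic fibre X ×_{Spec R} Spec K. -/
theorem result (R : Type u) [CommRing R] [IsDomain R] [IsDiscreteValuationRing R]
    {X : AlgSp.Space (Spec (CommRingCat.of R))}
    (s : X.obj ⟶ (AlgSp.yon (Spec (CommRingCat.of R))).obj (Over.mk (𝟙 _)))
    (hs1 : AlgSp.IsProperMor s) (hs2 : AlgSp.LocP @Flat s)
    (h0 : ∀ (X0 : AlgSp.Sp (Spec (CommRingCat.of R))) (fst : X0 ⟶ X.obj)
      (snd : X0 ⟶ (AlgSp.yon (Spec (CommRingCat.of R))).obj
        (Over.mk (Spec.map (CommRingCat.ofHom (IsLocalRing.residue R))))),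
      IsPullback fst snd s ((AlgSp.yon (Spec (CommRingCat.of R))).map
        (Over.homMk (Spec.map (CommRingCat.ofHom (IsLocalRing.residue R))) (Category.comp_id _) :
          Over.mk (Spec.map (CommRingCat.ofHom (IsLocalRing.residue R))) ⟶ Over.mk (𝟙 _))) →
      AlgSp.EtaleLocally (fun U => IsReduced U) X0) :
    AlgSp.EtaleLocally (fun U => IsReduced U) X.obj ∧
      ∀ (Xη : AlgSp.Sp (Spec (CommRingCat.of R))) (fst : Xη ⟶ X.obj)
        (snd : Xη ⟶ (AlgSp.yon (Spec (CommRingCat.of R))).obj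
          (Over.mk (Spec.map (CommRingCat.ofHom (algebraMap R (FractionRing R)))))),
        IsPullback fst snd s ((AlgSp.yon (Spec (CommRingCat.of R))).map
          (Over.homMk (Spec.map (CommRingCat.ofHom (algebraMap R (FractionRing R)))) (Category.comp_id _) :
            Over.mk (Spec.map (CommRingCat.ofHom (algebraMap R (FractionRing R)))) ⟶ Over.mk (𝟙 _))) →
        AlgSp.EtaleLocally (fun U => IsReduced U) Xη := by
  obtain ⟨U, a, hae, has⟩ := X.property.atlas
  have hpt := Groth.Agent.Lib.Seat47.GeomConnProd.isTerminal_yon_mkId (S := Spec (CommRingCat.of R))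
  -- the chart is flat and locally of finite type over `Spec R`
  haveI hfl : Flat U.hom :=
    hs2 a (𝟙 _) (Groth.Agent.Lib.Seat47.DvrRedSp.toT U) hae (AlgSp.repWith_id _ _) (hpt.hom_ext _ _)
  haveI hlft : LocallyOfFiniteType U.hom :=
    hs1.2.1.1 a (𝟙 _) (Groth.Agent.Lib.Seat47.DvrRedSp.toT U) hae (AlgSp.repWith_id _ _)
      (hpt.hom_ext _ _)
  -- the special fibre of the chart is reduced
  have sq0 := IsPullback.of_hasPullback s ((AlgSp.yon (Spec (CommRingCat.of R))).map
    (Groth.Agent.Lib.Seat47.DvrRedSp.toT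
      (Over.mk (Spec.map (CommRingCat.ofHom (IsLocalRing.residue R))))))
  have hX0 := h0 _ _ _ sq0
  obtain ⟨a₀, sqa₀⟩ := Groth.Agent.Lib.Seat47.DvrRedSp.exists_chart s _ _ sq0 a
  have ha₀ : AlgSp.RepWith @Etale a₀ :=
    MorphismProperty.of_isPullback (P := AlgSp.RepWith @Etale) sqa₀.flip hae
  haveI : IsReduced (pullback U.hom (Spec.map (CommRingCat.ofHom (IsLocalRing.residue R)))) :=
    Groth.Agent.S10242.isReduced_chart hX0 a₀ ha₀
  have hU : IsReduced U.left := by
    apply Groth.Agent.Lib.Seat47.DvrRedSp.isReduced_of_redLocus_eq_univ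
    by_contra hne
    obtain ⟨u₀, hu₀⟩ : ∃ u₀, u₀ ∉ Groth.Agent.Lib.Seat47.DvrRedSp.redLocus U.left := by
      by_contra h
      push_neg at h
      exact hne (Set.eq_univ_of_forall h)
    have hZ := Groth.Agent.Lib.Seat47.DvrRedSp.isClosed_image_compl_redLocus a hae has
    have hcl : IsClosedMap (AlgSp.Points.map s) :=
      hs1.2.2 (AlgSp.IsAlgSpace.yon_obj _) (𝟙 _) (𝟙 _) s IsPullback.of_id_fst
    have hC' : IsClosed ((AlgSp.Points.schemeHomeo (Over.mk (𝟙 (Spec (CommRingCat.of R))))) ⁻¹'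
        (AlgSp.Points.map s '' (AlgSp.Points.ofPt a ''
          (Groth.Agent.Lib.Seat47.DvrRedSp.redLocus U.left)ᶜ))) :=
      (hcl _ hZ).preimage (AlgSp.Points.schemeHomeo _).continuous
    have key : ∀ u : ↥U.left, AlgSp.Points.map s (AlgSp.Points.ofPt a u) =
        AlgSp.Points.schemeHomeo (Over.mk (𝟙 (Spec (CommRingCat.of R)))) (U.hom u) := by
      intro u
      rw [AlgSp.Points.map_ofPt]
      have : a ≫ s = (AlgSp.yon _).map (Groth.Agent.Lib.Seat47.DvrRedSp.toT U) ≫ 𝟙 _ :=
        hpt.hom_ext _ _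
      rw [this, Groth.Agent.S10176.ofPt_map_comp]
      rfl
    have h1 : U.hom u₀ ∈ ((AlgSp.Points.schemeHomeo (Over.mk (𝟙 (Spec (CommRingCat.of R))))) ⁻¹'
        (AlgSp.Points.map s '' (AlgSp.Points.ofPt a ''
          (Groth.Agent.Lib.Seat47.DvrRedSp.redLocus U.left)ᶜ))) :=
      ⟨AlgSp.Points.ofPt a u₀, ⟨u₀, hu₀, rfl⟩, key u₀⟩
    have h2 : IsLocalRing.closedPoint R ∈
        ((AlgSp.Points.schemeHomeo (Over.mk (𝟙 (Spec (CommRingCat.of R))))) ⁻¹'
        (AlgSp.Points.map s '' (AlgSp.Points.ofPt a ''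
          (Groth.Agent.Lib.Seat47.DvrRedSp.redLocus U.left)ᶜ))) :=
      (IsLocalRing.specializes_closedPoint (U.hom u₀)).mem_closed hC' h1
    obtain ⟨_, ⟨u₁, hu₁, rfl⟩, e⟩ := h2
    rw [key] at e
    have e' : U.hom u₁ = IsLocalRing.closedPoint R := (AlgSp.Points.schemeHomeo _).injective e
    exact hu₁ (Groth.Agent.Lib.Seat47.DvrRedSch.exists_open_isReduced_stalk R U.hom u₁ e')
  refine ⟨⟨U, a, hae, has, hU⟩, ?_⟩
  intro Xη fst snd sq
  obtain ⟨aη, sqaη⟩ := Groth.Agent.Lib.Seat47.DvrRedSp.exists_chart s fst snd sq a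
  refine ⟨_, aη, MorphismProperty.of_isPullback (P := AlgSp.RepWith @Etale) sqaη.flip hae,
    MorphismProperty.of_isPullback (P := AlgSp.RepWith @Surjective) sqaη.flip has, ?_⟩
  haveI := Groth.Agent.Lib.Seat47.DvrRedSp.isOpenImmersion_generic R
  exact isReduced_of_isOpenImmersion
    (pullback.fst U.hom (Spec.map (CommRingCat.ofHom (algebraMap R (FractionRing R)))))

end Groth.Agent.S10669
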