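import Groth.Statements.S10670
import Groth.Agent.Lib.Seat47GeomConnFibre

set_option autoImplicit false
universe u
open CategoryTheory CategoryTheory.Limits AlgebraicGeometry
open AlgSp

namespace Groth.Agent.S10670

/-- For morphisms f : X ⟶ Y and g : Y' ⟶ Y between algebraic spaces over S, f' : X' ⟶ Y' the base change
of f along g, an algebraically closed field point k' of Y' and an algebraically closed field point k
of Y whose class in |Y| is the image of the class of k', the fibres X'_{k'} and X_k (pullbacks in
fppf sheaves) have the same number of connected components of their spaces of points, counted in ℕ∞.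
With g the identity this says the number of geometric connected components of the fibre over a point
of |Y| is well defined. -/
theorem result {S : Scheme.{u}} {X Y X' Y' : AlgSp.Space S} (f : X ⟶ Y) (g : Y' ⟶ Y) (gX : X' ⟶ X) (f' : X' ⟶ Y')
    (hsq : IsPullback gX.hom f'.hom f.hom g.hom)
    (k' : AlgSp.FieldPt Y'.obj) (hk' : k'.IsGeometric) (k : AlgSp.FieldPt Y.obj) (hk : k.IsGeometric)
    (hkk : AlgSp.Points.mk k = AlgSp.Points.map g.hom (AlgSp.Points.mk k'))
    (Xk' : AlgSp.Sp S) (a' : Xk' ⟶ X'.obj) (b' : Xk' ⟶ (AlgSp.yon S).obj k'.pt) (h' : IsPullback a' b' f'.hom k'.toHom)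
    (Xk : AlgSp.Sp S) (a : Xk ⟶ X.obj) (b : Xk ⟶ (AlgSp.yon S).obj k.pt) (h : IsPullback a b f.hom k.toHom) :
    ENat.card (_root_.ConnectedComponents (AlgSp.Points Xk')) = ENat.card (_root_.ConnectedComponents (AlgSp.Points Xk)) := by
  haveI : IsAlgClosed k'.K := hk'
  haveI : IsAlgClosed k.K := hk
  have big : IsPullback (a' ≫ gX.hom) b' f.hom (k'.map g.hom).toHom := by
    rw [AlgSp.FieldPt.toHom_map]
    exact h'.paste_horiz hsq
  have hrel : AlgSp.FieldPt.Rel (k'.map g.hom) k := by
    rw [← AlgSp.Points.mk_eq_mk_iff, hkk]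
    rfl
  haveI : IsSepClosed (k'.map g.hom).K := (inferInstance : IsSepClosed k'.K)
  exact Groth.Agent.Lib.Seat47.GeomConnFibre.card_connectedComponents_fibre_eq_of_rel f.hom
    (k'.map g.hom) k hrel big h

end Groth.Agent.S10670
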