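import Groth.Statements.S10679
import Groth.Agent.Lib.Seat45FibDimSemi2

set_option autoImplicit false
set_option linter.style.haveILetI false
universe u
open CategoryTheory CategoryTheory.Limits AlgebraicGeometry
open AlgSp

namespace Groth.Agent.S10679

/-- For a flat morphism f : X ⟶ Y of algebraic spaces over S which is of finite presentation, the fibre
dimension function on |Y|, y ↦ dimension of X_k for a field point k in the class of y, is lower
semi-continuous: for every d the set of y such that every fibre X_k over y (k a field point in the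
class of y, X_k any pullback in fppf sheaves) has dimension greater than d is open. -/
theorem result {S : Scheme.{u}} {X Y : AlgSp.Space S} (f : X ⟶ Y)
    (hf1 : AlgSp.LocP @Flat f.hom) (hf2 : AlgSp.IsFinitePresentationMor f.hom) (d : WithBot ℕ∞) :
    IsOpen {y : AlgSp.Points Y.obj | ∀ (k : AlgSp.FieldPt Y.obj), AlgSp.Points.mk k = y →
      ∀ (Xk : AlgSp.Sp S) (fst : Xk ⟶ X.obj) (snd : Xk ⟶ (AlgSp.yon S).obj k.pt),
        IsPullback fst snd f.hom k.toHom → d < AlgSp.dim Xk} := by
  open Groth.Agent.Lib.Seat45.FibDimSemi in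
  obtain ⟨hfp, hqc, hqs⟩ := hf2
  have hlft : AlgSp.LocP @LocallyOfFiniteType f.hom := fun U V a b h ha hb hc => by
    haveI : LocallyOfFinitePresentation h.left := hfp a b h ha hb hc
    infer_instance
  have hft : AlgSp.IsFiniteTypeMor f.hom := ⟨hlft, hqc⟩
  have hset : {y : AlgSp.Points Y.obj | ∀ (k : AlgSp.FieldPt Y.obj), AlgSp.Points.mk k = y →
      ∀ (Xk : AlgSp.Sp S) (fst : Xk ⟶ X.obj) (snd : Xk ⟶ (AlgSp.yon S).obj k.pt),
        IsPullback fst snd f.hom k.toHom → d < AlgSp.dim Xk} = {y | d < fibDim f y} := by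
    ext y
    exact fibreAll_iff f hft (fun e => d < e) y
  rw [hset]
  induction d using WithBot.recBotCoe with
  | bot =>
    have h1 : {y | (⊥ : WithBot ℕ∞) < fibDim f y} = Set.range (AlgSp.Points.map f.hom) := by
      ext y
      rw [Set.mem_setOf_eq, bot_lt_iff_ne_bot, Ne, fibDim_eq_bot_iff f hft, not_not]
    rw [h1]
    have hopen : IsOpenMap (AlgSp.Points.map f.hom) :=
      Groth.Agent.S9962.result f hf1 hfp Y.property (𝟙 _) (𝟙 _) f.hom IsPullback.of_id_fst
    exact hopen.isOpen_range
  | coe m =>
    induction m using ENat.recTopCoe with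
    | top =>
      have h1 : {y | ((⊤ : ℕ∞) : WithBot ℕ∞) < fibDim f y} = ∅ := by
        ext y
        simp only [Set.mem_setOf_eq, Set.mem_empty_iff_false, iff_false]
        exact not_top_lt
      rw [h1]
      exact isOpen_empty
    | coe n =>
      have h1 : {y | ((n : ℕ∞) : WithBot ℕ∞) < fibDim f y} = {y | fibDim f y ≤ (n : WithBot ℕ∞)}ᶜ := by
        ext y
        simp only [Set.mem_setOf_eq, Set.mem_compl_iff, not_le]
        rfl
      rw [h1, setOf_fibDim_le_eq f hft, compl_compl]
      exact isOpen_image_not_hasAtMor_le X.property Y.property f.hom hf1 hfp n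

end Groth.Agent.S10679
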