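import Groth.Statements.S10681
import Groth.Agent.Lib.Seat47GeomConnNbhd2
import Groth.Agent.Lib.Seat47GeomConnNbhd3
import Groth.Agent.Lib.Helper9SpPoint6

set_option autoImplicit false
universe u
open CategoryTheory CategoryTheory.Limits AlgebraicGeometry
open AlgSp

namespace Groth.Agent.S10681

/-- For a morphism f : X ⟶ Y between algebraic spaces over S and a geometric point ȳ of Y (an
algebraically closed field point), the geometric fibre X_ȳ (pullback in fppf sheaves) has connected
space of points if and only if for every scheme V with a representable etale a : h_V ⟶ Y and every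
point v of V through which ȳ factors, the fibre of X ×_Y V ⟶ V over v (pullback along the residue
field point of v) has connected space of points. -/
theorem result {S : Scheme.{u}} {X Y : AlgSp.Space S} (f : X ⟶ Y) (yb : AlgSp.FieldPt Y.obj) (hyb : yb.IsGeometric)
    (Xyb : AlgSp.Sp S) (fst : Xyb ⟶ X.obj) (snd : Xyb ⟶ (AlgSp.yon S).obj yb.pt) (h : IsPullback fst snd f.hom yb.toHom) :
    ConnectedSpace (AlgSp.Points Xyb) ↔
      ∀ (V : Over S) (a : (AlgSp.yon S).obj V ⟶ Y.obj), AlgSp.RepWith @Etale a →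
        ∀ (v : ↥V.left) (c : yb.pt ⟶ V), (AlgSp.yon S).map c ≫ a = yb.toHom → c.left (IsLocalRing.closedPoint yb.K) = v →
          ∀ (Xv : AlgSp.Sp S) (fst' : Xv ⟶ X.obj)
            (snd' : Xv ⟶ (AlgSp.yon S).obj (Over.mk (V.left.fromSpecResidueField v ≫ V.hom))),
            IsPullback fst' snd' f.hom ((AlgSp.yon S).map (Over.homMk (V.left.fromSpecResidueField v) rfl :
              Over.mk (V.left.fromSpecResidueField v ≫ V.hom) ⟶ V) ≫ a) →
            ConnectedSpace (AlgSp.Points Xv) := by
  constructor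
  · -- forward
    intro hconn V a hae v c hc hv Xv fst' snd' h'
    subst hv
    let cl : Spec (CommRingCat.of yb.K) ⟶ V.left := c.left
    let φ₀ : V.left.residueField (cl (IsLocalRing.closedPoint yb.K)) ⟶ CommRingCat.of yb.K :=
      Scheme.descResidueField (Scheme.stalkClosedPointTo cl)
    have hφ₀ : Spec.map φ₀ ≫ V.left.fromSpecResidueField (cl (IsLocalRing.closedPoint yb.K)) =
        cl :=
      Scheme.descResidueField_stalkClosedPointTo_fromSpecResidueField yb.K V.left cl
    let γ : yb.pt ⟶ Over.mk (V.left.fromSpecResidueField (c.left (IsLocalRing.closedPoint yb.K)) ≫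
        V.hom) := Over.homMk (Spec.map φ₀) (by
      show Spec.map φ₀ ≫ (V.left.fromSpecResidueField _ ≫ V.hom) = yb.str
      rw [← Category.assoc, hφ₀]
      exact Over.w c)
    have hγ : γ ≫ (Over.homMk (V.left.fromSpecResidueField (c.left (IsLocalRing.closedPoint yb.K)))
        rfl : Over.mk (V.left.fromSpecResidueField (c.left (IsLocalRing.closedPoint yb.K)) ≫
          V.hom) ⟶ V) = c := by
      apply Over.OverMorphism.ext
      exact hφ₀
    have hsurj : Function.Surjective γ.left := by
      intro x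
      refine ⟨IsLocalRing.closedPoint yb.K, ?_⟩
      exact Subsingleton.elim (α := ↥(Spec (V.left.residueField
        (c.left (IsLocalRing.closedPoint yb.K))))) _ _
    have h1 : (AlgSp.yon S).map γ ≫ ((AlgSp.yon S).map
        (Over.homMk (V.left.fromSpecResidueField (c.left (IsLocalRing.closedPoint yb.K))) rfl :
          Over.mk (V.left.fromSpecResidueField (c.left (IsLocalRing.closedPoint yb.K)) ≫ V.hom) ⟶
            V) ≫ a) = yb.toHom := by
      rw [← Category.assoc, ← Functor.map_comp, hγ, hc]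
    exact Groth.Agent.Lib.Seat47.GeomConnNbhd.connectedSpace_of_point_map f.hom γ hsurj _ _ h1 h h'
  · -- backward
    intro H
    haveI : IsAlgClosed yb.K := hyb
    obtain ⟨V₀, a₀, hae₀, has₀⟩ := Y.property.atlas
    obtain ⟨v₀, hv₀⟩ := Groth.Agent.S10177.surjective_ofPt a₀ has₀ (AlgSp.Points.mk yb)
    obtain ⟨⟨c₀, hc₀⟩⟩ := Groth.Agent.Lib.Helper9.SpPoint.exists_lift_of_ofPt_eq_mk yb hyb
      (AlgSp.EtOver.mk a₀ hae₀) v₀ hv₀
    change yb.pt ⟶ V₀ at c₀
    change (AlgSp.yon S).map c₀ ≫ a₀ = yb.toHom at hc₀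
    let cl : Spec (CommRingCat.of yb.K) ⟶ V₀.left := c₀.left
    let φ₀ : V₀.left.residueField (cl (IsLocalRing.closedPoint yb.K)) ⟶ CommRingCat.of yb.K :=
      Scheme.descResidueField (Scheme.stalkClosedPointTo cl)
    have hφ₀ : Spec.map φ₀ ≫ V₀.left.fromSpecResidueField (cl (IsLocalRing.closedPoint yb.K)) = cl :=
      Scheme.descResidueField_stalkClosedPointTo_fromSpecResidueField yb.K V₀.left cl
    -- notation
    letI : Algebra (V₀.left.residueField (cl (IsLocalRing.closedPoint yb.K))) yb.K := φ₀.hom.toAlgebra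
    have halg : CommRingCat.ofHom (algebraMap (V₀.left.residueField (cl (IsLocalRing.closedPoint yb.K))) yb.K) = φ₀ := rfl
    let str : Spec (CommRingCat.of (V₀.left.residueField (cl (IsLocalRing.closedPoint yb.K)))) ⟶ S := V₀.left.fromSpecResidueField (cl (IsLocalRing.closedPoint yb.K)) ≫ V₀.hom
    let ι₀ : Over.mk str ⟶ V₀ := Over.homMk (V₀.left.fromSpecResidueField (cl (IsLocalRing.closedPoint yb.K))) rfl
    let t₀ : (AlgSp.yon S).obj (Over.mk str) ⟶ Y.obj := (AlgSp.yon S).map ι₀ ≫ a₀
    -- transfer from the relative base change to the given fibre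
    suffices hK : ConnectedSpace (AlgSp.Points
        (Groth.Agent.Lib.Seat47.RelFieldBC.ZE str (pullback.snd f.hom t₀) yb.K)) by
      let θ : Groth.Agent.Lib.Seat47.RelFieldBC.ptR str yb.K ⟶ yb.pt := Over.homMk (𝟙 _) (by
        show 𝟙 _ ≫ yb.str = Spec.map (CommRingCat.ofHom (algebraMap (V₀.left.residueField (cl (IsLocalRing.closedPoint yb.K))) yb.K)) ≫ str
        rw [Category.id_comp, halg, ← Category.assoc, hφ₀]
        exact (Over.w c₀).symm)
      have hθ : Function.Surjective θ.left := fun x => ⟨x, rfl⟩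
      have hsq := Groth.Agent.Lib.Seat47.GeomConnNbhd.isPullback_ZE f.hom str t₀ yb.K
      have e1 : (AlgSp.yon S).map θ ≫ yb.toHom =
          (AlgSp.yon S).map (Groth.Agent.Lib.Seat47.RelFieldBC.ptBase str yb.K) ≫ t₀ := by
        rw [← hc₀, ← Category.assoc, ← Category.assoc, ← Functor.map_comp, ← Functor.map_comp]
        congr 2
        apply Over.OverMorphism.ext
        show 𝟙 _ ≫ c₀.left = Spec.map (CommRingCat.ofHom (algebraMap (V₀.left.residueField (cl (IsLocalRing.closedPoint yb.K))) yb.K)) ≫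
          V₀.left.fromSpecResidueField (cl (IsLocalRing.closedPoint yb.K))
        rw [Category.id_comp, halg]
        exact hφ₀.symm
      exact Groth.Agent.Lib.Seat47.GeomConnNbhd.connectedSpace_of_point_map f.hom θ hθ yb.toHom _ e1
        hsq h
    -- reduce to the finite separable levels
    apply Groth.Agent.Lib.Seat47.GeomConnNbhd.connectedSpace_fibre_of_finite_levels f str t₀ yb.K
    intro E hE
    haveI : Algebra.IsSeparable (V₀.left.residueField (cl (IsLocalRing.closedPoint yb.K))) E :=
      Algebra.isSeparable_tower_bot_of_isSeparable (V₀.left.residueField (cl (IsLocalRing.closedPoint yb.K))) E (separableClosure (V₀.left.residueField (cl (IsLocalRing.closedPoint yb.K))) yb.K)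
    obtain ⟨V, g, w, l, m, hg, hl1, hl2, hm⟩ :=
      Groth.Agent.Lib.Seat47.GeomConnNbhd.exists_nbhd_scheme V₀.left (cl (IsLocalRing.closedPoint yb.K)) E yb.K cl rfl
    let Vo : Over S := Over.mk (g ≫ V₀.hom)
    let φ : Vo ⟶ V₀ := Over.homMk g rfl
    have hφe : AlgSp.RepWith @Etale ((AlgSp.yon S).map φ) :=
      (AlgSp.repWith_yon_map_iff @Etale φ).2 hg
    have hae : AlgSp.RepWith @Etale ((AlgSp.yon S).map φ ≫ a₀) :=
      (AlgSp.RepWith @Etale).comp_mem _ _ hφe hae₀
    let c : yb.pt ⟶ Vo := Over.homMk l (by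
      show l ≫ g ≫ V₀.hom = yb.str
      rw [← Category.assoc, hl1]
      exact Over.w c₀)
    have hc : (AlgSp.yon S).map c ≫ (AlgSp.yon S).map φ ≫ a₀ = yb.toHom := by
      rw [← Category.assoc, ← Functor.map_comp, ← hc₀]
      congr 2
      apply Over.OverMorphism.ext
      exact hl1
    have hsq1 := IsPullback.of_hasPullback f.hom ((AlgSp.yon S).map
        (Over.homMk (Vo.left.fromSpecResidueField w) rfl :
          Over.mk (Vo.left.fromSpecResidueField w ≫ Vo.hom) ⟶ Vo) ≫ (AlgSp.yon S).map φ ≫ a₀)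
    haveI hconn := H Vo ((AlgSp.yon S).map φ ≫ a₀) hae w c hc hl2 _ _ _ hsq1
    let θ : Over.mk (Vo.left.fromSpecResidueField w ≫ Vo.hom) ⟶
        Groth.Agent.Lib.Seat47.RelFieldBC.ptR str E := Over.homMk m (by
      show m ≫ (Spec.map (CommRingCat.ofHom (algebraMap (V₀.left.residueField (cl (IsLocalRing.closedPoint yb.K))) E)) ≫ str) =
        V.fromSpecResidueField w ≫ g ≫ V₀.hom
      rw [← Category.assoc (V.fromSpecResidueField w), ← hm]
      simp only [Category.assoc]
      rfl)
    have hθ : Function.Surjective θ.left := by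
      intro x
      obtain ⟨y⟩ : Nonempty ↥(Spec (V.residueField w)) := inferInstance
      exact ⟨y, Subsingleton.elim (α := PrimeSpectrum E) _ _⟩
    have e2 : (AlgSp.yon S).map θ ≫ ((AlgSp.yon S).map
        (Groth.Agent.Lib.Seat47.RelFieldBC.ptBase str E) ≫ t₀) =
        (AlgSp.yon S).map (Over.homMk (Vo.left.fromSpecResidueField w) rfl :
          Over.mk (Vo.left.fromSpecResidueField w ≫ Vo.hom) ⟶ Vo) ≫ (AlgSp.yon S).map φ ≫ a₀ := by
      simp only [t₀, ← Category.assoc, ← Functor.map_comp]
      congr 2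
      apply Over.OverMorphism.ext
      show (m ≫ Spec.map (CommRingCat.ofHom (algebraMap (V₀.left.residueField (cl (IsLocalRing.closedPoint yb.K))) E))) ≫
        V₀.left.fromSpecResidueField (cl (IsLocalRing.closedPoint yb.K)) = V.fromSpecResidueField w ≫ g
      rw [Category.assoc]
      exact hm
    exact Groth.Agent.Lib.Seat47.GeomConnNbhd.connectedSpace_of_point_map f.hom θ hθ _ _ e2 hsq1
      (Groth.Agent.Lib.Seat47.GeomConnNbhd.isPullback_ZE f.hom str t₀ E)

end Groth.Agent.S10681
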