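import Groth.Statements.S10682
import Groth.Agent.Lib.Seat47GeomRedOpen

set_option autoImplicit false
universe u
open CategoryTheory CategoryTheory.Limits AlgebraicGeometry
open AlgSp

namespace Groth.Agent.S10682

/-- For a flat proper morphism f : X ⟶ Y between algebraic spaces over S which is of finite
presentation, the set of points y of |Y| at which the fibre of f is geometrically reduced is open in
|Y|; here the fibre of f at y being geometrically reduced means: for every field point k of Y in the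
class of y and every field homomorphism k ⟶ k', the base change X_{k'} (pullback in fppf sheaves) is
reduced (some etale surjective scheme chart is reduced). -/
theorem result {S : Scheme.{u}} {X Y : AlgSp.Space S} (f : X ⟶ Y)
    (hf1 : AlgSp.LocP @Flat f.hom) (hf2 : AlgSp.IsProperMor f.hom) (hf3 : AlgSp.IsFinitePresentationMor f.hom) :
    IsOpen {y : AlgSp.Points Y.obj | ∀ (k : AlgSp.FieldPt Y.obj), AlgSp.Points.mk k = y →
        ∀ (k' : Type u) [Field k'] (φ : k.K →+* k') (Xk' : AlgSp.Sp S) (a : Xk' ⟶ X.obj)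
          (b : Xk' ⟶ (AlgSp.yon S).obj (Over.mk (Spec.map (CommRingCat.ofHom φ) ≫ k.str))),
          IsPullback a b f.hom ((AlgSp.yon S).map (Over.homMk (Spec.map (CommRingCat.ofHom φ)) rfl :
            Over.mk (Spec.map (CommRingCat.ofHom φ) ≫ k.str) ⟶ k.pt) ≫ k.toHom) →
          AlgSp.EtaleLocally (fun U => IsReduced U) Xk'} := by
  obtain ⟨V₀, a₀, hae₀, has₀⟩ := Y.property.atlas
  rw [← (Groth.Agent.S10177.isQuotientMap_ofPt a₀ hae₀ has₀).isOpen_preimage]
  rw [isOpen_iff_forall_mem_open]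
  intro v₀ hv₀
  obtain ⟨V', hV', hvV'⟩ : ∃ V' : V₀.left.Opens, IsAffineOpen V' ∧ v₀ ∈ V' := by
    obtain ⟨_, ⟨V', hV', rfl⟩, hvV', -⟩ :=
      V₀.left.isBasis_affineOpens.exists_subset_of_mem_open (Set.mem_univ v₀) isOpen_univ
    exact ⟨V', hV', hvV'⟩
  let V : Over S := Over.mk (V'.ι ≫ V₀.hom)
  let j : V ⟶ V₀ := Over.homMk V'.ι rfl
  have hje : AlgSp.RepWith @Etale ((AlgSp.yon S).map j) :=
    (AlgSp.repWith_yon_map_iff @Etale j).2 (inferInstance : Etale V'.ι)
  have ha : AlgSp.RepWith @Etale ((AlgSp.yon S).map j ≫ a₀) :=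
    (AlgSp.RepWith @Etale).comp_mem _ _ hje hae₀
  haveI : IsAffine V.left := hV'
  -- a quasi-compact chart of `X ×_Y h_V`
  have hVqc : AlgSp.IsQuasiCompactSp ((AlgSp.yon S).obj V) :=
    ⟨V, 𝟙 _, AlgSp.repWith_id _ V, AlgSp.repWith_id _ V, inferInstance⟩
  obtain ⟨U, p, hpe, hps, hUc⟩ := hf3.2.1 (AlgSp.IsAlgSpace.yon_obj V) hVqc
    ((AlgSp.yon S).map j ≫ a₀) _ _ (IsPullback.of_hasPullback f.hom ((AlgSp.yon S).map j ≫ a₀))
  haveI : CompactSpace ↥U.left := hUc
  obtain ⟨g, hg⟩ := (AlgSp.yon S).map_surjective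
    (p ≫ pullback.snd f.hom ((AlgSp.yon S).map j ≫ a₀))
  have hfst : AlgSp.RepWith @Etale (pullback.fst f.hom ((AlgSp.yon S).map j ≫ a₀)) :=
    MorphismProperty.of_isPullback (P := AlgSp.RepWith @Etale)
      (IsPullback.of_hasPullback f.hom ((AlgSp.yon S).map j ≫ a₀)).flip ha
  haveI : LocallyOfFinitePresentation g.left :=
    hf3.1 (p ≫ pullback.fst f.hom ((AlgSp.yon S).map j ≫ a₀)) ((AlgSp.yon S).map j ≫ a₀) g
      ((AlgSp.RepWith @Etale).comp_mem _ _ hpe hfst) ha
      (by rw [Category.assoc, pullback.condition, ← Category.assoc, hg])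
  haveI : QuasiCompact g.left :=
    (HasAffineProperty.iff_of_isAffine (P := @QuasiCompact)).mpr (inferInstance : CompactSpace ↥U.left)
  have hopen : IsOpen (Groth.Agent.Lib.Helper6.GeomRedConstr.GR g.left) :=
    Groth.Agent.Lib.Helper3.FlatFibDim.isOpen_of_isLocallyConstructible_of_stableUnderGeneralization
      (Groth.Agent.Lib.Helper6.GeomRedConstr.isLocallyConstructible_GR g.left)
      (Groth.Agent.Lib.Seat47.ValRedSp.stableUnderGeneralization_GR_chart f hf1 hf2.2.1.1 hf2.2.2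
        ((AlgSp.yon S).map j ≫ a₀) ha p hpe hps g hg)
  rw [← Groth.Agent.Lib.Seat47.GeomRedOpen.preimage_eq_GR f ((AlgSp.yon S).map j ≫ a₀) p hpe hps g hg]
    at hopen
  refine ⟨V'.ι '' _, ?_, V'.ι.isOpenEmbedding.isOpenMap _ hopen, ⟨⟨v₀, hvV'⟩, ?_, rfl⟩⟩
  · rintro _ ⟨w, hw, rfl⟩
    have e : AlgSp.Points.ofPt ((AlgSp.yon S).map j ≫ a₀) w = AlgSp.Points.ofPt a₀ (j.left w) :=
      Groth.Agent.S10176.ofPt_map_comp j a₀ w
    rw [Set.mem_preimage] at hw ⊢
    rw [e] at hw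
    exact hw
  · have e : AlgSp.Points.ofPt ((AlgSp.yon S).map j ≫ a₀) (⟨v₀, hvV'⟩ : ↥V') =
        AlgSp.Points.ofPt a₀ (j.left ⟨v₀, hvV'⟩) :=
      Groth.Agent.S10176.ofPt_map_comp j a₀ _
    rw [Set.mem_preimage, e]
    exact hv₀

end Groth.Agent.S10682
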