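import Groth.Statements.S10683
import Groth.Agent.Lib.Seat47GeomRedConstr
import Groth.Agent.Lib.Helper6GeomRedConstr
import Groth.Agent.S10686

set_option autoImplicit false
universe u
open CategoryTheory CategoryTheory.Limits AlgebraicGeometry
open AlgSp

namespace Groth.Agent.S10683

/-- For a quasi-compact morphism f : X ⟶ Y between algebraic spaces over S which is locally of finite
presentation, the set E of points of |Y| at which the fibre of f is geometrically reduced is etale
locally constructible: for every affine scheme V with a representable etale a : h_V ⟶ Y, the inverse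
image of E in V is a constructible subset. Here the fibre of f at y being geometrically reduced
means: for every field point k of Y in the class of y and every field homomorphism k ⟶ k', the base
change X_{k'} (pullback in fppf sheaves) is reduced (some etale surjective scheme chart is reduced). -/
theorem result {S : Scheme.{u}} {X Y : AlgSp.Space S} (f : X ⟶ Y)
    (hf1 : AlgSp.IsQuasiCompactMor f.hom) (hf2 : AlgSp.LocP @LocallyOfFinitePresentation f.hom)
    (V : Over S) (hV : IsAffine V.left) (a : (AlgSp.yon S).obj V ⟶ Y.obj) (ha : AlgSp.RepWith @Etale a) :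
    Topology.IsConstructible ((AlgSp.Points.ofPt a) ⁻¹' {y : AlgSp.Points Y.obj | ∀ (k : AlgSp.FieldPt Y.obj), AlgSp.Points.mk k = y →
        ∀ (k' : Type u) [Field k'] (φ : k.K →+* k') (Xk' : AlgSp.Sp S) (a : Xk' ⟶ X.obj)
          (b : Xk' ⟶ (AlgSp.yon S).obj (Over.mk (Spec.map (CommRingCat.ofHom φ) ≫ k.str))),
          IsPullback a b f.hom ((AlgSp.yon S).map (Over.homMk (Spec.map (CommRingCat.ofHom φ)) rfl :
            Over.mk (Spec.map (CommRingCat.ofHom φ) ≫ k.str) ⟶ k.pt) ≫ k.toHom) →
          AlgSp.EtaleLocally (fun U => IsReduced U) Xk'}) := by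
  haveI := hV
  -- a quasi-compact chart of `X ×_Y h_V`
  have hVqc : AlgSp.IsQuasiCompactSp ((AlgSp.yon S).obj V) :=
    ⟨V, 𝟙 _, AlgSp.repWith_id _ V, AlgSp.repWith_id _ V, inferInstance⟩
  obtain ⟨U, p, hpe, hps, hUc⟩ := hf1 (AlgSp.IsAlgSpace.yon_obj V) hVqc a _ _
    (IsPullback.of_hasPullback f.hom a)
  haveI : CompactSpace ↥U.left := hUc
  obtain ⟨g, hg⟩ := (AlgSp.yon S).map_surjective (p ≫ pullback.snd f.hom a)
  have hfst : AlgSp.RepWith @Etale (pullback.fst f.hom a) :=
    MorphismProperty.of_isPullback (P := AlgSp.RepWith @Etale)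
      (IsPullback.of_hasPullback f.hom a).flip ha
  haveI : LocallyOfFinitePresentation g.left :=
    hf2 (p ≫ pullback.fst f.hom a) a g ((AlgSp.RepWith @Etale).comp_mem _ _ hpe hfst) ha
      (by rw [Category.assoc, pullback.condition, ← Category.assoc, hg])
  haveI : QuasiCompact g.left :=
    (HasAffineProperty.iff_of_isAffine (P := @QuasiCompact)).mpr (inferInstance : CompactSpace ↥U.left)
  have hc := Groth.Agent.Lib.Helper6.GeomRedConstr.isConstructible_GR_of_isAffine_target g.left
  convert hc using 1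
  ext v
  rw [Set.mem_preimage, Set.mem_setOf_eq, Groth.Agent.Lib.Helper6.GeomRedConstr.mem_GR_iff]
  constructor
  · rintro hA ⟨K, _, s, hs, hnr⟩
    apply hnr
    have hq : AlgSp.Points.mk (Groth.Agent.Lib.Seat47.GeomRedConstr.fieldPtOfHom a K s) =
        AlgSp.Points.ofPt a v := by
      rw [Groth.Agent.Lib.Seat47.GeomRedConstr.mk_fieldPtOfHom, hs]
    have sq0 := IsPullback.of_hasPullback f.hom ((AlgSp.yon S).map
      (Over.homMk (Spec.map (CommRingCat.ofHom (RingHom.id K))) rfl :
        Over.mk (Spec.map (CommRingCat.ofHom (RingHom.id K)) ≫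
          (Groth.Agent.Lib.Seat47.GeomRedConstr.fieldPtOfHom a K s).str) ⟶
          (Groth.Agent.Lib.Seat47.GeomRedConstr.fieldPtOfHom a K s).pt) ≫
        (Groth.Agent.Lib.Seat47.GeomRedConstr.fieldPtOfHom a K s).toHom)
    have hred := hA (Groth.Agent.Lib.Seat47.GeomRedConstr.fieldPtOfHom a K s) hq K (RingHom.id K)
      _ _ _ sq0
    let γ : Over.mk (Spec.map (CommRingCat.ofHom (RingHom.id K)) ≫
        (Groth.Agent.Lib.Seat47.GeomRedConstr.fieldPtOfHom a K s).str) ⟶ V :=
      (Over.homMk (Spec.map (CommRingCat.ofHom (RingHom.id K))) rfl :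
        Over.mk (Spec.map (CommRingCat.ofHom (RingHom.id K)) ≫
          (Groth.Agent.Lib.Seat47.GeomRedConstr.fieldPtOfHom a K s).str) ⟶
          (Groth.Agent.Lib.Seat47.GeomRedConstr.fieldPtOfHom a K s).pt) ≫
        (Over.homMk s rfl : Over.mk (s ≫ V.hom) ⟶ V)
    have ht' : (AlgSp.yon S).map γ ≫ a = (AlgSp.yon S).map
      (Over.homMk (Spec.map (CommRingCat.ofHom (RingHom.id K))) rfl :
        Over.mk (Spec.map (CommRingCat.ofHom (RingHom.id K)) ≫
          (Groth.Agent.Lib.Seat47.GeomRedConstr.fieldPtOfHom a K s).str) ⟶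
          (Groth.Agent.Lib.Seat47.GeomRedConstr.fieldPtOfHom a K s).pt) ≫
        (Groth.Agent.Lib.Seat47.GeomRedConstr.fieldPtOfHom a K s).toHom := by
      rw [Groth.Agent.Lib.Seat47.GeomRedConstr.fieldPtOfHom_toHom, Functor.map_comp, Category.assoc]
      rfl
    have h1 := (Groth.Agent.Lib.Seat47.GeomRedConstr.etaleLocally_reduced_iff f a p hpe hps g hg γ _ ht'
      _ _ sq0).1 hred
    have hγ : γ.left = s := by
      show Spec.map (CommRingCat.ofHom (RingHom.id K)) ≫ s = s
      have : CommRingCat.ofHom (RingHom.id K) = 𝟙 (CommRingCat.of K) := rfl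
      rw [this, Spec.map_id, Category.id_comp]
    rw [hγ] at h1
    exact h1
  · intro hnr
    have tfae := Groth.Agent.S10686.result f (AlgSp.Points.ofPt a v)
    have h12 := tfae.out 0 1
    apply h12.1
    refine ⟨AlgSp.FieldPt.ofPt a v, rfl, ?_⟩
    intro k' _ φ Xk' a' b' sq
    let γ : Over.mk (Spec.map (CommRingCat.ofHom φ) ≫ (AlgSp.FieldPt.ofPt a v).str) ⟶ V :=
      (Over.homMk (Spec.map (CommRingCat.ofHom φ)) rfl :
        Over.mk (Spec.map (CommRingCat.ofHom φ) ≫ (AlgSp.FieldPt.ofPt a v).str) ⟶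
          (AlgSp.FieldPt.ofPt a v).pt) ≫
        (Over.homMk (V.left.fromSpecResidueField v) rfl : (AlgSp.FieldPt.ofPt a v).pt ⟶ V)
    have ht' : (AlgSp.yon S).map γ ≫ a = (AlgSp.yon S).map
        (Over.homMk (Spec.map (CommRingCat.ofHom φ)) rfl :
          Over.mk (Spec.map (CommRingCat.ofHom φ) ≫ (AlgSp.FieldPt.ofPt a v).str) ⟶
            (AlgSp.FieldPt.ofPt a v).pt) ≫ (AlgSp.FieldPt.ofPt a v).toHom := by
      rw [AlgSp.FieldPt.toHom_ofPt, Functor.map_comp, Category.assoc]
    rw [Groth.Agent.Lib.Seat47.GeomRedConstr.etaleLocally_reduced_iff f a p hpe hps g hg γ _ ht'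
      a' b' sq]
    by_contra hcon
    refine hnr ⟨k', inferInstance, γ.left, fun x => ?_, hcon⟩
    show (Spec.map (CommRingCat.ofHom φ) ≫ V.left.fromSpecResidueField v) x = v
    rw [Scheme.Hom.comp_apply]
    exact Scheme.fromSpecResidueField_apply _ _

end Groth.Agent.S10683
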