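import Groth.Statements.S10688
import Groth.Agent.Lib.Seat83GorChartSp
import Groth.Agent.Lib.Seat45Noeth
import Groth.Agent.Lib.Seat45BaseChange
import Groth.Agent.S3625

set_option autoImplicit false
universe u
open CategoryTheory CategoryTheory.Limits AlgebraicGeometry
open AlgSp

namespace Groth.Agent.S10688

/-- For a morphism f : X ⟶ Y between algebraic spaces over S with locally Noetherian fibres, g : Y' ⟶ Y
locally of finite type, f' : X' ⟶ Y' the base change (a pullback square of algebraic spaces) with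
projection g' : X' ⟶ X, and x' a point of |X'| with image x: (1) if f is Gorenstein at x then so is
f' at x'; (2) when f is flat at x, Gorensteinness of f' at x' implies that of f at x; (3) the same
conclusion holds if instead g is flat at the image of x' and f' is Gorenstein at x'. Here f is
Gorenstein at x when in every etale chart diagram through x the top arrow is Gorenstein at the point
over x (flat there, with Gorenstein local ring of its fibre), and the fibres of a morphism are
locally Noetherian when every fibre over a field point (pullback in fppf sheaves) is a locally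
Noetherian algebraic space. -/
theorem result {S : Scheme.{u}} {X Y X' Y' : AlgSp.Space S} (f : X ⟶ Y) (g : Y' ⟶ Y) (g' : X' ⟶ X) (f' : X' ⟶ Y')
    (hsq : IsPullback g'.hom f'.hom f.hom g.hom)
    (hf : ∀ (k : AlgSp.FieldPt Y.obj) (Xk : AlgSp.Sp S) (a : Xk ⟶ X.obj) (b : Xk ⟶ (AlgSp.yon S).obj k.pt),
        IsPullback a b f.hom k.toHom → AlgSp.IsLocNoethSp Xk)
    (hg : AlgSp.LocP @LocallyOfFiniteType g.hom) (x' : AlgSp.Points X'.obj) :
    (AlgSp.LocPAt (fun h u => Dual3.IsGorensteinAt h u) f.hom (AlgSp.Points.map g'.hom x') → AlgSp.LocPAt (fun h u => Dual3.IsGorensteinAt h u) f'.hom x') ∧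
      (AlgSp.IsFlatAtMor f.hom (AlgSp.Points.map g'.hom x') → AlgSp.LocPAt (fun h u => Dual3.IsGorensteinAt h u) f'.hom x' →
        AlgSp.LocPAt (fun h u => Dual3.IsGorensteinAt h u) f.hom (AlgSp.Points.map g'.hom x')) ∧
      (AlgSp.IsFlatAtMor g.hom (AlgSp.Points.map f'.hom x') → AlgSp.LocPAt (fun h u => Dual3.IsGorensteinAt h u) f'.hom x' →
        AlgSp.LocPAt (fun h u => Dual3.IsGorensteinAt h u) f.hom (AlgSp.Points.map g'.hom x')) := by
  open Groth.Agent.Lib.Seat83.GorChart Groth.Agent.Lib.Seat45.ChartsMor in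
  have hf' : ∀ (k : AlgSp.FieldPt Y'.obj) (Xk : AlgSp.Sp S) (a : Xk ⟶ X'.obj)
      (b : Xk ⟶ (AlgSp.yon S).obj k.pt), IsPullback a b f'.hom k.toHom → AlgSp.IsLocNoethSp Xk := by
    intro k Xk a b hpb
    refine hf (k.map g.hom) Xk (a ≫ g'.hom) b ?_
    rw [AlgSp.FieldPt.toHom_map]
    exact hpb.paste_horiz hsq
  have Lf := locP_fibNoeth X.property Y.property f.hom hf
  have Lf' := locP_fibNoeth X'.property Y'.property f'.hom hf'
  obtain ⟨U, V, U', V', a, b, h, a', b', h', α, β, hae, -, hbe, -, ha'e, ha's, hb'e, -, hac, ha'c, hag, hbg, hpb⟩ :=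
    Groth.Agent.Lib.Seat45.BaseChange.exists_baseChange_atlas_diagram X.property Y.property Y'.property hsq
  obtain ⟨u', rfl⟩ := Groth.Agent.S10177.surjective_ofPt a' ha's x'
  have hx : AlgSp.Points.map g'.hom (AlgSp.Points.ofPt a' u') = AlgSp.Points.ofPt a (α.left u') :=
    (Groth.Agent.Lib.Seat45.Noeth.ofPt_diagram g'.hom a' a α hag u').symm
  have hy : AlgSp.Points.map f'.hom (AlgSp.Points.ofPt a' u') = AlgSp.Points.ofPt b' (h'.left u') :=
    (Groth.Agent.Lib.Seat45.Noeth.ofPt_diagram f'.hom a' b' h' ha'c u').symm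
  rw [hx, hy, locPAt_gor_ofPt_iff X.property Y.property f.hom Lf a b h hae hbe hac (α.left u'),
    locPAt_gor_ofPt_iff X'.property Y'.property f'.hom Lf' a' b' h' ha'e hb'e ha'c u']
  have : LocallyOfFiniteType β.left := hg b' b β hb'e hbe hbg
  have hsch : IsPullback α.left h'.left h.left β.left := hpb.map (Over.forget S)
  have key := Groth.Agent.S3625.result _ _ _ _ h.left β.left h'.left α.left hsch (Lf a b h hae hbe hac) u'
  exact ⟨key.1, fun h1 => key.2.1 (h1 a b h (α.left u') hae hbe hac rfl),
    fun h1 => key.2.2 (h1 b' b β (h'.left u') hb'e hbe hbg rfl)⟩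


end Groth.Agent.S10688
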