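import Groth.Statements.S10690
import Groth.Agent.Lib.Seat83GorSp
import Groth.Agent.S9874
import Groth.Agent.S10177

set_option autoImplicit false
universe u
open CategoryTheory CategoryTheory.Limits AlgebraicGeometry
open AlgSp

namespace Groth.Agent.S10690

/-- For a morphism f : X ⟶ Y between algebraic spaces over S whose fibres are locally Noetherian, the
following are equivalent: (1) f is Gorenstein at every point of |X|; (2) f is flat and for some
scheme V with a representable etale surjective b : h_V ⟶ Y every fibre of X ×_Y V ⟶ V over a point v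
of V (pullback along the residue field point of v) is a Gorenstein algebraic space (some etale
surjective scheme chart is a Gorenstein scheme); (3) f is flat and the same holds for every scheme V
with a representable etale b : h_V ⟶ Y. Here f is Gorenstein at x when in every etale chart diagram
through x the top arrow is Gorenstein at the point over x (flat there, with Gorenstein local ring of
its fibre), and the fibres of a morphism are locally Noetherian when every fibre over a field point
(pullback in fppf sheaves) is a locally Noetherian algebraic space. (The published statement also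
characterises being Gorenstein at a single point through strict henselizations; that part is stated
separately and not included here.) -/
theorem result {S : Scheme.{u}} {X Y : AlgSp.Space S} (f : X ⟶ Y)
    (hf : ∀ (k : AlgSp.FieldPt Y.obj) (Xk : AlgSp.Sp S) (a : Xk ⟶ X.obj) (b : Xk ⟶ (AlgSp.yon S).obj k.pt),
        IsPullback a b f.hom k.toHom → AlgSp.IsLocNoethSp Xk) :
    [∀ x : AlgSp.Points X.obj, AlgSp.LocPAt (fun h u => Dual3.IsGorensteinAt h u) f.hom x,
      AlgSp.LocP @Flat f.hom ∧ ∃ (V : Over S) (b : (AlgSp.yon S).obj V ⟶ Y.obj),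
        AlgSp.RepWith @Etale b ∧ AlgSp.RepWith @Surjective b ∧
          ∀ (v : ↥V.left) (Xv : AlgSp.Sp S) (a : Xv ⟶ X.obj)
            (c : Xv ⟶ (AlgSp.yon S).obj (Over.mk (V.left.fromSpecResidueField v ≫ V.hom))),
            IsPullback a c f.hom ((AlgSp.yon S).map (Over.homMk (V.left.fromSpecResidueField v) rfl :
              Over.mk (V.left.fromSpecResidueField v ≫ V.hom) ⟶ V) ≫ b) →
            AlgSp.EtaleLocally Dual3.IsGorenstein Xv,
      AlgSp.LocP @Flat f.hom ∧ ∀ (V : Over S) (b : (AlgSp.yon S).obj V ⟶ Y.obj), AlgSp.RepWith @Etale b →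
          ∀ (v : ↥V.left) (Xv : AlgSp.Sp S) (a : Xv ⟶ X.obj)
            (c : Xv ⟶ (AlgSp.yon S).obj (Over.mk (V.left.fromSpecResidueField v ≫ V.hom))),
            IsPullback a c f.hom ((AlgSp.yon S).map (Over.homMk (V.left.fromSpecResidueField v) rfl :
              Over.mk (V.left.fromSpecResidueField v ≫ V.hom) ⟶ V) ≫ b) →
            AlgSp.EtaleLocally Dual3.IsGorenstein Xv].TFAE := by
  open Groth.Agent.Lib.Seat83.GorChart Groth.Agent.Lib.Seat83.GorSp Groth.Agent.Lib.Seat45.Charts in
  have Lf := locP_fibNoeth X.property Y.property f.hom hf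
  -- the scheme-theoretic fibre of a chart versus the pullback in `Over S`
  have hiso : ∀ {U V : Over S} (h : U ⟶ V) (v : ↥V.left),
      Nonempty ((pullback h (Over.homMk (V.left.fromSpecResidueField v) rfl :
        Over.mk (V.left.fromSpecResidueField v ≫ V.hom) ⟶ V)).left ≅ h.left.fiber v) := by
    intro U V h v
    have hsch : IsPullback (pullback.fst h (Over.homMk (V.left.fromSpecResidueField v) rfl :
        Over.mk (V.left.fromSpecResidueField v ≫ V.hom) ⟶ V)).left
        (pullback.snd h (Over.homMk (V.left.fromSpecResidueField v) rfl :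
        Over.mk (V.left.fromSpecResidueField v ≫ V.hom) ⟶ V)).left h.left
        (V.left.fromSpecResidueField v) := (IsPullback.of_hasPullback h _).map (Over.forget S)
    exact ⟨hsch.isoPullback⟩
  tfae_have 1 → 3 := by
    intro h1
    refine ⟨fun U V a b h ha hb hc => Flat.of_stalkMap _ fun u => (h1 _ a b h u ha hb hc rfl).1, ?_⟩
    intro V b hb v Xv a c hpb
    -- an atlas of `X ×_Y V`
    have hQ : AlgSp.IsAlgSpace (pullback f.hom b) :=
      Groth.Agent.S9874.isAlgSpace_of_isPullback Y.property.diag X.property (AlgSp.IsAlgSpace.yon_obj V)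
        (IsPullback.of_hasPullback f.hom b)
    have hQfe : AlgSp.RepWith @Etale (pullback.fst f.hom b) :=
      MorphismProperty.of_isPullback (P := AlgSp.RepWith @Etale) (IsPullback.of_hasPullback f.hom b).flip hb
    obtain ⟨U, e, hee, hes⟩ := hQ.atlas
    obtain ⟨h, hh⟩ := (AlgSp.yon S).map_surjective (e ≫ pullback.snd f.hom b)
    have hae : AlgSp.RepWith @Etale (e ≫ pullback.fst f.hom b) :=
      (AlgSp.RepWith @Etale).comp_mem _ _ hee hQfe
    have hac : (e ≫ pullback.fst f.hom b) ≫ f.hom = (AlgSp.yon S).map h ≫ b := by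
      rw [Category.assoc, pullback.condition, ← Category.assoc, hh]
    have hlift : pullback.lift (e ≫ pullback.fst f.hom b) ((AlgSp.yon S).map h) hac = e := by
      apply pullback.hom_ext
      · rw [pullback.lift_fst]
      · rw [pullback.lift_snd, hh]
    obtain ⟨c', m, -, -, sq⟩ := exists_fibre_chart_sq f.hom (e ≫ pullback.fst f.hom b) b h hac
      (Over.homMk (V.left.fromSpecResidueField v) rfl :
        Over.mk (V.left.fromSpecResidueField v ≫ V.hom) ⟶ V) a c hpb _ _ (IsPullback.of_hasPullback h _)
    rw [hlift] at sq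
    refine ⟨_, c', MorphismProperty.of_isPullback (P := AlgSp.RepWith @Etale) sq hee,
      MorphismProperty.of_isPullback (P := AlgSp.RepWith @Surjective) sq hes, ?_⟩
    obtain ⟨i⟩ := hiso h v
    have hG : Dual3.IsGorenstein (h.left.fiber v) :=
      isGorenstein_fiber h.left v (Lf _ b h hae hb hac v)
        (fun u _ => h1 _ (e ≫ pullback.fst f.hom b) b h u hae hb hac rfl)
    exact isGorenstein_of_etale i.hom hG
  tfae_have 3 → 2 := by
    intro h3
    obtain ⟨V, b, hbe, hbs⟩ := Y.property.atlas
    exact ⟨h3.1, V, b, hbe, hbs, h3.2 V b hbe⟩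
  tfae_have 2 → 1 := by
    rintro ⟨hfl, V, b, hbe, hbs, hfib⟩ x
    obtain ⟨U₀, a₀, u₀, ha₀, hu₀⟩ := exists_chart X.property x
    obtain ⟨v, hv⟩ := Groth.Agent.S10177.surjective_ofPt b hbs (AlgSp.Points.map f.hom x)
    obtain ⟨W, p, q, w, hp, hpw, hqw, hae, hac⟩ :=
      exists_chart_square f.hom a₀ ha₀ b hbe u₀ v (by rw [hu₀, hv])
    have hx : AlgSp.Points.ofPt ((AlgSp.yon S).map p ≫ a₀) w = x := by
      rw [Groth.Agent.S10176.ofPt_map_comp, hpw, hu₀]
    rw [← hx, locPAt_gor_ofPt_iff X.property Y.property f.hom Lf _ b q hae hbe hac w]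
    have : Flat q.left := hfl _ b q hae hbe hac
    refine ⟨Flat.stalkMap q.left w, ?_⟩
    -- the fibre of `f` over the point `q w` of `V`
    have hpb := IsPullback.of_hasPullback f.hom ((AlgSp.yon S).map (Over.homMk (V.left.fromSpecResidueField (q.left w)) rfl :
        Over.mk (V.left.fromSpecResidueField (q.left w) ≫ V.hom) ⟶ V) ≫ b)
    have hEL := hfib (q.left w) _ _ _ hpb
    obtain ⟨c', -, -, hc'e⟩ := Groth.Agent.Lib.Seat47.FibChartSp.exists_fibre_chart X.property Y.property f.hom
      _ b q hae hbe hac (Over.homMk (V.left.fromSpecResidueField (q.left w)) rfl :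
        Over.mk (V.left.fromSpecResidueField (q.left w) ≫ V.hom) ⟶ V) _ _ hpb _ _ (IsPullback.of_hasPullback q _)
    have hG1 := isGorenstein_chart hEL c' hc'e
    obtain ⟨i⟩ := hiso q (q.left w)
    have hG2 : Dual3.IsGorenstein (q.left.fiber (q.left w)) := isGorenstein_of_etale i.inv hG1
    exact hG2.2 _
  tfae_finish


end Groth.Agent.S10690
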