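import Groth.Statements.S10691
import Groth.Agent.Lib.Seat83GorSp
import Groth.Agent.S3624
import Groth.Agent.S0538
import Groth.Agent.S0539
import Groth.Agent.S0540

set_option autoImplicit false
universe u
open CategoryTheory CategoryTheory.Limits AlgebraicGeometry
open AlgSp

namespace Groth.Agent.S10691

/-- For locally Noetherian algebraic spaces X, Y over S and a flat morphism f : X ⟶ Y, with X Gorenstein
(some etale surjective scheme chart is a Gorenstein scheme): f is Gorenstein at every point of |X|,
and for every point x of |X| the etale local ring of Y at a geometric point over f(x), presented as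
a strict henselization R of the local ring of an etale scheme chart V of Y at a point v over f(x),
is a Gorenstein local ring. Here f is Gorenstein at x when in every etale chart diagram through x
the top arrow is Gorenstein at the point over x (flat there, with Gorenstein local ring of its
fibre), and the fibres of a morphism are locally Noetherian when every fibre over a field point
(pullback in fppf sheaves) is a locally Noetherian algebraic space. -/
theorem result {S : Scheme.{u}} {X Y : AlgSp.Space S} (f : X ⟶ Y) (hf : AlgSp.LocP @Flat f.hom)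
    (hX1 : AlgSp.IsLocNoethSp X.obj) (hY1 : AlgSp.IsLocNoethSp Y.obj)
    (hX2 : AlgSp.EtaleLocally Dual3.IsGorenstein X.obj) :
    (∀ x : AlgSp.Points X.obj, AlgSp.LocPAt (fun h u => Dual3.IsGorensteinAt h u) f.hom x) ∧
      ∀ (x : AlgSp.Points X.obj) (V : Over S) (b : (AlgSp.yon S).obj V ⟶ Y.obj), AlgSp.RepWith @Etale b →
        ∀ (v : ↥V.left), AlgSp.Points.ofPt b v = AlgSp.Points.map f.hom x →
          ∀ (R : Type u) [CommRing R] [IsLocalRing R] [Algebra ↥(V.left.presheaf.stalk v) R]
            [IsLocalHom (algebraMap ↥(V.left.presheaf.stalk v) R)]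
            [Hensel.IsStrictHenselization ↥(V.left.presheaf.stalk v) R],
            LocCoh.IsGorensteinLocalRing R := by
  open Groth.Agent.Lib.Seat83.GorChart Groth.Agent.Lib.Seat83.GorSp Groth.Agent.Lib.Seat45.Charts in
  have key : ∀ {U V : Over S} (a : (AlgSp.yon S).obj U ⟶ X.obj) (b : (AlgSp.yon S).obj V ⟶ Y.obj) (h : U ⟶ V),
      AlgSp.RepWith @Etale a → AlgSp.RepWith @Etale b → a ≫ f.hom = (AlgSp.yon S).map h ≫ b →
      Dual3.IsGorensteinMor h.left ∧
        ∀ u : ↥U.left, LocCoh.IsGorensteinLocalRing (V.left.presheaf.stalk (h.left u)) := by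
    intro U V a b h ha hb hc
    have : IsLocallyNoetherian V.left :=
      Groth.Agent.Lib.Seat48.FibreNoeth.isLocallyNoetherian_of_etale_chart hY1 b hb
    have : Flat h.left := hf a b h ha hb hc
    exact Groth.Agent.S3624.result U.left V.left h.left (isGorenstein_chart hX2 a ha)
  refine ⟨fun x U V a b h u ha hb hc _ => (key a b h ha hb hc).1 u, ?_⟩
  intro x V b hb v hv R _ _ _ _ _
  obtain ⟨U₀, a₀, u₀, ha₀, hu₀⟩ := exists_chart X.property x
  obtain ⟨W, p, q, w, hp, hpw, hqw, hae, hac⟩ :=
    exists_chart_square f.hom a₀ ha₀ b hb u₀ v (by rw [hu₀, hv])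
  have hA : LocCoh.IsGorensteinLocalRing (V.left.presheaf.stalk v) := by
    have := (key _ b q hae hb hac).2 w
    rw [hqw] at this
    exact this
  have : IsNoetherianRing ↥(V.left.presheaf.stalk v) := hA.toIsNoetherian
  have : IsNoetherianRing R := (Groth.Agent.S0540.result ↥(V.left.presheaf.stalk v) R).mp inferInstance
  have : Module.FaithfullyFlat ↥(V.left.presheaf.stalk v) R := Groth.Agent.S0539.result _ R
  have hker : RingHom.ker (IsLocalRing.residue R) =
      (IsLocalRing.maximalIdeal ↥(V.left.presheaf.stalk v)).map (algebraMap ↥(V.left.presheaf.stalk v) R) := by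
    rw [IsLocalRing.ker_residue, Groth.Agent.S0538.result]
  exact (Groth.Agent.Lib.Helper5.FiberRing.flatLocalIff_gor ↥(V.left.presheaf.stalk v) R
    (IsLocalRing.ResidueField R) (IsLocalRing.residue R) IsLocalRing.residue_surjective hker).mpr
    ⟨hA, Groth.Agent.Lib.Seat83.LocPFibre.gor_of_isField _ (Field.toIsField _)⟩


end Groth.Agent.S10691
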