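import Groth.Statements.S10695
import Groth.Agent.Lib.Seat47ElemDist

set_option autoImplicit false
universe u
open CategoryTheory CategoryTheory.Limits AlgebraicGeometry
open AlgSp

namespace Groth.Agent.S10695

/-- Suppose `(U ⊂ W, f : V → W)`, a square of algebraic spaces over `S`, is elementary distinguished
(`j` an open immersion, `f` etale and an isomorphism over the reduced closed complement of `U`) and
let `P` with its two projections be a fibre product `U ×_W V`. Then `W` is the pushout of `U` and
`V` along `P` among algebraic spaces over `S`. -/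
theorem result {S : Scheme.{u}} {U V W P : AlgSp.Space S} (j : U ⟶ W) (f : V ⟶ W)
    (hsq : AlgSp.IsElemDistSq j.hom f.hom) (p : P ⟶ U) (q : P ⟶ V)
    (hP : IsPullback p.hom q.hom j.hom f.hom) : IsPushout p q j f := by
  have key : ∀ (Z : AlgSp.Space S) (a : U ⟶ Z) (b : V ⟶ Z), p ≫ a = q ≫ b →
      ∃! c : W.obj ⟶ Z.obj, j.hom ≫ c = a.hom ∧ f.hom ≫ c = b.hom := by
    intro Z a b hab
    exact Groth.Agent.Lib.Seat47.ElemDist.existsUnique_desc U.property V.property W.property hsq hP
      (congrArg (fun m => m.hom) hab)
  refine ⟨⟨ObjectProperty.hom_ext _ hP.w⟩, ⟨PushoutCocone.IsColimit.mk _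
    (fun s => ObjectProperty.homMk (key s.pt s.inl s.inr s.condition).exists.choose)
    (fun s => ?_) (fun s => ?_) (fun s m h1 h2 => ?_)⟩⟩
  · apply ObjectProperty.hom_ext
    exact (key s.pt s.inl s.inr s.condition).exists.choose_spec.1
  · apply ObjectProperty.hom_ext
    exact (key s.pt s.inl s.inr s.condition).exists.choose_spec.2
  · apply ObjectProperty.hom_ext
    exact (key s.pt s.inl s.inr s.condition).unique
      ⟨congrArg (fun m => m.hom) h1, congrArg (fun m => m.hom) h2⟩
      (key s.pt s.inl s.inr s.condition).exists.choose_spec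

end Groth.Agent.S10695
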