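import Groth.Statements.S1071
import Groth.Agent.Lib.Seat64KoszulPn

set_option autoImplicit false
universe u
open CategoryTheory CategoryTheory.Limits AlgebraicGeometry
open Perf

namespace Groth.Agent.S1071

open Groth.Agent.Lib.Seat64.KoszulSh Groth.Agent.Lib.Seat64.KoszulPn in
/-- Let A be a ring, X = P^n_A and a ∈ ℤ. There is a cochain complex of O_X-modules, exact in every
degree, whose term in degree i is isomorphic to the direct sum of (n+1 choose i) copies of O_X(a +
i) for 0 ≤ i ≤ n + 1 and is zero in all other degrees. -/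
theorem result (n : ℕ) (A : Type u) [CommRing A] (a : ℤ) :
    ∃ C : CochainComplex (CohB1.ProjSpace n A).Modules ℤ, (∀ i : ℤ, C.ExactAt i) ∧
      (∀ i : ℕ, i ≤ n + 1 → Nonempty (C.X (i : ℤ) ≅ ∐ fun _ : Fin (Nat.choose (n + 1) i) => Twist.twistProjSpace n A (a + i))) ∧
      (∀ i : ℤ, i < 0 ∨ (n : ℤ) + 1 < i → IsZero (C.X i)) := by
  classical
  letI := Abelian.hasFiniteBiproducts (C := (Proj (CohB1.polyGrading n A)).Modules)
  refine ⟨koszulO n A a, fun i => koszulO_exactAt n A a i, fun i _ => ?_, fun i hi => ?_⟩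
  · -- the term in degree `i`
    have hcard : Fintype.card (Idx (n + 1) (i : ℤ)) = Nat.choose (n + 1) i := by
      have e : Idx (n + 1) (i : ℤ) ≃ {S : Finset (Fin (n + 1)) // S.card = i} :=
        Equiv.subtypeEquivRight (fun S => Nat.cast_inj)
      rw [Fintype.card_congr e, Fintype.card_finset_len, Fintype.card_fin]
    let ε : Fin (Nat.choose (n + 1) i) ≃ Idx (n + 1) (i : ℤ) :=
      (Fintype.equivFinOfCardEq hcard).symm
    let M : (Proj (CohB1.polyGrading n A)).Modules := AO n A a (i : ℤ)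
    have e1 : (koszulO n A a).X (i : ℤ) ≅ ∐ (fun _ : Idx (n + 1) (i : ℤ) => M) :=
      biproduct.isoCoproduct (fun _ : Idx (n + 1) (i : ℤ) => M)
    have e2 : ∐ ((fun _ : Idx (n + 1) (i : ℤ) => M) ∘ ε) ≅ ∐ (fun _ : Idx (n + 1) (i : ℤ) => M) :=
      Sigma.reindex ε (fun _ : Idx (n + 1) (i : ℤ) => M)
    exact ⟨e1 ≪≫ e2.symm⟩
  · -- vanishing outside `[0, n + 1]`
    haveI : IsEmpty (Idx (n + 1) i) := by
      constructor
      rintro ⟨S, hS⟩
      have h1 : S.card ≤ n + 1 := by
        have := Finset.card_le_univ S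
        rwa [Fintype.card_fin] at this
      rcases hi with hi | hi <;> omega
    rw [IsZero.iff_id_eq_zero]
    have h1 : ∑ S : Idx (n + 1) i, biproduct.π (fun _ : Idx (n + 1) i => AO n A a i) S ≫
        biproduct.ι (fun _ : Idx (n + 1) i => AO n A a i) S =
        𝟙 (⨁ (fun _ : Idx (n + 1) i => AO n A a i)) := biproduct.total
    rw [Finset.univ_eq_empty, Finset.sum_empty] at h1
    exact h1.symm

end Groth.Agent.S1071
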