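import Groth.Statements.S10742
import Groth.Agent.Lib.Seat48CohEt

set_option autoImplicit false
universe u
open CategoryTheory CategoryTheory.Limits AlgebraicGeometry Opposite
open AlgSp

namespace Groth.Agent.S10742

/-- Let X be a locally Noetherian algebraic space over S and φ : M ⟶ N a morphism of coherent
O_X-modules on the small etale site of X (coherent meaning of finite presentation, X being locally
Noetherian). Then the kernel and the cokernel of φ are coherent. -/
theorem result {S : Scheme.{u}} (X : AlgSp.Space S)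
    (hX : AlgSp.IsLocNoethSp X.obj) {M N : AlgSp.ModEt X.obj} [M.IsFinitePresentation] [N.IsFinitePresentation]
    (φ : M ⟶ N) :
    (kernel φ).IsFinitePresentation ∧ (cokernel φ).IsFinitePresentation := by
  have hM := Groth.Agent.Lib.Seat48.BCEt.hasBCOn_of_isQuasicoherent M
  have hN := Groth.Agent.Lib.Seat48.BCEt.hasBCOn_of_isQuasicoherent N
  have hK : Groth.Agent.Lib.Seat48.BCSite.HasBCOn (Groth.Agent.Lib.Seat48.BCEt.affineData X.obj)
      (kernel φ).val :=
    Groth.Agent.Lib.Seat48.BCSite.hasBCOn_of_isLimit_kernelFork _ φ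
      (KernelFork.ofι (kernel.ι φ) (kernel.condition φ)) (kernelIsKernel φ) hM hN
  have hQ : Groth.Agent.Lib.Seat48.BCSite.HasBCOn (Groth.Agent.Lib.Seat48.BCEt.affineData X.obj)
      (cokernel φ).val :=
    Groth.Agent.Lib.Seat48.BCSite.hasBCOn_of_isColimit_cokernelCofork _ φ
      (CokernelCofork.ofπ (cokernel.π φ) (cokernel.condition φ)) (cokernelIsCokernel φ) hM hN
  exact ⟨Groth.Agent.Lib.Seat48.CohEt.isFinitePresentation_of_mono hX (kernel.ι φ) hK
      (fun E hE => Groth.Agent.Lib.Seat48.BCEt.finite_sections M hM E hE),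
    Groth.Agent.Lib.Seat48.CohEt.isFinitePresentation_of_epi hX (cokernel.π φ) hQ hN
      (fun E hE => Groth.Agent.Lib.Seat48.BCEt.finite_sections N hN E hE)⟩

end Groth.Agent.S10742
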