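import Groth.Statements.S10743
import Groth.Agent.Lib.Seat48ExtBC2
import Groth.Agent.Lib.Seat48BCEt4

set_option autoImplicit false
universe u
open CategoryTheory CategoryTheory.Limits AlgebraicGeometry Opposite
open AlgSp

namespace Groth.Agent.S10743

/-- Let X be a locally Noetherian algebraic space over S and 0 ⟶ M₁ ⟶ M₂ ⟶ M₃ ⟶ 0 a short exact sequence
of O_X-modules on the small etale site of X with M₁ and M₃ coherent (of finite presentation, X being
locally Noetherian). Then M₂ is coherent. -/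
theorem result {S : Scheme.{u}} (X : AlgSp.Space S)
    (hX : AlgSp.IsLocNoethSp X.obj) (T : ShortComplex (AlgSp.ModEt X.obj)) (hT : T.ShortExact)
    [T.X₁.IsFinitePresentation] [T.X₃.IsFinitePresentation] :
    T.X₂.IsFinitePresentation := by
  have h₁ := Groth.Agent.Lib.Seat48.BCEt.hasBCOn_of_isQuasicoherent T.X₁
  have h₃ := Groth.Agent.Lib.Seat48.BCEt.hasBCOn_of_isQuasicoherent T.X₃
  have h₂ := Groth.Agent.Lib.Seat48.BCSite.hasBCOn_of_shortExact
    (Groth.Agent.Lib.Seat48.BCEt.affineData X.obj) T hT h₁ h₃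
  refine Groth.Agent.Lib.Seat48.BCEt.isFinitePresentation_of_finite_sections hX T.X₂ h₂
    (fun E hE => ?_)
  have := hT.epi_g
  have hsurj := Groth.Agent.Lib.Seat48.BCSite.app_surjective_of_epi
    (Groth.Agent.Lib.Seat48.BCEt.affineData X.obj) T.g h₂ h₃ (W := E) hE
  have hex := (Groth.Agent.Lib.Seat48.BCSite.app_injective_and_exact_of_isLimit T.g
    (KernelFork.ofι T.f T.zero) hT.fIsKernel (op E)).2
  have := Groth.Agent.Lib.Seat48.BCEt.finite_sections T.X₁ h₁ E hE
  have := Groth.Agent.Lib.Seat48.BCEt.finite_sections T.X₃ h₃ E hE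
  exact Module.Finite.of_exact (f := (T.f.val.app (op E)).hom) (g := (T.g.val.app (op E)).hom)
    hex hsurj

end Groth.Agent.S10743
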