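import Groth.Statements.S10757
import Groth.Agent.Lib.Seat48StalkEt
import Groth.Agent.Lib.Seat48BCSite6
import Groth.Agent.Lib.Seat48ExtBC2
import Groth.Agent.S10217
import Groth.Agent.S10195

set_option autoImplicit false
universe u
open CategoryTheory CategoryTheory.Limits AlgebraicGeometry Opposite
open AlgSp

namespace Groth.Agent.S10757

/-- Let X be a locally Noetherian algebraic space over S, φ : G ⟶ F a morphism of coherent O_X-modules
on the small etale site of X (of finite presentation, X being locally Noetherian) and x̄ a geometric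
point of X. If the map φ_x̄ on stalks at x̄ (of the underlying abelian sheaves) is injective, then
there is an open subspace X' ⊂ X containing the image of x̄ such that φ|_{X'} is injective: φ is
injective on sections over every scheme etale over X whose image in |X| lies in |X'|. (The case of
the map F ⟶ 0 gives the corresponding statement for the vanishing of a stalk; the analogous
statement for surjectivity is not included.) -/
theorem result {S : Scheme.{u}} (X : AlgSp.Space S)
    (hX : AlgSp.IsLocNoethSp X.obj) {G F : AlgSp.ModEt X.obj} [G.IsFinitePresentation] [F.IsFinitePresentation]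
    (φ : G ⟶ F) (xbar : AlgSp.FieldPt X.obj) (hx : xbar.IsGeometric)
    (hinj : Mono ((AlgSp.stalkEtFunctor AddCommGrpCat.{u + 1} xbar).map ((AlgSp.toAbEt X.obj).map φ))) :
    ∃ (X' : AlgSp.Space S) (j : X' ⟶ X), AlgSp.RepWith @IsOpenImmersion j.hom ∧
      AlgSp.Points.mk xbar ∈ Set.range (AlgSp.Points.map j.hom) ∧
        ∀ E : AlgSp.EtOver X.obj, Set.range (AlgSp.Points.ofPt E.obj.hom) ⊆ Set.range (AlgSp.Points.map j.hom) →
          Mono (φ.val.app (op E)) := by
  have hG := Groth.Agent.Lib.Seat48.BCEt.hasBCOn_of_isQuasicoherent G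
  have hF := Groth.Agent.Lib.Seat48.BCEt.hasBCOn_of_isQuasicoherent F
  have hK : Groth.Agent.Lib.Seat48.BCSite.HasBCOn (Groth.Agent.Lib.Seat48.BCEt.affineData X.obj)
      (kernel φ).val :=
    Groth.Agent.Lib.Seat48.BCSite.hasBCOn_kernel _ φ hG hF
  have hfinK : ∀ E : AlgSp.EtOver X.obj, IsAffine E.obj.left.left →
      Module.Finite ((AlgSp.OEtRing X.obj).obj.obj (op E)) ((kernel φ).val.obj (op E)) := by
    intro E hE
    have := Groth.Agent.Lib.Seat48.BCEt.isNoetherianRing_sect hX E hE
    have := Groth.Agent.Lib.Seat48.BCEt.finite_sections G hG E hE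
    exact Module.Finite.of_injective ((kernel.ι φ).val.app (op E)).hom
      (Groth.Agent.Lib.Seat48.CohEt.app_injective_of_mono (kernel.ι φ) (op E))
  have hinj' : Function.Injective
      ((AlgSp.stalkEtFunctor AddCommGrpCat.{u + 1} xbar).map ((AlgSp.toAbEt X.obj).map φ)).hom :=
    (AddCommGrpCat.mono_iff_injective _).1 hinj
  have : IsCofiltered (AlgSp.EtNbhd xbar) := Groth.Agent.S10217.result X xbar hx
  obtain ⟨⟨U, l⟩⟩ := (IsCofiltered.nonempty : Nonempty (AlgSp.EtNbhd xbar))
  obtain ⟨V, ψ, y, -, hV, hV0⟩ :=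
    Groth.Agent.Lib.Seat48.StalkEt.exists_affine_nbhd_sections_eq_zero X (kernel φ) hK hfinK xbar hx
      (fun U l σ => Groth.Agent.Lib.Seat48.StalkEt.germ_kernel_eq_zero X φ xbar hx hinj' l σ) l
  obtain ⟨X', j, hj, hrange⟩ := Groth.Agent.S10195.result X
    (Set.range (AlgSp.Points.ofPt V.obj.hom))
    (Groth.Agent.Lib.Helper9.SpPoint.isOpenMap_ofPt V).isOpen_range
  refine ⟨X', j, hj, ?_, ?_⟩
  · rw [hrange]
    exact ⟨y.1.left (default : Spec (CommRingCat.of xbar.K)),
      Groth.Agent.Lib.Helper9.SpPoint.ofPt_lift xbar V y default⟩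
  · intro E hE
    rw [hrange] at hE
    rw [ModuleCat.mono_iff_injective]
    obtain ⟨-, hex⟩ := Groth.Agent.Lib.Seat48.BCSite.app_injective_and_exact_of_isLimit φ
      (KernelFork.ofι (kernel.ι φ) (kernel.condition φ)) (kernelIsKernel φ) (op E)
    refine (injective_iff_map_eq_zero (φ.val.app (op E)).hom).2 (fun x hx0 => ?_)
    obtain ⟨k, hk⟩ := (hex x).1 hx0
    rw [← hk, Groth.Agent.Lib.Seat48.StalkEt.sections_eq_zero_of_range_subset X (kernel φ) hK hV hV0
      E hE k]
    exact map_zero _

end Groth.Agent.S10757
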