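import Groth.Statements.S10758
import Groth.Agent.Lib.Seat48StalkEt2
import Groth.Agent.Lib.Seat48BCSite6
import Groth.Agent.Lib.Seat48ExtBC2
import Groth.Agent.S10217
import Groth.Agent.S10195

set_option autoImplicit false
universe u
open CategoryTheory CategoryTheory.Limits AlgebraicGeometry Opposite
open AlgSp

namespace Groth.Agent.S10758

/-- Let X be a locally Noetherian algebraic space over S, φ : G ⟶ F a morphism of coherent O_X-modules
on the small etale site of X (of finite presentation, X being locally Noetherian) and x̄ a geometric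
point of X. If the map φ_x̄ on stalks at x̄ (of the underlying abelian sheaves) is bijective, then
there is an open subspace X' ⊂ X containing the image of x̄ such that φ|_{X'} is an isomorphism: φ
is bijective on sections over every scheme etale over X whose image in |X| lies in |X'|. -/
theorem result {S : Scheme.{u}} (X : AlgSp.Space S)
    (hX : AlgSp.IsLocNoethSp X.obj) {G F : AlgSp.ModEt X.obj} [G.IsFinitePresentation] [F.IsFinitePresentation]
    (φ : G ⟶ F) (xbar : AlgSp.FieldPt X.obj) (hx : xbar.IsGeometric)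
    (hbij : IsIso ((AlgSp.stalkEtFunctor AddCommGrpCat.{u + 1} xbar).map ((AlgSp.toAbEt X.obj).map φ))) :
    ∃ (X' : AlgSp.Space S) (j : X' ⟶ X), AlgSp.RepWith @IsOpenImmersion j.hom ∧
      AlgSp.Points.mk xbar ∈ Set.range (AlgSp.Points.map j.hom) ∧
        ∀ E : AlgSp.EtOver X.obj, Set.range (AlgSp.Points.ofPt E.obj.hom) ⊆ Set.range (AlgSp.Points.map j.hom) →
          IsIso (φ.val.app (op E)) := by
  have hG := Groth.Agent.Lib.Seat48.BCEt.hasBCOn_of_isQuasicoherent G
  have hF := Groth.Agent.Lib.Seat48.BCEt.hasBCOn_of_isQuasicoherent F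
  have hK : Groth.Agent.Lib.Seat48.BCSite.HasBCOn (Groth.Agent.Lib.Seat48.BCEt.affineData X.obj)
      (kernel φ).val :=
    Groth.Agent.Lib.Seat48.BCSite.hasBCOn_kernel _ φ hG hF
  have hC : Groth.Agent.Lib.Seat48.BCSite.HasBCOn (Groth.Agent.Lib.Seat48.BCEt.affineData X.obj)
      (cokernel φ).val :=
    Groth.Agent.Lib.Seat48.BCSite.hasBCOn_cokernel _ φ hG hF
  have hfinK : ∀ E : AlgSp.EtOver X.obj, IsAffine E.obj.left.left →
      Module.Finite ((AlgSp.OEtRing X.obj).obj.obj (op E)) ((kernel φ).val.obj (op E)) := by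
    intro E hE
    have := Groth.Agent.Lib.Seat48.BCEt.isNoetherianRing_sect hX E hE
    have := Groth.Agent.Lib.Seat48.BCEt.finite_sections G hG E hE
    exact Module.Finite.of_injective ((kernel.ι φ).val.app (op E)).hom
      (Groth.Agent.Lib.Seat48.CohEt.app_injective_of_mono (kernel.ι φ) (op E))
  have hfinC : ∀ E : AlgSp.EtOver X.obj, IsAffine E.obj.left.left →
      Module.Finite ((AlgSp.OEtRing X.obj).obj.obj (op E)) ((cokernel φ).val.obj (op E)) := by
    intro E hE
    have := Groth.Agent.Lib.Seat48.BCEt.finite_sections F hF E hE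
    exact Module.Finite.of_surjective ((cokernel.π φ).val.app (op E)).hom
      (Groth.Agent.Lib.Seat48.BCSite.app_surjective_of_epi
        (Groth.Agent.Lib.Seat48.BCEt.affineData X.obj) (cokernel.π φ) hF hC hE)
  have hbij : Function.Bijective
      ((AlgSp.stalkEtFunctor AddCommGrpCat.{u + 1} xbar).map ((AlgSp.toAbEt X.obj).map φ)).hom :=
    ConcreteCategory.bijective_of_isIso _
  have : IsCofiltered (AlgSp.EtNbhd xbar) := Groth.Agent.S10217.result X xbar hx
  obtain ⟨⟨U, l⟩⟩ := (IsCofiltered.nonempty : Nonempty (AlgSp.EtNbhd xbar))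
  obtain ⟨V₁, ψ₁, y₁, -, hV₁, hV₁0⟩ :=
    Groth.Agent.Lib.Seat48.StalkEt.exists_affine_nbhd_sections_eq_zero X (kernel φ) hK hfinK xbar hx
      (fun U l σ => Groth.Agent.Lib.Seat48.StalkEt.germ_kernel_eq_zero X φ xbar hx hbij.1 l σ) l
  obtain ⟨V, ψ, y, -, hV, hVC0⟩ :=
    Groth.Agent.Lib.Seat48.StalkEt.exists_affine_nbhd_sections_eq_zero X (cokernel φ) hC hfinC xbar
      hx (fun U l σ => Groth.Agent.Lib.Seat48.StalkEt.germ_cokernel_eq_zero X φ hG hF xbar hx
        hbij.2 l σ) y₁
  have hVK0 : ∀ σ : (kernel φ).val.obj (op V), σ = 0 :=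
    Groth.Agent.Lib.Seat48.StalkEt.eq_zero_of_hom X (kernel φ) hK ψ hV₁ hV hV₁0
  obtain ⟨X', j, hj, hrange⟩ := Groth.Agent.S10195.result X
    (Set.range (AlgSp.Points.ofPt V.obj.hom))
    (Groth.Agent.Lib.Helper9.SpPoint.isOpenMap_ofPt V).isOpen_range
  refine ⟨X', j, hj, ?_, ?_⟩
  · rw [hrange]
    exact ⟨y.1.left (default : Spec (CommRingCat.of xbar.K)),
      Groth.Agent.Lib.Helper9.SpPoint.ofPt_lift xbar V y default⟩
  · intro E hE
    rw [hrange] at hE
    have hsub : ∀ Y : Over E, Set.range (AlgSp.Points.ofPt Y.left.obj.hom) ⊆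
        Set.range (AlgSp.Points.ofPt V.obj.hom) := by
      rintro Y _ ⟨t, rfl⟩
      apply hE
      exact ⟨Y.hom.hom.left.left t,
        Groth.Agent.Lib.Seat48.WeakAssChart.ofPt_hom Y.hom t⟩
    exact Groth.Agent.Lib.Seat48.StalkEt.isIso_app_of_sections_eq_zero φ E
      (fun Y σ => Groth.Agent.Lib.Seat48.StalkEt.sections_eq_zero_of_range_subset X (kernel φ) hK hV
        hVK0 Y.left (hsub Y) σ)
      (fun Y σ => Groth.Agent.Lib.Seat48.StalkEt.sections_eq_zero_of_range_subset X (cokernel φ) hC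
        hV hVC0 Y.left (hsub Y) σ)

end Groth.Agent.S10758
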