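import Groth.Statements.S10763
import Groth.Agent.Lib.Seat43ProperImage
-- import your own Groth.Agent.* helpers here

set_option autoImplicit false
universe u
open CategoryTheory CategoryTheory.Limits AlgebraicGeometry
open AlgSp

namespace Groth.Agent.S10763

/-- Let B be an algebraic space over S, let a : X ⟶ B and b : Y ⟶ B be locally of finite type, and let f
: X ⟶ Y be a universally closed morphism over B. If i : Z ⟶ X is a closed subspace with Z ⟶ B
proper, then the image of |Z| under |f| is a closed subset of |Y| which underlies a closed subspace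
Z' ⟶ Y with Z' ⟶ B proper. -/
theorem result {S : Scheme.{u}} {X Y B Z : AlgSp.Space S}
    (a : X ⟶ B) (b : Y ⟶ B) (f : X ⟶ Y) (hcomm : f ≫ b = a)
    (ha : AlgSp.LocP @LocallyOfFiniteType a.hom) (hb : AlgSp.LocP @LocallyOfFiniteType b.hom)
    (hfc : AlgSp.IsUnivClosedMor f.hom)
    (i : Z ⟶ X) (hi : AlgSp.RepWith @IsClosedImmersion i.hom) (hZ : AlgSp.IsProperMor (i ≫ a).hom) :
    IsClosed (AlgSp.Points.map f.hom '' Set.range (AlgSp.Points.map i.hom)) ∧
      ∃ (Z' : AlgSp.Space S) (i' : Z' ⟶ Y), AlgSp.RepWith @IsClosedImmersion i'.hom ∧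
        Set.range (AlgSp.Points.map i'.hom) = AlgSp.Points.map f.hom '' Set.range (AlgSp.Points.map i.hom) ∧
        AlgSp.IsProperMor (i' ≫ b).hom := by
  have hg : AlgSp.IsUnivClosedMor (i ≫ f).hom :=
    Groth.Agent.Lib.Helper12.Proper.isUnivClosedMor_comp X.property Y.property i.hom f.hom
      (Groth.Agent.Lib.Helper12.Proper.isUnivClosedMor_of_isClosedImmersion i.hom hi) hfc
  have hgb : AlgSp.IsProperMor ((i ≫ f) ≫ b).hom := by
    rw [Category.assoc, hcomm]; exact hZ
  rw [Groth.Agent.Lib.Seat43.ProperImage.image_range_eq]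
  exact Groth.Agent.Lib.Seat43.ProperImage.core (i ≫ f) b hb hg hgb

end Groth.Agent.S10763
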