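import Groth.Statements.S10765
import Groth.Agent.Lib.Seat43FinUnion
import Groth.Agent.Lib.Seat43RedSub
-- import your own Groth.Agent.* helpers here

set_option autoImplicit false
universe u
open CategoryTheory CategoryTheory.Limits AlgebraicGeometry
open AlgSp

namespace Groth.Agent.S10765

/-- Let f : X ⟶ Y be a morphism of algebraic spaces over S that is locally of finite type and let i_k :
Z_k ⟶ X, for k ranging over a finite index set, be closed subspaces with each Z_k ⟶ Y proper. Then
there is a closed subspace W ⟶ X whose image in |X| is the union of the images of the |Z_k| and with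
W ⟶ Y proper; that is, a finite union of closed subsets proper over Y is proper over Y. -/
theorem result {S : Scheme.{u}} {X Y : AlgSp.Space S}
    (f : X ⟶ Y) (hf : AlgSp.LocP @LocallyOfFiniteType f.hom)
    {n : ℕ} (Z : Fin n → AlgSp.Space S) (i : ∀ k, Z k ⟶ X)
    (hi : ∀ k, AlgSp.RepWith @IsClosedImmersion (i k).hom) (hZ : ∀ k, AlgSp.IsProperMor (i k ≫ f).hom) :
    ∃ (W : AlgSp.Space S) (j : W ⟶ X), AlgSp.RepWith @IsClosedImmersion j.hom ∧
      Set.range (AlgSp.Points.map j.hom) = ⋃ k, Set.range (AlgSp.Points.map (i k).hom) ∧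
      AlgSp.IsProperMor (j ≫ f).hom := by
  have hclosed : IsClosed (⋃ k, Set.range (AlgSp.Points.map (i k).hom)) :=
    isClosed_iUnion_of_finite fun k =>
      (Groth.Agent.Lib.Helper12.Proper.isClosedMap_of_repWith_isClosedImmersion _ (hi k)).isClosed_range
  obtain ⟨W, j, hj, hrange, -⟩ :=
    Groth.Agent.Lib.Seat43.RedSub.exists_isRedInduced X _ hclosed
  refine ⟨W, j, hj, hrange, ?_⟩
  have sq : ∀ k, IsPullback (pullback.fst (i k).hom j.hom) (pullback.snd (i k).hom j.hom)
      (i k).hom j.hom := fun k => IsPullback.of_hasPullback _ _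
  have hQ : ∀ k, AlgSp.IsAlgSpace (pullback (i k).hom j.hom) := fun k =>
    Groth.Agent.S9874.isAlgSpace_of_isPullback X.property.diag (Z k).property W.property (sq k)
  have hcl : ∀ k, AlgSp.RepWith @IsClosedImmersion (pullback.snd (i k).hom j.hom) := fun k =>
    MorphismProperty.of_isPullback (P := AlgSp.RepWith @IsClosedImmersion) (sq k) (hi k)
  have hcl1 : ∀ k, AlgSp.RepWith @IsClosedImmersion (pullback.fst (i k).hom j.hom) := fun k =>
    MorphismProperty.of_isPullback (P := AlgSp.RepWith @IsClosedImmersion) (sq k).flip hj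
  have hsurj : ∀ w : AlgSp.Points W.obj,
      ∃ k, w ∈ Set.range (AlgSp.Points.map (pullback.snd (i k).hom j.hom)) := by
    intro w
    have hw : AlgSp.Points.map j.hom w ∈ ⋃ k, Set.range (AlgSp.Points.map (i k).hom) := by
      rw [← hrange]; exact ⟨w, rfl⟩
    obtain ⟨k, z, hz⟩ := Set.mem_iUnion.1 hw
    obtain ⟨q, -, hq⟩ := Groth.Agent.S10175.exists_point_of_isPullback (sq k) z w hz
    exact ⟨k, q, hq⟩
  have hprop : ∀ k, AlgSp.IsProperMor (pullback.snd (i k).hom j.hom ≫ (j ≫ f).hom) := by
    intro k
    have hcond : pullback.snd (i k).hom j.hom ≫ (j ≫ f).hom =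
        pullback.fst (i k).hom j.hom ≫ (i k ≫ f).hom := by
      show pullback.snd (i k).hom j.hom ≫ j.hom ≫ f.hom =
        pullback.fst (i k).hom j.hom ≫ (i k).hom ≫ f.hom
      rw [← Category.assoc, ← pullback.condition, Category.assoc]
    rw [hcond]
    exact Groth.Agent.Lib.Helper12.Proper.isProperMor_comp (Z k).property Y.property _ _
      (Groth.Agent.Lib.Helper12.Proper.isProperMor_of_isClosedImmersion (Z k).property _ (hcl1 k))
      (hZ k)
  have hlft : AlgSp.LocP @LocallyOfFiniteType (j ≫ f).hom :=
    Groth.Agent.Lib.Helper12.Proper.locP_lft_comp X.property Y.property j.hom f.hom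
      (Groth.Agent.Lib.Helper12.Proper.locP_lft_of_isClosedImmersion X.property j.hom hj) hf
  exact Groth.Agent.Lib.Seat43.FinUnion.isProperMor_of_family (j ≫ f).hom
    (fun k => pullback.snd (i k).hom j.hom) W.property Y.property hQ hsurj hcl hlft hprop

end Groth.Agent.S10765
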