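import Groth.Statements.S10787
import Groth.Agent.Lib.Seat69InjCover

set_option autoImplicit false
universe u
open CategoryTheory CategoryTheory.Limits
open CAlg

namespace Groth.Agent.S10787

/-- Let A be a Noetherian ring and J an injective A-module (an injective object of QCoh of the affine
scheme Spec A, through the equivalence with A-modules). Then J is a filtered colimit of A-modules
each of which is a finite module over some Artinian A-algebra B, the A-module structure being
restricted from B; these are the modules underlying pushforwards to Spec A of coherent sheaves on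
spectra of Artinian rings. -/
theorem result (A : Type u) [CommRing A] [IsNoetherianRing A]
    (J : Type u) [AddCommGroup J] [Module A J] [Module.Injective A J] :
    ∃ (ι : Type u) (_ : SmallCategory ι) (_ : IsFiltered ι) (D : ι ⥤ ModuleCat.{u} A)
      (c : Cocone D) (_ : IsColimit c), Nonempty (c.pt ≅ ModuleCat.of A J) ∧
      ∀ i : ι, ∃ (B : Type u) (_ : CommRing B) (_ : Algebra A B) (_ : IsArtinianRing B)
        (_ : Module B (D.obj i)) (_ : IsScalarTower A B (D.obj i)), Module.Finite B (D.obj i) := by
  classical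
  obtain ⟨𝒟, hbot, hdir, hart, hsup⟩ :=
    Groth.Agent.Lib.Seat69.InjCover.exists_directed_cover (A := A) J
  have hne : Nonempty ↥𝒟 := ⟨⟨⊥, hbot⟩⟩
  have hisd : IsDirected ↥𝒟 (· ≤ ·) := ⟨fun a b => by
    obtain ⟨c, hc, h1, h2⟩ := hdir a.1 a.2 b.1 b.2
    exact ⟨⟨c, hc⟩, h1, h2⟩⟩
  let D : ↥𝒟 ⥤ ModuleCat.{u} A :=
    { obj := fun N => ModuleCat.of A ↥N.1
      map := fun {N M} f => ModuleCat.ofHom (Submodule.inclusion (leOfHom f))
      map_id := fun N => rfl
      map_comp := fun f g => rfl }
  let c : Cocone D :=
    { pt := ModuleCat.of A J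
      ι := { app := fun N => ModuleCat.ofHom N.1.subtype
             naturality := fun N M f => rfl } }
  have : ReflectsColimitsOfShape ↥𝒟 (forget (ModuleCat.{u} A)) :=
    have : ReflectsFilteredColimits (forget (ModuleCat.{u} A)) :=
      ModuleCat.FilteredColimits.forget_reflectsFilteredColimits
    ReflectsFilteredColimitsOfSize.reflects_filtered_colimits ↥𝒟
  have hc : IsColimit c := by
    apply isColimitOfReflects (forget (ModuleCat.{u} A))
    apply Types.FilteredColimit.isColimitOf
    · intro x
      let x' : J := x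
      have hx : x' ∈ sSup 𝒟 := hsup ▸ Submodule.mem_top
      obtain ⟨N, hN, hxN⟩ := (Submodule.mem_sSup_of_directed ⟨⊥, hbot⟩ hdir).mp hx
      exact ⟨⟨N, hN⟩, (⟨x', hxN⟩ : ↥N), rfl⟩
    · intro i j xi xj h
      obtain ⟨k, hk, h1, h2⟩ := hdir i.1 i.2 j.1 j.2
      refine ⟨⟨k, hk⟩, homOfLE h1, homOfLE h2, ?_⟩
      apply Subtype.ext
      exact h
  refine ⟨↥𝒟, inferInstance, inferInstance, D, c, hc, ⟨Iso.refl _⟩, fun i => ?_⟩
  exact (hart i.1 i.2).exists_module

end Groth.Agent.S10787
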