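import Groth.Statements.S10792
import Mathlib
import Groth.Agent.Lib.Seat48EffCartierSp
import Groth.Agent.Lib.Helper20BlowUp

set_option autoImplicit false
universe u
open CategoryTheory CategoryTheory.Limits AlgebraicGeometry Topology TopologicalSpace
open AlgSp

namespace Groth.Agent.S10792

/-- (2) ⇔ (4): let X be an algebraic space over a scheme S and D ⟶ X a closed subspace (representable by
closed immersions). Then D is an effective Cartier divisor in the one-chart sense if and only if for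
every point x of |D| there are an affine scheme U over S, a representable etale h_U ⟶ X, a point u
of U mapping to the image of x in |X|, and a nonzerodivisor f of the ring A of global functions of U
such that the inverse image of D in U is the closed subscheme Spec (A/(f)), that is, the closed
subscheme of the quasi-coherent ideal sheaf of U whose ideal of global sections is generated by f. -/
theorem result {S : Scheme.{u}} (X D : AlgSp.Space S) (i : D ⟶ X)
    (hi : AlgSp.RepWith @IsClosedImmersion i.hom) :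
    AlgSp.IsEffCartierSub i.hom ↔
      ∀ x : AlgSp.Points D.obj,
        ∃ (U : Over S) (_ : IsAffine U.left) (a : (AlgSp.yon S).obj U ⟶ X.obj) (u : ↥U.left)
          (f : Γ(U.left, ⊤)) (I : U.left.IdealSheafData)
          (fst : (AlgSp.yon S).obj (Over.mk (I.subschemeι ≫ U.hom)) ⟶ D.obj),
          AlgSp.RepWith @Etale a ∧ AlgSp.Points.ofPt a u = AlgSp.Points.map i.hom x ∧
            f ∈ nonZeroDivisors Γ(U.left, ⊤) ∧
            I.ideal ⟨⊤, isAffineOpen_top U.left⟩ = Ideal.span {f} ∧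
            IsPullback fst ((AlgSp.yon S).map (Over.homMk I.subschemeι rfl : Over.mk (I.subschemeι ≫ U.hom) ⟶ U)) i.hom a := by
  constructor
  · intro hD x
    obtain ⟨-, V, φ₀, I₀, hφ₀, hφ₀s, h₀, hI₀⟩ :=
      (Groth.Agent.Lib.Seat48.EffCartierSp.isEffCartierSub_iff i.hom).1 hD
    obtain ⟨v, hv⟩ := Groth.Agent.S10177.surjective_ofPt φ₀ hφ₀s (AlgSp.Points.map i.hom x)
    obtain ⟨V₁, hvV₁, f, hf, hIf⟩ := hI₀ v
    let U : Over S := Over.mk (V₁.1.ι ≫ V.hom)
    let ι : U ⟶ V := Over.homMk V₁.1.ι rfl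
    have hUaff : IsAffine U.left := V₁.2
    have hle : (⊤ : V₁.1.toScheme.Opens) ≤ V₁.1.ι ⁻¹ᵁ V₁.1 := by
      intro y _
      exact y.2
    have hι : AlgSp.RepWith @Etale ((AlgSp.yon S).map ι) :=
      (AlgSp.repWith_yon_map_iff _ _).2 (inferInstanceAs (Etale V₁.1.ι))
    have h1 := h₀.comap ι
    obtain ⟨fst, sq⟩ := h1
    refine ⟨U, hUaff, (AlgSp.yon S).map ι ≫ φ₀, ⟨v, hvV₁⟩,
      (V₁.1.ι.appLE V₁.1 ⊤ hle).hom f, I₀.comap V₁.1.ι, fst,
      (AlgSp.RepWith @Etale).comp_mem _ _ hι hφ₀, ?_, ?_, ?_, sq⟩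
    · rw [Groth.Agent.S10176.ofPt_map_comp]
      exact hv
    · exact Groth.Agent.Lib.Helper20.RelCartier.mem_nonZeroDivisors_map_flat' _
        (V₁.1.ι.flat_appLE V₁.2 (isAffineOpen_top _) hle) hf
    · rw [Groth.Agent.Lib.Helper20.EffCartier.ideal_comap_eq_map V₁.1.ι I₀ (isAffineOpen_top _) V₁.2
        hle, hIf, Ideal.map_span, Set.image_singleton]
      rfl
  · intro h
    obtain ⟨V, φ₀, hφ₀, hφ₀s⟩ := X.property.atlas
    obtain ⟨I₀, hI₀⟩ := Groth.Agent.Lib.Seat48.EffCartierSp.exists_isInvImage hi φ₀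
    obtain ⟨fst₀, sq₀⟩ := hI₀
    refine ⟨hi, V, φ₀, I₀, fst₀, hφ₀, hφ₀s, sq₀, ?_⟩
    intro v
    by_cases hv : v ∈ I₀.support
    · rw [← SetLike.mem_coe, ← Scheme.IdealSheafData.range_subschemeι] at hv
      obtain ⟨d, rfl⟩ := hv
      obtain ⟨U, hUaff, a, u, f, I, fst, ha, hau, hf, hIf, sq⟩ := h (AlgSp.Points.ofPt fst₀ d)
      have hu : Groth.Agent.Lib.Seat48.EffCartier.EffAt I u :=
        ⟨⟨⊤, isAffineOpen_top U.left⟩, trivial, f, hf, hIf⟩
      refine Groth.Agent.Lib.Seat48.EffCartierSp.effAt_of_chart ha ⟨fst, sq⟩ hφ₀ ⟨fst₀, sq₀⟩ u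
        (I₀.subschemeι d) ?_ hu
      rw [hau, AlgSp.Points.map_ofPt, sq₀.w, Groth.Agent.S10176.ofPt_map_comp]
      rfl
    · have hvc : v ∈ Groth.Agent.Lib.Helper20.BlowUpBasic.compl I₀ := hv
      have h1 : Groth.Agent.Lib.Seat48.EffCartier.EffAt
          (I₀.comap (Groth.Agent.Lib.Helper20.BlowUpBasic.compl I₀).ι) ⟨v, hvc⟩ := by
        rw [Groth.Agent.Lib.Helper20.BlowUpBasic.comap_ι_compl]
        exact Groth.Agent.Lib.Helper20.BlowUpBasic.isEffCartierIdeal_top _
      exact Groth.Agent.Lib.Seat48.EffCartier.EffAt.of_comap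
        (Groth.Agent.Lib.Helper20.BlowUpBasic.compl I₀).ι I₀ ⟨v, hvc⟩ h1

end Groth.Agent.S10792
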