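import Groth.Statements.S10793
import Mathlib
import Groth.Agent.Lib.Seat48EffCartierCompl

set_option autoImplicit false
universe u
open CategoryTheory CategoryTheory.Limits AlgebraicGeometry Topology TopologicalSpace
open AlgSp

namespace Groth.Agent.S10793

/-- For an algebraic space X over a scheme S, an effective Cartier divisor D ⟶ X (in the one-chart
sense) and the open subspace U ⟶ X complementary to D, that is, a morphism representable by open
immersions whose image in |X| is the complement of the image of |D|: the inclusion of U in X is an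
affine morphism, and in the scheme-theoretic sense (one-chart form) U is dense in X. -/
theorem result {S : Scheme.{u}} (X D U : AlgSp.Space S)
    (i : D ⟶ X) (hD : AlgSp.IsEffCartierSub i.hom) (j : U ⟶ X) (hj : AlgSp.RepWith @IsOpenImmersion j.hom)
    (hU : Set.range (AlgSp.Points.map j.hom) = (Set.range (AlgSp.Points.map i.hom))ᶜ) :
    AlgSp.IsAffineMor j.hom ∧ AlgSp.IsSchDense j.hom := by
  obtain ⟨hi, V, φ₀, I₀, hφ₀, hφ₀s, h₀, hI₀⟩ :=
    (Groth.Agent.Lib.Seat48.EffCartierSp.isEffCartierSub_iff i.hom).1 hD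
  have hsupp := Groth.Agent.Lib.Seat48.EffCartierCompl.support_eq_of_isInvImage h₀
  constructor
  · -- the inclusion of the complement is affine
    intro Z hZ g
    obtain ⟨W, w, fst, sq⟩ := hj.1 g
    have hw : IsOpenImmersion w.left := hj.2 _ _ w sq
    refine ⟨W, w, fst, sq, ?_⟩
    obtain ⟨Z', pz, gV', sqZ⟩ := hφ₀.1 g
    obtain ⟨gV, rfl⟩ := (AlgSp.yon S).map_surjective gV'
    have hpz : Etale pz.left := hφ₀.2 _ _ pz sqZ
    have hpzs : Surjective pz.left := hφ₀s.2 _ _ pz sqZ
    have hrw := Groth.Agent.Lib.Seat48.EffCartierCompl.range_left_of_isPullback sq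
    have hr : Set.range (pullback.fst pz.left w.left) =
        gV.left ⁻¹' ((I₀.support : Set ↥V.left)ᶜ) := by
      rw [Scheme.Pullback.range_fst, hrw, hsupp, hU]
      ext z'
      simp only [Set.mem_preimage, Set.mem_ofPred_eq, Set.mem_compl_iff]
      rw [← Groth.Agent.S10176.ofPt_map_comp pz g, ← sqZ.w, Groth.Agent.S10176.ofPt_map_comp]
    have h1 : IsAffineHom (pullback.fst pz.left w.left) :=
      Groth.Agent.Lib.Seat48.EffCartierCompl.isAffineHom_of_range_eq hI₀ gV.left _ hr
    have hdesc := Groth.Agent.Lib.Helper12.descendsAlong_isAffineHom.{u}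
    have h2 : IsAffineHom w.left :=
      MorphismProperty.of_pullback_fst_of_descendsAlong (P := @IsAffineHom)
        (Q := @Surjective ⊓ @Flat ⊓ @LocallyOfFinitePresentation) (f := pz.left) (g := w.left)
        ⟨⟨hpzs, inferInstance⟩, inferInstance⟩ h1
    have : IsAffine Z.left := hZ
    exact isAffine_of_isAffineHom w.left
  · -- the complement is schematically dense
    obtain ⟨W, w, fst, sq⟩ := hj.1 φ₀
    have hw : IsOpenImmersion w.left := hj.2 _ _ w sq
    have hrw := Groth.Agent.Lib.Seat48.EffCartierCompl.range_left_of_isPullback sq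
    have hr : Set.range w.left =
        Set.range (Groth.Agent.Lib.Helper20.BlowUpBasic.compl I₀).ι := by
      rw [hrw, Scheme.Opens.range_ι, hU]
      show _ = (I₀.support : Set ↥V.left)ᶜ
      rw [hsupp]
      rfl
    let W' := Groth.Agent.Lib.Helper20.BlowUpBasic.compl I₀
    let e := IsOpenImmersion.isoOfRangeEq W'.ι w.left hr.symm
    have he : e.hom ≫ w.left = W'.ι := IsOpenImmersion.isoOfRangeEq_hom_fac _ _ _
    have hwo : e.hom ≫ W.hom = W'.ι ≫ V.hom := by
      rw [← Over.w w, ← Category.assoc, he]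
    let e₀ : Over.mk (W'.ι ≫ V.hom) ≅ W := Over.isoMk e hwo
    have he₀ : e₀.hom ≫ w = (Over.homMk W'.ι rfl : Over.mk (W'.ι ≫ V.hom) ⟶ V) :=
      Over.OverMorphism.ext he
    have sq' := Groth.Agent.Lib.Seat48.EffCartierCompl.isPullback_of_iso_over sq e₀ _ he₀
    exact ⟨hj, V, φ₀, W', _, hφ₀, hφ₀s, sq',
      Groth.Agent.Lib.Seat48.EffCartierCompl.isSchematicallyDense_compl hI₀⟩

end Groth.Agent.S10793
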