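import Groth.Statements.S10795
import Mathlib
import Groth.Agent.Lib.Seat48EffCartierSp

set_option autoImplicit false
universe u
open CategoryTheory CategoryTheory.Limits AlgebraicGeometry Topology TopologicalSpace
open AlgSp

namespace Groth.Agent.S10795

/-- For algebraic spaces X and Y over a scheme S, a flat morphism f : X ⟶ Y and an effective Cartier
divisor D ⟶ Y (one-chart sense), the inverse image of D under f is an effective Cartier divisor on
X: for every pullback square of D ⟶ Y along f, the projection to X is an effective Cartier divisor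
(one-chart sense). -/
theorem result {S : Scheme.{u}} (X Y D P : AlgSp.Space S) (f : X ⟶ Y)
    (hf : AlgSp.LocP @Flat f.hom) (i : D ⟶ Y) (hD : AlgSp.IsEffCartierSub i.hom)
    (fst : P ⟶ D) (snd : P ⟶ X) (hP : IsPullback fst.hom snd.hom i.hom f.hom) :
    AlgSp.IsEffCartierSub snd.hom := by
  have hsnd : AlgSp.RepWith @IsClosedImmersion snd.hom := MorphismProperty.of_isPullback hP hD.1
  obtain ⟨-, V, φ₀, I₀, hφ₀, hφ₀s, h₀, hI₀⟩ :=
    (Groth.Agent.Lib.Seat48.EffCartierSp.isEffCartierSub_iff i.hom).1 hD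
  obtain ⟨U₀, a₀, ha₀, ha₀s⟩ := X.property.atlas
  obtain ⟨U, pr, h', sq⟩ := hφ₀.1 (a₀ ≫ f.hom)
  obtain ⟨h, rfl⟩ := (AlgSp.yon S).map_surjective h'
  have hpr : Etale pr.left := hφ₀.2 _ _ pr sq
  have hprs : Surjective pr.left := hφ₀s.2 _ _ pr sq
  have ha : AlgSp.RepWith @Etale ((AlgSp.yon S).map pr ≫ a₀) :=
    (AlgSp.RepWith @Etale).comp_mem _ _ ((AlgSp.repWith_yon_map_iff _ _).2 hpr) ha₀
  have has : AlgSp.RepWith @Surjective ((AlgSp.yon S).map pr ≫ a₀) :=
    (AlgSp.RepWith @Surjective).comp_mem _ _ ((AlgSp.repWith_yon_map_iff _ _).2 hprs) ha₀s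
  have hw : ((AlgSp.yon S).map pr ≫ a₀) ≫ f.hom = (AlgSp.yon S).map h ≫ φ₀ := by
    rw [Category.assoc, sq.w]
  have hfl : Flat h.left := hf _ φ₀ h ha hφ₀ hw
  have h1 := h₀.comap h
  rw [← hw] at h1
  obtain ⟨fst₁, sq₁⟩ := Groth.Agent.Lib.Seat48.EffCartierSp.IsInvImage.of_isPullback hP h1
  exact ⟨hsnd, U, _, I₀.comap h.left, fst₁, ha, has, sq₁,
    Groth.Agent.Lib.Seat48.EffCartier.isEffCartierIdeal_comap h.left I₀ hI₀⟩

end Groth.Agent.S10795
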