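import Groth.Statements.S10796
import Mathlib
import Groth.Agent.Lib.Seat48EffCartierSp
import Groth.Agent.Lib.Seat48WeakAss

set_option autoImplicit false
universe u
open CategoryTheory CategoryTheory.Limits AlgebraicGeometry Topology TopologicalSpace
open AlgSp

namespace Groth.Agent.S10796

/-- For algebraic spaces X and Y over a scheme S, a morphism f : X ⟶ Y and an effective Cartier divisor
D ⟶ Y (one-chart sense), assume that no weakly associated point of X (weakly associated point of the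
structure sheaf O_X on the small etale site of X) is mapped into |D|. Then the inverse image of D
under f is an effective Cartier divisor on X: for every pullback square of D ⟶ Y along f, the
projection to X is an effective Cartier divisor (one-chart sense). -/
theorem result {S : Scheme.{u}} (X Y D P : AlgSp.Space S) (f : X ⟶ Y)
    (i : D ⟶ Y) (hD : AlgSp.IsEffCartierSub i.hom) [(AlgSp.unitModEt X.obj).IsQuasicoherent]
    (h : ∀ x ∈ AlgSp.WeakAssEt (AlgSp.unitModEt X.obj),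
      AlgSp.Points.map f.hom x ∉ Set.range (AlgSp.Points.map i.hom))
    (fst : P ⟶ D) (snd : P ⟶ X) (hP : IsPullback fst.hom snd.hom i.hom f.hom) :
    AlgSp.IsEffCartierSub snd.hom := by
  have hsnd : AlgSp.RepWith @IsClosedImmersion snd.hom := MorphismProperty.of_isPullback hP hD.1
  obtain ⟨-, V, φ₀, I₀, hφ₀, hφ₀s, h₀, hI₀⟩ :=
    (Groth.Agent.Lib.Seat48.EffCartierSp.isEffCartierSub_iff i.hom).1 hD
  have hsupp := Groth.Agent.Lib.Seat48.EffCartierCompl.support_eq_of_isInvImage h₀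
  obtain ⟨U₀, a₀, ha₀, ha₀s⟩ := X.property.atlas
  obtain ⟨U, pr, h', sq⟩ := hφ₀.1 (a₀ ≫ f.hom)
  obtain ⟨hh, rfl⟩ := (AlgSp.yon S).map_surjective h'
  have hpr : Etale pr.left := hφ₀.2 _ _ pr sq
  have hprs : Surjective pr.left := hφ₀s.2 _ _ pr sq
  have ha : AlgSp.RepWith @Etale ((AlgSp.yon S).map pr ≫ a₀) :=
    (AlgSp.RepWith @Etale).comp_mem _ _ ((AlgSp.repWith_yon_map_iff _ _).2 hpr) ha₀
  have has : AlgSp.RepWith @Surjective ((AlgSp.yon S).map pr ≫ a₀) :=
    (AlgSp.RepWith @Surjective).comp_mem _ _ ((AlgSp.repWith_yon_map_iff _ _).2 hprs) ha₀s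
  have hw : ((AlgSp.yon S).map pr ≫ a₀) ≫ f.hom = (AlgSp.yon S).map hh ≫ φ₀ := by
    rw [Category.assoc, sq.w]
  have h1 := h₀.comap hh
  rw [← hw] at h1
  obtain ⟨fst₁, sq₁⟩ := Groth.Agent.Lib.Seat48.EffCartierSp.IsInvImage.of_isPullback hP h1
  refine ⟨hsnd, U, _, I₀.comap hh.left, fst₁, ha, has, sq₁, ?_⟩
  intro u
  obtain ⟨V₁, hvV₁, t, -, hIt⟩ := hI₀ (hh.left u)
  obtain ⟨U₁, hU₁, huU₁, hle⟩ :=
    exists_isAffineOpen_mem_and_subset (x := u) (U := hh.left ⁻¹ᵁ V₁.1) hvV₁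
  -- the affine open `U₁` as an object of the small etale site of `X`
  let W : Over S := Over.mk (U₁.ι ≫ U.hom)
  let ι₁ : W ⟶ U := Over.homMk U₁.ι rfl
  have hι₁ : AlgSp.RepWith @Etale ((AlgSp.yon S).map ι₁ ≫ ((AlgSp.yon S).map pr ≫ a₀)) :=
    (AlgSp.RepWith @Etale).comp_mem _ _
      ((AlgSp.repWith_yon_map_iff _ _).2 (inferInstanceAs (Etale U₁.ι))) ha
  let E : AlgSp.EtOver X.obj := AlgSp.EtOver.mk _ hι₁
  have hEaff : IsAffine E.obj.left.left := hU₁
  have hle' : (⊤ : (U₁ : Scheme.{u}).Opens) ≤ (U₁.ι ≫ hh.left) ⁻¹ᵁ V₁.1 := by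
    intro y _
    exact hle y.2
  have key : ∀ (a : Γ(E.obj.left.left, ⊤)) (u' : E.obj.left.left),
      AlgSp.primeAtPt E.obj.left.left u' ∈
        (Groth.Agent.Lib.Seat48.WeakAss.annElt a).minimalPrimes →
      (U₁.ι ≫ hh.left) u' ∉ I₀.support := by
    intro a u' hu'
    have hx := Groth.Agent.Lib.Seat48.WeakAss.mem_weakAssEt_unit E a u' hu'
    have hx2 := h _ hx
    rw [AlgSp.Points.map_ofPt] at hx2
    intro hmem
    apply hx2
    have hmem' : (U₁.ι ≫ hh.left) u' ∈ (I₀.support : Set ↥V.left) := hmem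
    rw [hsupp] at hmem'
    have e : E.obj.hom ≫ f.hom = (AlgSp.yon S).map (ι₁ ≫ hh) ≫ φ₀ := by
      show ((AlgSp.yon S).map ι₁ ≫ ((AlgSp.yon S).map pr ≫ a₀)) ≫ f.hom = _
      rw [Category.assoc, hw, Functor.map_comp, Category.assoc]
    rw [e, Groth.Agent.S10176.ofPt_map_comp]
    exact hmem'
  have h2 := Groth.Agent.Lib.Seat48.WeakAss.effAt_comap_of_weakAss (W := E.obj.left.left)
    (U₁.ι ≫ hh.left) I₀ V₁ hle' t hIt key ⟨u, huU₁⟩
  rw [Scheme.IdealSheafData.comap_comp] at h2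
  exact Groth.Agent.Lib.Seat48.EffCartier.EffAt.of_comap U₁.ι (I₀.comap hh.left) ⟨u, huU₁⟩ h2

end Groth.Agent.S10796
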