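import Groth.Statements.S10797
import Mathlib
import Groth.Agent.Lib.Seat48EffCartierSp
import Groth.Agent.Lib.Seat48SpPlumb
import Groth.Agent.S1662

set_option autoImplicit false
universe u
open CategoryTheory CategoryTheory.Limits AlgebraicGeometry Topology TopologicalSpace
open AlgSp

namespace Groth.Agent.S10797

/-- Let f : X ⟶ Y be a morphism of algebraic spaces over a scheme S and D ⟶ X an effective Cartier
divisor (one-chart sense) such that the composite D ⟶ Y is flat. Then for every morphism g : Y' ⟶ Y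
and every pullback square exhibiting X' as Y' ×_Y X with projection g' : X' ⟶ X, the inverse image
of D under g' (the projection to X' from any pullback of D ⟶ X along g') is an effective Cartier
divisor on X'. (The published statement takes g to be a morphism from a scheme Y'; this row allows
Y' to be an algebraic space, to which the same etale-local reduction to schemes applies.) -/
theorem result {S : Scheme.{u}} (X Y D Y' X' D' : AlgSp.Space S)
    (f : X ⟶ Y) (i : D ⟶ X) (hD : AlgSp.IsEffCartierSub i.hom) (hflat : AlgSp.LocP @Flat (i ≫ f).hom)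
    (g : Y' ⟶ Y) (g' : X' ⟶ X) (f' : X' ⟶ Y') (hX' : IsPullback g'.hom f'.hom f.hom g.hom)
    (k : D' ⟶ D) (i' : D' ⟶ X') (hD' : IsPullback k.hom i'.hom i.hom g'.hom) :
    AlgSp.IsEffCartierSub i'.hom := by
  have hi' : AlgSp.RepWith @IsClosedImmersion i'.hom := MorphismProperty.of_isPullback hD' hD.1
  obtain ⟨-, V, φ₀, I₀, hφ₀, hφ₀s, h₀, hI₀⟩ :=
    (Groth.Agent.Lib.Seat48.EffCartierSp.isEffCartierSub_iff i.hom).1 hD
  obtain ⟨Y₀, b, hb, hbs⟩ := Y.property.atlas
  -- `V' = V ×_Y Y₀`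
  obtain ⟨V', prV, fV', sqV⟩ := hb.1 (φ₀ ≫ f.hom)
  obtain ⟨fV, rfl⟩ := (AlgSp.yon S).map_surjective fV'
  have hprV : Etale prV.left := hb.2 _ _ prV sqV
  have hφ' : AlgSp.RepWith @Etale ((AlgSp.yon S).map prV ≫ φ₀) :=
    (AlgSp.RepWith @Etale).comp_mem _ _ ((AlgSp.repWith_yon_map_iff _ _).2 hprV) hφ₀
  have h' := h₀.comap prV
  have hI' : BlowUp.IsEffCartierIdeal (I₀.comap prV.left) :=
    Groth.Agent.Lib.Seat48.EffCartier.isEffCartierIdeal_comap prV.left I₀ hI₀
  -- flatness of `D_{V'} ⟶ Y₀`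
  obtain ⟨fstI', sqI'⟩ := h'
  have hfstI' : AlgSp.RepWith @Etale fstI' := MorphismProperty.of_isPullback sqI'.flip hφ'
  have hflat' : Flat ((I₀.comap prV.left).subschemeι ≫ fV.left) := by
    refine hflat fstI' b (Groth.Agent.Lib.Seat48.EffCartierSp.subι (I₀.comap prV.left) ≫ fV)
      hfstI' hb ?_
    show fstI' ≫ i.hom ≫ f.hom = _
    rw [← Category.assoc, sqI'.w, Functor.map_comp, Category.assoc, Category.assoc, Category.assoc,
      sqV.w]
  -- `Y'' = Y'₁ ×_Y Y₀`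
  obtain ⟨Y'₁, b', hb', hb's⟩ := Y'.property.atlas
  obtain ⟨Y'', prY', g₀', sqY⟩ := hb.1 (b' ≫ g.hom)
  obtain ⟨g₀, rfl⟩ := (AlgSp.yon S).map_surjective g₀'
  have hprY' : Etale prY'.left := hb.2 _ _ prY' sqY
  have hprY's : Surjective prY'.left := hbs.2 _ _ prY' sqY
  have hβ : AlgSp.RepWith @Etale ((AlgSp.yon S).map prY' ≫ b') :=
    (AlgSp.RepWith @Etale).comp_mem _ _ ((AlgSp.repWith_yon_map_iff _ _).2 hprY') hb'
  have hβs : AlgSp.RepWith @Surjective ((AlgSp.yon S).map prY' ≫ b') :=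
    (AlgSp.RepWith @Surjective).comp_mem _ _ ((AlgSp.repWith_yon_map_iff _ _).2 hprY's) hb's
  -- `U = V' ×_{Y₀} Y''`
  let U : Over S := Over.mk (pullback.fst fV.left g₀.left ≫ V'.hom)
  let p₁ : U ⟶ V' := Over.homMk (pullback.fst fV.left g₀.left) rfl
  have hp₂ : pullback.snd fV.left g₀.left ≫ Y''.hom = pullback.fst fV.left g₀.left ≫ V'.hom := by
    rw [← Over.w g₀, ← Category.assoc, ← pullback.condition, Category.assoc, Over.w fV]
  let p₂ : U ⟶ Y'' := Over.homMk (pullback.snd fV.left g₀.left) hp₂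
  have hUsq : IsPullback p₁ p₂ fV g₀ :=
    IsPullback.of_map (Over.forget S) (Over.OverMorphism.ext pullback.condition)
      (IsPullback.of_hasPullback fV.left g₀.left)
  have hUy := hUsq.map (AlgSp.yon S)
  have hJ : BlowUp.IsEffCartierIdeal ((I₀.comap prV.left).comap p₁.left) :=
    Groth.Agent.S1662.result fV.left (I₀.comap prV.left) hI' g₀.left
  -- `h_U = V ×_Y Y''`
  have hU : IsPullback ((AlgSp.yon S).map p₁ ≫ (AlgSp.yon S).map prV) ((AlgSp.yon S).map p₂)
      (φ₀ ≫ f.hom) (((AlgSp.yon S).map prY' ≫ b') ≫ g.hom) := by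
    have := (hUy.flip.paste_vert sqV).flip
    rwa [sqY.w, ← Category.assoc] at this
  -- the chart `c : h_U ⟶ X'`
  have hcw : (((AlgSp.yon S).map p₁ ≫ (AlgSp.yon S).map prV) ≫ φ₀) ≫ f.hom =
      ((AlgSp.yon S).map p₂ ≫ (AlgSp.yon S).map prY' ≫ b') ≫ g.hom := by
    rw [Category.assoc, Category.assoc]
    exact hU.w
  have hc : AlgSp.RepWith @Etale (hX'.lift _ _ hcw) :=
    Groth.Agent.Lib.Seat48.SpPlumb.prodMap_mem (AlgSp.RepWith @Etale) hX' hU _
      (hX'.lift_fst _ _ hcw) (hX'.lift_snd _ _ hcw) hφ₀ hβ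
  have hcs : AlgSp.RepWith @Surjective (hX'.lift _ _ hcw) :=
    Groth.Agent.Lib.Seat48.SpPlumb.prodMap_mem (AlgSp.RepWith @Surjective) hX' hU _
      (hX'.lift_fst _ _ hcw) (hX'.lift_snd _ _ hcw) hφ₀s hβs
  have h1 := Groth.Agent.Lib.Seat48.EffCartierSp.IsInvImage.comap (i := i.hom)
    (φ := (AlgSp.yon S).map prV ≫ φ₀) (I := I₀.comap prV.left) ⟨fstI', sqI'⟩ p₁
  have h2 : (AlgSp.yon S).map p₁ ≫ (AlgSp.yon S).map prV ≫ φ₀ = hX'.lift _ _ hcw ≫ g'.hom := by
    rw [hX'.lift_fst, Category.assoc]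
  rw [h2] at h1
  obtain ⟨fstJ, sqJ⟩ := Groth.Agent.Lib.Seat48.EffCartierSp.IsInvImage.of_isPullback hD' h1
  exact ⟨hi', U, _, _, fstJ, hc, hcs, sqJ, hJ⟩

end Groth.Agent.S10797
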