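import Groth.Statements.S1685
import Groth.Agent.Lib.Seat8SubStalk
import Groth.Agent.Lib.Seat8SkDiv

set_option autoImplicit false
universe u
open CategoryTheory CategoryTheory.Limits AlgebraicGeometry TopologicalSpace
open SDiv

namespace Groth.Agent.S1685

/-- Let X be a locally Noetherian scheme all of whose local rings satisfy Serre's condition (S_k), and
let D be the closed subscheme of an effective Cartier divisor. Then all local rings of D satisfy
(S_{k-1}). -/
theorem result (X : Scheme.{u}) [IsLocallyNoetherian X] (k : ℕ)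
    (hX : ∀ x : ↥X, min (k : WithBot ℕ∞) (ringKrullDim (X.presheaf.stalk x)) ≤
      ((LocCoh.depth (X.presheaf.stalk x) (X.presheaf.stalk x) : ℕ∞) : WithBot ℕ∞))
    (𝓘 : X.IdealSheafData) (h𝓘 : BlowUp.IsEffCartierIdeal 𝓘) (d : ↥𝓘.subscheme) :
    min ((k - 1 : ℕ) : WithBot ℕ∞) (ringKrullDim (𝓘.subscheme.presheaf.stalk d)) ≤
      ((LocCoh.depth (𝓘.subscheme.presheaf.stalk d) (𝓘.subscheme.presheaf.stalk d) : ℕ∞) : WithBot ℕ∞) := by
  obtain ⟨U, hxU, f, hf, hfU⟩ := h𝓘 (𝓘.subschemeι d)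
  have hU : IsAffineOpen U.1 := U.2
  have hker := Groth.Agent.Lib.Seat8.SubStalk.ker_stalkMap_subschemeι 𝓘 d U hxU
  rw [hfU, Ideal.map_span, Set.image_singleton] at hker
  let _ : Algebra Γ(X, U.1) (X.presheaf.stalk (𝓘.subschemeι d)) :=
    TopCat.Presheaf.algebra_section_stalk X.presheaf (⟨𝓘.subschemeι d, hxU⟩ : U.1)
  have hlocX : IsLocalization.AtPrime (X.presheaf.stalk (𝓘.subschemeι d))
      (hU.primeIdealOf ⟨_, hxU⟩).asIdeal := hU.isLocalization_stalk ⟨_, hxU⟩
  have hg : (X.presheaf.germ U.1 (𝓘.subschemeι d) hxU).hom f ∈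
      nonZeroDivisors (X.presheaf.stalk (𝓘.subschemeι d)) :=
    IsLocalization.map_nonZeroDivisors_le (hU.primeIdealOf ⟨_, hxU⟩).asIdeal.primeCompl
      (X.presheaf.stalk (𝓘.subschemeι d)) (Submonoid.mem_map_of_mem _ hf)
  exact Groth.Agent.Lib.Seat8.SkDiv.sk_pred (𝓘.subschemeι.stalkMap d).hom
    (Groth.Agent.Lib.Seat8.SubStalk.stalkMap_subschemeι_surjective 𝓘 d) _ hg hker k
    (hX (𝓘.subschemeι d))

end Groth.Agent.S1685
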