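import Groth.Statements.S10799
import Mathlib
import Groth.Agent.Lib.Seat48EffCartierSp
import Groth.Agent.S1685
import Groth.Agent.Lib.Helper28FlatNormal

set_option autoImplicit false
universe u
open CategoryTheory CategoryTheory.Limits AlgebraicGeometry Topology TopologicalSpace
open AlgSp

namespace Groth.Agent.S10799

/-- Let X be an algebraic space over a scheme S which is locally Noetherian and normal in the
etale-local sense: some etale surjective chart of X from a locally Noetherian scheme all of whose
local rings are integrally closed domains. Let D ⟶ X be an effective Cartier divisor (one-chart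
sense). Then D is (S_1): some etale surjective chart of D from a locally Noetherian scheme all of
whose local rings O satisfy min(1, dim O) ≤ depth O. -/
theorem result {S : Scheme.{u}} (X D : AlgSp.Space S)
    (hX : AlgSp.EtaleLocally (fun U => IsLocallyNoetherian U ∧ Pi1.IsNormalScheme U) X.obj)
    (i : D ⟶ X) (hD : AlgSp.IsEffCartierSub i.hom) :
    AlgSp.EtaleLocally (fun V => IsLocallyNoetherian V ∧ ∀ v : ↥V,
        min ((1 : ℕ) : WithBot ℕ∞) (ringKrullDim ↥(V.presheaf.stalk v)) ≤
          ((LocCoh.depth ↥(V.presheaf.stalk v) ↥(V.presheaf.stalk v) : ℕ∞) : WithBot ℕ∞)) D.obj := by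
  obtain ⟨U, p, hpe, hps, hUN, hUnor⟩ := hX
  obtain ⟨I, hI⟩ := Groth.Agent.Lib.Seat48.EffCartierSp.exists_isInvImage hD.1 p
  have hIeff := Groth.Agent.Lib.Seat48.EffCartierSp.isEffCartierIdeal_of_isEffCartierSub hD hpe hI
  obtain ⟨fst, sq⟩ := hI
  have hfe : AlgSp.RepWith @Etale fst := MorphismProperty.of_isPullback sq.flip hpe
  have hfs : AlgSp.RepWith @Surjective fst := MorphismProperty.of_isPullback sq.flip hps
  have : IsLocallyNoetherian U.left := hUN
  have hS2 : ∀ x : ↥U.left, min ((2 : ℕ) : WithBot ℕ∞) (ringKrullDim (U.left.presheaf.stalk x)) ≤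
      ((LocCoh.depth (U.left.presheaf.stalk x) (U.left.presheaf.stalk x) : ℕ∞) : WithBot ℕ∞) := by
    intro x
    obtain ⟨hdom, hic⟩ := hUnor x
    have h1 := Groth.Agent.Lib.Helper28.min_two_height_le_depth_of_isIntegrallyClosed
      (F := U.left.presheaf.stalk x)
    rw [← IsLocalRing.maximalIdeal_height_eq_ringKrullDim]
    have h2 := WithBot.coe_le_coe.mpr h1
    refine le_trans (le_of_eq ?_) h2
    rw [WithBot.coe_min]
    rfl
  refine ⟨Groth.Agent.Lib.Seat48.EffCartierSp.subOver I, fst, hfe, hfs, ?_, ?_⟩
  · show IsLocallyNoetherian I.subscheme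
    exact LocallyOfFiniteType.isLocallyNoetherian I.subschemeι
  · intro d
    exact Groth.Agent.S1685.result U.left 2 hS2 I hIeff d

end Groth.Agent.S10799
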