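import Groth.Statements.S10802
import Mathlib
import Groth.Agent.S9951
import Groth.Agent.S9984
import Groth.Agent.S9874

set_option autoImplicit false
universe u
open CategoryTheory CategoryTheory.Limits AlgebraicGeometry Topology TopologicalSpace
open AlgSp

namespace Groth.Agent.S10802

/-- For algebraic spaces X and Y over a scheme S and a morphism f : X ⟶ Y which is locally of finite
type, every fibre of f over a field-valued point of Y is a locally Noetherian algebraic space: for
every field k and every point p : Spec k ⟶ Y, the fibre X_p = Spec k ×_Y X (any pullback of f along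
the morphism of p) admits a representable etale surjective chart from a locally Noetherian scheme. -/
theorem result {S : Scheme.{u}} (X Y : AlgSp.Space S) (f : X ⟶ Y)
    (hf : AlgSp.LocP @LocallyOfFiniteType f.hom) (p : AlgSp.FieldPt Y.obj)
    {P : AlgSp.Sp S} (fst : P ⟶ X.obj) (snd : P ⟶ (AlgSp.yon S).obj p.pt) (hP : IsPullback fst snd f.hom p.toHom) :
    AlgSp.IsLocNoethSp P := by
  have hPsp : AlgSp.IsAlgSpace P :=
    Groth.Agent.S9874.result S Y.obj Y.property.diag X ((AlgSp.ofScheme S).obj p.pt) f.hom p.toHom P fst snd hP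
  let P' : AlgSp.Space S := ⟨P, hPsp⟩
  let fst' : P' ⟶ X := ObjectProperty.homMk fst
  let snd' : P' ⟶ (AlgSp.ofScheme S).obj p.pt := ObjectProperty.homMk snd
  let g : (AlgSp.ofScheme S).obj p.pt ⟶ Y := ObjectProperty.homMk p.toHom
  have h1 : AlgSp.LocP @LocallyOfFiniteType snd'.hom :=
    Groth.Agent.S9984.result @LocallyOfFiniteType (Or.inl rfl) f g fst' snd' hP hf
  refine Groth.Agent.S9951.result snd' h1 ?_
  refine ⟨p.pt, 𝟙 _, ?_, ?_, ?_⟩
  · rw [← (AlgSp.yon S).map_id]; exact (AlgSp.repWith_yon_map_iff _ _).2 (by dsimp; infer_instance)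
  · rw [← (AlgSp.yon S).map_id]; exact (AlgSp.repWith_yon_map_iff _ _).2 (by dsimp; infer_instance)
  · show IsLocallyNoetherian (Spec (CommRingCat.of p.K))
    infer_instance

end Groth.Agent.S10802
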