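import Groth.Statements.S10803
import Mathlib
import Groth.Agent.Lib.Seat48FibreNoeth
import Groth.Agent.S10176
import Groth.Agent.S9874

set_option autoImplicit false
universe u
open CategoryTheory CategoryTheory.Limits AlgebraicGeometry Topology TopologicalSpace
open AlgSp

namespace Groth.Agent.S10803

/-- (3) ⇒ (2) (with (2) ⇒ (1) ⇒ (3) immediate, this gives the equivalence of the three conditions
defining a locally Noetherian fibre over y): take a morphism f : X ⟶ Y of algebraic spaces over a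
scheme S and a point y of |Y|. Suppose that for some field k and some point p : Spec k ⟶ Y
representing y the fibre X_p (any pullback of f along the morphism of p) is locally Noetherian. Then
for every scheme V, every representable etale h_V ⟶ Y and every point v of V mapping to y, the fibre
X_v = Spec κ(v) ×_Y X is locally Noetherian. -/
theorem result {S : Scheme.{u}} (X Y : AlgSp.Space S) (f : X ⟶ Y)
    (y : AlgSp.Points Y.obj) (p : AlgSp.FieldPt Y.obj) (hp : AlgSp.Points.mk p = y)
    (hNoeth : ∀ ⦃P : AlgSp.Sp S⦄ (fst : P ⟶ X.obj) (snd : P ⟶ (AlgSp.yon S).obj p.pt),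
      IsPullback fst snd f.hom p.toHom → AlgSp.IsLocNoethSp P)
    (V : Over S) (b : (AlgSp.yon S).obj V ⟶ Y.obj) (hb : AlgSp.RepWith @Etale b) (v : ↥V.left)
    (hv : AlgSp.Points.ofPt b v = y)
    {Q : AlgSp.Sp S} (qfst : Q ⟶ X.obj) (qsnd : Q ⟶ (AlgSp.yon S).obj (AlgSp.FieldPt.ofPt b v).pt)
    (hQ : IsPullback qfst qsnd f.hom (AlgSp.FieldPt.ofPt b v).toHom) :
    AlgSp.IsLocNoethSp Q := by
  have hQsp : AlgSp.IsAlgSpace Q :=
    Groth.Agent.S9874.result S Y.obj Y.property.diag X
      ((AlgSp.ofScheme S).obj (AlgSp.FieldPt.ofPt b v).pt) f.hom (AlgSp.FieldPt.ofPt b v).toHom Q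
      qfst qsnd hQ
  -- the fibre product `W = Spec k ×_Y V`, etale over `Spec k`
  obtain ⟨W, pr, h', sq⟩ := hb.1 p.toHom
  obtain ⟨h, rfl⟩ := (AlgSp.yon S).map_surjective h'
  have hpr : Etale pr.left := hb.2 _ _ pr sq
  -- a point `w` of `W` over `v`
  have s₀ : ↥p.pt.left := (⊥ : PrimeSpectrum p.K)
  have e : AlgSp.Points.ofPt b v = AlgSp.Points.ofPt p.toHom s₀ := by
    rw [hv, AlgSp.Points.ofPt_toHom, hp]
  obtain ⟨w, hw1, -⟩ := Groth.Agent.S10176.exists_point_of_isPullback_yon sq v s₀ e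
  subst hw1
  let kw : Over S := Over.mk (W.left.fromSpecResidueField w ≫ W.hom)
  let iw : kw ⟶ W := Over.homMk (W.left.fromSpecResidueField w) rfl
  let iv : (AlgSp.FieldPt.ofPt b (h.left w)).pt ⟶ V :=
    Over.homMk (V.left.fromSpecResidueField (h.left w)) rfl
  have hc₂w : Spec.map (h.left.residueFieldMap w) ≫
      (V.left.fromSpecResidueField (h.left w) ≫ V.hom) = W.left.fromSpecResidueField w ≫ W.hom := by
    rw [← Category.assoc, Scheme.Hom.SpecMap_residueFieldMap_fromSpecResidueField, Category.assoc,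
      Over.w h]
  let c₂ : kw ⟶ (AlgSp.FieldPt.ofPt b (h.left w)).pt :=
    Over.homMk (Spec.map (h.left.residueFieldMap w)) hc₂w
  have hc₂ : c₂ ≫ iv = iw ≫ h :=
    Over.OverMorphism.ext (Scheme.Hom.SpecMap_residueFieldMap_fromSpecResidueField h.left w)
  let c₁ : kw ⟶ p.pt := iw ≫ pr
  have htoHom : (AlgSp.FieldPt.ofPt b (h.left w)).toHom = (AlgSp.yon S).map iv ≫ b :=
    AlgSp.FieldPt.toHom_ofPt b _
  have key : (AlgSp.yon S).map c₂ ≫ (AlgSp.FieldPt.ofPt b (h.left w)).toHom =
      (AlgSp.yon S).map c₁ ≫ p.toHom := by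
    rw [htoHom, ← Category.assoc, ← Functor.map_comp, hc₂, Functor.map_comp, Category.assoc, sq.w,
      ← Category.assoc, ← Functor.map_comp]
  -- the base change `Q'` of `Q` to `Spec κ(w)`
  have hQ' := IsPullback.of_hasPullback qsnd ((AlgSp.yon S).map c₂)
  have hbig : IsPullback (pullback.fst qsnd ((AlgSp.yon S).map c₂) ≫ qfst)
      (pullback.snd qsnd ((AlgSp.yon S).map c₂)) f.hom ((AlgSp.yon S).map c₁ ≫ p.toHom) := by
    have := hQ'.paste_horiz hQ
    rwa [key] at this
  -- the fibre `P` over `p`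
  have hP := IsPullback.of_hasPullback f.hom p.toHom
  have hPN := hNoeth _ _ hP
  have hcomm : (pullback.fst qsnd ((AlgSp.yon S).map c₂) ≫ qfst) ≫ f.hom =
      (pullback.snd qsnd ((AlgSp.yon S).map c₂) ≫ (AlgSp.yon S).map c₁) ≫ p.toHom := by
    rw [hbig.w, Category.assoc]
  have hleft : IsPullback (hP.lift _ _ hcomm) (pullback.snd qsnd ((AlgSp.yon S).map c₂))
      (pullback.snd f.hom p.toHom) ((AlgSp.yon S).map c₁) := by
    refine IsPullback.of_right ?_ (hP.lift_snd _ _ hcomm) hP
    rw [hP.lift_fst _ _ hcomm]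
    exact hbig
  -- `Spec κ(w) ⟶ Spec k` is locally of finite type
  have hsub : Subsingleton ↥p.pt.left := (inferInstance : Subsingleton (PrimeSpectrum p.K))
  have hci : IsClosedImmersion (W.left.fromSpecResidueField w) :=
    Groth.Agent.Lib.Seat48.FibreNoeth.isClosedImmersion_fromSpecResidueField_of_etale pr.left w
  have hc₁ : LocallyOfFiniteType c₁.left := by
    show LocallyOfFiniteType (W.left.fromSpecResidueField w ≫ pr.left)
    infer_instance
  have hQ'N := Groth.Agent.Lib.Seat48.FibreNoeth.isLocNoethSp_of_baseChange_lft c₁ hleft hPN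
  -- `Spec κ(w) ⟶ Spec κ(v)` is flat, surjective and quasi-compact
  have h123 := Groth.Agent.Lib.Seat48.FibreNoeth.flat_surjective_affine_of_field
    (K := ↥(V.left.residueField (h.left w))) (L := ↥(W.left.residueField w)) c₂.left
  have h1 : Flat c₂.left := h123.1
  have h2 : Surjective c₂.left := h123.2.1
  have h3 : IsAffineHom c₂.left := h123.2.2
  exact Groth.Agent.Lib.Seat48.FibreNoeth.isLocNoethSp_of_baseChange_fpqc hQsp c₂ hQ' hQ'N

end Groth.Agent.S10803
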