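import Groth.Statements.S10804
import Mathlib
import Groth.Agent.Lib.Seat48FibreNoeth
import Groth.Agent.S10215
import Groth.Agent.S9874

set_option autoImplicit false
universe u
open CategoryTheory CategoryTheory.Limits AlgebraicGeometry Topology TopologicalSpace
open AlgSp

namespace Groth.Agent.S10804

/-- (3) ⇒ (4): let f : X ⟶ Y be a morphism of algebraic spaces over a scheme S, and let p : Spec k ⟶ Y
and p₀ : Spec k₀ ⟶ Y be field-valued points defining the same point of |Y|, with h_{Spec k₀} ⟶ Y a
monomorphism. If the fibre X_p = Spec k ×_Y X (any pullback of f along the morphism of p) is locally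
Noetherian, then the fibre X_{p₀} is locally Noetherian. -/
theorem result {S : Scheme.{u}} (X Y : AlgSp.Space S) (f : X ⟶ Y)
    (p p₀ : AlgSp.FieldPt Y.obj) (hpp : AlgSp.Points.mk p = AlgSp.Points.mk p₀) (hmono : Mono p₀.toHom)
    (hNoeth : ∀ ⦃P : AlgSp.Sp S⦄ (fst : P ⟶ X.obj) (snd : P ⟶ (AlgSp.yon S).obj p.pt),
      IsPullback fst snd f.hom p.toHom → AlgSp.IsLocNoethSp P)
    {Q : AlgSp.Sp S} (qfst : Q ⟶ X.obj) (qsnd : Q ⟶ (AlgSp.yon S).obj p₀.pt)
    (hQ : IsPullback qfst qsnd f.hom p₀.toHom) :
    AlgSp.IsLocNoethSp Q := by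
  have hQsp : AlgSp.IsAlgSpace Q :=
    Groth.Agent.S9874.result S Y.obj Y.property.diag X ((AlgSp.ofScheme S).obj p₀.pt) f.hom p₀.toHom Q
      qfst qsnd hQ
  have := hmono
  obtain ⟨c, hc, -⟩ := Groth.Agent.S10215.result Y p₀ p hpp.symm
  -- the base change of `Q` to `Spec k`
  have hP := IsPullback.of_hasPullback qsnd ((AlgSp.yon S).map c)
  have hbig : IsPullback (pullback.fst qsnd ((AlgSp.yon S).map c) ≫ qfst)
      (pullback.snd qsnd ((AlgSp.yon S).map c)) f.hom p.toHom := by
    have := hP.paste_horiz hQ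
    rwa [hc] at this
  have hPN := hNoeth _ _ hbig
  -- `Spec k ⟶ Spec k₀` is flat, surjective and quasi-compact
  have hsub : Subsingleton ↥p₀.pt.left := (inferInstance : Subsingleton (PrimeSpectrum p₀.K))
  have hne : Nonempty ↥p.pt.left := (inferInstance : Nonempty (PrimeSpectrum p.K))
  have : Surjective c.left := ⟨fun y => ⟨hne.some, Subsingleton.elim _ _⟩⟩
  have : IsAffine p.pt.left := (inferInstance : IsAffine (Spec (CommRingCat.of p.K)))
  have : IsAffine p₀.pt.left := (inferInstance : IsAffine (Spec (CommRingCat.of p₀.K)))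
  have : IsAffineHom c.left := isAffineHom_of_isAffine c.left
  have : Flat c.left := by
    have e : c.left = Spec.map (Spec.preimage c.left) := (Spec.map_preimage c.left).symm
    rw [e, HasRingHomProperty.Spec_iff (P := @Flat)]
    algebraize [(Spec.preimage c.left).hom]
    show Module.Flat p₀.K p.K
    infer_instance
  exact Groth.Agent.Lib.Seat48.FibreNoeth.isLocNoethSp_of_baseChange_fpqc hQsp c hP hPN

end Groth.Agent.S10804
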