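import Groth.Statements.S10805
import Mathlib
import Groth.Agent.Lib.Seat48WeakAssRed
import Groth.Agent.Lib.Seat48IdealEt
import Groth.Agent.S10176

set_option autoImplicit false
universe u
open CategoryTheory CategoryTheory.Limits AlgebraicGeometry Topology TopologicalSpace
open AlgSp

namespace Groth.Agent.S10805

/-- Let X be a reduced algebraic space over a scheme S and x a point of |X|. Then x is a weakly
associated point of X (a weakly associated point of the structure sheaf O_X on the small etale site)
if and only if x is a point of codimension 0 of X (for some scheme U with a representable etale h_U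
⟶ X and some point u of U over x, the local ring of U at u has Krull dimension 0). -/
theorem result {S : Scheme.{u}} (X : AlgSp.Space S)
    (hX : AlgSp.IsReducedSp X.obj) [(AlgSp.unitModEt X.obj).IsQuasicoherent] (x : AlgSp.Points X.obj) :
    x ∈ AlgSp.WeakAssEt (AlgSp.unitModEt X.obj) ↔
      AlgSp.HasAt (fun U u => ringKrullDim ↥(U.presheaf.stalk u) = 0) X.obj x := by
  constructor
  · rintro ⟨E, hE, u, hx, s, hs⟩
    have hred : IsReduced E.obj.left.left :=
      Groth.Agent.Lib.Seat48.WeakAssRed.isReduced_of_isReducedSp hX E.obj.hom E.property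
    let a₀ : Γ(E.obj.left.left, ⊤) := ULift.down s
    have e1 : AlgSp.annSect s = Groth.Agent.Lib.Seat48.WeakAss.annElt a₀ :=
      Groth.Agent.Lib.Seat48.WeakAss.annSect_unitSect E a₀
    have hs' : AlgSp.primeAtPt E.obj.left.left u ∈
        (Groth.Agent.Lib.Seat48.WeakAss.annElt a₀).minimalPrimes := e1 ▸ hs
    have hredR : _root_.IsReduced Γ(E.obj.left.left, ⊤) := inferInstance
    have hmin := Groth.Agent.Lib.Seat48.WeakAssRed.mem_minimalPrimes_of_annElt hs'
    exact ⟨E.obj.left, E.obj.hom, u, E.property, hx,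
      (Groth.Agent.Lib.Seat48.WeakAssRed.ringKrullDim_stalk_eq_zero_iff u).2 hmin⟩
  · rintro ⟨U, a, u, ha, hx, hdim⟩
    obtain ⟨U₁, hU₁, hu, -⟩ := exists_isAffineOpen_mem_and_subset (x := u)
      (U := (⊤ : U.left.Opens)) trivial
    let E : AlgSp.EtOver X.obj := Groth.Agent.Lib.Seat48.IdealEtSp.openObj a ha U₁
    have hEaff : IsAffine E.obj.left.left := hU₁
    let u₁ : E.obj.left.left := ⟨u, hu⟩
    have hdim' : ringKrullDim ((E.obj.left.left).presheaf.stalk u₁) = 0 := by
      rw [← hdim]
      exact ringKrullDim_eq_of_ringEquiv (U₁.stalkIso ⟨u, hu⟩).commRingCatIsoToRingEquiv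
    have hmin := (Groth.Agent.Lib.Seat48.WeakAssRed.ringKrullDim_stalk_eq_zero_iff u₁).1 hdim'
    have hw := Groth.Agent.Lib.Seat48.WeakAss.mem_weakAssEt_unit E 1 u₁
      (Groth.Agent.Lib.Seat48.WeakAssRed.mem_minimalPrimes_annElt_one hmin)
    have e : AlgSp.Points.ofPt E.obj.hom u₁ = x := by
      rw [← hx]
      exact Groth.Agent.S10176.ofPt_map_comp (Groth.Agent.Lib.Seat48.IdealEtSp.openι U₁) a u₁
    rw [e] at hw
    exact hw

end Groth.Agent.S10805
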