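import Groth.Statements.S10806
import Mathlib
import Groth.Agent.Lib.Seat48EffCartierCompl

set_option autoImplicit false
universe u
open CategoryTheory CategoryTheory.Limits AlgebraicGeometry Topology TopologicalSpace
open AlgSp

namespace Groth.Agent.S10806

open Groth.Agent.Lib.Seat48.EffCartierCompl in
/-- an open immersion whose range is the inverse image of the complement of a locally principal
closed subscheme is an affine morphism. -/
theorem isAffineHom_of_range_eq {X : Scheme.{u}} {I : X.IdealSheafData} (hI : Curv2.IsLocPrincipal I)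
    {T W : Scheme.{u}} (h : T ⟶ X) (ι : W ⟶ T) [IsOpenImmersion ι]
    (hr : Set.range ι = h ⁻¹' ((I.support : Set X)ᶜ)) : IsAffineHom ι := by
  apply isAffineHom_of_forall_exists_isAffineOpen
  intro t
  by_cases hts : h t ∈ I.support
  · obtain ⟨V₁, htV₁, f, hIf⟩ := hI (h t) hts
    obtain ⟨T₁, hT₁, htT₁, hle⟩ :=
      exists_isAffineOpen_mem_and_subset (x := t) (U := h ⁻¹ᵁ V₁.1) htV₁
    refine ⟨T₁, htT₁, hT₁, ?_⟩
    rw [← ι.isAffineOpen_iff_of_isOpenImmersion]
    have e : ι ''ᵁ ι ⁻¹ᵁ T₁ = T.basicOpen (h.appLE V₁.1 T₁ hle f) := by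
      rw [Scheme.basicOpen_appLE]
      ext y
      simp only [Scheme.Hom.coe_image, Scheme.Hom.coe_preimage, Set.image_preimage_eq_inter_range,
        TopologicalSpace.Opens.coe_inf, hr]
      constructor
      · rintro ⟨hy1, hy2⟩
        refine ⟨hy1, ?_⟩
        have : h y ∉ I.support := hy2
        rw [mem_support_iff_of_span V₁ f hIf (hle hy1), not_not] at this
        exact this
      · rintro ⟨hy1, hy2⟩
        refine ⟨hy1, ?_⟩
        show h y ∉ I.support
        rw [mem_support_iff_of_span V₁ f hIf (hle hy1), not_not]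
        exact hy2
    rw [e]
    exact hT₁.basicOpen _
  · have htr : t ∈ ι.opensRange := by
      show t ∈ Set.range ι
      rw [hr]
      exact hts
    obtain ⟨T₁, hT₁, htT₁, hle⟩ :=
      exists_isAffineOpen_mem_and_subset (x := t) (U := ι.opensRange) htr
    refine ⟨T₁, htT₁, hT₁, ?_⟩
    rw [← ι.isAffineOpen_iff_of_isOpenImmersion]
    have e : ι ''ᵁ ι ⁻¹ᵁ T₁ = T₁ := by
      ext y
      simp only [Scheme.Hom.coe_image, Scheme.Hom.coe_preimage, Set.image_preimage_eq_inter_range]
      constructor
      · rintro ⟨hy1, -⟩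
        exact hy1
      · intro hy
        exact ⟨hy, hle hy⟩
    rw [e]
    exact hT₁

/-- Let X be an algebraic space over a scheme S, Z ⟶ X a locally principal closed subspace (one-chart
sense: representable by closed immersions, and on some etale surjective scheme chart the inverse
image of Z is cut out by a quasi-coherent ideal sheaf that is Zariski-locally generated by one
section) and U ⟶ X the complementary open subspace, that is, a morphism representable by open
immersions whose image in |X| is the complement of the image of |Z|. Then U ⟶ X is an affine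
morphism. -/
theorem result {S : Scheme.{u}} (X Z U : AlgSp.Space S)
    (i : Z ⟶ X) (hZ : AlgSp.IsLocPrincipalSub i.hom) (j : U ⟶ X) (hj : AlgSp.RepWith @IsOpenImmersion j.hom)
    (hU : Set.range (AlgSp.Points.map j.hom) = (Set.range (AlgSp.Points.map i.hom))ᶜ) :
    AlgSp.IsAffineMor j.hom := by
  obtain ⟨hi, V, φ₀, I₀, fst₀, hφ₀, hφ₀s, sq₀, hI₀⟩ := hZ
  have h₀ : Groth.Agent.Lib.Seat48.EffCartierSp.IsInvImage i.hom φ₀ I₀ := ⟨fst₀, sq₀⟩
  have hsupp := Groth.Agent.Lib.Seat48.EffCartierCompl.support_eq_of_isInvImage h₀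
  intro Z' hZ' g
  obtain ⟨W, w, fst, sq⟩ := hj.1 g
  have hw : IsOpenImmersion w.left := hj.2 _ _ w sq
  refine ⟨W, w, fst, sq, ?_⟩
  obtain ⟨Z'', pz, gV', sqZ⟩ := hφ₀.1 g
  obtain ⟨gV, rfl⟩ := (AlgSp.yon S).map_surjective gV'
  have hpz : Etale pz.left := hφ₀.2 _ _ pz sqZ
  have hpzs : Surjective pz.left := hφ₀s.2 _ _ pz sqZ
  have hrw := Groth.Agent.Lib.Seat48.EffCartierCompl.range_left_of_isPullback sq
  have hr : Set.range (pullback.fst pz.left w.left) =
      gV.left ⁻¹' ((I₀.support : Set ↥V.left)ᶜ) := by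
    rw [Scheme.Pullback.range_fst, hrw, hsupp, hU]
    ext z'
    simp only [Set.mem_preimage, Set.mem_ofPred_eq, Set.mem_compl_iff]
    rw [← Groth.Agent.S10176.ofPt_map_comp pz g, ← sqZ.w, Groth.Agent.S10176.ofPt_map_comp]
  have h1 : IsAffineHom (pullback.fst pz.left w.left) :=
    isAffineHom_of_range_eq hI₀ gV.left _ hr
  have hdesc := Groth.Agent.Lib.Helper12.descendsAlong_isAffineHom.{u}
  have h2 : IsAffineHom w.left :=
    MorphismProperty.of_pullback_fst_of_descendsAlong (P := @IsAffineHom)
      (Q := @Surjective ⊓ @Flat ⊓ @LocallyOfFinitePresentation) (f := pz.left) (g := w.left)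
      ⟨⟨hpzs, inferInstance⟩, inferInstance⟩ h1
  have : IsAffine Z'.left := hZ'
  exact isAffine_of_isAffineHom w.left

end Groth.Agent.S10806
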