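import Groth.Statements.S10810
import Mathlib
import Groth.Agent.Lib.Seat48ModSect

set_option autoImplicit false
universe u
open CategoryTheory CategoryTheory.Limits AlgebraicGeometry Topology TopologicalSpace
open AlgSp

namespace Groth.Agent.S10810

/-- Let X be an algebraic space over a scheme S and F a quasi-coherent O_X-module on the small etale
site of X. Then F = 0 if and only if the set of weakly associated points of F is empty. -/
theorem result {S : Scheme.{u}} (X : AlgSp.Space S)
    (M : AlgSp.ModEt X.obj) [M.IsQuasicoherent] :
    IsZero M ↔ AlgSp.WeakAssEt M = ∅ := by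
  constructor
  · intro hM
    rw [Set.eq_empty_iff_forall_notMem]
    rintro x ⟨E, hE, u, -, s, hs⟩
    have h0 : s = 0 := by
      have h1 : (𝟙 M : M ⟶ M) = 0 := hM.eq_of_src _ _
      have h2 := congrArg (fun φ : M ⟶ M => φ.val.app (Opposite.op E) s) h1
      exact h2
    rw [h0, Groth.Agent.Lib.Seat48.ModSect.annSect_zero, Ideal.minimalPrimes_top] at hs
    exact hs
  · intro h
    rw [IsZero.iff_id_eq_zero]
    apply SheafOfModules.hom_ext
    apply PresheafOfModules.hom_ext
    intro E
    apply ModuleCat.hom_ext
    apply LinearMap.ext
    intro s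
    have h1 := Groth.Agent.Lib.Seat48.ModSect.sect_eq_zero_of_weakAssEt_eq_empty h E.unop s
    rw [h1, map_zero, map_zero]

end Groth.Agent.S10810
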