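import Groth.Statements.S10811
import Mathlib
import Groth.Agent.Lib.Seat48ModExact

set_option autoImplicit false
universe u
open CategoryTheory CategoryTheory.Limits AlgebraicGeometry Topology TopologicalSpace
open AlgSp

namespace Groth.Agent.S10811

/-- Let X be an algebraic space over a scheme S and 0 ⟶ F₁ ⟶ F₂ ⟶ F₃ ⟶ 0 a short exact sequence of
quasi-coherent O_X-modules on the small etale site of X. Then the weakly associated points satisfy
WeakAss(F₂) ⊆ WeakAss(F₁) ∪ WeakAss(F₃) and WeakAss(F₁) ⊆ WeakAss(F₂). -/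
theorem result {S : Scheme.{u}} (X : AlgSp.Space S)
    (C : ShortComplex (AlgSp.ModEt X.obj)) (hC : C.ShortExact)
    [C.X₁.IsQuasicoherent] [C.X₂.IsQuasicoherent] [C.X₃.IsQuasicoherent] :
    AlgSp.WeakAssEt C.X₂ ⊆ AlgSp.WeakAssEt C.X₁ ∪ AlgSp.WeakAssEt C.X₃ ∧
      AlgSp.WeakAssEt C.X₁ ⊆ AlgSp.WeakAssEt C.X₂ := by
  have hmono := hC.mono_f
  constructor
  · rintro x ⟨E, hE, u, hx, s, hs⟩
    by_cases hcase : AlgSp.annSect (M := C.X₃) (E := E) (C.g.val.app (Opposite.op E) s) ≤
        AlgSp.primeAtPt E.obj.left.left u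
    · right
      refine ⟨E, hE, u, hx, C.g.val.app (Opposite.op E) s, ?_⟩
      exact Groth.Agent.Lib.Seat48.ModExact.mem_minimalPrimes_of_le hs
        (Groth.Agent.Lib.Seat48.ModExact.annSect_map_le C.g E s) hcase
    · left
      rw [SetLike.not_le_iff_exists] at hcase
      obtain ⟨t, ht, htp⟩ := hcase
      rw [AlgSp.mem_annSect_iff, ← map_smul] at ht
      obtain ⟨s₁, hs₁⟩ := Groth.Agent.Lib.Seat48.ModExact.sect_exact C hC E _ ht
      refine ⟨E, hE, u, hx, s₁, ?_⟩
      rw [← Groth.Agent.Lib.Seat48.ModExact.annSect_map_eq_of_injective C.f E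
        (Groth.Agent.Lib.Seat48.ModExact.sect_injective_of_mono C.f E) s₁, hs₁]
      refine Groth.Agent.Lib.Seat48.ModExact.mem_minimalPrimes_of_le hs
        (Groth.Agent.Lib.Seat48.ModExact.annSect_le_smul s t) ?_
      intro b hb
      have h1 := hs.1.2 (Groth.Agent.Lib.Seat48.ModExact.mul_mem_of_mem_annSect_smul s t b hb)
      rcases (AlgSp.isPrime_primeAtPt _ u).mem_or_mem h1 with h2 | h2
      · exact h2
      · exact absurd h2 htp
  · rintro x ⟨E, hE, u, hx, s, hs⟩
    refine ⟨E, hE, u, hx, C.f.val.app (Opposite.op E) s, ?_⟩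
    rw [Groth.Agent.Lib.Seat48.ModExact.annSect_map_eq_of_injective C.f E
      (Groth.Agent.Lib.Seat48.ModExact.sect_injective_of_mono C.f E) s]
    exact hs

end Groth.Agent.S10811
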