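import Groth.Statements.S10813
import Mathlib
import Groth.Agent.Lib.Seat48IdealEt
import Groth.Agent.Lib.Helper20BlowUp
import Groth.Agent.S8852

set_option autoImplicit false
universe u
open CategoryTheory CategoryTheory.Limits AlgebraicGeometry Topology TopologicalSpace
open AlgSp

namespace Groth.Agent.S10813

/-- Let X be an algebraic space over a scheme S, let Z ⟶ X and Y ⟶ X be closed subspaces cut out by
quasi-coherent sheaves of ideals I and J, and let D ⟶ X be the closed subspace which the product I·J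
cuts out. If D is an effective Cartier divisor (one-chart sense), then so are Z and Y, and D is
their sum. -/
theorem result {S : Scheme.{u}} (X Z Y D : AlgSp.Space S)
    (iZ : Z ⟶ X) (iY : Y ⟶ X) (iD : D ⟶ X) (I J : AlgSp.IdealEt X.obj) (hI : I.IsQCoh) (hJ : J.IsQCoh)
    (hZ : AlgSp.IsCutOutBy I iZ.hom) (hY : AlgSp.IsCutOutBy J iY.hom) (hD : AlgSp.IsCutOutBy (I * J) iD.hom)
    (hDc : AlgSp.IsEffCartierSub iD.hom) :
    AlgSp.IsEffCartierSub iZ.hom ∧ AlgSp.IsEffCartierSub iY.hom := by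
  obtain ⟨V, φ, hφ, hφs⟩ := X.property.atlas
  obtain ⟨IZV, hIZV⟩ := Groth.Agent.Lib.Seat48.EffCartierSp.exists_isInvImage hZ.1 φ
  obtain ⟨IYV, hIYV⟩ := Groth.Agent.Lib.Seat48.EffCartierSp.exists_isInvImage hY.1 φ
  obtain ⟨IV, hIV⟩ := Groth.Agent.Lib.Seat48.EffCartierSp.exists_isInvImage hD.1 φ
  have hc := Groth.Agent.Lib.Seat48.EffCartierSp.isEffCartierIdeal_of_isEffCartierSub hDc hφ hIV
  have hmul := Groth.Agent.Lib.Seat48.IdealEtSp.eq_mul_of_isCutOutBy hZ hY hD φ hφ hIZV hIYV hIV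
  rw [hmul] at hc
  obtain ⟨hcZ, hcY⟩ := Groth.Agent.S8852.result IZV IYV hc
  exact ⟨(Groth.Agent.Lib.Seat48.EffCartierSp.isEffCartierSub_iff iZ.hom).2
      ⟨hZ.1, V, φ, IZV, hφ, hφs, hIZV, hcZ⟩,
    (Groth.Agent.Lib.Seat48.EffCartierSp.isEffCartierSub_iff iY.hom).2
      ⟨hY.1, V, φ, IYV, hφ, hφs, hIYV, hcY⟩⟩

end Groth.Agent.S10813
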