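import Groth.Statements.S10814
import Mathlib
import Groth.Agent.Lib.Seat48IdealEt
import Groth.Agent.Lib.Helper20BlowUp
import Groth.Agent.S8852

set_option autoImplicit false
universe u
open CategoryTheory CategoryTheory.Limits AlgebraicGeometry Topology TopologicalSpace
open AlgSp

namespace Groth.Agent.S10814

/-- Let X be an algebraic space over a scheme S and D₁, D₂ ⟶ X effective Cartier divisors (one-chart
sense) with quasi-coherent ideal sheaves I₁, I₂ on the small etale site. Then their sum, the closed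
subspace D ⟶ X cut out by the product ideal I₁·I₂, is an effective Cartier divisor. -/
theorem result {S : Scheme.{u}} (X D₁ D₂ D : AlgSp.Space S)
    (i₁ : D₁ ⟶ X) (i₂ : D₂ ⟶ X) (i : D ⟶ X) (I₁ I₂ : AlgSp.IdealEt X.obj) (hI₁ : I₁.IsQCoh) (hI₂ : I₂.IsQCoh)
    (h₁ : AlgSp.IsCutOutBy I₁ i₁.hom) (h₂ : AlgSp.IsCutOutBy I₂ i₂.hom) (hD : AlgSp.IsCutOutBy (I₁ * I₂) i.hom)
    (e₁ : AlgSp.IsEffCartierSub i₁.hom) (e₂ : AlgSp.IsEffCartierSub i₂.hom) :
    AlgSp.IsEffCartierSub i.hom := by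
  obtain ⟨V, φ, hφ, hφs⟩ := X.property.atlas
  obtain ⟨I₁V, hI₁V⟩ := Groth.Agent.Lib.Seat48.EffCartierSp.exists_isInvImage h₁.1 φ
  obtain ⟨I₂V, hI₂V⟩ := Groth.Agent.Lib.Seat48.EffCartierSp.exists_isInvImage h₂.1 φ
  obtain ⟨IV, hIV⟩ := Groth.Agent.Lib.Seat48.EffCartierSp.exists_isInvImage hD.1 φ
  have hc₁ := Groth.Agent.Lib.Seat48.EffCartierSp.isEffCartierIdeal_of_isEffCartierSub e₁ hφ hI₁V
  have hc₂ := Groth.Agent.Lib.Seat48.EffCartierSp.isEffCartierIdeal_of_isEffCartierSub e₂ hφ hI₂V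
  have hmul := Groth.Agent.Lib.Seat48.IdealEtSp.eq_mul_of_isCutOutBy h₁ h₂ hD φ hφ hI₁V hI₂V hIV
  refine (Groth.Agent.Lib.Seat48.EffCartierSp.isEffCartierSub_iff i.hom).2
    ⟨hD.1, V, φ, IV, hφ, hφs, hIV, ?_⟩
  rw [hmul]
  exact Groth.Agent.Lib.Helper20.BlowUpBasic.isEffCartierIdeal_mul hc₁ hc₂

end Groth.Agent.S10814
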