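import Groth.Statements.S10818
import Groth.Agent.Lib.Seat48PushWeakAss

set_option autoImplicit false
universe u
open CategoryTheory CategoryTheory.Limits AlgebraicGeometry Topology TopologicalSpace
open AlgSp

namespace Groth.Agent.S10818

/-- Let f : X ⟶ Y be an affine morphism of algebraic spaces over a scheme S (representable; the
representability is carried as a separate hypothesis) and F a quasi-coherent O_X-module on the small
etale site of X with f_*F quasi-coherent. Then WeakAss(f_*F) ⊆ f(WeakAss(F)) as subsets of |Y|. -/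
theorem result {S : Scheme.{u}} (X Y : AlgSp.Space S) (f : X ⟶ Y)
    (hf : AlgSp.Representable f.hom) (haff : AlgSp.IsAffineMor f.hom)
    (M : AlgSp.ModEt X.obj) [M.IsQuasicoherent] [((AlgSp.pushModEt hf).obj M).IsQuasicoherent] :
    AlgSp.WeakAssEt ((AlgSp.pushModEt hf).obj M) ⊆ AlgSp.Points.map f.hom '' AlgSp.WeakAssEt M := by
  rintro y ⟨E, hE, e, rfl, s, hs⟩
  have hE' : IsAffine ((AlgSp.EtOver.bc hf).obj E).obj.left.left :=
    Groth.Agent.Lib.Seat48.PushWeakAss.isAffine_bcObj hf haff E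
  rw [Groth.Agent.Lib.Seat48.PushWeakAss.annSect_push hf M E s] at hs
  obtain ⟨q, hq, hqp⟩ := Ideal.exists_minimalPrimes_comap_eq _ _ hs
  have hqprime : q.IsPrime := hq.1.1
  obtain ⟨x', hx'⟩ := Groth.Agent.Lib.Seat48.PushWeakAss.exists_point_primeAtPt
    (W := ((AlgSp.EtOver.bc hf).obj E).obj.left.left) q
  have hmap : (AlgSp.EtOver.bcπ hf E).left x' = e := by
    apply Groth.Agent.Lib.Seat48.PushWeakAss.primeAtPt_injective
    have h1 := Groth.Agent.Lib.Seat48.PushWeakAss.primeAtPt_map (AlgSp.EtOver.bcπ hf E).left x'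
    exact h1.trans ((congrArg (Ideal.comap _) hx').trans hqp)
  refine ⟨AlgSp.Points.ofPt ((AlgSp.EtOver.bc hf).obj E).obj.hom x',
    ⟨(AlgSp.EtOver.bc hf).obj E, hE', x', rfl, s, ?_⟩, ?_⟩
  · rw [hx']; exact hq
  · rw [Groth.Agent.Lib.Seat48.PushWeakAss.ofPt_bc, hmap]

end Groth.Agent.S10818
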