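import Groth.Statements.S10815
import Groth.Agent.S10818
import Groth.Agent.Lib.Seat48PushWeakAss2

set_option autoImplicit false
universe u
open CategoryTheory CategoryTheory.Limits AlgebraicGeometry Topology TopologicalSpace
open AlgSp

namespace Groth.Agent.S10815

/-- Let f : X ⟶ Y be a finite morphism of algebraic spaces over a scheme S (representable; the
representability is carried as a separate hypothesis) and F a quasi-coherent O_X-module on the small
etale site of X, with f_*F quasi-coherent. Then WeakAss(f_*F) = f(WeakAss(F)) as subsets of |Y|. -/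
theorem result {S : Scheme.{u}} (X Y : AlgSp.Space S) (f : X ⟶ Y)
    (hf : AlgSp.Representable f.hom) (hfin : AlgSp.IsFiniteMor f.hom)
    (M : AlgSp.ModEt X.obj) [M.IsQuasicoherent] [((AlgSp.pushModEt hf).obj M).IsQuasicoherent] :
    AlgSp.WeakAssEt ((AlgSp.pushModEt hf).obj M) = AlgSp.Points.map f.hom '' AlgSp.WeakAssEt M := by
  have haff : AlgSp.IsAffineMor f.hom :=
    Groth.Agent.Lib.Seat48.PushWeakAss.isAffineMor_of_isFiniteMor hfin
  apply Set.Subset.antisymm
  · exact Groth.Agent.S10818.result X Y f hf haff M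
  · rintro y ⟨x, hx, rfl⟩
    obtain ⟨E, hE, e, he⟩ := Groth.Agent.Lib.Seat48.WeakAssChart.exists_affine_chart Y.property
      (AlgSp.Points.map f.hom x)
    have hE' : IsAffine ((AlgSp.EtOver.bc hf).obj E).obj.left.left :=
      Groth.Agent.Lib.Seat48.PushWeakAss.isAffine_bcObj hf haff E
    obtain ⟨x', hx'1, hx'2⟩ := Groth.Agent.Lib.Seat48.PushWeakAss.exists_point_bc hf E e x he.symm
    have hw : AlgSp.IsWeakAssOn M ((AlgSp.EtOver.bc hf).obj E) x' :=
      (Groth.Agent.Lib.Seat48.WeakAssChart.mem_weakAssEt_iff M _ x').1 (hx'2 ▸ hx)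
    have hfinπ : IsFinite (AlgSp.EtOver.bcπ hf E).left :=
      Groth.Agent.Lib.Seat48.PushWeakAss.isFinite_bcπ hf hfin E
    have h1 := Groth.Agent.Lib.Seat48.PushWeakAss.isWeakAssOn_push_of_finite hf M E
      (AlgSp.EtOver.bcπ hf E).left.finite_appTop x' hw
    rw [hx'1] at h1
    exact ⟨E, hE, e, he, h1⟩

end Groth.Agent.S10815
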