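import Groth.Statements.S10857
import Mathlib
import Groth.Agent.Lib.Helper26FpqcMod
import Groth.Agent.Lib.Helper20SuppClosed
import Groth.Agent.Lib.Helper20Nakayama
import Groth.Agent.Lib.Helper2FibreCrit2
-- import your own Groth.Agent.* helpers here

set_option autoImplicit false
universe u
open QCohSup

namespace Groth.Agent.S10857

set_option linter.style.haveILetI false

section helpers

open AlgebraicGeometry CategoryTheory CategoryTheory.Limits TopologicalSpace Opposite
open Groth.Agent.Lib.Helper1.Sky Groth.Agent.Lib.Helper1.StalkTensor Groth.Agent.Lib.Helper26.FpqcMod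

variable {X : Scheme.{u}}

/-- the stalk map of `φ` at `x` is surjective iff the stalk of the cokernel at `x` vanishes -/
theorem stalk_surjective_iff_cokernel {M N : X.Modules} (φ : M ⟶ N) (x : X) :
    Function.Surjective ((stalkFun x).map φ).hom ↔
      Subsingleton ((stalkFun x).obj (cokernel φ)) := by
  rw [← ModuleCat.epi_iff_surjective]
  let e := PreservesCokernel.iso (stalkFun x) φ
  constructor
  · intro h
    have hz : IsZero (cokernel ((stalkFun x).map φ)) := isZero_cokernel_of_epi _
    have hz' : IsZero ((stalkFun x).obj (cokernel φ)) := hz.of_iso e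
    exact ModuleCat.subsingleton_of_isZero hz'
  · intro h
    have hz : IsZero ((stalkFun x).obj (cokernel φ)) := ModuleCat.isZero_of_subsingleton _
    have hz' : IsZero (cokernel ((stalkFun x).map φ)) := hz.of_iso e.symm
    exact Preadditive.epi_of_isZero_cokernel _ hz'

/-- elements of the stalk of a filtered colimit mapping onto a finite stalk come from one stage -/
theorem exists_stalk_surjective {J : Type u} [SmallCategory J] [IsFiltered J] (D : J ⥤ X.Modules)
    (c : Cocone D) (hc : IsColimit c) (F : X.Modules) (u : c.pt ⟶ F) [Epi u] (x : X)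
    [Module.Finite (Ox x) ((stalkFun x).obj F)] :
    ∃ j : J, Function.Surjective ((stalkFun x).map (c.ι.app j ≫ u)).hom := by
  classical
  have hcx : IsColimit ((stalkFun x).mapCocone c) := isColimitOfPreserves (stalkFun x) hc
  have hu := stalk_surjective_of_epi u x
  have h1 : ∀ m : (stalkFun x).obj F, ∃ (j : J) (y : (stalkFun x).obj (D.obj j)),
      ((stalkFun x).map (c.ι.app j ≫ u)).hom y = m := by
    intro m
    obtain ⟨g, hg⟩ := hu m
    obtain ⟨j, y, hy⟩ := Concrete.isColimit_exists_rep _ hcx g
    refine ⟨j, y, ?_⟩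
    rw [Functor.map_comp]
    change ((stalkFun x).map u).hom (((stalkFun x).map (c.ι.app j)).hom y) = m
    rw [show ((stalkFun x).map (c.ι.app j)).hom y = g from hy, hg]
  choose jf yf hyf using h1
  obtain ⟨T, hT⟩ := (Module.Finite.fg_top : (⊤ : Submodule (Ox x) ((stalkFun x).obj F)).FG)
  obtain ⟨j, hj⟩ := IsFiltered.sup_objs_exists (T.image jf)
  refine ⟨j, ?_⟩
  rw [← LinearMap.range_eq_top, eq_top_iff, ← hT, Submodule.span_le]
  intro m hm
  obtain ⟨f⟩ := hj (Finset.mem_image_of_mem jf hm)
  refine ⟨((stalkFun x).map (D.map f)).hom (yf m), ?_⟩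
  have hw : D.map f ≫ c.ι.app j = c.ι.app (jf m) := c.w f
  have e1 : ((stalkFun x).map (c.ι.app (jf m) ≫ u)).hom (yf m) = m := hyf m
  rw [← hw, Category.assoc, Functor.map_comp (stalkFun x) (D.map f)] at e1
  exact e1

/-- surjectivity of the stalk map onto a finite type module is an open condition -/
theorem exists_open_stalk_surjective {M F : X.Modules} (hF : CohB1.IsFT F) (φ : M ⟶ F) (x : X)
    (hx : Function.Surjective ((stalkFun x).map φ).hom) :
    ∃ V : X.Opens, x ∈ V ∧ ∀ y ∈ V, Function.Surjective ((stalkFun y).map φ).hom := by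
  haveI : SheafOfModules.IsFiniteType (R := X.ringCatSheaf) F := hF
  haveI := Groth.Agent.Lib.Helper20.Nakayama.isFiniteType_of_epi (cokernel.π φ)
  have h0 : Subsingleton ((cokernel φ).presheaf.stalk x) :=
    (stalk_surjective_iff_cokernel φ x).1 hx
  obtain ⟨V, hxV, hV⟩ :=
    Groth.Agent.Lib.Helper20.SuppClosed.exists_opens_subsingleton_stalk (cokernel φ) x h0
  exact ⟨V, hxV, fun y hy => (stalk_surjective_iff_cokernel φ y).2 (hV y hy)⟩

end helpers

open TopologicalSpace Opposite
  Groth.Agent.Lib.Helper1.Sky Groth.Agent.Lib.Helper1.StalkTensor Groth.Agent.Lib.Helper26.FpqcMod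

open AlgebraicGeometry CategoryTheory CategoryTheory.Limits in
/-- Take a quasi-compact scheme X, a finite-type quasi-coherent O_X-module F, and G a quasi-coherent
O_X-module which is the colimit of a filtered diagram of quasi-coherent O_X-modules G_j. A
homomorphism u : G → F is an epimorphism if and only if there is an index j₀ such that for every
index j admitting a map from j₀ the composite G_j → G → F is an epimorphism. -/
theorem result {X : Scheme.{u}} [CompactSpace X]
    {J : Type u} [SmallCategory J] [IsFiltered J] (D : J ⥤ X.Modules) [∀ j, Coh.IsQCoh (D.obj j)]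
    (c : Cocone D) (hc : IsColimit c) [Coh.IsQCoh c.pt]
    (F : X.Modules) [Coh.IsQCoh F] (hF : CohB1.IsFT F) (u : c.pt ⟶ F) :
    Epi u ↔ ∃ j₀ : J, ∀ j : J, Nonempty (j₀ ⟶ j) → Epi (c.ι.app j ≫ u) := by
  classical
  constructor
  · intro hu
    haveI : SheafOfModules.IsFiniteType (R := X.ringCatSheaf) F := hF
    have h1 : ∀ x : X, ∃ (j : J) (V : X.Opens), x ∈ V ∧ ∀ y ∈ V,
        Function.Surjective ((stalkFun y).map (c.ι.app j ≫ u)).hom := by
      intro x
      haveI : Module.Finite (Ox x) ((stalkFun x).obj F) :=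
        Groth.Agent.Lib.Helper2.FibreCrit.finite_stalk F x
      obtain ⟨j, hj⟩ := exists_stalk_surjective D c hc F u x
      obtain ⟨V, hxV, hV⟩ := exists_open_stalk_surjective hF (c.ι.app j ≫ u) x hj
      exact ⟨j, V, hxV, hV⟩
    choose jf Vf hxV hV using h1
    obtain ⟨t, ht⟩ := isCompact_univ.elim_finite_subcover (fun x => (Vf x : Set X))
      (fun x => (Vf x).2) (fun y _ => Set.mem_iUnion.2 ⟨y, hxV y⟩)
    obtain ⟨j₀, hj₀⟩ := IsFiltered.sup_objs_exists (t.image jf)
    refine ⟨j₀, fun j hg => ?_⟩
    obtain ⟨g⟩ := hg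
    rw [epi_iff_stalk]
    intro y
    obtain ⟨x, hxt, hy⟩ : ∃ x ∈ t, y ∈ Vf x := by
      have := ht (Set.mem_univ y)
      simpa using this
    obtain ⟨f⟩ := hj₀ (Finset.mem_image_of_mem jf hxt)
    have hs := hV x y hy
    have hw : D.map (f ≫ g) ≫ c.ι.app j = c.ι.app (jf x) := c.w (f ≫ g)
    intro m
    obtain ⟨a, ha⟩ := hs m
    refine ⟨((stalkFun y).map (D.map (f ≫ g))).hom a, ?_⟩
    rw [← hw, Category.assoc, Functor.map_comp (stalkFun y) (D.map (f ≫ g))] at ha
    exact ha
  · rintro ⟨j₀, h⟩
    haveI := h j₀ ⟨𝟙 j₀⟩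
    exact epi_of_epi (c.ι.app j₀) u

end Groth.Agent.S10857
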