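import Groth.Statements.S10865
import Groth.Agent.Lib.Seat21DevRoots
import Groth.Agent.Lib.Helper6EquiSubB
import Groth.Agent.Lib.Helper10RedInd

set_option autoImplicit false
universe u
open Coherent

namespace Groth.Agent.S10865

open CategoryTheory CategoryTheory.Limits AlgebraicGeometry in
/-- Let X be a nonempty Noetherian scheme and K an isomorphism-closed class of O_X-modules such that (a)
in a short exact sequence of coherent modules, if the middle and right terms lie in K so does the
left one, and if the two outer terms lie in K so does the middle one; (b) if a coherent F has some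
d-fold direct sum (d ≥ 1) in K then F lies in K. If for every integral closed subscheme i : Z → X
there is a coherent O_Z-module with nonzero stalk at the generic point whose direct image under i
lies in K, then every coherent O_X-module lies in K. (For the empty scheme the hypotheses hold for
the empty class, so X is taken nonempty here.) -/
theorem result (X : Scheme.{u}) [IsNoetherian X] [Nonempty X]
    (K : ObjectProperty X.Modules) [K.IsClosedUnderIsomorphisms]
    (ha : ∀ S : ShortComplex X.Modules, S.ShortExact → Coh.IsCoh S.X₁ → Coh.IsCoh S.X₂ → Coh.IsCoh S.X₃ →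
      (K S.X₂ → K S.X₃ → K S.X₁) ∧ (K S.X₁ → K S.X₃ → K S.X₂))
    (hb : ∀ (F : X.Modules) (d : ℕ), 1 ≤ d → Coh.IsCoh F → K (∐ fun _ : Fin d => F) → K F)
    (hgen : ∀ (Z : Scheme.{u}) (i : Z ⟶ X) [IsClosedImmersion i] [IsIntegral Z],
      ∃ H : Z.Modules, Coh.IsCoh H ∧ Nontrivial (H.presheaf.stalk (genericPoint Z)) ∧
        K ((Scheme.Modules.pushforward i).obj H))
    (F : X.Modules) (hF : Coh.IsCoh F) : K F := by
  classical
  -- the generator attached to an irreducible closed subset with generic point `y`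
  have hG : ∀ (Z : Set X) (hZ : IsClosed Z) (y : X), closure {y} = Z →
      ∃ G : X.Modules, Coh.IsCoh G ∧ CohB1.support G ⊆ Z ∧ y ∈ CohB1.support G ∧
        (∀ r ∈ IsLocalRing.maximalIdeal (Groth.Agent.Lib.Helper1.Sky.Ox y),
          ∀ a : Groth.Agent.Lib.Helper1.StalkTensor.St (Groth.Agent.Lib.Helper1.StalkTensor.toPM G) y, r • a = 0) ∧
        K G := by
    intro Z hZ y hy
    let Zc : TopologicalSpace.Closeds X := ⟨Z, hZ⟩
    have : IrreducibleSpace ↥(Scheme.IdealSheafData.vanishingIdeal Zc).subscheme :=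
      Groth.Agent.Lib.Helper6.EquiSub.irreducibleSpace_subscheme Zc y hy
    have : IsReduced (Scheme.IdealSheafData.vanishingIdeal Zc).subscheme :=
      Groth.Agent.Lib.Helper10.RedInd.isReduced_subscheme_vanishingIdeal Zc
    have : IsIntegral (Scheme.IdealSheafData.vanishingIdeal Zc).subscheme :=
      isIntegral_of_irreducibleSpace_of_isReduced _
    obtain ⟨H, hHc, hHn, hKH⟩ := hgen _ (Scheme.IdealSheafData.vanishingIdeal Zc).subschemeι
    have hgp : (Scheme.IdealSheafData.vanishingIdeal Zc).subschemeι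
        (genericPoint ↥(Scheme.IdealSheafData.vanishingIdeal Zc).subscheme) = y :=
      Groth.Agent.Lib.Helper6.EquiSub.subschemeι_genericPoint Zc y hy
    have hr : Set.range ⇑(Scheme.IdealSheafData.vanishingIdeal Zc).subschemeι = Z :=
      Groth.Agent.Lib.Helper6.EquiSub.range_subschemeι_vanishingIdeal Zc
    have hk := Groth.Agent.Lib.Seat21.Dev.killedByIdeal_push
      (Scheme.IdealSheafData.vanishingIdeal Zc).subschemeι H
    rw [Scheme.IdealSheafData.ker_subschemeι] at hk
    refine ⟨_, Groth.Agent.Lib.Seat21.Dev.isCoh_push _ hHc,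
      (Groth.Agent.Lib.Seat21.Dev.support_push_subset _ H).trans hr.le, ?_,
      Groth.Agent.Lib.Seat21.Dev.maximalIdeal_smul_eq_zero_of_killedByIdeal hZ hy hk, hKH⟩
    rw [← hgp]
    exact Groth.Agent.Lib.Seat21.Dev.mem_support_push _ hHn
  -- zero modules
  have hzero : ∀ M : X.Modules, IsZero M → K M := by
    intro M hM0
    obtain ⟨x⟩ := (inferInstance : Nonempty X)
    obtain ⟨G, hGc, -, -, -, hKG⟩ := hG (closure {x}) isClosed_closure x rfl
    have hk : Coh.IsCoh (kernel (𝟙 G)) := Groth.Agent.Lib.Seat21.Dev.isCoh_kernel hGc hGc _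
    have h3 : K (kernel (𝟙 G)) :=
      (ha _ (Groth.Agent.Lib.Seat21.Dev.shortExact_kernel (𝟙 G)) hk hGc hGc).1 hKG hKG
    have hz : IsZero (kernel (𝟙 G)) := isZero_kernel_of_mono _
    exact K.prop_of_iso (hz.iso hM0) h3
  have hyp : Groth.Agent.Lib.Seat21.Dev.HypL (fun M => K M) Set.univ :=
    ⟨fun M N ⟨e⟩ h => K.prop_of_iso e h, hzero,
      fun S hS h1 h2 h3 _ => (ha S hS h1 h2 h3).2, fun S hS h1 h2 h3 _ => (ha S hS h1 h2 h3).1⟩
  have hroot : ∀ (F : X.Modules) (n : ℕ), Coh.IsCoh F → K (Groth.Agent.Lib.Seat21.Dev.pw F n) → K F := by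
    intro F n hF hK
    obtain ⟨e⟩ := Groth.Agent.Lib.Seat21.Dev.nonempty_sigma_iso_pw F n
    exact hb F (n + 1) (Nat.le_add_left 1 n) hF (K.prop_of_iso e.symm hK)
  refine Groth.Agent.Lib.Seat21.Dev.coreE hyp.toHypE isClosed_univ ?_ F hF (Set.subset_univ _)
  intro Z hZ _ _ y hy hIH F' hF' hF'Z hkill
  obtain ⟨G, hGc, hGZ, hyG, hGk, hKG⟩ := hG Z hZ y hy
  exact Groth.Agent.Lib.Seat21.Dev.K_of_killed_roots hyp hroot (Set.subset_univ Z) hIH G hGc hGZ hyG hGk hKG
    F' hF' hF'Z hkill

end Groth.Agent.S10865
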