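import Groth.Statements.S10866
import Groth.Agent.S10865
import Groth.Agent.Lib.Seat21DevPushCoh

set_option autoImplicit false
universe u
open Coherent

namespace Groth.Agent.S10866

open CategoryTheory AlgebraicGeometry in
/-- Let f : X → Y be a morphism of Noetherian schemes such that for every integral closed subscheme i :
Z → X there is a coherent O_Z-module with nonzero stalk at the generic point of Z whose direct image
under i followed by f is coherent on Y. Then the direct image f_*F of every coherent O_X-module F is
coherent. -/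
theorem result {X Y : Scheme.{u}} [IsNoetherian X] [IsNoetherian Y]
    (f : X ⟶ Y)
    (hgen : ∀ (Z : Scheme.{u}) (i : Z ⟶ X) [IsClosedImmersion i] [IsIntegral Z],
      ∃ H : Z.Modules, Coh.IsCoh H ∧ Nontrivial (H.presheaf.stalk (genericPoint Z)) ∧
        Coh.IsCoh ((Scheme.Modules.pushforward (i ≫ f)).obj H))
    (F : X.Modules) (hF : Coh.IsCoh F) : Coh.IsCoh ((Scheme.Modules.pushforward f).obj F) := by
  have hqc : ∀ M : X.Modules, M.IsQuasicoherent → ((Scheme.Modules.pushforward f).obj M).IsQuasicoherent :=
    fun M hM => Groth.Agent.Lib.Helper23.QCohLocal.isQuasicoherent_pushforward f M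
  by_cases hne : Nonempty X
  · let K : ObjectProperty X.Modules := fun M => Coh.IsCoh ((Scheme.Modules.pushforward f).obj M)
    have hK : K.IsClosedUnderIsomorphisms :=
      ⟨fun {M N} e h => Groth.Agent.Lib.Seat21.Dev.isCoh_of_iso ((Scheme.Modules.pushforward f).mapIso e) h⟩
    refine Groth.Agent.S10865.result X K ?_ ?_ ?_ F hF
    · intro S hS h1 h2 h3
      have hm := hS.mono_f
      refine ⟨fun k2 _ => ?_, fun k1 k3 => ?_⟩
      · have : Mono ((Scheme.Modules.pushforward f).map S.f) := inferInstance
        exact Groth.Agent.Lib.Seat21.Dev.isCoh_of_mono ((Scheme.Modules.pushforward f).map S.f) (hqc _ h1.1) k2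
      · have hex : (S.map (Scheme.Modules.pushforward f)).Exact :=
          hS.exact.map_of_mono_of_preservesKernel _ hm inferInstance
        have hm' : Mono (S.map (Scheme.Modules.pushforward f)).f :=
          (inferInstance : Mono ((Scheme.Modules.pushforward f).map S.f))
        exact Groth.Agent.Lib.Seat21.Dev.isCoh_of_exact_of_mono (S.map (Scheme.Modules.pushforward f)) hex hm'
          k1 (hqc _ h2.1) k3
    · intro G d hd hG k
      have : Mono ((Scheme.Modules.pushforward f).map (Limits.Sigma.ι (fun _ : Fin d => G) ⟨0, hd⟩)) :=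
        inferInstance
      exact Groth.Agent.Lib.Seat21.Dev.isCoh_of_mono
        ((Scheme.Modules.pushforward f).map (Limits.Sigma.ι (fun _ : Fin d => G) ⟨0, hd⟩)) (hqc _ hG.1) k
    · intro Z i _ _
      obtain ⟨H, hH, hnt, hc⟩ := hgen Z i
      exact ⟨H, hH, hnt, Groth.Agent.Lib.Seat21.Dev.isCoh_of_iso
        ((Scheme.Modules.pushforwardComp i f).app H).symm hc⟩
  · have hz : Limits.IsZero F :=
      Groth.Agent.Lib.Seat21.Dev.isZero_of_support_subset_empty F (fun x _ => (hne ⟨x⟩).elim)
    exact Groth.Agent.Lib.Seat21.Dev.isCoh_of_isZero ((Scheme.Modules.pushforward f).map_isZero hz)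

end Groth.Agent.S10866
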