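import Groth.Statements.S10869
import Groth.Agent.Lib.Helper23CounitEpi
import Groth.Agent.S4407
-- import your own Groth.Agent.* helpers here

set_option autoImplicit false
set_option linter.style.haveILetI false
universe u
open Coh

namespace Groth.Agent.S10869

open CategoryTheory AlgebraicGeometry in
instance final_opensMap {X Y : Scheme.{u}} (f : X ⟶ Y) :
    (TopologicalSpace.Opens.map f.base).Final := by
  apply Functor.final_of_exists_of_isFiltered
  · intro U
    exact ⟨⊤, ⟨homOfLE le_top⟩⟩
  · intro U V s s'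
    exact ⟨V, 𝟙 V, Subsingleton.elim _ _⟩

open CategoryTheory AlgebraicGeometry in
/-- pullback of a free module is free. -/
noncomputable def pullbackFreeIso {X Y : Scheme.{u}} (f : X ⟶ Y) (I : Type u) :
    (Scheme.Modules.pullback f).obj (SheafOfModules.free (R := Y.ringCatSheaf) I) ≅
      SheafOfModules.free (R := X.ringCatSheaf) I :=
  SheafOfModules.pullbackObjFreeIso.{u} f.toRingCatSheafHom I

open CategoryTheory AlgebraicGeometry in
/-- the restriction of `f^* G` to `f⁻¹ U` is the pullback of `G|_U` along `f ∣_ U` (up to isomorphism) -/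
theorem nonempty_iso_restrict_pullback {X S : Scheme.{u}} (f : X ⟶ S) (G : S.Modules) (U : S.Opens) :
    Nonempty ((Scheme.Modules.pullback (f ∣_ U)).obj (G.restrict U.ι) ≅
      ((Scheme.Modules.pullback f).obj G).restrict (f ⁻¹ᵁ U).ι) := by
  have e1 : (Scheme.Modules.pullback (f ∣_ U)).obj (G.restrict U.ι) ≅
      (Scheme.Modules.pullback (f ∣_ U)).obj ((Scheme.Modules.pullback U.ι).obj G) :=
    (Scheme.Modules.pullback (f ∣_ U)).mapIso ((Scheme.Modules.restrictFunctorIsoPullback U.ι).app G)
  have e2 : (Scheme.Modules.pullback (f ∣_ U)).obj ((Scheme.Modules.pullback U.ι).obj G) ≅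
      (Scheme.Modules.pullback ((f ∣_ U) ≫ U.ι)).obj G :=
    (Scheme.Modules.pullbackComp (f ∣_ U) U.ι).app G
  have e3 : (Scheme.Modules.pullback ((f ∣_ U) ≫ U.ι)).obj G ≅
      (Scheme.Modules.pullback ((f ⁻¹ᵁ U).ι ≫ f)).obj G :=
    (Scheme.Modules.pullbackCongr (morphismRestrict_ι f U)).app G
  have e4 : (Scheme.Modules.pullback ((f ⁻¹ᵁ U).ι ≫ f)).obj G ≅
      (Scheme.Modules.pullback (f ⁻¹ᵁ U).ι).obj ((Scheme.Modules.pullback f).obj G) :=
    ((Scheme.Modules.pullbackComp (f ⁻¹ᵁ U).ι f).app G).symm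
  have e5 : (Scheme.Modules.pullback (f ⁻¹ᵁ U).ι).obj ((Scheme.Modules.pullback f).obj G) ≅
      ((Scheme.Modules.pullback f).obj G).restrict (f ⁻¹ᵁ U).ι :=
    ((Scheme.Modules.restrictFunctorIsoPullback (f ⁻¹ᵁ U).ι).app _).symm
  exact ⟨e1 ≪≫ e2 ≪≫ e3 ≪≫ e4 ≪≫ e5⟩

open CategoryTheory AlgebraicGeometry in
/-- For f : X → S quasi-compact and quasi-separated and F a quasi-coherent O_X-module, the counit
f^*f_*F → F is an epimorphism iff F is a quotient of f^*G for some quasi-coherent O_S-module G, iff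
the restriction of F to the inverse image of every affine open of S is globally generated. -/
theorem result {X S : Scheme.{u}} (f : X ⟶ S) [QuasiCompact f] [QuasiSeparated f]
    (F : X.Modules) (hF : Coh.IsQCoh F) :
    (Epi ((Scheme.Modules.pullbackPushforwardAdjunction f).counit.app F) ↔
      ∃ G : S.Modules, Coh.IsQCoh G ∧ ∃ φ : (Scheme.Modules.pullback f).obj G ⟶ F, Epi φ) ∧
    (Epi ((Scheme.Modules.pullbackPushforwardAdjunction f).counit.app F) ↔
      ∀ U : S.Opens, IsAffineOpen U → Curv2.IsGloballyGenerated (F.restrict (f ⁻¹ᵁ U).ι)) := by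
  haveI : F.IsQuasicoherent := hF
  have hG : ((Scheme.Modules.pushforward f).obj F).IsQuasicoherent :=
    Groth.Agent.Lib.Helper23.QCohLocal.isQuasicoherent_pushforward f F
  refine ⟨⟨fun h => ⟨(Scheme.Modules.pushforward f).obj F, hG, _, h⟩, ?_⟩, ⟨?_, ?_⟩⟩
  · rintro ⟨G, -, φ, hφ⟩
    have key : (Scheme.Modules.pullback f).map
        ((Scheme.Modules.pullbackPushforwardAdjunction f).homEquiv G F φ) ≫
        (Scheme.Modules.pullbackPushforwardAdjunction f).counit.app F = φ := by
      have h1 := ((Scheme.Modules.pullbackPushforwardAdjunction f).homEquiv G F).symm_apply_apply φ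
      rw [Adjunction.homEquiv_counit] at h1
      exact h1
    rw [← key] at hφ
    haveI := hφ
    exact epi_of_epi ((Scheme.Modules.pullback f).map
        ((Scheme.Modules.pullbackPushforwardAdjunction f).homEquiv G F φ)) _
  · intro h U hU
    haveI : IsAffine (U : Scheme.{u}) := hU
    haveI : (((Scheme.Modules.pushforward f).obj F).restrict U.ι).IsQuasicoherent :=
      Scheme.Modules.isQuasicoherent_restrictFunctor _ _
    obtain ⟨I, p, hp⟩ := Groth.Agent.S4407.result (U : Scheme.{u})
      (((Scheme.Modules.pushforward f).obj F).restrict U.ι) inferInstance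
    obtain ⟨e⟩ := nonempty_iso_restrict_pullback f ((Scheme.Modules.pushforward f).obj F) U
    haveI hp' : @Epi (U : Scheme.{u}).Modules inferInstance _ _ p := hp
    haveI : (Scheme.Modules.pullback (f ∣_ U)).PreservesEpimorphisms :=
      Functor.preservesEpimorphisms_of_adjunction (Scheme.Modules.pullbackPushforwardAdjunction _)
    haveI : (Scheme.Modules.restrictFunctor (f ⁻¹ᵁ U).ι).PreservesEpimorphisms :=
      Functor.preservesEpimorphisms_of_adjunction (Scheme.Modules.restrictAdjunction _)
    haveI : Epi ((Scheme.Modules.pullback (f ∣_ U)).map p) :=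
      (Scheme.Modules.pullback (f ∣_ U)).map_epi p
    haveI : Epi ((Scheme.Modules.restrictFunctor (f ⁻¹ᵁ U).ι).map
        ((Scheme.Modules.pullbackPushforwardAdjunction f).counit.app F)) :=
      (Scheme.Modules.restrictFunctor (f ⁻¹ᵁ U).ι).map_epi _
    have hq : @Epi (↑(f ⁻¹ᵁ U) : Scheme.{u}).Modules inferInstance _ _
        ((pullbackFreeIso (f ∣_ U) I).inv ≫
          (Scheme.Modules.pullback (f ∣_ U)).map p ≫ e.hom ≫
          (Scheme.Modules.restrictFunctor (f ⁻¹ᵁ U).ι).map
            ((Scheme.Modules.pullbackPushforwardAdjunction f).counit.app F)) := by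
      infer_instance
    exact ⟨I, _, hq⟩
  · intro h
    apply Groth.Agent.Lib.Helper23.CounitEpi.epi_counit_of_isGloballyGenerated
    intro x
    obtain ⟨V, hV, hxV, -⟩ := TopologicalSpace.Opens.isBasis_iff_nbhd.1 S.isBasis_affineOpens
      (show f x ∈ (⊤ : S.Opens) from trivial)
    exact ⟨V, hxV, h V hV⟩

end Groth.Agent.S10869
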