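import Groth.Statements.S11264
import Groth.Agent.Lib.Seat67DehomogSchub
import Groth.Agent.Lib.Seat50CellBridge

set_option autoImplicit false
universe u
open W4bk4grassmannian

namespace Groth.Agent.S11264

open W4bk4grassmannian in
/-- Determinantal varieties are normal Cohen–Macaulay and integral, with their dimension: let K be an
algebraically closed field, m, n ≥ 1, 1 ≤ t ≤ min(m, n), R = K[x_{ij}] the coordinate ring of m × n
matrices and I_t ⊆ R the ideal generated by the t × t minors of the generic matrix. Then R/I_t is an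
integral domain, integrally closed, Cohen–Macaulay, and of Krull dimension (t - 1)(m + n - t + 1). -/
theorem result (K : Type u) [Field K] [IsAlgClosed K] (m n t : ℕ)
    (hm : 0 < m) (hn : 0 < n) (ht : 1 ≤ t) (htm : t ≤ m) (htn : t ≤ n) :
    IsDomain (MvPolynomial (Fin m × Fin n) K ⧸ CAlgX.minorIdeal (genMatrix K m n) t) ∧
      IsIntegrallyClosed (MvPolynomial (Fin m × Fin n) K ⧸ CAlgX.minorIdeal (genMatrix K m n) t) ∧
      LocCoh.IsCohenMacaulayRing (MvPolynomial (Fin m × Fin n) K ⧸ CAlgX.minorIdeal (genMatrix K m n) t) ∧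
      ringKrullDim (MvPolynomial (Fin m × Fin n) K ⧸ CAlgX.minorIdeal (genMatrix K m n) t) =
        (((t - 1) * (m + n - t + 1) : ℕ) : WithBot ℕ∞) := by
  classical
  obtain ⟨n', rfl⟩ : ∃ n', t = n' + 1 := ⟨t - 1, by omega⟩
  have hnd : n' + 1 ≤ n := htn
  have hnr : n' + 1 ≤ m := htm
  have hr : 0 < m := hm
  obtain ⟨h1, h2, h3, h4⟩ := Groth.Agent.Lib.Seat67.DehomogSchub.dehomog_schubert K
    (d := n) (n := n + m) hn (by omega)
    (Groth.Agent.Lib.Seat50.SFT.phi n m n' hnd hnr)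
    (Groth.Agent.Lib.Seat50.SFT.io n m hr)
    (Groth.Agent.Lib.Seat50.SchubertPrime.iota_le _ _)
  let e : (PlRing K n (n + m) ⧸ Groth.Agent.Lib.Seat50.CellBridge.JJ K n m n' hnd hnr) ≃+*
      (MvPolynomial (Fin m × Fin n) K ⧸ CAlgX.minorIdeal (genMatrix K m n) (n' + 1)) :=
    (Groth.Agent.Lib.Seat50.CellBridge.cellEquiv K n m n' hnd hnr).toRingEquiv
  refine ⟨?_, ?_, ?_, ?_⟩
  · have : IsDomain (PlRing K n (n + m) ⧸ Groth.Agent.Lib.Seat50.CellBridge.JJ K n m n' hnd hnr) := h1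
    exact e.symm.toMulEquiv.isDomain
  · have : IsIntegrallyClosed
        (PlRing K n (n + m) ⧸ Groth.Agent.Lib.Seat50.CellBridge.JJ K n m n' hnd hnr) := h2
    exact IsIntegrallyClosed.of_equiv
      (R := PlRing K n (n + m) ⧸ Groth.Agent.Lib.Seat50.CellBridge.JJ K n m n' hnd hnr) e
  · have : LocCoh.IsCohenMacaulayRing
        (PlRing K n (n + m) ⧸ Groth.Agent.Lib.Seat50.CellBridge.JJ K n m n' hnd hnr) := h3
    exact Groth.Agent.Lib.Helper28.isCohenMacaulayRing_of_ringEquiv
      (R := PlRing K n (n + m) ⧸ Groth.Agent.Lib.Seat50.CellBridge.JJ K n m n' hnd hnr) e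
  · rw [← ringKrullDim_eq_of_ringEquiv
      (R := PlRing K n (n + m) ⧸ Groth.Agent.Lib.Seat50.CellBridge.JJ K n m n' hnd hnr) e]
    refine h4.trans ?_
    rw [Groth.Agent.Lib.Seat67.DehomogSchub.codeg_phi]
    have h5 : n' * (n + m - n') = (n' + 1 - 1) * (m + n - (n' + 1) + 1) := by
      have h6 : m + n - (n' + 1) + 1 = n + m - n' := by omega
      rw [h6, Nat.add_sub_cancel]
    rw [h5]

end Groth.Agent.S11264
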