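import Groth.Statements.S10870
import Groth.Agent.Lib.Seat67MvBC
import Groth.Agent.S11264

set_option autoImplicit false
universe u
open CAlgX

namespace Groth.Agent.S10870

/-- For a field k and 0 ≤ r ≤ min(n, m), the affine determinantal scheme of n × m matrices of rank at
most r over k — the spectrum of the polynomial ring on the entries of the generic n × m matrix
modulo the ideal of its (r+1) × (r+1) minors — has dimension r(m + n − r). -/
theorem result (k : Type u) [Field k] (n m r : ℕ) (hr : r ≤ min n m) :
    ringKrullDim (MvPolynomial (Fin n × Fin m) k ⧸ CAlgX.minorIdeal (Matrix.of fun (i : Fin n) (j : Fin m) => (MvPolynomial.X (i, j) : MvPolynomial (Fin n × Fin m) k)) (r + 1)) =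
      ((r * (m + n - r) : ℕ) : WithBot ℕ∞) := by
  classical
  by_cases hcase : r + 1 ≤ n ∧ r + 1 ≤ m
  · obtain ⟨h1, h2⟩ := hcase
    have hS := (Groth.Agent.S11264.result (AlgebraicClosure k) n m (r + 1) (by omega) (by omega)
      (by omega) h1 h2).2.2.2
    have hmap : CAlgX.minorIdeal (W4bk4grassmannian.genMatrix (AlgebraicClosure k) n m) (r + 1) =
        (CAlgX.minorIdeal (Matrix.of fun (i : Fin n) (j : Fin m) =>
          (MvPolynomial.X (i, j) : MvPolynomial (Fin n × Fin m) k)) (r + 1)).map
          (MvPolynomial.map (algebraMap k (AlgebraicClosure k))) := by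
      unfold CAlgX.minorIdeal
      rw [Ideal.map_span, ← Set.range_comp]
      congr 2
      funext fg
      rw [Function.comp_apply, RingHom.map_det]
      congr 1
      ext a b
      simp [W4bk4grassmannian.genMatrix]
    rw [hmap, Groth.Agent.Lib.Seat67.MvBC.ringKrullDim_quotient_map] at hS
    rw [hS]
    congr 2
    omega
  · have hbot : CAlgX.minorIdeal (Matrix.of fun (i : Fin n) (j : Fin m) =>
        (MvPolynomial.X (i, j) : MvPolynomial (Fin n × Fin m) k)) (r + 1) = ⊥ := by
      unfold CAlgX.minorIdeal
      rw [Ideal.span_eq_bot]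
      rintro _ ⟨⟨f, g⟩, rfl⟩
      by_cases hn : r + 1 ≤ n
      · have hm : ¬ r + 1 ≤ m := fun h => hcase ⟨hn, h⟩
        obtain ⟨a, b, hab, hgab⟩ := Fintype.exists_ne_map_eq_of_card_lt g (by simp; omega)
        apply Matrix.det_zero_of_column_eq hab
        intro i
        simp only [Matrix.submatrix_apply, hgab]
      · obtain ⟨a, b, hab, hfab⟩ := Fintype.exists_ne_map_eq_of_card_lt f (by simp; omega)
        apply Matrix.det_zero_of_row_eq hab
        funext j
        simp only [Matrix.submatrix_apply, hfab]
    rw [hbot, ← ringKrullDim_eq_of_ringEquiv (RingEquiv.quotientBot _).symm,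
      MvPolynomial.ringKrullDim_of_isNoetherianRing, ringKrullDim_eq_zero_of_field, zero_add,
      Nat.card_eq_fintype_card, Fintype.card_prod, Fintype.card_fin, Fintype.card_fin]
    have h5 : n * m = r * (m + n - r) := by
      have hr1 := le_min_iff.mp hr
      by_cases hn : r + 1 ≤ n
      · have hm : r = m := by
          have : ¬ r + 1 ≤ m := fun h => hcase ⟨hn, h⟩
          omega
        subst hm
        rw [Nat.add_sub_cancel_left, mul_comm]
      · have hn' : r = n := by omega
        subst hn'
        rw [Nat.add_sub_cancel]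
    rw [h5]

end Groth.Agent.S10870
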