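import Groth.Statements.S10883
import Groth.Agent.Lib.Seat67NonSmooth
import Groth.Agent.Lib.Seat67RankFactor
import Groth.Agent.Lib.Seat67DetDeriv

set_option autoImplicit false
universe u
open CAlgX

namespace Groth.Agent.S10883

open Groth.Agent.Lib.Seat67.RankFactor in
theorem aux (k : Type u) [Field k] (n m r : ℕ) (hr : r < min n m)
    (P : PrimeSpectrum (MvPolynomial (Fin n × Fin m) k ⧸ CAlgX.minorIdeal (gen k n m) (r + 1))) :
    P ∈ Algebra.smoothLocus k
        (MvPolynomial (Fin n × Fin m) k ⧸ CAlgX.minorIdeal (gen k n m) (r + 1)) ↔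
      ¬ (CAlgX.minorIdeal (gen k n m) r).map
          (Ideal.Quotient.mk (CAlgX.minorIdeal (gen k n m) (r + 1))) ≤ P.asIdeal := by
  classical
  have hrn : r + 1 ≤ n := by have := lt_min_iff.mp hr; omega
  have hrm : r + 1 ≤ m := by have := lt_min_iff.mp hr; omega
  constructor
  · -- smooth points have rank exactly `r`
    intro hsm hle
    have hsm' : Algebra.FormallySmooth k (Localization.AtPrime P.asIdeal) := hsm
    have hIne : CAlgX.minorIdeal (gen k n m) (r + 1) ≠ ⊥ := by
      intro hbot
      have hmem : ((gen k n m).submatrix (Fin.castLE hrn) (Fin.castLE hrm)).det ∈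
          CAlgX.minorIdeal (gen k n m) (r + 1) :=
        Ideal.subset_span ⟨(Fin.castLE hrn, Fin.castLE hrm), rfl⟩
      rw [hbot, Ideal.mem_bot] at hmem
      have h1 := congrArg (MvPolynomial.eval
        (fun p : Fin n × Fin m => if p.1.val = p.2.val then (1 : k) else 0)) hmem
      rw [RingHom.map_det, map_zero] at h1
      have h2 : (MvPolynomial.eval
          (fun p : Fin n × Fin m => if p.1.val = p.2.val then (1 : k) else 0)).mapMatrix
          ((gen k n m).submatrix (Fin.castLE hrn) (Fin.castLE hrm)) = 1 := by
        ext a b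
        simp [gen, Matrix.one_apply, Fin.ext_iff]
      rw [h2, Matrix.det_one] at h1
      exact one_ne_zero h1
    refine Groth.Agent.Lib.Seat67.NonSmooth.not_isSmoothAt_quotient (k := k)
      (CAlgX.minorIdeal (gen k n m) (r + 1)) hIne P.asIdeal ?_ hsm'
    intro x hx
    have hle' : CAlgX.minorIdeal (gen k n m) r ≤
        P.asIdeal.comap (Ideal.Quotient.mk (CAlgX.minorIdeal (gen k n m) (r + 1))) :=
      Ideal.map_le_iff_le_comap.mp hle
    exact Submodule.smul_mono_left hle'
      (Groth.Agent.Lib.Seat67.DetDeriv.derivation_mem_of_mem_minorIdeal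
        (KaehlerDifferential.D k (MvPolynomial (Fin n × Fin m) k)) (gen k n m) r hx)
  · -- points of rank exactly `r` are smooth
    intro hnle
    have hex : ∃ fg : (Fin r → Fin n) × (Fin r → Fin m),
        Ideal.Quotient.mk (CAlgX.minorIdeal (gen k n m) (r + 1))
          ((gen k n m).submatrix fg.1 fg.2).det ∉ P.asIdeal := by
      by_contra hcon
      push Not at hcon
      apply hnle
      unfold CAlgX.minorIdeal
      rw [Ideal.map_span, Ideal.span_le]
      rintro _ ⟨_, ⟨fg, rfl⟩, rfl⟩
      exact hcon fg
    obtain ⟨⟨f0, g0⟩, hfg⟩ := hex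
    have hsmooth := formallySmooth_away k n m r f0 g0
    have : Algebra.FinitePresentation k
        (MvPolynomial (Fin n × Fin m) k ⧸ CAlgX.minorIdeal (gen k n m) (r + 1)) :=
      Algebra.FinitePresentation.quotient (IsNoetherian.noetherian _)
    have hsub := Algebra.basicOpen_subset_smoothLocus_iff.mpr hsmooth
    exact hsub hfg


/-- Let k be a field and 0 < r < min(n, m), and let B be the coordinate ring of the affine determinantal
scheme of n × m matrices of rank at most r over k (polynomial ring on the entries of the generic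
matrix modulo its (r+1) × (r+1) minors). A prime P of B is a smooth point over k (the localization
B_P is formally smooth over k) exactly when it corresponds to a matrix of rank exactly r, i.e. when
P does not contain the image of the ideal generated by the r × r minors. -/
theorem result (k : Type u) [Field k] (n m r : ℕ) (hr0 : 0 < r)
    (hr : r < min n m)
    (P : PrimeSpectrum (MvPolynomial (Fin n × Fin m) k ⧸ CAlgX.minorIdeal (Matrix.of fun (i : Fin n) (j : Fin m) => (MvPolynomial.X (i, j) : MvPolynomial (Fin n × Fin m) k)) (r + 1))) :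
    P ∈ Algebra.smoothLocus k (MvPolynomial (Fin n × Fin m) k ⧸ CAlgX.minorIdeal (Matrix.of fun (i : Fin n) (j : Fin m) => (MvPolynomial.X (i, j) : MvPolynomial (Fin n × Fin m) k)) (r + 1)) ↔
      ¬ (CAlgX.minorIdeal (Matrix.of fun (i : Fin n) (j : Fin m) => (MvPolynomial.X (i, j) : MvPolynomial (Fin n × Fin m) k)) r).map
          (Ideal.Quotient.mk (CAlgX.minorIdeal (Matrix.of fun (i : Fin n) (j : Fin m) => (MvPolynomial.X (i, j) : MvPolynomial (Fin n × Fin m) k)) (r + 1))) ≤ P.asIdeal := by
  exact aux k n m r hr P

end Groth.Agent.S10883
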