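import Groth.Statements.S10908
import Groth.Agent.Lib.Seat49GradedNormal
-- import your own Groth.Agent.* helpers here

set_option autoImplicit false
universe u
open ProjDeg

namespace Groth.Agent.S10908

open Groth.Agent.Lib.Seat49.GradedNormal TopologicalSpace Opposite

section Aux

variable {R A : Type u} [CommRing R] [CommRing A] [IsDomain A] [Algebra R A]
  (𝒜 : ℕ → Submodule R A) [GradedAlgebra 𝒜]

theorem isUnit_algebraMap_of_mem_primeCompl (x : ProjectiveSpectrum 𝒜)
    (y : x.asHomogeneousIdeal.toIdeal.primeCompl) :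
    IsUnit (algebraMap A (FractionRing A) y) := by
  apply IsUnit.mk0
  intro h
  have h0 : (y : A) = 0 := IsFractionRing.injective A (FractionRing A) (h.trans (map_zero _).symm)
  exact y.2 (h0 ▸ Ideal.zero_mem _)

/-- the canonical map from the localization at a point of `Proj` to the fraction field. -/
noncomputable def toFrac (x : ProjectiveSpectrum 𝒜) : Twist.Loc 𝒜 x →+* FractionRing A :=
  IsLocalization.lift (M := x.asHomogeneousIdeal.toIdeal.primeCompl)
    (g := algebraMap A (FractionRing A)) (isUnit_algebraMap_of_mem_primeCompl 𝒜 x)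

theorem toFrac_mk (x : ProjectiveSpectrum 𝒜) (a : A) (s : x.asHomogeneousIdeal.toIdeal.primeCompl) :
    algebraMap A (FractionRing A) s * toFrac 𝒜 x (Localization.mk a s) =
      algebraMap A (FractionRing A) a := by
  rw [Localization.mk_eq_mk', toFrac]
  exact ((IsLocalization.lift_mk'_spec _ _ _ _).1 rfl).symm

theorem toFrac_injective (x : ProjectiveSpectrum 𝒜) : Function.Injective (toFrac 𝒜 x) := by
  rw [toFrac, IsLocalization.lift_injective_iff]
  intro a b
  have hle : x.asHomogeneousIdeal.toIdeal.primeCompl ≤ nonZeroDivisors A := by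
    intro y hy
    rw [mem_nonZeroDivisors_iff_ne_zero]
    intro h0
    exact hy (h0 ▸ Ideal.zero_mem _)
  rw [(IsLocalization.injective (Twist.Loc 𝒜 x) hle).eq_iff,
    (IsFractionRing.injective A (FractionRing A)).eq_iff]

variable {𝒜}

/-- the generic point lies in every nonempty open subset of `Proj`. -/
theorem genericPt_mem (h1 : 𝒜 1 ≠ ⊥) (V : Opens (ProjectiveSpectrum.top 𝒜))
    (x : ProjectiveSpectrum 𝒜) (hx : x ∈ (V.1 : Set (ProjectiveSpectrum 𝒜))) :
    genericPt h1 ∈ (V.1 : Set (ProjectiveSpectrum 𝒜)) := by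
  by_contra hη
  obtain ⟨s, hs⟩ := (ProjectiveSpectrum.isOpen_iff 𝒜 (V.1 : Set (ProjectiveSpectrum 𝒜))).1 V.2
  have hη' : genericPt h1 ∈ ProjectiveSpectrum.zeroLocus 𝒜 s := by
    rw [← hs]; exact hη
  have hη'' := (ProjectiveSpectrum.mem_zeroLocus 𝒜 (genericPt h1) s).1 hη'
  have hx' : x ∈ ProjectiveSpectrum.zeroLocus 𝒜 s := by
    refine (ProjectiveSpectrum.mem_zeroLocus 𝒜 x s).2 ?_
    intro y hy
    have := hη'' hy
    rw [SetLike.mem_coe, ← HomogeneousIdeal.mem_iff, genericPt_toIdeal, Ideal.mem_bot] at this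
    rw [this]
    exact Submodule.zero_mem _
  rw [← hs] at hx'
  exact hx' hx

/-- the value of a global section of `O(d)` at a point, in the fraction field. -/
noncomputable def val {d : ℕ} (σ : Twist.sectN (𝒜 := 𝒜) (d : ℤ) (op ⊤)) (x : ProjectiveSpectrum 𝒜) :
    FractionRing A :=
  toFrac 𝒜 x (σ.1 ⟨x, trivial⟩).1

theorem exists_frac (h1 : 𝒜 1 ≠ ⊥) {d : ℕ} (σ : Twist.sectN (𝒜 := 𝒜) (d : ℤ) (op ⊤))
    (x : ProjectiveSpectrum 𝒜) :
    ∃ (i j : ℕ) (a s : A), a ∈ 𝒜 i ∧ s ∈ 𝒜 j ∧ s ∉ x.asHomogeneousIdeal ∧ s ≠ 0 ∧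
      ((i : ℤ) = j + d ∨ a = 0) ∧
      algebraMap A (FractionRing A) s * val σ x = algebraMap A (FractionRing A) a ∧
      algebraMap A (FractionRing A) s * val σ (genericPt h1) = algebraMap A (FractionRing A) a := by
  obtain ⟨V, hxV, i, i', j, a, s, nin, h, w⟩ := σ.2 ⟨x, trivial⟩
  have hηV : genericPt h1 ∈ V := genericPt_mem h1 V x hxV
  refine ⟨i', j, a.1, s.1, a.2, s.2, nin ⟨x, hxV⟩, ?_, h, ?_, ?_⟩
  · intro h0
    apply nin ⟨x, hxV⟩
    rw [h0]
    exact Submodule.zero_mem _
  · have := w ⟨x, hxV⟩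
    rw [val]
    change algebraMap A (FractionRing A) s.1 * toFrac 𝒜 x (σ.1 (i ⟨x, hxV⟩)).1 = _
    rw [this]
    exact toFrac_mk 𝒜 x a.1 ⟨s.1, nin ⟨x, hxV⟩⟩
  · have := w ⟨genericPt h1, hηV⟩
    rw [val]
    change algebraMap A (FractionRing A) s.1 * toFrac 𝒜 (genericPt h1) (σ.1 (i ⟨genericPt h1, hηV⟩)).1 = _
    rw [this]
    exact toFrac_mk 𝒜 (genericPt h1) a.1 ⟨s.1, nin ⟨genericPt h1, hηV⟩⟩

theorem val_eq (h1 : 𝒜 1 ≠ ⊥) {d : ℕ} (σ : Twist.sectN (𝒜 := 𝒜) (d : ℤ) (op ⊤))
    (x : ProjectiveSpectrum 𝒜) : val σ x = val σ (genericPt h1) := by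
  obtain ⟨i, j, a, s, -, -, -, hs0, -, e1, e2⟩ := exists_frac h1 σ x
  have hsK : algebraMap A (FractionRing A) s ≠ 0 := fun h =>
    hs0 (IsFractionRing.injective A (FractionRing A) (h.trans (map_zero _).symm))
  exact mul_left_cancel₀ hsK (e1.trans e2.symm)

end Aux

/-- Let S be a Noetherian graded integral domain, graded by the natural numbers as an algebra over a
ring R, generated by its degree-one part over S_0 (S_1 S_i = S_{i+1}) with S_1 ≠ 0, and integrally
closed in its field of fractions (so that X = Proj S is projectively normal). Then for every d ≥ 0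
the canonical map from S_d to the global sections of the twisting sheaf O_X(d), sending a to the
section a/1, is bijective. (The underlying lemma: every global section of O_X(d) is an element of
the homogeneous fraction ring integral over S.) (The published corollary takes the degree-zero part
to be a finitely generated algebra over a field; this row assumes only that the ring is Noetherian,
which is all the argument uses.) -/
theorem result {R A : Type u} [CommRing R] [CommRing A] [IsDomain A]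
    [IsNoetherianRing A] [Algebra R A] (𝒜 : ℕ → Submodule R A) [GradedAlgebra 𝒜]
    (hgen : ∀ i : ℕ, 𝒜 1 * 𝒜 i = 𝒜 (i + 1)) (h1 : 𝒜 1 ≠ ⊥) (hint : IsIntegrallyClosed A) (d : ℕ) :
    Function.Bijective (fun a : ↥(𝒜 d) => Twist.globalOf 𝒜 a) := by
  have one_mem : ∀ x : ProjectiveSpectrum 𝒜, (1 : A) ∈ x.asHomogeneousIdeal.toIdeal.primeCompl :=
    fun x => Submonoid.one_mem _
  have hval : ∀ (a : 𝒜 d) (x : ProjectiveSpectrum 𝒜),
      val (Twist.globalOf 𝒜 a) x = algebraMap A (FractionRing A) a.1 := by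
    intro a x
    have := toFrac_mk 𝒜 x a.1 ⟨1, one_mem x⟩
    simp only [map_one, one_mul] at this
    exact this
  constructor
  · intro a b hab
    have h2 : val (Twist.globalOf 𝒜 a) (genericPt h1) = val (Twist.globalOf 𝒜 b) (genericPt h1) :=
      congrArg (fun σ => val σ (genericPt h1)) hab
    rw [hval, hval] at h2
    exact Subtype.ext (IsFractionRing.injective A (FractionRing A) h2)
  · intro σ
    obtain ⟨b, hb, hbt⟩ := exists_mem_of_forall_proj (K := FractionRing A) hgen h1 d
      (val σ (genericPt h1)) (fun x => by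
        obtain ⟨i, j, a, s, ha, hs, hsx, -, hdeg, -, e2⟩ := exists_frac h1 σ x
        exact ⟨i, j, a, s, ha, hs, hsx, hdeg, e2⟩)
    refine ⟨⟨b, hb⟩, ?_⟩
    apply Subtype.ext
    funext x
    apply Subtype.ext
    apply toFrac_injective 𝒜 x.1
    have e1 := hval ⟨b, hb⟩ x.1
    have e2 := val_eq h1 σ x.1
    rw [val] at e1 e2
    exact e1.trans (hbt.trans e2.symm)

end Groth.Agent.S10908
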