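import Groth.Statements.S10949
import Groth.Agent.Lib.Seat21DevFinGen

set_option autoImplicit false
universe u
open CategoryTheory CategoryTheory.Limits AlgebraicGeometry
open Coherent

namespace Groth.Agent.S10949

/-- Let f : X → Y be a finite surjective morphism of integral Noetherian schemes and F a coherent
O_Y-module (quasi-coherent of finite type). Then there are an integer r ≥ 1, a coherent O_X-module G
and a morphism of O_Y-modules β : f_*G → F^r (the coproduct of r copies of F) such that the map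
induced by β on stalks of the underlying abelian sheaves at the generic point of Y is an
isomorphism. -/
theorem result
    {X Y : Scheme.{u}} [IsIntegral X] [IsNoetherian X] [IsIntegral Y] [IsNoetherian Y]
    (f : X ⟶ Y) [IsFinite f] [Surjective f] (F : Y.Modules) (hF : Coh.IsCoh F) :
    ∃ (r : ℕ) (G : X.Modules) (β : (Scheme.Modules.pushforward f).obj G ⟶ ∐ fun _ : ULift.{u} (Fin r) => F),
      0 < r ∧ Coh.IsCoh G ∧
      IsIso ((TopCat.Presheaf.stalkFunctor AddCommGrpCat.{u} (genericPoint ↥Y)).map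
        ((SheafOfModules.toSheaf Y.ringCatSheaf).map β).hom) := by
  obtain ⟨m', G, β, hG, hβ⟩ := Groth.Agent.Lib.Seat21.Dev.exists_push_to_pw f F hF
  obtain ⟨eS⟩ := Groth.Agent.Lib.Seat21.Dev.nonempty_sigma_iso_pw F m'
  let e : (∐ fun _ : ULift.{u} (Fin (m' + 1)) => F) ≅ Groth.Agent.Lib.Seat21.Dev.pw F m' :=
    Sigma.whiskerEquiv (f := fun _ : ULift.{u} (Fin (m' + 1)) => F) (g := fun _ : Fin (m' + 1) => F)
      Equiv.ulift (fun _ => Iso.refl F) ≪≫ eS
  refine ⟨m' + 1, G, β ≫ e.inv, Nat.succ_pos m', hG, ?_⟩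
  rw [ConcreteCategory.isIso_iff_bijective]
  have h1 : Function.Bijective (Groth.Agent.Lib.Helper1.StalkTensor.sm
      (Groth.Agent.Lib.Helper1.StalkTensor.toPMMap (β ≫ e.inv)) (genericPoint ↥Y)) := by
    have : Groth.Agent.Lib.Helper1.StalkTensor.sm (Groth.Agent.Lib.Helper1.StalkTensor.toPMMap (β ≫ e.inv)) (genericPoint ↥Y) =
        Groth.Agent.Lib.Helper1.StalkTensor.sm (Groth.Agent.Lib.Helper1.StalkTensor.toPMMap e.inv) (genericPoint ↥Y) ∘
          Groth.Agent.Lib.Helper1.StalkTensor.sm (Groth.Agent.Lib.Helper1.StalkTensor.toPMMap β) (genericPoint ↥Y) :=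
      funext fun a => Groth.Agent.Lib.Seat21.Dev.sm_comp_apply β e.inv _ a
    rw [this]
    exact (Groth.Agent.Lib.Seat21.Dev.sm_bijective_of_iso e.symm _).comp hβ
  exact h1

end Groth.Agent.S10949
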