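import Groth.Statements.S10954
import Mathlib
import Groth.Agent.Lib.Helper23Serre2
import Groth.Agent.Lib.Helper23QCohLocal
-- import your own Groth.Agent.* helpers here

set_option autoImplicit false
universe u
open Coherent

namespace Groth.Agent.S10954

open AlgebraicGeometry CategoryTheory CategoryTheory.Limits Opposite
open Groth.Agent.Lib.Helper23.Serre Groth.Agent.Lib.Helper23.QCohLocal CategoryTheory.Abelian

set_option linter.style.haveILetI false

open AlgebraicGeometry CategoryTheory CategoryTheory.Limits Opposite in
/-- Let X be a quasi-compact scheme such that, for every short exact sequence 0 → F' → F → F'' → 0 of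
quasi-coherent O_X-modules whose first term F' admits a monomorphism into a finite direct sum of
copies of O_X, taking global sections gives a surjection F(X) → F''(X). Then X is affine. (The
published statement is an equivalence of three conditions on a quasi-compact scheme; this row states
the implication from exactness of global sections on such sequences to affineness.) -/
theorem result (X : Scheme.{u}) [CompactSpace X]
    (h : ∀ (S : ShortComplex X.Modules) (n : ℕ)
      (j : S.X₁ ⟶ ∏ᶜ (fun _ : Fin n => Coh.structureModule X)),
      S.ShortExact → Mono j → Coh.IsQCoh S.X₁ → Coh.IsQCoh S.X₂ → Coh.IsQCoh S.X₃ →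
        Function.Surjective (S.g.val.app (op ⊤)).hom) :
    IsAffine X := by
  apply isAffine_of_surjHyp
  · intro Q π hQ hπ
    let S : ShortComplex X.Modules := ShortComplex.mk (kernel.ι π) π (kernel.condition π)
    have hS : S.ShortExact :=
      { exact := ShortComplex.exact_of_f_is_kernel _ (kernelIsKernel π)
        mono_f := (inferInstance : Mono (kernel.ι π))
        epi_g := hπ }
    let j : kernel π ⟶ ∏ᶜ (fun _ : Fin 1 => Coh.structureModule X) :=
      kernel.ι π ≫ Pi.lift (fun _ => 𝟙 _)
    have hj : Mono j := by
      have h1 : j ≫ Pi.π (fun _ : Fin 1 => Coh.structureModule X) 0 = kernel.ι π := by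
        simp [j]
      exact mono_of_mono_fac h1
    haveI : (Coh.structureModule X).IsQuasicoherent := isQuasicoherent_structureModule' X
    haveI : Q.IsQuasicoherent := hQ
    exact h S 1 j hS hj (isQuasicoherent_kernel π)
      (isQuasicoherent_structureModule' X) hQ
  · intro n f hepi
    let S : ShortComplex X.Modules :=
      ShortComplex.mk (kernel.ι (psiF f)) (psiF f) (kernel.condition (psiF f))
    have hS : S.ShortExact :=
      { exact := ShortComplex.exact_of_f_is_kernel _ (kernelIsKernel (psiF f))
        mono_f := (inferInstance : Mono (kernel.ι (psiF f)))
        epi_g := hepi }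
    haveI : HasFiniteBiproducts X.Modules := Abelian.hasFiniteBiproducts
    let e : FlatMod.freeMod X n ≅ ∏ᶜ (fun _ : Fin n => Coh.structureModule X) :=
      (biproduct.isoCoproduct (fun _ : Fin n => Coh.structureModule X)).symm ≪≫
        biproduct.isoProduct (fun _ : Fin n => Coh.structureModule X)
    let j : kernel (psiF f) ⟶ ∏ᶜ (fun _ : Fin n => Coh.structureModule X) :=
      kernel.ι (psiF f) ≫ e.hom
    have hj : Mono j := mono_comp _ _
    haveI : (Coh.structureModule X).IsQuasicoherent := isQuasicoherent_structureModule' X
    haveI : (FlatMod.freeMod X n).IsQuasicoherent := isQuasicoherent_freeMod n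
    exact h S n j hS hj
      (isQuasicoherent_kernel (psiF f))
      (isQuasicoherent_freeMod n) (isQuasicoherent_structureModule' X)

end Groth.Agent.S10954
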