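import Groth.Statements.S10964
import Groth.Agent.Lib.Seat49Cocycle

set_option autoImplicit false
universe u
open CategoryTheory AlgebraicGeometry TopologicalSpace Opposite
open PicF

namespace Groth.Agent.S10964

/-- Let X be a scheme with an open cover (U_i)_{i ∈ ι}. Let L and L' be O_X-modules with sections s_i of
L and s'_i of L' over U_i that generate there (for every open V ⊆ U_i, r ↦ r · s_i|_V is a bijection
from functions on V onto sections of L over V, and likewise for s'_i), and let η_ij, η'_ij be the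
functions on U_i ∩ U_j with s_i = η_ij · s_j and s'_i = η'_ij · s'_j there. Then L and L' are
isomorphic as O_X-modules if and only if there is a family of units u_i of the rings of functions on
the U_i with η'_ij · u_i|_{U_i ∩ U_j} = u_j|_{U_i ∩ U_j} · η_ij for all i, j. (So two invertible
modules trivialised by the cover are isomorphic exactly when their transition cocycles define the
same Čech cohomology class.) -/
theorem result (X : Scheme.{u}) {ι : Type u} (U : ι → X.Opens)
    (hU : iSup U = ⊤) (L L' : X.Modules) (s : ∀ i : ι, Γ(L, U i)) (s' : ∀ i : ι, Γ(L', U i))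
    (hs : ∀ (i : ι) (V : X.Opens) (h : V ≤ U i),
        Function.Bijective (fun r : Γ(X, V) => r • L.presheaf.map (homOfLE h).op (s i)))
    (hs' : ∀ (i : ι) (V : X.Opens) (h : V ≤ U i),
        Function.Bijective (fun r : Γ(X, V) => r • L'.presheaf.map (homOfLE h).op (s' i)))
    (η η' : ∀ i j : ι, Γ(X, U i ⊓ U j))
    (hη : ∀ i j : ι, L.presheaf.map (homOfLE (inf_le_left : U i ⊓ U j ≤ U i)).op (s i) =
        η i j • L.presheaf.map (homOfLE (inf_le_right : U i ⊓ U j ≤ U j)).op (s j))
    (hη' : ∀ i j : ι, L'.presheaf.map (homOfLE (inf_le_left : U i ⊓ U j ≤ U i)).op (s' i) =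
        η' i j • L'.presheaf.map (homOfLE (inf_le_right : U i ⊓ U j ≤ U j)).op (s' j)) :
    Nonempty (L ≅ L') ↔ ∃ u : ∀ i : ι, (Γ(X, U i))ˣ, ∀ i j : ι,
      η' i j * X.presheaf.map (homOfLE (inf_le_left : U i ⊓ U j ≤ U i)).op (u i : Γ(X, U i)) =
        X.presheaf.map (homOfLE (inf_le_right : U i ⊓ U j ≤ U j)).op (u j : Γ(X, U j)) * η i j := by
  classical
  constructor
  · rintro ⟨e⟩
    -- the function r i with e(s i) = r i • s' i, and t i with e⁻¹(s' i) = t i • s i
    have hr : ∀ i, ∃ r : Γ(X, U i), r • L'.presheaf.map (homOfLE (le_refl (U i))).op (s' i) =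
        e.hom.app (U i) (s i) := fun i => (hs' i (U i) le_rfl).2 _
    have ht : ∀ i, ∃ t : Γ(X, U i), t • L.presheaf.map (homOfLE (le_refl (U i))).op (s i) =
        e.inv.app (U i) (s' i) := fun i => (hs i (U i) le_rfl).2 _
    choose r hr using hr
    choose t ht using ht
    simp only [Groth.Agent.Lib.Seat49.Cocycle.map_refl_apply] at hr ht
    have hrt : ∀ i, r i * t i = 1 := by
      intro i
      apply (hs i (U i) le_rfl).1
      simp only [Groth.Agent.Lib.Seat49.Cocycle.map_refl_apply, one_smul]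
      have h1 : e.inv.app (U i) (e.hom.app (U i) (s i)) = s i := by
        rw [← ConcreteCategory.comp_apply, ← Scheme.Modules.Hom.comp_app, e.hom_inv_id]
        rfl
      rw [← hr i, Scheme.Modules.Hom.app_smul, ← ht i, smul_smul] at h1
      exact h1
    refine ⟨fun i => ⟨r i, t i, hrt i, (mul_comm _ _).trans (hrt i)⟩, fun i j => ?_⟩
    apply (hs' j (U i ⊓ U j) inf_le_right).1
    show (η' i j * X.presheaf.map (homOfLE inf_le_left).op (r i)) •
        L'.presheaf.map (homOfLE inf_le_right).op (s' j) =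
      (X.presheaf.map (homOfLE inf_le_right).op (r j) * η i j) •
        L'.presheaf.map (homOfLE inf_le_right).op (s' j)
    -- naturality of e.hom with respect to restriction
    have hnat : ∀ (V W : X.Opens) (h : W ≤ V) (m : Γ(L, V)),
        L'.presheaf.map (homOfLE h).op (e.hom.app V m) =
          e.hom.app W (L.presheaf.map (homOfLE h).op m) := by
      intro V W h m
      have := e.hom.mapPresheaf.naturality (homOfLE h).op
      exact (CategoryTheory.congr_fun this m).symm
    have h1 := congrArg (e.hom.app (U i ⊓ U j)) (hη i j)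
    rw [← hnat, Scheme.Modules.Hom.app_smul, ← hnat, ← hr i, ← hr j, Scheme.Modules.map_smul,
      Scheme.Modules.map_smul, hη' i j, smul_smul, smul_smul] at h1
    rw [mul_comm (η' i j), mul_comm _ (η i j)]
    exact h1
  · rintro ⟨u, hu⟩
    have hu' : ∀ i j : ι,
        η i j * X.presheaf.map (homOfLE (inf_le_left : U i ⊓ U j ≤ U i)).op ((u i)⁻¹ : (Γ(X, U i))ˣ).1 =
          X.presheaf.map (homOfLE (inf_le_right : U i ⊓ U j ≤ U j)).op ((u j)⁻¹ : (Γ(X, U j))ˣ).1 *
            η' i j := by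
      intro i j
      have hi : X.presheaf.map (homOfLE (inf_le_left : U i ⊓ U j ≤ U i)).op (u i).1 *
          X.presheaf.map (homOfLE (inf_le_left : U i ⊓ U j ≤ U i)).op ((u i)⁻¹ : (Γ(X, U i))ˣ).1 = 1 := by
        rw [← map_mul, Units.mul_inv, map_one]
      have hj : X.presheaf.map (homOfLE (inf_le_right : U i ⊓ U j ≤ U j)).op (u j).1 *
          X.presheaf.map (homOfLE (inf_le_right : U i ⊓ U j ≤ U j)).op ((u j)⁻¹ : (Γ(X, U j))ˣ).1 = 1 := by
        rw [← map_mul, Units.mul_inv, map_one]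
      have h := hu i j
      linear_combination
        (X.presheaf.map (homOfLE (inf_le_right : U i ⊓ U j ≤ U j)).op ((u j)⁻¹ : (Γ(X, U j))ˣ).1 * η' i j) * hi
        - (η i j * X.presheaf.map (homOfLE (inf_le_left : U i ⊓ U j ≤ U i)).op ((u i)⁻¹ : (Γ(X, U i))ˣ).1) * hj
        - (X.presheaf.map (homOfLE (inf_le_left : U i ⊓ U j ≤ U i)).op ((u i)⁻¹ : (Γ(X, U i))ˣ).1 *
            X.presheaf.map (homOfLE (inf_le_right : U i ⊓ U j ≤ U j)).op ((u j)⁻¹ : (Γ(X, U j))ˣ).1) * h
    let φ : L ⟶ L' := Groth.Agent.Lib.Seat49.Cocycle.homOfCochain U hU L L' s s' hs η η' hη hη' (fun i => (u i).1) hu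
    let ψ : L' ⟶ L := Groth.Agent.Lib.Seat49.Cocycle.homOfCochain U hU L' L s' s hs' η' η hη' hη
      (fun i => ((u i)⁻¹ : (Γ(X, U i))ˣ).1) hu'
    refine ⟨⟨φ, ψ, ?_, ?_⟩⟩
    · apply Groth.Agent.Helper13ModBasis.hom_ext_basis (Groth.Agent.Lib.Seat49.Cocycle.B U) (Groth.Agent.Lib.Seat49.Cocycle.isBasis U hU)
      intro p
      ext m
      obtain ⟨a, rfl⟩ := (hs p.1.1 p.1.2 p.2).2 m
      show ψ.app (Groth.Agent.Lib.Seat49.Cocycle.B U p) (φ.app (Groth.Agent.Lib.Seat49.Cocycle.B U p) (a • L.presheaf.map (homOfLE p.2).op (s p.1.1))) =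
        a • L.presheaf.map (homOfLE p.2).op (s p.1.1)
      rw [Groth.Agent.Lib.Seat49.Cocycle.homOfCochain_app_smul, Groth.Agent.Lib.Seat49.Cocycle.homOfCochain_app_smul, mul_assoc, ← map_mul,
        Units.mul_inv, map_one, mul_one]
    · apply Groth.Agent.Helper13ModBasis.hom_ext_basis (Groth.Agent.Lib.Seat49.Cocycle.B U) (Groth.Agent.Lib.Seat49.Cocycle.isBasis U hU)
      intro p
      ext m
      obtain ⟨a, rfl⟩ := (hs' p.1.1 p.1.2 p.2).2 m
      show φ.app (Groth.Agent.Lib.Seat49.Cocycle.B U p) (ψ.app (Groth.Agent.Lib.Seat49.Cocycle.B U p) (a • L'.presheaf.map (homOfLE p.2).op (s' p.1.1))) =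
        a • L'.presheaf.map (homOfLE p.2).op (s' p.1.1)
      rw [Groth.Agent.Lib.Seat49.Cocycle.homOfCochain_app_smul, Groth.Agent.Lib.Seat49.Cocycle.homOfCochain_app_smul, mul_assoc, ← map_mul,
        Units.inv_mul, map_one, mul_one]

end Groth.Agent.S10964
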