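import Groth.Statements.S1105
import Groth.Agent.Lib.Seat63TildePerf

set_option autoImplicit false
universe u
open CategoryTheory CategoryTheory.Limits AlgebraicGeometry
attribute [local instance] HasDerivedCategory.standard
open Perf

namespace Groth.Agent.S1105

/-- Let A be a ring, M an object of D(A) and E = M~ the associated object of D(O_{Spec A}) (tilde being
recorded as exact). Then E is perfect in D(O_{Spec A}) if and only if M is perfect in D(A)
(isomorphic to a bounded complex of finite projective modules). -/
theorem result (A : Type u) [CommRing A] [PreservesFiniteLimits (tilde.functor (CommRingCat.of A))] (M : Dual.D A) :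
    DCoh.IsPerfect ((DCoh.tildeD (CommRingCat.of A)).obj M) ↔ DRing.IsPerfect A M := by
  exact ⟨Groth.Agent.Lib.Seat63.TildePerf.isPerfect_of_isPerfect_tildeD A M,
    Groth.Agent.Lib.Seat63.TildePerf.isPerfect_tildeD (CommRingCat.of A) M⟩

end Groth.Agent.S1105
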