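import Groth.Statements.S11081
import Groth.Agent.Lib.Seat78TraceFilt
import Mathlib

set_option autoImplicit false
universe u
attribute [local instance] FractionRing.liftAlgebra
open CAlg

namespace Groth.Agent.S11081

/-- Let A be a Dedekind domain, B a Dedekind domain which is a finitely generated torsion-free A-algebra
whose fraction field is separable over that of A (B is the integral closure of A in a finite
separable extension), p a nonzero prime ideal of A and y an element of B. Then the class modulo p of
the trace of y from B to A is the sum over the primes Q of B lying over p of e(Q|p) times the trace,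
from B/Q to A/p, of the class of y modulo Q. -/
theorem result (A B : Type u) [CommRing A] [CommRing B]
    [IsDedekindDomain A] [IsDedekindDomain B] [Algebra A B] [Module.Finite A B] [Module.IsTorsionFree A B]
    [Algebra.IsSeparable (FractionRing A) (FractionRing B)]
    (p : Ideal A) [p.IsMaximal] (hp : p ≠ ⊥) (y : B) :
    Ideal.Quotient.mk p (Algebra.intTrace A B y) =
      ∑ᶠ Q : p.primesOver B,
        Q.1.ramificationIdx A •
          Algebra.trace (A ⧸ p) (B ⧸ Q.1) (Ideal.Quotient.mk Q.1 y) := by
  classical
  have hinj : Function.Injective (algebraMap A B) :=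
    (Module.isTorsionFree_iff_algebraMap_injective (R := A) (A := B)).mp inferInstance
  have hpB : p.map (algebraMap A B) ≠ ⊥ := by
    rw [Ne, Ideal.map_eq_bot_iff_of_injective hinj]
    exact hp
  -- step 1: reduce to the trace of B ⧸ pB over A ⧸ p
  rw [← Algebra.trace_quotient_eq_of_isDedekindDomain B p y]
  have hle : p ≤ (p.map (algebraMap A B)).comap (algebraMap A B) := Ideal.le_comap_map
  have h1 : Algebra.trace (A ⧸ p) (B ⧸ p.map (algebraMap A B))
      (Ideal.Quotient.mk (p.map (algebraMap A B)) y) =
      Groth.Agent.Lib.Seat78.TraceFilt.qTrace p y (p.map (algebraMap A B)) :=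
    (Groth.Agent.Lib.Seat78.TraceFilt.qTrace_eq p y _ hle).symm
  rw [h1]
  -- step 2: factor pB
  set s := UniqueFactorizationMonoid.factors (p.map (algebraMap A B)) with hs
  have hprod : s.prod = p.map (algebraMap A B) :=
    associated_iff_eq.mp (UniqueFactorizationMonoid.factors_prod hpB)
  have hmem : ∀ Q ∈ s, Q.IsPrime ∧ Q ≠ ⊥ := by
    intro Q hQ
    have hpr := UniqueFactorizationMonoid.prime_of_factor Q hQ
    exact ⟨Ideal.isPrime_of_prime hpr, hpr.ne_zero⟩
  have h2 := Groth.Agent.Lib.Seat78.TraceFilt.qTrace_prod p y s hmem (by rw [hprod]; exact hle)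
  rw [hprod] at h2
  rw [h2, Finset.sum_multiset_map_count]
  -- step 3: reindex
  have h3 : ∀ Q : p.primesOver B, Q.1.ramificationIdx A •
      Algebra.trace (A ⧸ p) (B ⧸ Q.1) (Ideal.Quotient.mk Q.1 y) =
      (fun Q : Ideal B => Q.ramificationIdx A •
        Groth.Agent.Lib.Seat78.TraceFilt.qTrace p y Q) Q.1 := by
    intro Q
    show _ = Q.1.ramificationIdx A • Groth.Agent.Lib.Seat78.TraceFilt.qTrace p y Q.1
    rw [Groth.Agent.Lib.Seat78.TraceFilt.qTrace_eq p y Q.1 (le_of_eq (Q.1.over_def p))]
  rw [finsum_congr h3, finsum_set_coe_eq_finsum_mem (s := p.primesOver B)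
    (f := fun Q : Ideal B => Q.ramificationIdx A • Groth.Agent.Lib.Seat78.TraceFilt.qTrace p y Q),
    ← IsDedekindDomain.coe_primesOverFinset hp B, finsum_mem_coe_finset]
  apply Finset.sum_congr rfl
  intro Q hQ
  have hQ' : Q ∈ p.primesOver B := (IsDedekindDomain.mem_primesOverFinset_iff hp B).mp hQ
  have : Q.LiesOver p := hQ'.2
  show _ = Q.ramificationIdx A • Groth.Agent.Lib.Seat78.TraceFilt.qTrace p y Q
  rw [Ideal.IsDedekindDomain.ramificationIdx_eq_factors_count p Q hpB]

end Groth.Agent.S11081
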