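import Groth.Statements.S11085
import Groth.Agent.Lib.Seat53FunFldBridge


set_option autoImplicit false
universe u
open CAlg

namespace Groth.Agent.S11085

/-- Let k be a field, A a finitely generated k-algebra which is an integral domain of Krull dimension
one (the coordinate ring of an affine curve), and F its field of fractions. Then the set of
valuation subrings of F which contain k but do not contain A is finite. (The published statement
speaks of all valuation rings of F different from F and not containing A, over an algebraically
closed k; valuation rings not containing k must be excluded — for k an algebraic closure of a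
rational function field in one variable t over a finite field and F = k(x), the t-adic valuation of
k has infinitely many extensions to F, none of whose rings contains A — and the published proof,
through the valuation at infinity of k(x), treats valuation rings containing k; it does not use that
k is algebraically closed.) -/
theorem result (k A F : Type u) [Field k]
    [CommRing A] [IsDomain A] [Algebra k A] [Algebra.FiniteType k A] (hA : ringKrullDim A = 1)
    [Field F] [Algebra A F] [IsFractionRing A F] [Algebra k F] [IsScalarTower k A F] :
    {O : ValuationSubring F | (algebraMap k F).range ≤ O.toSubring ∧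
        ¬ (algebraMap A F).range ≤ O.toSubring}.Finite := by
  classical
  have hK : Groth.Agent.Lib.LeadFG.IsFF k F :=
    Groth.Agent.Lib.Seat53.FunFldBridge.isFF_of_finiteType_dim_one k A F hA
  obtain ⟨S, hS⟩ := (Algebra.FiniteType.out : (⊤ : Subalgebra k A).FG)
  let z : A → F := fun a => (algebraMap A F a)⁻¹
  let T : A → Set (FunFld.Place k F) := fun a => {P | Transcendental k (z a) ∧ P.1 (z a) < 1}
  have hT : ∀ a, (T a).Finite := by
    intro a
    by_cases ha : Transcendental k (z a)
    · exact (Groth.Agent.Lib.LeadFG.zeros_finite hK ha).subset (fun P hP => hP.2)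
    · convert Set.finite_empty
      ext P
      simp [T, ha]
  have hfin : (⋃ a ∈ (S : Set A), (fun P : FunFld.Place k F => P.O) '' T a).Finite :=
    S.finite_toSet.biUnion (fun a _ => (hT a).image _)
  refine hfin.subset ?_
  rintro O ⟨hkO, hAO⟩
  -- some generator is not in `O`
  have hex : ∃ a ∈ (S : Set A), algebraMap A F a ∉ O := by
    by_contra hcon
    push_neg at hcon
    apply hAO
    rintro _ ⟨a, rfl⟩
    have ha : a ∈ Algebra.adjoin k (S : Set A) := by rw [hS]; trivial
    show algebraMap A F a ∈ O
    induction ha using Algebra.adjoin_induction with
    | mem a ha => exact hcon a ha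
    | algebraMap c =>
      rw [← IsScalarTower.algebraMap_apply k A F]
      exact hkO ⟨c, rfl⟩
    | add a b _ _ ha hb => rw [map_add]; exact add_mem ha hb
    | mul a b _ _ ha hb => rw [map_mul]; exact mul_mem ha hb
  obtain ⟨a, haS, haO⟩ := hex
  have hk : Groth.Agent.Lib.LeadFG.TrivOn k O.valuation :=
    Groth.Agent.Lib.LeadFG.trivOn_of_le_one (fun c => by
      rw [ValuationSubring.valuation_le_one_iff]
      exact hkO ⟨c, rfl⟩)
  have hy1 : 1 < O.valuation (algebraMap A F a) := by
    rw [← not_le, ValuationSubring.valuation_le_one_iff]
    exact haO
  have hy0 : algebraMap A F a ≠ 0 := by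
    intro h
    rw [h, map_zero] at hy1
    exact not_lt_of_ge zero_le' hy1
  have hz0 : z a ≠ 0 := inv_ne_zero hy0
  have hz1 : O.valuation (z a) < 1 := by
    show O.valuation (algebraMap A F a)⁻¹ < 1
    rw [map_inv₀]
    exact inv_lt_one_of_one_lt₀ hy1
  have hzt : Transcendental k (z a) :=
    Groth.Agent.Lib.LeadFG.transcendental_of_val_ne_one' hK hk hz0 hz1.ne
  obtain ⟨P, hP⟩ := Groth.Agent.Lib.LeadFG.exists_place_of_valuation hK hk hz0 hz1
  refine Set.mem_biUnion haS ⟨P, ⟨hzt, ?_⟩, ?_⟩
  · have h1 := hP 1 (z a)
    rw [map_one, map_one] at h1
    rw [← not_le, h1, not_le]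
    exact hz1
  · ext x
    have h1 := hP x 1
    rw [map_one, map_one] at h1
    show P.1 x ≤ 1 ↔ x ∈ O
    rw [h1, ValuationSubring.valuation_le_one_iff]

end Groth.Agent.S11085
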