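import Groth.Statements.S11086
import Groth.Agent.Lib.Seat49Different

set_option autoImplicit false
universe u
attribute [local instance] FractionRing.liftAlgebra
open CAlg

namespace Groth.Agent.S11086

/-- Let A be a Dedekind domain, B a Dedekind domain which is a finitely generated torsion-free A-algebra
with fraction field separable over that of A (the integral closure of A in a finite separable
extension), and S a submonoid of A consisting of non-zero-divisors. Let A_S and B_S be localizations
of A at S and of B at the image of S, with B_S an algebra over A_S compatibly with A and B (so A_S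
is integrally closed and B_S is a Dedekind domain, torsion-free over A_S). Then the ideal of B_S
generated by the different of B over A is the different of B_S over A_S. -/
theorem result (A B : Type u) [CommRing A] [CommRing B]
    [IsDedekindDomain A] [IsDedekindDomain B] [Algebra A B] [Module.Finite A B] [Module.IsTorsionFree A B]
    [Algebra.IsSeparable (FractionRing A) (FractionRing B)]
    (S : Submonoid A) (hS : S ≤ nonZeroDivisors A)
    (Aₛ Bₛ : Type u) [CommRing Aₛ] [CommRing Bₛ] [Algebra A Aₛ] [Algebra B Bₛ] [Algebra Aₛ Bₛ]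
    [Algebra A Bₛ] [IsScalarTower A Aₛ Bₛ] [IsScalarTower A B Bₛ]
    [IsLocalization S Aₛ] [IsLocalization (Algebra.algebraMapSubmonoid B S) Bₛ]
    [IsDomain Aₛ] [IsIntegrallyClosed Aₛ] [IsDedekindDomain Bₛ] [Module.IsTorsionFree Aₛ Bₛ] :
    Ideal.map (algebraMap B Bₛ) (differentIdeal A B) = differentIdeal Aₛ Bₛ := by
  classical
  -- abbreviations for the fraction fields
  let K := FractionRing A
  let L := FractionRing B
  have : IsScalarTower A K L := FractionRing.isScalarTower_liftAlgebra A L
  -- `Aₛ → K`
  have hSK : ∀ s : S, IsUnit (algebraMap A K s) := fun s =>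
    IsUnit.mk0 _ (by
      have := hS s.2
      exact IsFractionRing.to_map_ne_zero_of_mem_nonZeroDivisors this)
  let algAK : Algebra Aₛ K := (IsLocalization.lift (M := S) (S := Aₛ) hSK).toAlgebra
  have : IsScalarTower A Aₛ K :=
    IsScalarTower.of_algebraMap_eq (fun a => (IsLocalization.lift_eq hSK a).symm)
  have : IsFractionRing Aₛ K := IsFractionRing.isFractionRing_of_isDomain_of_isLocalization S Aₛ K
  -- `Bₛ → L`
  have hinjAB : Function.Injective (algebraMap A B) := FaithfulSMul.algebraMap_injective A B
  have hSL : ∀ s : Algebra.algebraMapSubmonoid B S, IsUnit (algebraMap B L s) := by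
    rintro ⟨_, s, hs, rfl⟩
    refine IsUnit.mk0 _ ?_
    apply IsFractionRing.to_map_ne_zero_of_mem_nonZeroDivisors
    rw [mem_nonZeroDivisors_iff_ne_zero]
    intro h
    have h0 : s = 0 := hinjAB (by rw [map_zero]; exact h)
    exact (mem_nonZeroDivisors_iff_ne_zero.mp (hS hs)) h0
  let algBL : Algebra Bₛ L :=
    (IsLocalization.lift (M := Algebra.algebraMapSubmonoid B S) (S := Bₛ) hSL).toAlgebra
  have : IsScalarTower B Bₛ L :=
    IsScalarTower.of_algebraMap_eq (fun a => (IsLocalization.lift_eq hSL a).symm)
  have : IsFractionRing Bₛ L :=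
    IsFractionRing.isFractionRing_of_isDomain_of_isLocalization (Algebra.algebraMapSubmonoid B S) Bₛ L
  -- `Aₛ → L`
  let algAL : Algebra Aₛ L := ((algebraMap K L).comp (algebraMap Aₛ K)).toAlgebra
  have : IsScalarTower Aₛ K L := IsScalarTower.of_algebraMap_eq (fun a => rfl)
  have : IsScalarTower Aₛ Bₛ L := by
    apply IsScalarTower.of_algebraMap_eq'
    apply IsLocalization.ringHom_ext S
    ext a
    simp only [RingHom.coe_comp, Function.comp_apply]
    show algebraMap K L (algebraMap Aₛ K (algebraMap A Aₛ a)) =
      algebraMap Bₛ L (algebraMap Aₛ Bₛ (algebraMap A Aₛ a))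
    rw [← IsScalarTower.algebraMap_apply A Aₛ K, ← IsScalarTower.algebraMap_apply A K L,
      ← IsScalarTower.algebraMap_apply A Aₛ Bₛ, IsScalarTower.algebraMap_apply A B Bₛ,
      ← IsScalarTower.algebraMap_apply B Bₛ L, ← IsScalarTower.algebraMap_apply A B L]
  have : Algebra.IsIntegral A B := inferInstance
  have : IsIntegralClosure B A L := IsIntegralClosure.of_isIntegrallyClosed B A L
  have : Module.Finite Aₛ Bₛ := Module.Finite.of_isLocalization A B S
  have : Algebra.IsIntegral Aₛ Bₛ := inferInstance
  have : IsIntegralClosure Bₛ Aₛ L := IsIntegralClosure.of_isIntegrallyClosed Bₛ Aₛ L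
  have : FiniteDimensional K L := inferInstance
  exact Groth.Agent.Lib.Seat49.Different.map_differentIdeal A K L B Aₛ Bₛ S

end Groth.Agent.S11086
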