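import Groth.Statements.S11103
import Groth.Agent.Lib.Seat74NeronBC

set_option autoImplicit false
universe u
open CategoryTheory CategoryTheory.Limits AlgebraicGeometry
open Neron

namespace Groth.Agent.S11103

/-- Let R be a Dedekind domain with fraction field K, let R' be a Dedekind domain finite étale over R
(the integral closure of R in a finite unramified extension K' of K), and let N be a Néron model
over Spec R of its generic fibre N_K. Then the base change N' = N ×_R R' is a Néron model over Spec
R' of its generic fibre N'_{K'}: it is smooth, separated and of finite type over Spec R', and every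
K'-morphism from the generic fibre of a smooth R'-scheme to N'_{K'} extends uniquely to an
R'-morphism into N'. (The published statement concerns the Néron model of an elliptic curve with the
mapping property for rational maps; this row allows any N and tests the mapping property on
morphisms from smooth schemes. The property generally fails for ramified extensions.) -/
theorem result (R R' : Type u) [CommRing R] [IsDedekindDomain R]
    [CommRing R'] [IsDedekindDomain R'] [Algebra R R'] [Module.Finite R R'] [Algebra.Etale R R']
    (N : Over (Spec (CommRingCat.of R)))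
    (hN : Neron.IsNeronModelOf R N ((Neron.genericFibre R).obj N) (Iso.refl _)) :
    Neron.IsNeronModelOf R'
      ((Over.pullback (Spec.map (CommRingCat.ofHom (algebraMap R R')))).obj N)
      ((Neron.genericFibre R').obj ((Over.pullback (Spec.map (CommRingCat.ofHom (algebraMap R R')))).obj N))
      (Iso.refl _) := by
  classical
  obtain ⟨hsm, hsep, hlft, hqc, hmp⟩ := hN
  have hflat : Module.Flat R R' := inferInstance
  have hfaith : FaithfulSMul R R' := Module.IsTorsionFree.to_faithfulSMul
  have hetale : Etale (Spec.map (CommRingCat.ofHom (algebraMap R R'))) := by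
    rw [HasRingHomProperty.Spec_iff (P := @Etale)]
    simp only [CommRingCat.hom_ofHom]
    rw [RingHom.etale_algebraMap]
    infer_instance
  refine ⟨?_, ?_, ?_, ?_, ?_⟩
  · show Smooth (Limits.pullback.snd N.hom (Spec.map (CommRingCat.ofHom (algebraMap R R'))))
    infer_instance
  · show IsSeparated (Limits.pullback.snd N.hom (Spec.map (CommRingCat.ofHom (algebraMap R R'))))
    infer_instance
  · show LocallyOfFiniteType
      (Limits.pullback.snd N.hom (Spec.map (CommRingCat.ofHom (algebraMap R R'))))
    infer_instance
  · show QuasiCompact (Limits.pullback.snd N.hom (Spec.map (CommRingCat.ofHom (algebraMap R R'))))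
    infer_instance
  · intro Y' hY'
    have hY'sm : Smooth Y'.hom := hY'
    have hfun : (fun g : Y' ⟶ (Over.pullback (Spec.map (CommRingCat.ofHom (algebraMap R R')))).obj N =>
        (Neron.genericFibre R').map g ≫ (Iso.refl _).hom) =
        fun g => (Over.pullback (Neron.genPt R')).map g := by
      funext g
      rw [Iso.refl_hom, Category.comp_id]
    rw [hfun, Groth.Agent.Lib.Seat74.NeronMP2.bijective_iff_extPropAlong]
    show Groth.Agent.Lib.Seat74.NeronMP2.ExtPropAlong _ Y'.hom
      (Limits.pullback.snd N.hom (Spec.map (CommRingCat.ofHom (algebraMap R R'))))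
    rw [Groth.Agent.Lib.Seat74.NeronBC.extPropAlong_baseChange_iff]
    -- the Néron property of `N` for `Y'` viewed over `R`
    have hsm' : Smooth (Y'.hom ≫ Spec.map (CommRingCat.ofHom (algebraMap R R'))) := inferInstance
    have hbij := hmp (Over.mk (Y'.hom ≫ Spec.map (CommRingCat.ofHom (algebraMap R R')))) hsm'
    have hfun' : (fun g : Over.mk (Y'.hom ≫ Spec.map (CommRingCat.ofHom (algebraMap R R'))) ⟶ N =>
        (Neron.genericFibre R).map g ≫ (Iso.refl _).hom) =
        fun g => (Over.pullback (Neron.genPt R)).map g := by
      funext g
      rw [Iso.refl_hom, Category.comp_id]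
    rw [hfun', Groth.Agent.Lib.Seat74.NeronMP2.bijective_iff_extPropAlong] at hbij
    obtain ⟨κ, hκ⟩ := Groth.Agent.Lib.Seat74.NeronBC.isPullback_genPt R R'
    have h1 : IsPullback (Limits.pullback.snd Y'.hom (Neron.genPt R'))
        (Limits.pullback.fst Y'.hom (Neron.genPt R')) (Neron.genPt R') Y'.hom :=
      (IsPullback.of_hasPullback _ _).flip
    have hP := (h1.paste_horiz hκ).flip
    have he := hP.isoPullback_hom_fst
    rw [← Groth.Agent.Lib.Seat74.NeronBC.extPropAlong_iso_iff hP.isoPullback] at hbij
    have hbij' : Groth.Agent.Lib.Seat74.NeronMP2.ExtPropAlong (hP.isoPullback.hom ≫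
        Limits.pullback.fst (Y'.hom ≫ Spec.map (CommRingCat.ofHom (algebraMap R R')))
          (Spec.map (CommRingCat.ofHom (algebraMap R (FractionRing R)))))
        (Y'.hom ≫ Spec.map (CommRingCat.ofHom (algebraMap R R'))) N.hom := hbij
    rw [he] at hbij'
    exact hbij'

end Groth.Agent.S11103
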