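import Groth.Statements.S11107
import Groth.Agent.Lib.Seat74RatMapExt
import Groth.Agent.Lib.Seat22SmoothStalk

set_option autoImplicit false
universe u
open CategoryTheory AlgebraicGeometry
open Neron

namespace Groth.Agent.S11107

/-- Let R be a Dedekind domain, X → Spec R a smooth morphism, Y → Spec R a proper morphism, U ⊆ X a
dense open subscheme and f : U → Y a morphism over Spec R (a rational map X ⇢ Y over R). Then f
extends, over Spec R, to an open subscheme V ⊇ U of X such that every point of X outside V has a
local ring of Krull dimension at least 2: the locus where the rational map is undefined has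
codimension at least two. (The published statement assumes the rational map dominant; this row does
not.) -/
theorem result {R : Type u} [CommRing R] [IsDedekindDomain R]
    {X Y : Scheme.{u}} (pX : X ⟶ Spec (CommRingCat.of R)) (pY : Y ⟶ Spec (CommRingCat.of R))
    [Smooth pX] [IsProper pY] (U : X.Opens) (hU : Dense (U : Set X))
    (f : (U : Scheme.{u}) ⟶ Y) (hf : f ≫ pY = U.ι ≫ pX) :
    ∃ (V : X.Opens) (hUV : U ≤ V) (g : (V : Scheme.{u}) ⟶ Y),
      g ≫ pY = V.ι ≫ pX ∧ X.homOfLE hUV ≫ g = f ∧
      ∀ x : X, x ∉ V → (2 : WithBot ℕ∞) ≤ ringKrullDim (X.presheaf.stalk x) := by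
  classical
  have hXN : IsLocallyNoetherian X := LocallyOfFiniteType.isLocallyNoetherian pX
  -- the local rings of `X` are normal domains
  have hnormal : ∀ x : X, IsDomain (X.presheaf.stalk x) ∧ IsIntegrallyClosed (X.presheaf.stalk x) := by
    intro x
    have hx : x ∈ pX.smoothLocus := by rw [pX.smoothLocus_eq_top]; trivial
    refine (Groth.Agent.Lib.Seat22.SmoothStalk.stalk_iff pX x hx).2.mpr ?_
    let p : PrimeSpectrum R := pX x
    have hpp : p.asIdeal.IsPrime := p.2
    let k : Algebra R ((Spec (CommRingCat.of R)).presheaf.stalk (pX x)) :=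
      StructureSheaf.stalkAlgebra R p
    have hloc : IsLocalization.AtPrime ((Spec (CommRingCat.of R)).presheaf.stalk (pX x)) p.asIdeal :=
      StructureSheaf.IsLocalization.to_stalk R p
    have hdom : IsDomain ((Spec (CommRingCat.of R)).presheaf.stalk (pX x)) :=
      IsLocalization.isDomain_of_le_nonZeroDivisors _ p.asIdeal.primeCompl_le_nonZeroDivisors
    exact ⟨hdom, isIntegrallyClosed_of_isLocalization _ p.asIdeal.primeCompl
      p.asIdeal.primeCompl_le_nonZeroDivisors⟩
  have hred : IsReduced X := by
    have : ∀ x : X, _root_.IsReduced (X.presheaf.stalk x) := fun x => by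
      have := (hnormal x).1
      infer_instance
    exact isReduced_of_isReduced_stalk X
  set B : Set X := {x | ¬ (2 : WithBot ℕ∞) ≤ ringKrullDim (X.presheaf.stalk x)} with hB
  have hBval : ∀ x ∈ B, ∃ (_ : IsDomain (X.presheaf.stalk x)), ValuationRing (X.presheaf.stalk x) := by
    intro x hx
    obtain ⟨h1, h2⟩ := hnormal x
    refine ⟨h1, ?_⟩
    have hle : ringKrullDim (X.presheaf.stalk x) ≤ 1 := by
      have hlt : ringKrullDim (X.presheaf.stalk x) < 2 := not_le.mp hx
      have : ringKrullDim (X.presheaf.stalk x) < ((1 : ℕ) : WithBot ℕ∞) + 1 := by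
        rw [Nat.cast_one, one_add_one_eq_two]; exact hlt
      have h3 := ENat.WithBot.lt_add_one_iff.mp this
      simpa using h3
    exact Groth.Agent.Lib.Seat74.RatMapExt.valuationRing_of_dim_le_one _ hle
  obtain ⟨V, hUV, g, hg1, hg2, hBV⟩ :=
    Groth.Agent.Lib.Seat74.RatMapExt.exists_extension_of_forall pX pY U hU f hf B hBval
  refine ⟨V, hUV, g, hg1, hg2, ?_⟩
  intro x hxV
  by_contra hdim
  exact hxV (hBV hdim)

end Groth.Agent.S11107
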