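import Groth.Statements.S11108
import Groth.Agent.Lib.Seat74HenselSmooth

set_option autoImplicit false
universe u
open CategoryTheory AlgebraicGeometry
open Neron

namespace Groth.Agent.S11108

/-- Let R be a strictly Henselian discrete valuation ring — Henselian with algebraically closed residue
field — and p : X → Spec R a smooth morphism. Then the image of the reduction map from R-valued
points of X to the special fibre is dense in the special fibre: every point of X over the closed
point of Spec R lies in the closure of the set of points s(𝔪), s a section of p and 𝔪 the closed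
point. -/
theorem result (R : Type u) [CommRing R] [IsDomain R]
    [IsDiscreteValuationRing R] [HenselianLocalRing R] [IsAlgClosed (IsLocalRing.ResidueField R)]
    {X : Scheme.{u}} (p : X ⟶ Spec (CommRingCat.of R)) [Smooth p]
    (x : X) (hx : p.base x = IsLocalRing.closedPoint R) :
    x ∈ closure {y : X | ∃ s : Spec (CommRingCat.of R) ⟶ X, s ≫ p = 𝟙 _ ∧
      s.base (IsLocalRing.closedPoint R) = y} := by
  rw [mem_closure_iff]
  intro o ho hxo
  obtain ⟨_, ⟨V, hV, rfl⟩, hxV, hVo⟩ := X.isBasis_affineOpens.exists_subset_of_mem_open hxo ho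
  have hV' : IsAffineOpen V := hV
  have hoi : IsOpenImmersion hV'.fromSpec := hV'.isOpenImmersion_fromSpec
  have hqsm : Smooth (hV'.fromSpec ≫ p) := inferInstance
  obtain ⟨ψ, hψ⟩ : ∃ ψ : CommRingCat.of R ⟶ Γ(X, V), Spec.map ψ = hV'.fromSpec ≫ p :=
    ⟨Spec.preimage _, Spec.map_preimage _⟩
  have hψsm : ψ.hom.Smooth := by
    rw [← HasRingHomProperty.Spec_iff (P := @Smooth), hψ]
    infer_instance
  letI alg : Algebra R Γ(X, V) := ψ.hom.toAlgebra
  have hsm : Algebra.Smooth R Γ(X, V) := hψsm
  have hx' : hV'.fromSpec (hV'.primeIdealOf ⟨x, hxV⟩) = x := hV'.fromSpec_primeIdealOf ⟨x, hxV⟩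
  have hpt : (Spec.map ψ) (hV'.primeIdealOf ⟨x, hxV⟩) = IsLocalRing.closedPoint R := by
    rw [hψ]
    show p (hV'.fromSpec (hV'.primeIdealOf ⟨x, hxV⟩)) = _
    rw [hx']
    exact hx
  have hq : (IsLocalRing.maximalIdeal R).map (algebraMap R Γ(X, V)) ≤
      (hV'.primeIdealOf ⟨x, hxV⟩).asIdeal := by
    rw [Ideal.map_le_iff_le_comap]
    have := congrArg PrimeSpectrum.asIdeal hpt
    exact this.ge
  obtain ⟨σ⟩ := Groth.Agent.Lib.Seat74.HenselSmooth.exists_section_of_smooth
    (hV'.primeIdealOf ⟨x, hxV⟩).asIdeal hq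
  have hσψ : ψ ≫ CommRingCat.ofHom σ.toRingHom = 𝟙 _ := by
    ext a
    exact σ.commutes a
  refine ⟨(Spec.map (CommRingCat.ofHom σ.toRingHom) ≫ hV'.fromSpec) (IsLocalRing.closedPoint R),
    hVo ?_, Spec.map (CommRingCat.ofHom σ.toRingHom) ≫ hV'.fromSpec, ?_, rfl⟩
  · have : Set.range hV'.fromSpec = V := hV'.range_fromSpec
    rw [← this]
    exact ⟨_, rfl⟩
  · rw [Category.assoc, ← hψ, ← Spec.map_comp, hσψ, Spec.map_id]

end Groth.Agent.S11108
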