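import Groth.Statements.S11360
import Groth.Agent.Lib.Seat8DualDesc

set_option autoImplicit false
universe u
open CategoryTheory
attribute [local instance] HasDerivedCategory.standard
open Dual

namespace Groth.Agent.S11360

/-- Let A be a Noetherian ring and R an object of D(A) with finite cohomology modules and of finite
injective dimension (isomorphic to a bounded complex of injective modules). If for every prime p of
A the derived base change of R to A_p (the total left derived functor of extension of scalars,
assumed to exist) is a dualizing complex for A_p, then R is a dualizing complex for A. (The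
published statement is for a locally Noetherian scheme and the stalks at all points; this row is the
affine case. Without the global finite injective dimension hypothesis the conclusion fails, e.g. for
a regular Noetherian ring of infinite Krull dimension.) -/
theorem result (A : Type u) [CommRing A] [IsNoetherianRing A] (R : Dual.D A) (hfin : ∀ i : ℤ, Module.Finite A (Dual.HD A R i)) (hfid : DRing.HasFiniteInjDim A R) [∀ p : PrimeSpectrum A, DRing.HasLBaseChange (algebraMap A (Localization.AtPrime p.asIdeal))] (h : ∀ p : PrimeSpectrum A, Dual.IsDualizing (Localization.AtPrime p.asIdeal) ((DRing.LBaseChange (algebraMap A (Localization.AtPrime p.asIdeal))).obj R)) : Dual.IsDualizing A R := by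
  have hfl : ∀ m : MaximalSpectrum A, Module.Flat A (Localization.AtPrime m.asIdeal) := fun m =>
    IsLocalization.flat (Localization.AtPrime m.asIdeal) m.asIdeal.primeCompl
  have h' : ∀ m : MaximalSpectrum A, Dual.IsDualizing (Localization.AtPrime m.asIdeal)
      ((Groth.Agent.Lib.Helper1.Extend.extD A (Localization.AtPrime m.asIdeal)).obj R) := fun m => by
    let p : PrimeSpectrum A := ⟨m.asIdeal, m.isMaximal.isPrime⟩
    have hp : Dual.IsDualizing (Localization.AtPrime p.asIdeal)
        ((Groth.Agent.Lib.Helper1.Extend.extD A (Localization.AtPrime p.asIdeal)).obj R) :=
      Groth.Agent.Lib.Seat8.DualBC.isDualizing_of_iso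
        ((Groth.Agent.Lib.Seat8.DualBC.lbcFlatIso (A := A)
          (B := Localization.AtPrime p.asIdeal)).app R) (h p)
    exact hp
  have hB := Groth.Agent.Lib.Seat8.DualDesc.jointlyFaithful_maximal (A := A)
  obtain ⟨a, b, hab⟩ := hfid
  have hinj := ((Groth.Agent.S6965.result A R a b).out 0 1).1 hab
  exact Groth.Agent.Lib.Seat8.DualDesc.isDualizing_of_extD hB R hfin
    ⟨a, b, by intro M _ _ i hi; exact hinj M i hi⟩
    (fun j => (h' j).toEnd_bijective) (fun j i hi => (h' j).ext_self_subsingleton i hi)

end Groth.Agent.S11360
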