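import Groth.Statements.S11173
import Groth.Agent.Lib.Seat8PtwiseDual
import Groth.Agent.S11360
import Groth.Agent.S6965

set_option autoImplicit false
universe u
open CategoryTheory
attribute [local instance] HasDerivedCategory.standard
open Dual

namespace Groth.Agent.S11173

/-- Let A be a Noetherian ring of finite Krull dimension and R an object of D(A) whose cohomology
modules are finite and vanish in all sufficiently negative degrees. If for every prime ideal p of A
the derived base change of R to the local ring A_p (the total left derived functor of extension of
scalars, assumed to exist) is a dualizing complex for A_p, then R is a dualizing complex for A. (The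
published statement is for a Noetherian scheme of finite Krull dimension and a pointwise dualizing
complex; this row is its affine case, with the pointwise hypothesis expressed through the local
rings at all primes.) -/
theorem result (A : Type u) [CommRing A] [IsNoetherianRing A] (hdim : ringKrullDim A < ⊤) (R : Dual.D A) (hfin : ∀ i : ℤ, Module.Finite A (Dual.HD A R i)) (hbdd : ∃ a : ℤ, ∀ i : ℤ, i < a → Subsingleton (Dual.HD A R i)) (h : ∀ p : PrimeSpectrum A, ∃ _ : DRing.HasLBaseChange (algebraMap A (Localization.AtPrime p.asIdeal)), Dual.IsDualizing (Localization.AtPrime p.asIdeal) ((DRing.LBaseChange (algebraMap A (Localization.AtPrime p.asIdeal))).obj R)) : Dual.IsDualizing A R := by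
  have hbc : ∀ p : PrimeSpectrum A,
      DRing.HasLBaseChange (algebraMap A (Localization.AtPrime p.asIdeal)) := fun p => (h p).choose
  have h' : ∀ p : PrimeSpectrum A, Dual.IsDualizing (Localization.AtPrime p.asIdeal)
      ((DRing.LBaseChange (algebraMap A (Localization.AtPrime p.asIdeal))).obj R) :=
    fun p => (h p).choose_spec
  have hdual : ∀ p : PrimeSpectrum A, Dual.IsDualizing (Localization.AtPrime p.asIdeal)
      ((Groth.Agent.Lib.Helper1.Extend.extD A (Localization.AtPrime p.asIdeal)).obj R) := fun p => by
    have hfl : Module.Flat A (Localization.AtPrime p.asIdeal) :=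
      IsLocalization.flat (Localization.AtPrime p.asIdeal) p.asIdeal.primeCompl
    exact Groth.Agent.Lib.Seat8.DualBC.isDualizing_of_iso
      ((Groth.Agent.Lib.Seat8.DualBC.lbcFlatIso (A := A)
        (B := Localization.AtPrime p.asIdeal)).app R) (h' p)
  obtain ⟨a, b, hab⟩ := Groth.Agent.Lib.Seat8.PtwiseDual.exists_finiteInjDim R hdual hdim hbdd
  have hamp : DRing.HasInjAmplitudeIn A a b R :=
    ((Groth.Agent.S6965.result A R a b).out 2 0).mp (fun I i hi => hab I i hi)
  exact Groth.Agent.S11360.result A R hfin ⟨a, b, hamp⟩ h'

end Groth.Agent.S11173
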