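import Groth.Statements.S11218
import Groth.Agent.Lib.Seat51GoodQuot
import Groth.Agent.Lib.Seat51OrbitSat

set_option autoImplicit false
universe u
open CategoryTheory MonoidalCategory CartesianMonoidalCategory MonObj GrpObj AlgebraicGeometry
open scoped TensorProduct
open AGF

namespace Groth.Agent.S11218

/-- Let k be an algebraically closed field, G a linear algebraic group over k (an affine smooth group
scheme over k) and H a closed subgroup of G (a smooth closed subgroup scheme, i : H → G), such that
the quotient G/H (the scheme Y with action b and base point o′) is proper over k (complete). Let G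
act on a variety X over k (separated, of finite type) and let x be a rational point of X; let Z ⊆ X
be the closure of the H-orbit of x. Then the closure of the G-orbit of x is G·Z, the image under the
action map of the preimage of Z in G × X. (The published statement takes X affine; the argument does
not use this, and this row drops it.) -/
theorem result (k : Type u) [Field k] [IsAlgClosed k]
    (G : Over (Spec (CommRingCat.of k))) [GrpObj G] [IsAffine G.left] [Smooth G.hom]
    (H : Over (Spec (CommRingCat.of k))) [GrpObj H] [Smooth H.hom] (i : H ⟶ G) [IsMonHom i]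
    [IsClosedImmersion i.left]
    (Y : Over (Spec (CommRingCat.of k))) (b : AlgGrp.Action G Y) (o' : 𝟙_ (Over (Spec (CommRingCat.of k))) ⟶ Y) (hY : AGF.IsQuotient i Y b o')
    [IsProper Y.hom]
    (X : Over (Spec (CommRingCat.of k))) [IsSeparated X.hom] [LocallyOfFiniteType X.hom] [QuasiCompact X.hom]
    (a : AlgGrp.Action G X) (x : 𝟙_ (Over (Spec (CommRingCat.of k))) ⟶ X) :
    closure (Set.range ⇑(a.orbitMap x).left.base) =
      ⇑a.act.left.base '' (⇑(snd G X).left.base ⁻¹' closure (Set.range ⇑(i ≫ a.orbitMap x).left.base)) := by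
  obtain ⟨hYlft, hπflat, hπsurj, hπpb⟩ := hY
  obtain ⟨t⟩ := Groth.Agent.Lib.Seat51.GoodQuot.nonempty_unit (k := k)
  -- the orbit map of the restricted action
  have horbH : (a.restrict i).orbitMap x = i ≫ a.orbitMap x := by
    rw [AlgGrp.Action.comp_orbitMap]
    unfold AlgGrp.Action.orbitMap
    rw [AlgGrp.Action.lift_restrict_act, Category.id_comp]
  have hZinv : NRQuot.IsInvariantSet (a.restrict i)
      (closure (Set.range ⇑(i ≫ a.orbitMap x).left.base)) := by
    rw [← horbH]
    exact Groth.Agent.Lib.Seat51.GoodQuot.isInvariantSet_closure _ _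
      (Groth.Agent.Lib.Seat51.GoodQuot.isInvariantSet_range_orbitMap _ x)
      Groth.Agent.Lib.Seat51.GoodQuot.isOpenMap_snd
  have hGinv : NRQuot.IsInvariantSet a (closure (Set.range ⇑(a.orbitMap x).left.base)) :=
    Groth.Agent.Lib.Seat51.GoodQuot.isInvariantSet_closure _ _
      (Groth.Agent.Lib.Seat51.GoodQuot.isInvariantSet_range_orbitMap _ x)
      Groth.Agent.Lib.Seat51.GoodQuot.isOpenMap_snd
  have hsub : Set.range ⇑(i ≫ a.orbitMap x).left.base ⊆ Set.range ⇑(a.orbitMap x).left.base := by
    rintro _ ⟨h₀, rfl⟩
    exact ⟨i.left.base h₀, rfl⟩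
  -- openness of the quotient map
  have hnoeth : IsLocallyNoetherian Y.left := LocallyOfFiniteType.isLocallyNoetherian Y.hom
  have hπlft : LocallyOfFiniteType (b.orbitMap o').left := by
    have : LocallyOfFiniteType ((b.orbitMap o').left ≫ Y.hom) := by rw [Over.w]; infer_instance
    exact locallyOfFiniteType_of_comp (b.orbitMap o').left Y.hom
  have hπlfp : LocallyOfFinitePresentation (b.orbitMap o').left := inferInstance
  have hπopen : UniversallyOpen (b.orbitMap o').left := inferInstance
  have hYcl : UniversallyClosed Y.hom := inferInstance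
  have hclosed := Groth.Agent.Lib.Seat51.OrbitSat.isClosed_act_image a i (b.orbitMap o') hπpb _
    isClosed_closure hZinv
  apply subset_antisymm
  · refine closure_minimal ?_ hclosed
    rintro _ ⟨g₀, rfl⟩
    refine ⟨(lift (𝟙 G) (toUnit G ≫ x)).left.base g₀, ?_, rfl⟩
    apply subset_closure
    change ((lift (𝟙 G) (toUnit G ≫ x)).left ≫ (snd G X).left) g₀ ∈ _
    rw [← Over.comp_left, lift_snd, ← horbH]
    have hs := Groth.Agent.Lib.Seat51.GoodQuot.subsingleton_unit (k := k)
    have := Groth.Agent.Lib.Seat51.GoodQuot.mem_range_orbitMap (a.restrict i) x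
      ((toUnit G).left.base g₀)
    exact this
  · rintro _ ⟨p, hp, rfl⟩
    exact hGinv p (closure_mono hsub hp)

end Groth.Agent.S11218
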