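import Groth.Statements.S11272
import Groth.Agent.Lib.Seat67GrCM

set_option autoImplicit false
universe u
open W4bk4grassmannian

namespace Groth.Agent.S11272

attribute [local instance] MvPolynomial.gradedAlgebra

open Groth.Agent.Lib.Seat67.GrCM in
/-- Version of the cone theorem with the irrelevant ideal given up to equality. -/
theorem aux {K : Type u} [Field K] (N : ℕ) (I m : Ideal (MvPolynomial (Fin N) K))
    (hm_eq : m = (HomogeneousIdeal.irrelevant (MvPolynomial.homogeneousSubmodule (Fin N) K)).toIdeal)
    (hI : I.IsHomogeneous (MvPolynomial.homogeneousSubmodule (Fin N) K))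
    [hm : (m.map (Ideal.Quotient.mk I)).IsPrime]
    (hCM : LocCoh.IsCohenMacaulayLocalRing (Localization.AtPrime (m.map (Ideal.Quotient.mk I)))) :
    LocCoh.IsCohenMacaulayRing (MvPolynomial (Fin N) K ⧸ I) := by
  subst hm_eq
  refine isCohenMacaulayRing_quotient_of_vertex (MvPolynomial.homogeneousSubmodule (Fin N) K) ?_ I hI
    hCM
  intro a ha
  rw [MvPolynomial.homogeneousSubmodule_zero, Submodule.mem_one] at ha
  exact ha

/-- A cone is Cohen–Macaulay iff it is so at its vertex: let K be an algebraically closed field, N a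
natural number, S = K[x_1, …, x_N] graded by degree, I ⊆ S a proper ideal generated by homogeneous
polynomials, and m ⊆ S/I the image of the irrelevant ideal (x_1, …, x_N) (the vertex of the cone
Spec S/I), assumed prime. Then S/I is a Cohen–Macaulay ring if and only if the local ring (S/I)_m is
Cohen–Macaulay. -/
theorem result (K : Type u) [Field K] [IsAlgClosed K] (N : ℕ)
    (I : Ideal (MvPolynomial (Fin N) K))
    (hI : ∃ T : Set (MvPolynomial (Fin N) K), (∀ f ∈ T, ∃ k : ℕ, f.IsHomogeneous k) ∧ I = Ideal.span T)
    (hI' : I ≠ ⊤)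
    [hm : ((RingHom.ker (MvPolynomial.constantCoeff : MvPolynomial (Fin N) K →+* K)).map
      (Ideal.Quotient.mk I)).IsPrime] :
    LocCoh.IsCohenMacaulayRing (MvPolynomial (Fin N) K ⧸ I) ↔
      LocCoh.IsCohenMacaulayLocalRing (Localization.AtPrime
        ((RingHom.ker (MvPolynomial.constantCoeff : MvPolynomial (Fin N) K →+* K)).map
          (Ideal.Quotient.mk I))) := by
  obtain ⟨T, hT, rfl⟩ := hI
  have hhom : (Ideal.span T).IsHomogeneous (MvPolynomial.homogeneousSubmodule (Fin N) K) := by
    apply Ideal.homogeneous_span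
    intro f hf
    obtain ⟨k, hk⟩ := hT f hf
    exact ⟨k, hk⟩
  have hker : RingHom.ker (MvPolynomial.constantCoeff : MvPolynomial (Fin N) K →+* K) =
      (HomogeneousIdeal.irrelevant (MvPolynomial.homogeneousSubmodule (Fin N) K)).toIdeal := by
    ext a
    rw [RingHom.mem_ker, HomogeneousIdeal.mem_iff, HomogeneousIdeal.mem_irrelevant_iff,
      GradedRing.proj_apply]
    change _ ↔ ((MvPolynomial.decomposition.decompose' a 0 : MvPolynomial (Fin N) K)) = 0
    rw [MvPolynomial.decomposition.decompose'_apply, MvPolynomial.homogeneousComponent_zero,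
      MvPolynomial.constantCoeff_eq, map_eq_zero_iff _ (MvPolynomial.C_injective _ _)]
  constructor
  · intro h
    exact h.isCohenMacaulayLocalRing_localization _
  · intro h
    exact aux N (Ideal.span T) _ hker hhom h

end Groth.Agent.S11272
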