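import Groth.Statements.S11283
import Groth.Agent.Lib.Seat50ExalCompl
import Groth.Agent.Lib.Helper19ComplNoeth

set_option autoImplicit false
set_option linter.style.haveILetI false
universe u
open Deform

namespace Groth.Agent.S11283

open Groth.Agent.Lib.Seat50.ExalCompl

section Aux

variable {R : Type u} [CommRing R] [IsLocalRing R] [IsNoetherianRing R]

/-- the maximal ideal kills a simple module -/
lemma smul_eq_zero_of_mem_maximalIdeal (L : Type u) [AddCommGroup L] [Module R L] [IsSimpleModule R L]
    (a : R) (ha : a ∈ IsLocalRing.maximalIdeal R) (z : L) : a • z = 0 := by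
  by_contra h
  obtain ⟨r, hr⟩ := IsSimpleModule.toSpanSingleton_surjective R h z
  rw [LinearMap.toSpanSingleton_apply, smul_smul] at hr
  have hu : IsUnit (1 - r * a) := by
    have h1 : r * a ∈ IsLocalRing.maximalIdeal R := Ideal.mul_mem_left _ _ ha
    by_contra hnu
    have h2 : 1 - r * a ∈ IsLocalRing.maximalIdeal R := (IsLocalRing.mem_maximalIdeal _).2 hnu
    have h3 : (1 : R) ∈ IsLocalRing.maximalIdeal R := by
      have := Ideal.add_mem _ h2 h1
      rwa [sub_add_cancel] at this
    exact (IsLocalRing.maximalIdeal.isMaximal R).ne_top ((Ideal.eq_top_iff_one _).2 h3)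
  have h1 : (1 - r * a) • z = 0 := by rw [sub_smul, one_smul, hr, sub_self]
  have h2 : z = 0 := hu.smul_left_cancel.1 (h1.trans (smul_zero _).symm)
  exact h (by rw [h2, smul_zero])

lemma map_pow_le_ker_evalₐ (N : ℕ) :
    Ideal.map (algebraMap R (AdicCompletion (IsLocalRing.maximalIdeal R) R))
      (IsLocalRing.maximalIdeal R ^ N) ≤
      RingHom.ker (AdicCompletion.evalₐ (IsLocalRing.maximalIdeal R) N) := by
  rw [Ideal.map_le_iff_le_comap]
  intro a ha
  rw [Ideal.mem_comap, RingHom.mem_ker, AdicCompletion.algebraMap_apply, Algebra.algebraMap_self,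
    RingHom.id_apply, AdicCompletion.evalₐ_of, Ideal.Quotient.eq_zero_iff_mem]
  exact ha

lemma ker_evalₐ_le_map_pow (N : ℕ) :
    RingHom.ker (AdicCompletion.evalₐ (IsLocalRing.maximalIdeal R) N) ≤
      Ideal.map (algebraMap R (AdicCompletion (IsLocalRing.maximalIdeal R) R))
        (IsLocalRing.maximalIdeal R ^ N) := by
  intro x hx
  rw [RingHom.mem_ker] at hx
  have h1 : AdicCompletion.eval (IsLocalRing.maximalIdeal R) R N x = 0 := by
    rw [← AdicCompletion.factor_evalₐ_eq_eval (IsLocalRing.maximalIdeal R) x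
      (by rw [smul_eq_mul, Ideal.mul_top]), hx, map_zero]
  have h2 : x ∈ (IsLocalRing.maximalIdeal R ^ N • ⊤ :
      Submodule R (AdicCompletion (IsLocalRing.maximalIdeal R) R)) := by
    rw [AdicCompletion.pow_smul_top_eq_ker_eval (IsLocalRing.maximalIdeal R).fg_of_isNoetherianRing]
    exact h1
  rw [Ideal.smul_top_eq_map] at h2
  exact h2

lemma cmp (L : Type u) [AddCommGroup L]
    [Module (AdicCompletion (IsLocalRing.maximalIdeal R) R) L] [Module R L]
    [IsScalarTower R (AdicCompletion (IsLocalRing.maximalIdeal R) R) L] [IsSimpleModule R L] :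
    Cmp (B := R) (B' := AdicCompletion (IsLocalRing.maximalIdeal R) R) (L := L)
      (IsLocalRing.maximalIdeal R) where
  inj N b hb := by
    have h1 := map_pow_le_ker_evalₐ N hb
    rw [RingHom.mem_ker, AdicCompletion.algebraMap_apply, Algebra.algebraMap_self,
      RingHom.id_apply, AdicCompletion.evalₐ_of, Ideal.Quotient.eq_zero_iff_mem] at h1
    exact h1
  surj N b' := by
    obtain ⟨b, hb⟩ := Ideal.Quotient.mk_surjective
      (AdicCompletion.evalₐ (IsLocalRing.maximalIdeal R) N b')
    refine ⟨b, ker_evalₐ_le_map_pow N ?_⟩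
    rw [RingHom.mem_ker, map_sub, AdicCompletion.algebraMap_apply, Algebra.algebraMap_self,
      RingHom.id_apply, AdicCompletion.evalₐ_of, hb, sub_self]
  kill a ha z := smul_eq_zero_of_mem_maximalIdeal L a ha z

end Aux

/-- Let k be an algebraically closed field, Λ a complete local Noetherian k-algebra with residue field
k, R a local Noetherian Λ-algebra with local structure map and residue field k, and R̂ the
completion of R at its maximal ideal. Let L be a simple R-module (a one-dimensional k-vector space
on which R acts through its residue field) carrying a compatible R̂-module structure. Then inverse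
image of Λ-extensions along R → R̂ induces a bijection o(R̂/Λ) → o(R/Λ) on classes of Λ-extensions
by L: two Λ-extensions of R̂ by L whose inverse images over R are equivalent are equivalent, and
every Λ-extension of R by L is equivalent to the inverse image of one of R̂. -/
theorem result
    {k : Type u} [Field k] [IsAlgClosed k]
    {Λ : Type u} [CommRing Λ] [Algebra k Λ] [IsLocalRing Λ] [IsNoetherianRing Λ]
    [IsAdicComplete (IsLocalRing.maximalIdeal Λ) Λ]
    (hΛ : ∀ a : Λ, ∃ c : k, a - algebraMap k Λ c ∈ IsLocalRing.maximalIdeal Λ)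
    {R : Type u} [CommRing R] [Algebra Λ R] [IsLocalRing R] [IsNoetherianRing R]
    [IsLocalHom (algebraMap Λ R)]
    (hR : ∀ r : R, ∃ c : k, r - algebraMap Λ R (algebraMap k Λ c) ∈ IsLocalRing.maximalIdeal R)
    (L : Type u) [AddCommGroup L] [Module (AdicCompletion (IsLocalRing.maximalIdeal R) R) L] [Module R L]
    [IsScalarTower R (AdicCompletion (IsLocalRing.maximalIdeal R) R) L] [IsSimpleModule R L] :
    (∀ X X' : Exal.Ext Λ (AdicCompletion (IsLocalRing.maximalIdeal R) R) L,
        Nonempty ((X.pullback R).Equiv (X'.pullback R)) → Nonempty (X.Equiv X')) ∧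
    (∀ Y : Exal.Ext Λ R L, ∃ X : Exal.Ext Λ (AdicCompletion (IsLocalRing.maximalIdeal R) R) L,
        Nonempty ((X.pullback R).Equiv Y)) := by
  have hc := cmp (R := R) L
  haveI : IsNoetherianRing (AdicCompletion (IsLocalRing.maximalIdeal R) R) :=
    Groth.Agent.Lib.Helper19.isNoetherianRing_adicCompletion _
  haveI : IsSimpleModule (AdicCompletion (IsLocalRing.maximalIdeal R) R) L := by
    haveI : Nontrivial L := IsSimpleModule.nontrivial R L
    haveI : Nontrivial (Submodule (AdicCompletion (IsLocalRing.maximalIdeal R) R) L) :=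
      (Submodule.nontrivial_iff _).2 inferInstance
    haveI : IsSimpleOrder (Submodule (AdicCompletion (IsLocalRing.maximalIdeal R) R) L) :=
      ⟨fun N => (eq_bot_or_eq_top (N.restrictScalars R)).imp
        (Submodule.restrictScalars_eq_bot_iff _ _ _).1 (Submodule.restrictScalars_eq_top_iff _ _ _).1⟩
    exact {}
  have hjac : Ideal.map (algebraMap R (AdicCompletion (IsLocalRing.maximalIdeal R) R))
      (IsLocalRing.maximalIdeal R) ≤ Ideal.jacobson ⊥ := by
    rw [← AdicCompletion.maximalIdeal_eq_map]
    exact IsLocalRing.maximalIdeal_le_jacobson _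
  constructor
  · rintro X X' ⟨ε⟩
    obtain ⟨N₁, h₁⟩ := exists_sep X _ hjac
    obtain ⟨N₂, h₂⟩ := exists_sep X' _ hjac
    exact nonempty_equiv_of_pullback_equiv hc X X' ε (max N₁ N₂)
      (h₁ _ (le_max_left _ _)) (h₂ _ (le_max_right _ _))
  · intro Y
    obtain ⟨N₀, h₀⟩ := exists_sep Y (IsLocalRing.maximalIdeal R)
      (IsLocalRing.maximalIdeal_le_jacobson _)
    exact ⟨extX hc Y (max N₀ 1) (le_max_right _ _) (h₀ _ (le_max_left _ _)),
      nonempty_pullback_extX_equiv hc Y _ _ _⟩

end Groth.Agent.S11283
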