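import Groth.Statements.S11375
import Groth.Agent.Lib.Seat49RegResProp
import Groth.Agent.Lib.Seat49QProjVanish

set_option autoImplicit false
universe u
open CategoryTheory CategoryTheory.Limits AlgebraicGeometry TopologicalSpace
open CohDim

namespace Groth.Agent.S11375

/-- Let S be an integral scheme, separated and of finite type over an algebraically closed field k, with
all local rings regular, and let r ≥ 0. If H^i(S, E) = 0 for every i > r and every finite locally
free O_S-module E, then H^i(S, F) = 0 for every i > r and every coherent O_S-module F, i.e. the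
cohomological dimension of S is at most r. -/
theorem result (k : Type u) [Field k] [IsAlgClosed k] (S : Scheme.{u})
    [S.Over (Spec (CommRingCat.of k))] [IsSeparated (S ↘ (Spec (CommRingCat.of k)))]
    [LocallyOfFiniteType (S ↘ (Spec (CommRingCat.of k)))] [QuasiCompact (S ↘ (Spec (CommRingCat.of k)))]
    [IsIntegral S] (hreg : ∀ x : S, IsRegularLocalRing (S.presheaf.stalk x)) (r : ℕ)
    (hlf : ∀ E : S.Modules, FlatMod.IsFinLocFree E → ∀ i : ℕ, r < i → Subsingleton (Coh.HH S E i))
    (F : S.Modules) (hF : Coh.IsCoh F) (i : ℕ) (hi : r < i) :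
    Subsingleton (Coh.HH S F i) := by
  haveI : IsNoetherian S :=
    Groth.Agent.Lib.Seat49.RegResProp.isNoetherian_of_finiteType k (S ↘ (Spec (CommRingCat.of k)))
  haveI : S.IsSeparated :=
    Groth.Agent.Lib.Seat49.RegResProp.isSeparated_of_isSeparated_affine (S ↘ (Spec (CommRingCat.of k)))
  exact Groth.Agent.Lib.Seat49.QProjVanish.subsingleton_HH_of_resolutionProperty
    (Groth.Agent.Lib.Seat49.RegResProp.hasResolutionProperty_of_regular_of_integral S hreg) r hlf F hF i hi

end Groth.Agent.S11375
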