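import Groth.Statements.S11404
import Mathlib
import Groth.Agent.Lib.Seat51ProdAct
import Groth.Agent.Lib.Helper11SmInt
import Groth.Agent.S11421

set_option autoImplicit false
universe u
open CategoryTheory MonoidalCategory CartesianMonoidalCategory MonObj GrpObj AlgebraicGeometry CategoryTheory.Limits
open AlgGrp

namespace Groth.Agent.S11404

/-- Over an algebraically closed field k, let A be an abelian variety (a proper, smooth, connected
k-group scheme) and S a connected k-scheme of finite type. For every automorphism f of A × S over S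
there are a unique k-morphism g : S → A and a unique group automorphism h of A with f(a, s) = (g(s)
· h(a), s) on points. (This is the functor-of-points form, over a connected base, of the
identification of the automorphism group scheme of A with the semidirect product of A, acting by
translations, and the constant group of group automorphisms; in particular the neutral component is
A.) -/
theorem result (k : Type u) [Field k] [IsAlgClosed k]
    (A S : Over (Spec (CommRingCat.of k))) [GrpObj A] [IsProper A.hom] [Smooth A.hom] [ConnectedSpace ↥A.left]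
    [LocallyOfFiniteType S.hom] [QuasiCompact S.hom] [ConnectedSpace ↥S.left]
    (f : A ⊗ S ≅ A ⊗ S) (hf : f.hom ≫ snd A S = snd A S) :
    ∃ (g : S ⟶ A) (h : A ⟶ A), IsMonHom h ∧ IsIso h ∧
      f.hom ≫ fst A S = (snd A S ≫ g) * (fst A S ≫ h) ∧
      ∀ (g' : S ⟶ A) (h' : A ⟶ A), IsMonHom h' →
        f.hom ≫ fst A S = (snd A S ≫ g') * (fst A S ≫ h') → g' = g ∧ h' = h := by
  -- `A` is integral, hence anti-affine
  have hAlft : LocallyOfFiniteType A.hom := inferInstance
  have hAln : IsLocallyNoetherian A.left := LocallyOfFiniteType.isLocallyNoetherian A.hom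
  have hAc : CompactSpace A.left := QuasiCompact.compactSpace_of_compactSpace A.hom
  have hAn : IsNoetherian A.left := {}
  have hAint : IsIntegral A.left :=
    Groth.Agent.Lib.Helper11SmInt.isIntegral_of_connected_of_isDomain_stalk
      (fun y => Groth.Agent.Lib.Helper11SmInt.isDomain_stalk_of_smooth k A.hom y)
  have hA : Function.Bijective ((Scheme.ΓSpecIso (CommRingCat.of k)).inv ≫ A.hom.appTop).hom :=
    Groth.Agent.Lib.Seat51.ProdAct.antiAffine_of_appTop_bijective A
      (Groth.Agent.Lib.Helper11Rigidity.appTop_bijective_of_isAlgClosed A.hom)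
  obtain ⟨g, h, hh, hdec, huniq⟩ := Groth.Agent.S11421.result k A A S hA (f.hom ≫ fst A S)
  obtain ⟨g', h', hh', hdec', -⟩ := Groth.Agent.S11421.result k A A S hA (f.inv ≫ fst A S)
  obtain ⟨g0, h0, -, -, huniq0⟩ := Groth.Agent.S11421.result k A A S hA (fst A S)
  have hf' : f.inv ≫ snd A S = snd A S := by
    rw [Iso.inv_comp_eq]; exact hf.symm
  have hid : fst A S = (snd A S ≫ (1 : S ⟶ A)) * (fst A S ≫ 𝟙 A) := by
    rw [MonObj.comp_one, Category.comp_id, _root_.one_mul]
  have key1 : fst A S = (snd A S ≫ (g' * (g ≫ h'))) * (fst A S ≫ (h ≫ h')) := by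
    have e1 : f.hom ≫ f.inv ≫ fst A S = fst A S := by
      rw [← Category.assoc, Iso.hom_inv_id, Category.id_comp]
    have e2 : f.hom ≫ f.inv ≫ fst A S =
        (snd A S ≫ (g' * (g ≫ h'))) * (fst A S ≫ (h ≫ h')) := by
      rw [hdec', MonObj.comp_mul, ← Category.assoc, hf, ← Category.assoc f.hom, hdec,
        MonObj.mul_comp, MonObj.comp_mul, Category.assoc, Category.assoc, _root_.mul_assoc]
    exact e1.symm.trans e2
  have key2 : fst A S = (snd A S ≫ (g * (g' ≫ h))) * (fst A S ≫ (h' ≫ h)) := by
    have e1 : f.inv ≫ f.hom ≫ fst A S = fst A S := by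
      rw [← Category.assoc, Iso.inv_hom_id, Category.id_comp]
    have e2 : f.inv ≫ f.hom ≫ fst A S =
        (snd A S ≫ (g * (g' ≫ h))) * (fst A S ≫ (h' ≫ h)) := by
      rw [hdec, MonObj.comp_mul, ← Category.assoc, hf', ← Category.assoc f.inv, hdec',
        MonObj.mul_comp, MonObj.comp_mul, Category.assoc, Category.assoc, _root_.mul_assoc]
    exact e1.symm.trans e2
  have i1 : IsMonHom (h ≫ h') := inferInstance
  have i2 : IsMonHom (h' ≫ h) := inferInstance
  have i3 : IsMonHom (𝟙 A) := inferInstance
  have e0 := (huniq0 1 (𝟙 A) i3 hid).2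
  have e1 := (huniq0 _ (h ≫ h') i1 key1).2
  have e2 := (huniq0 _ (h' ≫ h) i2 key2).2
  have hiso : IsIso h := ⟨h', by rw [e1, ← e0], by rw [e2, ← e0]⟩
  exact ⟨g, h, hh, hiso, hdec, huniq⟩

end Groth.Agent.S11404
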