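import Groth.Statements.S11418
import Groth.Agent.Lib.Helper12Act

set_option autoImplicit false
universe u
open CategoryTheory MonoidalCategory CartesianMonoidalCategory MonObj GrpObj AlgebraicGeometry CategoryTheory.Limits
open AlgGrp

namespace Groth.Agent.S11418

/-- Over an algebraically closed field k, let G be an affine algebraic group (smooth affine k-group
scheme of finite type) and π : X → Y a principal G-bundle of k-schemes of finite type: G acts on X,
π is G-invariant, faithfully flat, and the square formed by the action, the second projection G × X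
→ X and π is cartesian. Then the map θ sending a G-equivariant morphism f : X → G (for the
conjugation action on G, i.e. f(g·x) = g f(x) g⁻¹ on points) to the automorphism x ↦ f(x)·x is a
bijection onto the bundle automorphisms: every G-equivariant automorphism φ of X with π ∘ φ = π
equals θ(f) for exactly one such f. -/
theorem result (k : Type u) [Field k] [IsAlgClosed k]
    (G X Y : Over (Spec (CommRingCat.of k))) [GrpObj G] [Smooth G.hom] [QuasiCompact G.hom] [IsAffine G.left]
    [LocallyOfFiniteType X.hom] [QuasiCompact X.hom] [LocallyOfFiniteType Y.hom] [QuasiCompact Y.hom]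
    (a : AlgGrp.Action G X) (π : X ⟶ Y) (hinv : a.act ≫ π = snd G X ≫ π) [Flat π.left] [Surjective π.left]
    (hcart : IsPullback (snd G X) a.act π π)
    (φ : X ≅ X) (hφ : φ.hom ≫ π = π) (hφeq : (G ◁ φ.hom) ≫ a.act = a.act ≫ φ.hom) :
    ∃! f : X ⟶ G, (∀ (S : Over (Spec (CommRingCat.of k))) (g : S ⟶ G) (x : S ⟶ X),
        lift g x ≫ a.act ≫ f = g * (x ≫ f) * g⁻¹) ∧ φ.hom = lift f (𝟙 X) ≫ a.act := by
  -- the lift of `(𝟙, φ)` through the cartesian square
  have hw : 𝟙 X ≫ π = φ.hom ≫ π := by rw [Category.id_comp, hφ]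
  obtain ⟨t, ht1, ht2⟩ : ∃ t : X ⟶ G ⊗ X, t ≫ snd G X = 𝟙 X ∧ t ≫ a.act = φ.hom :=
    ⟨hcart.lift (𝟙 X) φ.hom hw, hcart.lift_fst _ _ _, hcart.lift_snd _ _ _⟩
  have huniq : ∀ {T : Over (Spec (CommRingCat.of k))} (t₁ t₂ : T ⟶ G ⊗ X),
      t₁ ≫ snd G X = t₂ ≫ snd G X → t₁ ≫ a.act = t₂ ≫ a.act → t₁ = t₂ :=
    fun t₁ t₂ h1 h2 => hcart.hom_ext h1 h2
  have htl : t = lift (t ≫ fst G X) (𝟙 X) := by
    ext1
    · rw [lift_fst]
    · rw [lift_snd, ht1]
  refine ⟨t ≫ fst G X, ⟨?_, ?_⟩, ?_⟩
  · intro S g x
    -- compare two lifts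
    have key : lift (lift g x ≫ a.act ≫ t ≫ fst G X) (lift g x ≫ a.act) =
        lift (g * (x ≫ t ≫ fst G X) * g⁻¹) (lift g x ≫ a.act) := by
      apply huniq
      · rw [lift_snd, lift_snd]
      · have e1 : lift (lift g x ≫ a.act ≫ t ≫ fst G X) (lift g x ≫ a.act) =
            (lift g x ≫ a.act) ≫ t := by
          rw [htl]
          ext1
          · simp
          · simp
        rw [e1, Category.assoc, ht2, Category.assoc, ← hφeq, ← Category.assoc,
          Groth.Agent.Lib.Helper12.act_mul, Groth.Agent.Lib.Helper12.act_mul,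
          ← Groth.Agent.Lib.Helper12.act_mul a g⁻¹ g, inv_mul_cancel,
          Groth.Agent.Lib.Helper12.act_one]
        have e2 : lift g x ≫ G ◁ φ.hom = lift g (x ≫ φ.hom) := by
          ext1
          · simp
          · simp
        have e3 : lift (x ≫ t ≫ fst G X) x ≫ a.act = x ≫ φ.hom := by
          have : lift (x ≫ t ≫ fst G X) x = x ≫ t := by
            rw [htl]
            ext1
            · simp
            · simp
          rw [this, Category.assoc, ht2]
        rw [e2, e3]
    have := congrArg (fun m => m ≫ fst G X) key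
    simpa only [lift_fst, Category.assoc] using this
  · rw [← htl, ht2]
  · rintro f' ⟨-, hf'⟩
    have h1 : lift f' (𝟙 X) = t := by
      apply huniq
      · rw [lift_snd, ht1]
      · rw [← hf', ht2]
    rw [← h1, lift_fst]

end Groth.Agent.S11418
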