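import Groth.Statements.S11420
import Mathlib
import Groth.Agent.Lib.Seat51ProdAct

set_option autoImplicit false
universe u
open CategoryTheory MonoidalCategory CartesianMonoidalCategory MonObj GrpObj AlgebraicGeometry CategoryTheory.Limits
open AlgGrp

namespace Groth.Agent.S11420

/-- Over an algebraically closed field k, let X and Y be complete varieties (proper, integral, separated
k-schemes of finite type) and let a connected k-group scheme of finite type G act on X × Y. Then
there are unique actions of G on X and on Y such that the given action is the product action g·(x,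
y) = (g·x, g·y). (This is the form, for actions of connected group schemes, of the identification of
the neutral component of the automorphism group scheme of X × Y with the product of those of X and
Y; the representability of these group schemes is not asserted here.) -/
theorem result (k : Type u) [Field k] [IsAlgClosed k]
    (G X Y : Over (Spec (CommRingCat.of k))) [GrpObj G] [LocallyOfFiniteType G.hom] [QuasiCompact G.hom] [ConnectedSpace ↥G.left]
    [IsProper X.hom] [IsIntegral X.left]
    [IsProper Y.hom] [IsIntegral Y.left]
    (a : AlgGrp.Action G (X ⊗ Y)) :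
    ∃ (b : AlgGrp.Action G X) (c : AlgGrp.Action G Y),
      a.act = lift ((G ◁ fst X Y) ≫ b.act) ((G ◁ snd X Y) ≫ c.act) ∧
      ∀ (b' : AlgGrp.Action G X) (c' : AlgGrp.Action G Y),
        a.act = lift ((G ◁ fst X Y) ≫ b'.act) ((G ◁ snd X Y) ≫ c'.act) → b' = b ∧ c' = c := by
  open Groth.Agent.Lib.Seat51.ProdAct in
  have hX : Function.Bijective ((Scheme.ΓSpecIso (CommRingCat.of k)).inv ≫ X.hom.appTop).hom :=
    antiAffine_of_appTop_bijective X
      (Groth.Agent.Lib.Helper11Rigidity.appTop_bijective_of_isAlgClosed X.hom)
  have hY : Function.Bijective ((Scheme.ΓSpecIso (CommRingCat.of k)).inv ≫ Y.hom.appTop).hom :=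
    antiAffine_of_appTop_bijective Y
      (Groth.Agent.Lib.Helper11Rigidity.appTop_bijective_of_isAlgClosed Y.hom)
  obtain ⟨x₀⟩ := Groth.Agent.Lib.Helper11RigidAntiE.exists_pt_of_isAlgClosed X
  obtain ⟨y₀⟩ := Groth.Agent.Lib.Helper11RigidAntiE.exists_pt_of_isAlgClosed Y
  have hGX : ConnectedSpace (G ⊗ X).left := connectedSpace_tensor G X hX
  have hGY : ConnectedSpace (G ⊗ Y).left := connectedSpace_tensor G Y hY
  have hlGX : LocallyOfFiniteType (G ⊗ X).hom := by
    change LocallyOfFiniteType (pullback.fst G.hom X.hom ≫ G.hom); infer_instance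
  have hlGY : LocallyOfFiniteType (G ⊗ Y).hom := by
    change LocallyOfFiniteType (pullback.fst G.hom Y.hom ≫ G.hom); infer_instance
  -- rigidity
  have r1 := Groth.Agent.Lib.Helper11RigidAntiE.rigidity_lft Y (G ⊗ X) X hY y₀ (lift η[G] x₀)
    (sigL G X Y ≫ a.act ≫ fst X Y) (constL a x₀ y₀)
  have r2 := Groth.Agent.Lib.Helper11RigidAntiE.rigidity_lft X (G ⊗ Y) Y hX x₀ (lift η[G] y₀)
    (sigR G X Y ≫ a.act ≫ snd X Y) (constR a x₀ y₀)
  have h1 := indepL a y₀ r1
  have h2 := indepR a x₀ r2
  refine ⟨⟨actL a y₀, actL_one a y₀, actL_mul a y₀ h1⟩, ⟨actR a x₀, actR_one a x₀, actR_mul a x₀ h2⟩,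
    ?_, ?_⟩
  · ext1
    · rw [lift_fst]; exact h1
    · rw [lift_snd]; exact h2
  · intro b' c' h
    constructor
    · have hb : b'.act = actL a y₀ := by
        unfold actL
        rw [h, lift_fst, ← Category.assoc, ← MonoidalCategory.whiskerLeft_comp, lift_fst,
          MonoidalCategory.whiskerLeft_id, Category.id_comp]
      cases b'
      simp only at hb
      subst hb
      rfl
    · have hc : c'.act = actR a x₀ := by
        unfold actR
        rw [h, lift_snd, ← Category.assoc, ← MonoidalCategory.whiskerLeft_comp, lift_snd,
          MonoidalCategory.whiskerLeft_id, Category.id_comp]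
      cases c'
      simp only at hc
      subst hc
      rfl

end Groth.Agent.S11420
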