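import Groth.Statements.S11428
import Groth.Agent.Lib.Seat51GITSep
-- import your own Groth.Agent.* helpers here

set_option autoImplicit false
universe u
open CategoryTheory MonoidalCategory CartesianMonoidalCategory MonObj GrpObj AlgebraicGeometry Topology
open GIT

namespace Groth.Agent.S11428

open Groth.Agent.Lib.Seat51 in
/-- If (Y, φ) is a geometric quotient of X by G over S, then Y is separated over S exactly when the
action is separated, i.e. the image of (σ, p₂) : G ×_S X → X ×_S X is closed. -/
theorem result (S : Scheme.{u}) (G X Y : Over S) [GrpObj G]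
    (a : AlgGrp.Action G X) (φ : X ⟶ Y) (h : GIT.IsGeomQuot a φ) :
    IsSeparated Y.hom ↔ IsClosed (Set.range (GIT.psi a (𝟙 X)).left.base) := by
  rw [GITSep.isSeparated_iff_isClosed_range_diagonal]
  have hp : X.hom = φ.left ≫ Y.hom := (Over.w φ).symm
  have hPq : IsQuotientMap (Limits.pullback.map X.hom X.hom Y.hom Y.hom φ.left φ.left (𝟙 S)
      ((Category.comp_id _).trans hp) ((Category.comp_id _).trans hp)).base :=
    GITQuot.isQuotientMap_of_isUnivSubmersive _
      (GITSep.isUnivSubmersive_pullback_map φ.left Y.hom X.hom hp h.subm)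
  rw [GITSep.range_psi_id a φ h.inv h.orbit, hPq.isClosed_preimage]

end Groth.Agent.S11428
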