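import Groth.Statements.S11438
import Groth.Agent.Lib.Seat51Rigid

set_option autoImplicit false
universe u
open CategoryTheory MonoidalCategory CartesianMonoidalCategory MonObj GrpObj AlgebraicGeometry Topology
open GIT

namespace Groth.Agent.S11438

/-- Let S be connected and locally Noetherian, G a locally Noetherian group scheme separated over S, X →
S proper and flat with κ(s) → H⁰(X_s, O_{X_s}) bijective for every s, and f, g : X → G morphisms
over S which agree on one fibre X_s. Then there is a section t of G over S with f = (t ∘ p) · g, the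
product taken in the group of X-valued points of G. -/
theorem result (S : Scheme.{u}) [IsLocallyNoetherian S] [ConnectedSpace S]
    (X G : Over S) [GrpObj G] [IsLocallyNoetherian G.left] [IsSeparated G.hom] [IsProper X.hom] [Flat X.hom]
    (h0 : ∀ s : S, Function.Bijective (Limits.pullback.snd X.hom (S.fromSpecResidueField s)).appTop)
    (f g : X ⟶ G) (s : S)
    (hs : Limits.pullback.fst X.hom (S.fromSpecResidueField s) ≫ f.left =
      Limits.pullback.fst X.hom (S.fromSpecResidueField s) ≫ g.left) :
    ∃ t : 𝟙_ (Over S) ⟶ G, f = (toUnit X ≫ t) * g := by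
  have hXN : IsLocallyNoetherian X.left := LocallyOfFiniteType.isLocallyNoetherian X.hom
  -- the quotient `h = f * g⁻¹`
  set h : X ⟶ G := f * g⁻¹ with hh
  -- the fibre over `s` as an object over `S`
  let F : Over S := Over.mk (Limits.pullback.fst X.hom (S.fromSpecResidueField s) ≫ X.hom)
  let i : F ⟶ X := Over.homMk (Limits.pullback.fst X.hom (S.fromSpecResidueField s)) rfl
  have hi : i ≫ f = i ≫ g := by
    ext
    exact hs
  have hih : i ≫ h = 1 := by
    rw [hh, MonObj.comp_mul, GrpObj.comp_inv, hi, mul_inv_cancel]
  -- `h` collapses the fibre over `s`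
  have hcoll : ∀ x : X.left, X.hom.base x = s → h.left.base x = η[G].left.base s := by
    intro x hx
    obtain ⟨y, hy⟩ : ∃ y : Spec (S.residueField s), (S.fromSpecResidueField s).base y = s :=
      ⟨(Classical.arbitrary _), Scheme.fromSpecResidueField_apply _ _⟩
    obtain ⟨z, hz1, -⟩ := Scheme.Pullback.exists_preimage_pullback (f := X.hom)
      (g := S.fromSpecResidueField s) x y (hx.trans hy.symm)
    have h1 : (i ≫ h).left = (toUnit F ≫ η[G]).left := by rw [hih, CategoryTheory.Hom.one_def]
    have h2 := congrArg (fun t => t.base z) h1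
    simp only [Over.comp_left, Scheme.Hom.comp_apply] at h2
    have h3 : i.left.base z = x := hz1
    rw [h3] at h2
    rw [h2]
    congr 1
    have h4 : (toUnit F).left = F.hom := Over.toUnit_left
    rw [h4]
    change (Limits.pullback.fst X.hom (S.fromSpecResidueField s) ≫ X.hom).base z = s
    rw [Scheme.Hom.comp_apply]
    erw [hz1]
    exact hx
  have hfq : h.left ≫ G.hom = X.hom ≫ 𝟙 S := by rw [Over.w, Category.comp_id]
  obtain ⟨t, ht1, ht2⟩ := Groth.Agent.Lib.Seat51Rigid.rigidity_of_proper X.hom G.hom h.left (𝟙 S)
    hfq h0 s (fun x x' hx hx' => by rw [hcoll x hx, hcoll x' hx'])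
  let tO : 𝟙_ (Over S) ⟶ G := Over.homMk t (by simpa using ht1)
  refine ⟨tO, ?_⟩
  have h5 : h = toUnit X ≫ tO := by
    ext
    rw [Over.comp_left, ht2]
    congr 1
  rw [← h5, hh, inv_mul_cancel_right]

end Groth.Agent.S11438
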