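import Groth.Statements.S11439
import Groth.Agent.Lib.Seat51Rigid

set_option autoImplicit false
universe u
open CategoryTheory MonoidalCategory CartesianMonoidalCategory MonObj GrpObj AlgebraicGeometry Topology
open GIT

namespace Groth.Agent.S11439

/-- Let S be locally Noetherian, G a locally Noetherian group scheme separated over S, X → S proper and
flat with κ(s) → H⁰(X_s, O_{X_s}) bijective for every s, and Y connected, locally Noetherian,
separated over S with a section over S. Then every morphism f : X ×_S Y → G over S factors as f = (g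
∘ p₁) · (h ∘ p₂) with g : X → G and h : Y → G. -/
theorem result (S : Scheme.{u}) [IsLocallyNoetherian S]
    (X Y G : Over S) [GrpObj G] [IsLocallyNoetherian G.left] [IsSeparated G.hom] [IsProper X.hom] [Flat X.hom]
    (h0 : ∀ s : S, Function.Bijective (Limits.pullback.snd X.hom (S.fromSpecResidueField s)).appTop)
    [IsLocallyNoetherian Y.left] [IsSeparated Y.hom] [ConnectedSpace Y.left] (e : 𝟙_ (Over S) ⟶ Y)
    (f : X ⊗ Y ⟶ G) :
    ∃ (g : X ⟶ G) (h : Y ⟶ G), f = (fst X Y ≫ g) * (snd X Y ≫ h) := by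
  -- the section `j : X ⟶ X ⊗ Y`, `x ↦ (x, e)`
  let j : X ⟶ X ⊗ Y := lift (𝟙 X) (toUnit X ≫ e)
  have hj1 : j ≫ fst X Y = 𝟙 X := lift_fst _ _
  have hj2 : j ≫ snd X Y = toUnit X ≫ e := lift_snd _ _
  let g : X ⟶ G := j ≫ f
  set F : X ⊗ Y ⟶ G := (fst X Y ≫ g)⁻¹ * f with hF
  have hjF : j ≫ F = 1 := by
    rw [hF, MonObj.comp_mul, GrpObj.comp_inv, ← Category.assoc, hj1, Category.id_comp,
      inv_mul_cancel]
  -- the projection `π : X ×_S Y → Y`
  have hπ : (snd X Y).left = Limits.pullback.snd X.hom Y.hom := rfl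
  have hfst : (fst X Y).left = Limits.pullback.fst X.hom Y.hom := rfl
  have hPB : IsPullback (Limits.pullback.fst X.hom Y.hom) (Limits.pullback.snd X.hom Y.hom)
      X.hom Y.hom := IsPullback.of_hasPullback _ _
  have he : e.left ≫ Y.hom = 𝟙 S := by
    have h1 := Over.w e
    simp only [Over.tensorUnit_hom] at h1 ⊢
    exact h1
  -- the square `X → P`, `S → Y` is a pullback
  have hsq : IsPullback j.left X.hom (Limits.pullback.snd X.hom Y.hom) e.left := by
    refine IsPullback.of_right ?_ ?_ hPB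
    · have h1 : j.left ≫ Limits.pullback.fst X.hom Y.hom = 𝟙 X.left := by
        rw [← hfst, ← Over.comp_left, hj1]; rfl
      rw [h1, he]
      exact IsPullback.of_horiz_isIso ⟨by simp⟩
    · rw [← hπ, ← Over.comp_left, hj2, Over.comp_left, Over.toUnit_left]
  -- collapse of a fibre
  obtain ⟨y₁⟩ : Nonempty Y.left := inferInstance
  set s₀ : S := Y.hom.base y₁ with hs₀
  set y₀ : Y.left := e.left.base s₀ with hy₀
  have hcoll : ∀ z : ↥(Limits.pullback X.hom Y.hom),
      (Limits.pullback.snd X.hom Y.hom).base z = y₀ → F.left.base z = η[G].left.base s₀ := by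
    intro z hz
    obtain ⟨w', hw'1, hw'2⟩ := Scheme.Pullback.exists_preimage_pullback
      (f := Limits.pullback.snd X.hom Y.hom) (g := e.left) z s₀ hz
    let w : X.left := hsq.isoPullback.inv.base w'
    have hw1 : j.left.base w = z := by
      rw [← hw'1, ← Scheme.Hom.comp_apply, IsPullback.isoPullback_inv_fst]
    have hw2 : X.hom.base w = s₀ := by
      rw [← hw'2, ← Scheme.Hom.comp_apply, IsPullback.isoPullback_inv_snd]
    rw [← hw1]
    have h1 : (j ≫ F).left = (toUnit X ≫ η[G]).left := by rw [hjF, CategoryTheory.Hom.one_def]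
    have h2 := congrArg (fun t => t.base w) h1
    simp only [Over.comp_left, Scheme.Hom.comp_apply] at h2
    rw [h2, Over.toUnit_left, hw2]
  have hfq : F.left ≫ G.hom = Limits.pullback.snd X.hom Y.hom ≫ Y.hom := by
    rw [Over.w F, ← hπ, Over.w (snd X Y)]
  have h0' : ∀ y : Y.left, Function.Bijective (Limits.pullback.snd
      (Limits.pullback.snd X.hom Y.hom) (Y.left.fromSpecResidueField y)).appTop := fun y =>
    Groth.Agent.Lib.Seat51Rigid.bijective_appTop_fibre_of_isPullback hPB y (h0 (Y.hom.base y))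
  obtain ⟨t, ht1, ht2⟩ := Groth.Agent.Lib.Seat51Rigid.rigidity_of_proper
    (Limits.pullback.snd X.hom Y.hom) G.hom F.left Y.hom hfq h0' y₀
    (fun x x' hx hx' => by rw [hcoll x hx, hcoll x' hx'])
  let hO : Y ⟶ G := Over.homMk t ht1
  refine ⟨g, hO, ?_⟩
  have h5 : F = snd X Y ≫ hO := by
    ext
    rw [Over.comp_left, ht2]
    rfl
  rw [← h5, hF, mul_inv_cancel_left]

end Groth.Agent.S11439
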