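import Groth.Statements.S11440
import Groth.Agent.Lib.Seat51Rigid2
import Groth.Agent.Lib.Helper6SmGeom

set_option autoImplicit false
universe u
open CategoryTheory MonoidalCategory CartesianMonoidalCategory MonObj GrpObj AlgebraicGeometry Topology
open GIT

namespace Groth.Agent.S11440

/-- Let S be Noetherian, X an abelian scheme over S (smooth proper group scheme with connected geometric
fibres), G any locally Noetherian group scheme separated over S, and f : X → G a morphism over S
carrying the unit of X to the unit of G. Then f is a homomorphism. -/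
theorem result (S : Scheme.{u}) [IsNoetherian S]
    (X G : Over S) [GrpObj X] [GrpObj G] [Smooth X.hom] [IsProper X.hom]
    (hc : ∀ s : S, ConnectedSpace (Red.geomFibre s X).left)
    [IsLocallyNoetherian G.left] [IsSeparated G.hom] (f : X ⟶ G) (hf : η[X] ≫ f = η[G]) :
    IsMonHom f := by
  have hXN : IsLocallyNoetherian X.left := LocallyOfFiniteType.isLocallyNoetherian X.hom
  have hflat : Flat X.hom := inferInstance
  -- global functions of the fibres
  have h0 : ∀ s : S, Function.Bijective
      (Limits.pullback.snd X.hom (S.fromSpecResidueField s)).appTop := by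
    intro s
    let ψ : Spec (CommRingCat.of (AlgebraicClosure (S.residueField s))) ⟶ Spec (S.residueField s) :=
      Spec.map (CommRingCat.ofHom (algebraMap (S.residueField s) (AlgebraicClosure (S.residueField s))))
    have hconn : ConnectedSpace ↥(Limits.pullback X.hom (ψ ≫ S.fromSpecResidueField s)) := hc s
    have hred : IsReduced (Limits.pullback X.hom (ψ ≫ S.fromSpecResidueField s)) :=
      Groth.Agent.Lib.Helper6.SmGeom.isReduced_of_smooth_over_field
        (AlgebraicClosure (S.residueField s)) _
        (Limits.pullback.snd X.hom (ψ ≫ S.fromSpecResidueField s))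
    exact Groth.Agent.Lib.Seat51Rigid.bijective_appTop_of_geomFibre X.hom s
      (AlgebraicClosure (S.residueField s)) ψ
  -- the obstruction `Φ(x, y) = f(x)⁻¹ f(xy) f(y)⁻¹`
  set Φ : X ⊗ X ⟶ G := (fst X X ≫ f)⁻¹ * (μ[X] ≫ f) * (snd X X ≫ f)⁻¹ with hΦ
  have hone : toUnit X ≫ η[X] ≫ f = 1 := by rw [hf]; rfl
  -- the two sections
  let j₁ : X ⟶ X ⊗ X := lift (𝟙 X) (toUnit X ≫ η[X])
  let j₂ : X ⟶ X ⊗ X := lift (toUnit X ≫ η[X]) (𝟙 X)
  have hj₁μ : j₁ ≫ μ[X] = 𝟙 X := by
    rw [MonObj.mul_eq_mul, MonObj.comp_mul, lift_fst, lift_snd]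
    exact _root_.mul_one _
  have hj₂μ : j₂ ≫ μ[X] = 𝟙 X := by
    rw [MonObj.mul_eq_mul, MonObj.comp_mul, lift_fst, lift_snd]
    exact _root_.one_mul _
  have hj₁Φ : j₁ ≫ Φ = 1 := by
    rw [hΦ, MonObj.comp_mul, MonObj.comp_mul, GrpObj.comp_inv, GrpObj.comp_inv,
      ← Category.assoc, ← Category.assoc, ← Category.assoc, lift_fst, lift_snd, hj₁μ,
      Category.id_comp, Category.assoc, hone, inv_one, _root_.mul_one, inv_mul_cancel]
  have hj₂Φ : j₂ ≫ Φ = 1 := by
    rw [hΦ, MonObj.comp_mul, MonObj.comp_mul, GrpObj.comp_inv, GrpObj.comp_inv,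
      ← Category.assoc, ← Category.assoc, ← Category.assoc, lift_fst, lift_snd, hj₂μ,
      Category.id_comp, Category.assoc, hone, inv_one, _root_.one_mul, mul_inv_cancel]
  -- the family `π : X ×_S X → X`
  have hπ : (snd X X).left = Limits.pullback.snd X.hom X.hom := rfl
  have hfst : (fst X X).left = Limits.pullback.fst X.hom X.hom := rfl
  have hPB : IsPullback (Limits.pullback.fst X.hom X.hom) (Limits.pullback.snd X.hom X.hom)
      X.hom X.hom := IsPullback.of_hasPullback _ _
  have he : η[X].left ≫ X.hom = 𝟙 S := by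
    have h1 := Over.w η[X]
    simp only [Over.tensorUnit_hom] at h1 ⊢
    exact h1
  have hsq : IsPullback j₁.left X.hom (Limits.pullback.snd X.hom X.hom) η[X].left := by
    refine IsPullback.of_right ?_ ?_ hPB
    · have h1 : j₁.left ≫ Limits.pullback.fst X.hom X.hom = 𝟙 X.left := by
        rw [← hfst, ← Over.comp_left, lift_fst]; rfl
      rw [h1, he]
      exact IsPullback.of_horiz_isIso ⟨by simp⟩
    · rw [← hπ, ← Over.comp_left, lift_snd, Over.comp_left, Over.toUnit_left]
  have hfq : Φ.left ≫ G.hom = Limits.pullback.snd X.hom X.hom ≫ X.hom := by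
    rw [Over.w Φ, ← hπ, Over.w (snd X X)]
  have h0' : ∀ y : X.left, Function.Bijective (Limits.pullback.snd
      (Limits.pullback.snd X.hom X.hom) (X.left.fromSpecResidueField y)).appTop := fun y =>
    Groth.Agent.Lib.Seat51Rigid.bijective_appTop_fibre_of_isPullback hPB y (h0 (X.hom.base y))
  -- `Φ` collapses the fibres over the unit section
  have hunit : ∀ s : S, η[X].left.base s ∈
      Groth.Agent.Lib.Seat51Rigid.Coll (Limits.pullback.snd X.hom X.hom) Φ.left := by
    intro s
    have key : ∀ z : ↥(Limits.pullback X.hom X.hom),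
        (Limits.pullback.snd X.hom X.hom).base z = η[X].left.base s →
        Φ.left.base z = η[G].left.base s := by
      intro z hz
      obtain ⟨w', hw'1, hw'2⟩ := Scheme.Pullback.exists_preimage_pullback
        (f := Limits.pullback.snd X.hom X.hom) (g := η[X].left) z s hz
      let w : X.left := hsq.isoPullback.inv.base w'
      have hw1 : j₁.left.base w = z := by
        rw [← hw'1, ← Scheme.Hom.comp_apply, IsPullback.isoPullback_inv_fst]
      have hw2 : X.hom.base w = s := by
        rw [← hw'2, ← Scheme.Hom.comp_apply, IsPullback.isoPullback_inv_snd]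
      rw [← hw1]
      have h1 : (j₁ ≫ Φ).left = (toUnit X ≫ η[G]).left := by
        rw [hj₁Φ, CategoryTheory.Hom.one_def]
      have h2 := congrArg (fun t => t.base w) h1
      simp only [Over.comp_left, Scheme.Hom.comp_apply] at h2
      rw [h2, Over.toUnit_left, hw2]
    intro z z' hz hz'
    rw [key z hz, key z' hz']
  have hclopen := Groth.Agent.Lib.Seat51Rigid.isClopen_coll_of_proper
    (Limits.pullback.snd X.hom X.hom) G.hom Φ.left X.hom hfq h0'
  -- every point lies in a connected set meeting the unit section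
  have huniv : Groth.Agent.Lib.Seat51Rigid.Coll (Limits.pullback.snd X.hom X.hom) Φ.left =
      Set.univ := by
    rw [Set.eq_univ_iff_forall]
    intro b
    set s : S := X.hom.base b with hs
    have hconn : ConnectedSpace ↥(Limits.pullback X.hom (Red.geomPt s)) := hc s
    have hpre : _root_.IsPreconnected (Set.range (Limits.pullback.fst X.hom (Red.geomPt s)).base) :=
      isPreconnected_range (Limits.pullback.fst X.hom (Red.geomPt s)).base.hom.continuous
    obtain ⟨y⟩ : Nonempty ↥(Spec (CommRingCat.of (AlgebraicClosure (S.residueField s)))) :=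
      inferInstance
    have hy : (Red.geomPt s).base y = s := by
      rw [Scheme.Hom.comp_apply, Scheme.fromSpecResidueField_apply]
    have hmem : ∀ x : X.left, X.hom.base x = s →
        x ∈ Set.range (Limits.pullback.fst X.hom (Red.geomPt s)).base := by
      intro x hx
      obtain ⟨z, hz, -⟩ := Scheme.Pullback.exists_preimage_pullback (f := X.hom)
        (g := Red.geomPt s) x y (hx.trans hy.symm)
      exact ⟨z, hz⟩
    have hes : X.hom.base (η[X].left.base s) = s := by
      rw [← Scheme.Hom.comp_apply, he]; rfl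
    exact hpre.subset_isClopen hclopen ⟨_, hmem _ hes, hunit s⟩ (hmem b rfl)
  obtain ⟨t, ht1, ht2⟩ := Groth.Agent.Lib.Seat51Rigid.exists_factor_of_coll_eq_univ
    (Limits.pullback.snd X.hom X.hom) G.hom Φ.left X.hom hfq h0' huniv
  let tO : X ⟶ G := Over.homMk t ht1
  have h5 : Φ = snd X X ≫ tO := by
    ext
    rw [Over.comp_left, ht2]
    rfl
  have h6 : tO = 1 := by
    have : j₂ ≫ Φ = tO := by rw [h5, ← Category.assoc, lift_snd, Category.id_comp]
    rw [← this, hj₂Φ]
  have h7 : Φ = 1 := by rw [h5, h6, MonObj.comp_one]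
  have h8 : μ[X] ≫ f = (fst X X ≫ f) * (snd X X ≫ f) := by
    have : (fst X X ≫ f) * Φ * (snd X X ≫ f) = μ[X] ≫ f := by
      rw [hΦ]; group
    rw [← this, h7, _root_.mul_one]
  refine ⟨hf, ?_⟩
  rw [h8, CategoryTheory.Hom.mul_def, lift_fst_comp_snd_comp]

end Groth.Agent.S11440
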