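import Groth.Statements.S11441
import Groth.Agent.Lib.Seat51GITSep
-- import your own Groth.Agent.* helpers here

set_option autoImplicit false
universe u
open CategoryTheory MonoidalCategory CartesianMonoidalCategory MonObj GrpObj AlgebraicGeometry Topology
open GIT

namespace Groth.Agent.S11441

open Groth.Agent.Lib.Seat51 in
/-- If a geometric quotient of X by G over S exists, then the action of G on X is closed (orbits of
geometric points are closed in the geometric fibres). -/
theorem result (S : Scheme.{u}) (G X Y : Over S) [GrpObj G]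
    (a : AlgGrp.Action G X) (φ : X ⟶ Y) (h : GIT.IsGeomQuot a φ) : GIT.IsClosedAction a := by
  intro Ω _ _ T e f
  -- `T` has a single point
  have hsub : Subsingleton T.left := e.hom.homeomorph.injective.subsingleton
  -- the graph of the `T`-point `f ≫ φ` of `Y` is a closed immersion
  have hcl : IsClosedImmersion (lift (f ≫ φ) (𝟙 T) : T ⟶ Y ⊗ T).left :=
    isClosedImmersion_of_comp_eq_id (snd Y T).left _
      (by rw [← Over.comp_left, lift_snd]; rfl)
  have hclosed : IsClosed (Set.range (lift (f ≫ φ) (𝟙 T) : T ⟶ Y ⊗ T).left.base) :=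
    (lift (f ≫ φ) (𝟙 T) : T ⟶ Y ⊗ T).left.isClosedEmbedding.isClosed_range
  -- the orbit is the fibre of `φ_T` over this point
  have hrange : Set.range (GIT.psi a f).left.base =
      (φ ▷ T).left.base ⁻¹' Set.range (lift (f ≫ φ) (𝟙 T) : T ⟶ Y ⊗ T).left.base := by
    apply Set.Subset.antisymm
    · rintro _ ⟨g, rfl⟩
      refine ⟨(snd G T).left.base g, ?_⟩
      have hc : GIT.psi a f ≫ (φ ▷ T) = snd G T ≫ lift (f ≫ φ) (𝟙 T) := by
        apply CartesianMonoidalCategory.hom_ext
        · rw [Category.assoc, whiskerRight_fst, ← Category.assoc, GITSep.psi_fst, Category.assoc,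
            h.inv, Category.assoc, lift_fst, ← Category.assoc, whiskerLeft_snd, Category.assoc]
        · rw [Category.assoc, whiskerRight_snd, GITSep.psi_snd, Category.assoc, lift_snd,
            Category.comp_id]
      rw [← Scheme.Hom.comp_apply, ← Scheme.Hom.comp_apply, ← Over.comp_left, ← Over.comp_left, hc]
    · rintro z ⟨t, ht⟩
      -- the image of `z` in `X ×_S X` lies over the diagonal of `Y`
      have hz' : (X ◁ f).left.base z ∈ Set.range (GIT.psi a (𝟙 X)).left.base := by
        rw [GITSep.range_psi_id a φ h.inv h.orbit]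
        refine ⟨(f ≫ φ).left.base t, ?_⟩
        have e1 : (X ◁ f).left ≫ Limits.pullback.map X.hom X.hom Y.hom Y.hom φ.left φ.left (𝟙 S)
            ((Category.comp_id _).trans (Over.w φ).symm)
            ((Category.comp_id _).trans (Over.w φ).symm) =
            (φ ▷ T).left ≫ (Y ◁ (f ≫ φ)).left := by
          have : (X ◁ f) ≫ (φ ⊗ₘ φ) = (φ ▷ T) ≫ (Y ◁ (f ≫ φ)) := by
            apply CartesianMonoidalCategory.hom_ext <;> simp
          exact congrArg CommaMorphism.left this
        have e2 : (lift (f ≫ φ) (𝟙 T) : T ⟶ Y ⊗ T).left ≫ (Y ◁ (f ≫ φ)).left =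
            (f ≫ φ).left ≫ Limits.pullback.diagonal Y.hom := by
          have : (lift (f ≫ φ) (𝟙 T) : T ⟶ Y ⊗ T) ≫ (Y ◁ (f ≫ φ)) =
              (f ≫ φ) ≫ lift (𝟙 Y) (𝟙 Y) := by
            apply CartesianMonoidalCategory.hom_ext <;> simp
          exact congrArg CommaMorphism.left this
        rw [← Scheme.Hom.comp_apply, ← e2, Scheme.Hom.comp_apply, ht, ← Scheme.Hom.comp_apply,
          ← e1, Scheme.Hom.comp_apply]
      obtain ⟨w, hw⟩ := hz'
      obtain ⟨g, hg, -⟩ := Scheme.exists_preimage_of_isPullback
        ((GITSep.isPullback_psi a f).map (Over.forget S)) z w hw.symm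
      exact ⟨g, hg⟩
  rw [hrange]
  exact hclosed.preimage (φ ▷ T).left.continuous

end Groth.Agent.S11441
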