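import Groth.Statements.S11446
import Groth.Agent.Lib.Seat51GITBC
-- import your own Groth.Agent.* helpers here

set_option autoImplicit false
universe u
open CategoryTheory MonoidalCategory CartesianMonoidalCategory MonObj GrpObj AlgebraicGeometry Topology
open GIT

namespace Groth.Agent.S11446

open Groth.Agent.Lib.Seat51 in
/-- A universal categorical quotient (Y, φ) of X by G has φ surjective and O_Y equal to the sheaf of
invariant functions; hence it is a universal geometric quotient if and only if φ is universally
submersive and (σ, p₂) : G ×_S X → X ×_Y X is surjective. -/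
theorem result (S : Scheme.{u}) (G X Y : Over S) [GrpObj G]
    (a : AlgGrp.Action G X) (φ : X ⟶ Y) (h : GIT.IsUnivCatQuot a φ) :
    Function.Surjective φ.left.base ∧
      (∀ U : Y.left.Opens,
        Function.Injective (φ.left.app U) ∧ Set.range (φ.left.app U) = {f | GIT.IsInvSection a φ U f}) ∧
      (GIT.IsUnivGeomQuot a φ ↔
        GIT.IsUnivSubmersive φ.left ∧ Function.Surjective (GIT.PsiY a φ h.1.1).base) := by
  refine ⟨GITBC.surjective_of_isUnivCatQuot a φ h, GITBC.sections_of_isUnivCatQuot a φ h, ?_⟩
  constructor
  · intro hq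
    exact ⟨hq.1.subm, hq.1.orbit⟩
  · rintro ⟨hsub, horb⟩
    refine ⟨⟨h.1.1, GITBC.surjective_of_isUnivCatQuot a φ h, horb, hsub,
      GITBC.sections_of_isUnivCatQuot a φ h⟩, ?_⟩
    intro X' Y' pr φ' g _ hpb a' heq hinv
    have h' := GITBC.isUnivCatQuot_bc a φ h pr φ' g hpb a' heq hinv
    refine ⟨hinv, GITBC.surjective_of_isUnivCatQuot a' φ' h',
      GITBC.orbit_surjective_bc a φ h.1.1 pr φ' g hpb a' heq hinv horb, ?_,
      GITBC.sections_of_isUnivCatQuot a' φ' h'⟩
    exact MorphismProperty.of_isPullback
      (P := MorphismProperty.universally (topologically @IsQuotientMap))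
      (hpb.map (Over.forget S)) hsub

end Groth.Agent.S11446
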