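import Groth.Statements.S11453
import Groth.Agent.Lib.Seat51PullApart

set_option autoImplicit false
universe u
open scoped Polynomial
open DefT

namespace Groth.Agent.S11453

/-- Let k be an algebraically closed field, A = k[x, y], and 𝔞 ⊆ A an ideal of finite colength n ≥ 2
with radical (x, y), i.e. Spec(A/𝔞) is supported at the origin. Then there is an ideal 𝔞' ⊆ A[t]
defining a family finite and flat over k[t] (A[t]/𝔞' is a finitely generated flat k[t]-module, hence
locally free of rank n) whose fibre at t = 0 is 𝔞 and whose fibre ideal 𝔞_c at every c ≠ 0 is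
contained in the maximal ideal of the origin and in the maximal ideal of some other k-point p ≠ (0,
0); so for t ≠ 0 the fibre is supported at two or more distinct points. (The published statement
allows colength 1 and puts the second point at (0, t); for colength 1 every finite flat family has
one-point fibres, and the family constructed in the published proof has its second piece at the
roots of f(x, t) on the line y = t after a linear change of the coordinates x, y, which need not lie
at x = 0; this row states what that construction yields. The published statement asks the family to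
be flat over k[t]; this row asks it to be finite and flat, as the constructed family is — f is monic
in x and (y − t)·y^N lies in the ideal for some N — and as the published proof's count of the
constant fibre length n presupposes; with flatness alone the fibre conditions here could be met by
adjoining a component that never meets t = 0.) -/
theorem result (k : Type u) [Field k] [IsAlgClosed k]
    (𝔞 : Ideal (MvPolynomial (Fin 2) k)) [Module.Finite k (MvPolynomial (Fin 2) k ⧸ 𝔞)]
    (hn : 2 ≤ Module.finrank k (MvPolynomial (Fin 2) k ⧸ 𝔞))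
    (hsupp : 𝔞.radical = Ideal.span {MvPolynomial.X 0, MvPolynomial.X 1}) :
    ∃ 𝔞' : Ideal (MvPolynomial (Fin 2) k)[X],
      RingHom.Flat (R := k[X]) (S := (MvPolynomial (Fin 2) k)[X] ⧸ 𝔞')
        ((Ideal.Quotient.mk 𝔞').comp (Polynomial.mapRingHom (algebraMap k (MvPolynomial (Fin 2) k)))) ∧
      RingHom.Finite (A := k[X]) (B := (MvPolynomial (Fin 2) k)[X] ⧸ 𝔞')
        ((Ideal.Quotient.mk 𝔞').comp (Polynomial.mapRingHom (algebraMap k (MvPolynomial (Fin 2) k)))) ∧
      Ideal.map (Polynomial.evalRingHom (0 : MvPolynomial (Fin 2) k)) 𝔞' = 𝔞 ∧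
      ∀ c : k, c ≠ 0 →
        Ideal.map (Polynomial.evalRingHom (MvPolynomial.C c)) 𝔞' ≤ Ideal.span {MvPolynomial.X 0, MvPolynomial.X 1} ∧
        ∃ p : Fin 2 → k, p ≠ 0 ∧
          Ideal.map (Polynomial.evalRingHom (MvPolynomial.C c)) 𝔞' ≤
            Ideal.span (Set.range (fun i : Fin 2 => MvPolynomial.X i - MvPolynomial.C (p i))) := by
  classical
  obtain ⟨i, hi⟩ := Seat51PullApart.exists_X_not_mem 𝔞 hn
  obtain ⟨j, hji⟩ := exists_ne i
  have hij : i ≠ j := hji.symm
  obtain ⟨g, hg𝔞, hGm, hGdeg, hle⟩ := Seat51PullApart.exists_g 𝔞 hsupp hij hi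
  set y : MvPolynomial (Fin 2) k := MvPolynomial.X i with hy
  set 𝔟 := Seat51PullApart.colonIdeal 𝔞 y with h𝔟
  have h𝔞𝔟 : 𝔞 ≤ 𝔟 := Seat51PullApart.le_colonIdeal 𝔞 y
  haveI : Module.Finite k (MvPolynomial (Fin 2) k ⧸ 𝔟) := Seat51PullApart.finite_quot_of_le h𝔞𝔟
  have h𝔟𝔪 : 𝔟 ≤ Ideal.span {MvPolynomial.X 0, MvPolynomial.X 1} :=
    Seat51PullApart.colonIdeal_le_pair 𝔞 hsupp hi
  have hg0 : g ≠ 0 := by
    rintro rfl
    rw [map_zero] at hGm
    exact Polynomial.not_monic_zero hGm
  have hey : Seat51PullApart.eqv i j hij y = Polynomial.C Polynomial.X :=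
    Seat51PullApart.eqv_X_self hij
  refine ⟨Seat51PullApart.fam y g 𝔟, ?_, ?_, ?_, ?_⟩
  · exact Seat51PullApart.fam_flat hg0 (h𝔞𝔟 hg𝔞) (Seat51PullApart.Htf_of_equiv _ hey hGm)
  · exact Seat51PullApart.fam_finite (Seat51PullApart.Hfin_of_equiv _ hey hGm)
  · rw [Seat51PullApart.map_eval_fam]
    apply le_antisymm
    · apply sup_le
      · rw [Ideal.span_singleton_mul_le_iff]
        intro z hz
        have : (0 - y) * z = -(y * z) := by ring
        rw [this]; exact 𝔞.neg_mem (Seat51PullApart.mem_colonIdeal.mp hz)
      · rw [Ideal.span_le, Set.singleton_subset_iff]; exact hg𝔞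
    · intro f hf
      obtain ⟨a, ha, b, hb, hab⟩ := Submodule.mem_sup.mp (hle hf)
      obtain ⟨u, rfl⟩ := Ideal.mem_span_singleton'.mp ha
      obtain ⟨v, rfl⟩ := Ideal.mem_span_singleton'.mp hb
      have hv : v ∈ 𝔟 := by
        rw [h𝔟, Seat51PullApart.mem_colonIdeal]
        have : y * v = f - u * g := by rw [← hab]; ring
        rw [this]; exact 𝔞.sub_mem hf (𝔞.mul_mem_left _ hg𝔞)
      rw [← hab, add_comm]
      refine Submodule.add_mem_sup ?_ (Ideal.mul_mem_left _ _ (Ideal.subset_span rfl))
      have : v * y = (0 - y) * (-v) := by ring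
      rw [this]
      exact Ideal.mul_mem_mul (Ideal.subset_span rfl) (𝔟.neg_mem hv)
  · intro c hc
    rw [Seat51PullApart.map_eval_fam]
    constructor
    · apply sup_le
      · exact Ideal.mul_le_right.trans h𝔟𝔪
      · rw [Ideal.span_le, Set.singleton_subset_iff]
        have : g ∈ 𝔞.radical := Ideal.le_radical hg𝔞
        rwa [hsupp] at this
    · obtain ⟨ξ, hξ⟩ := Seat51PullApart.exists_root_map hGm hGdeg c
      let pt : Fin 2 → k := fun l => if l = i then c else ξ
      have hpti : pt i = c := by simp [pt]
      have hptj : pt j = ξ := by simp [pt, hji]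
      refine ⟨pt, ?_, ?_⟩
      · intro h0; apply hc; rw [← hpti, h0]; rfl
      · apply sup_le
        · refine Ideal.mul_le_left.trans ?_
          rw [Ideal.span_le, Set.singleton_subset_iff]
          have : (MvPolynomial.C c - y) = -(MvPolynomial.X i - MvPolynomial.C (pt i)) := by
            rw [hpti]; ring
          rw [this]; exact neg_mem (Ideal.subset_span ⟨i, rfl⟩)
        · rw [Ideal.span_le, Set.singleton_subset_iff]
          have h1 := Seat51PullApart.sub_C_eval_mem pt g
          have h2 : MvPolynomial.eval pt g = 0 := by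
            rw [Seat51PullApart.eval_eq hij, hpti, hptj]; exact hξ
          rwa [h2, map_zero, sub_zero] at h1

end Groth.Agent.S11453
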