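import Groth.Statements.S12092
import Groth.Agent.Lib.Seat80TorBal4

set_option autoImplicit false
universe u
open CategoryTheory
attribute [local instance] HasDerivedCategory.standard
open DRing

namespace Groth.Agent.S12092

open MonoidalCategory Groth.Agent.Lib.Seat80.TorBal Groth.Agent.Lib.Helper1.KF Groth.Agent.Lib.Helper1.Tor
  Groth.Agent.Lib.Helper1.DT Groth.Agent.Lib.Helper1.LDer Groth.Agent.Lib.Helper1.Restrict

/-- (3) ⇒ (1): let `A → B` be a ring map and `K•` a complex of `B`-modules. Suppose that for every
maximal ideal `m ⊆ B`, with `p` its inverse image in `A`, the localization `K•_m`, viewed as a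
complex of `A_p`-modules, has tor amplitude in `[a, b]`. Then `K•`, regarded over `A` by restriction
of scalars, has tor amplitude in `[a, b]`. (Tor amplitude in the frozen sense: isomorphic in the
derived category to a complex of flat modules vanishing outside `[a, b]`.) -/
theorem result (A B : Type u) [CommRing A] [CommRing B]
    [Algebra A B] (K : DRing.Cx B) (a b : ℤ)
    (h3 : ∀ (m : Ideal B) [m.IsMaximal],
      DRing.HasTorAmplitudeIn (Localization.AtPrime (m.comap (algebraMap A B))) a b
        (DRing.toD ((DRing.restrictCx (Localization.localRingHom (m.comap (algebraMap A B)) m (algebraMap A B) rfl)).obj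
          (((ModuleCat.extendScalars (algebraMap B (Localization.AtPrime m))).mapHomologicalComplex
            (ComplexShape.up ℤ)).obj K)))) :
    DRing.HasTorAmplitudeIn A a b (DRing.toD ((DRing.restrictCx (algebraMap A B)).obj K)) := by
  classical
  let φ : A →+* B := algebraMap A B
  change DRing.HasTorAmplitudeIn A a b (DerivedCategory.Q.obj ((DRing.restrictCx φ).obj K))
  rw [hasTorAmp_res_iff]
  intro M P π hP hπ i hi
  refine exactAt_of_forall_maximal _ i (fun m hm => ?_)
  let p : Ideal A := m.comap (algebraMap A B)
  let μ : B →+* Localization.AtPrime m := algebraMap B (Localization.AtPrime m)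
  let lam : A →+* Localization.AtPrime p := algebraMap A (Localization.AtPrime p)
  let θ : Localization.AtPrime p →+* Localization.AtPrime m :=
    Localization.localRingHom p m (algebraMap A B) rfl
  have hcomp : μ.comp φ = θ.comp lam := by
    ext x
    exact (Localization.localRingHom_to_map p m (algebraMap A B) rfl x).symm
  obtain ⟨M', π', hP', hπ'⟩ := exists_resolution_bc (A' := Localization.AtPrime p) M P π hP hπ
  have h := (hasTorAmp_res_iff θ ((bcCx μ).obj K) a b).1 (h3 m) M' _ π' hP' hπ' i hi
  have e : (bcCx μ).obj ((bcCx φ).obj P) ≅ (bcCx θ).obj ((bcCx lam).obj P) :=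
    (DTen.extCompCx φ μ).app P ≪≫
      eqToIso (congrArg (fun f => (DTen.extCx f).obj P) hcomp) ≪≫
      ((DTen.extCompCx lam θ).app P).symm
  have e0 : (bcCx μ).obj (K ⊗ (bcCx φ).obj P) ≅
      ((bcCx μ).obj K) ⊗ ((bcCx μ).obj ((bcCx φ).obj P)) :=
    DTen.extTenCxIso μ K ((bcCx φ).obj P)
  refine (exactAt_iff_of_iso e0 i).2 ?_
  refine (exactAt_iff_of_iso (whiskerLeftIso ((bcCx μ).obj K) e) i).2 ?_
  exact h

end Groth.Agent.S12092
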