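import Groth.Statements.S12129
import Groth.Agent.Lib.Seat55SpecOrder

set_option autoImplicit false
universe u
open EGA2

namespace Groth.Agent.S12129

open AlgebraicGeometry CategoryTheory in
/-- Let X be a scheme of finite type over a field k. Then the local ring of X at every closed point has
dimension one if and only if the irreducible closed subsets of X other than its irreducible
components are exactly the (singletons of) closed points of X — that is, every irreducible closed
subset which is not an irreducible component is a closed point, and no closed point is by itself an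
irreducible component. -/
theorem result (k : Type u) [Field k] (X : Scheme.{u})
    [X.Over (Spec (CommRingCat.of k))] [LocallyOfFiniteType (X ↘ (Spec (CommRingCat.of k)))]
    [QuasiCompact (X ↘ (Spec (CommRingCat.of k)))] :
    (∀ x : X, IsClosed ({x} : Set X) → ringKrullDim (X.presheaf.stalk x) = 1) ↔
      ((∀ F : Set X, IsClosed F → IsIrreducible F → F ∉ irreducibleComponents (X : Type u) →
          ∃ x : X, IsClosed ({x} : Set X) ∧ F = {x}) ∧
        ∀ x : X, IsClosed ({x} : Set X) → ({x} : Set X) ∉ irreducibleComponents (X : Type u)) := by
  open Groth.Agent.Lib.Seat55.SpecOrder in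
  have : CompactSpace X :=
    (quasiCompact_iff_compactSpace (X ↘ (Spec (CommRingCat.of k)))).mp inferInstance
  constructor
  · intro hdim
    refine ⟨?_, ?_⟩
    · intro F hF hF' hFc
      obtain ⟨ξ, hξ⟩ := exists_isGenericPoint hF hF'
      obtain ⟨Z, hZ, hZ', hFZ, hne⟩ := exists_ssuperset_of_not_mem_irreducibleComponents hF hF' hFc
      obtain ⟨η, hη⟩ := exists_isGenericPoint hZ hZ'
      obtain ⟨x, hxF, hx⟩ := hF.exists_closed_singleton hF'.nonempty
      have hlt : ξ < η := lt_of_isGenericPoint_of_ssubset hξ hη hFZ hne
      have hξx : ξ ⤳ x := hξ.specializes hxF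
      by_cases hxξ : ξ = x
      · subst hxξ
        refine ⟨ξ, hx, ?_⟩
        rw [← hξ.def, hx.closure_eq]
      · exfalso
        have hlt' : x < ξ := lt_iff_specializes_ne.mpr ⟨hξx, hxξ⟩
        exact not_lt_lt_of_dim_eq_one (hdim x hx) hlt' hlt
    · intro x hx hxc
      have h0 : ringKrullDim (X.presheaf.stalk x) = 0 := by
        rw [ringKrullDim_stalk_eq_coheight]
        have : Order.coheight x = 0 := by
          rw [Order.coheight_eq_zero]
          intro y hy
          have hyx : y ⤳ x := Scheme.le_iff_specializes.mp hy
          have hsub : ({x} : Set X) ⊆ closure {y} := by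
            rw [Set.singleton_subset_iff]
            exact hyx.mem_closure
          have := eq_of_mem_irreducibleComponents_of_subset hxc isIrreducible_singleton.closure hsub
          have hy' : y ∈ ({x} : Set X) := this ▸ subset_closure rfl
          rw [Set.mem_singleton_iff] at hy'
          rw [hy']
        rw [this]; rfl
      have h1 := hdim x hx
      rw [h0] at h1
      exact absurd h1 (by decide)
  · rintro ⟨h1, h2⟩ x hx
    apply le_antisymm
    · apply dim_le_one_of_no_chain
      intro y z hxy hyz
      have hyc : closure ({y} : Set X) ∉ irreducibleComponents X := by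
        intro hc
        have hsub : closure ({y} : Set X) ⊆ closure {z} := by
          apply closure_minimal _ isClosed_closure
          rw [Set.singleton_subset_iff]
          exact (Scheme.le_iff_specializes.mp hyz.le).mem_closure
        have := eq_of_mem_irreducibleComponents_of_subset hc isIrreducible_singleton.closure hsub
        have hzy : y ⤳ z := by
          rw [specializes_iff_mem_closure, this]; exact subset_closure rfl
        exact hyz.not_ge (Scheme.le_iff_specializes.mpr hzy)
      obtain ⟨w, hw, hyw⟩ := h1 _ isClosed_closure isIrreducible_singleton.closure hyc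
      have hxw : x ∈ ({w} : Set X) := hyw ▸ (Scheme.le_iff_specializes.mp hxy.le).mem_closure
      have hyw' : y ∈ ({w} : Set X) := hyw ▸ subset_closure rfl
      rw [Set.mem_singleton_iff] at hxw hyw'
      exact (lt_iff_specializes_ne.mp hxy).2 (hyw'.trans hxw.symm)
    · have hxc := h2 x hx
      obtain ⟨Z, hZ, hZ', hFZ, hne⟩ :=
        exists_ssuperset_of_not_mem_irreducibleComponents hx isIrreducible_singleton hxc
      obtain ⟨η, hη⟩ := exists_isGenericPoint hZ hZ'
      have hξ : IsGenericPoint x ({x} : Set X) := hx.closure_eq
      exact one_le_dim_of_lt (lt_of_isGenericPoint_of_ssubset hξ hη hFZ hne)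

end Groth.Agent.S12129
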