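import Groth.Statements.S9966
import Groth.Agent.Lib.Seat43RedSub
import Groth.Agent.Lib.Helper12Proper
import Groth.Agent.S10193
import Groth.Agent.S9928
-- import your own Groth.Agent.* helpers here

set_option autoImplicit false
universe u
open CategoryTheory CategoryTheory.Limits AlgebraicGeometry
open AlgSp

namespace Groth.Agent.S9966

/-- The scheme theoretic image of a morphism from a reduced algebraic space is the reduced induced
structure on the closure of its image. -/
theorem result {S : Scheme.{u}} {X Y Z : AlgSp.Space S} (f : X ⟶ Y) (i : Z ⟶ Y)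
    (hX : AlgSp.IsReducedSp X.obj) (hZ : AlgSp.IsSchImage f.hom i.hom) :
    AlgSp.IsRedInduced (closure (Set.range (AlgSp.Points.map f.hom))) i.hom := by
  obtain ⟨hcl, ⟨f', hf'⟩, hmin⟩ := hZ
  obtain ⟨ZT, iT, hclT, hrangeT, hredT⟩ :=
    Groth.Agent.Lib.Seat43.RedSub.exists_isRedInduced Y
      (closure (Set.range (AlgSp.Points.map f.hom))) isClosed_closure
  have hmono : ∀ {A : AlgSp.Sp S} (j : A ⟶ Y.obj), AlgSp.RepWith @IsClosedImmersion j → Mono j :=
    fun j hj => Groth.Agent.S9928.mono_of_repWith @IsClosedImmersion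
      (fun _ _ g hg => by have := hg; infer_instance) j hj
  have : Mono i.hom := hmono _ hcl
  have : Mono iT.hom := hmono _ hclT
  -- `f` factors through the reduced induced structure
  obtain ⟨g, hg⟩ := (Groth.Agent.S10193.result iT hclT hX f).2 (by
    rw [hrangeT]; exact subset_closure)
  obtain ⟨k, hk⟩ := hmin iT.hom ZT.property hclT ⟨g.hom, congrArg (fun m => m.hom) hg⟩
  -- the points of the image
  have hrange : Set.range (AlgSp.Points.map i.hom) =
      closure (Set.range (AlgSp.Points.map f.hom)) := by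
    apply Set.Subset.antisymm
    · rw [← hrangeT]
      rintro _ ⟨z, rfl⟩
      refine ⟨AlgSp.Points.map k z, ?_⟩
      rw [← AlgSp.Points.map_comp, hk]
    · refine closure_minimal ?_
        (Groth.Agent.Lib.Helper12.Proper.isClosedMap_of_repWith_isClosedImmersion _ hcl).isClosed_range
      rintro _ ⟨x, rfl⟩
      refine ⟨AlgSp.Points.map f' x, ?_⟩
      rw [← AlgSp.Points.map_comp, hf']
  refine ⟨hcl, hrange, ?_⟩
  -- `Z` is isomorphic to the reduced induced structure
  obtain ⟨k', hk'⟩ := (Groth.Agent.S10193.result i hcl hredT iT).2 (by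
    rw [hrangeT, hrange])
  have hk'' : k'.hom ≫ i.hom = iT.hom := congrArg (fun m => m.hom) hk'
  have h1 : k ≫ k'.hom = 𝟙 Z.obj := by
    rw [← cancel_mono i.hom, Category.assoc, hk'', hk, Category.id_comp]
  have h2 : k'.hom ≫ k = 𝟙 ZT.obj := by
    rw [← cancel_mono iT.hom, Category.assoc, hk, hk'', Category.id_comp]
  have hiso : IsIso k'.hom := ⟨⟨k, h2, h1⟩⟩
  obtain ⟨U, c, hce, hcs, hU⟩ := hredT
  exact ⟨U, c ≫ k'.hom, MorphismProperty.RespectsIso.postcomp _ _ _ hce,
    MorphismProperty.RespectsIso.postcomp _ _ _ hcs, hU⟩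

end Groth.Agent.S9966
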