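import Groth.Statements.S12193
import Groth.Agent.S9966
import Groth.Agent.S10193
import Groth.Agent.S10175
import Groth.Agent.S10211
import Groth.Agent.Lib.Helper12EtSmST
import Groth.Agent.Lib.Helper12Reduced
import Groth.Agent.Lib.Helper12Proper

set_option autoImplicit false
universe u
open CategoryTheory CategoryTheory.Limits AlgebraicGeometry
open AlgSp

namespace Groth.Agent.S12193

/-- Let X be a reduced algebraic space over S, f : X → Y a morphism of algebraic spaces over S, and Z →
Y the scheme theoretic image of f. Then forming the scheme theoretic image commutes with etale base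
change: for every etale morphism V → Y of algebraic spaces and cartesian squares X ×_Y V, Z ×_Y V,
the closed subspace Z ×_Y V → V is the scheme theoretic image of X ×_Y V → V. -/
theorem result {S : Scheme.{u}} {X Y Z V XV ZV : AlgSp.Space S} (f : X ⟶ Y)
    (i : Z ⟶ Y) (hX : AlgSp.IsReducedSp X.obj) (hZ : AlgSp.IsSchImage f.hom i.hom) (b : V ⟶ Y)
    (hb : AlgSp.IsEtaleMor b.hom) (f₁ : XV ⟶ X) (fV : XV ⟶ V) (i₁ : ZV ⟶ Z) (iV : ZV ⟶ V)
    (sqX : IsPullback f₁.hom fV.hom f.hom b.hom) (sqZ : IsPullback i₁.hom iV.hom i.hom b.hom) :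
    AlgSp.IsSchImage fV.hom iV.hom := by
  have hclV : AlgSp.RepWith @IsClosedImmersion iV.hom :=
    (AlgSp.repWith_isStableUnderBaseChange (S := S) @IsClosedImmersion).of_isPullback sqZ hZ.1
  -- reducedness
  obtain ⟨-, hrange, hZred⟩ := Groth.Agent.S9966.result f i hX hZ
  have hi₁ : AlgSp.IsEtaleMor i₁.hom :=
    Groth.Agent.Lib.Helper12.EtSmST.isEtaleMor_baseChange V.property Y.property Z.property
      sqZ.flip hb
  have hi₁s : AlgSp.LocP @Smooth i₁.hom := by
    intro U W a c h ha hc hcomm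
    have : Etale h.left :=
      Groth.Agent.Lib.Helper12.SrcLocal.locP_etale_of_isEtaleMor i₁.hom hi₁ a c h ha hc hcomm
    infer_instance
  have hZVred : AlgSp.IsReducedSp ZV.obj :=
    Groth.Agent.Lib.Helper12.Reduced.isReducedSp_of_smooth ZV.property i₁.hom hi₁s hZred
  -- the points of `ZV`
  have hbo : IsOpenMap (AlgSp.Points.map b.hom) :=
    Groth.Agent.S10211.isOpenMap_map_of_isEtaleMor V.property b.hom hb
  have hrV : Set.range (AlgSp.Points.map iV.hom) =
      closure (Set.range (AlgSp.Points.map fV.hom)) := by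
    have h1 : Set.range (AlgSp.Points.map iV.hom) =
        AlgSp.Points.map b.hom ⁻¹' Set.range (AlgSp.Points.map i.hom) := by
      ext v
      constructor
      · rintro ⟨z, rfl⟩
        refine ⟨AlgSp.Points.map i₁.hom z, ?_⟩
        rw [← AlgSp.Points.map_comp, sqZ.w, AlgSp.Points.map_comp]
      · rintro ⟨z, hz⟩
        obtain ⟨p, -, hp⟩ := Groth.Agent.S10175.exists_point_of_isPullback sqZ z v hz
        exact ⟨p, hp⟩
    have h2 : Set.range (AlgSp.Points.map fV.hom) =
        AlgSp.Points.map b.hom ⁻¹' Set.range (AlgSp.Points.map f.hom) := by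
      ext v
      constructor
      · rintro ⟨x, rfl⟩
        refine ⟨AlgSp.Points.map f₁.hom x, ?_⟩
        rw [← AlgSp.Points.map_comp, sqX.w, AlgSp.Points.map_comp]
      · rintro ⟨x, hx⟩
        obtain ⟨p, -, hp⟩ := Groth.Agent.S10175.exists_point_of_isPullback sqX x v hx
        exact ⟨p, hp⟩
    rw [h1, h2, hrange]
    exact hbo.preimage_closure_eq_closure_preimage (AlgSp.Points.continuous_map b.hom) _
  obtain ⟨f', hf'⟩ := hZ.2.1
  refine ⟨hclV, ⟨sqZ.lift (f₁.hom ≫ f') fV.hom (by rw [Category.assoc, hf', sqX.w]),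
    sqZ.lift_snd _ _ _⟩, ?_⟩
  intro Z'' i'' hZ'' hcl'' hfac
  obtain ⟨f'', hf''⟩ := hfac
  let Z''s : AlgSp.Space S := ⟨Z'', hZ''⟩
  let i''s : Z''s ⟶ V := ObjectProperty.homMk i''
  obtain ⟨g, hg⟩ := (Groth.Agent.S10193.result i''s hcl'' hZVred iV).2 (by
    rw [hrV]
    refine closure_minimal ?_ (Groth.Agent.Lib.Helper12.Proper.isClosedMap_of_repWith_isClosedImmersion
      _ hcl'').isClosed_range
    rintro _ ⟨x, rfl⟩
    refine ⟨AlgSp.Points.map f'' x, ?_⟩
    rw [← AlgSp.Points.map_comp]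
    exact congrArg (fun m => AlgSp.Points.map m x) hf'')
  exact ⟨g.hom, congrArg (fun m => m.hom) hg⟩

end Groth.Agent.S12193
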