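import Groth.Statements.S12194
import Groth.Agent.Lib.Seat48StalkEt3
import Groth.Agent.S10217
import Groth.Agent.S10195

set_option autoImplicit false
universe u
open CategoryTheory CategoryTheory.Limits AlgebraicGeometry Opposite
open AlgSp

namespace Groth.Agent.S12194

/-- Let X be a locally Noetherian algebraic space over S, φ : G ⟶ F a morphism of coherent O_X-modules
on the small etale site of X (of finite presentation, X being locally Noetherian) and x̄ a geometric
point of X. If the map φ_x̄ on stalks at x̄ (of the underlying abelian sheaves) is surjective, then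
there is an open subspace X' ⊂ X containing the image of x̄ such that φ|_{X'} is surjective: the
stalk map φ_ȳ is surjective for every geometric point ȳ of X lying over a point of |X'|. -/
theorem result {S : Scheme.{u}} (X : AlgSp.Space S)
    (hX : AlgSp.IsLocNoethSp X.obj) {G F : AlgSp.ModEt X.obj} [G.IsFinitePresentation] [F.IsFinitePresentation]
    (φ : G ⟶ F) (xbar : AlgSp.FieldPt X.obj) (hx : xbar.IsGeometric)
    (hsurj : Epi ((AlgSp.stalkEtFunctor AddCommGrpCat.{u + 1} xbar).map ((AlgSp.toAbEt X.obj).map φ))) :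
    ∃ (X' : AlgSp.Space S) (j : X' ⟶ X), AlgSp.RepWith @IsOpenImmersion j.hom ∧
      AlgSp.Points.mk xbar ∈ Set.range (AlgSp.Points.map j.hom) ∧
        ∀ ybar : AlgSp.FieldPt X.obj, ybar.IsGeometric →
          AlgSp.Points.mk ybar ∈ Set.range (AlgSp.Points.map j.hom) →
            Epi ((AlgSp.stalkEtFunctor AddCommGrpCat.{u + 1} ybar).map ((AlgSp.toAbEt X.obj).map φ)) := by
  have hG := Groth.Agent.Lib.Seat48.BCEt.hasBCOn_of_isQuasicoherent G
  have hF := Groth.Agent.Lib.Seat48.BCEt.hasBCOn_of_isQuasicoherent F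
  have hC : Groth.Agent.Lib.Seat48.BCSite.HasBCOn (Groth.Agent.Lib.Seat48.BCEt.affineData X.obj)
      (cokernel φ).val :=
    Groth.Agent.Lib.Seat48.BCSite.hasBCOn_cokernel _ φ hG hF
  have hfinC : ∀ E : AlgSp.EtOver X.obj, IsAffine E.obj.left.left →
      Module.Finite ((AlgSp.OEtRing X.obj).obj.obj (op E)) ((cokernel φ).val.obj (op E)) := by
    intro E hE
    have := Groth.Agent.Lib.Seat48.BCEt.finite_sections F hF E hE
    exact Module.Finite.of_surjective ((cokernel.π φ).val.app (op E)).hom
      (Groth.Agent.Lib.Seat48.BCSite.app_surjective_of_epi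
        (Groth.Agent.Lib.Seat48.BCEt.affineData X.obj) (cokernel.π φ) hF hC hE)
  have hsurj' : Function.Surjective
      ((AlgSp.stalkEtFunctor AddCommGrpCat.{u + 1} xbar).map ((AlgSp.toAbEt X.obj).map φ)).hom :=
    (AddCommGrpCat.epi_iff_surjective _).1 hsurj
  have : IsCofiltered (AlgSp.EtNbhd xbar) := Groth.Agent.S10217.result X xbar hx
  obtain ⟨⟨U, l⟩⟩ := (IsCofiltered.nonempty : Nonempty (AlgSp.EtNbhd xbar))
  obtain ⟨V, ψ, y, -, hV, hV0⟩ :=
    Groth.Agent.Lib.Seat48.StalkEt.exists_affine_nbhd_sections_eq_zero X (cokernel φ) hC hfinC xbar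
      hx (fun U l σ => Groth.Agent.Lib.Seat48.StalkEt.germ_cokernel_eq_zero X φ hG hF xbar hx
        hsurj' l σ) l
  obtain ⟨X', j, hj, hrange⟩ := Groth.Agent.S10195.result X
    (Set.range (AlgSp.Points.ofPt V.obj.hom))
    (Groth.Agent.Lib.Helper9.SpPoint.isOpenMap_ofPt V).isOpen_range
  refine ⟨X', j, hj, ?_, ?_⟩
  · rw [hrange]
    exact ⟨y.1.left (default : Spec (CommRingCat.of xbar.K)),
      Groth.Agent.Lib.Helper9.SpPoint.ofPt_lift xbar V y default⟩
  · intro ybar hy hyX'
    rw [hrange] at hyX'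
    rw [AddCommGrpCat.epi_iff_surjective]
    exact Groth.Agent.Lib.Seat48.StalkEt.stalk_map_surjective_of_cokernel_eq_zero X φ hG hF hV hV0
      ybar hy hyX'

end Groth.Agent.S12194
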