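import Groth.Statements.S12195
import Groth.Agent.Lib.Seat47Rel2

set_option autoImplicit false
universe u
open CategoryTheory CategoryTheory.Limits AlgebraicGeometry
open AlgSp

namespace Groth.Agent.S12195

/-- Let a : F ⟶ G be a representable, surjective and etale morphism of fppf sheaves on (Sch/S) and b : G
⟶ H a morphism such that a ≫ b is formally smooth. Consider a solid infinitesimal lifting square for
b: a square-zero thickening T = Spec (A/I) ⊂ T' = Spec A of affine schemes over S, a morphism T ⟶ G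
and a morphism T' ⟶ H making the square commute. Then for every point t of T' there exist an affine
scheme U', an etale morphism U' ⟶ T' whose image contains t, and a morphism U' ⟶ G lying over T' ⟶ H
whose restriction to T ×_{T'} U' agrees with the given T ⟶ G (stated for every scheme V mapping
compatibly to T and U'). (The published statement is for transformations of arbitrary presheaves of
sets on (Sch/S)_fppf; this row takes fppf sheaves, the case of algebraic spaces.) -/
theorem result {S : Scheme.{u}} {F G H : AlgSp.Sp S} (a : F ⟶ G)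
    (b : G ⟶ H) (ha : AlgSp.RepWith @Etale a) (ha' : AlgSp.RepWith @Surjective a)
    (hab : AlgSp.IsFormallySmoothMor (a ≫ b)) (sq : AlgSp.InfSq b) (t : ↥sq.ptT'.left) :
    ∃ (U' : Over S) (g : U' ⟶ sq.ptT') (l : (AlgSp.yon S).obj U' ⟶ G),
      IsAffine U'.left ∧ Etale g.left ∧ (∃ u : ↥U'.left, g.left u = t) ∧
        l ≫ b = (AlgSp.yon S).map g ≫ sq.bot ∧
          ∀ (V : Over S) (p : V ⟶ sq.ptT) (q : V ⟶ U'), p ≫ sq.j = q ≫ g →
            (AlgSp.yon S).map q ≫ l = (AlgSp.yon S).map p ≫ sq.top := by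
  classical
  open Groth.Agent.Lib.Seat47.FEt Groth.Agent.Lib.Seat47.LiftCover in
  -- pull the cover back to `T`
  obtain ⟨E, e, pF, hpb⟩ := ha.1 sq.top
  haveI : Etale e.left := ha.2 sq.top pF e hpb
  haveI : Surjective e.left := ha'.2 sq.top pF e hpb
  obtain ⟨t₀, ht₀⟩ := Groth.Agent.Lib.Helper2.FormalEt.surj_specMap_mk sq.A sq.I sq.sq_zero t
  obtain ⟨x, hx⟩ := e.left.surjective t₀
  obtain ⟨B, φ, hφet, ⟨σ, hσ⟩, hrange⟩ := exists_etale_lift_nhd' sq.I sq.sq_zero e.left x
  -- notation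
  let J := sq.I.map φ.hom
  have hJ : J ^ 2 = ⊥ := r_sq_zero sq.I φ.hom sq.sq_zero
  let W' : Over S := rW sq.str φ.hom
  let T₁ : Over S := rT sq.I sq.str φ.hom
  let g : W' ⟶ sq.ptT' := rg sq.str φ.hom
  let ρ : T₁ ⟶ sq.ptT := rρ sq.I sq.str φ.hom
  let j₁ : T₁ ⟶ W' := pj J (Spec.map (CommRingCat.ofHom φ.hom) ≫ sq.str)
  have hcomm : j₁ ≫ g = ρ ≫ sq.j := r_comm sq.I sq.str φ.hom
  let s : T₁ ⟶ E := Over.homMk σ (by
    show σ ≫ E.hom = T₁.hom
    rw [← Over.w e, ← Category.assoc, hσ]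
    exact Over.w ρ)
  have hs : s ≫ e = ρ := Over.OverMorphism.ext hσ
  -- the lift by formal smoothness
  have hc : ((AlgSp.yon S).map s ≫ pF) ≫ a ≫ b =
      (AlgSp.yon S).map j₁ ≫ (AlgSp.yon S).map g ≫ sq.bot := by
    calc ((AlgSp.yon S).map s ≫ pF) ≫ a ≫ b
        = (AlgSp.yon S).map s ≫ (pF ≫ a) ≫ b := by simp only [Category.assoc]
      _ = (AlgSp.yon S).map s ≫ ((AlgSp.yon S).map e ≫ sq.top) ≫ b := by rw [hpb.w]
      _ = (AlgSp.yon S).map (s ≫ e) ≫ sq.top ≫ b := by
          rw [Functor.map_comp]; simp only [Category.assoc]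
      _ = (AlgSp.yon S).map (ρ ≫ sq.j) ≫ sq.bot := by
          rw [hs, sq.comm, Functor.map_comp, Category.assoc]
      _ = (AlgSp.yon S).map j₁ ≫ (AlgSp.yon S).map g ≫ sq.bot := by
          rw [← hcomm, Functor.map_comp, Category.assoc]
  obtain ⟨l', hl'1, hl'2⟩ := lift_affine hab J hJ (Spec.map (CommRingCat.ofHom φ.hom) ≫ sq.str)
    ((AlgSp.yon S).map s ≫ pF) ((AlgSp.yon S).map g ≫ sq.bot) hc
  refine ⟨W', g, l' ≫ a, ?_, ?_, ?_, ?_, ?_⟩
  · show IsAffine (Spec (.of B)); infer_instance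
  · show Etale (Spec.map (CommRingCat.ofHom φ.hom)); exact hφet
  · -- the point
    obtain ⟨y, hy⟩ := hrange
    refine ⟨j₁.left y, ?_⟩
    have h1 : (j₁ ≫ g).left y = (ρ ≫ sq.j).left y := by rw [hcomm]
    rw [Over.comp_left, Over.comp_left, Scheme.Hom.comp_apply, Scheme.Hom.comp_apply] at h1
    rw [h1]
    have h2 : ρ.left y = e.left x := hy
    rw [h2, hx]
    exact ht₀
  · rw [Category.assoc, hl'2]
  · intro V p q hpq
    obtain ⟨u, hu1, hu2⟩ := r_lift sq.I sq.str φ.hom q p hpq.symm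
    calc (AlgSp.yon S).map q ≫ l' ≫ a
        = (AlgSp.yon S).map u ≫ ((AlgSp.yon S).map j₁ ≫ l') ≫ a := by
          have hq : q = u ≫ j₁ := hu1.symm
          rw [hq, Functor.map_comp]; simp only [Category.assoc]
      _ = (AlgSp.yon S).map u ≫ ((AlgSp.yon S).map s ≫ pF) ≫ a := by rw [hl'1]
      _ = (AlgSp.yon S).map u ≫ (AlgSp.yon S).map s ≫ (AlgSp.yon S).map e ≫ sq.top := by
          simp only [Category.assoc]; rw [hpb.w]
      _ = (AlgSp.yon S).map (u ≫ s ≫ e) ≫ sq.top := by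
          rw [Functor.map_comp, Functor.map_comp]; simp only [Category.assoc]
      _ = (AlgSp.yon S).map p ≫ sq.top := by rw [hs, hu2]

end Groth.Agent.S12195
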