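import Groth.Statements.S1223
import Groth.Agent.Lib.Seat6GeomIntFib

set_option autoImplicit false
universe u
open FlatMor

namespace Groth.Agent.S1223

open TensorProduct FlatCA

attribute [local instance] Algebra.TensorProduct.rightAlgebra

/-- In a domain, the only associated prime of the ring as a module over itself is `⊥`. -/
theorem eq_bot_of_mem_associatedPrimes_self {F : Type u} [CommRing F] [IsDomain F] {I : Ideal F}
    (hI : I ∈ associatedPrimes F F) : I = ⊥ := by
  obtain ⟨hprime, x, hx⟩ := hI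
  by_cases hx0 : x = 0
  · subst hx0
    exfalso
    apply hprime.ne_top
    rw [hx, Ideal.radical_eq_top]
    rw [eq_top_iff]
    intro a _
    rw [Submodule.mem_colon_singleton]
    simp
  · rw [hx]
    have : Submodule.colon (⊥ : Submodule F F) {x} = ⊥ := by
      rw [eq_bot_iff]
      intro a ha
      rw [Submodule.mem_colon_singleton, Submodule.mem_bot, smul_eq_mul, mul_eq_zero] at ha
      rcases ha with ha | ha
      · exact ha
      · exact absurd ha hx0
    rw [this]
    exact Ideal.isRadical_bot.radical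

/-- If `P` extends to zero in the fibre ring over `t'`, then `P` is contained in every prime of
`B'` lying over `t'`. -/
theorem le_of_fiberIdeal_eq_bot {A' B' : Type u} [CommRing A'] [CommRing B'] [Algebra A' B']
    (t' : Ideal A') [t'.IsPrime] (P : Ideal B') (hP : fiberIdeal t' P = ⊥)
    (ξ : Ideal B') [ξ.IsPrime] [hξ : ξ.LiesOver t'] : P ≤ ξ := by
  intro b hb
  have h1 : (Algebra.TensorProduct.includeRight (R := A') (A := t'.ResidueField) (B := B')) b = 0 := by
    have : (Algebra.TensorProduct.includeRight (R := A') (A := t'.ResidueField) (B := B')) b ∈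
        fiberIdeal t' P := Ideal.mem_map_of_mem _ hb
    rw [hP] at this
    exact this
  let φ : t'.ResidueField →ₐ[A'] ξ.ResidueField :=
    Ideal.ResidueField.mapₐ t' ξ (Algebra.ofId A' B') hξ.over
  let ψ : B' →ₐ[A'] ξ.ResidueField := IsScalarTower.toAlgHom A' B' ξ.ResidueField
  let Φ : t'.ResidueField ⊗[A'] B' →ₐ[A'] ξ.ResidueField := Algebra.TensorProduct.productMap φ ψ
  have h2 : Φ ((1 : t'.ResidueField) ⊗ₜ[A'] b) = algebraMap B' ξ.ResidueField b := by
    rw [Algebra.TensorProduct.productMap_right_apply]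
    rfl
  have h3 : Φ ((1 : t'.ResidueField) ⊗ₜ[A'] b) = 0 := by
    have : (1 : t'.ResidueField) ⊗ₜ[A'] b = 0 := h1
    rw [this, map_zero]
  rw [h2] at h3
  exact Ideal.algebraMap_residueField_eq_zero.1 h3

/-- If the fibre ring over `t` is a nontrivial ring, there is a prime of `B'` over `t`. -/
theorem exists_prime_liesOver_of_isDomain_fiber {A' B' : Type u} [CommRing A'] [CommRing B']
    [Algebra A' B'] (t : Ideal A') [t.IsPrime] [IsDomain (t.Fiber B')] :
    ∃ η : Ideal B', η.IsPrime ∧ η.LiesOver t := by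
  let ι : B' →+* t.Fiber B' :=
    (Algebra.TensorProduct.includeRight (R := A') (A := t.ResidueField) (B := B')).toRingHom
  refine ⟨(⊥ : Ideal (t.Fiber B')).comap ι, Ideal.comap_isPrime _ _, ⟨?_⟩⟩
  ext a
  rw [Ideal.under_def, Ideal.mem_comap, Ideal.mem_comap, Ideal.mem_bot]
  have h1 : ι (algebraMap A' B' a) = algebraMap t.ResidueField (t.Fiber B')
      (algebraMap A' t.ResidueField a) := by
    show (1 : t.ResidueField) ⊗ₜ[A'] (algebraMap A' B' a) = (algebraMap A' t.ResidueField a) ⊗ₜ[A'] 1
    rw [Algebra.algebraMap_eq_smul_one, Algebra.algebraMap_eq_smul_one, TensorProduct.smul_tmul]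
  rw [h1]
  have hinj : Function.Injective (algebraMap t.ResidueField (t.Fiber B')) :=
    (algebraMap t.ResidueField (t.Fiber B')).injective
  rw [← Ideal.algebraMap_residueField_eq_zero (I := t), ← map_eq_zero_iff _ hinj]

/-- Ring form, X = Spec B affine: a finite type, flat A-algebra B with geometrically integral fibres is
universally pure relative to Spec A. -/
theorem result {A B : Type u} [CommRing A] [CommRing B] [Algebra A B] [Algebra.FiniteType A B] [Module.Flat A B]
    (h : FlatCA.GeomIntegralFibres A B) : FlatCA.IsUnivPure A B B := by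
  intro p hp A' B' N' _ _ _ _ _ _ _ _ _ _ _ _ _ _ f t' t ht' ht P hP himp
  obtain ⟨hpo, hbc, hle, htp, hPt', hass, hno⟩ := himp
  have hgi : FlatCA.GeomIntegralFibres A' B' :=
    Groth.Agent.Lib.Seat6.GeomInt.geomIntegralFibres_of_isPushout h A' B'
  have hdom' : IsDomain (t'.Fiber B') := Groth.Agent.Lib.Seat6.GeomInt.isDomain_fiber hgi t'
  have hdom : IsDomain (t.Fiber B') := Groth.Agent.Lib.Seat6.GeomInt.isDomain_fiber hgi t
  -- the fibre module is the fibre ring
  let e1 : B' ⊗[B] B ≃ₗ[B'] N' := hbc.equiv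
  let e2 : B' ⊗[B] B ≃ₗ[B'] B' := TensorProduct.AlgebraTensorModule.rid B B' B'
  let e3 : N' ≃ₗ[B'] B' := e1.symm.trans e2
  let e4 : (t'.Fiber B') ⊗[B'] N' ≃ₗ[t'.Fiber B'] (t'.Fiber B') ⊗[B'] B' :=
    TensorProduct.AlgebraTensorModule.congr (LinearEquiv.refl _ _) e3
  let e5 : (t'.Fiber B') ⊗[B'] B' ≃ₗ[t'.Fiber B'] (t'.Fiber B') :=
    TensorProduct.AlgebraTensorModule.rid B' (t'.Fiber B') (t'.Fiber B')
  have hass' : fiberIdeal t' P ∈ associatedPrimes (t'.Fiber B') (t'.Fiber B') := by
    have := LinearEquiv.AssociatedPrimes.eq (e4.trans e5)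
    rw [← this]
    exact hass
  have hbot : fiberIdeal t' P = ⊥ := eq_bot_of_mem_associatedPrimes_self hass'
  -- a prime over `t`
  obtain ⟨η, hη, hηt⟩ := exists_prime_liesOver_of_isDomain_fiber (B' := B') t
  -- going down
  have : Module.Flat A' B' := by
    have hsymm : Algebra.IsPushout A A' B B' := Algebra.IsPushout.symm hpo
    exact Module.Flat.isBaseChange A A' B B' hsymm.out
  obtain ⟨ξ, hξη, hξ, hξt'⟩ := Ideal.exists_ideal_le_liesOver_of_le (S := B') η hle
  have hPξ : P ≤ ξ := le_of_fiberIdeal_eq_bot t' P hbot ξ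
  exact hno η (hPξ.trans hξη) hηt

end Groth.Agent.S1223
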