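import Groth.Statements.S12235
import Groth.Agent.Lib.Seat85GeomIrrNorm
import Groth.Agent.Lib.Seat84GeomH0
import Groth.Agent.S1585

set_option autoImplicit false
universe u
open CategoryTheory CategoryTheory.Limits AlgebraicGeometry
open Curves

namespace Groth.Agent.S12235

/-- Let k be a field, X a proper geometrically irreducible curve over k (proper over k, integral, of
dimension one), K/k a field extension and Y_K the normalization of the reduction of X_K (that
reduction is integral). If Y_K is smooth over K then H^0(Y_K, O) = K: the global functions of Y_K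
form a one-dimensional K-vector space. (Stated for proper X; the instance hypotheses on (X_K)_red
always hold.) -/
theorem result (k : Type u) [Field k] (X : Scheme.{u})
    [X.Over (Spec (CommRingCat.of k))] [IsIntegral X] [IsProper (X ↘ (Spec (CommRingCat.of k)))]
    [GeometricallyIrreducible (X ↘ (Spec (CommRingCat.of k)))] (hdim : topologicalKrullDim X = 1)
    (K : Type u) [Field K] [Algebra k K] [IsIntegral ((Curv2.bc k X K).nilradical).subscheme]
    [QuasiCompact ((((Curv2.bc k X K).nilradical).subscheme).fromSpecStalk (genericPoint ((Curv2.bc k X K).nilradical).subscheme))]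
    [QuasiSeparated ((((Curv2.bc k X K).nilradical).subscheme).fromSpecStalk (genericPoint ((Curv2.bc k X K).nilradical).subscheme))]
    (hsm : Smooth (Curv2.normalizationι ((Curv2.bc k X K).nilradical).subscheme ≫ ((Curv2.bc k X K).nilradical).subschemeι ≫ Curv2.bcSnd k X K)) :
    letI : (Curv2.normalization ((Curv2.bc k X K).nilradical).subscheme).Over (Spec (CommRingCat.of K)) := ⟨(Curv2.normalizationι ((Curv2.bc k X K).nilradical).subscheme ≫ ((Curv2.bc k X K).nilradical).subschemeι ≫ Curv2.bcSnd k X K)⟩
    Module.finrank K (Coh.HH (Curv2.normalization ((Curv2.bc k X K).nilradical).subscheme) (Coh.structureModule (Curv2.normalization ((Curv2.bc k X K).nilradical).subscheme)) 0) = 1 := by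
  have := hsm
  -- the structure morphism of `X_K`
  have hs_irr : GeometricallyIrreducible (Curv2.bcSnd k X K) :=
    inferInstanceAs (GeometricallyIrreducible (pullback.snd _ _))
  have hs_prop : IsProper (Curv2.bcSnd k X K) :=
    inferInstanceAs (IsProper (pullback.snd _ _))
  -- the reduction
  have hιsurj : Surjective ((Curv2.bc k X K).nilradical).subschemeι :=
    Groth.Agent.Lib.Seat85.GeomIrrNorm.surjective_nilradical_subschemeι _
  have ht_irr : GeometricallyIrreducible
      (((Curv2.bc k X K).nilradical).subschemeι ≫ Curv2.bcSnd k X K) :=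
    Groth.Agent.Lib.Seat85.GeomIrrNorm.geometricallyIrreducible_comp_of_closedImmersion_surjective
      _ _
  have ht_prop : IsProper (((Curv2.bc k X K).nilradical).subschemeι ≫ Curv2.bcSnd k X K) :=
    inferInstance
  -- the normalization
  let instZ : (((Curv2.bc k X K).nilradical).subscheme).Over (Spec (CommRingCat.of K)) :=
    ⟨((Curv2.bc k X K).nilradical).subschemeι ≫ Curv2.bcSnd k X K⟩
  have hlft : LocallyOfFiniteType ((((Curv2.bc k X K).nilradical).subscheme) ↘
      (Spec (CommRingCat.of K))) := by
    change LocallyOfFiniteType (((Curv2.bc k X K).nilradical).subschemeι ≫ Curv2.bcSnd k X K)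
    infer_instance
  obtain ⟨hfin, -, ⟨V, hVne, hVi⟩, hint, -⟩ :=
    Groth.Agent.S1585.result K (((Curv2.bc k X K).nilradical).subscheme)
  have := hfin
  have := hint
  have := hVi
  have hg_irr : GeometricallyIrreducible
      (Curv2.normalizationι ((Curv2.bc k X K).nilradical).subscheme ≫
        ((Curv2.bc k X K).nilradical).subschemeι ≫ Curv2.bcSnd k X K) :=
    Groth.Agent.Lib.Seat85.GeomIrrNorm.geometricallyIrreducible_comp_of_isIso_restrict K
      (Curv2.normalizationι ((Curv2.bc k X K).nilradical).subscheme)
      (((Curv2.bc k X K).nilradical).subschemeι ≫ Curv2.bcSnd k X K) V hVne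
  have hg_conn : GeometricallyConnected
      (Curv2.normalizationι ((Curv2.bc k X K).nilradical).subscheme ≫
        ((Curv2.bc k X K).nilradical).subschemeι ≫ Curv2.bcSnd k X K) :=
    Groth.Agent.Lib.Seat85.GeomIrrNorm.geometricallyConnected_of_geometricallyIrreducible _
  have hg_red : GeometricallyReduced
      (Curv2.normalizationι ((Curv2.bc k X K).nilradical).subscheme ≫
        ((Curv2.bc k X K).nilradical).subschemeι ≫ Curv2.bcSnd k X K) :=
    Groth.Agent.Lib.Seat85.GeomIrrNorm.geometricallyReduced_of_smooth K _
  have hg_prop : IsProper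
      (Curv2.normalizationι ((Curv2.bc k X K).nilradical).subscheme ≫
        ((Curv2.bc k X K).nilradical).subschemeι ≫ Curv2.bcSnd k X K) :=
    inferInstance
  exact @Groth.Agent.Lib.Seat84.GeomH0.finrank_HH_zero_eq_one K _
    (Curv2.normalization ((Curv2.bc k X K).nilradical).subscheme)
    ⟨(Curv2.normalizationι ((Curv2.bc k X K).nilradical).subscheme ≫
      ((Curv2.bc k X K).nilradical).subschemeι ≫ Curv2.bcSnd k X K)⟩ hg_prop hg_red hg_conn

end Groth.Agent.S12235
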