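import Groth.Statements.S12240
import Groth.Agent.Lib.Seat85NormRedBC
import Groth.Agent.S1585

set_option autoImplicit false
universe u
open CategoryTheory CategoryTheory.Limits AlgebraicGeometry
open Curves

namespace Groth.Agent.S12240

/-- Stated over the field where the nonsingular projective model is already smooth. Let K be a field and
X a proper geometrically irreducible curve over K (proper over K, integral, of dimension one) whose
normalization Y = X^ν is smooth over K. Then for every field extension Ω of K the base change Y_Ω,
together with its map to X_Ω, is the normalization of the reduction (X_Ω)_red: there is an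
isomorphism from Y_Ω to the normalization of (X_Ω)_red whose composite with the normalization map
and the closed immersion (X_Ω)_red → X_Ω is the base change Y_Ω → X_Ω of Y → X. (Applied to the
reduction of the base change of a geometrically irreducible proper curve to a field over which its
nonsingular projective model becomes smooth, this says that the smooth model is compatible with all
further field extensions; the instance hypotheses on (X_Ω)_red — integrality and the two conditions
needed to form the normalization — always hold.) -/
theorem result (K : Type u) [Field K] (X : Scheme.{u})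
    [X.Over (Spec (CommRingCat.of K))] [IsIntegral X] [IsProper (X ↘ (Spec (CommRingCat.of K)))]
    [GeometricallyIrreducible (X ↘ (Spec (CommRingCat.of K)))] (hdim : topologicalKrullDim X = 1)
    [QuasiCompact (X.fromSpecStalk (genericPoint X))] [QuasiSeparated (X.fromSpecStalk (genericPoint X))]
    (hsm : Smooth (Curv2.normalizationι X ≫ (X ↘ (Spec (CommRingCat.of K)))))
    (Ω : Type u) [Field Ω] [Algebra K Ω]
    [IsIntegral ((Curv2.bc K X Ω).nilradical).subscheme]
    [QuasiCompact ((((Curv2.bc K X Ω).nilradical).subscheme).fromSpecStalk (genericPoint ((Curv2.bc K X Ω).nilradical).subscheme))]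
    [QuasiSeparated ((((Curv2.bc K X Ω).nilradical).subscheme).fromSpecStalk (genericPoint ((Curv2.bc K X Ω).nilradical).subscheme))] :
    ∃ e : Limits.pullback (Curv2.normalizationι X ≫ (X ↘ (Spec (CommRingCat.of K))))
          (Spec.map (CommRingCat.ofHom (algebraMap K Ω))) ≅
        Curv2.normalization ((Curv2.bc K X Ω).nilradical).subscheme,
      e.hom ≫ Curv2.normalizationι ((Curv2.bc K X Ω).nilradical).subscheme ≫ ((Curv2.bc K X Ω).nilradical).subschemeι =
        Limits.pullback.map (Curv2.normalizationι X ≫ (X ↘ (Spec (CommRingCat.of K))))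
          (Spec.map (CommRingCat.ofHom (algebraMap K Ω))) (X ↘ (Spec (CommRingCat.of K)))
          (Spec.map (CommRingCat.ofHom (algebraMap K Ω))) (Curv2.normalizationι X) (𝟙 _) (𝟙 _)
          (Category.comp_id _) ((Category.comp_id _).trans (Category.id_comp _).symm) := by
  obtain ⟨hfin, -, ⟨V, ⟨x, hxV⟩, hVi⟩, hint, -⟩ := Groth.Agent.S1585.result K X
  have := hfin
  have := hint
  have := hVi
  have := hsm
  -- notation
  have hΩflat : Flat (Spec.map (CommRingCat.ofHom (algebraMap K Ω))) := by
    rw [HasRingHomProperty.Spec_iff (P := @Flat), CommRingCat.hom_ofHom,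
      RingHom.flat_algebraMap_iff]
    infer_instance
  have := hΩflat
  have hΩsurj : Surjective (Spec.map (CommRingCat.ofHom (algebraMap K Ω))) := by
    constructor
    intro y
    have : Nonempty (Spec (CommRingCat.of Ω)) := inferInstanceAs (Nonempty (PrimeSpectrum Ω))
    obtain ⟨z⟩ := ‹Nonempty (Spec (CommRingCat.of Ω))›
    have : Subsingleton (Spec (CommRingCat.of K)) :=
      inferInstanceAs (Subsingleton (PrimeSpectrum K))
    exact ⟨z, Subsingleton.elim _ _⟩
  have := hΩsurj
  -- the pullback square
  have sq : IsPullback
      (pullback.fst (Curv2.normalizationι X ≫ (X ↘ (Spec (CommRingCat.of K))))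
        (Spec.map (CommRingCat.ofHom (algebraMap K Ω))))
      (Limits.pullback.map (Curv2.normalizationι X ≫ (X ↘ (Spec (CommRingCat.of K))))
          (Spec.map (CommRingCat.ofHom (algebraMap K Ω))) (X ↘ (Spec (CommRingCat.of K)))
          (Spec.map (CommRingCat.ofHom (algebraMap K Ω))) (Curv2.normalizationι X) (𝟙 _) (𝟙 _)
          (Category.comp_id _) ((Category.comp_id _).trans (Category.id_comp _).symm))
      (Curv2.normalizationι X)
      (pullback.fst (X ↘ (Spec (CommRingCat.of K)))
        (Spec.map (CommRingCat.ofHom (algebraMap K Ω)))) := by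
    refine IsPullback.of_bot ?_ (pullback.lift_fst _ _ _).symm (IsPullback.of_hasPullback (X ↘ (Spec (CommRingCat.of K)))
      (Spec.map (CommRingCat.ofHom (algebraMap K Ω))))
    have h1 : Limits.pullback.map (Curv2.normalizationι X ≫ (X ↘ (Spec (CommRingCat.of K))))
          (Spec.map (CommRingCat.ofHom (algebraMap K Ω))) (X ↘ (Spec (CommRingCat.of K)))
          (Spec.map (CommRingCat.ofHom (algebraMap K Ω))) (Curv2.normalizationι X) (𝟙 _) (𝟙 _)
          (Category.comp_id _) ((Category.comp_id _).trans (Category.id_comp _).symm) ≫
        pullback.snd (X ↘ (Spec (CommRingCat.of K)))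
          (Spec.map (CommRingCat.ofHom (algebraMap K Ω))) =
        pullback.snd (Curv2.normalizationι X ≫ (X ↘ (Spec (CommRingCat.of K))))
          (Spec.map (CommRingCat.ofHom (algebraMap K Ω))) :=
      (pullback.lift_snd _ _ _).trans (Category.comp_id _)
    rw [h1]
    exact IsPullback.of_hasPullback _ _
  -- normality of the base change
  have hY' : Pi1.IsNormalScheme
      (pullback (Curv2.normalizationι X ≫ (X ↘ (Spec (CommRingCat.of K))))
        (Spec.map (CommRingCat.ofHom (algebraMap K Ω)))) := fun y =>
    Groth.Agent.Lib.Seat85.NormSmooth.normal_stalk_of_smooth_over_field (CommRingCat.of Ω)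
      (Field.toIsField Ω)
      (pullback.snd (Curv2.normalizationι X ≫ (X ↘ (Spec (CommRingCat.of K))))
        (Spec.map (CommRingCat.ofHom (algebraMap K Ω)))) y
  have hV : ((Curv2.normalizationι X ⁻¹ᵁ V : (Curv2.normalization X).Opens) :
      Set (Curv2.normalization X)).Nonempty :=
    ⟨((inv (Curv2.normalizationι X ∣_ V)) ⟨x, hxV⟩).1, ((inv (Curv2.normalizationι X ∣_ V)) ⟨x, hxV⟩).2⟩
  have hVp : ((pullback.fst (X ↘ (Spec (CommRingCat.of K)))
      (Spec.map (CommRingCat.ofHom (algebraMap K Ω))) ⁻¹ᵁ V : (Curv2.bc K X Ω).Opens) :
      Set (Curv2.bc K X Ω)).Nonempty := by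
    obtain ⟨x', hx'⟩ := (pullback.fst (X ↘ (Spec (CommRingCat.of K)))
      (Spec.map (CommRingCat.ofHom (algebraMap K Ω)))).surjective x
    exact ⟨x', by show _ ∈ V; rw [hx']; exact hxV⟩
  obtain ⟨e, he⟩ := Groth.Agent.Lib.Seat85.NormRedBC.exists_iso_normalization_red sq hY' V hV hVp
  exact ⟨e, he⟩

end Groth.Agent.S12240
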