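import Groth.Statements.S12256
import Groth.Agent.Lib.Seat36NodeDef
import Groth.Agent.Lib.Seat36NodeSquare
import Groth.Agent.Lib.Helper19Prorep

set_option autoImplicit false
universe u
open CategoryTheory CategoryTheory.Limits AlgebraicGeometry
open Deform
open Groth.Agent.Lib.Seat36

namespace Groth.Agent.S12256

/-- Let k be an algebraically closed field and C = Spec k[x, y]/(xy) the union of the two coordinate
axes in the affine plane. Then the local moduli functor Def_C, of isomorphism classes of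
deformations of C over local Artinian k-algebras with residue field k, is not prorepresentable by
any complete local Noetherian k-algebra with residue field k. -/
theorem result
    {k : Type u} [Field k] [IsAlgClosed k] :
    ¬ ArtFun.IsProrepresentable (ArtFun.defFunctor (Λ := k)
      (Spec (CommRingCat.of (MvPolynomial (Fin 2) k ⧸
        Ideal.span {(MvPolynomial.X 0 * MvPolynomial.X 1 : MvPolynomial (Fin 2) k)})))
      (Spec.map (CommRingCat.ofHom (algebraMap k (MvPolynomial (Fin 2) k ⧸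
        Ideal.span {(MvPolynomial.X 0 * MvPolynomial.X 1 : MvPolynomial (Fin 2) k)}))))) := by
  classical
  rintro ⟨R⟩
  have hLE := Groth.Agent.Lib.Helper19.isLeftExact_of_isUniversal R.family R.universal
  have hinj := (hLE (NodeSquare.p₁ k) (NodeSquare.p₂ k) (NodeSquare.f k) (NodeSquare.f k)
    (NodeSquare.isFibreProd_PB k)).1
  rw [Groth.Agent.Lib.Helper19.cmp_injective_iff] at hinj
  -- residues
  have hb₁ := NodeSquare.res_b₁ k
  have hb₂ := NodeSquare.res_b₂ k
  have hs := NodeSquare.res_sT k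
  have hs' := NodeSquare.res_sT' k
  -- the two deformations over the fibre product
  have e1 : (ArtFun.defFunctor (Λ := k) _ _).map (NodeSquare.p₁ k)
        (NodeDef.nodeDef (NodeSquare.PB k) (NodeSquare.b₁ k) hb₁).cl =
      (ArtFun.defFunctor (Λ := k) _ _).map (NodeSquare.p₁ k)
        (NodeDef.nodeDef (NodeSquare.PB k) (NodeSquare.b₂ k) hb₂).cl := by
    rw [ArtFun.defFunctor_map_cl, ArtFun.defFunctor_map_cl]
    exact (DefAlg.cl_eq_of_iso (NodeDef.nodeBaseChange (NodeSquare.p₁ k) (NodeSquare.b₁ k) hb₁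
      (NodeSquare.sT k) (NodeSquare.p₁_b₁' k) hs)).trans
      (DefAlg.cl_eq_of_iso (NodeDef.nodeBaseChange (NodeSquare.p₁ k)
      (NodeSquare.b₂ k) hb₂ (NodeSquare.sT k) (NodeSquare.p₁_b₂' k) hs)).symm
  have e2 : (ArtFun.defFunctor (Λ := k) _ _).map (NodeSquare.p₂ k)
        (NodeDef.nodeDef (NodeSquare.PB k) (NodeSquare.b₁ k) hb₁).cl =
      (ArtFun.defFunctor (Λ := k) _ _).map (NodeSquare.p₂ k)
        (NodeDef.nodeDef (NodeSquare.PB k) (NodeSquare.b₂ k) hb₂).cl := by
    rw [ArtFun.defFunctor_map_cl, ArtFun.defFunctor_map_cl]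
    exact (DefAlg.cl_eq_of_iso (NodeDef.nodeBaseChange (NodeSquare.p₂ k) (NodeSquare.b₁ k) hb₁
      (NodeSquare.sT k) (NodeSquare.p₂_b₁' k) hs)).trans
      (DefAlg.cl_eq_of_iso ((NodeDef.nodeBaseChange (NodeSquare.p₂ k)
        (NodeSquare.b₂ k) hb₂ (NodeSquare.sT k + NodeSquare.dT k * NodeSquare.sT k)
        (NodeSquare.p₂_b₂' k) hs').trans
      (NodeDef.nodeScale (NodeSquare.T k) (1 + NodeSquare.dT k) (1 - NodeSquare.dT k)
        (NodeSquare.sT k) (NodeSquare.sT k + NodeSquare.dT k * NodeSquare.sT k)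
        (NodeSquare.sT_add k) (NodeSquare.one_sub_dT_mul k) (NodeSquare.res_one_add_dT k) hs hs'))).symm
  obtain ⟨E⟩ := DefAlg.nonempty_iso_of_cl_eq (hinj _ _ e1 e2)
  -- base change to the dual numbers
  have h0 : (ArtFun.Art.dual k k).res (0 : ArtFun.Art.dual k k) = 0 := map_zero _
  have hε : (ArtFun.Art.dual k k).res (DualNumber.eps : ArtFun.Art.dual k k) = 0 := rfl
  have E0 : (NodeDef.nodeDef (ArtFun.Art.dual k k) (0 : ArtFun.Art.dual k k) h0).Iso
      (NodeDef.nodeDef (ArtFun.Art.dual k k) (DualNumber.eps : ArtFun.Art.dual k k) hε) :=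
    (NodeDef.nodeBaseChange (NodeSquare.φ k) (NodeSquare.b₁ k) hb₁ 0 (NodeSquare.φ_b₁' k) h0).symm.trans
      ((E.baseChange (NodeSquare.φ k)).trans
        (NodeDef.nodeBaseChange (NodeSquare.φ k) (NodeSquare.b₂ k) hb₂ DualNumber.eps
          (NodeSquare.φ_b₂' k) hε))
  exact NodeDef.not_iso_of_sq_zero (ArtFun.Art.dual k k) DualNumber.eps hε (NodeSquare.eps_ne_zero k)
    (NodeSquare.dual_sq_zero k) h0 E0

end Groth.Agent.S12256
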