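import Groth.Statements.S1246
import Groth.Agent.Lib.Seat6ImpBC

set_option autoImplicit false
set_option linter.style.haveILetI false
universe u
open FlatMor

namespace Groth.Agent.S1246

open TensorProduct Groth.Agent.Lib.Seat6.ImpBC Groth.Agent.Lib.Seat6.ImpDesc in
attribute [local instance] Algebra.TensorProduct.rightAlgebra in
theorem isEtaleNhd_congr {A R' : Type u} [CommRing A] [CommRing R'] [Algebra A R'] (p : Ideal A)
    [p.IsPrime] {q₁ q₂ : Ideal R'} [q₁.IsPrime] [q₂.IsPrime] (h : q₁ = q₂)
    (h1 : FlatCA.IsEtaleNhd A R' p q₁) : FlatCA.IsEtaleNhd A R' p q₂ := by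
  subst h
  exact h1

open TensorProduct Groth.Agent.Lib.Seat6.ImpBC Groth.Agent.Lib.Seat6.ImpDesc in
attribute [local instance] Algebra.TensorProduct.rightAlgebra in
/-- Ring form, X = Spec B affine: let B be a finite type A-algebra, N a finite B-module and p a prime of
A. If there is an impurity of N above p whose base change A → A' is of finite type and quasi-finite
at the point t, then there is an impurity of N above p for which (A', t) is an elementary étale ring
map at p. -/
theorem result {A B : Type u} [CommRing A] [CommRing B] [Algebra A B] [Algebra.FiniteType A B]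
    (N : Type u) [AddCommGroup N] [Module B N] [Module.Finite B N] (p : Ideal A) [p.IsPrime]
    (h : FlatCA.HasImpurity A B N p (fun A' _ _ t => ∃ _ : t.IsPrime, Algebra.FiniteType A A' ∧ Algebra.QuasiFiniteAt A t)) :
    FlatCA.HasImpurity A B N p (fun A' _ _ t => ∃ _ : t.IsPrime, FlatCA.IsEtaleNhd A A' p t) := by
  classical
  obtain ⟨A', B', N', iA', iB', iAA', iBB', iA'B', iAB', tow1, tow2, iN', iB'N', iBN', towN, iA'N',
    towN', f, t', t, ht', htp, P, hP, himp, htp', hft, hqf⟩ := h
  haveI := hft
  haveI : Algebra.QuasiFiniteAt A t := hqf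
  obtain ⟨P₀, hP₀, himp₀⟩ := isImpurity_std N p f t' t P himp
  have hle : t' ≤ t := himp₀.2.2.1
  haveI htover : t.LiesOver p := himp₀.2.2.2.1
  obtain ⟨R', iR', iAR', hEt, PR, hPR, hPRp, e, he, P', hP', hP'PR, hP'q, heP', hres, hfin, huniq⟩ :=
    Algebra.exists_etale_isIdempotentElem_forall_liesOver_eq p t
  haveI := hPR
  haveI := hP'
  haveI := hP'PR
  haveI := hPRp
  -- the localization at the idempotent
  let G₂ := Localization.Away e
  haveI towAA'G₂ : IsScalarTower A A' G₂ := IsScalarTower.of_algebraMap_eq (fun a => by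
    rw [IsScalarTower.algebraMap_apply A' (R' ⊗[A] A') G₂,
      IsScalarTower.algebraMap_apply A (R' ⊗[A] A') G₂]
    congr 1
    rw [Algebra.TensorProduct.algebraMap_apply, Algebra.algebraMap_eq_smul_one,
      Algebra.algebraMap_eq_smul_one (A := A')]
    change (a • (1 : R')) ⊗ₜ[A] (1 : A') = (1 : R') ⊗ₜ[A] (a • (1 : A'))
    rw [TensorProduct.smul_tmul])
  have hdisj : Disjoint (Submonoid.powers e : Set (R' ⊗[A] A')) ↑P' := by
    rwa [Ideal.disjoint_powers_iff_notMem_of_isPrime]
  set T : Ideal G₂ := P'.map (algebraMap (R' ⊗[A] A') G₂) with hT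
  haveI hTprime : T.IsPrime := IsLocalization.isPrime_of_isPrime_disjoint (.powers e) _ _ hP' hdisj
  haveI hTP' : T.LiesOver P' := IsLocalization.liesOver_map_of_isPrime_disjoint (.powers e) _ hdisj
  haveI hTt : T.LiesOver t := by
    constructor
    rw [← hP'q, hTP'.over, Ideal.under_def, Ideal.under_def, Ideal.comap_comap]
    rfl
  -- flatness and going down
  haveI : Module.Flat A R' := inferInstance
  haveI hpoR : Algebra.IsPushout A A' R' (R' ⊗[A] A') := inferInstance
  haveI : Module.Flat A' (R' ⊗[A] A') := Module.Flat.isBaseChange (R := A) (S := A') (M := R')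
    (R' ⊗[A] A') hpoR.out
  haveI : Module.Flat A' G₂ := Module.Flat.trans A' (R' ⊗[A] A') G₂
  -- descent along the finite map `R' → G₂`
  haveI : Module.Finite R' G₂ := hfin
  haveI : Algebra.IsIntegral R' G₂ := inferInstance
  have hTR' : T.comap (algebraMap R' G₂) = PR := by
    rw [IsScalarTower.algebraMap_eq R' (R' ⊗[A] A') G₂, ← Ideal.comap_comap]
    have h1 : T.comap (algebraMap (R' ⊗[A] A') G₂) = P' := hTP'.over.symm
    rw [h1]
    exact hP'PR.over.symm
  have huniq' : ∀ T₂ : Ideal G₂, T₂.IsPrime →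
      T₂.comap (algebraMap R' G₂) = T.comap (algebraMap R' G₂) → T₂ = T := by
    intro T₂ hT₂ hcomap
    haveI := hT₂
    set P'' : Ideal (R' ⊗[A] A') := T₂.comap (algebraMap (R' ⊗[A] A') G₂) with hP''
    haveI : P''.IsPrime := Ideal.comap_isPrime _ _
    have h1 : P''.LiesOver PR := by
      constructor
      rw [Ideal.under_def, hP'', Ideal.comap_comap, ← IsScalarTower.algebraMap_eq R' (R' ⊗[A] A') G₂,
        hcomap, hTR']
    have h2 : e ∉ P'' := by
      intro hmem
      have hu : IsUnit (algebraMap (R' ⊗[A] A') G₂ e) := IsLocalization.Away.algebraMap_isUnit e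
      exact hT₂.ne_top (Ideal.eq_top_of_isUnit_mem _ hmem hu)
    have h3 : P'' = P' := huniq P'' inferInstance h1 h2
    rw [hT, ← h3, hP'']
    exact (IsLocalization.map_comap (.powers e) G₂ T₂).symm
  haveI : Algebra.HasGoingDown A' G₂ := inferInstance
  obtain ⟨τ', hτ', hp2, P₃, hP₃, key⟩ :=
    exists_isImpurity_transfer N p R' G₂ t' t P₀ himp₀ T huniq'
  have hnhd : FlatCA.IsEtaleNhd A R' p (T.comap (algebraMap R' G₂)) :=
    isEtaleNhd_congr p hTR'.symm ⟨hEt, hPRp, hres⟩
  exact ⟨R', R' ⊗[A] B, (R' ⊗[A] B) ⊗[B] N, inferInstance, inferInstance, inferInstance,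
    inferInstance, inferInstance, inferInstance, inferInstance, inferInstance, inferInstance,
    inferInstance, inferInstance, inferInstance, inferInstance, inferInstance,
    TensorProduct.mk B (R' ⊗[A] B) N 1, τ', T.comap (algebraMap R' G₂), hτ', hp2, P₃, hP₃, key,
    hp2, hnhd⟩

end Groth.Agent.S1246
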