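import Groth.Statements.S1226
import Groth.Agent.Lib.Seat6ImpRebase
import Groth.Agent.S1246

set_option autoImplicit false
set_option linter.style.haveILetI false
universe u
open FlatMor

namespace Groth.Agent.S1226

open Groth.Agent.Lib.Seat6.ImpRebase in
/-- Ring form, X = Spec B affine: let B be a finite type A-algebra, N a finite B-module and p a prime of
A; let A' be an A-algebra with a prime p' over p such that A' is of finite type over A and
quasi-finite at p', and let B', N' be the base changes of B, N. If N is pure along the fibre over p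
then N' is pure along the fibre over p'. -/
theorem result {A B : Type u} [CommRing A] [CommRing B] [Algebra A B] [Algebra.FiniteType A B]
    (N : Type u) [AddCommGroup N] [Module B N] [Module.Finite B N] (p : Ideal A) [p.IsPrime]
    (A' B' N' : Type u) [CommRing A'] [CommRing B'] [Algebra A A'] [Algebra B B'] [Algebra A' B'] [Algebra A B']
    [IsScalarTower A B B'] [IsScalarTower A A' B'] [Algebra.IsPushout A B A' B']
    [AddCommGroup N'] [Module B' N'] [Module B N'] [IsScalarTower B B' N'] (f : N →ₗ[B] N') (hf : IsBaseChange B' f)
    (p' : Ideal A') [p'.IsPrime] [p'.LiesOver p] [Algebra.FiniteType A A'] [Algebra.QuasiFiniteAt A p']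
    (h : FlatCA.IsPureAlong A B N p) : FlatCA.IsPureAlong A' B' N' p' := by
  intro A'' B'' N'' _ _ _ _ _ _ _ _ _ _ _ _ _ _ f'' t' t _ _ P _ hnhd himp
  obtain ⟨hEt, htp', -⟩ := hnhd
  haveI := hEt
  haveI := htp'
  -- the composed structures over `A`, `B`
  letI algAA'' : Algebra A A'' := ((algebraMap A' A'').comp (algebraMap A A')).toAlgebra
  haveI : IsScalarTower A A' A'' := IsScalarTower.of_algebraMap_eq (fun _ => rfl)
  letI algBB'' : Algebra B B'' := ((algebraMap B' B'').comp (algebraMap B B')).toAlgebra
  haveI : IsScalarTower B B' B'' := IsScalarTower.of_algebraMap_eq (fun _ => rfl)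
  letI algAB'' : Algebra A B'' := ((algebraMap A' B'').comp (algebraMap A A')).toAlgebra
  haveI : IsScalarTower A A' B'' := IsScalarTower.of_algebraMap_eq (fun _ => rfl)
  haveI : IsScalarTower A A'' B'' := IsScalarTower.of_algebraMap_eq (fun a => by
    change algebraMap A' B'' (algebraMap A A' a) = algebraMap A'' B'' (algebraMap A' A'' (algebraMap A A' a))
    rw [← IsScalarTower.algebraMap_apply A' A'' B''])
  haveI : IsScalarTower A B' B'' := IsScalarTower.of_algebraMap_eq (fun a => by
    change algebraMap A' B'' (algebraMap A A' a) = algebraMap B' B'' (algebraMap A B' a)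
    rw [IsScalarTower.algebraMap_apply A A' B', ← IsScalarTower.algebraMap_apply A' B' B''])
  haveI : IsScalarTower A B B'' := IsScalarTower.of_algebraMap_eq (fun a => by
    change algebraMap A B'' a = algebraMap B' B'' (algebraMap B B' (algebraMap A B a))
    rw [← IsScalarTower.algebraMap_apply A B B', ← IsScalarTower.algebraMap_apply A B' B''])
  letI modBN'' : Module B N'' := Module.compHom N'' (algebraMap B B')
  haveI : IsScalarTower B B' N'' := ⟨fun b b' n => by
    change (b • b') • n = algebraMap B B' b • (b' • n)
    rw [Algebra.smul_def, mul_smul]⟩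
  haveI : IsScalarTower B B'' N'' := ⟨fun b b'' n => by
    change (b • b'') • n = algebraMap B B' b • (b'' • n)
    rw [Algebra.smul_def, mul_smul]
    change algebraMap B' B'' (algebraMap B B' b) • (b'' • n) = _
    rw [algebraMap_smul]⟩
  have himp2 := isImpurity_rebase N p A' B' N' f hf p' A'' B'' N'' f'' t' t P himp
  -- finiteness properties of `A → A''`
  haveI : Algebra.FiniteType A' A'' := inferInstance
  haveI : Algebra.FiniteType A A'' := Algebra.FiniteType.trans (S := A') inferInstance inferInstance
  haveI : Algebra.QuasiFinite A' A'' := inferInstance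
  haveI : Algebra.QuasiFiniteAt A t := quasiFiniteAt_trans p' t
  have h2 : FlatCA.HasImpurity A B N p
      (fun A' _ _ t => ∃ _ : t.IsPrime, Algebra.FiniteType A A' ∧ Algebra.QuasiFiniteAt A t) :=
    ⟨A'', B'', N'', inferInstance, inferInstance, inferInstance, inferInstance, inferInstance,
      inferInstance, inferInstance, inferInstance, inferInstance, inferInstance, inferInstance,
      inferInstance, inferInstance, inferInstance, _, t', t, inferInstance, inferInstance, P,
      inferInstance, himp2, inferInstance, inferInstance, inferInstance⟩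
  obtain ⟨A₁, B₁, N₁, iA', iB', iAA', iBB', iA'B', iAB', tow1, tow2, iN', iB'N', iBN', towN, iA'N',
    towN', f₁, t₁', t₁, ht', htp, P₁, hP₁, himp₁, htp₁, hnhd₁⟩ := Groth.Agent.S1246.result N p h2
  exact h A₁ B₁ N₁ f₁ t₁' t₁ P₁ hnhd₁ himp₁

end Groth.Agent.S1226
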