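import Groth.Statements.S12285
import Groth.Agent.Lib.Seat56CotTSnake
import Groth.Agent.Lib.Seat56ExactTransfer

set_option autoImplicit false
universe u w m
open scoped TensorProduct
open DefT

namespace Groth.Agent.S12285

/-- Let A → B → C be ring homomorphisms and M a C-module. Compute T^i(C/B, M), T^i(C/A, M) and T^i(B/A,
M) from the choice-free presentations (every element a variable, every kernel element a relation),
and let T^i(C/B, M) → T^i(C/A, M) and T^i(C/A, M) → T^i(B/A, M) be the maps induced by the morphisms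
of presentations given by A → B over the identity of C and by B → C over the identity of A. Then
T^0(C/B, M) → T^0(C/A, M) is injective, the sequences T^i(C/B, M) → T^i(C/A, M) → T^i(B/A, M) are
exact for i = 0, 1, 2, and there are additive connecting maps δ₀ : T^0(B/A, M) → T^1(C/B, M) and δ₁
: T^1(B/A, M) → T^2(C/B, M) making the nine-term sequence 0 → T^0(C/B) → T^0(C/A) → T^0(B/A) →
T^1(C/B) → T^1(C/A) → T^1(B/A) → T^2(C/B) → T^2(C/A) → T^2(B/A) exact. (The connecting maps are
asserted to exist with this exactness only, and only as additive maps; the published statement is an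
exact sequence of C-modules, with C-linear connecting maps.) -/
theorem result
    (A B C : Type u) [CommRing A] [CommRing B] [CommRing C] [Algebra A B] [Algebra B C] [Algebra A C]
    [IsScalarTower A B C] (M : Type u) [AddCommGroup M] [Module C M] [Module B M] [IsScalarTower B C M] :
    Function.Injective ((CotT.canonHom A C B C).T0pull M) ∧
    Function.Exact ((CotT.canonHom A C B C).T0pull M) ((CotT.canonHom A B A C).T0pull M) ∧
    Function.Exact ((CotT.canonHom A C B C).T1pull M) ((CotT.canonHom A B A C).T1pull M) ∧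
    Function.Exact ((CotT.canonHom A C B C).T2pull M) ((CotT.canonHom A B A C).T2pull M) ∧
    ∃ (δ₀ : CotT.T0 (CotT.canon A B) M →+ CotT.T1 (CotT.canon B C) M)
      (δ₁ : CotT.T1 (CotT.canon A B) M →+ CotT.T2 (CotT.canon B C) M),
      Function.Exact ((CotT.canonHom A B A C).T0pull M) δ₀ ∧ Function.Exact δ₀ ((CotT.canonHom A C B C).T1pull M) ∧
      Function.Exact ((CotT.canonHom A B A C).T1pull M) δ₁ ∧ Function.Exact δ₁ ((CotT.canonHom A C B C).T2pull M) := by
  classical
  let P := CotT.canon A B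
  let Q := CotT.canon B C
  let u : CotT.PresHom (CotT.canon A C) (Q.comp P) := Groth.Agent.Lib.Seat56.CotTIndep.someHom _ _
  let kp := Groth.Agent.Lib.Seat56.CotTTriple.kP P Q
  let kq := Groth.Agent.Lib.Seat56.CotTTriple.kQ P Q
  have hu0 : Function.Bijective (u.T0pull M) := Groth.Agent.Lib.Seat56.CotTIndep.T0pull_bijective u M
  have hu1 : Function.Bijective (u.T1pull M) := Groth.Agent.Lib.Seat56.CotTIndep.T1pull_bijective u M
  have hu2 : Function.Bijective (u.T2pull M) := Groth.Agent.Lib.Seat56.CotTIndep.T2pull_bijective u M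
  have hα0 : ∀ x, (CotT.canonHom A C B C).T0pull M x = u.T0pull M (kq.T0pull M x) := fun x => by
    rw [← Groth.Agent.Lib.Seat56.CotTComp.comp_T0pull]
    exact Groth.Agent.Lib.Seat56.CotTIndep.T0pull_indep _ _ M x
  have hα1 : ∀ x, (CotT.canonHom A C B C).T1pull M x = u.T1pull M (kq.T1pull M x) := fun x => by
    rw [← Groth.Agent.Lib.Seat56.CotTComp.comp_T1pull]
    exact Groth.Agent.Lib.Seat56.CotTIndep.T1pull_indep _ _ M x
  have hα2 : ∀ x, (CotT.canonHom A C B C).T2pull M x = u.T2pull M (kq.T2pull M x) := fun x => by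
    rw [← Groth.Agent.Lib.Seat56.CotTComp.comp_T2pull]
    exact Groth.Agent.Lib.Seat56.CotTIndep.T2pull_indep _ _ M x
  have hβ0 : ∀ y, kp.T0pull M y = (CotT.canonHom A B A C).T0pull M (u.T0pull M y) := fun y => by
    rw [← Groth.Agent.Lib.Seat56.CotTComp.comp_T0pull]
    exact Groth.Agent.Lib.Seat56.CotTIndep.T0pull_indep _ _ M y
  have hβ1 : ∀ y, kp.T1pull M y = (CotT.canonHom A B A C).T1pull M (u.T1pull M y) := fun y => by
    rw [← Groth.Agent.Lib.Seat56.CotTComp.comp_T1pull]
    exact Groth.Agent.Lib.Seat56.CotTIndep.T1pull_indep _ _ M y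
  have hβ2 : ∀ y, kp.T2pull M y = (CotT.canonHom A B A C).T2pull M (u.T2pull M y) := fun y => by
    rw [← Groth.Agent.Lib.Seat56.CotTComp.comp_T2pull]
    exact Groth.Agent.Lib.Seat56.CotTIndep.T2pull_indep _ _ M y
  refine ⟨?_, ?_, ?_, ?_, ?_⟩
  · intro x y hxy
    rw [hα0, hα0] at hxy
    exact Groth.Agent.Lib.Seat56.CotTSnake.T0pull_kQ_injective P Q M (hu0.1 hxy)
  · exact Groth.Agent.Lib.Seat56.ExactTransfer.transfer_mid hα0 hβ0 hu0
      (Groth.Agent.Lib.Seat56.CotTSnake.exact_T0 P Q M)
  · exact Groth.Agent.Lib.Seat56.ExactTransfer.transfer_mid hα1 hβ1 hu1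
      (Groth.Agent.Lib.Seat56.CotTSnake.exact_T1 P Q M)
  · exact Groth.Agent.Lib.Seat56.ExactTransfer.transfer_mid hα2 hβ2 hu2
      (Groth.Agent.Lib.Seat56.CotTSnake.exact_T2 P Q M)
  · refine ⟨Groth.Agent.Lib.Seat56.CotTSnake.δ0 P Q M, Groth.Agent.Lib.Seat56.CotTSnake.δ1 P Q M, ?_, ?_, ?_, ?_⟩
    · exact Groth.Agent.Lib.Seat56.ExactTransfer.transfer_right hβ0 hu0.2
        (Groth.Agent.Lib.Seat56.CotTSnake.exact_T0_δ0 P Q M)
    · exact Groth.Agent.Lib.Seat56.ExactTransfer.transfer_left hα1 hu1.1 (map_zero _)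
        (Groth.Agent.Lib.Seat56.CotTSnake.exact_δ0_T1 P Q M)
    · exact Groth.Agent.Lib.Seat56.ExactTransfer.transfer_right hβ1 hu1.2
        (Groth.Agent.Lib.Seat56.CotTSnake.exact_T1_δ1 P Q M)
    · exact Groth.Agent.Lib.Seat56.ExactTransfer.transfer_left hα2 hu2.1 (map_zero _)
        (Groth.Agent.Lib.Seat56.CotTSnake.exact_δ1_T2 P Q M)

end Groth.Agent.S12285
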