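import Groth.Statements.S12291
import Groth.Agent.S12285
import Groth.Agent.S12288
import Groth.Agent.Lib.Seat56CotTCI
import Groth.Agent.Lib.Helper28Unmixed

set_option autoImplicit false
universe u w m
open scoped TensorProduct
open DefT

namespace Groth.Agent.S12291

/-- Let k be an algebraically closed field and A a regular local k-algebra with residue field k such
that T^1(A/k, N) = 0 and T^2(A/k, N) = 0 for all A-modules N; let I be a proper ideal of A and B =
A/I. Then B is cut out of A as a local complete intersection — meaning I is generated by some list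
of r elements with r + dim B = dim A, i.e. by dim A − dim B elements — exactly when T^2(B/k, M)
vanishes for each B-module M. The T^i are computed from the choice-free presentations. (The
published statement assumes only that A is a regular local k-algebra with residue field k; its proof
uses the vanishing of T^1(A/k, −) and T^2(A/k, −), which holds when A is essentially of finite type
over k and which this row carries as a hypothesis.) -/
theorem result
    (k A : Type u) [Field k] [IsAlgClosed k] [CommRing A] [IsRegularLocalRing A] [Algebra k A]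
    (hres : Function.Surjective (algebraMap k (IsLocalRing.ResidueField A)))
    (hT : ∀ (N : Type u) [AddCommGroup N] [Module A N],
      Subsingleton (CotT.T1 (CotT.canon k A) N) ∧ Subsingleton (CotT.T2 (CotT.canon k A) N))
    (I : Ideal A) (hI : I ≠ ⊤) :
    (∃ rs : List A, Ideal.ofList rs = I ∧ (rs.length : WithBot ℕ∞) + ringKrullDim (A ⧸ I) = ringKrullDim A) ↔
      ∀ (M : Type u) [AddCommGroup M] [Module (A ⧸ I) M], Subsingleton (CotT.T2 (CotT.canon k (A ⧸ I)) M) := by
  classical
  have hNoeth : IsNoetherianRing A := inferInstance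
  have hloc : IsLocalRing A := inferInstance
  have hsurj : Function.Surjective (algebraMap A (A ⧸ I)) := Ideal.Quotient.mk_surjective
  have hkerI : RingHom.ker (algebraMap A (A ⧸ I)) = I := by
    rw [Ideal.Quotient.algebraMap_eq, Ideal.mk_ker]
  -- the nine-term sequence for `k → A → A/I`
  have nine : ∀ (M : Type u) [AddCommGroup M] [Module (A ⧸ I) M],
      (Subsingleton (CotT.T2 (CotT.canon A (A ⧸ I)) M) → Subsingleton (CotT.T2 (CotT.canon k (A ⧸ I)) M)) ∧
      (Subsingleton (CotT.T2 (CotT.canon k (A ⧸ I)) M) → Subsingleton (CotT.T2 (CotT.canon A (A ⧸ I)) M)) := by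
    intro M _ _
    letI : Module A M := Module.compHom M (algebraMap A (A ⧸ I))
    haveI : IsScalarTower A (A ⧸ I) M := IsScalarTower.of_compHom A (A ⧸ I) M
    obtain ⟨_, _, _, hex2, δ₀, δ₁, _, _, _, hδ1⟩ := Groth.Agent.S12285.result k A (A ⧸ I) M
    obtain ⟨hT1, hT2⟩ := hT M
    constructor
    · intro hsub
      refine ⟨fun x y => ?_⟩
      have hx : x ∈ Set.range ((CotT.canonHom k (A ⧸ I) A (A ⧸ I)).T2pull M) :=
        (hex2 x).mp (Subsingleton.elim _ _)
      have hy : y ∈ Set.range ((CotT.canonHom k (A ⧸ I) A (A ⧸ I)).T2pull M) :=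
        (hex2 y).mp (Subsingleton.elim _ _)
      obtain ⟨x', rfl⟩ := hx
      obtain ⟨y', rfl⟩ := hy
      rw [Subsingleton.elim x' y']
    · intro hsub
      refine ⟨fun x y => ?_⟩
      have hx : x ∈ Set.range δ₁ := (hδ1 x).mp (Subsingleton.elim _ _)
      have hy : y ∈ Set.range δ₁ := (hδ1 y).mp (Subsingleton.elim _ _)
      obtain ⟨x', rfl⟩ := hx
      obtain ⟨y', rfl⟩ := hy
      rw [Subsingleton.elim x' y']
  constructor
  · rintro ⟨rs, hrs, hdim⟩ M _ _
    refine (nine M).1 ?_
    -- `rs` is a regular sequence since `A` is Cohen–Macaulay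
    have hCM : LocCoh.IsCohenMacaulayLocalRing A :=
      Groth.Agent.Lib.Helper5.isCohenMacaulayLocalRing_of_isRegularLocalRing A
    have hmem : ∀ r ∈ rs, r ∈ IsLocalRing.maximalIdeal A := fun r hr =>
      IsLocalRing.le_maximalIdeal hI (hrs ▸ Ideal.subset_span hr)
    have e : (A ⧸ (Ideal.ofList rs • ⊤ : Submodule A A)) ≃ₗ[A] (A ⧸ Ideal.ofList rs) :=
      Submodule.quotEquivOfEq _ _ (by rw [smul_eq_mul, Ideal.mul_top])
    have hdim' : Module.supportDim A (A ⧸ (Ideal.ofList rs • ⊤ : Submodule A A)) + rs.length =
        Module.supportDim A A := by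
      rw [Module.supportDim_self_eq_ringKrullDim, Module.supportDim_eq_of_equiv e,
        Module.supportDim_quotient_eq_ringKrullDim, hrs, add_comm]
      exact hdim
    have hwreg := Groth.Agent.Lib.Helper28.isWeaklyRegular_of_supportDim_add_length_eq rs A
      hCM.supportDim_eq_depth hmem hdim'
    have hreg : RingTheory.Sequence.IsRegular A rs := by
      refine ⟨hwreg, ?_⟩
      rw [hrs, smul_eq_mul, Ideal.mul_top]
      exact fun h => hI h.symm
    exact Groth.Agent.S12288.result A (A ⧸ I) hsurj rs hreg (by rw [hkerI, hrs]) M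
  · intro h
    have hTA : ∀ (M : Type u) [AddCommGroup M] [Module (A ⧸ I) M],
        Subsingleton (CotT.T2 (CotT.canon A (A ⧸ I)) M) := fun M _ _ => (nine M).2 (h M)
    obtain ⟨rs, hrs, hreg⟩ := Groth.Agent.Lib.Seat56.CotTCI.exists_isRegular_of_T2_subsingleton I hI hTA
    refine ⟨rs, hrs, ?_⟩
    have hd := ringKrullDim_add_length_eq_ringKrullDim_of_isRegular rs hreg
    rw [hrs] at hd
    rw [add_comm]
    exact hd

end Groth.Agent.S12291
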