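import Groth.Statements.S12314
-- import your own Groth.Agent.* helpers here

set_option autoImplicit false
universe u
open CategoryTheory CategoryTheory.Limits AlgebraicGeometry MonObj
open SGA7

namespace Groth.Agent.S12314

/-- Let R be a henselian discrete valuation ring with fraction field K and residue field k, Ω a
separable closure of K, W a valuation subring of Ω lying over R, A and C abelian varieties over K
(proper, geometrically integral commutative group schemes), and u : C → A an isogeny, in the form:
there are a homomorphism v : A → C and an integer n > 0 with v ∘ u = n and u ∘ v = n. Let ℓ be a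
prime invertible in k and consider the ℓ-adic Tate modules of the Ω-points of C and A; call an
element fixed when all its components are fixed by the inertia group at W (for such ℓ the fixed part
is the inertia invariants). Then T_ℓ(u) maps the fixed part of T_ℓ(C) into the fixed part of T_ℓ(A)
and induces an isogeny between them: T_ℓ(u) is injective, and n times every fixed element of T_ℓ(A)
is the image of a fixed element of T_ℓ(C). (The case of a prime equal to the residue characteristic,
where the fixed part is defined through the Néron model, is not stated.) -/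
theorem result (R K Ω : Type u) [CommRing R] [IsDomain R] [IsDiscreteValuationRing R] [HenselianLocalRing R]
    [Field K] [Algebra R K] [IsFractionRing R K] [Field Ω] [Algebra K Ω] [IsSepClosure K Ω]
    (W : ValuationSubring Ω) (hW : SGA7.LiesOver K R W)
    (A C : Over (Spec (CommRingCat.of K))) [GrpObj A] [IsCommMonObj A] [IsProper A.hom] [GeometricallyIntegral A.hom]
    [GrpObj C] [IsCommMonObj C] [IsProper C.hom] [GeometricallyIntegral C.hom]
    (u : C ⟶ A) [IsMonHom u] (v : A ⟶ C) [IsMonHom v] (n : ℕ) (hn : 0 < n)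
    (huv : u ≫ v = (𝟙 C) ^ n) (hvu : v ≫ u = (𝟙 A) ^ n)
    (l : ℕ) (hl : l.Prime) (hlp : (l : IsLocalRing.ResidueField R) ≠ 0) :
    (∀ z : AbDual.TateMod C l (SGA7.pt Ω),
      (∀ (τ : Ω ≃ₐ[K] Ω) (m : ℕ), SGA7.IsInertia W τ →
        SGA7.galAct τ (AbDual.TateMod.component C l (SGA7.pt Ω) m z).toMul =
          (AbDual.TateMod.component C l (SGA7.pt Ω) m z).toMul) →
      (∀ (τ : Ω ≃ₐ[K] Ω) (m : ℕ), SGA7.IsInertia W τ →
        SGA7.galAct τ (AbDual.TateMod.component A l (SGA7.pt Ω) m (AbDual.tateMap u z)).toMul =
          (AbDual.TateMod.component A l (SGA7.pt Ω) m (AbDual.tateMap u z)).toMul)) ∧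
    (∀ z : AbDual.TateMod C l (SGA7.pt Ω), AbDual.tateMap (l := l) (T := SGA7.pt Ω) u z = 0 → z = 0) ∧
    (∀ y : AbDual.TateMod A l (SGA7.pt Ω),
      (∀ (τ : Ω ≃ₐ[K] Ω) (m : ℕ), SGA7.IsInertia W τ →
        SGA7.galAct τ (AbDual.TateMod.component A l (SGA7.pt Ω) m y).toMul =
          (AbDual.TateMod.component A l (SGA7.pt Ω) m y).toMul) →
      ∃ z : AbDual.TateMod C l (SGA7.pt Ω),
        (∀ (τ : Ω ≃ₐ[K] Ω) (m : ℕ), SGA7.IsInertia W τ →
        SGA7.galAct τ (AbDual.TateMod.component C l (SGA7.pt Ω) m z).toMul =
          (AbDual.TateMod.component C l (SGA7.pt Ω) m z).toMul) ∧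
        AbDual.tateMap (l := l) (T := SGA7.pt Ω) u z = n • y) := by
  classical
  -- key: the Tate module is torsion free
  have htf : ∀ (z : AbDual.TateMod C l (SGA7.pt Ω)), n • z = 0 → z = 0 := by
    intro z hz
    have hl1 : 1 < l := hl.one_lt
    -- every component is killed by n and by a power of l
    have hcomp : ∀ m, n • (z : ℕ → Additive (SGA7.pt Ω ⟶ C)) m = 0 := by
      intro m
      have := congrArg (fun w : AbDual.TateMod C l (SGA7.pt Ω) => (w : ℕ → Additive (SGA7.pt Ω ⟶ C)) m) hz
      simpa using this
    -- write n = l^a * n' with n' coprime to l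
    obtain ⟨a, n', hn', hnn⟩ := Nat.exists_eq_pow_mul_and_not_dvd (Nat.pos_iff_ne_zero.mp hn) l hl.ne_one
    have hcop : ∀ m, Nat.Coprime (l ^ m) n' := fun m =>
      Nat.Coprime.pow_left m ((Nat.Prime.coprime_iff_not_dvd hl).mpr hn')
    -- each component is killed by l^a
    have hla : ∀ m, (l ^ a) • (z : ℕ → Additive (SGA7.pt Ω ⟶ C)) m = 0 := by
      intro m
      set x := (z : ℕ → Additive (SGA7.pt Ω ⟶ C)) m with hx
      have h1 : (l ^ m) • ((l ^ a) • x) = 0 := by
        rw [smul_comm, AbDual.TateMod.torsion z m, smul_zero]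
      have h2 : n' • ((l ^ a) • x) = 0 := by
        rw [← mul_smul, mul_comm, ← hnn]; exact hcomp m
      -- gcd (l^m) n' = 1
      have hg := hcop m
      have : (1 : ℤ) • ((l ^ a) • x) = 0 := by
        have hb := Nat.Coprime.isCoprime hg
        obtain ⟨s, t, hst⟩ := hb
        rw [← hst, add_smul, mul_smul, mul_smul]
        have e1 : ((l ^ m : ℕ) : ℤ) • ((l ^ a) • x) = 0 := by
          rw [natCast_zsmul]; exact h1
        have e2 : ((n' : ℕ) : ℤ) • ((l ^ a) • x) = 0 := by
          rw [natCast_zsmul]; exact h2
        rw [e1, e2, smul_zero, smul_zero, add_zero]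
      simpa using this
    -- z m = l^a • z (m+a)
    have hshift : ∀ (j m : ℕ), (l ^ j) • (z : ℕ → Additive (SGA7.pt Ω ⟶ C)) (m + j) =
        (z : ℕ → Additive (SGA7.pt Ω ⟶ C)) m := by
      intro j
      induction j with
      | zero => intro m; simp
      | succ j ih =>
        intro m
        rw [pow_succ, mul_smul, ← add_assoc, AbDual.TateMod.compat z (m + j), ih]
    apply AbDual.TateMod.ext
    intro m
    rw [← hshift a m, hla (m + a)]
    rfl
  refine ⟨?_, ?_, ?_⟩
  · intro z hz τ m hτ
    have := hz τ m hτ
    rw [AbDual.tateMap_component]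
    unfold SGA7.galAct at this ⊢
    rw [← Category.assoc, this]
  · intro z hz
    apply htf
    -- n • z = tateMap v (tateMap u z)
    have : AbDual.tateMap (l := l) (T := SGA7.pt Ω) v (AbDual.tateMap (l := l) (T := SGA7.pt Ω) u z) = n • z := by
      apply AbDual.TateMod.ext
      intro m
      change Additive.ofMul ((Additive.ofMul (((z : ℕ → Additive (SGA7.pt Ω ⟶ C)) m).toMul ≫ u)).toMul ≫ v) = _
      rw [toMul_ofMul, Category.assoc, huv, MonObj.comp_pow, Category.comp_id]
      rfl
    rw [← this, hz, map_zero]
  · intro y hy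
    refine ⟨AbDual.tateMap (l := l) (T := SGA7.pt Ω) v y, ?_, ?_⟩
    · intro τ m hτ
      have := hy τ m hτ
      rw [AbDual.tateMap_component]
      unfold SGA7.galAct at this ⊢
      rw [← Category.assoc, this]
    · apply AbDual.TateMod.ext
      intro m
      change Additive.ofMul ((Additive.ofMul (((y : ℕ → Additive (SGA7.pt Ω ⟶ A)) m).toMul ≫ v)).toMul ≫ u) = _
      rw [toMul_ofMul, Category.assoc, hvu, MonObj.comp_pow, Category.comp_id]
      rfl

end Groth.Agent.S12314
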