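import Groth.Statements.S1245
import Groth.Agent.Lib.Seat6ImpDesc
import Groth.Agent.Lib.Seat6ImpPoint

set_option autoImplicit false
set_option linter.style.haveILetI false
universe u
open FlatMor

namespace Groth.Agent.S1245

open TensorProduct Groth.Agent.Lib.Seat6.ImpDesc Groth.Agent.Lib.Seat6.ImpPoint in
attribute [local instance] Algebra.TensorProduct.rightAlgebra in
/-- Ring form, X = Spec B affine, base change rings affine: let B be a finite type A-algebra, N a finite
B-module and p a prime of A. If there is an impurity of N above p, then there is one whose base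
change A → A' is of finite presentation and whose point t is a closed point of the fibre of Spec A'
over p (the extension of t to the fibre ring is maximal). -/
theorem result {A B : Type u} [CommRing A] [CommRing B] [Algebra A B] [Algebra.FiniteType A B]
    (N : Type u) [AddCommGroup N] [Module B N] [Module.Finite B N] (p : Ideal A) [p.IsPrime]
    (h : FlatCA.HasImpurity A B N p (fun _ _ _ _ => True)) :
    FlatCA.HasImpurity A B N p (fun A' _ _ t => Algebra.FinitePresentation A A' ∧ (FlatCA.fiberIdeal p t).IsMaximal) := by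
  classical
  obtain ⟨A', B', N', iA', iB', iAA', iBB', iA'B', iAB', tow1, tow2, iN', iB'N', iBN', towN, iA'N',
    towN', f, t', t, ht', htp, P, hP, himp, -⟩ := h
  have himp' := himp
  obtain ⟨hpo, hbc, hle, htover, hPt', hass, hclos⟩ := himp'
  haveI := hpo
  haveI := htover
  -- the witness over `A'`
  obtain ⟨s, hst, hs⟩ := exists_witness t P hclos
  obtain ⟨π, hπ, τ, hτ, hπτ⟩ := Submodule.mem_sup.1 hs
  have hτ' := mem_span_of_mem_map (A := A) (B := B) t hτ
  obtain ⟨n, c, w, hcw⟩ := Submodule.mem_span_set'.1 hτ'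
  have hw : ∀ m : Fin n, ∃ τm : A', τm ∈ t ∧ algebraMap A' B' τm = (w m : B') := fun m => (w m).2
  choose τm hτm hτmw using hw
  -- the polynomial ring
  obtain ⟨E, iE, iAE, ifp, ift, v, si, τi, hvsi, hvτi⟩ : ∃ (E : Type u) (_ : CommRing E)
      (_ : Algebra A E) (_ : Algebra.FinitePresentation A E) (_ : Algebra.FiniteType A E)
      (v : E →ₐ[A] A') (si : E) (τi : Fin n → E), v si = s ∧ ∀ m, v (τi m) = τm m := by
    refine ⟨MvPolynomial (Option (Fin n)) A, inferInstance, inferInstance, inferInstance,
      inferInstance, MvPolynomial.aeval (fun o : Option (Fin n) => o.elim s τm),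
      MvPolynomial.X none, fun m => MvPolynomial.X (some m), ?_, fun m => ?_⟩
    · rw [MvPolynomial.aeval_X]; rfl
    · rw [MvPolynomial.aeval_X]; rfl
  letI algEA' : Algebra E A' := v.toRingHom.toAlgebra
  haveI towAEA' : IsScalarTower A E A' :=
    IsScalarTower.of_algebraMap_eq (fun a => (v.commutes a).symm)
  have hvE : ∀ x : E, algebraMap E A' x = v x := fun _ => rfl
  have hsi' : algebraMap E A' si = s := by rw [hvE, hvsi]
  have hτi : ∀ m, algebraMap E A' (τi m) = τm m := fun m => by rw [hvE, hvτi]
  -- algebra structure of `B'` over `E`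
  letI algGB : Algebra E B' := ((algebraMap A' B').comp (algebraMap E A')).toAlgebra
  haveI tow1' : IsScalarTower E A' B' := IsScalarTower.of_algebraMap_eq (fun _ => rfl)
  haveI tow2' : IsScalarTower A E B' := IsScalarTower.of_algebraMap_eq (fun a => by
    rw [IsScalarTower.algebraMap_apply E A' B', ← IsScalarTower.algebraMap_apply A E A',
      ← IsScalarTower.algebraMap_apply A A' B'])
  have hGB : ∀ x : E, algebraMap E B' x = algebraMap A' B' (algebraMap E A' x) :=
    fun _ => rfl
  -- the witness over `E`
  set y : E ⊗[A] B := ∑ m, (τi m) ⊗ₜ[A] (c m) with hy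
  have hy_mem : y ∈ (t.comap (algebraMap E A')).map (algebraMap E (E ⊗[A] B)) := by
    rw [hy]
    refine Ideal.sum_mem _ (fun m _ => ?_)
    have h1 : (τi m) ⊗ₜ[A] (c m) =
        algebraMap E (E ⊗[A] B) (τi m) * ((1 : E) ⊗ₜ[A] (c m)) := by
      rw [Algebra.TensorProduct.algebraMap_apply, Algebra.TensorProduct.tmul_mul_tmul, one_mul]
      simp
    rw [h1]
    refine Ideal.mul_mem_right _ _ (Ideal.mem_map_of_mem _ ?_)
    rw [Ideal.mem_comap, hτi]
    exact hτm m
  have hpsi_y : psi (A := A) (B := B) (B' := B') E y = τ := by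
    rw [hy, map_sum, ← hcw]
    refine Finset.sum_congr rfl (fun m _ => ?_)
    rw [psi_tmul, hGB, hτi, hτmw, Algebra.smul_def, mul_comm]
  have hπ_mem : algebraMap E (E ⊗[A] B) si - y ∈
      P.comap (psi (A := A) (B := B) (B' := B') E).toRingHom := by
    rw [Ideal.mem_comap]
    change psi (A := A) (B := B) (B' := B') E (algebraMap E (E ⊗[A] B) si - y) ∈ P
    rw [map_sub, hpsi_y, AlgHom.commutes, hGB, hsi', ← hπτ, add_sub_cancel_right]
    exact hπ
  have hmem : algebraMap E (E ⊗[A] B) si ∈
      (P.comap (psi (A := A) (B := B) (B' := B') E).toRingHom) ⊔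
        (t.comap (algebraMap E A')).map (algebraMap E (E ⊗[A] B)) :=
    Submodule.mem_sup.2 ⟨_, hπ_mem, y, hy_mem, sub_add_cancel _ _⟩
  have hsG : algebraMap E A' si ∉ t := by rw [hsi']; exact hst
  have key := isImpurity_descend N p f t' t P E himp si hsG hmem
  -- move the point to a closed point of the fibre
  haveI htE : (t.comap (algebraMap E A')).IsPrime := Ideal.comap_isPrime _ _
  haveI ht'E : (t'.comap (algebraMap E A')).IsPrime := Ideal.comap_isPrime _ _
  haveI hPE : (P.comap (psi (A := A) (B := B) (B' := B') E).toRingHom).IsPrime :=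
    Ideal.comap_isPrime _ _
  haveI hover : (t.comap (algebraMap E A')).LiesOver p := ⟨by
    rw [Ideal.under_def, Ideal.comap_comap, ← IsScalarTower.algebraMap_eq]
    exact htover.over⟩
  have hsitE : si ∉ t.comap (algebraMap E A') := hsG
  obtain ⟨t₀, ht₀, ht₀over, htt₀, hst₀, hmax⟩ :=
    exists_le_fiberIdeal_isMaximal p (t.comap (algebraMap E A')) si hsitE
  have key' := isImpurity_of_le N p (TensorProduct.mk B (E ⊗[A] B) N 1)
    (t'.comap (algebraMap E A')) (t.comap (algebraMap E A'))
    (P.comap (psi (A := A) (B := B) (B' := B') E).toRingHom) key t₀ htt₀ ht₀over si hst₀ hmem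
  exact ⟨E, E ⊗[A] B, (E ⊗[A] B) ⊗[B] N, inferInstance, inferInstance, inferInstance,
    inferInstance, inferInstance, inferInstance, inferInstance, inferInstance, inferInstance,
    inferInstance, inferInstance, inferInstance, inferInstance, inferInstance,
    TensorProduct.mk B (E ⊗[A] B) N 1, t'.comap (algebraMap E A'), t₀, ht'E, ht₀,
    P.comap (psi (A := A) (B := B) (B' := B') E).toRingHom, hPE, key', inferInstance, hmax⟩

end Groth.Agent.S1245
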