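import Groth.Statements.S12456
import Groth.Agent.Lib.Seat57Thick

set_option autoImplicit false
set_option linter.unusedVariables false
universe u
open CategoryTheory AlgebraicGeometry
open OmegaSh

namespace Groth.Agent.S12456

/-- Let i : Z → X be an immersion, written as the closed subscheme of an open U ⊆ X cut out by an ideal
sheaf I followed by the inclusion of U. Then the first order infinitesimal neighbourhood of Z in X —
the closed subscheme of U cut out by I² — together with Z ⊂ V(I²) and V(I²) → U → X is a universal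
first order thickening of Z over X. (The inequality I² ≤ I is carried as an argument h; it always
holds.) -/
theorem result {X : Scheme.{u}} (U : X.Opens) (I : (U : Scheme.{u}).IdealSheafData)
    (h : I ^ 2 ≤ I) :
    OmegaSh.IsUnivThickening (I.subschemeι ≫ U.ι) (Scheme.IdealSheafData.inclusion h)
      ((I ^ 2).subschemeι ≫ U.ι) := by
  have hcl : IsClosedImmersion (Scheme.IdealSheafData.inclusion h) :=
    Groth.Agent.Lib.Seat57.Thick.isClosedImmersion_inclusion h
  refine ⟨⟨⟨hcl, ⟨Groth.Agent.Lib.Seat57.Thick.surjective_inclusion_sq I h⟩⟩,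
    Groth.Agent.Lib.Seat57.Thick.ker_inclusion_mul_self I h⟩, ?_, ?_⟩
  · rw [← Category.assoc, Scheme.IdealSheafData.inclusion_subschemeι]
  · intro T T' j b a hj hjb
    obtain ⟨⟨hjcl, hjsurj⟩, hjker⟩ := hj
    -- `b` factors through `U`
    have hrange : Set.range b ⊆ Set.range U.ι := by
      rintro _ ⟨t', rfl⟩
      obtain ⟨t, rfl⟩ := hjsurj.surj t'
      rw [← Scheme.Hom.comp_apply, hjb, Scheme.Hom.comp_apply]
      exact ⟨_, rfl⟩
    let bU : T' ⟶ (U : Scheme.{u}) := IsOpenImmersion.lift U.ι b hrange
    have hbU : bU ≫ U.ι = b := IsOpenImmersion.lift_fac U.ι b hrange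
    have hjbU : j ≫ bU = a ≫ I.subschemeι := by
      rw [← cancel_mono U.ι, Category.assoc, Category.assoc, hbU, hjb]
    -- `I ^ 2` is killed by `bU`
    have hI : I ≤ (j ≫ bU).ker := by
      rw [hjbU]
      calc I = I.subschemeι.ker := (Scheme.IdealSheafData.ker_subschemeι I).symm
        _ ≤ (a ≫ I.subschemeι).ker := Scheme.Hom.le_ker_comp a I.subschemeι
    have hI2 : ((I ^ 2).subschemeι).ker ≤ bU.ker := by
      rw [Scheme.IdealSheafData.ker_subschemeι, pow_two]
      exact Groth.Agent.Lib.Seat57.Thick.mul_self_le_ker j hjker bU I hI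
    let a' : T' ⟶ (I ^ 2).subscheme := IsClosedImmersion.lift (I ^ 2).subschemeι bU hI2
    have ha' : a' ≫ (I ^ 2).subschemeι = bU := IsClosedImmersion.lift_fac _ _ hI2
    refine ⟨a', ⟨?_, ?_⟩, ?_⟩
    · rw [← cancel_mono (I ^ 2).subschemeι, Category.assoc, Category.assoc, ha', hjbU,
        Scheme.IdealSheafData.inclusion_subschemeι]
    · rw [← Category.assoc, ha', hbU]
    · rintro a'' ⟨-, h2⟩
      rw [← cancel_mono ((I ^ 2).subschemeι ≫ U.ι), h2, ← Category.assoc, ha', hbU]

end Groth.Agent.S12456
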