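import Groth.Statements.S12459
import Mathlib
import Groth.Agent.S9126
import Groth.Agent.S12446
import Groth.Agent.Lib.Helper10Catenary2

set_option autoImplicit false
universe u
open CategoryTheory AlgebraicGeometry
open Props

namespace Groth.Agent.S12459

/-- For a locally Noetherian scheme S, the scheme S is universally catenary — every scheme X locally of
finite type over S has catenary underlying topological space — if and only if all local rings
O_{S,s} are universally catenary rings. (Schemes X over S are taken in the universe of S.) -/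
theorem result (S : Scheme.{u}) [IsLocallyNoetherian S] :
    (∀ (X : Scheme.{u}) (f : X ⟶ S), LocallyOfFiniteType f → PtTop.IsCatenarySpace X) ↔
      ∀ s : S, CAlg.IsUniversallyCatenary (S.presheaf.stalk s) := by
  constructor
  · intro h s
    obtain ⟨V, hV, hsV, -⟩ :=
      exists_isAffineOpen_mem_and_subset (X := S) (x := s) (U := ⊤) trivial
    haveI : IsNoetherianRing Γ(S, V) := IsLocallyNoetherian.component_noetherian ⟨V, hV⟩
    have hA : CAlg.IsUniversallyCatenary Γ(S, V) := by
      refine ⟨inferInstance, ?_⟩
      intro B _ _ hB
      let g : Spec (CommRingCat.of B) ⟶ S :=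
        Spec.map (CommRingCat.ofHom (algebraMap Γ(S, V) B)) ≫ hV.fromSpec
      have hg1 : LocallyOfFiniteType (Spec.map (CommRingCat.ofHom (algebraMap Γ(S, V) B))) := by
        rw [HasRingHomProperty.Spec_iff (P := @LocallyOfFiniteType)]
        exact RingHom.finiteType_algebraMap.mpr hB
      have hg : LocallyOfFiniteType g := inferInstance
      have hcat := h _ g hg
      exact (Groth.Agent.Lib.Helper10.Catenary2.isCatenarySpace_primeSpectrum_iff B).mp hcat
    letI := TopCat.Presheaf.algebra_section_stalk S.presheaf ⟨s, hsV⟩
    haveI hloc : IsLocalization (hV.primeIdealOf ⟨s, hsV⟩).asIdeal.primeCompl (S.presheaf.stalk s) :=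
      hV.isLocalization_stalk ⟨s, hsV⟩
    haveI : Algebra.EssFiniteType Γ(S, V) (S.presheaf.stalk s) :=
      Algebra.EssFiniteType.of_isLocalization (S.presheaf.stalk s)
        (hV.primeIdealOf ⟨s, hsV⟩).asIdeal.primeCompl
    exact Groth.Agent.S9126.result Γ(S, V) (S.presheaf.stalk s) hA
  · intro h X f hf
    rw [Groth.Agent.S12446.result X]
    intro x
    letI : Algebra (S.presheaf.stalk (f x)) (X.presheaf.stalk x) := (f.stalkMap x).hom.toAlgebra
    haveI : Algebra.EssFiniteType (S.presheaf.stalk (f x)) (X.presheaf.stalk x) :=
      LocallyOfFiniteType.stalkMap f x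
    have h1 := Groth.Agent.S9126.result (S.presheaf.stalk (f x)) (X.presheaf.stalk x) (h (f x))
    exact h1.2 (X.presheaf.stalk x) inferInstance

end Groth.Agent.S12459
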