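import Groth.Statements.S1247
import Groth.Agent.S1245
import Groth.Agent.Lib.Seat6ImpBC
import Groth.Agent.Lib.Seat6ImpNoeth

set_option autoImplicit false
set_option linter.style.haveILetI false
universe u
open FlatMor

namespace Groth.Agent.S1247

open TensorProduct Groth.Agent.Lib.Seat6.ImpBC Groth.Agent.Lib.Seat6.ImpNoeth
  Groth.Agent.Lib.Seat6.FibBC in
attribute [local instance] Algebra.TensorProduct.rightAlgebra in
/-- Ring form, X = Spec B and S = Spec A affine with A Noetherian: let B be a finite type A-algebra, N a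
finite B-module and p a prime of A. If there is an impurity of N above p then there is one whose
base change A → A' is of finite type and quasi-finite at the point t. -/
theorem result {A B : Type u} [CommRing A] [IsNoetherianRing A] [CommRing B] [Algebra A B] [Algebra.FiniteType A B]
    (N : Type u) [AddCommGroup N] [Module B N] [Module.Finite B N] (p : Ideal A) [p.IsPrime]
    (h : FlatCA.HasImpurity A B N p (fun _ _ _ _ => True)) :
    FlatCA.HasImpurity A B N p (fun A' _ _ t => ∃ _ : t.IsPrime, Algebra.FiniteType A A' ∧ Algebra.QuasiFiniteAt A t) := by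
  classical
  obtain ⟨A', B', N', iA', iB', iAA', iBB', iA'B', iAB', tow1, tow2, iN', iB'N', iBN', towN, iA'N',
    towN', f, t', t, ht', htp, P, hP, himp, hfp, hmax⟩ := Groth.Agent.S1245.result N p h
  haveI : Algebra.FiniteType A A' := Algebra.FiniteType.of_finitePresentation
  haveI : IsNoetherianRing A' := Algebra.FiniteType.isNoetherianRing A A'
  obtain ⟨P₀, hP₀, himp₀⟩ := isImpurity_std N p f t' t P himp
  have hle : t' ≤ t := himp₀.2.2.1
  haveI htover : t.LiesOver p := himp₀.2.2.2.1
  -- the quotient domain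
  let D := A' ⧸ t'
  haveI : IsDomain D := Ideal.Quotient.isDomain t'
  have hsurj : Function.Surjective (Ideal.Quotient.mk t') := Ideal.Quotient.mk_surjective
  have hker : RingHom.ker (Ideal.Quotient.mk t') = t' := Ideal.mk_ker
  haveI : Algebra.FiniteType A D :=
    Algebra.FiniteType.of_surjective (Ideal.Quotient.mkₐ A t') hsurj
  set TD : Ideal D := t.map (Ideal.Quotient.mk t') with hTD
  haveI hTDprime : TD.IsPrime := Ideal.map_isPrime_of_surjective hsurj (hker.le.trans hle)
  have hTDcomap : TD.comap (Ideal.Quotient.mk t') = t := by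
    rw [hTD, Ideal.comap_map_of_surjective _ hsurj, ← RingHom.ker_eq_comap_bot, hker]
    exact sup_eq_left.2 hle
  haveI hbot : (⊥ : Ideal D).LiesOver t' := by
    constructor
    rw [Ideal.under_def]
    change t' = Ideal.comap (Ideal.Quotient.mk t') ⊥
    rw [← RingHom.ker_eq_comap_bot, hker]
  haveI hTDt : TD.LiesOver t := by
    constructor
    rw [Ideal.under_def]
    exact hTDcomap.symm
  obtain ⟨P₁, hP₁, -, himp₁⟩ := isImpurity_baseChange N p D t' t P₀ himp₀ ⊥ TD bot_le
  -- `TD` is closed in its fibre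
  have hTmax : ∀ T₂ : Ideal D, T₂.IsPrime → T₂.LiesOver p → TD ≤ T₂ → T₂ = TD := by
    intro T₂ hT₂ hT₂p hle₂
    haveI := hT₂
    set t₂ : Ideal A' := T₂.comap (Ideal.Quotient.mk t') with ht₂
    haveI : t₂.IsPrime := Ideal.comap_isPrime _ _
    haveI : t₂.LiesOver p := by
      constructor
      rw [hT₂p.over, Ideal.under_def, Ideal.under_def, ht₂, Ideal.comap_comap]
      rfl
    have hle' : t ≤ t₂ := by
      rw [← hTDcomap]; exact Ideal.comap_mono hle₂
    have h1 : FlatCA.fiberIdeal p t ≤ FlatCA.fiberIdeal p t₂ := Ideal.map_mono hle'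
    have h2 : FlatCA.fiberIdeal p t = FlatCA.fiberIdeal p t₂ :=
      hmax.eq_of_le (fiberIdeal_isPrime p t₂).ne_top h1
    have h3 : t = t₂ := by
      rw [← comap_fiberIdeal p t, ← comap_fiberIdeal p t₂, h2]
    rw [← Ideal.map_comap_of_surjective _ hsurj T₂, ← ht₂, ← h3]
  by_cases h3 : ∀ a ∈ p, algebraMap A D a = 0
  · exact (not_isImpurity_of_bot_liesOver N p D TD P₁ himp₁ h3).elim
  · push Not at h3
    obtain ⟨g₀, hg₀, hg⟩ := h3
    obtain ⟨q, hq, TE, hTE, P₃, hP₃, himp₃, hqf⟩ :=
      exists_quasiFinite_impurity N p D TD P₁ himp₁ g₀ hg₀ hg hTmax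
    haveI : Algebra.FiniteType A (D ⧸ q) :=
      Algebra.FiniteType.of_surjective (Ideal.Quotient.mkₐ A q) Ideal.Quotient.mk_surjective
    haveI : IsDomain (D ⧸ q) := Ideal.Quotient.isDomain q
    exact ⟨D ⧸ q, (D ⧸ q) ⊗[A] B, ((D ⧸ q) ⊗[A] B) ⊗[B] N, inferInstance, inferInstance,
      inferInstance, inferInstance, inferInstance, inferInstance, inferInstance, inferInstance,
      inferInstance, inferInstance, inferInstance, inferInstance, inferInstance, inferInstance,
      TensorProduct.mk B ((D ⧸ q) ⊗[A] B) N 1, ⊥, TE, Ideal.isPrime_bot, hTE, P₃, hP₃, himp₃,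
      hTE, inferInstance, hqf⟩

end Groth.Agent.S1247
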