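import Groth.Statements.S12474
import Groth.Agent.Lib.Seat57ProjBundleBC
import Groth.Agent.Lib.Seat57GrSym
import Groth.Agent.S8258
import Groth.Agent.S8284

set_option autoImplicit false
universe u
open CategoryTheory CategoryTheory.Limits AlgebraicGeometry TopologicalSpace Opposite
open scoped HomogeneousIdeal
open EGA2

namespace Groth.Agent.S12474

/-- Let f : X → Y and g : Y' → Y be morphisms of schemes and let X', with g' : X' → X and f' : X' → Y',
be a fibre product of X and Y' over Y (the square is cartesian). If L is an invertible O_X-module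
which is very ample relative to f (isomorphic to the inverse image of O(1) along a Y-immersion of X
into the projective bundle P(E) of a quasi-coherent O_Y-module E), then the inverse image g'^*L is
very ample relative to f'. -/
theorem result {X Y X' Y' : Scheme.{u}} (f : X ⟶ Y) (g : Y' ⟶ Y) (g' : X' ⟶ X) (f' : X' ⟶ Y')
    (hsq : IsPullback g' f' f g) (L : X.Modules) (hL : PicF.IsInvertible L) (hva : RelProj.IsRelVeryAmple f L) :
    RelProj.IsRelVeryAmple f' ((Scheme.Modules.pullback g').obj L) := by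
  obtain ⟨E, hE, 𝒮, j, hj, P, p, chart, hP, O1, lam, hO1, i, hi, hip, ⟨e⟩⟩ := hva
  have : E.IsQuasicoherent := hE
  have hE' : ((Scheme.Modules.pullback g).obj E).IsQuasicoherent :=
    Groth.Agent.Lib.Helper2.PullbackSec.isQuasicoherent_pullback g E
  have hj' := Groth.Agent.Lib.Seat57.GrSym.isGrSymAlg ((Scheme.Modules.pullback g).obj E)
  obtain ⟨P', p', chart', hP'⟩ := Groth.Agent.S8258.result
    (Groth.Agent.Lib.Seat57.GrSym.grSymAlg ((Scheme.Modules.pullback g).obj E))
  obtain ⟨O1', lam', hO1'⟩ := Groth.Agent.S8284.result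
    (Groth.Agent.Lib.Seat57.GrSym.grSymAlg ((Scheme.Modules.pullback g).obj E)) p' chart' hP' 1
  obtain ⟨h, hpb, ⟨τ⟩⟩ := Groth.Agent.Lib.Seat57.ProjBundleBC.exists_isPullback_pullback_iso g E hj hj'
    p chart hP O1 lam hO1 p' chart' hP' O1' lam' hO1'
  have hw : (g' ≫ i) ≫ p = f' ≫ g := by rw [Category.assoc, hip, hsq.w]
  have h1 : hpb.lift (g' ≫ i) f' hw ≫ h = g' ≫ i := hpb.lift_fst _ _ hw
  have h2 : hpb.lift (g' ≫ i) f' hw ≫ p' = f' := hpb.lift_snd _ _ hw
  -- the left square is cartesian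
  have hbig : IsPullback (hpb.lift (g' ≫ i) f' hw ≫ p') g' g (i ≫ p) := by
    rw [h2, hip]; exact hsq.flip
  have hleft : IsPullback (hpb.lift (g' ≫ i) f' hw) g' h i := IsPullback.of_right hbig h1 hpb.flip
  have himm : IsImmersion (hpb.lift (g' ≫ i) f' hw) :=
    MorphismProperty.of_isPullback (P := @IsImmersion) hleft.flip hi
  have e0 : (Scheme.Modules.pullback g').obj L ≅
      (Scheme.Modules.pullback g').obj ((Scheme.Modules.pullback i).obj O1) :=
    (Scheme.Modules.pullback g').mapIso e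
  have e0' : (Scheme.Modules.pullback g').obj ((Scheme.Modules.pullback i).obj O1) ≅
      (Scheme.Modules.pullback (g' ≫ i)).obj O1 := (Scheme.Modules.pullbackComp g' i).app O1
  have e1 : (Scheme.Modules.pullback (g' ≫ i)).obj O1 ≅
      (Scheme.Modules.pullback (hpb.lift (g' ≫ i) f' hw ≫ h)).obj O1 :=
    (Scheme.Modules.pullbackCongr h1.symm).app O1
  have e2 : (Scheme.Modules.pullback (hpb.lift (g' ≫ i) f' hw ≫ h)).obj O1 ≅
      (Scheme.Modules.pullback (hpb.lift (g' ≫ i) f' hw)).obj ((Scheme.Modules.pullback h).obj O1) :=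
    ((Scheme.Modules.pullbackComp (hpb.lift (g' ≫ i) f' hw) h).app O1).symm
  have e3 : (Scheme.Modules.pullback (hpb.lift (g' ≫ i) f' hw)).obj ((Scheme.Modules.pullback h).obj O1) ≅
      (Scheme.Modules.pullback (hpb.lift (g' ≫ i) f' hw)).obj O1' :=
    (Scheme.Modules.pullback (hpb.lift (g' ≫ i) f' hw)).mapIso τ
  exact ⟨(Scheme.Modules.pullback g).obj E, hE', _, _, hj', P', p', chart', hP', O1', lam', hO1',
    hpb.lift (g' ≫ i) f' hw, himm, h2, ⟨e0 ≪≫ e0' ≪≫ e1 ≪≫ e2 ≪≫ e3⟩⟩

end Groth.Agent.S12474
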