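import Groth.Statements.S12476
import Groth.Agent.Lib.Seat57ProjBundleBC
import Groth.Agent.Lib.Seat57GrSym
import Groth.Agent.S8258
import Groth.Agent.S8284

set_option autoImplicit false
universe u
open CategoryTheory CategoryTheory.Limits AlgebraicGeometry TopologicalSpace Opposite
open scoped HomogeneousIdeal
open EGA2

namespace Groth.Agent.S12476

/-- Let f : X → Y and g : Y → Z be morphisms of schemes and L an invertible O_X-module which is very
ample relative to the composite X → Y → Z (isomorphic to the inverse image of O(1) along a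
Z-immersion of X into the projective bundle of a quasi-coherent O_Z-module). Then L is very ample
relative to f. -/
theorem result {X Y Z : Scheme.{u}} (f : X ⟶ Y) (g : Y ⟶ Z) (L : X.Modules)
    (hL : PicF.IsInvertible L) (hva : RelProj.IsRelVeryAmple (f ≫ g) L) : RelProj.IsRelVeryAmple f L := by
  obtain ⟨E, hE, 𝒮, j, hj, P, p, chart, hP, O1, lam, hO1, i, hi, hip, ⟨e⟩⟩ := hva
  have : E.IsQuasicoherent := hE
  have hE' : ((Scheme.Modules.pullback g).obj E).IsQuasicoherent :=
    Groth.Agent.Lib.Helper2.PullbackSec.isQuasicoherent_pullback g E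
  have hj' := Groth.Agent.Lib.Seat57.GrSym.isGrSymAlg ((Scheme.Modules.pullback g).obj E)
  obtain ⟨P', p', chart', hP'⟩ := Groth.Agent.S8258.result
    (Groth.Agent.Lib.Seat57.GrSym.grSymAlg ((Scheme.Modules.pullback g).obj E))
  obtain ⟨O1', lam', hO1'⟩ := Groth.Agent.S8284.result
    (Groth.Agent.Lib.Seat57.GrSym.grSymAlg ((Scheme.Modules.pullback g).obj E)) p' chart' hP' 1
  obtain ⟨h, hpb, ⟨τ⟩⟩ := Groth.Agent.Lib.Seat57.ProjBundleBC.exists_isPullback_pullback_iso g E hj hj'
    p chart hP O1 lam hO1 p' chart' hP' O1' lam' hO1'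
  have h1 : hpb.lift i f hip ≫ h = i := hpb.lift_fst i f hip
  have h2 : hpb.lift i f hip ≫ p' = f := hpb.lift_snd i f hip
  have himm : IsImmersion (hpb.lift i f hip) := by
    have : IsImmersion (hpb.lift i f hip ≫ h) := by rw [h1]; exact hi
    exact IsImmersion.of_comp (hpb.lift i f hip) h
  have e1 : (Scheme.Modules.pullback i).obj O1 ≅ (Scheme.Modules.pullback (hpb.lift i f hip ≫ h)).obj O1 :=
    (Scheme.Modules.pullbackCongr h1.symm).app O1
  have e2 : (Scheme.Modules.pullback (hpb.lift i f hip ≫ h)).obj O1 ≅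
      (Scheme.Modules.pullback (hpb.lift i f hip)).obj ((Scheme.Modules.pullback h).obj O1) :=
    ((Scheme.Modules.pullbackComp (hpb.lift i f hip) h).app O1).symm
  have e3 : (Scheme.Modules.pullback (hpb.lift i f hip)).obj ((Scheme.Modules.pullback h).obj O1) ≅
      (Scheme.Modules.pullback (hpb.lift i f hip)).obj O1' :=
    (Scheme.Modules.pullback (hpb.lift i f hip)).mapIso τ
  exact ⟨(Scheme.Modules.pullback g).obj E, hE', _, _, hj', P', p', chart', hP', O1', lam', hO1',
    hpb.lift i f hip, himm, h2, ⟨e ≪≫ e1 ≪≫ e2 ≪≫ e3⟩⟩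

end Groth.Agent.S12476
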