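import Groth.Statements.S1248
import Groth.Agent.Lib.Seat6ImpDesc
import Groth.Agent.Lib.Seat6EtNhd

set_option autoImplicit false
set_option linter.style.haveILetI false
universe u
open FlatMor

namespace Groth.Agent.S1248

open IsLocalRing TensorProduct Groth.Agent.Lib.Seat6.ImpDesc Groth.Agent.Lib.Seat6.EtNhd in
attribute [local instance] Algebra.TensorProduct.rightAlgebra in
/-- Ring form, X = Spec B affine: let B be a finite type A-algebra, N a finite B-module and p a prime of
A. If there is an impurity of N above p whose base change ring A' is a henselization of the local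
ring A_p (compatibly with A → A_p) and whose point t is the maximal ideal, then there is an impurity
of N above p for which (A', t) is an elementary étale ring map at p. -/
theorem result {A B : Type u} [CommRing A] [CommRing B] [Algebra A B] [Algebra.FiniteType A B]
    (N : Type u) [AddCommGroup N] [Module B N] [Module.Finite B N] (p : Ideal A) [p.IsPrime]
    (h : FlatCA.HasImpurity A B N p (fun A' _ _ t => ∃ (_ : IsLocalRing A') (_ : Algebra (Localization.AtPrime p) A')
        (_ : IsScalarTower A (Localization.AtPrime p) A') (_ : IsLocalHom (algebraMap (Localization.AtPrime p) A')),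
        Hensel.IsHenselization (Localization.AtPrime p) A' ∧ t = maximalIdeal A')) :
    FlatCA.HasImpurity A B N p (fun A' _ _ t => ∃ _ : t.IsPrime, FlatCA.IsEtaleNhd A A' p t) := by
  classical
  obtain ⟨A', B', N', iA', iB', iAA', iBB', iA'B', iAB', tow1, tow2, iN', iB'N', iBN', towN, iA'N',
    towN', f, t', t, ht', htp, P, hP, himp, hloc, algAp, towAp, hlochom, hHz, htmax⟩ := h
  have himp' := himp
  obtain ⟨hpo, hbc, hle, htover, hPt', hass, hclos⟩ := himp'
  haveI := hpo
  haveI := htover
  -- the witness over `A'`
  obtain ⟨s, hst, hs⟩ := exists_witness t P hclos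
  obtain ⟨π, hπ, τ, hτ, hπτ⟩ := Submodule.mem_sup.1 hs
  have hτ' := mem_span_of_mem_map (A := A) (B := B) t hτ
  obtain ⟨n, c, w, hcw⟩ := Submodule.mem_span_set'.1 hτ'
  have hw : ∀ m : Fin n, ∃ τm : A', τm ∈ t ∧ algebraMap A' B' τm = (w m : B') := fun m => (w m).2
  choose τm hτm hτmw using hw
  -- factor through an étale algebra
  have hF := factor_of_henselization A p A'
  let ψ : MvPolynomial (Option (Fin n)) A →ₐ[A] A' :=
    MvPolynomial.aeval (fun o : Option (Fin n) => o.elim s τm)
  obtain ⟨E, iE, iAE, iet, f₀, v, hfv⟩ := hF _ ψ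
  letI algEA' : Algebra E A' := v.toRingHom.toAlgebra
  haveI towAEA' : IsScalarTower A E A' :=
    IsScalarTower.of_algebraMap_eq (fun a => (v.commutes a).symm)
  have hvE : ∀ x : E, algebraMap E A' x = v x := fun _ => rfl
  set si : E := f₀ (MvPolynomial.X none) with hsi
  have hsi' : algebraMap E A' si = s := by
    rw [hvE, hsi, ← AlgHom.comp_apply, hfv]
    simp [ψ]
  let τi : Fin n → E := fun m => f₀ (MvPolynomial.X (some m))
  have hτi : ∀ m, algebraMap E A' (τi m) = τm m := fun m => by
    rw [hvE]
    simp only [τi]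
    rw [← AlgHom.comp_apply, hfv]
    simp [ψ]
  -- algebra structure of `B'` over `E`
  letI algGB : Algebra E B' := ((algebraMap A' B').comp (algebraMap E A')).toAlgebra
  haveI tow1' : IsScalarTower E A' B' := IsScalarTower.of_algebraMap_eq (fun _ => rfl)
  haveI tow2' : IsScalarTower A E B' := IsScalarTower.of_algebraMap_eq (fun a => by
    rw [IsScalarTower.algebraMap_apply E A' B', ← IsScalarTower.algebraMap_apply A E A',
      ← IsScalarTower.algebraMap_apply A A' B'])
  have hGB : ∀ x : E, algebraMap E B' x = algebraMap A' B' (algebraMap E A' x) :=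
    fun _ => rfl
  -- the witness over `E`
  set y : E ⊗[A] B := ∑ m, (τi m) ⊗ₜ[A] (c m) with hy
  have hy_mem : y ∈ (t.comap (algebraMap E A')).map (algebraMap E (E ⊗[A] B)) := by
    rw [hy]
    refine Ideal.sum_mem _ (fun m _ => ?_)
    have h1 : (τi m) ⊗ₜ[A] (c m) =
        algebraMap E (E ⊗[A] B) (τi m) * ((1 : E) ⊗ₜ[A] (c m)) := by
      rw [Algebra.TensorProduct.algebraMap_apply, Algebra.TensorProduct.tmul_mul_tmul, one_mul]
      simp
    rw [h1]
    refine Ideal.mul_mem_right _ _ (Ideal.mem_map_of_mem _ ?_)
    rw [Ideal.mem_comap, hτi]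
    exact hτm m
  have hpsi_y : psi (A := A) (B := B) (B' := B') E y = τ := by
    rw [hy, map_sum, ← hcw]
    refine Finset.sum_congr rfl (fun m _ => ?_)
    rw [psi_tmul, hGB, hτi, hτmw, Algebra.smul_def, mul_comm]
  have hπ_mem : algebraMap E (E ⊗[A] B) si - y ∈
      P.comap (psi (A := A) (B := B) (B' := B') E).toRingHom := by
    rw [Ideal.mem_comap]
    change psi (A := A) (B := B) (B' := B') E (algebraMap E (E ⊗[A] B) si - y) ∈ P
    rw [map_sub, hpsi_y, AlgHom.commutes, hGB, hsi', ← hπτ, add_sub_cancel_right]
    exact hπ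
  have hmem : algebraMap E (E ⊗[A] B) si ∈
      (P.comap (psi (A := A) (B := B) (B' := B') E).toRingHom) ⊔
        (t.comap (algebraMap E A')).map (algebraMap E (E ⊗[A] B)) :=
    Submodule.mem_sup.2 ⟨_, hπ_mem, y, hy_mem, sub_add_cancel _ _⟩
  have hsG : algebraMap E A' si ∉ t := by rw [hsi']; exact hst
  have key := isImpurity_descend N p f t' t P E himp si hsG hmem
  -- the étale neighbourhood
  haveI htE : (t.comap (algebraMap E A')).IsPrime := Ideal.comap_isPrime _ _
  haveI hover : (t.comap (algebraMap E A')).LiesOver p := ⟨by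
    rw [Ideal.under_def, Ideal.comap_comap, ← IsScalarTower.algebraMap_eq]
    exact htover.over⟩
  have hnhd : FlatCA.IsEtaleNhd A E p (t.comap (algebraMap E A')) := by
    refine isEtaleNhd_of_forall p _ (fun e => ?_)
    obtain ⟨r, hr⟩ := exists_sub_mem_maximalIdeal (Localization.AtPrime p) A' (algebraMap E A' e)
    obtain ⟨a, b, rfl⟩ := IsLocalization.exists_mk'_eq p.primeCompl r
    refine ⟨a, b, b.2, ?_⟩
    rw [Ideal.mem_comap, map_sub, map_mul, ← IsScalarTower.algebraMap_apply,
      ← IsScalarTower.algebraMap_apply, htmax]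
    have h0 : algebraMap A A' b * algebraMap (Localization.AtPrime p) A'
        (IsLocalization.mk' (Localization.AtPrime p) a b) = algebraMap A A' a := by
      rw [IsScalarTower.algebraMap_apply A (Localization.AtPrime p) A',
        IsScalarTower.algebraMap_apply A (Localization.AtPrime p) A', ← map_mul,
        IsLocalization.mk'_spec']
    have h1 : algebraMap A A' b * algebraMap E A' e - algebraMap A A' a =
        algebraMap A A' b * (algebraMap E A' e - algebraMap (Localization.AtPrime p) A'
          (IsLocalization.mk' (Localization.AtPrime p) a b)) := by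
      rw [mul_sub, h0]
    rw [h1]
    exact Ideal.mul_mem_left _ _ hr
  exact ⟨E, E ⊗[A] B, (E ⊗[A] B) ⊗[B] N, inferInstance, inferInstance, inferInstance,
    inferInstance, inferInstance, inferInstance, inferInstance, inferInstance, inferInstance,
    inferInstance, inferInstance, inferInstance, inferInstance, inferInstance,
    TensorProduct.mk B (E ⊗[A] B) N 1, t'.comap (algebraMap E A'),
    t.comap (algebraMap E A'), Ideal.comap_isPrime _ _, htE,
    P.comap (psi (A := A) (B := B) (B' := B') E).toRingHom, Ideal.comap_isPrime _ _, key,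
    htE, hnhd⟩

end Groth.Agent.S1248
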