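import Groth.Statements.S1250
import Groth.Agent.Lib.Seat55FlatAway

set_option autoImplicit false
set_option linter.style.haveILetI false
universe u
open FlatMor

namespace Groth.Agent.S1250

open Groth.Agent.Lib.Seat55.FlatTop Groth.Agent.Lib.Seat55.FlatAway
  Groth.Agent.Lib.Seat55.ShrinkEx

/-- Given an elementary dévissage E of N at q over p in dimension n, the following are equivalent: N_q
is flat over R; G_z is flat over R'; G_y (G viewed as a D-module) is flat over R'. Also equivalent
to each other: N becomes flat over R on some basic open D(g) ∋ q of Spec S; G becomes flat over R'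
on some basic open of Spec C containing z; G as a D-module becomes flat over R' on some basic open
of Spec D containing y. -/
theorem result {R S : Type u} [CommRing R] [CommRing S] [Algebra R S] [Algebra.FiniteType R S]
    (N : Type u) [AddCommGroup N] [Module S N] [Module R N] [IsScalarTower R S N] [Module.Finite S N]
    (p : Ideal R) [p.IsPrime] (q : Ideal S) [q.IsPrime] [q.LiesOver p] (n : ℕ) (E : FlatCA.ElemDevissage R S N p q n) :
    [FlatCA.FlatAt R q N, FlatCA.FlatAt E.R' E.z E.G, FlatCA.FlatAt E.R' E.y E.G].TFAE ∧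
    [∃ g : S, g ∉ q ∧ Module.Flat R (LocalizedModule (Submonoid.powers g) N),
     ∃ g : E.C, g ∉ E.z ∧ Module.Flat E.R' (LocalizedModule (Submonoid.powers g) E.G),
     ∃ g : E.D, g ∉ E.y ∧ Module.Flat E.R' (LocalizedModule (Submonoid.powers g) E.G)].TFAE := by
  classical
  obtain ⟨hetR, hpo, -⟩ := E.etaleR
  obtain ⟨hetS, hqo, -⟩ := E.etaleS
  haveI := hetR
  haveI := hetS
  haveI : E.q'.LiesOver q := hqo
  haveI := E.finiteDC
  -- module structures on `G`
  haveI tG : IsScalarTower E.R' E.S' E.G := ⟨fun r s x => by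
    calc (r • s) • x = ((r • s) • (1 : E.C)) • x := by rw [smul_assoc (r • s) (1 : E.C) x, one_smul]
      _ = (r • (s • (1 : E.C))) • x := by rw [smul_assoc r s (1 : E.C)]
      _ = r • ((s • (1 : E.C)) • x) := smul_assoc _ _ _
      _ = r • (s • x) := by rw [smul_assoc s (1 : E.C) x, one_smul]⟩
  letI mRG : Module R E.G := Module.compHom E.G (algebraMap R E.R')
  haveI tRR'G : IsScalarTower R E.R' E.G := IsScalarTower.of_algebraMap_smul fun r x => rfl
  haveI tRS'G : IsScalarTower R E.S' E.G := IsScalarTower.of_algebraMap_smul fun r x => by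
    rw [IsScalarTower.algebraMap_apply R E.R' E.S', algebraMap_smul]
    rfl
  letI mSG : Module S E.G := Module.compHom E.G (algebraMap S E.S')
  haveI tSS'G : IsScalarTower S E.S' E.G := IsScalarTower.of_algebraMap_smul fun r x => rfl
  -- the base change map `N → G`
  let g : N →ₗ[S] E.G := (E.iso.toLinearMap.restrictScalars S).comp E.f
  have hg : IsBaseChange E.S' g := E.isBaseChange.comp (IsBaseChange.ofEquiv E.iso)
  -- membership facts
  have hq'q : ∀ a : S, a ∉ q → algebraMap S E.S' a ∉ E.q' := by
    intro a ha hmem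
    apply ha
    rw [hqo.over]
    exact hmem
  have hzq' : ∀ s : E.S', s ∉ E.q' ↔ algebraMap E.S' E.C s ∉ E.z := by
    intro s
    rw [not_iff_not]
    conv_lhs => rw [E.zOver.over]
    rfl
  have hzy : ∀ d : E.D, d ∉ E.y ↔ algebraMap E.D E.C d ∉ E.z := by
    intro d
    rw [not_iff_not]
    conv_lhs => rw [E.zOverY.over]
    rfl
  -- comparison of the `S'`-, `C`- and `D`-localizations
  have hdvd : ∀ v : E.C, v ∉ E.z → ∃ d : E.D, d ∉ E.y ∧ ∃ c : E.C, c * v = algebraMap E.D E.C d := by
    intro v hv
    haveI : E.z.LiesOver E.z := ⟨by simp [Ideal.under]⟩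
    obtain ⟨w, hw, k, c, hc⟩ := exists_dvd_pow_of_unique (S := E.C) (C := E.C) (D := E.D)
      E.z E.z E.y E.uniq v hv
    refine ⟨w ^ k, fun hmem => hw (Ideal.IsPrime.mem_of_pow_mem inferInstance k hmem), c, ?_⟩
    rw [map_pow, hc, mul_comm]
    rfl
  have h12a : Module.Flat R (LocalizedModule q.primeCompl N) ↔
      Module.Flat R (LocalizedModule E.q'.primeCompl E.G) := flatAt_iff_of_flat g hg q E.q'
  have h12b : Module.Flat R (LocalizedModule E.q'.primeCompl E.G) ↔
      Module.Flat E.R' (LocalizedModule E.q'.primeCompl E.G) := flat_iff_of_etale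
  have h12c : Module.Flat E.R' (LocalizedModule E.q'.primeCompl E.G) ↔
      Module.Flat E.R' (LocalizedModule E.z.primeCompl E.G) :=
    flat_iff_of_locEq (R := E.R') (S := E.S') (C := E.C) E.q'.primeCompl E.z.primeCompl
      (LocalizedModule.mkLinearMap E.q'.primeCompl E.G)
      (LocalizedModule.mkLinearMap E.z.primeCompl E.G)
      (fun w hw => (hzq' w).1 hw)
      (fun v hv => by
        obtain ⟨s, rfl⟩ := E.surjC v
        exact ⟨1, s, (hzq' s).2 hv, one_mul _⟩)
  have h32 : Module.Flat E.R' (LocalizedModule E.y.primeCompl E.G) ↔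
      Module.Flat E.R' (LocalizedModule E.z.primeCompl E.G) :=
    flat_iff_of_locEq (R := E.R') (S := E.D) (C := E.C) E.y.primeCompl E.z.primeCompl
      (LocalizedModule.mkLinearMap E.y.primeCompl E.G)
      (LocalizedModule.mkLinearMap E.z.primeCompl E.G)
      (fun w hw => (hzy w).1 hw)
      (fun v hv => by
        obtain ⟨d, hd, c, hc⟩ := hdvd v hv
        exact ⟨c, d, hd, hc⟩)
  refine ⟨?_, ?_⟩
  · tfae_have 1 ↔ 2 := (h12a.trans h12b).trans h12c
    tfae_have 3 ↔ 2 := h32
    tfae_finish
  · -- basic open versions of the comparisons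
    have hSC : ∀ h' : E.S', Module.Flat E.R' (LocalizedModule (Submonoid.powers h') E.G) ↔
        Module.Flat E.R' (LocalizedModule (Submonoid.powers (algebraMap E.S' E.C h')) E.G) :=
      fun h' => flat_iff_of_locEq (R := E.R') (S := E.S') (C := E.C) (Submonoid.powers h')
        (Submonoid.powers (algebraMap E.S' E.C h'))
        (LocalizedModule.mkLinearMap (Submonoid.powers h') E.G)
        (LocalizedModule.mkLinearMap (Submonoid.powers (algebraMap E.S' E.C h')) E.G)
        (by
          rintro _ ⟨k, rfl⟩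
          exact ⟨k, by simp only [map_pow]⟩)
        (by
          rintro _ ⟨k, rfl⟩
          exact ⟨1, h' ^ k, ⟨k, rfl⟩, by simp only [one_mul, map_pow]⟩)
    have hDC : ∀ d : E.D, Module.Flat E.R' (LocalizedModule (Submonoid.powers d) E.G) ↔
        Module.Flat E.R' (LocalizedModule (Submonoid.powers (algebraMap E.D E.C d)) E.G) :=
      fun d => flat_iff_of_locEq (R := E.R') (S := E.D) (C := E.C) (Submonoid.powers d)
        (Submonoid.powers (algebraMap E.D E.C d))
        (LocalizedModule.mkLinearMap (Submonoid.powers d) E.G)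
        (LocalizedModule.mkLinearMap (Submonoid.powers (algebraMap E.D E.C d)) E.G)
        (by
          rintro _ ⟨k, rfl⟩
          exact ⟨k, by simp only [map_pow]⟩)
        (by
          rintro _ ⟨k, rfl⟩
          exact ⟨1, d ^ k, ⟨k, rfl⟩, by simp only [one_mul, map_pow]⟩)
    have hetS' : ∀ h' : E.S', Module.Flat R (LocalizedModule (Submonoid.powers h') E.G) ↔
        Module.Flat E.R' (LocalizedModule (Submonoid.powers h') E.G) := fun h' => flat_iff_of_etale
    tfae_have 1 → 2 := by
      rintro ⟨a, haq, hflat⟩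
      have h1 := (flatAway_of_flat (R := R) g hg a 1).1 hflat
      rw [one_mul] at h1
      exact ⟨algebraMap E.S' E.C (algebraMap S E.S' a), (hzq' _).1 (hq'q a haq),
        (hSC _).1 ((hetS' _).1 h1)⟩
    tfae_have 2 → 1 := by
      rintro ⟨c, hcz, hflat⟩
      obtain ⟨h', rfl⟩ := E.surjC c
      have hh' : h' ∉ E.q' := (hzq' h').2 hcz
      have h1 : Module.Flat R (LocalizedModule (Submonoid.powers h') E.G) :=
        (hetS' _).2 ((hSC _).2 hflat)
      have hopen : IsOpenMap (PrimeSpectrum.comap (algebraMap S E.S')) :=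
        PrimeSpectrum.isOpenMap_comap_of_hasGoingDown_of_finitePresentation
      obtain ⟨a, haq, himg⟩ := exists_basicOpen_subset_image_of_isOpenMap hopen q E.q' h' hh'
      have h2 := (flatAway_of_flat (R := R) (S := E.S') (S' := E.S') (N := E.G) (G := E.G)
        (LinearEquiv.refl E.S' E.G).toLinearMap (IsBaseChange.ofEquiv (LinearEquiv.refl E.S' E.G))
        h' (algebraMap S E.S' a)).1 h1
      rw [Algebra.algebraMap_self, RingHom.id_apply, mul_comm] at h2
      exact ⟨a, haq, (flatAway_of_flat (R := R) g hg a h').2 himg h2⟩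
    tfae_have 3 → 2 := by
      rintro ⟨d, hdy, hflat⟩
      exact ⟨algebraMap E.D E.C d, (hzy d).1 hdy, (hDC d).1 hflat⟩
    tfae_have 2 → 3 := by
      rintro ⟨c, hcz, hflat⟩
      obtain ⟨d, hdy, e, he⟩ := hdvd c hcz
      have h2 := (flatAway_of_flat (R := E.R') (S := E.C) (S' := E.C) (N := E.G) (G := E.G)
        (LinearEquiv.refl E.C E.G).toLinearMap (IsBaseChange.ofEquiv (LinearEquiv.refl E.C E.G))
        c e).1 hflat
      rw [Algebra.algebraMap_self, RingHom.id_apply, he] at h2
      exact ⟨d, hdy, (hDC d).2 h2⟩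
    tfae_finish

end Groth.Agent.S1250
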