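import Groth.Statements.S1251
import Groth.Agent.Lib.Seat55FPTop

set_option autoImplicit false
set_option linter.style.haveILetI false
universe u
open FlatMor

namespace Groth.Agent.S1251

open Groth.Agent.Lib.Seat55.FlatTop Groth.Agent.Lib.Seat55.FlatAway
  Groth.Agent.Lib.Seat55.ShrinkEx Groth.Agent.Lib.Seat55.FPTop

/-- Given an elementary dévissage E of N at q over p in dimension n, with S of finite presentation over
R: the finite map D → C is of finite presentation; the following are equivalent: N_q is a finitely
presented S_q-module; G_z is a finitely presented C_z-module; G_y is a finitely presented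
D_y-module. Also equivalent to each other: N is finitely presented on some basic open of Spec S
containing q; G is finitely presented on some basic open of Spec C containing z; G as a D-module is
finitely presented on some basic open of Spec D containing y. -/
theorem result {R S : Type u} [CommRing R] [CommRing S] [Algebra R S] [Algebra.FinitePresentation R S]
    (N : Type u) [AddCommGroup N] [Module S N] [Module R N] [IsScalarTower R S N] [Module.Finite S N]
    (p : Ideal R) [p.IsPrime] (q : Ideal S) [q.IsPrime] [q.LiesOver p] (n : ℕ) (E : FlatCA.ElemDevissage R S N p q n) :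
    Algebra.FinitePresentation E.D E.C ∧
    [Module.FinitePresentation (Localization.AtPrime q) (LocalizedModule q.primeCompl N),
     Module.FinitePresentation (Localization.AtPrime E.z) (LocalizedModule E.z.primeCompl E.G),
     Module.FinitePresentation (Localization.AtPrime E.y) (LocalizedModule E.y.primeCompl E.G)].TFAE ∧
    [∃ g : S, g ∉ q ∧ Module.FinitePresentation (Localization.Away g) (LocalizedModule (Submonoid.powers g) N),
     ∃ g : E.C, g ∉ E.z ∧ Module.FinitePresentation (Localization.Away g) (LocalizedModule (Submonoid.powers g) E.G),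
     ∃ g : E.D, g ∉ E.y ∧ Module.FinitePresentation (Localization.Away g) (LocalizedModule (Submonoid.powers g) E.G)].TFAE := by
  classical
  obtain ⟨hetR, hpo, -⟩ := E.etaleR
  obtain ⟨hetS, hqo, -⟩ := E.etaleS
  haveI := hetR
  haveI := hetS
  haveI : E.q'.LiesOver q := hqo
  haveI := E.finiteDC
  haveI := E.fpC
  -- finite presentation of the rings
  haveI fpRS' : Algebra.FinitePresentation R E.S' := Algebra.FinitePresentation.trans R S E.S'
  haveI fpR'S' : Algebra.FinitePresentation E.R' E.S' :=
    Algebra.FinitePresentation.of_restrict_scalars_finitePresentation R E.R' E.S'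
  haveI fpR'C : Algebra.FinitePresentation E.R' E.C := Algebra.FinitePresentation.trans E.R' E.S' E.C
  haveI fpR'D : Algebra.FinitePresentation E.R' E.D := finitePresentation_of_smoothRelDim n E.smooth
  haveI fpDC : Algebra.FinitePresentation E.D E.C :=
    Algebra.FinitePresentation.of_restrict_scalars_finitePresentation E.R' E.D E.C
  haveI mfpDC : Module.FinitePresentation E.D E.C :=
    Module.FinitePresentation.of_finite_of_finitePresentation E.D E.C
  haveI : Module.Finite E.S' E.C := Module.Finite.of_surjective (Algebra.linearMap E.S' E.C) E.surjC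
  haveI mfpS'C : Module.FinitePresentation E.S' E.C :=
    Module.FinitePresentation.of_finite_of_finitePresentation E.S' E.C
  -- module structures on `G`
  letI mSG : Module S E.G := Module.compHom E.G (algebraMap S E.S')
  haveI tSS'G : IsScalarTower S E.S' E.G := IsScalarTower.of_algebraMap_smul fun r x => rfl
  -- the base change map `N → G`
  let g : N →ₗ[S] E.G := (E.iso.toLinearMap.restrictScalars S).comp E.f
  have hg : IsBaseChange E.S' g := E.isBaseChange.comp (IsBaseChange.ofEquiv E.iso)
  -- membership facts
  have hq'q : ∀ a : S, a ∉ q → algebraMap S E.S' a ∉ E.q' := by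
    intro a ha hmem
    apply ha
    rw [hqo.over]
    exact hmem
  have hzq' : ∀ s : E.S', s ∉ E.q' ↔ algebraMap E.S' E.C s ∉ E.z := by
    intro s
    rw [not_iff_not]
    conv_lhs => rw [E.zOver.over]
    rfl
  have hzy : ∀ d : E.D, d ∉ E.y ↔ algebraMap E.D E.C d ∉ E.z := by
    intro d
    rw [not_iff_not]
    conv_lhs => rw [E.zOverY.over]
    rfl
  have hdvd : ∀ v : E.C, v ∉ E.z → ∃ d : E.D, d ∉ E.y ∧ ∃ c : E.C, c * v = algebraMap E.D E.C d := by
    intro v hv
    haveI : E.z.LiesOver E.z := ⟨by simp [Ideal.under]⟩
    obtain ⟨w, hw, k, c, hc⟩ := exists_dvd_pow_of_unique (S := E.C) (C := E.C) (D := E.D)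
      E.z E.z E.y E.uniq v hv
    refine ⟨w ^ k, fun hmem => hw (Ideal.IsPrime.mem_of_pow_mem inferInstance k hmem), c, ?_⟩
    rw [map_pow, hc, mul_comm]
    rfl
  have h12a := fpAt_iff_of_flat g hg q E.q'
  have h12c : Module.FinitePresentation (Localization.AtPrime E.q')
      (LocalizedModule E.q'.primeCompl E.G) ↔
      Module.FinitePresentation (Localization.AtPrime E.z) (LocalizedModule E.z.primeCompl E.G) :=
    fp_iff_of_locEq (X := E.S') (C := E.C) E.q'.primeCompl E.z.primeCompl
      (fun w hw => (hzq' w).1 hw)
      (fun v hv => by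
        obtain ⟨s, rfl⟩ := E.surjC v
        exact ⟨1, s, (hzq' s).2 hv, one_mul _⟩)
  have h32 : Module.FinitePresentation (Localization.AtPrime E.y)
      (LocalizedModule E.y.primeCompl E.G) ↔
      Module.FinitePresentation (Localization.AtPrime E.z) (LocalizedModule E.z.primeCompl E.G) :=
    fp_iff_of_locEq (X := E.D) (C := E.C) E.y.primeCompl E.z.primeCompl
      (fun w hw => (hzy w).1 hw)
      (fun v hv => by
        obtain ⟨d, hd, c, hc⟩ := hdvd v hv
        exact ⟨c, d, hd, hc⟩)
  refine ⟨fpDC, ?_, ?_⟩
  · tfae_have 1 ↔ 2 := h12a.trans h12c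
    tfae_have 3 ↔ 2 := h32
    tfae_finish
  · have hSC : ∀ h' : E.S', Module.FinitePresentation (Localization.Away h')
          (LocalizedModule (Submonoid.powers h') E.G) ↔
        Module.FinitePresentation (Localization.Away (algebraMap E.S' E.C h'))
          (LocalizedModule (Submonoid.powers (algebraMap E.S' E.C h')) E.G) :=
      fun h' => fp_iff_of_locEq (X := E.S') (C := E.C) (Submonoid.powers h')
        (Submonoid.powers (algebraMap E.S' E.C h'))
        (by
          rintro _ ⟨k, rfl⟩
          exact ⟨k, by simp only [map_pow]⟩)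
        (by
          rintro _ ⟨k, rfl⟩
          exact ⟨1, h' ^ k, ⟨k, rfl⟩, by simp only [one_mul, map_pow]⟩)
    have hDC : ∀ d : E.D, Module.FinitePresentation (Localization.Away d)
          (LocalizedModule (Submonoid.powers d) E.G) ↔
        Module.FinitePresentation (Localization.Away (algebraMap E.D E.C d))
          (LocalizedModule (Submonoid.powers (algebraMap E.D E.C d)) E.G) :=
      fun d => fp_iff_of_locEq (X := E.D) (C := E.C) (Submonoid.powers d)
        (Submonoid.powers (algebraMap E.D E.C d))
        (by
          rintro _ ⟨k, rfl⟩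
          exact ⟨k, by simp only [map_pow]⟩)
        (by
          rintro _ ⟨k, rfl⟩
          exact ⟨1, d ^ k, ⟨k, rfl⟩, by simp only [one_mul, map_pow]⟩)
    tfae_have 1 → 2 := by
      rintro ⟨a, haq, hfp⟩
      have h1 := (fpAway_of_flat g hg a 1).1 hfp
      rw [one_mul] at h1
      exact ⟨algebraMap E.S' E.C (algebraMap S E.S' a), (hzq' _).1 (hq'q a haq), (hSC _).1 h1⟩
    tfae_have 2 → 1 := by
      rintro ⟨c, hcz, hfp⟩
      obtain ⟨h', rfl⟩ := E.surjC c
      have hh' : h' ∉ E.q' := (hzq' h').2 hcz
      have h1 := (hSC _).2 hfp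
      have hopen : IsOpenMap (PrimeSpectrum.comap (algebraMap S E.S')) :=
        PrimeSpectrum.isOpenMap_comap_of_hasGoingDown_of_finitePresentation
      obtain ⟨a, haq, himg⟩ := exists_basicOpen_subset_image_of_isOpenMap hopen q E.q' h' hh'
      have h2 := (fpAway_of_flat (S := E.S') (S' := E.S') (N := E.G) (G := E.G)
        (LinearEquiv.refl E.S' E.G).toLinearMap (IsBaseChange.ofEquiv (LinearEquiv.refl E.S' E.G))
        h' (algebraMap S E.S' a)).1 h1
      rw [Algebra.algebraMap_self, RingHom.id_apply, mul_comm] at h2
      exact ⟨a, haq, (fpAway_of_flat g hg a h').2 himg h2⟩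
    tfae_have 3 → 2 := by
      rintro ⟨d, hdy, hfp⟩
      exact ⟨algebraMap E.D E.C d, (hzy d).1 hdy, (hDC d).1 hfp⟩
    tfae_have 2 → 3 := by
      rintro ⟨c, hcz, hfp⟩
      obtain ⟨d, hdy, e, he⟩ := hdvd c hcz
      have h2 := (fpAway_of_flat (S := E.C) (S' := E.C) (N := E.G) (G := E.G)
        (LinearEquiv.refl E.C E.G).toLinearMap (IsBaseChange.ofEquiv (LinearEquiv.refl E.C E.G))
        c e).1 hfp
      rw [Algebra.algebraMap_self, RingHom.id_apply, he] at h2
      exact ⟨d, hdy, (hDC d).2 h2⟩
    tfae_finish

end Groth.Agent.S1251
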