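import Groth.Statements.S12552
import Groth.Agent.Lib.Seat60RadoCover

set_option autoImplicit false
universe u
open GIT

namespace Groth.Agent.S12552

/-- Let V be a finite-dimensional vector space over a field K and x_0, …, x_m non-zero vectors, a
configuration of m + 1 points of P(V); a set S of dim V indices with (x_j)_(j ∈ S) linearly
independent is a determinant section non-zero at the configuration. Then the configuration is stable
(for every subspace L with 0 ≠ L ≠ V, the number of i with x_i ∈ L times dim V is less than dim L ·
(m + 1)) if and only if there are integers N ≥ N_0 > 0 such that for each index i some non-empty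
finite multiset of such sets S contains every index j ≠ i exactly N times and the index i exactly N
− N_0 times (a monomial in the determinant sections, non-zero at the configuration, of multidegree
(N, …, N − N_0, …, N) with the N − N_0 in place i). -/
theorem result (K : Type u) [Field K]
    (V : Type u) [AddCommGroup V] [Module K V] [FiniteDimensional K V]
    (m : ℕ) (x : Fin (m + 1) → V) (hx : ∀ i, x i ≠ 0) :
    (∀ L : Submodule K V, L ≠ ⊥ → L ≠ ⊤ →
        Set.ncard {i : Fin (m + 1) | x i ∈ L} * Module.finrank K V < Module.finrank K L * (m + 1)) ↔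
      ∃ N N₀ : ℕ, 0 < N₀ ∧ N₀ ≤ N ∧
        ∀ i : Fin (m + 1), ∃ P : Multiset (Finset (Fin (m + 1))), P ≠ 0 ∧
          (∀ S ∈ P, S.card = Module.finrank K V ∧ LinearIndependent K (fun j : S => x j)) ∧
          ∀ j : Fin (m + 1),
            Multiset.card (P.filter (fun S => j ∈ S)) = if j = i then N - N₀ else N := by
  classical
  have hV : Nontrivial V := ⟨⟨x 0, 0, hx 0⟩⟩
  have hn : 0 < Module.finrank K V := Module.finrank_pos
  set n := Module.finrank K V with hndef
  constructor
  · -- stable ⇒ monomials
    intro hst
    -- the bound on the number of points in a proper nonzero span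
    have hT : ∀ T : Finset (Fin (m + 1)), T.Nonempty →
        Submodule.span K (x '' (T : Set (Fin (m + 1)))) ≠ ⊤ →
        T.card * n + 1 ≤
          Module.finrank K (Submodule.span K (x '' (T : Set (Fin (m + 1))))) * (m + 1) := by
      intro T hTne htop
      have hbot : Submodule.span K (x '' (T : Set (Fin (m + 1)))) ≠ ⊥ := by
        obtain ⟨j, hj⟩ := hTne
        intro h
        have : x j ∈ Submodule.span K (x '' (T : Set (Fin (m + 1)))) :=
          Submodule.subset_span ⟨j, Finset.mem_coe.mpr hj, rfl⟩
        rw [h, Submodule.mem_bot] at this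
        exact hx j this
      have h1 := hst _ hbot htop
      have h2 : T.card ≤ Set.ncard {i : Fin (m + 1) |
          x i ∈ Submodule.span K (x '' (T : Set (Fin (m + 1))))} := by
        rw [← Set.ncard_coe_finset T]
        apply Set.ncard_le_ncard _ (Set.toFinite _)
        intro j hj
        exact Submodule.subset_span ⟨j, hj, rfl⟩
      have h3 := Nat.mul_le_mul_right n h2
      omega
    refine ⟨n * (n + 1), n, hn, Nat.le_mul_of_pos_right n (Nat.succ_pos n), fun i => ?_⟩
    set N := n * (n + 1) with hN
    set k := (n + 1) * (m + 1) - 1 with hk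
    have hk1 : 1 ≤ k := by
      have : 2 ≤ (n + 1) * (m + 1) := by nlinarith
      omega
    have hkn : k * n + n = N * (m + 1) := by
      have : 1 ≤ (n + 1) * (m + 1) := by nlinarith
      have h2 : (k + 1) * n = N * (m + 1) := by
        rw [hk, Nat.sub_add_cancel this, hN]
        ring
      linarith
    let w : Fin (m + 1) → ℕ := fun j => if j = i then N - n else N
    have hnN : n ≤ N := Nat.le_mul_of_pos_right n (Nat.succ_pos n)
    have hwsum : ∑ j, w j = k * n := by
      have h1 : ∀ j, w j + (if j = i then n else 0) = N := by
        intro j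
        show (if j = i then N - n else N) + (if j = i then n else 0) = N
        split_ifs <;> omega
      have h2 : ∑ j, (w j + (if j = i then n else 0)) = ∑ _j : Fin (m + 1), N :=
        Finset.sum_congr rfl (fun j _ => h1 j)
      rw [Finset.sum_add_distrib, Finset.sum_ite_eq' Finset.univ i (fun _ => n),
        if_pos (Finset.mem_univ i), Finset.sum_const, Finset.card_univ, Fintype.card_fin,
        smul_eq_mul] at h2
      have : (m + 1) * N = N * (m + 1) := Nat.mul_comm _ _
      omega
    have hwle : ∀ j, w j ≤ N := by
      intro j
      show (if j = i then N - n else N) ≤ N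
      split_ifs <;> omega
    have hcond : ∀ T : Finset (Fin (m + 1)), ∑ j ∈ T, w j ≤
        k * Module.finrank K (Submodule.span K (x '' (T : Set (Fin (m + 1))))) := by
      intro T
      by_cases hTne : T.Nonempty
      swap
      · rw [Finset.not_nonempty_iff_eq_empty] at hTne
        rw [hTne, Finset.sum_empty]
        exact Nat.zero_le _
      by_cases htop : Submodule.span K (x '' (T : Set (Fin (m + 1)))) = ⊤
      · rw [htop, finrank_top, ← hndef, ← hwsum]
        exact Finset.sum_le_sum_of_subset (Finset.subset_univ T)
      · have h1 := hT T hTne htop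
        set l := Module.finrank K (Submodule.span K (x '' (T : Set (Fin (m + 1))))) with hl
        have hln : l ≤ n := Submodule.finrank_le _
        have h2 : ∑ j ∈ T, w j ≤ T.card * N := by
          rw [← smul_eq_mul, ← Finset.sum_const]
          exact Finset.sum_le_sum (fun j _ => hwle j)
        refine le_trans h2 ?_
        have h3 : (k + 1) * l = (n + 1) * (m + 1) * l := by
          have : 1 ≤ (n + 1) * (m + 1) := by nlinarith
          rw [hk, Nat.sub_add_cancel this]
        have h4 := Nat.mul_le_mul_left (n + 1) h1
        have h5 : T.card * N = (n + 1) * (T.card * n) := by rw [hN]; ring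
        have h6 : (n + 1) * (l * (m + 1)) = (k + 1) * l := by rw [h3]; ring
        nlinarith
    obtain ⟨S, hSind, hScov⟩ := Groth.Agent.Lib.Seat60.Rado.exists_cover (K := K) x w k hcond
    have hSle : ∀ c, (S c).card ≤ n := by
      intro c
      have := (hSind c).fintype_card_le_finrank
      rwa [Fintype.card_coe] at this
    have hSsum : ∑ c, (S c).card = k * n := by
      rw [Groth.Agent.Lib.Seat60.Rado.sum_card_eq S, ← hwsum]
      exact Finset.sum_congr rfl (fun j _ => hScov j)
    have hSeq : ∀ c, (S c).card = n := by
      intro c0
      by_contra hne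
      have hlt : (S c0).card < n := lt_of_le_of_ne (hSle c0) hne
      have : ∑ c, (S c).card < ∑ _c : Fin k, n :=
        Finset.sum_lt_sum (fun c _ => hSle c) ⟨c0, Finset.mem_univ _, hlt⟩
      rw [Finset.sum_const, Finset.card_univ, Fintype.card_fin, smul_eq_mul, hSsum] at this
      exact lt_irrefl _ this
    refine ⟨(Finset.univ : Finset (Fin k)).val.map S, ?_, ?_, ?_⟩
    · intro h0
      have : S ⟨0, hk1⟩ ∈ (Finset.univ : Finset (Fin k)).val.map S :=
        Multiset.mem_map_of_mem S (Finset.mem_univ_val _)
      rw [h0] at this
      exact Multiset.notMem_zero _ this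
    · intro S' hS'
      rw [Multiset.mem_map] at hS'
      obtain ⟨c, -, rfl⟩ := hS'
      exact ⟨hSeq c, hSind c⟩
    · intro j
      rw [Multiset.filter_map, Multiset.card_map]
      have : Multiset.filter ((fun S' : Finset (Fin (m + 1)) => j ∈ S') ∘ S)
          (Finset.univ : Finset (Fin k)).val = (Finset.univ.filter (fun c => j ∈ S c)).val := rfl
      rw [this, ← Finset.card_def, hScov j]
  · -- monomials ⇒ stable
    rintro ⟨N, N₀, hN₀, hNle, hP⟩ L hbot htop
    set l := Module.finrank K L with hl
    have hl1 : 1 ≤ l := by
      have : Nontrivial L := (Submodule.nontrivial_iff_ne_bot).mpr hbot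
      exact Module.finrank_pos
    have hln : l < n := Submodule.finrank_lt htop
    set T : Finset (Fin (m + 1)) := Finset.univ.filter (fun i => x i ∈ L) with hTdef
    have hTL : ∀ j ∈ T, x j ∈ L := fun j hj => (Finset.mem_filter.mp hj).2
    have hcard : Set.ncard {i : Fin (m + 1) | x i ∈ L} = T.card := by
      rw [← Set.ncard_coe_finset T]
      congr 1
      ext j
      simp [hTdef]
    rw [hcard]
    by_cases hTall : T = Finset.univ
    · -- all points lie in `L`: impossible
      exfalso
      obtain ⟨P, hP0, hPb, -⟩ := hP 0
      obtain ⟨S, hS⟩ := Multiset.exists_mem_of_ne_zero hP0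
      obtain ⟨hSn, hSi⟩ := hPb S hS
      have := Groth.Agent.Lib.Seat60.Rado.card_inter_le x S T L hSi hTL
      rw [hTall, Finset.inter_univ, hSn] at this
      omega
    by_cases hTempty : T = ∅
    · rw [hTempty, Finset.card_empty, zero_mul]
      exact Nat.mul_pos hl1 (Nat.succ_pos m)
    -- an index `i` outside `T`
    obtain ⟨i, hi⟩ : ∃ i, i ∉ T := by
      by_contra hcon
      push Not at hcon
      exact hTall (Finset.eq_univ_iff_forall.mpr hcon)
    obtain ⟨P, hP0, hPb, hPc⟩ := hP i
    -- total count
    have htot : Multiset.card P * n + N₀ = N * (m + 1) := by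
      have h1 := Groth.Agent.Lib.Seat60.Rado.sum_cover_eq P (Finset.univ : Finset (Fin (m + 1)))
      have h2 : (P.map (fun S => (S ∩ Finset.univ).card)) = P.map (fun _ => n) := by
        apply Multiset.map_congr rfl
        intro S hS
        rw [Finset.inter_univ]
        exact (hPb S hS).1
      rw [h2, Multiset.map_const', Multiset.sum_replicate, smul_eq_mul] at h1
      have h3 : ∑ j, Multiset.card (P.filter (fun S => j ∈ S)) + N₀ = N * (m + 1) := by
        have h4 : ∀ j, Multiset.card (P.filter (fun S => j ∈ S)) + (if j = i then N₀ else 0) = N := by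
          intro j
          rw [hPc j]
          split_ifs <;> omega
        have h5 : ∑ j, (Multiset.card (P.filter (fun S => j ∈ S)) + (if j = i then N₀ else 0)) =
            ∑ _j : Fin (m + 1), N := Finset.sum_congr rfl (fun j _ => h4 j)
        rw [Finset.sum_add_distrib, Finset.sum_ite_eq' Finset.univ i (fun _ => N₀),
          if_pos (Finset.mem_univ i), Finset.sum_const, Finset.card_univ, Fintype.card_fin,
          smul_eq_mul] at h5
        rw [h5]
        ring
      omega
    -- count on `T`
    have hTcount : T.card * N ≤ Multiset.card P * l := by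
      have h1 := Groth.Agent.Lib.Seat60.Rado.sum_cover_eq P T
      have h2 : ∑ j ∈ T, Multiset.card (P.filter (fun S => j ∈ S)) = T.card * N := by
        rw [← smul_eq_mul, ← Finset.sum_const]
        apply Finset.sum_congr rfl
        intro j hj
        rw [hPc j, if_neg (fun (e : j = i) => hi (e ▸ hj))]
      have h3 : (P.map (fun S => (S ∩ T).card)).sum ≤ (P.map (fun _ => l)).sum := by
        apply Multiset.sum_map_le_sum_map
        intro S hS
        exact Groth.Agent.Lib.Seat60.Rado.card_inter_le x S T L (hPb S hS).2 hTL
      rw [Multiset.map_const', Multiset.sum_replicate, smul_eq_mul] at h3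
      omega
    by_contra hcon
    push Not at hcon
    have hN1 : 1 ≤ N := le_trans hN₀ hNle
    have e1 : N * (l * (m + 1)) ≤ N * (T.card * n) := Nat.mul_le_mul_left N hcon
    have e2 : (T.card * N) * n ≤ (Multiset.card P * l) * n := Nat.mul_le_mul_right n hTcount
    have e3 : (Multiset.card P * n + N₀) * l = N * (m + 1) * l := by rw [htot]
    have e4 : 1 ≤ N₀ * l := Nat.mul_pos hN₀ hl1
    nlinarith

end Groth.Agent.S12552
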