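import Groth.Statements.S1277
import Groth.Agent.Lib.Seat6FlatLocal

set_option autoImplicit false
set_option linter.style.haveILetI false
universe u
open FlatMor

namespace Groth.Agent.S1277

open Groth.Agent.Lib.Seat6.FlatLocal

section Aux

open IsLocalRing

/-- The comparison at a pair of primes `Q` over `q'`. -/
theorem flatAt_iff_of_liesOver {A' B' C' : Type u} [CommRing A'] [CommRing B'] [CommRing C']
    [Algebra A' B'] [Algebra A' C'] [Algebra B' C'] [IsScalarTower A' B' C'] [Module.Flat B' C']
    (M' N' : Type u) [AddCommGroup M'] [Module B' M'] [Module A' M'] [IsScalarTower A' B' M']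
    [AddCommGroup N'] [Module C' N'] [Module A' N'] [IsScalarTower A' C' N']
    [Module B' N'] [IsScalarTower B' C' N']
    (f : M' →ₗ[B'] N') (hf : IsBaseChange C' f)
    (q' : Ideal B') [q'.IsPrime] (Q : Ideal C') [Q.IsPrime] (hQ : Q.comap (algebraMap B' C') = q') :
    FlatCA.FlatAt A' q' M' ↔ FlatCA.FlatAt A' Q N' := by
  haveI : Q.LiesOver q' := ⟨hQ.symm⟩
  letI := Localization.AtPrime.algebraOfLiesOver q' Q
  haveI : IsLocalHom (algebraMap (Localization.AtPrime q') (Localization.AtPrime Q)) := by
    rw [RingHom.algebraMap_toAlgebra]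
    exact Localization.isLocalHom_localRingHom q' Q (algebraMap B' C') Ideal.LiesOver.over
  haveI : Module.Flat (Localization.AtPrime q') (Localization.AtPrime Q) := inferInstance
  haveI : Module.FaithfullyFlat (Localization.AtPrime q') (Localization.AtPrime Q) :=
    Module.FaithfullyFlat.of_flat_of_isLocalHom
  letI : Module (Localization.AtPrime q') (LocalizedModule Q.primeCompl N') :=
    Module.compHom _ (algebraMap (Localization.AtPrime q') (Localization.AtPrime Q))
  haveI : IsScalarTower (Localization.AtPrime q') (Localization.AtPrime Q)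
      (LocalizedModule Q.primeCompl N') := IsScalarTower.of_algebraMap_smul fun _ _ => rfl
  haveI : IsScalarTower B' (Localization.AtPrime q') (LocalizedModule Q.primeCompl N') := by
    refine IsScalarTower.of_algebraMap_smul fun b y => ?_
    change algebraMap (Localization.AtPrime q') (Localization.AtPrime Q)
      (algebraMap B' (Localization.AtPrime q') b) • y = b • y
    rw [← IsScalarTower.algebraMap_apply B' (Localization.AtPrime q') (Localization.AtPrime Q),
      algebraMap_smul]
  obtain ⟨h, hbc, -⟩ := exists_isBaseChange_of_square (S₀ := B') (T₀ := C')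
    (S := Localization.AtPrime q') (T := Localization.AtPrime Q) f hf
    (LocalizedModule.mkLinearMap q'.primeCompl M')
    (IsLocalizedModule.isBaseChange q'.primeCompl (Localization.AtPrime q') _)
    (LocalizedModule.mkLinearMap Q.primeCompl N')
    (IsLocalizedModule.isBaseChange Q.primeCompl (Localization.AtPrime Q) _)
  constructor
  · intro hflat
    haveI : Module.Flat A' (LocalizedModule q'.primeCompl M') := hflat
    exact flat_of_isBaseChange_of_flat (R := A') (S := Localization.AtPrime q')
      (T := Localization.AtPrime Q) h hbc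
  · intro hflat
    haveI : Module.Flat A' (LocalizedModule Q.primeCompl N') := hflat
    exact flat_of_isBaseChange_of_faithfullyFlat (R := A') (S := Localization.AtPrime q')
      (T := Localization.AtPrime Q) h hbc

end Aux

open IsLocalRing in
/-- Let A be a local ring, A → B a local homomorphism of local rings, B → C a flat local homomorphism of
local rings, M a B-module and N = M ⊗_B C. For every local homomorphism of local rings A → A', with
base changes B' = B ⊗_A A', M', C' = C ⊗_A A', N' (any models): M' is flat over A' at every prime of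
B' containing 𝔪_{A'}B' + 𝔪_B B' if and only if N' is flat over A' at every prime of C' containing
𝔪_{A'}C' + 𝔪_C C'. -/
theorem result {A B C : Type u} [CommRing A] [IsLocalRing A] [CommRing B] [IsLocalRing B] [CommRing C] [IsLocalRing C]
    [Algebra A B] [IsLocalHom (algebraMap A B)] [Algebra B C] [IsLocalHom (algebraMap B C)] [Algebra A C] [IsScalarTower A B C] [Module.Flat B C]
    (M : Type u) [AddCommGroup M] [Module B M] (N : Type u) [AddCommGroup N] [Module C N] [Module B N] [IsScalarTower B C N]
    (g : M →ₗ[B] N) (hg : IsBaseChange C g)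
    (A' : Type u) [CommRing A'] [IsLocalRing A'] [Algebra A A'] [IsLocalHom (algebraMap A A')]
    (B' M' : Type u) [CommRing B'] [Algebra B B'] [Algebra A' B'] [Algebra A B'] [IsScalarTower A B B'] [IsScalarTower A A' B']
        [Algebra.IsPushout A B A' B']
        [AddCommGroup M'] [Module B' M'] [Module B M'] [IsScalarTower B B' M'] [Module A' M'] [IsScalarTower A' B' M']
        (fB : M →ₗ[B] M') (hfB : IsBaseChange B' fB)
    (C' N' : Type u) [CommRing C'] [Algebra C C'] [Algebra A' C'] [Algebra A C'] [IsScalarTower A C C'] [IsScalarTower A A' C']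
        [Algebra.IsPushout A C A' C']
        [AddCommGroup N'] [Module C' N'] [Module C N'] [IsScalarTower C C' N'] [Module A' N'] [IsScalarTower A' C' N']
        (fC : N →ₗ[C] N') (hfC : IsBaseChange C' fC) :
    FlatCA.FlatAboveClosedPoints B A' B' M' ↔ FlatCA.FlatAboveClosedPoints C A' C' N' := by
  -- the `B`-algebra structure on `C'`
  letI : Algebra B C' := ((algebraMap C C').comp (algebraMap B C)).toAlgebra
  haveI : IsScalarTower B C C' := IsScalarTower.of_algebraMap_eq fun _ => rfl
  haveI : IsScalarTower A B C' := IsScalarTower.of_algebraMap_eq fun a => by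
    rw [IsScalarTower.algebraMap_apply A C C', IsScalarTower.algebraMap_apply A B C,
      ← IsScalarTower.algebraMap_apply B C C']
  -- the map `B' → C'`
  let ψ : B' →ₐ[A] C' := Algebra.pushoutDesc B' (IsScalarTower.toAlgHom A B C')
    (IsScalarTower.toAlgHom A A' C') (fun _ _ => mul_comm _ _)
  letI : Algebra B' C' := ψ.toRingHom.toAlgebra
  haveI : IsScalarTower B B' C' := IsScalarTower.of_algebraMap_eq fun b =>
    (Algebra.pushoutDesc_left B' (IsScalarTower.toAlgHom A B C')
      (IsScalarTower.toAlgHom A A' C') _ b).symm
  haveI : IsScalarTower A' B' C' := IsScalarTower.of_algebraMap_eq fun a =>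
    (Algebra.pushoutDesc_right B' (IsScalarTower.toAlgHom A B C')
      (IsScalarTower.toAlgHom A A' C') _ a).symm
  haveI : IsScalarTower A B' C' := IsScalarTower.of_algebraMap_eq fun a => by
    rw [IsScalarTower.algebraMap_apply A A' C', IsScalarTower.algebraMap_apply A A' B',
      ← IsScalarTower.algebraMap_apply A' B' C']
  have hpush : Algebra.IsPushout B C B' C' :=
    (Algebra.IsPushout.comp_iff A B A' (S' := B') (T := C) (T' := C')).1 inferInstance
  haveI : Module.Flat B' C' := Module.Flat.isBaseChange (R := B) (S := B') (M := C) C' hpush.symm.out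
  -- module structures on `N'`
  letI : Module B' N' := Module.compHom N' (algebraMap B' C')
  haveI : IsScalarTower B' C' N' := IsScalarTower.of_algebraMap_smul fun _ _ => rfl
  letI : Module B N' := Module.compHom N' (algebraMap B C')
  haveI : IsScalarTower B C' N' := IsScalarTower.of_algebraMap_smul fun _ _ => rfl
  haveI : IsScalarTower B C N' := IsScalarTower.of_algebraMap_smul fun b y => by
    change _ = algebraMap B C' b • y
    rw [IsScalarTower.algebraMap_apply B C C', algebraMap_smul C']
  haveI : IsScalarTower B B' N' := IsScalarTower.of_algebraMap_smul fun b y => by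
    change algebraMap B' C' (algebraMap B B' b) • y = algebraMap B C' b • y
    rw [← IsScalarTower.algebraMap_apply B B' C']
  -- the comparison map `M' → N'`
  obtain ⟨f, hf, -⟩ := exists_isBaseChange_of_square (S₀ := B) (T₀ := C) (S := B') (T := C')
    g hg fB hfB fC hfC
  have hmC : (maximalIdeal B).map (algebraMap B C) ≤ maximalIdeal C := by
    rw [Ideal.map_le_iff_le_comap]
    intro b hb
    rw [Ideal.mem_comap, mem_maximalIdeal, mem_nonunits_iff]
    intro hu
    exact ((mem_maximalIdeal b).1 hb) (isUnit_of_map_unit (algebraMap B C) b hu)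
  constructor
  · intro H Q hQ hle
    have hq' : (Q.comap (algebraMap B' C')).IsPrime := Ideal.comap_isPrime (algebraMap B' C') Q
    refine (flatAt_iff_of_liesOver M' N' f hf (Q.comap (algebraMap B' C')) Q rfl).1 (H _ ?_)
    refine sup_le ?_ ?_
    · rw [Ideal.map_le_iff_le_comap]
      intro a ha
      rw [Ideal.mem_comap, Ideal.mem_comap, ← IsScalarTower.algebraMap_apply A' B' C']
      exact hle (Ideal.mem_sup_left (Ideal.mem_map_of_mem _ ha))
    · rw [Ideal.map_le_iff_le_comap]
      intro b hb
      rw [Ideal.mem_comap, Ideal.mem_comap, ← IsScalarTower.algebraMap_apply B B' C',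
        IsScalarTower.algebraMap_apply B C C']
      refine hle (Ideal.mem_sup_right (Ideal.mem_map_of_mem _ ?_))
      exact hmC (Ideal.mem_map_of_mem _ hb)
  · intro H q' hq' hle
    obtain ⟨Q, hQ, hQq, hQC⟩ := exists_prime_comap_eq_of_isPushout (B := B) (C := C) (B' := B')
      (C' := C') q' (le_trans le_sup_right hle)
    refine (flatAt_iff_of_liesOver M' N' f hf q' Q hQq).2 (H Q ?_)
    refine sup_le ?_ hQC
    rw [Ideal.map_le_iff_le_comap]
    intro a ha
    rw [Ideal.mem_comap, IsScalarTower.algebraMap_apply A' B' C', ← Ideal.mem_comap, hQq]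
    exact hle (Ideal.mem_sup_left (Ideal.mem_map_of_mem _ ha))

end Groth.Agent.S1277
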