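import Groth.Statements.S1278
import Groth.Agent.Lib.Seat6FlatLocus

set_option autoImplicit false
set_option linter.style.haveILetI false
universe u
open FlatMor

namespace Groth.Agent.S1278

open Groth.Agent.Lib.Seat6.FlatLocal Groth.Agent.Lib.Seat6.FlatLocus

section Aux

/-- For a `C'`-module `N'`, isomorphic as a `B'`-module to `M'`: `M'` is flat over `A'` at `q'` iff
`N'` is flat over `A'` at every prime `Q` of `C'` whose contraction is contained in `q'`. -/
theorem flatAt_iff_forall {A' B' C' : Type u} [CommRing A'] [CommRing B'] [CommRing C']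
    [Algebra A' B'] [Algebra A' C'] [Algebra B' C'] [IsScalarTower A' B' C']
    (M' N' : Type u) [AddCommGroup M'] [Module B' M'] [Module A' M'] [IsScalarTower A' B' M']
    [AddCommGroup N'] [Module C' N'] [Module A' N'] [IsScalarTower A' C' N']
    [Module B' N'] [IsScalarTower B' C' N'] [IsScalarTower A' B' N']
    (e : M' ≃ₗ[B'] N') (q' : Ideal B') [q'.IsPrime] :
    FlatCA.FlatAt A' q' M' ↔ ∀ (Q : Ideal C') [Q.IsPrime],
      Q.comap (algebraMap B' C') ≤ q' → FlatCA.FlatAt A' Q N' := by
  let W := Algebra.algebraMapSubmonoid C' q'.primeCompl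
  haveI : IsLocalizedModule q'.primeCompl ((LocalizedModule.mkLinearMap W N').restrictScalars B') :=
    IsLocalizedModule.restrictScalars q'.primeCompl (LocalizedModule.mkLinearMap W N')
  let k : M' →ₗ[B'] LocalizedModule W N' :=
    ((LocalizedModule.mkLinearMap W N').restrictScalars B').comp e.toLinearMap
  haveI : IsLocalizedModule q'.primeCompl k := IsLocalizedModule.of_linearEquiv_right _ _ e
  let i := IsLocalizedModule.iso q'.primeCompl k
  have hW : ∀ (Q : Ideal C') [Q.IsPrime], W ≤ Q.primeCompl ↔ Q.comap (algebraMap B' C') ≤ q' := by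
    intro Q _
    constructor
    · intro h b hb
      by_contra hbq
      exact h ⟨b, hbq, rfl⟩ hb
    · rintro h _ ⟨b, hb, rfl⟩ hbQ
      exact hb (h hbQ)
  have h1 : FlatCA.FlatAt A' q' M' ↔ Module.Flat A' (LocalizedModule W N') :=
    ⟨fun h => by
      haveI : Module.Flat A' (LocalizedModule q'.primeCompl M') := h
      exact Module.Flat.of_linearEquiv (i.restrictScalars A').symm,
    fun h => by
      haveI := h
      exact Module.Flat.of_linearEquiv (i.restrictScalars A')⟩
  rw [h1]
  constructor
  · intro h Q _ hQ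
    haveI := h
    exact flat_localizedModule_atPrime_of_flat (R := A') W (LocalizedModule.mkLinearMap W N') Q
      ((hW Q).2 hQ)
  · intro h
    exact flat_localizedModule_of_forall (R := A') W (fun Q _ hQ => h Q ((hW Q).1 hQ))

end Aux

open IsLocalRing in
/-- Let A be a local ring and B → C a finite local homomorphism of local A-algebras (A → B local), and N
a C-module, viewed also as a B-module. For every local homomorphism of local rings A → A', with base
changes B', C' of B, C and base changes M' (of N over B') and N' (of N over C'): M' is flat over A'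
at every prime of B' containing 𝔪_{A'}B' + 𝔪_B B' if and only if N' is flat over A' at every prime
of C' containing 𝔪_{A'}C' + 𝔪_C C'. -/
theorem result {A B C : Type u} [CommRing A] [IsLocalRing A] [CommRing B] [IsLocalRing B] [CommRing C] [IsLocalRing C]
    [Algebra A B] [IsLocalHom (algebraMap A B)] [Algebra B C] [IsLocalHom (algebraMap B C)] [Algebra A C] [IsScalarTower A B C] [Module.Finite B C]
    (N : Type u) [AddCommGroup N] [Module C N] [Module B N] [IsScalarTower B C N]
    (A' : Type u) [CommRing A'] [IsLocalRing A'] [Algebra A A'] [IsLocalHom (algebraMap A A')]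
    (B' M' : Type u) [CommRing B'] [Algebra B B'] [Algebra A' B'] [Algebra A B'] [IsScalarTower A B B'] [IsScalarTower A A' B']
        [Algebra.IsPushout A B A' B']
        [AddCommGroup M'] [Module B' M'] [Module B M'] [IsScalarTower B B' M'] [Module A' M'] [IsScalarTower A' B' M']
        (fB : N →ₗ[B] M') (hfB : IsBaseChange B' fB)
    (C' N' : Type u) [CommRing C'] [Algebra C C'] [Algebra A' C'] [Algebra A C'] [IsScalarTower A C C'] [IsScalarTower A A' C']
        [Algebra.IsPushout A C A' C']
        [AddCommGroup N'] [Module C' N'] [Module C N'] [IsScalarTower C C' N'] [Module A' N'] [IsScalarTower A' C' N']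
        (fC : N →ₗ[C] N') (hfC : IsBaseChange C' fC) :
    FlatCA.FlatAboveClosedPoints B A' B' M' ↔ FlatCA.FlatAboveClosedPoints C A' C' N' := by
  -- the `B`-algebra structure on `C'`
  letI : Algebra B C' := ((algebraMap C C').comp (algebraMap B C)).toAlgebra
  haveI : IsScalarTower B C C' := IsScalarTower.of_algebraMap_eq fun _ => rfl
  haveI : IsScalarTower A B C' := IsScalarTower.of_algebraMap_eq fun a => by
    rw [IsScalarTower.algebraMap_apply A C C', IsScalarTower.algebraMap_apply A B C,
      ← IsScalarTower.algebraMap_apply B C C']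
  -- the map `B' → C'`
  let ψ : B' →ₐ[A] C' := Algebra.pushoutDesc B' (IsScalarTower.toAlgHom A B C')
    (IsScalarTower.toAlgHom A A' C') (fun _ _ => mul_comm _ _)
  letI : Algebra B' C' := ψ.toRingHom.toAlgebra
  haveI : IsScalarTower B B' C' := IsScalarTower.of_algebraMap_eq fun b =>
    (Algebra.pushoutDesc_left B' (IsScalarTower.toAlgHom A B C')
      (IsScalarTower.toAlgHom A A' C') _ b).symm
  haveI : IsScalarTower A' B' C' := IsScalarTower.of_algebraMap_eq fun a =>
    (Algebra.pushoutDesc_right B' (IsScalarTower.toAlgHom A B C')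
      (IsScalarTower.toAlgHom A A' C') _ a).symm
  haveI : IsScalarTower A B' C' := IsScalarTower.of_algebraMap_eq fun a => by
    rw [IsScalarTower.algebraMap_apply A A' C', IsScalarTower.algebraMap_apply A A' B',
      ← IsScalarTower.algebraMap_apply A' B' C']
  have hpush : Algebra.IsPushout B C B' C' :=
    (Algebra.IsPushout.comp_iff A B A' (S' := B') (T := C) (T' := C')).1 inferInstance
  have hpush' : Algebra.IsPushout B B' C C' := hpush.symm
  haveI : Module.Finite B' C' := Module.Finite.equiv hpush'.out.equiv
  haveI : Algebra.IsIntegral B' C' := Algebra.IsIntegral.of_finite B' C'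
  haveI : Algebra.IsIntegral B C := Algebra.IsIntegral.of_finite B C
  -- module structures on `N'`
  letI : Module B' N' := Module.compHom N' (algebraMap B' C')
  haveI : IsScalarTower B' C' N' := IsScalarTower.of_algebraMap_smul fun _ _ => rfl
  haveI : IsScalarTower A' B' N' := IsScalarTower.of_algebraMap_smul fun a y => by
    change algebraMap B' C' (algebraMap A' B' a) • y = a • y
    rw [← IsScalarTower.algebraMap_apply A' B' C', algebraMap_smul]
  -- the comparison isomorphism `M' ≃ N'`
  let e : M' ≃ₗ[B'] N' := hfB.equiv.symm ≪≫ₗ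
    (Algebra.IsPushout.cancelBaseChange B B' C C' N).symm ≪≫ₗ
    (hfC.equiv.restrictScalars B')
  -- primes of `C` containing `𝔪_B C` are maximal
  have hkey : ∀ (𝔭 : Ideal C) [𝔭.IsPrime], (maximalIdeal B).map (algebraMap B C) ≤ 𝔭 →
      𝔭 = maximalIdeal C := by
    intro 𝔭 h𝔭prime h𝔭
    have h0 : maximalIdeal B ≤ 𝔭.comap (algebraMap B C) := Ideal.map_le_iff_le_comap.1 h𝔭
    have h1 : maximalIdeal B = 𝔭.comap (algebraMap B C) :=
      (maximalIdeal.isMaximal B).eq_of_le (Ideal.comap_ne_top _ h𝔭prime.ne_top) h0
    have h2 : 𝔭.IsMaximal :=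
      Ideal.isMaximal_of_isIntegral_of_isMaximal_comap 𝔭 (h1 ▸ maximalIdeal.isMaximal B)
    exact IsLocalRing.eq_maximalIdeal h2
  have hmC : (maximalIdeal B).map (algebraMap B C) ≤ maximalIdeal C := by
    rw [Ideal.map_le_iff_le_comap]
    intro b hb
    rw [Ideal.mem_comap, mem_maximalIdeal, mem_nonunits_iff]
    intro hu
    exact ((mem_maximalIdeal b).1 hb) (isUnit_of_map_unit (algebraMap B C) b hu)
  constructor
  · intro H Q hQ hle
    have hq' : (Q.comap (algebraMap B' C')).IsPrime := Ideal.comap_isPrime (algebraMap B' C') Q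
    refine (flatAt_iff_forall M' N' e (Q.comap (algebraMap B' C'))).1 (H _ ?_) Q le_rfl
    refine sup_le ?_ ?_
    · rw [Ideal.map_le_iff_le_comap]
      intro a ha
      rw [Ideal.mem_comap, Ideal.mem_comap, ← IsScalarTower.algebraMap_apply A' B' C']
      exact hle (Ideal.mem_sup_left (Ideal.mem_map_of_mem _ ha))
    · rw [Ideal.map_le_iff_le_comap]
      intro b hb
      rw [Ideal.mem_comap, Ideal.mem_comap, ← IsScalarTower.algebraMap_apply B B' C',
        IsScalarTower.algebraMap_apply B C C']
      refine hle (Ideal.mem_sup_right (Ideal.mem_map_of_mem _ ?_))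
      exact hmC (Ideal.mem_map_of_mem _ hb)
  · intro H q' hq' hle
    refine (flatAt_iff_forall (C' := C') M' N' e q').2 ?_
    intro Q₀ hQ₀prime hQ₀
    obtain ⟨Q₁, hQ₀₁, hQ₁prime, hQ₁q⟩ :=
      Ideal.exists_ideal_over_prime_of_isIntegral_of_isPrime q' Q₀ hQ₀
    have hQ₁ : FlatCA.FlatAt A' Q₁ N' := by
      refine H Q₁ (sup_le ?_ ?_)
      · rw [Ideal.map_le_iff_le_comap]
        intro a ha
        rw [Ideal.mem_comap, IsScalarTower.algebraMap_apply A' B' C', ← Ideal.mem_comap, hQ₁q]
        exact hle (Ideal.mem_sup_left (Ideal.mem_map_of_mem _ ha))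
      · have hp : (Q₁.comap (algebraMap C C')).IsPrime := Ideal.comap_isPrime (algebraMap C C') Q₁
        have h3 : Q₁.comap (algebraMap C C') = maximalIdeal C := by
          refine hkey _ ?_
          rw [Ideal.map_le_iff_le_comap]
          intro b hb
          rw [Ideal.mem_comap, Ideal.mem_comap, ← IsScalarTower.algebraMap_apply B C C',
            IsScalarTower.algebraMap_apply B B' C', ← Ideal.mem_comap, hQ₁q]
          exact hle (Ideal.mem_sup_right (Ideal.mem_map_of_mem _ hb))
        rw [Ideal.map_le_iff_le_comap, h3]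
    haveI : Module.Flat A' (LocalizedModule Q₁.primeCompl N') := hQ₁
    refine flat_localizedModule_atPrime_of_flat (R := A') Q₁.primeCompl
      (LocalizedModule.mkLinearMap Q₁.primeCompl N') Q₀ ?_
    intro x hx hx0
    exact hx (hQ₀₁ hx0)

end Groth.Agent.S1278
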