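import Groth.Statements.S12783
import Groth.Agent.Lib.Helper17FibRepr2
import Groth.Agent.Lib.Helper17FibFp
-- import your own Groth.Agent.* helpers here

set_option autoImplicit false
open CategoryTheory CategoryTheory.Limits
universe v u
open FibCat

namespace Groth.Agent.S12783

open Groth.Agent.Lib.Helper17

section Aux

variable {C : Type u} [Category.{v} C] {U Y : C} (G : FibCat.overCat U ⥤ᵇ FibCat.overCat Y)

/-- the underlying object of `G a` is that of `a` -/
theorem gLeft (a : Over U) : (G.obj a).left = a.left := G.w_obj a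

/-- the structure morphism of `G a`, transported to `a.left` -/
def gHom (a : Over U) : a.left ⟶ Y := eqToHom (gLeft G a).symm ≫ (G.obj a).hom

theorem gMap_left {a b : Over U} (φ : a ⟶ b) :
    (G.map φ).left = eqToHom (gLeft G a) ≫ φ.left ≫ eqToHom (gLeft G b).symm := by
  exact Functor.congr_hom G.w φ

theorem gHom_naturality {a b : Over U} (φ : a ⟶ b) : gHom G a = φ.left ≫ gHom G b := by
  have h1 := Over.w (G.map φ)
  rw [gMap_left] at h1
  simp only [gHom]
  rw [← h1]
  simp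

theorem gHom_eq (a : Over U) : gHom G a = a.hom ≫ gHom G (Over.mk (𝟙 U)) := by
  have := gHom_naturality G (Over.homMk a.hom (by simp) : a ⟶ Over.mk (𝟙 U))
  simpa using this

end Aux

/-- For a morphism `f : X ⟶ Y` in a category `C` with fibre products, the induced functor `C/X ⟶ C/Y`
over `C` is a representable 1-morphism. (The published statement is for schemes over a base; this
row holds in any category with fibre products.) -/
theorem result {C : Type u} [Category.{v} C] [HasPullbacks C] {X Y : C} (f : X ⟶ Y) :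
    FibCat.IsRepresentable1 (⟨Over.map f, Over.mapForget_eq f⟩ : FibCat.overCat X ⥤ᵇ FibCat.overCat Y) := by
  intro U G
  set F : FibCat.overCat X ⥤ᵇ FibCat.overCat Y := ⟨Over.map f, Over.mapForget_eq f⟩ with hF
  have hgrpd : FibCat.IsFibGrpd (FibCat.fp G F).p :=
    isFibGrpd_fp G F (isFibSet_overForget U).1 (isFibSet_overForget X).1 (isFibSet_overForget Y).1
  -- the morphism `g : U ⟶ Y` classified by `G`
  set g : U ⟶ Y := gHom G (Over.mk (𝟙 U)) with hg
  -- facts about an object of the fibre product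
  have key : ∀ ρ : (FibCat.fp G F).obj, ∃ (e : ρ.obj.snd.left = ρ.obj.fst.left)
      (h1 : (G.obj ρ.obj.fst).left = ρ.obj.fst.left),
      ρ.obj.iso.hom.left = eqToHom h1 ≫ eqToHom e.symm ∧
      ρ.obj.fst.hom ≫ g = eqToHom e.symm ≫ ρ.obj.snd.hom ≫ f := by
    intro ρ
    have hp : (Over.forget Y).IsHomLift (𝟙 ρ.obj.fst.left) ρ.obj.iso.hom := ρ.property
    have h1 : (G.obj ρ.obj.fst).left = ρ.obj.fst.left :=
      IsHomLift.domain_eq (Over.forget Y) (𝟙 ρ.obj.fst.left) ρ.obj.iso.hom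
    have h2 : ρ.obj.snd.left = ρ.obj.fst.left :=
      IsHomLift.codomain_eq (Over.forget Y) (𝟙 ρ.obj.fst.left) ρ.obj.iso.hom
    have h3 : ρ.obj.iso.hom.left = eqToHom h1 ≫ eqToHom h2.symm := by
      have : ρ.obj.iso.hom.left = eqToHom h1 ≫ 𝟙 _ ≫ eqToHom h2.symm :=
        IsHomLift.fac' (Over.forget Y) (𝟙 ρ.obj.fst.left) ρ.obj.iso.hom
      rw [this]
      simp
    refine ⟨h2, h1, h3, ?_⟩
    have h4 : ρ.obj.iso.hom.left ≫ (ρ.obj.snd.hom ≫ f) = (G.obj ρ.obj.fst).hom :=
      Over.w ρ.obj.iso.hom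
    rw [← gHom_eq G ρ.obj.fst]
    simp only [gHom]
    rw [← h4, h3]
    simp
  -- the terminal object
  have hw₀ : eqToHom (gLeft G (Over.mk (pullback.fst g f))) ≫ (pullback.snd g f ≫ f) =
      (G.obj (Over.mk (pullback.fst g f))).hom := by
    have h : eqToHom (gLeft G (Over.mk (pullback.fst g f))).symm ≫
        (G.obj (Over.mk (pullback.fst g f))).hom = pullback.fst g f ≫ g :=
      gHom_eq G (Over.mk (pullback.fst g f))
    rw [← pullback.condition, ← h]
    simp
  let i₀ : G.obj (Over.mk (pullback.fst g f)) ≅ F.obj (Over.mk (pullback.snd g f)) :=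
    Over.isoMk (eqToIso (gLeft G (Over.mk (pullback.fst g f)))) hw₀
  have hi₀ : (Over.forget Y).IsHomLift (𝟙 (pullback g f)) i₀.hom := by
    apply IsHomLift.of_fac' (Over.forget Y) _ _ (gLeft G (Over.mk (pullback.fst g f))) rfl
    change eqToHom (gLeft G (Over.mk (pullback.fst g f))) =
      eqToHom (gLeft G (Over.mk (pullback.fst g f))) ≫ 𝟙 (pullback g f) ≫ 𝟙 (pullback g f)
    have hid : ∀ {A B : C} (m : A ⟶ B), m = m ≫ 𝟙 B ≫ 𝟙 B := fun m => by simp
    exact hid _
  let ξ : (FibCat.fp G F).obj :=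
    ⟨{ fst := Over.mk (pullback.fst g f), snd := Over.mk (pullback.snd g f), iso := i₀ }, hi₀⟩
  have hξ : ∀ ρ : (FibCat.fp G F).obj, Nonempty (Unique (ρ ⟶ ξ)) := by
    intro ρ
    obtain ⟨e, h1, h3, h4⟩ := key ρ
    let l : ρ.obj.fst.left ⟶ pullback g f :=
      pullback.lift ρ.obj.fst.hom (eqToHom e.symm ≫ ρ.obj.snd.hom) (by simpa using h4)
    let φ₁ : ρ.obj.fst ⟶ ξ.obj.fst := Over.homMk l (pullback.lift_fst _ _ _)
    let φ₂ : ρ.obj.snd ⟶ ξ.obj.snd := Over.homMk (eqToHom e ≫ l) (by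
      change (eqToHom e ≫ l) ≫ pullback.snd g f = ρ.obj.snd.hom
      rw [Category.assoc, pullback.lift_snd]
      simp)
    have hw : G.map φ₁ ≫ ξ.obj.iso.hom = ρ.obj.iso.hom ≫ F.map φ₂ := by
      apply Over.OverMorphism.ext
      change (G.map φ₁).left ≫ eqToHom (gLeft G (Over.mk (pullback.fst g f))) =
        ρ.obj.iso.hom.left ≫ (eqToHom e ≫ l)
      rw [gMap_left G φ₁, h3]
      change (eqToHom _ ≫ l ≫ eqToHom _) ≫ eqToHom _ = _
      simp
    refine ⟨{ default := ObjectProperty.homMk ⟨φ₁, φ₂, hw⟩, uniq := ?_ }⟩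
    intro ψ
    have hψw := ψ.hom.w
    have hψ1 : ψ.hom.fst.left ≫ pullback.fst g f = ρ.obj.fst.hom := Over.w ψ.hom.fst
    have hψ2 : ψ.hom.snd.left ≫ pullback.snd g f = ρ.obj.snd.hom := Over.w ψ.hom.snd
    have hψ3 : (G.map ψ.hom.fst).left ≫ eqToHom (gLeft G (Over.mk (pullback.fst g f))) =
        ρ.obj.iso.hom.left ≫ ψ.hom.snd.left :=
      congrArg (fun m => m.left) hψw
    rw [gMap_left G ψ.hom.fst, h3] at hψ3
    have hψ4 : ψ.hom.snd.left = eqToHom e ≫ ψ.hom.fst.left := by
      have : eqToHom (gLeft G ρ.obj.fst) ≫ ψ.hom.fst.left =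
          (eqToHom h1 ≫ eqToHom e.symm) ≫ ψ.hom.snd.left := by
        simpa using hψ3
      rw [← cancel_epi (eqToHom h1 ≫ eqToHom e.symm), ← this]
      simp
    have hψ5 : ψ.hom.fst.left = l := by
      apply pullback.hom_ext
      · rw [hψ1]; exact (pullback.lift_fst _ _ _).symm
      · have : ψ.hom.fst.left = eqToHom e.symm ≫ ψ.hom.snd.left := by rw [hψ4]; simp
        rw [this, Category.assoc, hψ2]; exact (pullback.lift_snd _ _ _).symm
    apply ObjectProperty.hom_ext
    apply CategoricalPullback.hom_ext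
    · apply Over.OverMorphism.ext
      exact hψ5
    · apply Over.OverMorphism.ext
      change ψ.hom.snd.left = eqToHom e ≫ l
      rw [hψ4, hψ5]
  obtain ⟨E, hE⟩ := isEquivOver_of_terminal hgrpd ξ hξ
  exact ⟨_, E, hE⟩

end Groth.Agent.S12783
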