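import Groth.Statements.S1279
import Groth.Agent.Lib.Seat82AdmSeparate
import Groth.Agent.Lib.Seat82ConstructibleOpen
import Groth.Agent.Lib.Seat82BlowUpExists

set_option autoImplicit false
universe u
open FlatMor

namespace Groth.Agent.S1279

open AlgebraicGeometry CategoryTheory Limits Topology in
/-- Let X be a quasi-compact and quasi-separated scheme, U ⊆ X a quasi-compact open, and T₁, T₂ ⊆ U
disjoint subsets which are closed and constructible in U. Then there is a U-admissible blow-up b :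
X' → X such that the closures in X' of the preimages of T₁ and T₂ are disjoint. (Part (1), about
strict transforms of closed subschemes, is not stated.) -/
theorem result {X : Scheme.{u}} [CompactSpace X] [QuasiSeparatedSpace X]
    (U : X.Opens) (hU : IsCompact (U : Set X)) (T₁ T₂ : Set U)
    (h₁ : IsClosed T₁) (h₂ : IsClosed T₂) (c₁ : IsConstructible T₁) (c₂ : IsConstructible T₂) (hd : Disjoint T₁ T₂) :
    ∃ (𝓘 : X.IdealSheafData) (X' : Scheme.{u}) (b : X' ⟶ X), BlowUp.IsBlowUp b 𝓘 ∧ BlowUp.IsAdmissibleFor U 𝓘 ∧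
      Disjoint (closure (b.base ⁻¹' (Subtype.val '' T₁))) (closure (b.base ⁻¹' (Subtype.val '' T₂))) := by
  open Groth.Agent.Lib.Seat82 Scheme.IdealSheafData in
  classical
  have : CompactSpace ↥(U : Scheme.{u}) := isCompact_iff_compactSpace.mp hU
  have : QuasiSeparatedSpace ↥(U : Scheme.{u}) := U.ι.isOpenEmbedding.quasiSeparatedSpace
  -- a finite type ideal sheaf on `X` cutting out `T` inside `U`
  have key : ∀ T : Set U, IsClosed T → IsConstructible T →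
      ∃ 𝓙 : X.IdealSheafData, BlowUp.IsFiniteTypeIdeal 𝓙 ∧
        (𝓙.support : Set X) ∩ (U : Set X) = Subtype.val '' T := by
    intro T hT hcT
    have hcomp : IsCompact (Subtype.val '' Tᶜ : Set X) :=
      (ConstructibleOpen.isCompact_of_isOpen_of_isConstructible hcT.compl).image continuous_subtype_val
    have hopen : IsOpen (Subtype.val '' Tᶜ : Set X) :=
      U.ι.isOpenEmbedding.isOpenMap _ hT.isOpen_compl
    obtain ⟨𝓙, hft, hsupp⟩ := AdmSeparate.exists_ft_support_eq (Subtype.val '' Tᶜ : Set X)ᶜ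
      hopen.isClosed_compl (by rw [compl_compl]; exact hcomp)
    refine ⟨𝓙, hft, ?_⟩
    rw [hsupp]
    ext x
    constructor
    · rintro ⟨hx1, hxU⟩
      by_contra hxT
      exact hx1 ⟨⟨x, hxU⟩, fun h => hxT ⟨_, h, rfl⟩, rfl⟩
    · rintro ⟨y, hyT, rfl⟩
      refine ⟨?_, y.2⟩
      rintro ⟨y', hy', hyy'⟩
      exact hy' (Subtype.val_injective hyy' ▸ hyT)
  obtain ⟨𝓘₁, hft₁, hs₁⟩ := key T₁ h₁ c₁
  obtain ⟨𝓘₂, hft₂, hs₂⟩ := key T₂ h₂ c₂
  have hsupp : ((𝓘₁ ⊔ 𝓘₂).support : Set X) = (𝓘₁.support : Set X) ∩ (𝓘₂.support : Set X) := by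
    rw [support_sup]; rfl
  have hdisj : Disjoint ((𝓘₁ ⊔ 𝓘₂).support : Set X) (U : Set X) := by
    rw [hsupp, Set.disjoint_left]
    rintro x ⟨hx1, hx2⟩ hxU
    have e1 : x ∈ Subtype.val '' T₁ := by rw [← hs₁]; exact ⟨hx1, hxU⟩
    have e2 : x ∈ Subtype.val '' T₂ := by rw [← hs₂]; exact ⟨hx2, hxU⟩
    obtain ⟨y₁, hy₁, rfl⟩ := e1
    obtain ⟨y₂, hy₂, hy⟩ := e2
    exact Set.disjoint_left.1 hd hy₁ (Subtype.val_injective hy ▸ hy₂)
  obtain ⟨X', b, hb⟩ := BlowUpExists.exists_isBlowUp X (𝓘₁ ⊔ 𝓘₂)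
  refine ⟨𝓘₁ ⊔ 𝓘₂, X', b, hb, ⟨Groth.Agent.Lib.Helper22.FTIdeal.FT.sup hft₁ hft₂, hdisj⟩, ?_⟩
  have hprin : ∀ x' : X', ∃ U' : X'.affineOpens, x' ∈ U'.1 ∧
      ∃ t₀ : Γ(X', U'.1), ((𝓘₁ ⊔ 𝓘₂).comap b).ideal U' = Ideal.span {t₀} := by
    intro x'
    obtain ⟨U', hx', t₀, -, ht₀⟩ := hb.1 x'
    exact ⟨U', hx', t₀, ht₀⟩
  have hT₁U : ∀ x ∈ (Subtype.val '' T₁ : Set X), x ∈ (𝓘₁.support : Set X) ∧ x ∈ (U : Set X) := by
    intro x hx; rw [← hs₁] at hx; exact hx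
  have hT₂U : ∀ x ∈ (Subtype.val '' T₂ : Set X), x ∈ (𝓘₂.support : Set X) ∧ x ∈ (U : Set X) := by
    intro x hx; rw [← hs₂] at hx; exact hx
  have hSg : ∀ s ∈ b.base ⁻¹' (Subtype.val '' T₂ : Set X),
      (𝟙 X : X ⟶ X) (b s) ∉ (𝓘₁ ⊔ 𝓘₂).support ∧ b s ∈ 𝓘₂.support := by
    intro s hs
    refine ⟨fun hmem => ?_, (hT₂U _ hs).1⟩
    exact Set.disjoint_left.1 hdisj hmem (hT₂U _ hs).2
  have hres := BlowUpSeparate.disjoint_of_separation b (𝟙 X) b (𝟙 X') (by simp) 𝓘₁ (𝓘₁ ⊔ 𝓘₂)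
    le_sup_left hprin (Subtype.val '' T₁ : Set X) (fun x hx => (hT₁U x hx).1)
    (Set.disjoint_left.2 fun x hx hxE => Set.disjoint_left.1 hdisj hxE (hT₁U x hx).2)
    𝓘₂ (by rw [comap_id, comap_id]) (b.base ⁻¹' (Subtype.val '' T₂ : Set X)) hSg
  exact hres

end Groth.Agent.S1279
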