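import Groth.Statements.S1285
import Groth.Agent.Lib.Seat55OneStep

set_option autoImplicit false
universe u
open FlatMor

namespace Groth.Agent.S1285

/-- Let (C, D, G) be a one-step dévissage of N/S/R over the prime p (see FlatCA.IsOneStepDevissage), and
suppose pD is prime (the generic point of the fibre of Spec D). Then there are r > 0 and a D-linear
map α from D^r to G which becomes bijective after base change to the residue field of pD; moreover
for every such α the support of the fibre module over p of the cokernel of α has dimension strictly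
less than that of the fibre module of N. -/
theorem result {R S : Type u} [CommRing R] [CommRing S] [Algebra R S] [Algebra.FiniteType R S]
    (N : Type u) [AddCommGroup N] [Module S N] [Module R N] [IsScalarTower R S N] [Module.Finite S N] (p : Ideal R) [p.IsPrime]
    (C D G : Type u) [CommRing C] [CommRing D] [Algebra S C] [Algebra R C] [IsScalarTower R S C]
    [Algebra R D] [Algebra D C] [IsScalarTower R D C] [AddCommGroup G] [Module C G] [Module S G] [IsScalarTower S C G]
    [Module D G] [IsScalarTower D C G] [Module R G] [IsScalarTower R D G]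
    (n : ℕ) (h : FlatCA.IsOneStepDevissage R S N p C D G n) [(p.map (algebraMap R D)).IsPrime] :
    (∃ (r : ℕ) (α : (Fin r → D) →ₗ[D] G), 0 < r ∧ Function.Bijective (α.baseChange (p.map (algebraMap R D)).ResidueField)) ∧
    ∀ (r : ℕ) (α : (Fin r → D) →ₗ[D] G), Function.Bijective (α.baseChange (p.map (algebraMap R D)).ResidueField) →
      Module.supportDim (p.Fiber D) (FlatCA.fiberMod p D (G ⧸ LinearMap.range α)) < (n : WithBot ℕ∞) := by
  obtain ⟨⟨e⟩, hsurj, -, hfinDC, hfinCG, hsm, -, hdim⟩ := h
  have := hfinDC
  have := hfinCG
  have : Module.Finite D G := Module.Finite.trans C G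
  have hdimD : ringKrullDim (p.Fiber D) ≤ (n : WithBot ℕ∞) :=
    Groth.Agent.Lib.Seat55.OneStep.ringKrullDim_fiber_le_of_smoothRelDim n hsm p
  have hPG : (⟨p.map (algebraMap R D), inferInstance⟩ : PrimeSpectrum D) ∈
      Module.support D G := by
    by_contra hcon
    have h1 := Groth.Agent.Lib.Seat55.OneStep.supportDim_fiberMod_lt p G n hdimD hcon
    have h2 := Groth.Agent.Lib.Seat55.OneStep.le_supportDim_fiberMod (D := D) p N G e hsurj
    rw [hdim] at h2
    exact absurd (h2.trans_lt h1) (lt_irrefl _)
  refine ⟨Groth.Agent.Lib.Seat55.OneStep.exists_basis_map G _ hPG, fun r α hα => ?_⟩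
  exact Groth.Agent.Lib.Seat55.OneStep.supportDim_fiberMod_lt p (G ⧸ LinearMap.range α) n hdimD
    (Groth.Agent.Lib.Seat55.OneStep.not_mem_support_coker G _ α hα.2)

end Groth.Agent.S1285
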