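import Groth.Statements.S12861
import Mathlib
import Groth.Agent.Lib.Seat59OpenSubC

set_option autoImplicit false
open CategoryTheory AlgebraicGeometry
universe u w
open AlgSt

namespace Groth.Agent.S12861

/-- Let `𝒳` be an algebraic stack over `S` and `𝒳_i ⊂ 𝒳` a family of open substacks. Then there is an
open substack `𝒳' ⊂ 𝒳`, the union of the `𝒳_i`, containing every `𝒳_i` and covered by them: its
points in `|𝒳|` are the union of the points of the `𝒳_i`. -/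
theorem result {S : Scheme.{u}} {𝒳 : AlgSt.Cat S}
    (h𝒳 : AlgSt.IsAlgStack Scheme.fppfPrecoverage 𝒳) {ι : Type w} (Q : ι → 𝒳.obj → Prop)
    (hQ : ∀ i, AlgSt.IsOpenSubstack 𝒳 (Q i) Scheme.fppfPrecoverage) :
    ∃ Q' : 𝒳.obj → Prop, AlgSt.IsOpenSubstack 𝒳 Q' Scheme.fppfPrecoverage ∧ (∀ i y, Q i y → Q' y) ∧
      Set.range (AlgSt.Points.map (AlgSt.subIncl 𝒳 Q')) = ⋃ i, Set.range (AlgSt.Points.map (AlgSt.subIncl 𝒳 (Q i))) := by
  have hopen : IsOpen (⋃ i, Set.range (AlgSt.Points.map (AlgSt.subIncl 𝒳 (Q i)))) :=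
    isOpen_iUnion (fun i => Groth.Agent.Lib.Seat59.OpenSubC.isOpen_range_subIncl h𝒳 (Q i) (hQ i))
  refine ⟨Groth.Agent.Lib.Seat59.OpenSubA.QW (⋃ i, Set.range (AlgSt.Points.map (AlgSt.subIncl 𝒳 (Q i)))),
    Groth.Agent.Lib.Seat59.OpenSubB.isOpenSubstack_qW h𝒳 _ hopen, fun i y hy => ?_,
    Groth.Agent.Lib.Seat59.OpenSubA.range_points_map_subIncl_qW _⟩
  exact Groth.Agent.Lib.Seat59.OpenSubA.qW_mono (Set.subset_iUnion _ i) y
    (Groth.Agent.Lib.Seat59.OpenSubC.qW_range_of_q h𝒳 (Q i) (hQ i) y hy)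

end Groth.Agent.S12861
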