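import Groth.Statements.S12878
import Mathlib
import Groth.Agent.Lib.Seat59ImmImage

set_option autoImplicit false
open CategoryTheory AlgebraicGeometry
universe u
open AlgSt

namespace Groth.Agent.S12878

/-- Let `i : 𝒵 ⟶ 𝒳` be an immersion of algebraic stacks over `S`. Then there is a unique locally closed
substack `𝒳' ⊂ 𝒳` (a predicate on objects closed under isomorphisms, with algebraic full subcategory
and immersion inclusion) such that `i` is 2-isomorphic to an equivalence `𝒵 ⟶ 𝒳'` over `(Sch/S)`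
followed by the inclusion `𝒳' ⟶ 𝒳`; moreover `𝒳'` is closed (resp. open) as a substack whenever `i`
is a closed (resp. open) immersion. -/
theorem result {S : Scheme.{u}} {𝒵 𝒳 : AlgSt.Cat S}
    (h𝒵 : AlgSt.IsAlgStack Scheme.fppfPrecoverage 𝒵) (h𝒳 : AlgSt.IsAlgStack Scheme.fppfPrecoverage 𝒳) (i : 𝒵 ⥤ᵇ 𝒳) (hi : AlgSt.IsImm i) :
    ∃ Q : 𝒳.obj → Prop,
      (AlgSt.IsLocClosedSubstack 𝒳 Q Scheme.fppfPrecoverage ∧
        (∃ i' : 𝒵 ⥤ᵇ AlgSt.fullSub 𝒳 Q, FibCat.IsEquivOver i' ∧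
          Nonempty (BasedFunctor.comp i' (AlgSt.subIncl 𝒳 Q) ≅ i)) ∧
        (AlgSt.IsClosedImm i → AlgSt.IsClosedSubstack 𝒳 Q Scheme.fppfPrecoverage) ∧
        (AlgSt.IsOpenImm i → AlgSt.IsOpenSubstack 𝒳 Q Scheme.fppfPrecoverage)) ∧
      ∀ Q' : 𝒳.obj → Prop, AlgSt.IsLocClosedSubstack 𝒳 Q' Scheme.fppfPrecoverage →
        (∃ i' : 𝒵 ⥤ᵇ AlgSt.fullSub 𝒳 Q', FibCat.IsEquivOver i' ∧
          Nonempty (BasedFunctor.comp i' (AlgSt.subIncl 𝒳 Q') ≅ i)) → Q' = Q := by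
  have hmono : AlgSt.IsMono i := Groth.Agent.S12868.result i hi
  obtain ⟨hfull, hfaith⟩ := Groth.Agent.Lib.Helper17.MonoFF.full_faithful_of_isMono
    h𝒵.isStack.1 h𝒳.isStack.1 i hmono
  have hE := Groth.Agent.Lib.Seat59.ImmImage.isEquivOver_toEssImage h𝒵.isStack.1 h𝒳.isStack.1 i
  have hclosed := Groth.Agent.Lib.Seat59.ImmImage.essImage_isClosedUnderIsomorphisms i
  have halg : AlgSt.IsAlgStack Scheme.fppfPrecoverage
      (AlgSt.fullSub 𝒳 (Groth.Agent.Lib.Seat59.ImmImage.essImage i)) :=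
    (Groth.Agent.S12770.result _ hE).1 h𝒵
  refine ⟨Groth.Agent.Lib.Seat59.ImmImage.essImage i, ⟨⟨hclosed, halg,
    Groth.Agent.Lib.Seat59.ImmImage.repByAlgSpWith_subIncl_essImage h𝒵.isStack.1 h𝒳.isStack.1 i _ hi⟩,
    ⟨Groth.Agent.Lib.Seat59.ImmImage.toEssImage i, hE, ⟨Iso.refl _⟩⟩,
    fun hc => ⟨hclosed, halg,
      Groth.Agent.Lib.Seat59.ImmImage.repByAlgSpWith_subIncl_essImage h𝒵.isStack.1 h𝒳.isStack.1 i _ hc⟩,
    fun ho => ⟨hclosed, halg,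
      Groth.Agent.Lib.Seat59.ImmImage.repByAlgSpWith_subIncl_essImage h𝒵.isStack.1 h𝒳.isStack.1 i _ ho⟩⟩,
    ?_⟩
  rintro Q' hQ' ⟨i', hi', ⟨ε⟩⟩
  exact Groth.Agent.Lib.Seat59.ImmImage.eq_essImage i Q' hQ'.1 i' hi' ε

end Groth.Agent.S12878
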