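import Groth.Statements.S12899
import Mathlib
import Groth.Agent.Lib.Seat30DerNak

set_option autoImplicit false
universe u
open CategoryTheory CategoryTheory.Limits
attribute [local instance] HasDerivedCategory.standard
open DRing

namespace Groth.Agent.S12899

open CategoryTheory CategoryTheory.Limits MonoidalCategory HomologicalComplex TensorProduct
open DerivedCategory Groth.Agent.Lib.Helper1.KF Groth.Agent.Lib.Helper1.Tor
  Groth.Agent.Lib.Helper1.TorM Groth.Agent.Lib.Helper1.TorN Groth.Agent.Lib.Helper1.TorO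
  Groth.Agent.Lib.Helper1.DT Groth.Agent.Lib.Helper1.LDer Groth.Agent.Lib.Seat30.DerNak

section aux

variable {R : Type u} [CommRing R]

/-- a complex concentrated in degree `0` is a single complex (keeping track of the module) -/
noncomputable def isoSingleZero (E : DRing.Cx R) (hE : DRing.VanishesOutside E 0 0) :
    E ≅ (HomologicalComplex.single (ModuleCat.{u} R) (ComplexShape.up ℤ) 0).obj (E.X 0) where
  hom := mkHomToSingle (𝟙 _) (fun i (hi : i + 1 = 0) => (hE i (Or.inl (by lia))).eq_of_src _ _)
  inv := mkHomFromSingle (𝟙 _) (fun i (hi : 0 + 1 = i) => (hE i (Or.inr (by lia))).eq_of_tgt _ _)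
  hom_inv_id := by
    apply HomologicalComplex.hom_ext
    intro i
    obtain hi | rfl | hi := lt_trichotomy i 0
    · apply (hE i (Or.inl hi)).eq_of_src
    · simp
    · apply (hE i (Or.inr hi)).eq_of_tgt
  inv_hom_id := by aesop

lemma vanishesOutside_single (N : ModuleCat.{u} R) :
    DRing.VanishesOutside
      ((HomologicalComplex.single (ModuleCat.{u} R) (ComplexShape.up ℤ) 0).obj N) 0 0 := by
  intro i hi
  apply HomologicalComplex.isZero_single_obj_X
  rcases hi with hi | hi <;> lia

lemma termwiseFlat_single (N : ModuleCat.{u} R) [Module.Flat R N] :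
    DRing.TermwiseFlat
      ((HomologicalComplex.single (ModuleCat.{u} R) (ComplexShape.up ℤ) 0).obj N) := by
  intro i
  by_cases hi : i = 0
  · subst hi
    exact Module.Flat.of_linearEquiv
      (HomologicalComplex.singleObjXSelf (ComplexShape.up ℤ) 0 N).toLinearEquiv
  · have hz : IsZero (((HomologicalComplex.single (ModuleCat.{u} R)
        (ComplexShape.up ℤ) 0).obj N).X i) := HomologicalComplex.isZero_single_obj_X _ _ _ _ hi
    have := ModuleCat.subsingleton_of_isZero hz
    infer_instance

/-- tensor-vanishing of a base change which is a flat module in degree `0` -/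
lemma torVan_extCx_of_iso {S : Type u} [CommRing S] (φ : R →+* S) [DRing.HasLBaseChange φ]
    (F : DRing.Cx R) [F.IsKProjective] {M : Dual.D R} (e : Q.obj F ≅ M)
    (N : Type u) [AddCommGroup N] [Module S N] [Module.Flat S N]
    (eN : (DRing.LBaseChange φ).obj M ≅ Dual.inD S N) :
    TorVan ((DTen.extCx φ).obj F) 0 0 := by
  have hfl : Module.Flat S (ModuleCat.of S N) := ‹_›
  refine torVan_of_iso_kflat _ ((HomologicalComplex.single (ModuleCat.{u} S)
    (ComplexShape.up ℤ) 0).obj (ModuleCat.of S N)) (kflat_of_isKProjective _) 0 0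
    (vanishesOutside_single _) (termwiseFlat_single _) ?_
  exact ((DerivedCategory.singleFunctorIsoCompQ (ModuleCat.{u} S) 0).app (ModuleCat.of S N)).symm ≪≫
    eN.symm ≪≫ (DRing.LBaseChange φ).mapIso e.symm ≪≫ lbcIso φ F

/-- pointwise injectivity of multiplication by `a` on `H^i(N ⊗ F)` -/
lemma mono_homologyMap_TCmap_mulBy_at {N : Type u} [AddCommGroup N] [Module R N] {a : R}
    (F : DRing.Cx R) (hFf : DRing.TermwiseFlat F) (i : ℤ)
    (h1 : ((TC (ModuleCat.of R (LinearMap.ker (mulBy N a)))).obj F).ExactAt i)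
    (h3 : ((TC (ModuleCat.of R (N ⧸ LinearMap.range (mulBy N a)))).obj F).ExactAt (i - 1)) :
    Mono (HomologicalComplex.homologyMap ((TCmap (ModuleCat.ofHom (mulBy N a))).app F) i) := by
  have e1 : Mono (HomologicalComplex.homologyMap ((TCmap (S₁ N a).g).app F) i) :=
    mono_homologyMap_g (TCshort (S₁ N a) F) (TCshort_shortExact _ (S₁_shortExact N a) F hFf) i h1
  have e2 : Mono (HomologicalComplex.homologyMap ((TCmap (S₂ N a).f).app F) i) :=
    mono_homologyMap_f (TCshort (S₂ N a) F) (TCshort_shortExact _ (S₂_shortExact N a) F hFf) i h3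
  rw [← S₁_g_comp_S₂_f, TCmap_comp, NatTrans.comp_app, HomologicalComplex.homologyMap_comp]
  exact mono_comp _ _

/-- every class in `H^i(X ⊗ F)` is killed by a power of `f` if `X_f ⊗ F` is exact in degree `i` -/
lemma exists_pow_smul_eq_zero (f : R) (X : Type u) [AddCommGroup X] [Module R X]
    (F : DRing.Cx R) (i : ℤ)
    (hloc : ((TC (ModuleCat.of R (LocalizedModule (Submonoid.powers f) X))).obj F).ExactAt i) :
    ∀ z : ((TC (ModuleCat.of R X)).obj F).homology i, ∃ m : ℕ, f ^ m • z = 0 := by
  set G := (TC (ModuleCat.of R X)).obj F with hG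
  intro z
  let ℓ : X →ₗ[R] LocalizedModule (Submonoid.powers f) X :=
    LocalizedModule.mkLinearMap (Submonoid.powers f) X
  obtain ⟨y, hy⟩ := (ModuleCat.epi_iff_surjective (G.homologyπ i)).1 inferInstance z
  -- the underlying cycle
  let c : X ⊗[R] F.X i := (G.iCycles i).hom y
  have hc : ((F.d i (i + 1)).hom.lTensor X) c = 0 := by
    have := G.iCycles_d i (i + 1)
    exact congrArg (fun t => t.hom y) this
  rw [exactAt_TC_iff _ F (i - 1) i (i + 1) (by lia) rfl] at hloc
  have hcomm : ∀ (j k : ℤ) (t : X ⊗[R] F.X j),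
      ((F.d j k).hom.lTensor (LocalizedModule (Submonoid.powers f) X)) ((ℓ.rTensor (F.X j)) t) =
        (ℓ.rTensor (F.X k)) (((F.d j k).hom.lTensor X) t) := by
    intro j k t
    rw [← LinearMap.comp_apply, ← LinearMap.comp_apply, LinearMap.lTensor_comp_rTensor,
      LinearMap.rTensor_comp_lTensor]
  have h0 : ((F.d i (i + 1)).hom.lTensor (LocalizedModule (Submonoid.powers f) X))
      ((ℓ.rTensor (F.X i)) c) = 0 := by
    rw [hcomm, hc, map_zero]
  obtain ⟨b', hb'⟩ := (hloc _).1 h0
  have hloc1 : IsLocalizedModule (Submonoid.powers f) (ℓ.rTensor (F.X (i - 1))) :=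
    (inferInstance : IsLocalizedModule (Submonoid.powers f)
      (TensorProduct.AlgebraTensorModule.rTensor R (F.X (i - 1)) ℓ))
  have hloc2 : IsLocalizedModule (Submonoid.powers f) (ℓ.rTensor (F.X i)) :=
    (inferInstance : IsLocalizedModule (Submonoid.powers f)
      (TensorProduct.AlgebraTensorModule.rTensor R (F.X i) ℓ))
  obtain ⟨⟨b, s⟩, hbs⟩ := IsLocalizedModule.surj (Submonoid.powers f) (ℓ.rTensor (F.X (i - 1))) b'
  replace hbs : (s : R) • b' = (ℓ.rTensor (F.X (i - 1))) b := hbs
  have h1 : (ℓ.rTensor (F.X i)) ((s : R) • c) =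
      (ℓ.rTensor (F.X i)) (((F.d (i - 1) i).hom.lTensor X) b) := by
    rw [← hcomm, ← hbs, map_smul, map_smul, hb']
  obtain ⟨t, ht⟩ := (IsLocalizedModule.eq_iff_exists (Submonoid.powers f) _).1 h1
  replace ht : (t : R) • ((s : R) • c) = (t : R) • ((F.d (i - 1) i).hom.lTensor X) b := ht
  obtain ⟨m₁, hm₁⟩ := s.2
  obtain ⟨m₂, hm₂⟩ := t.2
  refine ⟨m₂ + m₁, ?_⟩
  -- `f^(m₂+m₁) • c` is a boundary
  have h2 : (f ^ (m₂ + m₁)) • c = ((F.d (i - 1) i).hom.lTensor X) ((t : R) • b) := by
    have : (f ^ (m₂ + m₁)) • c = (t : R) • ((s : R) • c) := by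
      rw [pow_add, mul_smul, ← hm₁, ← hm₂]
    rw [this, ht, map_smul]
  have h3 : (f ^ (m₂ + m₁)) • y = (G.toCycles (i - 1) i).hom ((t : R) • b) := by
    apply (ModuleCat.mono_iff_injective (G.iCycles i)).1 inferInstance
    rw [map_smul]
    have h4 := G.toCycles_i (i - 1) i
    have h5 : (G.iCycles i).hom ((G.toCycles (i - 1) i).hom ((t : R) • b)) =
        ((F.d (i - 1) i).hom.lTensor X) ((t : R) • b) := congrArg (fun u => u.hom ((t : R) • b)) h4
    rw [h5]
    exact h2
  rw [← hy, ← map_smul, h3]
  have h6 := G.toCycles_comp_homologyπ (i - 1) i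
  exact congrArg (fun u => u.hom ((t : R) • b)) h6

end aux

/-- Let R be a commutative ring, f ∈ R and M an object of D(R) such that (1) H^i(M) = 0 for i &gt; 0,
(2) in D(R_f), M ⊗^L_R R_f is isomorphic to a flat R_f-module concentrated in degree 0, and (3) in
D(R/fR), M ⊗^L_R R/fR is isomorphic to a flat R/fR-module concentrated in degree 0. Then, in D(R), M
itself is isomorphic to a flat R-module concentrated in degree 0. (The derived base change functors
along R → R_f and R → R/fR are the stated instance hypotheses, both true.) -/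
theorem result {R : Type u} [CommRing R] (f : R) (M : Dual.D R)
    [DRing.HasLBaseChange (algebraMap R (Localization.Away f))]
    [DRing.HasLBaseChange (Ideal.Quotient.mk (Ideal.span ({f} : Set R)))]
    (h1 : ∀ i : ℤ, 0 < i → Subsingleton (Dual.HD R M i))
    (h2 : ∃ (N : Type u) (_ : AddCommGroup N) (_ : Module (Localization.Away f) N),
      Module.Flat (Localization.Away f) N ∧
        Nonempty ((DRing.LBaseChange (algebraMap R (Localization.Away f))).obj M ≅ Dual.inD (Localization.Away f) N))
    (h3 : ∃ (N : Type u) (_ : AddCommGroup N) (_ : Module (R ⧸ Ideal.span ({f} : Set R)) N),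
      Module.Flat (R ⧸ Ideal.span ({f} : Set R)) N ∧
        Nonempty ((DRing.LBaseChange (Ideal.Quotient.mk (Ideal.span ({f} : Set R)))).obj M ≅
          Dual.inD (R ⧸ Ideal.span ({f} : Set R)) N)) :
    ∃ (N : Type u) (_ : AddCommGroup N) (_ : Module R N), Module.Flat R N ∧ Nonempty (M ≅ Dual.inD R N) := by
  classical
  obtain ⟨Nf, _, _, hNf, ⟨eNf⟩⟩ := h2
  obtain ⟨Nq, _, _, hNq, ⟨eNq⟩⟩ := h3
  obtain ⟨F, hF, hproj, ⟨e⟩⟩ := exists_kproj_iso M
  have hFf : DRing.TermwiseFlat F := fun i =>
    have := hproj i
    have : Module.Projective R (F.X i) := ModuleCat.projective_of_module_projective _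
    inferInstance
  have hKF : KFlat F := kflat_of_isKProjective F
  have hTVf := torVan_extCx_of_iso (algebraMap R (Localization.Away f)) F e Nf eNf
  have hTVq := torVan_extCx_of_iso (Ideal.Quotient.mk (Ideal.span ({f} : Set R))) F e Nq eNq
  -- modules killed by `f`
  have hq : ∀ (Y : Type u) [AddCommGroup Y] [Module R Y],
      (∀ r ∈ Ideal.span ({f} : Set R), ∀ x : Y, r • x = 0) → ∀ j : ℤ, (j < 0 ∨ 0 < j) →
        ((TC (ModuleCat.of R Y)).obj F).ExactAt j := by
    intro Y _ _ hY j hj
    obtain ⟨Nb, ⟨eN⟩⟩ := exists_iso_restrictScalars_of_ker_smul_eq_zero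
      (Ideal.Quotient.mk (Ideal.span ({f} : Set R))) Ideal.Quotient.mk_surjective Y
      (by rwa [Ideal.mk_ker])
    exact exactAt_TC_of_iso eN F j (exactAt_TC_restrict_of_exactAt_TC_ext _ Nb F j (hTVq Nb j hj))
  -- localized modules
  have hl : ∀ (X : Type u) [AddCommGroup X] [Module R X] (j : ℤ), (j < 0 ∨ 0 < j) →
      ((TC (ModuleCat.of R (LocalizedModule (Submonoid.powers f) X))).obj F).ExactAt j := by
    intro X _ _ j hj
    let Nb : ModuleCat.{u} (Localization.Away f) :=
      ModuleCat.of (Localization.Away f) (LocalizedModule (Submonoid.powers f) X)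
    obtain ⟨eN⟩ := nonempty_iso_of_addEquiv
      (X := (ModuleCat.restrictScalars (algebraMap R (Localization.Away f))).obj Nb)
      (N := LocalizedModule (Submonoid.powers f) X) (AddEquiv.refl _)
      (fun r x => by
        show (algebraMap R (Localization.Away f) r) •
          (show LocalizedModule (Submonoid.powers f) X from x) = _
        exact algebraMap_smul (Localization.Away f) r
          (show LocalizedModule (Submonoid.powers f) X from x))
    exact exactAt_TC_of_iso eN F j (exactAt_TC_restrict_of_exactAt_TC_ext _ Nb F j (hTVf Nb j hj))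
  -- tensor vanishing outside degree `0`
  have hTV : TorVan F 0 0 := by
    intro X j hj
    rcases hj with hj | hj
    · -- negative degrees
      have hmul : ∀ r ∈ Ideal.span ({f} : Set R), ∀ x : X, f • x = 0 → r • x = 0 := by
        intro r hr x hx
        obtain ⟨t, rfl⟩ := Ideal.mem_span_singleton'.1 hr
        rw [mul_smul, hx, smul_zero]
      have hk : ((TC (ModuleCat.of R (LinearMap.ker (mulBy X f)))).obj F).ExactAt j := by
        apply hq _ _ j (Or.inl hj)
        intro r hr x
        apply Subtype.ext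
        exact hmul r hr x (by simp)
      have hc : ((TC (ModuleCat.of R (X ⧸ LinearMap.range (mulBy X f)))).obj F).ExactAt (j - 1) := by
        apply hq _ _ (j - 1) (Or.inl (by lia))
        intro r hr x
        obtain ⟨t, rfl⟩ := Ideal.mem_span_singleton'.1 hr
        induction x using Submodule.Quotient.induction_on with
        | _ x =>
          rw [← Submodule.Quotient.mk_smul, Submodule.Quotient.mk_eq_zero]
          exact ⟨t • x, by simp [mul_smul]⟩
      have hmono := mono_homologyMap_TCmap_mulBy_at (N := X) (a := f) F hFf j hk hc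
      rw [TCmap_smul_app, homologyMap_smul', HomologicalComplex.homologyMap_id] at hmono
      have hinj : Function.Injective
          (fun z : ((TC (ModuleCat.of R X)).obj F).homology j => f • z) :=
        (ModuleCat.mono_iff_injective _).1 hmono
      have hpow : ∀ (m : ℕ) (z : ((TC (ModuleCat.of R X)).obj F).homology j),
          f ^ m • z = 0 → z = 0 := by
        intro m
        induction m with
        | zero => intro z hz; simpa using hz
        | succ m ih =>
          intro z hz
          apply ih
          apply hinj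
          show f • f ^ m • z = f • (0 : ((TC (ModuleCat.of R X)).obj F).homology j)
          rw [smul_zero, smul_smul, ← pow_succ']
          exact hz
      rw [HomologicalComplex.exactAt_iff_isZero_homology]
      have : Subsingleton (((TC (ModuleCat.of R X)).obj F).homology j) := by
        refine ⟨fun z z' => ?_⟩
        obtain ⟨m, hm⟩ := exists_pow_smul_eq_zero f X F j (hl X j (Or.inl hj)) z
        obtain ⟨m', hm'⟩ := exists_pow_smul_eq_zero f X F j (hl X j (Or.inl hj)) z'
        rw [hpow m z hm, hpow m' z' hm']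
      exact ModuleCat.isZero_of_subsingleton _
    · -- positive degrees
      refine exactAt_TC_of_exactAt_above F hKF 0 (fun k hk => ?_) X j hj
      rw [exactAt_iff_isZero_homologyFunctor_Q]
      have := h1 k hk
      exact (ModuleCat.isZero_of_subsingleton _).of_iso
        ((homologyFunctor (ModuleCat.{u} R) k).mapIso e)
  obtain ⟨E, hE, hEf, ⟨eE⟩⟩ := hasTorAmp_of_torVan_kflat F hKF 0 0 hTV
  refine ⟨E.X 0, inferInstance, inferInstance, hEf 0, ⟨?_⟩⟩
  exact e.symm ≪≫ eE.symm ≪≫ Q.mapIso (isoSingleZero E hE) ≪≫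
    ((DerivedCategory.singleFunctorIsoCompQ (ModuleCat.{u} R) 0).app (E.X 0)).symm

end Groth.Agent.S12899
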