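import Groth.Statements.S12903
-- import your own Groth.Agent.* helpers here

import Mathlib
import Groth.Agent.Lib.Seat58GammaZSec

set_option autoImplicit false
universe u
open CategoryTheory CategoryTheory.Limits AlgebraicGeometry Opposite
open Coherent

namespace Groth.Agent.S12903

open Groth.Agent.Lib.Seat58.GammaZSec Groth.Agent.Lib.Helper6 in
/-- Let X be a scheme, j : U → X a quasi-compact open immersion with closed complement Z, F a
quasi-coherent O_X-module, V an affine open of X and I a finitely generated ideal of Γ(V, O_X)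
cutting out Z ∩ V (a point of V lies outside U if and only if it lies in no basic open X_f with f ∈
I). Then a section s of F over V belongs to the subsheaf Γ_Z(F) of sections supported in Z (the
kernel of F → j_*(F|_U)) if and only if I^n s = 0 for some n. -/
theorem result {U X : Scheme.{u}} (j : U ⟶ X) [IsOpenImmersion j] [QuasiCompact j]
    (F : X.Modules) (hF : Coh.IsQCoh F) (V : X.Opens) (hV : IsAffineOpen V)
    (I : Ideal (X.ringCatSheaf.obj.obj (op V))) (hI : I.FG)
    (hZ : ∀ x : X, x ∈ V → (x ∉ Set.range j.base ↔ ∀ f ∈ I, x ∉ X.basicOpen (f : Γ(X, V))))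
    (s : F.val.obj (op V)) :
    s ∈ Set.range ((((CxOX.gammaZι j).app F).val.app (op V)).hom) ↔ ∃ n : ℕ, ∀ a ∈ I ^ n, a • s = 0 := by
  have : F.IsQuasicoherent := hF
  have h1 := mem_range_kernel_ι_iff ((Scheme.Modules.restrictAdjunction j).unit.app F) V s
  have hW : ∀ x : X, x ∈ V → (x ∈ j ''ᵁ j ⁻¹ᵁ V ↔ ∃ f ∈ I, x ∈ X.basicOpen (f : Γ(X, V))) := by
    intro x hx
    rw [Scheme.Hom.image_preimage_eq_opensRange_inf]
    have h2 := hZ x hx
    constructor
    · intro hxW
      by_contra hcon
      push Not at hcon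
      exact (h2.2 hcon) hxW.1
    · rintro ⟨f, hf, hxf⟩
      refine ⟨?_, hx⟩
      by_contra hcon
      exact (h2.1 hcon) f hf hxf
  have h3 := res_eq_zero_iff_pow_smul F hV I hI (j ''ᵁ j ⁻¹ᵁ V) (j.image_preimage_le V) hW s
  exact h1.trans h3

end Groth.Agent.S12903
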