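import Groth.Statements.S12905
-- import your own Groth.Agent.* helpers here

import Mathlib
import Groth.Agent.Lib.Seat58TwistExact
import Groth.Agent.Lib.Helper27PnChart
import Groth.Agent.S12453
import Groth.Agent.S0047
import Groth.Agent.S2357

set_option autoImplicit false
universe u
open CategoryTheory CategoryTheory.Limits AlgebraicGeometry
open Variety

namespace Groth.Agent.S12905

section Aux

open Groth.Agent.Lib.Seat58.TwistExact

/-- `O(d)` on projective space over a ring is invertible -/
theorem isInvertible_twistProjSpace (n : ℕ) (R : Type u) [CommRing R] (d : ℤ) :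
    PicF.IsInvertible (Twist.twistProjSpace n R d) := by
  have hcov : (⨆ f : CohB1.polyGrading n R 1, Proj.basicOpen (CohB1.polyGrading n R)
      (f : MvPolynomial (Fin (n + 1)) R)) = ⊤ := by
    rw [eq_top_iff, ← Groth.Agent.Lib.Helper27PnChart.iSup_basicOpen_X n R]
    refine iSup_le fun i => ?_
    exact le_iSup (fun f : CohB1.polyGrading n R 1 => Proj.basicOpen (CohB1.polyGrading n R)
      (f : MvPolynomial (Fin (n + 1)) R)) ⟨MvPolynomial.X i, Groth.Agent.Lib.Helper27PnChart.X_mem_one n R i⟩
  exact (Groth.Agent.S12453.result (CohB1.polyGrading n R) hcov).1 d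

instance (n : ℕ) (k : Type u) [Field k] : IsNoetherian (CohB1.ProjSpace n k) :=
  Groth.Agent.S2357.result (CohB1.polyGrading n k)

/-- twisting a monomorphism of coherent modules with zero-dimensional cokernel -/
theorem step {X : Scheme.{u}} [IsNoetherian X] (F' F : X.Modules) (hF' : Coh.IsCoh F') (hF : Coh.IsCoh F)
    (φ : F' ⟶ F) [Mono φ] (hsupp : topologicalKrullDim (CohB1.support (cokernel φ)) ≤ 0)
    (T : X.Modules) (hT : PicF.IsInvertible T) (i : ℕ) (hi : 0 < i)
    (h : Subsingleton (Coh.HH X (CohB1.tensorMod F' T) i)) :
    Subsingleton (Coh.HH X (CohB1.tensorMod F T) i) := by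
  have hF'q : F'.IsQuasicoherent := hF'.1
  have hFq : F.IsQuasicoherent := hF.1
  have hFf : SheafOfModules.IsFiniteType (R := X.ringCatSheaf) F := hF.2
  have hQq : (cokernel φ).IsQuasicoherent :=
    Groth.Agent.Lib.Helper23.QCohLocal.isQuasicoherent_cokernel φ
  have hQ : Coh.IsCoh (cokernel φ) :=
    ⟨hQq, Groth.Agent.Lib.Helper20.Nakayama.isFiniteType_of_epi (cokernel.π φ)⟩
  have hcl : IsClosed (CohB1.support (cokernel φ)) := Groth.Agent.S0020.result X _ hQ.2
  have hC := isCoh_cokernel_twMap φ T hF' hF hT
  have hCsupp := support_cokernel_twMap_subset φ T hT hcl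
  have hmono := mono_twMap φ T hT
  let S : ShortComplex X.Modules :=
    ShortComplex.mk (twMap φ T) (cokernel.π (twMap φ T)) (cokernel.condition _)
  have hS : S.ShortExact :=
    { exact := ShortComplex.exact_cokernel (twMap φ T)
      mono_f := hmono
      epi_g := inferInstanceAs (Epi (cokernel.π (twMap φ T))) }
  have h3 : Subsingleton (Coh.HH X (cokernel (twMap φ T)) i) :=
    Groth.Agent.S0047.result X _ hC
      (fun x hx => isClosed_singleton_of_topologicalKrullDim_le_zero hcl hsupp (hCsupp hx)) i hi
  exact subsingleton_HH_mid S hS i h h3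

end Aux

/-- Let k be a field and φ : F' → F a monomorphism of coherent modules on P^n_k whose cokernel has
support of Krull dimension at most zero (a finite set of closed points, possibly empty). If F' is
m-regular then F is m-regular. (The published statement is the case of an ideal sheaf contained in
the ideal sheaf of a curve with quotient supported at finitely many points, phrased as an inequality
of regularities; the argument gives the form stated here.) -/
theorem result (k : Type u) [Field k] (n : ℕ)
    (F' F : (CohB1.ProjSpace n k).Modules) (hF' : Coh.IsCoh F') (hF : Coh.IsCoh F) (φ : F' ⟶ F) [Mono φ]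
    (hsupp : topologicalKrullDim (CohB1.support (cokernel φ)) ≤ 0) (m : ℤ)
    (h : Curv2.IsMRegular k n F' m) : Curv2.IsMRegular k n F m := by
  intro i hi1 hin
  exact step F' F hF' hF φ hsupp _ (isInvertible_twistProjSpace n k (m - i)) i hi1 (h i hi1 hin)

end Groth.Agent.S12905
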