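import Groth.Statements.S1293
import Groth.Agent.Lib.Seat6Content

set_option autoImplicit false
universe u
open FlatMor

namespace Groth.Agent.S1293

open TensorProduct Groth.Agent.Lib.Seat6.Content

/-- Elements of `N` have finitely generated content ideals when `N` admits a pure spreadout. -/
theorem exists_content_of_hasPureSpreadout {A B : Type u} [CommRing A] [CommRing B] [Algebra A B]
    (T : Submonoid B) (N : Type u) [AddCommGroup N] [Module (Localization T) N] [Module A N]
    [IsScalarTower A (Localization T) N] (h : FlatCA.HasPureSpreadout A B T N) (x : N) :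
    ∃ I : Ideal A, I.FG ∧ x ∈ (I • ⊤ : Submodule A N) ∧
      ∀ J : Ideal A, x ∈ (J • ⊤ : Submodule A N) → I ≤ J := by
  obtain ⟨C, _, _, _, _, _, _, _, _, _, _, N', _, _, _, _, g, -, -, hbc, hproj, huniv⟩ := h
  have hC : ∀ (β : B) (y : N'), g (algebraMap B C β • y) = algebraMap B (Localization T) β • g y := by
    intro β y
    rw [map_smul, ← algebraMap_smul (Localization T) (algebraMap B C β) (g y),
      ← IsScalarTower.algebraMap_apply B C (Localization T)]
  -- every element of `N` is, up to a unit coming from `T`, in the image of `g`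
  have hred : ∃ (t : T) (x' : N'), algebraMap B (Localization T) t • x = g x' := by
    refine hbc.inductionOn x (fun x => ∃ (t : T) (x' : N'), algebraMap B (Localization T) t • x = g x')
      ⟨1, 0, by simp⟩ (fun n' => ⟨1, n', by simp⟩) ?_ ?_
    · rintro b n ⟨t, x', hx'⟩
      obtain ⟨⟨β, s⟩, hβs⟩ := IsLocalization.surj T b
      simp only at hβs
      refine ⟨s * t, algebraMap B C β • x', ?_⟩
      rw [hC, ← hx', Submonoid.coe_mul, map_mul, ← mul_smul, ← mul_smul, ← hβs]
      congr 1
      ring
    · rintro n₁ n₂ ⟨t₁, x₁, h₁⟩ ⟨t₂, x₂, h₂⟩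
      refine ⟨t₁ * t₂, algebraMap B C t₂ • x₁ + algebraMap B C t₁ • x₂, ?_⟩
      rw [map_add, hC, hC, ← h₁, ← h₂, Submonoid.coe_mul, map_mul, smul_add, ← mul_smul, ← mul_smul,
        mul_comm (algebraMap B (Localization T) ↑t₂)]
  obtain ⟨t, x', htx⟩ := hred
  have hunit : IsUnit (algebraMap B (Localization T) t) := IsLocalization.map_units _ t
  -- `J N` is stable under the action of `T⁻¹B`
  have hstab : ∀ (J : Ideal A) (b : Localization T) (y : N),
      y ∈ (J • ⊤ : Submodule A N) → b • y ∈ (J • ⊤ : Submodule A N) := by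
    intro J b y hy
    refine Submodule.smul_induction_on hy (fun r hr n _ => ?_) (fun y₁ y₂ h₁ h₂ => ?_)
    · rw [smul_comm]
      exact Submodule.smul_mem_smul hr Submodule.mem_top
    · rw [smul_add]; exact Submodule.add_mem _ h₁ h₂
  -- comparison of membership
  have hiff : ∀ J : Ideal A, x ∈ (J • ⊤ : Submodule A N) ↔ x' ∈ (J • ⊤ : Submodule A N') := by
    intro J
    constructor
    · intro hx
      have h1 : g x' ∈ (J • ⊤ : Submodule A N) := by
        rw [← htx]; exact hstab J _ x hx
      have h2 : ((g.restrictScalars A).lTensor (A ⧸ J)) ((1 : A ⧸ J) ⊗ₜ[A] x') = 0 :=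
        lTensor_tmul_one_eq_zero (g.restrictScalars A) J x' h1
      have h3 : (1 : A ⧸ J) ⊗ₜ[A] x' = 0 := huniv (A ⧸ J) (by rw [h2, map_zero])
      exact (tmul_one_eq_zero_iff J x').1 h3
    · intro hx'
      have h1 : g x' ∈ (J • ⊤ : Submodule A N) :=
        Submodule.smul_top_le_comap_smul_top J (g.restrictScalars A) hx'
      rw [← htx] at h1
      obtain ⟨v, hv⟩ := hunit
      have h2 := hstab J (↑v⁻¹ : Localization T) _ h1
      rwa [← hv, ← mul_smul, Units.inv_mul, one_smul] at h2
  obtain ⟨I, hIfg, hI1, hI2⟩ := exists_content_of_projective (A := A) x'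
  exact ⟨I, hIfg, (hiff I).2 hI1, fun J hJ => hI2 J ((hiff J).1 hJ)⟩

/-- Let B be a finitely presented A-algebra, T ⊆ B a multiplicative subset and N a finitely presented
T⁻¹B-module which admits a pure spreadout (FlatCA.HasPureSpreadout). Then (1) every x ∈ N has a
content ideal, i.e. a smallest ideal I of A with x ∈ IN; and (2) every A-linear map u from N to a
flat A-module M such that u ⊗ A/𝔪 is injective for every maximal ideal 𝔪 of A is universally
injective over A. -/
theorem result {A B : Type u} [CommRing A] [CommRing B] [Algebra A B] [Algebra.FinitePresentation A B]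
    (T : Submonoid B) (N : Type u) [AddCommGroup N] [Module (Localization T) N] [Module A N] [IsScalarTower A (Localization T) N]
    [Module.FinitePresentation (Localization T) N] (h : FlatCA.HasPureSpreadout A B T N) :
    (∀ x : N, ∃ I : Ideal A, x ∈ I • (⊤ : Submodule A N) ∧ ∀ J : Ideal A, x ∈ J • (⊤ : Submodule A N) → I ≤ J) ∧
    ∀ (M : Type u) [AddCommGroup M] [Module A M] [Module.Flat A M] (u : N →ₗ[A] M),
      (∀ (m : Ideal A) [m.IsMaximal], Function.Injective (u.lTensor (A ⧸ m))) → FlatCA.UnivInj A u := by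
  refine ⟨fun x => ?_, fun M _ _ _ u hu => ?_⟩
  · obtain ⟨I, -, h1, h2⟩ := exists_content_of_hasPureSpreadout T N h x
    exact ⟨I, h1, h2⟩
  · exact univInj_of_forall_ideal u
      (mem_smul_top_of_map_mem_smul_top u (exists_content_of_hasPureSpreadout T N h) hu)

end Groth.Agent.S1293
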