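import Groth.Statements.S1296
import Groth.Agent.Lib.Seat6ImpDesc

set_option autoImplicit false
set_option linter.style.haveILetI false
universe u
open FlatMor

namespace Groth.Agent.S1296

open TensorProduct Groth.Agent.Lib.Seat6.ImpDesc in
attribute [local instance] Algebra.TensorProduct.rightAlgebra in
/-- Ring form, X = Spec B affine, T = Spec A' with A' the colimit of a directed system of A-algebras
A'_i: let B be a finite type A-algebra, N a finite B-module, p a prime of A, and suppose given an
impurity of N above p with base change ring A' and points t' ⊆ t. Then for some index i there is an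
impurity of N above p whose base change ring is A'_i (up to an A-isomorphism) and whose point t
corresponds to the contraction of t to A'_i. -/
theorem result {A B : Type u} [CommRing A] [CommRing B] [Algebra A B] [Algebra.FiniteType A B]
    (N : Type u) [AddCommGroup N] [Module B N] [Module.Finite B N] (p : Ideal A) [p.IsPrime]
    {ι : Type u} [Preorder ι] (G : ι → Type u) [∀ i, CommRing (G i)] [∀ i, Algebra A (G i)]
    (g : ∀ i j, i ≤ j → G i →ₐ[A] G j)
    (A' : Type u) [CommRing A'] [Algebra A A'] [∀ i, Algebra (G i) A'] [∀ i, IsScalarTower A (G i) A']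
    (hcolim : FlatCA.IsDirectedColimitRing G (fun i j h => (g i j h).toRingHom) A')
    (B' N' : Type u) [CommRing B'] [Algebra B B'] [Algebra A' B'] [Algebra A B'] [IsScalarTower A B B'] [IsScalarTower A A' B']
    [AddCommGroup N'] [Module B' N'] [Module B N'] [IsScalarTower B B' N'] [Module A' N'] [IsScalarTower A' B' N']
    (f : N →ₗ[B] N') (t' t : Ideal A') [t'.IsPrime] [t.IsPrime] (P : Ideal B') [P.IsPrime]
    (himp : FlatCA.IsImpurity A B N p A' B' N' f t' t P) :
    ∃ i : ι, FlatCA.HasImpurity A B N p (fun A'' _ _ t'' => ∃ e : A'' ≃ₐ[A] G i, t''.map e = t.comap (algebraMap (G i) A')) := by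
  classical
  obtain ⟨hdir, hne, hid, hcomp, hcompat, hsurj, hinj⟩ := hcolim
  haveI := hdir
  haveI := hne
  have himp' := himp
  obtain ⟨hpo, hbc, hle, htp, hPt', hass, hclos⟩ := himp'
  haveI := hpo
  -- the witness over `A'`
  obtain ⟨s, hst, hs⟩ := exists_witness t P hclos
  obtain ⟨π, hπ, τ, hτ, hπτ⟩ := Submodule.mem_sup.1 hs
  have hτ' := mem_span_of_mem_map (A := A) (B := B) t hτ
  obtain ⟨n, c, w, hcw⟩ := Submodule.mem_span_set'.1 hτ'
  -- lift the finitely many elements to a common stage
  have hw : ∀ m : Fin n, ∃ τm : A', τm ∈ t ∧ algebraMap A' B' τm = (w m : B') := fun m => (w m).2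
  choose τm hτm hτmw using hw
  have hlift : ∀ m : Fin n, ∃ i, ∃ x : G i, algebraMap (G i) A' x = τm m := fun m => hsurj _
  choose im xm hxm using hlift
  obtain ⟨is, xs, hxs⟩ := hsurj s
  obtain ⟨i, hi⟩ := Finset.exists_le (insert is (Finset.univ.image im))
  have his : is ≤ i := hi _ (Finset.mem_insert_self _ _)
  have him : ∀ m, im m ≤ i := fun m =>
    hi _ (Finset.mem_insert_of_mem (Finset.mem_image_of_mem _ (Finset.mem_univ m)))
  have hcompat' : ∀ j k (h : j ≤ k) (x : G j), algebraMap (G k) A' (g j k h x) = algebraMap (G j) A' x :=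
    fun j k h x => RingHom.congr_fun (hcompat j k h) x
  set si : G i := g is i his xs with hsi
  have hsi' : algebraMap (G i) A' si = s := by rw [hsi, hcompat', hxs]
  let τi : Fin n → G i := fun m => g (im m) i (him m) (xm m)
  have hτi : ∀ m, algebraMap (G i) A' (τi m) = τm m := fun m => by
    simp only [τi]; rw [hcompat', hxm]
  -- algebra structure of `B'` over `G i`
  letI algGB : Algebra (G i) B' := ((algebraMap A' B').comp (algebraMap (G i) A')).toAlgebra
  haveI tow1 : IsScalarTower (G i) A' B' := IsScalarTower.of_algebraMap_eq (fun _ => rfl)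
  haveI tow2 : IsScalarTower A (G i) B' := IsScalarTower.of_algebraMap_eq (fun a => by
    rw [IsScalarTower.algebraMap_apply (G i) A' B', ← IsScalarTower.algebraMap_apply A (G i) A',
      ← IsScalarTower.algebraMap_apply A A' B'])
  have hGB : ∀ x : G i, algebraMap (G i) B' x = algebraMap A' B' (algebraMap (G i) A' x) :=
    fun _ => rfl
  -- the witness over `G i`
  set y : G i ⊗[A] B := ∑ m, (τi m) ⊗ₜ[A] (c m) with hy
  have hy_mem : y ∈ (t.comap (algebraMap (G i) A')).map (algebraMap (G i) (G i ⊗[A] B)) := by
    rw [hy]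
    refine Ideal.sum_mem _ (fun m _ => ?_)
    have h1 : (τi m) ⊗ₜ[A] (c m) =
        algebraMap (G i) (G i ⊗[A] B) (τi m) * ((1 : G i) ⊗ₜ[A] (c m)) := by
      rw [Algebra.TensorProduct.algebraMap_apply, Algebra.TensorProduct.tmul_mul_tmul, one_mul]
      simp
    rw [h1]
    refine Ideal.mul_mem_right _ _ (Ideal.mem_map_of_mem _ ?_)
    rw [Ideal.mem_comap, hτi]
    exact hτm m
  have hpsi_y : psi (A := A) (B := B) (B' := B') (G i) y = τ := by
    rw [hy, map_sum, ← hcw]
    refine Finset.sum_congr rfl (fun m _ => ?_)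
    rw [psi_tmul, hGB, hτi, hτmw, Algebra.smul_def, mul_comm]
  have hπ_mem : algebraMap (G i) (G i ⊗[A] B) si - y ∈
      P.comap (psi (A := A) (B := B) (B' := B') (G i)).toRingHom := by
    rw [Ideal.mem_comap]
    change psi (A := A) (B := B) (B' := B') (G i) (algebraMap (G i) (G i ⊗[A] B) si - y) ∈ P
    rw [map_sub, hpsi_y, AlgHom.commutes, hGB, hsi', ← hπτ, add_sub_cancel_right]
    exact hπ
  have hmem : algebraMap (G i) (G i ⊗[A] B) si ∈
      (P.comap (psi (A := A) (B := B) (B' := B') (G i)).toRingHom) ⊔
        (t.comap (algebraMap (G i) A')).map (algebraMap (G i) (G i ⊗[A] B)) :=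
    Submodule.mem_sup.2 ⟨_, hπ_mem, y, hy_mem, sub_add_cancel _ _⟩
  have hsG : algebraMap (G i) A' si ∉ t := by rw [hsi']; exact hst
  have key := isImpurity_descend N p f t' t P (G i) himp si hsG hmem
  refine ⟨i, G i, G i ⊗[A] B, (G i ⊗[A] B) ⊗[B] N, inferInstance, inferInstance, inferInstance,
    inferInstance, inferInstance, inferInstance, inferInstance, inferInstance, inferInstance,
    inferInstance, inferInstance, inferInstance, inferInstance, inferInstance,
    TensorProduct.mk B (G i ⊗[A] B) N 1, t'.comap (algebraMap (G i) A'),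
    t.comap (algebraMap (G i) A'), Ideal.comap_isPrime _ _, Ideal.comap_isPrime _ _,
    P.comap (psi (A := A) (B := B) (B' := B') (G i)).toRingHom, Ideal.comap_isPrime _ _, key,
    AlgEquiv.refl, ?_⟩
  exact Ideal.map_id _

end Groth.Agent.S1296
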