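import Groth.Statements.S12986
import Mathlib
import Groth.Agent.Lib.Helper15QcRep
import Groth.Agent.Lib.Helper17MagicRel
import Groth.Agent.Lib.Helper17AlgStEquiv2

set_option autoImplicit false
universe u
open CategoryTheory AlgebraicGeometry
open AlgSt

namespace Groth.Agent.S12986

/-- If the composite of f : 𝒳 → 𝒴 and g : 𝒴 → 𝒵 (morphisms of algebraic stacks) is quasi-compact and g
is quasi-separated, then f is quasi-compact. -/
theorem result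
    (S : Scheme.{u}) (𝒳 : AlgSt.Cat S) (𝒴 : AlgSt.Cat S) (𝒵 : AlgSt.Cat S)
    (h𝒳 : AlgSt.IsAlgStack Scheme.fppfPrecoverage 𝒳)
    (h𝒴 : AlgSt.IsAlgStack Scheme.fppfPrecoverage 𝒴)
    (h𝒵 : AlgSt.IsAlgStack Scheme.fppfPrecoverage 𝒵)
    (f : 𝒳 ⥤ᵇ 𝒴) (g : 𝒴 ⥤ᵇ 𝒵) :
    AlgSt.IsQuasiCompactMor Scheme.fppfPrecoverage (BasedFunctor.comp f g) → AlgSt.IsQuasiSeparatedMor g → AlgSt.IsQuasiCompactMor Scheme.fppfPrecoverage f := by
  intro hcomp hqs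
  have hpre𝒵 := Groth.Agent.Lib.Helper17.IsStack.isPrestack _ h𝒵.isStack
  have hYY : AlgSt.IsAlgStack Scheme.fppfPrecoverage (FibCat.fp g g) :=
    Groth.Agent.Lib.Helper15Atlas.isAlgStack_fp_of_isPrestack hpre𝒵 h𝒵.diag h𝒴 h𝒴 g g
  have hΔ : AlgSt.IsQuasiCompactMor Scheme.fppfPrecoverage (FibCat.diag g) :=
    Groth.Agent.Lib.Helper15QcRep.isQuasiCompactMor_of_rep h𝒴 hYY (FibCat.diag g)
      (Groth.Agent.Lib.Helper15DiagLft.repByAlgSpWith_mono (fun _ _ _ h => h.1) _ hqs)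
  intro 𝒲 h𝒲 hqc w
  have h1 := hcomp 𝒲 h𝒲 hqc (BasedFunctor.comp w g)
  have h2 : AlgSt.IsAlgStack Scheme.fppfPrecoverage
      (FibCat.fp (BasedFunctor.comp w g) (BasedFunctor.comp f g)) :=
    Groth.Agent.Lib.Helper15Atlas.isAlgStack_fp_of_isPrestack hpre𝒵 h𝒵.diag h𝒲 h𝒳 _ _
  have h3 := hΔ _ h2 h1 (Groth.Agent.Lib.Helper17.relProd w f g)
  exact Groth.Agent.Lib.Helper17.isQuasiCompact_of_isEquivOver' _
    (Groth.Agent.Lib.Helper17.isEquivOver_magicRel w f g) h3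

end Groth.Agent.S12986
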