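import Groth.Statements.S12988
import Mathlib
import Groth.Agent.Lib.Seat59QcProd
import Groth.Agent.Lib.Seat83DiagCancel2
import Groth.Agent.Lib.Helper15DiagBC
import Groth.Agent.S12987

set_option autoImplicit false
universe u
open CategoryTheory AlgebraicGeometry
open AlgSt

namespace Groth.Agent.S12988

/-- Over a quasi-separated base scheme, a 2-fibre product of algebraic stacks that are quasi-compact and
quasi-separated over the base scheme is quasi-compact and quasi-separated over the base scheme. (The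
published statement is about stacks quasi-compact and quasi-separated over the integers and puts no
condition on the base scheme; this row assumes the base scheme quasi-separated and uses
quasi-separatedness over it. Without quasi-separatedness of the base the quasi-compactness
conclusion fails: for the base glued from two copies of infinite-dimensional affine space along the
complement of the origin, the two copies are quasi-compact and quasi-separated over the base while
their fibre product over the base is that complement, which is not quasi-compact.) -/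
theorem result
    (S : Scheme.{u}) [QuasiSeparatedSpace S] (𝒳 : AlgSt.Cat S) (𝒴 : AlgSt.Cat S) (𝒵 : AlgSt.Cat S)
    (h𝒳 : AlgSt.IsAlgStack Scheme.fppfPrecoverage 𝒳)
    (h𝒴 : AlgSt.IsAlgStack Scheme.fppfPrecoverage 𝒴)
    (h𝒵 : AlgSt.IsAlgStack Scheme.fppfPrecoverage 𝒵)
    (a : 𝒳 ⥤ᵇ 𝒴) (b : 𝒵 ⥤ᵇ 𝒴) :
    AlgSt.IsQuasiCompact 𝒳 → AlgSt.IsQuasiSeparatedOver 𝒳 →
      AlgSt.IsQuasiCompact 𝒴 → AlgSt.IsQuasiSeparatedOver 𝒴 →
      AlgSt.IsQuasiCompact 𝒵 → AlgSt.IsQuasiSeparatedOver 𝒵 →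
      AlgSt.IsQuasiCompact (FibCat.fp a b) ∧ AlgSt.IsQuasiSeparatedOver (FibCat.fp a b) := by
  intro hqc𝒳 hqs𝒳 hqc𝒴 hqs𝒴 hqc𝒵 hqs𝒵
  have hfp : AlgSt.IsAlgStack Scheme.fppfPrecoverage (FibCat.fp a b) :=
    Groth.Agent.Lib.Helper15Atlas.isAlgStack_fp_of_isPrestack
      (Groth.Agent.Lib.Helper17.IsStack.isPrestack _ h𝒴.isStack) h𝒴.diag h𝒳 h𝒵 a b
  refine ⟨Groth.Agent.S12987.result S 𝒵 𝒴 h𝒵 h𝒴 b hqc𝒵 hqs𝒴 𝒳 h𝒳 hqc𝒳 a, ?_⟩
  have e1 : BasedFunctor.comp b (FibCat.toSelf 𝒴) = FibCat.toSelf 𝒵 :=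
    Groth.Agent.Lib.Helper15QsComp.comp_toSelf b
  have hb : AlgSt.IsQuasiSeparatedMor b := by
    refine Groth.Agent.Lib.Seat83.DiagCancel2.isQuasiSeparatedMor_of_comp b (FibCat.toSelf 𝒴) ?_
      (Groth.Agent.Lib.Helper15DiagLft.repByAlgSpWith_mono (fun _ _ _ h => h.2) _ hqs𝒴)
    rw [e1]
    exact hqs𝒵
  have h1 : AlgSt.IsQuasiSeparatedMor (FibCat.fpFst a b) :=
    Groth.Agent.Lib.Helper15.DiagBC.repByAlgSpWith_diag_fpFst _ b a hb
  have e2 : BasedFunctor.comp (FibCat.fpFst a b) (FibCat.toSelf 𝒳) =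
      FibCat.toSelf (FibCat.fp a b) :=
    Groth.Agent.Lib.Helper15QsComp.comp_toSelf (FibCat.fpFst a b)
  have h2 := Groth.Agent.Lib.Helper15QsComp.isQuasiSeparatedMor_comp_st hfp.isStack.1
    h𝒳.isStack.1 (FibCat.fpFst a b) (FibCat.toSelf 𝒳) h1 hqs𝒳
  rw [e2] at h2
  exact h2

end Groth.Agent.S12988
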