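import Groth.Statements.S13044
import Groth.Agent.Lib.Seat85SchDom3

set_option autoImplicit false
universe u
open MaxMod

namespace Groth.Agent.S13044

open CategoryTheory Limits AlgebraicGeometry in
/-- Let R be a discrete valuation ring with fraction field K, let Y be a flat separated R-scheme and let
Γ → Y ×_R Y be a closed subscheme, with projections p₁, p₂ : Γ → Y, such that Γ is flat over R
(equivalently, Γ is the schematic closure of its generic fibre) and p₁, p₂ are flat. If for every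
scheme T over Spec K the relation on the T-valued points of Y defined by the T-valued points of Γ is
an equivalence relation, then for every scheme T over Spec R that relation is an equivalence
relation: Γ is a flat equivalence relation on Y. -/
theorem result
    (R K : Type u) [CommRing R] [IsDomain R] [IsDiscreteValuationRing R]
    [Field K] [Algebra R K] [IsFractionRing R K]
    (Y Γ : Scheme.{u}) (f : Y ⟶ Spec (CommRingCat.of R)) [IsSeparated f] [Flat f]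
    (p₁ p₂ : Γ ⟶ Y) (h : p₁ ≫ f = p₂ ≫ f)
    (hΓ : IsClosedImmersion (pullback.lift p₁ p₂ h))
    [Flat (p₁ ≫ f)] [Flat p₁] [Flat p₂]
    (hK : ∀ (T : Scheme.{u}) (t : T ⟶ Spec (CommRingCat.of R)),
      (∃ s : T ⟶ Spec (CommRingCat.of K), t = s ≫ Spec.map (CommRingCat.ofHom (algebraMap R K))) →
      _root_.Equivalence fun a b : {a : T ⟶ Y // a ≫ f = t} =>
        ∃ c : T ⟶ Γ, c ≫ p₁ = a.1 ∧ c ≫ p₂ = b.1) :
    ∀ (T : Scheme.{u}) (t : T ⟶ Spec (CommRingCat.of R)),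
      _root_.Equivalence fun a b : {a : T ⟶ Y // a ≫ f = t} =>
        ∃ c : T ⟶ Γ, c ≫ p₁ = a.1 ∧ c ≫ p₂ = b.1 := by
  have hφ : Function.Injective (CommRingCat.ofHom (algebraMap R K)).hom :=
    IsFractionRing.injective R K
  have := hΓ
  -- the hypothesis over the generic fibre of any `R`-scheme `W`
  have gen : ∀ {W : Scheme.{u}} (w : W ⟶ Spec (CommRingCat.of R)),
      _root_.Equivalence fun a b : {a : pullback w (Spec.map (CommRingCat.ofHom (algebraMap R K))) ⟶ Y //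
          a ≫ f = pullback.fst w (Spec.map (CommRingCat.ofHom (algebraMap R K))) ≫ w} =>
        ∃ c : pullback w (Spec.map (CommRingCat.ofHom (algebraMap R K))) ⟶ Γ,
          c ≫ p₁ = a.1 ∧ c ≫ p₂ = b.1 :=
    fun w => hK _ _ ⟨pullback.snd w _, pullback.condition⟩
  -- reflexivity: the diagonal factors through `Γ`
  obtain ⟨r, hr₁, hr₂⟩ : ∃ r : Y ⟶ Γ, r ≫ p₁ = 𝟙 Y ∧ r ≫ p₂ = 𝟙 Y := by
    obtain ⟨c, hc₁, hc₂⟩ := (gen f).refl ⟨pullback.fst f _, rfl⟩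
    exact Groth.Agent.Lib.Seat85.SchDom.exists_lift_pair _ hφ f p₁ p₂ h f (𝟙 Y) (𝟙 Y)
      (Category.id_comp _) (Category.id_comp _) c (by rw [hc₁, Category.comp_id])
      (by rw [hc₂, Category.comp_id])
  -- symmetry: the swap of `Γ` factors through `Γ`
  obtain ⟨s, hs₁, hs₂⟩ : ∃ s : Γ ⟶ Γ, s ≫ p₁ = p₂ ∧ s ≫ p₂ = p₁ := by
    have h0 : ∃ c : pullback (p₁ ≫ f) (Spec.map (CommRingCat.ofHom (algebraMap R K))) ⟶ Γ,
        c ≫ p₁ = pullback.fst (p₁ ≫ f) _ ≫ p₁ ∧ c ≫ p₂ = pullback.fst (p₁ ≫ f) _ ≫ p₂ :=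
      ⟨pullback.fst _ _, rfl, rfl⟩
    obtain ⟨c, hc₁, hc₂⟩ := (gen (p₁ ≫ f)).symm
      (x := ⟨pullback.fst (p₁ ≫ f) _ ≫ p₁, by rw [Category.assoc]⟩)
      (y := ⟨pullback.fst (p₁ ≫ f) _ ≫ p₂, by rw [Category.assoc, h]⟩) h0
    exact Groth.Agent.Lib.Seat85.SchDom.exists_lift_pair _ hφ f p₁ p₂ h (p₁ ≫ f) p₂ p₁
      h.symm rfl c hc₁ hc₂
  -- transitivity: the composition `Γ ×_Y Γ ⟶ Y × Y` factors through `Γ`
  obtain ⟨m, hm₁, hm₂⟩ : ∃ m : pullback p₂ p₁ ⟶ Γ,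
      m ≫ p₁ = pullback.fst p₂ p₁ ≫ p₁ ∧ m ≫ p₂ = pullback.snd p₂ p₁ ≫ p₂ := by
    have hw : Flat (pullback.fst p₂ p₁ ≫ p₁ ≫ f) := inferInstance
    have hcond : pullback.fst p₂ p₁ ≫ p₂ = pullback.snd p₂ p₁ ≫ p₁ := pullback.condition
    have e2 : (pullback.snd p₂ p₁ ≫ p₂) ≫ f = pullback.fst p₂ p₁ ≫ p₁ ≫ f := by
      rw [Category.assoc, ← h, ← Category.assoc, ← hcond, Category.assoc, ← h]
    have h01 : ∃ c : pullback (pullback.fst p₂ p₁ ≫ p₁ ≫ f)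
          (Spec.map (CommRingCat.ofHom (algebraMap R K))) ⟶ Γ,
        c ≫ p₁ = pullback.fst (pullback.fst p₂ p₁ ≫ p₁ ≫ f) _ ≫ pullback.fst p₂ p₁ ≫ p₁ ∧
        c ≫ p₂ = pullback.fst (pullback.fst p₂ p₁ ≫ p₁ ≫ f) _ ≫ pullback.fst p₂ p₁ ≫ p₂ :=
      ⟨pullback.fst _ _ ≫ pullback.fst p₂ p₁, by rw [Category.assoc], by rw [Category.assoc]⟩
    have h12 : ∃ c : pullback (pullback.fst p₂ p₁ ≫ p₁ ≫ f)
          (Spec.map (CommRingCat.ofHom (algebraMap R K))) ⟶ Γ,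
        c ≫ p₁ = pullback.fst (pullback.fst p₂ p₁ ≫ p₁ ≫ f) _ ≫ pullback.fst p₂ p₁ ≫ p₂ ∧
        c ≫ p₂ = pullback.fst (pullback.fst p₂ p₁ ≫ p₁ ≫ f) _ ≫ pullback.snd p₂ p₁ ≫ p₂ :=
      ⟨pullback.fst _ _ ≫ pullback.snd p₂ p₁, by rw [Category.assoc, hcond],
        by rw [Category.assoc]⟩
    obtain ⟨c, hc₁, hc₂⟩ := (gen (pullback.fst p₂ p₁ ≫ p₁ ≫ f)).trans
      (x := ⟨pullback.fst (pullback.fst p₂ p₁ ≫ p₁ ≫ f) _ ≫ pullback.fst p₂ p₁ ≫ p₁,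
        by simp only [Category.assoc]⟩)
      (y := ⟨pullback.fst (pullback.fst p₂ p₁ ≫ p₁ ≫ f) _ ≫ pullback.fst p₂ p₁ ≫ p₂,
        by simp only [Category.assoc, h]⟩)
      (z := ⟨pullback.fst (pullback.fst p₂ p₁ ≫ p₁ ≫ f) _ ≫ pullback.snd p₂ p₁ ≫ p₂,
        by rw [Category.assoc, e2]⟩) h01 h12
    exact Groth.Agent.Lib.Seat85.SchDom.exists_lift_pair _ hφ f p₁ p₂ h
      (pullback.fst p₂ p₁ ≫ p₁ ≫ f) (pullback.fst p₂ p₁ ≫ p₁) (pullback.snd p₂ p₁ ≫ p₂)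
      (Category.assoc _ _ _) e2 c hc₁ hc₂
  intro T t
  refine ⟨fun a => ⟨a.1 ≫ r, by rw [Category.assoc, hr₁, Category.comp_id],
    by rw [Category.assoc, hr₂, Category.comp_id]⟩, ?_, ?_⟩
  · rintro a b ⟨c, hc₁, hc₂⟩
    exact ⟨c ≫ s, by rw [Category.assoc, hs₁, hc₂], by rw [Category.assoc, hs₂, hc₁]⟩
  · rintro a b d ⟨c, hc₁, hc₂⟩ ⟨c', hc'₁, hc'₂⟩
    refine ⟨pullback.lift c c' (by rw [hc₂, hc'₁]) ≫ m, ?_, ?_⟩
    · rw [Category.assoc, hm₁, pullback.lift_fst_assoc, hc₁]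
    · rw [Category.assoc, hm₂, pullback.lift_snd_assoc, hc'₂]

end Groth.Agent.S13044
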