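import Groth.Statements.S13105
import Mathlib
import Groth.Agent.S11563
import Groth.Agent.Lib.Helper28Hypersurface
import Groth.Agent.Lib.Seat67Dehomog

set_option autoImplicit false
universe u
open Lie3Mod

namespace Groth.Agent.S13105

section Helpers

open MvPolynomial

variable (k : Type u) [Field k] (t : k)

/-- the point. -/
def pt : Fin 9 → k := ![0, 1, 0, 0, 0, t, 0, 0, 0]

/-- the maximal ideal of the point. -/
noncomputable def mI : Ideal (D k) :=
  Ideal.span ({X 0, X 1 - 1, X 2, X 3, X 4, X 5 - C t, X 6, X 7, X 8} : Set (D k))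

/-- six generators. -/
noncomputable def six : Set (D k) := {X 0, X 1 - 1, X 2, X 4, X 5 - C t, X 7}

theorem idJ_le_ker : idJ k ≤ RingHom.ker (MvPolynomial.eval (pt k t)) := by
  rw [idJ, Ideal.span_le]
  intro x hx
  simp only [Set.mem_insert_iff, Set.mem_singleton_iff] at hx
  rw [SetLike.mem_coe, RingHom.mem_ker]
  rcases hx with rfl | rfl | rfl | rfl <;> simp [pt, Q1, Q2, Q3, detM]

/-- the unit. -/
noncomputable def uu : D k := X 5 + X 1 - X 1 * X 5 + X 4 * X 2

theorem eval_uu : MvPolynomial.eval (pt k t) (uu k) = 1 := by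
  simp [uu, pt]

theorem Q1_identity : uu k * Q1 k =
    (X 1 + X 5) * (Q1 k + detM k) - (X 7 * X 2 + X 8 * X 5) * Q2 k
      + (X 7 * X 1 + X 8 * X 4) * Q3 k := by
  simp only [uu, Q1, Q2, Q3, detM, va, vb, vc, vd, ve, vf, vg, vh, vi]
  ring

theorem X3_identity : (X 3 : D k) =
    (-X 3) * (X 1 - 1) + (X 0 - X 8) * X 4 + X 5 * X 7 + Q2 k := by
  simp only [Q2, va, vb, vc, vd, ve, vf, vg, vh, vi]
  ring

theorem X8_identity : (X 8 : D k) =
    (-X 8) * (X 1 - 1) + (X 7 + X 3) * X 2 - X 5 * X 0 - Q3 k := by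
  simp only [Q3, va, vb, vc, vd, ve, vf, vg, vh, vi]
  ring

theorem X6_identity : (X 6 : D k) =
    (- X 8 * X 3 - X 6 + C t * X 6) * (X 1 - 1) + (X 8 * X 0 - X 2 * X 6) * X 4
      + (X 0 - X 2 * X 7 + X 1 * X 8) * X 7 + (X 1 * X 6 - X 6) * (X 5 - C t)
      + X 8 * Q2 k - Q1 k - detM k := by
  simp only [Q1, Q2, detM, va, vb, vc, vd, ve, vf, vg, vh, vi]
  ring

theorem mI_le_ker : mI k t ≤ RingHom.ker (MvPolynomial.eval (pt k t)) := by
  rw [mI, Ideal.span_le]
  intro x hx
  simp only [Set.mem_insert_iff, Set.mem_singleton_iff] at hx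
  rw [SetLike.mem_coe, RingHom.mem_ker]
  rcases hx with rfl | rfl | rfl | rfl | rfl | rfl | rfl | rfl | rfl <;> simp [pt]

theorem ker_le_mI : RingHom.ker (MvPolynomial.eval (pt k t)) ≤ mI k t := by
  rw [← Groth.Agent.S11563.Aux.RatPtCot.ptIdeal_eq_ker, Groth.Agent.S11563.Aux.RatPtCot.ptIdeal,
    Ideal.span_le]
  rintro _ ⟨j, rfl⟩
  apply Ideal.subset_span
  fin_cases j <;> simp [pt]

theorem mI_eq_ker : mI k t = RingHom.ker (MvPolynomial.eval (pt k t)) :=
  le_antisymm (mI_le_ker k t) (ker_le_mI k t)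


theorem ncard_six : (six k t).ncard ≤ 6 := by
  classical
  have : six k t = ↑({X 0, X 1 - 1, X 2, X 4, X 5 - C t, X 7} : Finset (D k)) := by simp [six]
  rw [this, Set.ncard_coe_finset]
  exact Finset.card_le_six

theorem six_le : Ideal.span (six k t) ≤ mI k t := by
  rw [Ideal.span_le]
  intro x hx
  apply Ideal.subset_span
  simp only [six, Set.mem_insert_iff, Set.mem_singleton_iff] at hx ⊢
  tauto

theorem mI_le : mI k t ≤ Ideal.span (six k t) ⊔ idJ k := by
  rw [mI, Ideal.span_le]
  intro x hx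
  simp only [Set.mem_insert_iff, Set.mem_singleton_iff] at hx
  have hs : ∀ y ∈ six k t, y ∈ Ideal.span (six k t) ⊔ idJ k :=
    fun y hy => Ideal.mem_sup_left (Ideal.subset_span hy)
  have hq1 : Q1 k ∈ Ideal.span (six k t) ⊔ idJ k :=
    Ideal.mem_sup_right (Ideal.subset_span (by simp))
  have hq2 : Q2 k ∈ Ideal.span (six k t) ⊔ idJ k :=
    Ideal.mem_sup_right (Ideal.subset_span (by simp))
  have hq3 : Q3 k ∈ Ideal.span (six k t) ⊔ idJ k :=
    Ideal.mem_sup_right (Ideal.subset_span (by simp))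
  have hq4 : detM k ∈ Ideal.span (six k t) ⊔ idJ k :=
    Ideal.mem_sup_right (Ideal.subset_span (by simp))
  have h0 : (X 0 : D k) ∈ Ideal.span (six k t) ⊔ idJ k := hs _ (by simp [six])
  have h1 : (X 1 - 1 : D k) ∈ Ideal.span (six k t) ⊔ idJ k := hs _ (by simp [six])
  have h2 : (X 2 : D k) ∈ Ideal.span (six k t) ⊔ idJ k := hs _ (by simp [six])
  have h4 : (X 4 : D k) ∈ Ideal.span (six k t) ⊔ idJ k := hs _ (by simp [six])
  have h5 : (X 5 - C t : D k) ∈ Ideal.span (six k t) ⊔ idJ k := hs _ (by simp [six])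
  have h7 : (X 7 : D k) ∈ Ideal.span (six k t) ⊔ idJ k := hs _ (by simp [six])
  rw [SetLike.mem_coe]
  rcases hx with rfl | rfl | rfl | rfl | rfl | rfl | rfl | rfl | rfl
  · exact h0
  · exact h1
  · exact h2
  · rw [X3_identity k]
    exact add_mem (add_mem (add_mem (Ideal.mul_mem_left _ _ h1) (Ideal.mul_mem_left _ _ h4))
      (Ideal.mul_mem_left _ _ h7)) hq2
  · exact h4
  · exact h5
  · rw [X6_identity k t]
    exact sub_mem (sub_mem (add_mem (add_mem (add_mem (add_mem (Ideal.mul_mem_left _ _ h1)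
      (Ideal.mul_mem_left _ _ h4)) (Ideal.mul_mem_left _ _ h7)) (Ideal.mul_mem_left _ _ h5))
      (Ideal.mul_mem_left _ _ hq2)) hq1) hq4
  · exact h7
  · rw [X8_identity k]
    exact sub_mem (sub_mem (add_mem (Ideal.mul_mem_left _ _ h1) (Ideal.mul_mem_left _ _ h2))
      (Ideal.mul_mem_left _ _ h0)) hq3

theorem arith (d : WithBot ℕ∞) (h1 : d ≤ 6) (h2 : (9 : WithBot ℕ∞) ≤ d + 3) : d = 6 := by
  induction d using WithBot.recBotCoe with
  | bot => simp at h2
  | coe e =>
    induction e using ENat.recTopCoe with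
    | top =>
      exfalso
      have : ((⊤ : ℕ∞) : WithBot ℕ∞) ≤ ((6 : ℕ∞) : WithBot ℕ∞) := h1
      rw [WithBot.coe_le_coe] at this
      simp at this
    | coe n =>
      have h1a : ((n : ℕ∞) : WithBot ℕ∞) ≤ ((6 : ℕ∞) : WithBot ℕ∞) := h1
      have h2a : ((9 : ℕ∞) : WithBot ℕ∞) ≤ (((n : ℕ∞) + 3 : ℕ∞) : WithBot ℕ∞) := h2
      rw [WithBot.coe_le_coe] at h1a h2a
      have h1' : n ≤ 6 := by exact_mod_cast h1a
      have h2' : 9 ≤ n + 3 := by exact_mod_cast h2a
      have : n = 6 := by omega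
      subst this
      rfl

theorem uu_notMem : uu k ∉ mI k t := by
  intro h
  have := mI_le_ker k t h
  rw [RingHom.mem_ker, eval_uu] at this
  exact one_ne_zero this

end Helpers

open MvPolynomial in
/-- Let k be a field, t ∈ k, D = k[a,b,c,d,e,f,g,h,i] and J = (Q1, Q2, Q3, det M) with Q1 = ah + di − fg
− bg, Q2 = ie + bd − fh − ae, Q3 = hc + dc − af − bi, det M = −ch² + gbf + ei² − gec + hbi − ihf.
The maximal ideal (a, b − 1, c, d, e, f − t, g, h, i) of D contains J (it is the point given by the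
Lie algebra with [x,y] = y, [x,z] = t z, [y,z] = 0), and the localization of D/J at the
corresponding prime is a regular local ring of Krull dimension 6: the scheme Spec(D/J) has a smooth
k-rational point. -/
theorem result (k : Type u) [Field k] (t : k)
    (P : Ideal (Lie3Mod.D k ⧸ Lie3Mod.idJ k)) [P.IsPrime]
    (hP : P = Ideal.map (Ideal.Quotient.mk (Lie3Mod.idJ k))
      (Ideal.span ({X 0, X 1 - 1, X 2, X 3, X 4, X 5 - C t, X 6, X 7, X 8} : Set (Lie3Mod.D k)))) :
    IsRegularLocalRing (Localization.AtPrime P) ∧ ringKrullDim (Localization.AtPrime P) = 6 := by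
  classical
  have hP' : P = Ideal.map (Ideal.Quotient.mk (idJ k)) (mI k t) := hP
  have hker : idJ k ≤ mI k t := (idJ_le_ker k t).trans (ker_le_mI k t)
  have hp : P.comap (Ideal.Quotient.mk (idJ k)) = mI k t := by
    rw [hP', Ideal.comap_map_of_surjective _ Ideal.Quotient.mk_surjective,
      ← RingHom.ker_eq_comap_bot, Ideal.mk_ker]
    exact sup_eq_left.mpr hker
  -- P is the image of the six
  have hP6 : P = Ideal.map (Ideal.Quotient.mk (idJ k)) (Ideal.span (six k t)) := by
    rw [hP']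
    apply le_antisymm
    · refine (Ideal.map_mono (mI_le k t)).trans ?_
      rw [Ideal.map_sup, Ideal.map_quotient_self, sup_bot_eq]
    · exact Ideal.map_mono (six_le k t)
  have hNR : IsNoetherianRing (Localization.AtPrime P) :=
    IsLocalization.isNoetherianRing P.primeCompl _ inferInstance
  -- upper bound
  have hmaxR : IsLocalRing.maximalIdeal (Localization.AtPrime P) =
      Ideal.span ((algebraMap (D k ⧸ idJ k) (Localization.AtPrime P)) ''
        ((Ideal.Quotient.mk (idJ k)) '' six k t)) := by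
    rw [← Ideal.map_span, ← Ideal.map_span, ← hP6]
    exact (IsLocalization.AtPrime.map_eq_maximalIdeal P (Localization.AtPrime P)).symm
  have h6 : (IsLocalRing.maximalIdeal (Localization.AtPrime P)).spanFinrank ≤ 6 := by
    rw [hmaxR]
    have hfin : (six k t).Finite := by unfold six; exact Set.toFinite _
    refine (Submodule.spanFinrank_span_le_ncard_of_finite ((hfin.image _).image _)).trans ?_
    refine (Set.ncard_image_le (hfin.image _)).trans ?_
    exact (Set.ncard_image_le hfin).trans (ncard_six k t)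
  have hdim_le : ringKrullDim (Localization.AtPrime P) ≤ 6 := by
    refine (ringKrullDim_le_spanFinrank_maximalIdeal (Localization.AtPrime P)).trans ?_
    exact_mod_cast h6
  -- lower bound
  have hmaxp : (P.comap (Ideal.Quotient.mk (idJ k))).IsMaximal := by
    rw [hp, mI_eq_ker]
    refine RingHom.ker_isMaximal_of_surjective _ fun c => ⟨C c, by simp⟩
  have hht : ((P.comap (Ideal.Quotient.mk (idJ k))).height : WithBot ℕ∞) = 9 := by
    rw [Groth.Agent.Lib.Seat67.Dehomog.height_eq_ringKrullDim_of_isMaximal k,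
      MvPolynomial.ringKrullDim_of_isNoetherianRing, ringKrullDim_eq_zero_of_field]
    simp
  let e := Groth.Agent.Lib.Helper28.localizationQuotientEquiv (idJ k) P
  set S := Localization.AtPrime (P.comap (Ideal.Quotient.mk (idJ k))) with hS
  have hdimS : ringKrullDim S = 9 := by
    rw [IsLocalization.AtPrime.ringKrullDim_eq_height (P.comap (Ideal.Quotient.mk (idJ k))) S, hht]
  let φ := algebraMap (D k) S
  let s : Set S := {φ (Q1 k + detM k), φ (Q2 k), φ (Q3 k)}
  have hu : IsUnit (φ (uu k)) := by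
    refine IsLocalization.map_units S (⟨uu k, ?_⟩ : (P.comap (Ideal.Quotient.mk (idJ k))).primeCompl)
    show uu k ∉ P.comap (Ideal.Quotient.mk (idJ k))
    rw [hp]
    exact uu_notMem k t
  have hJS : (idJ k).map φ = Ideal.span s := by
    have m1 : φ (Q1 k + detM k) ∈ Ideal.span s := Ideal.subset_span (by simp [s])
    have m2 : φ (Q2 k) ∈ Ideal.span s := Ideal.subset_span (by simp [s])
    have m3 : φ (Q3 k) ∈ Ideal.span s := Ideal.subset_span (by simp [s])
    have mQ1 : φ (Q1 k) ∈ Ideal.span s := by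
      rw [← Ideal.unit_mul_mem_iff_mem _ hu, ← map_mul, Q1_identity, map_add, map_sub, map_mul,
        map_mul, map_mul]
      exact add_mem (sub_mem (Ideal.mul_mem_left _ _ m1) (Ideal.mul_mem_left _ _ m2))
        (Ideal.mul_mem_left _ _ m3)
    have mdet : φ (detM k) ∈ Ideal.span s := by
      have : φ (detM k) = φ (Q1 k + detM k) - φ (Q1 k) := by rw [map_add]; ring
      rw [this]
      exact sub_mem m1 mQ1
    apply le_antisymm
    · show Ideal.map φ (Ideal.span {Q1 k, Q2 k, Q3 k, detM k}) ≤ _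
      rw [Ideal.map_span, Ideal.span_le]
      rintro _ ⟨x, hx, rfl⟩
      simp only [Set.mem_insert_iff, Set.mem_singleton_iff] at hx
      rcases hx with rfl | rfl | rfl | rfl
      · exact mQ1
      · exact m2
      · exact m3
      · exact mdet
    · rw [Ideal.span_le]
      intro x hx
      simp only [s, Set.mem_insert_iff, Set.mem_singleton_iff] at hx
      have g1 : Q1 k ∈ idJ k := Ideal.subset_span (by simp)
      have g2 : Q2 k ∈ idJ k := Ideal.subset_span (by simp)
      have g3 : Q3 k ∈ idJ k := Ideal.subset_span (by simp)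
      have g4 : detM k ∈ idJ k := Ideal.subset_span (by simp)
      rcases hx with rfl | rfl | rfl
      · exact Ideal.mem_map_of_mem _ (add_mem g1 g4)
      · exact Ideal.mem_map_of_mem _ g2
      · exact Ideal.mem_map_of_mem _ g3
  have hs_le : s ⊆ Ring.jacobson S := by
    rw [IsLocalRing.ringJacobson_eq_maximalIdeal]
    have hle : Ideal.span s ≤ IsLocalRing.maximalIdeal S := by
      rw [← hJS, ← Localization.AtPrime.map_eq_maximalIdeal]
      refine Ideal.map_mono ?_
      rw [hp]; exact hker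
    exact fun x hx => hle (Ideal.subset_span hx)
  have hcard : (s.encard : WithBot ℕ∞) ≤ 3 := by
    have h0 : s = ↑({φ (Q1 k + detM k), φ (Q2 k), φ (Q3 k)} : Finset S) := by simp [s]
    have h1 : ({φ (Q1 k + detM k), φ (Q2 k), φ (Q3 k)} : Finset S).card ≤ 3 :=
      Finset.card_le_three
    rw [h0, Set.encard_coe_eq_coe_finsetCard]
    have h2 : ((({φ (Q1 k + detM k), φ (Q2 k), φ (Q3 k)} : Finset S).card : ℕ∞) : WithBot ℕ∞) ≤
        ((3 : ℕ∞) : WithBot ℕ∞) := by
      rw [WithBot.coe_le_coe]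
      exact_mod_cast h1
    exact h2
  have hkr := ringKrullDim_le_ringKrullDim_quotient_add_encard s hs_le
  have hdimeq : ringKrullDim (Localization.AtPrime P) = ringKrullDim (S ⧸ Ideal.span s) :=
    (ringKrullDim_eq_of_ringEquiv e).trans
      (ringKrullDim_eq_of_ringEquiv (Ideal.quotEquivOfEq hJS))
  have hge : (9 : WithBot ℕ∞) ≤ ringKrullDim (Localization.AtPrime P) + 3 := by
    rw [hdimeq, ← hdimS]
    refine hkr.trans ?_
    gcongr
  have hdim := arith _ hdim_le hge
  refine ⟨?_, hdim⟩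
  apply IsRegularLocalRing.of_spanFinrank_maximalIdeal_le
  rw [hdim]
  exact_mod_cast h6

end Groth.Agent.S13105
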