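import Groth.Statements.S13109
import Groth.Agent.Lib.Seat62SpecEval
import Groth.Agent.Lib.Seat62Seminormal

set_option autoImplicit false
universe u
open HTop

namespace Groth.Agent.S13109

open AlgebraicGeometry W4c1hilbchowinc Groth.Agent.Lib.Seat62.SpecEval CategoryTheory in
set_option backward.isDefEq.respectTransparency false in
/-- Let A be a Noetherian seminormal ring whose integral closure in its total ring of fractions is a
finite A-module. Then a pointwise function on Spec A — one element of the residue field κ(y) for
every point y — which varies algebraically along complete discrete valuation rings (for every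
complete discrete valuation ring R and every morphism Spec R → Spec A there is an element of R whose
values at the two points of Spec R are the images of the chosen values) is the family of values of
exactly one global section. Seminormal is meant in the sense that x^3 = y^2 forces x = a^2 and y =
a^3 for a unique a, which for reduced Noetherian rings is equivalent to the criterion on elements of
the total ring of fractions; test rings range over the universe of A. -/
theorem result
    (A : Type u) [CommRing A] [IsNoetherianRing A] (hA : HTop.IsSeminormalRing A)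
    (hfin : Module.Finite A (integralClosure A (FractionRing A)))
    (f : PtFun (Spec (CommRingCat.of A))) (hf : f.VariesAlongCompleteDVR) :
    ∃! a : Γ(Spec (CommRingCat.of A), ⊤), PtFun.ofSection (Spec (CommRingCat.of A)) a = f := by
  classical
  -- consequence of the hypothesis for ring maps to complete DVRs
  have key : ∀ (R : Type u) [CommRing R] [IsDomain R] [IsDiscreteValuationRing R]
      [IsAdicComplete (IsLocalRing.maximalIdeal R) R] (φ : A →+* R),
      ∃ r : R, ∀ y : Spec (CommRingCat.of R), evA R y r =
        (Spec.map (CommRingCat.ofHom φ)).residueFieldMap y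
          (f (Spec.map (CommRingCat.ofHom φ) y)) := by
    intro R _ _ _ _ φ
    obtain ⟨s, hs⟩ := hf R (Spec.map (CommRingCat.ofHom φ))
    refine ⟨(Scheme.ΓSpecIso (CommRingCat.of R)).hom s, fun y => ?_⟩
    rw [← Γevaluation_eq_evA]
    exact congrFun hs y
  -- transport lemma
  have aux1 : ∀ (R : Type u) [CommRing R] (φ : A →+* R) (r : R) (y : Spec (CommRingCat.of R)),
      evA R y r = (Spec.map (CommRingCat.ofHom φ)).residueFieldMap y
          (f (Spec.map (CommRingCat.ofHom φ) y)) →
      ∀ x : Spec (CommRingCat.of A), Spec.map (CommRingCat.ofHom φ) y = x → ∀ u v : A,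
        f x * evA A x v = evA A x u → evA R y (r * φ v - φ u) = 0 := by
    intro R _ φ r y hr x hx u v h
    subst hx
    rw [map_sub, map_mul, hr, ← residueFieldMap_evA φ y v, ← residueFieldMap_evA φ y u,
      ← map_mul, h, sub_self]
  -- representatives
  have hrep : ∀ x : Spec (CommRingCat.of A), ∃ u v : A, v ∉ x.asIdeal ∧
      f x * evA A x v = evA A x u := fun x => exists_evA_rep x (f x)
  choose U V hV hUV using hrep
  let pt : ∀ p : Ideal A, p.IsPrime → Spec (CommRingCat.of A) :=
    fun p hp => (⟨p, hp⟩ : PrimeSpectrum A)
  let u : Ideal A → A := fun p => if hp : p.IsPrime then U (pt p hp) else 0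
  let v : Ideal A → A := fun p => if hp : p.IsPrime then V (pt p hp) else 1
  have hu : ∀ (p : Ideal A) (hp : p.IsPrime), u p = U (pt p hp) := fun p hp => dif_pos hp
  have hv : ∀ (p : Ideal A) (hp : p.IsPrime), v p = V (pt p hp) := fun p hp => dif_pos hp
  obtain ⟨a, ha⟩ := Groth.Agent.Lib.Seat62.Seminormal.exists_of_forall_completeDVR A hA u v
    (fun p hp => by
      rw [hv p hp]
      exact hV (pt p hp))
    (fun R _ _ _ _ φ => by
      obtain ⟨r, hr⟩ := key R φ
      refine ⟨r, fun P hP => ?_⟩
      let y : Spec (CommRingCat.of R) := (⟨P, hP⟩ : PrimeSpectrum R)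
      have hpp : (P.comap φ).IsPrime := Ideal.comap_isPrime _ _
      have hgy : Spec.map (CommRingCat.ofHom φ) y = pt (P.comap φ) hpp := by
        apply PrimeSpectrum.ext
        rfl
      have h1 := aux1 R φ r y (hr y) (pt (P.comap φ) hpp) hgy (U (pt (P.comap φ) hpp))
        (V (pt (P.comap φ) hpp)) (hUV (pt (P.comap φ) hpp))
      rw [evA_eq_zero_iff] at h1
      rw [hu _ hpp, hv _ hpp]
      exact h1)
  have stepB : ∀ x : Spec (CommRingCat.of A), f x = evA A x a := by
    intro x
    have hpp : x.asIdeal.IsPrime := x.isPrime
    have h1 := ha x.asIdeal hpp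
    rw [hu _ hpp, hv _ hpp] at h1
    have h2 : evA A x (a * V x - U x) = 0 := (evA_eq_zero_iff x _).2 h1
    rw [map_sub, map_mul, ← hUV x, sub_eq_zero] at h2
    have hV0 : evA A x (V x) ≠ 0 := fun h => hV x ((evA_eq_zero_iff x _).1 h)
    exact (mul_right_cancel₀ hV0 h2).symm
  have hred : IsReduced A := by
    rw [isReduced_iff_pow_one_lt 2 one_lt_two]
    intro n hn
    have h3 : n ^ 3 = 0 := by rw [pow_succ, hn, zero_mul]
    exact (hA 0 0 (by ring)).unique ⟨by rw [hn], by rw [h3]⟩ ⟨by ring, by ring⟩
  refine ⟨(Scheme.ΓSpecIso (CommRingCat.of A)).inv a, ?_, ?_⟩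
  · funext x
    exact (stepB x).symm
  · intro s' hs'
    have hzero : ∀ x : Spec (CommRingCat.of A), (Spec (CommRingCat.of A)).Γevaluation x
        (s' - (Scheme.ΓSpecIso (CommRingCat.of A)).inv a) = 0 := by
      intro x
      rw [map_sub, sub_eq_zero]
      have h1 : (Spec (CommRingCat.of A)).Γevaluation x s' = f x := congrFun hs' x
      rw [h1, stepB x]
      rfl
    have h2 : (Spec (CommRingCat.of A)).basicOpen
        (s' - (Scheme.ΓSpecIso (CommRingCat.of A)).inv a) = ⊥ := by
      rw [Scheme.basicOpen_eq_bot_iff_forall_evaluation_eq_zero]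
      intro x
      exact hzero x.1
    have : IsReduced (Spec (CommRingCat.of A)) := inferInstance
    exact sub_eq_zero.1 ((basicOpen_eq_bot_iff _).1 h2)

end Groth.Agent.S13109
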