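import Groth.Statements.S13110
import Groth.Agent.Lib.Seat62PtFunAlg
import Groth.Agent.Lib.Seat62SpecEval
import Groth.Agent.Lib.Seat62HSpec

set_option autoImplicit false
universe u
open HTop

namespace Groth.Agent.S13110

open AlgebraicGeometry W4c1hilbchowinc Groth.Agent.Lib.Seat62.SpecEval Groth.Agent.Lib.Seat62.PtFunAlg CategoryTheory in
set_option backward.isDefEq.respectTransparency false in
/-- Let A be a reduced Noetherian ring, integrally closed inside its total ring of fractions
(equivalently, a finite product of integrally closed Noetherian domains). Then a pointwise function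
on Spec A — one element of the residue field κ(y) for every point y — which varies algebraically
along discrete valuation rings (for every discrete valuation ring R and every morphism Spec R → Spec
A there is an element of R whose values at the two points of Spec R are the images of the chosen
values) is the family of values of exactly one global section. Reducedness is part of the meaning of
integrally closed here; test rings range over the universe of A. -/
theorem result
    (A : Type u) [CommRing A] [IsReduced A] [IsNoetherianRing A] [IsIntegrallyClosed A]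
    (f : PtFun (Spec (CommRingCat.of A))) (hf : f.VariesAlongDVR) :
    ∃! a : Γ(Spec (CommRingCat.of A), ⊤), PtFun.ofSection (Spec (CommRingCat.of A)) a = f := by
  classical
  -- consequence of the hypothesis for ring maps to DVRs
  have key : ∀ (R : Type u) [CommRing R] [IsDomain R] [IsDiscreteValuationRing R] (φ : A →+* R),
      ∃ r : R, ∀ y : Spec (CommRingCat.of R), evA R y r =
        (Spec.map (CommRingCat.ofHom φ)).residueFieldMap y
          (f (Spec.map (CommRingCat.ofHom φ) y)) := by
    intro R _ _ _ φ
    obtain ⟨s, hs⟩ := hf R (Spec.map (CommRingCat.ofHom φ))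
    refine ⟨(Scheme.ΓSpecIso (CommRingCat.of R)).hom s, fun y => ?_⟩
    rw [← Γevaluation_eq_evA]
    exact congrFun hs y
  -- transport lemmas
  have aux1 : ∀ (R : Type u) [CommRing R] (φ : A →+* R) (r : R) (y : Spec (CommRingCat.of R)),
      evA R y r = (Spec.map (CommRingCat.ofHom φ)).residueFieldMap y
          (f (Spec.map (CommRingCat.ofHom φ) y)) →
      ∀ x : Spec (CommRingCat.of A), Spec.map (CommRingCat.ofHom φ) y = x → ∀ u v : A,
        f x * evA A x v = evA A x u → evA R y (r * φ v - φ u) = 0 := by
    intro R _ φ r y hr x hx u v h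
    subst hx
    rw [map_sub, map_mul, hr, ← residueFieldMap_evA φ y v, ← residueFieldMap_evA φ y u,
      ← map_mul, h, sub_self]
  have aux2 : ∀ (R : Type u) [CommRing R] (φ : A →+* R) (r : R) (y : Spec (CommRingCat.of R)),
      evA R y r = (Spec.map (CommRingCat.ofHom φ)).residueFieldMap y
          (f (Spec.map (CommRingCat.ofHom φ) y)) →
      ∀ x : Spec (CommRingCat.of A), Spec.map (CommRingCat.ofHom φ) y = x → ∀ a : A,
        (f x = evA A x a ↔ evA R y (r - φ a) = 0) := by
    intro R _ φ r y hr x hx a
    subst hx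
    rw [map_sub, hr, ← residueFieldMap_evA φ y a, sub_eq_zero]
    constructor
    · intro h; rw [h]
    · intro h
      exact ((Spec.map (CommRingCat.ofHom φ)).residueFieldMap y).hom.injective h
  -- representatives
  have hrep : ∀ x : Spec (CommRingCat.of A), ∃ u v : A, v ∉ x.asIdeal ∧
      f x * evA A x v = evA A x u := fun x => exists_evA_rep x (f x)
  choose U V hV hUV using hrep
  let pt : ∀ p : Ideal A, p.IsPrime → Spec (CommRingCat.of A) :=
    fun p hp => (⟨p, hp⟩ : PrimeSpectrum A)
  let u : Ideal A → A := fun p => if hp : p.IsPrime then U (pt p hp) else 0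
  let v : Ideal A → A := fun p => if hp : p.IsPrime then V (pt p hp) else 1
  have hu : ∀ (p : Ideal A) (hp : p.IsPrime), u p = U (pt p hp) := fun p hp => dif_pos hp
  have hv : ∀ (p : Ideal A) (hp : p.IsPrime), v p = V (pt p hp) := fun p hp => dif_pos hp
  obtain ⟨a, ha⟩ := exists_of_forall_dvr u v
    (fun p hp => by
      have hpp : p.IsPrime := hp.1.1
      rw [hv p hpp]
      exact hV (pt p hpp))
    (fun p hp R _ _ _ φ hker => by
      have hpp : p.IsPrime := hp.1.1
      obtain ⟨r, hr⟩ := key R φ
      refine ⟨r, ?_⟩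
      let y : Spec (CommRingCat.of R) := (⟨⊥, Ideal.isPrime_bot⟩ : PrimeSpectrum R)
      have hgy : Spec.map (CommRingCat.ofHom φ) y = pt p hpp := by
        apply PrimeSpectrum.ext
        change Ideal.comap φ ⊥ = p
        rw [← RingHom.ker_eq_comap_bot, hker]
      have h1 := aux1 R φ r y (hr y) (pt p hpp) hgy (U (pt p hpp)) (V (pt p hpp))
        (hUV (pt p hpp))
      rw [evA_eq_zero_iff] at h1
      have h2 : r * φ (V (pt p hpp)) - φ (U (pt p hpp)) = 0 := h1
      rw [hu p hpp, hv p hpp]
      exact sub_eq_zero.1 h2)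
  -- the value at minimal points
  have stepA : ∀ x : Spec (CommRingCat.of A), x.asIdeal ∈ minimalPrimes A → f x = evA A x a := by
    intro x hx
    have hpp : x.asIdeal.IsPrime := x.isPrime
    have h1 := ha x.asIdeal hx
    rw [hu _ hpp, hv _ hpp] at h1
    have h2 : evA A x (a * V x - U x) = 0 := (evA_eq_zero_iff x _).2 h1
    rw [map_sub, map_mul, ← hUV x, sub_eq_zero] at h2
    have hV0 : evA A x (V x) ≠ 0 := fun h => hV x ((evA_eq_zero_iff x _).1 h)
    exact (mul_right_cancel₀ hV0 h2).symm
  have stepB : ∀ x : Spec (CommRingCat.of A), f x = evA A x a := by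
    intro x
    obtain ⟨p, hpmin, hple⟩ := Ideal.exists_minimalPrimes_le (bot_le : (⊥ : Ideal A) ≤ x.asIdeal)
    have hpmin' : p ∈ minimalPrimes A := hpmin
    have hpp : p.IsPrime := hpmin.1.1
    by_cases hpx : p = x.asIdeal
    · exact stepA x (hpx ▸ hpmin')
    have hxp : x.asIdeal.IsPrime := x.isPrime
    obtain ⟨R, i1, i2, i3, φ, hker, hcomap⟩ :=
      Groth.Agent.Lib.Seat62.HSpec.exists_dvr_of_lt A p x.asIdeal (lt_of_le_of_ne hple hpx)
    obtain ⟨r, hr⟩ := key R φ
    let y₀ : Spec (CommRingCat.of R) := (⟨⊥, Ideal.isPrime_bot⟩ : PrimeSpectrum R)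
    let y₁ : Spec (CommRingCat.of R) := IsLocalRing.closedPoint R
    have hgy₀ : Spec.map (CommRingCat.ofHom φ) y₀ = pt p hpp := by
      apply PrimeSpectrum.ext
      change Ideal.comap φ ⊥ = p
      rw [← RingHom.ker_eq_comap_bot, hker]
    have hgy₁ : Spec.map (CommRingCat.ofHom φ) y₁ = x := by
      apply PrimeSpectrum.ext
      exact hcomap
    have h0 := (aux2 R φ r y₀ (hr y₀) (pt p hpp) hgy₀ a).1 (stepA (pt p hpp) hpmin')
    rw [evA_eq_zero_iff] at h0
    have h0' : r - φ a = 0 := h0
    refine (aux2 R φ r y₁ (hr y₁) x hgy₁ a).2 ?_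
    rw [h0', map_zero]
  refine ⟨(Scheme.ΓSpecIso (CommRingCat.of A)).inv a, ?_, ?_⟩
  · funext x
    exact (stepB x).symm
  · intro s' hs'
    have hzero : ∀ x : Spec (CommRingCat.of A), (Spec (CommRingCat.of A)).Γevaluation x
        (s' - (Scheme.ΓSpecIso (CommRingCat.of A)).inv a) = 0 := by
      intro x
      rw [map_sub, sub_eq_zero]
      have h1 : (Spec (CommRingCat.of A)).Γevaluation x s' = f x := congrFun hs' x
      rw [h1, stepB x]
      rfl
    have h2 : (Spec (CommRingCat.of A)).basicOpen
        (s' - (Scheme.ΓSpecIso (CommRingCat.of A)).inv a) = ⊥ := by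
      rw [Scheme.basicOpen_eq_bot_iff_forall_evaluation_eq_zero]
      intro x
      exact hzero x.1
    exact sub_eq_zero.1 ((basicOpen_eq_bot_iff _).1 h2)

end Groth.Agent.S13110
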