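import Groth.Statements.S13111
import Groth.Agent.Lib.Seat62SpecEval

set_option autoImplicit false
universe u
open HTop

namespace Groth.Agent.S13111

/-- cube-square roots exist in integrally closed domains. -/
theorem exists_root_of_isIntegrallyClosed (R : Type u) [CommRing R] [IsDomain R]
    [IsIntegrallyClosed R] (x y : R) (hxy : x ^ 3 = y ^ 2) : ∃ r : R, r ^ 2 = x ∧ r * x = y := by
  by_cases hx : x = 0
  · subst hx
    have hy : y = 0 := by
      have : y ^ 2 = 0 := by rw [← hxy]; ring
      exact pow_eq_zero_iff (two_ne_zero) |>.1 this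
    exact ⟨0, by ring, by rw [hy]; ring⟩
  let K := FractionRing R
  have hxK : algebraMap R K x ≠ 0 := by
    rwa [Ne, map_eq_zero_iff _ (IsFractionRing.injective R K)]
  have hρ : (algebraMap R K y / algebraMap R K x) ^ 2 = algebraMap R K x := by
    rw [div_pow, div_eq_iff (pow_ne_zero 2 hxK), ← map_pow, ← hxy, map_pow]
    ring
  have hint : IsIntegral R (algebraMap R K y / algebraMap R K x) := by
    refine ⟨Polynomial.X ^ 2 - Polynomial.C x, Polynomial.monic_X_pow_sub_C x two_ne_zero, ?_⟩
    rw [Polynomial.eval₂_sub, Polynomial.eval₂_pow, Polynomial.eval₂_X, Polynomial.eval₂_C, hρ,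
      sub_self]
  obtain ⟨r, hr⟩ := IsIntegrallyClosed.algebraMap_eq_of_integral hint
  refine ⟨r, ?_, ?_⟩
  · apply IsFractionRing.injective R K
    rw [map_pow, hr, hρ]
  · apply IsFractionRing.injective R K
    rw [map_mul, hr]
    exact div_mul_cancel₀ _ hxK

/-- uniqueness of cube-square roots in reduced rings. -/
theorem root_unique_of_isReduced (A : Type u) [CommRing A] [IsReduced A] (a b : A)
    (h2 : a ^ 2 = b ^ 2) (h3 : a ^ 3 = b ^ 3) : a = b := by
  have k1 : a ^ 2 * (a - b) = 0 := by
    have : a ^ 2 * (a - b) = a ^ 3 - a ^ 2 * b := by ring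
    rw [this, h3, h2]; ring
  have k2 : b ^ 2 * (a - b) = 0 := by
    have : b ^ 2 * (a - b) = a * b ^ 2 - b ^ 3 := by ring
    rw [this, ← h3, ← h2]; ring
  have k3 : a * b * (a - b) = 0 := by
    have : a * b * (a - b) = a ^ 2 * b - a * b ^ 2 := by ring
    have e2 : a ^ 2 * b - a * b ^ 2 = b * a ^ 2 - a * b ^ 2 := by ring
    rw [this, e2, h2]
    have : b * b ^ 2 - a * b ^ 2 = b ^ 3 - a * b ^ 2 := by ring
    rw [this, ← h3, ← h2]; ring
  have hnil : (a - b) ^ 3 = 0 := by
    have e : (a - b) ^ 3 = a ^ 2 * (a - b) - 2 * (a * b * (a - b)) + b ^ 2 * (a - b) := by ring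
    rw [e, k1, k2, k3]; ring
  exact sub_eq_zero.1 (IsNilpotent.eq_zero ⟨3, hnil⟩)

open AlgebraicGeometry W4c1hilbchowinc Groth.Agent.Lib.Seat62.SpecEval CategoryTheory in
set_option backward.isDefEq.respectTransparency false in
/-- Let A be a reduced Noetherian ring whose integral closure in its total ring of fractions is a finite
A-module. Suppose that any pointwise function on Spec A that is algebraic along every discrete
valuation ring (for every discrete valuation ring R and every morphism Spec R → Spec A there is an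
element of R whose values at the two points of Spec R are the images of the chosen values) is the
family of values of exactly one global section. Then A is seminormal: whenever x^3 = y^2 there is
exactly one a with x = a^2 and y = a^3. Test rings range over the universe of A. -/
theorem result
    (A : Type u) [CommRing A] [IsReduced A] [IsNoetherianRing A]
    (hfin : Module.Finite A (integralClosure A (FractionRing A)))
    (h : ∀ f : PtFun (Spec (CommRingCat.of A)), f.VariesAlongDVR →
      ∃! a : Γ(Spec (CommRingCat.of A), ⊤), PtFun.ofSection (Spec (CommRingCat.of A)) a = f) :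
    HTop.IsSeminormalRing A := by
  classical
  intro x y hxy
  -- the pointwise function `y / x`
  let f : PtFun (Spec (CommRingCat.of A)) := fun p =>
    if x ∈ p.asIdeal then 0 else evA A p y / evA A p x
  have hf2 : ∀ p : Spec (CommRingCat.of A), f p ^ 2 = evA A p x ∧ f p ^ 3 = evA A p y := by
    intro p
    have hxy' : evA A p x ^ 3 = evA A p y ^ 2 := by rw [← map_pow, ← map_pow, hxy]
    by_cases hx : x ∈ p.asIdeal
    · have hy : y ∈ p.asIdeal := by
        have : y ^ 2 ∈ p.asIdeal := by rw [← hxy]; exact Ideal.pow_mem_of_mem _ hx 3 (by norm_num)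
        exact p.isPrime.mem_of_pow_mem 2 this
      simp only [f, if_pos hx]
      rw [(evA_eq_zero_iff p x).2 hx, (evA_eq_zero_iff p y).2 hy]
      constructor <;> ring
    · simp only [f, if_neg hx]
      have hx0 : evA A p x ≠ 0 := fun h0 => hx ((evA_eq_zero_iff p x).1 h0)
      constructor
      · rw [div_pow, ← hxy']; field_simp
      · rw [div_pow]
        have : evA A p y ^ 3 = evA A p y * evA A p x ^ 3 := by rw [hxy']; ring
        rw [this]; field_simp
  have hvar : f.VariesAlongDVR := by
    intro R _ _ _ g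
    obtain ⟨φ, rfl⟩ : ∃ φ : A →+* R, Spec.map (CommRingCat.ofHom φ) = g :=
      ⟨(Spec.preimage g).hom, by rw [CommRingCat.ofHom_hom]; exact Spec.map_preimage g⟩
    obtain ⟨r, hr2, hrx⟩ := exists_root_of_isIntegrallyClosed R (φ x) (φ y)
      (by rw [← map_pow, ← map_pow, hxy])
    refine ⟨(Scheme.ΓSpecIso (CommRingCat.of R)).inv r, ?_⟩
    funext y₀
    change evA R y₀ r = (Spec.map (CommRingCat.ofHom φ)).residueFieldMap y₀
      (f (Spec.map (CommRingCat.ofHom φ) y₀))
    have hmem : x ∈ (Spec.map (CommRingCat.ofHom φ) y₀).asIdeal ↔ φ x ∈ y₀.asIdeal := Iff.rfl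
    by_cases hx : x ∈ (Spec.map (CommRingCat.ofHom φ) y₀).asIdeal
    · simp only [f, if_pos hx, map_zero]
      rw [evA_eq_zero_iff]
      have : r ^ 2 ∈ y₀.asIdeal := by rw [hr2]; exact hmem.1 hx
      exact y₀.isPrime.mem_of_pow_mem 2 this
    · simp only [f, if_neg hx]
      rw [map_div₀, residueFieldMap_evA, residueFieldMap_evA]
      have hx0 : evA R y₀ (φ x) ≠ 0 := fun h0 => hx (hmem.2 ((evA_eq_zero_iff y₀ _).1 h0))
      rw [eq_div_iff hx0, ← map_mul, hrx]
  obtain ⟨s, hs, -⟩ := h f hvar
  have hsval : ∀ p : Spec (CommRingCat.of A),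
      evA A p ((Scheme.ΓSpecIso (CommRingCat.of A)).hom s) = f p := by
    intro p
    rw [← Γevaluation_eq_evA]
    exact congrFun hs p
  have hzero : ∀ z : A, (∀ p : Spec (CommRingCat.of A), evA A p z = 0) → z = 0 := by
    intro z hz
    have : z ∈ nilradical A := by
      rw [nilradical_eq_sInf, Ideal.mem_sInf]
      intro P hP
      exact (evA_eq_zero_iff (⟨P, hP⟩ : PrimeSpectrum A) z).1 (hz _)
    rw [nilradical_eq_zero] at this
    simpa using this
  refine ⟨(Scheme.ΓSpecIso (CommRingCat.of A)).hom s, ⟨?_, ?_⟩, ?_⟩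
  · apply sub_eq_zero.1
    apply hzero
    intro p
    rw [map_sub, map_pow, hsval, (hf2 p).1, sub_self]
  · apply sub_eq_zero.1
    apply hzero
    intro p
    rw [map_sub, map_pow, hsval, (hf2 p).2, sub_self]
  · rintro b ⟨hb2, hb3⟩
    apply root_unique_of_isReduced
    · rw [← hb2]
      apply sub_eq_zero.1
      apply hzero
      intro p
      rw [map_sub, map_pow, hsval, (hf2 p).1, sub_self]
    · rw [← hb3]
      apply sub_eq_zero.1
      apply hzero
      intro p
      rw [map_sub, map_pow, hsval, (hf2 p).2, sub_self]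

end Groth.Agent.S13111
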