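import Groth.Statements.S13148
import Groth.Agent.S13147
import Groth.Agent.Lib.Seat88FrobSplit
import Groth.Agent.Lib.Seat88W2FrobLift

set_option autoImplicit false
universe u
open FrobAlg

namespace Groth.Agent.S13148

/-- Over a perfect field k of characteristic p, every smooth affine scheme Spec A admits a flat lifting
over W₂(k) together with a lifting of Frobenius (not necessarily unique). -/
theorem result
    (p : ℕ) [Fact p.Prime] (k : Type u) [Field k] [CharP k p] [PerfectRing k p]
    (A : Type u) [CommRing A] [Algebra k A] [Algebra.Smooth k A] :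
    FrobAlg.IsFLiftable p k A := by
  rcases subsingleton_or_nontrivial A with hA | hA
  · -- the zero ring
    have hφ : ∀ a b : A, (0 : A →+ A) (a ^ p * b) = a * (0 : A →+ A) b := fun a b =>
      Subsingleton.elim _ _
    have hφ1 : (0 : A →+ A) 1 = 1 := Subsingleton.elim _ _
    have hlift := Groth.Agent.S13147.result p k A 0 hφ hφ1
    obtain ⟨Φ, hΦ⟩ := Groth.Agent.Lib.Seat88.W2FrobLift.exists_frobLift hlift
    exact ⟨_, _, _, _, Φ, hΦ⟩
  · have hchar : CharP A p := charP_of_injective_algebraMap (algebraMap k A).injective p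
    obtain ⟨φ, hφ, hφ1⟩ := Groth.Agent.Lib.Seat88.FrobSplit.exists_frobenius_splitting p k A
    have hlift := Groth.Agent.S13147.result p k A φ hφ hφ1
    obtain ⟨Φ, hΦ⟩ := Groth.Agent.Lib.Seat88.W2FrobLift.exists_frobLift hlift
    exact ⟨_, _, _, _, Φ, hΦ⟩

end Groth.Agent.S13148
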