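import Groth.Statements.S13152
import Groth.Agent.Lib.Seat34TorsorFF
import Groth.Agent.Lib.Helper4NormIso

set_option autoImplicit false
universe u
open CategoryTheory AlgebraicGeometry
open NonAbH1

namespace Groth.Agent.S13152

/-- Let X be a normal integral scheme (integral, with every local ring an integrally closed domain), G
an X-group scheme which is finite and flat over X, and Y an X-scheme with an action of G making it a
G-torsor for the fppf topology. If Y acquires a section over the spectrum of the local ring of X at
its generic point (the function field of X), then Y has a section over X; in other words the map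
from isomorphism classes of fppf G-torsors over X to those over the function field has trivial
kernel. (The published statement assumes moreover that all schemes are Noetherian and that G is
commutative, and is phrased as injectivity of H¹(X, G) → H¹(K(X), G); these extra assumptions are
not needed for the trivial-kernel assertion stated here.) -/
theorem result {X : Scheme.{u}} [IsIntegral X]
    (hX : Pi1.IsNormalScheme X) (G : Over X) [GrpObj G] [IsFinite G.hom] [Flat G.hom]
    (Y : Over X) (a : AlgGrp.Action G Y) (hY : NonAbH1.IsTorsorFor Scheme.fppfPrecoverage a)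
    (hgen : NonAbH1.HasSectionOver Y (X.fromSpecStalk (genericPoint X))) :
    NonAbH1.HasSectionOver Y (𝟙 X) := by
  have : IsFinite Y.hom := Groth.Agent.Lib.Seat34.TorsorFF.isFinite_of_isTorsorFor a hY
  obtain ⟨s, hs⟩ := hgen
  let ψ : X.functionField →+* X.functionField := RingHom.id _
  have hqc : QuasiCompact (X.fromSpecStalk (genericPoint X)) := by
    have : Finite (Spec (X.presheaf.stalk (genericPoint X))) := by
      show Finite (PrimeSpectrum X.functionField)
      infer_instance
    exact ⟨fun U _ _ => (Set.toFinite _).isCompact⟩
  have : QuasiCompact (Groth.Agent.Lib.Helper4.NormCurve.gen X X.functionField ψ ≫ 𝟙 X) := by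
    infer_instance
  have : QuasiSeparated (Groth.Agent.Lib.Helper4.NormCurve.gen X X.functionField ψ ≫ 𝟙 X) := by
    infer_instance
  have hiso := Groth.Agent.Lib.Helper4.NormIso.isIso_desc X.functionField ψ (𝟙 X) hX
    Function.bijective_id
  have H : Groth.Agent.Lib.Helper4.NormCurve.gen X X.functionField ψ ≫ 𝟙 X =
      (Spec.map (CommRingCat.ofHom ψ) ≫ s) ≫ Y.hom := by
    rw [Category.assoc, Category.assoc, hs, Category.comp_id]
  refine ⟨inv ((Groth.Agent.Lib.Helper4.NormCurve.gen X X.functionField ψ ≫ 𝟙 X).normalizationDesc
      (Groth.Agent.Lib.Helper4.NormCurve.gen X X.functionField ψ) (𝟙 X) rfl) ≫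
    (Groth.Agent.Lib.Helper4.NormCurve.gen X X.functionField ψ ≫ 𝟙 X).normalizationDesc
      (Spec.map (CommRingCat.ofHom ψ) ≫ s) Y.hom H, ?_⟩
  rw [Category.assoc, Scheme.Hom.normalizationDesc_comp, IsIso.inv_comp_eq,
    ← Scheme.Hom.normalizationDesc_comp _
      (Groth.Agent.Lib.Helper4.NormCurve.gen X X.functionField ψ) (𝟙 X) rfl]

end Groth.Agent.S13152
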