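import Groth.Statements.S13155
import Groth.Agent.Lib.Seat61KummerNorm

set_option autoImplicit false
universe u
open CAlg

namespace Groth.Agent.S13155

/-- Let R be a discrete valuation ring of characteristic zero with uniformizer π, and A a Noetherian
integrally closed domain which is an R-algebra with injective structure map and in which πA is a
prime ideal (X = Spec A is normal, flat over R, with integral special fibre). Let m ≥ 1 and let f ∈
A be invertible in A[1/π] (so Z^m = f defines a μ_m-torsor over the generic fibre), such that S =
A[1/π][Z]/(Z^m − f) is an integral domain and, writing B for the integral closure of A in S (the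
normalization of X in that cover), πB is a prime ideal of B (the normalization has integral special
fibre). Then f is, up to a unit of A, an m-th power of a power of π: f = π^{mq}·u with q ≥ 0 and u ∈
A^×, so that the cover extends to the μ_m-torsor Z^m = u over all of X. (The published statement is
the existence and uniqueness of the extending μ_m-torsor over a normal faithfully flat R-scheme with
integral fibres, R containing a primitive m-th root of unity; this row is the affine computation
that carries the proof.) -/
theorem result (R : Type u) [CommRing R]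
    [IsDomain R] [IsDiscreteValuationRing R] [CharZero R] (ϖ : R) (hϖ : Irreducible ϖ)
    (A : Type u) [CommRing A] [IsDomain A] [IsNoetherianRing A] [IsIntegrallyClosed A] [Algebra R A]
    (hinj : Function.Injective (algebraMap R A)) (hprime : (Ideal.span {algebraMap R A ϖ}).IsPrime)
    (m : ℕ) (hm : 0 < m) (f : A) (hf : IsUnit (algebraMap A (Localization.Away (algebraMap R A ϖ)) f))
    [IsDomain (AdjoinRoot (Polynomial.X ^ m - Polynomial.C (algebraMap A (Localization.Away (algebraMap R A ϖ)) f)))]
    (hsp : (Ideal.span {algebraMap A (integralClosure A
        (AdjoinRoot (Polynomial.X ^ m - Polynomial.C (algebraMap A (Localization.Away (algebraMap R A ϖ)) f))))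
          (algebraMap R A ϖ)}).IsPrime) :
    ∃ (q : ℕ) (u : Aˣ), f = algebraMap R A ϖ ^ (m * q) * (u : A) := by
  classical
  have hπ0 : algebraMap R A ϖ ≠ 0 := fun h => hϖ.ne_zero (hinj (by rw [h, map_zero]))
  have := hprime
  obtain ⟨k, u, hku⟩ :=
    Groth.Agent.Lib.Seat61.KummerNorm.eq_pow_mul_unit_of_isUnit_away (algebraMap R A ϖ) hπ0 f hf
  have : IsDomain (Localization.Away (algebraMap R A ϖ)) :=
    IsLocalization.isDomain_localization (powers_le_nonZeroDivisors_of_noZeroDivisors hπ0)
  set c := algebraMap A (Localization.Away (algebraMap R A ϖ)) f with hc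
  have hdeg : (Polynomial.X ^ m - Polynomial.C c).degree ≠ 0 := by
    rw [Polynomial.degree_X_pow_sub_C hm]
    exact_mod_cast hm.ne'
  have hinjS : Function.Injective
      (algebraMap A (AdjoinRoot (Polynomial.X ^ m - Polynomial.C c))) := by
    rw [IsScalarTower.algebraMap_eq A (Localization.Away (algebraMap R A ϖ))]
    exact (AdjoinRoot.of.injective_of_degree_ne_zero hdeg).comp
      (IsLocalization.injective _ (powers_le_nonZeroDivisors_of_noZeroDivisors hπ0))
  have hroot : (AdjoinRoot.root (Polynomial.X ^ m - Polynomial.C c)) ^ m =
      algebraMap A (AdjoinRoot (Polynomial.X ^ m - Polynomial.C c)) f := by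
    have h0 := AdjoinRoot.mk_self (f := Polynomial.X ^ m - Polynomial.C c)
    rw [map_sub, map_pow, AdjoinRoot.mk_X, AdjoinRoot.mk_C, sub_eq_zero] at h0
    rw [h0, IsScalarTower.algebraMap_apply A (Localization.Away (algebraMap R A ϖ))]
    rfl
  obtain ⟨q, hq⟩ := Groth.Agent.Lib.Seat61.KummerNorm.dvd_exponent_of_root_integralClosure
    hinjS (algebraMap R A ϖ) f hπ0 u k m hm hku _ hroot hsp
  exact ⟨q, u, by rw [← hq]; exact hku⟩

end Groth.Agent.S13155
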