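import Groth.Statements.S6845
import Mathlib
import Groth.Agent.Lib.Seat16RSpPull
import Groth.Agent.Lib.Helper26ModSec
-- import your own Groth.Agent.* helpers here
set_option backward.isDefEq.respectTransparency.types false
set_option linter.style.haveILetI false

set_option autoImplicit false
universe u
open CategoryTheory CategoryTheory.Limits TopologicalSpace
open ModSite

namespace Groth.Agent.S6845

section helpers

open Opposite Groth.Agent.Lib.Helper1.StalkTensor Groth.Agent.Lib.Helper1.Sky
open Groth.Agent.Lib.Seat93.RSpBase Groth.Agent.Lib.Seat16.RSpPull Groth.Agent.Lib.Helper26.ModSec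

variable {X Y : TopCat.{u}} (f : X ⟶ Y) (O_X : TopCat.Sheaf CommRingCat.{u} X)
    (O_Y : TopCat.Sheaf CommRingCat.{u} Y)
    (c : O_Y ⟶ ((TopologicalSpace.Opens.map f).sheafPushforwardContinuous CommRingCat.{u}
      (Opens.grothendieckTopology Y) (Opens.grothendieckTopology X)).obj O_X)

/-- pullback along a morphism with flat stalk maps preserves monomorphisms -/
theorem mono_pull_map (hflat : ∀ x : X, (stk f O_X O_Y c x).hom.Flat)
    {A B : ModSite.Mod O_Y} (a : A ⟶ B) [Mono a] : Mono ((ff f O_X O_Y c).pull.map a) := by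
  apply Groth.Agent.Lib.Seat93.RSpBase.mono_of_sm_injective
  intro x
  have sq : (stalkFun O_X x).map ((ff f O_X O_Y c).pull.map a) ≫
      (stalkPullbackIso f O_X O_Y c x).hom.app B =
      (stalkPullbackIso f O_X O_Y c x).hom.app A ≫
        (ModuleCat.extendScalars.{u, u, u} (stk f O_X O_Y c x).hom).map
          ((stalkFun O_Y (f x)).map a) :=
    (stalkPullbackIso f O_X O_Y c x).hom.naturality a
  have h1 : Mono ((stalkFun O_X x).map ((ff f O_X O_Y c).pull.map a)) := by
    rw [sq_mono_iff _ _ _ _ inferInstance inferInstance sq, ModuleCat.mono_iff_injective]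
    letI := (stk f O_X O_Y c x).hom.toAlgebra
    haveI : Module.Flat (Ox O_Y (f x)) (Ox O_X x) := hflat x
    exact Module.Flat.lTensor_preserves_injective_linearMap (M := Ox O_X x)
      ((stalkFun O_Y (f x)).map a).hom (Groth.Agent.Lib.Seat93.RSpBase.sm_injective_of_mono a (f x))
  exact (ModuleCat.mono_iff_injective _).1 h1

theorem isFlat_aux (hflat : ∀ x : X, (stk f O_X O_Y c x).hom.Flat) :
    ModSite.RMor.IsFlat (ff f O_X O_Y c) := by
  haveI : (ff f O_X O_Y c).pull.Additive := (ff f O_X O_Y c).adj.left_adjoint_additive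
  haveI : PreservesFiniteColimits (ff f O_X O_Y c).pull := by
    haveI : PreservesColimitsOfSize.{0, 0} (ff f O_X O_Y c).pull :=
      (ff f O_X O_Y c).adj.leftAdjoint_preservesColimits
    exact PreservesColimitsOfSize.preservesFiniteColimits _
  change PreservesFiniteLimits (ff f O_X O_Y c).pull
  rw [Functor.preservesFiniteLimits_iff_forall_exact_map_and_mono]
  intro S hS
  refine ⟨((Functor.preservesFiniteColimits_iff_forall_exact_map_and_epi
    (ff f O_X O_Y c).pull).1 inferInstance S hS).1, ?_⟩
  haveI := hS.mono_f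
  exact mono_pull_map f O_X O_Y c hflat S.f

end helpers

/-- Let f : (X, O_X) → (Y, O_Y) be a flat morphism of ringed spaces, i.e. for every x ∈ X the ring map
of stalks O_{Y, f(x)} → O_{X, x} is flat. In this situation, pulling back modules along f gives an
exact functor f^* from Mod(O_Y) to Mod(O_X) (it is a left adjoint, so the content is that it
preserves finite limits). -/
theorem result {X Y : TopCat.{u}} (f : X ⟶ Y) (O_X : TopCat.Sheaf CommRingCat.{u} X)
    (O_Y : TopCat.Sheaf CommRingCat.{u} Y)
    (c : O_Y ⟶ ((TopologicalSpace.Opens.map f).sheafPushforwardContinuous CommRingCat.{u}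
      (Opens.grothendieckTopology Y) (Opens.grothendieckTopology X)).obj O_X)
    (hflat : ∀ x : X, ((TopCat.Presheaf.stalkFunctor CommRingCat.{u} (f x)).map
        (show O_Y.presheaf ⟶ (TopCat.Presheaf.pushforward CommRingCat.{u} f).obj O_X.presheaf from c.hom) ≫
      TopCat.Presheaf.stalkPushforward CommRingCat.{u} f O_X.presheaf x).hom.Flat) :
    ModSite.RMor.IsFlat (ModSite.RMor.ofFlat (TopologicalSpace.Opens.map f) c) := by
  exact isFlat_aux f O_X O_Y c hflat

end Groth.Agent.S6845
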