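import Groth.Statements.S13371
import Groth.Agent.S13370
import Groth.Agent.Lib.Helper27GaGm

set_option autoImplicit false
universe u
open GaDual

namespace Groth.Agent.S13371

open CategoryTheory AlgebraicGeometry MonObj CartesianMonoidalCategory in
/-- If S is a reduced scheme, every homomorphism of S-group schemes from the additive group to the
multiplicative group over S is the trivial homomorphism. -/
theorem result (S : Scheme.{u}) [IsReduced S] (φ : Red.Ga S ⟶ Red.Gm S)
    [IsMonHom φ] : φ = 1 := by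
  apply Groth.Agent.Lib.Helper27.GaGm.gmFn_injective
  rw [Groth.Agent.Lib.Helper27.GaGm.gmFn_one]
  have hwu : IsUnit (Red.gmFn φ) := Groth.Agent.Lib.Helper27.GaGm.gmFn_isUnit φ
  let A : Over S := Over.mk (𝔸(PUnit.{u+1}; S) ↘ S)
  let b : A ⟶ Red.Ga S :=
    (Groth.Agent.Lib.Helper27.GaGm.gaEquiv A).symm (AffineSpace.coord S PUnit.unit)
  let a : (Red.Ga S).left ⟶ 𝔸(PUnit.{u+1}; S) :=
    AffineSpace.homOfVector (Red.Ga S).hom (fun _ => Red.gaFn (𝟙 (Red.Ga S)))
  have ha : a ≫ (𝔸(PUnit.{u+1}; S) ↘ S) = (Red.Ga S).hom := AffineSpace.homOfVector_over _ _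
  let a' : Red.Ga S ⟶ A := Over.homMk a ha
  have hab : a' ≫ b = 𝟙 _ := by
    apply Groth.Agent.Lib.Helper27.GaGm.gaFn_injective
    rw [Groth.Agent.Lib.Helper27.GaGm.gaFn_comp, Groth.Agent.Lib.Helper27.GaGm.gaFn_gaEquiv_symm]
    exact AffineSpace.homOfVector_appTop_coord _ _ _
  obtain ⟨v, hv, hvw⟩ := Groth.Agent.S13370.result PUnit.{u+1} S (b.left.appTop (Red.gmFn φ))
    (hwu.map _)
  have hab' : a ≫ b.left = 𝟙 _ := by
    have := congrArg (fun k => k.left) hab
    exact this
  have h1 : Red.gmFn φ = (Red.Ga S).hom.appTop v := by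
    have h3 : Red.gmFn φ = (a ≫ b.left).appTop (Red.gmFn φ) := by
      rw [hab']
      simp
    rw [h3, Scheme.Hom.comp_appTop, CommRingCat.comp_apply, ← hvw, ← CommRingCat.comp_apply,
      ← Scheme.Hom.comp_appTop, ha]
  have he : (η[Red.Ga S]).left ≫ (Red.Ga S).hom = 𝟙 S := by
    have := Over.w (η[Red.Ga S])
    simpa using this
  have h2 : v = 1 := by
    have h4 : (η[Red.Ga S]).left.appTop ((Red.Ga S).hom.appTop v) = v := by
      rw [← CommRingCat.comp_apply, ← Scheme.Hom.comp_appTop, he]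
      simp
    have h5 : (η[Red.Ga S]).left.appTop (Red.gmFn φ) = 1 := by
      have h7 : η[Red.Ga S] ≫ φ = η[Red.Gm S] := IsMonHom.one_hom (f := φ)
      have h6 : η[Red.Gm S] = (1 : _ ⟶ Red.Gm S) := by
        rw [Hom.one_def, toUnit_unit, Category.id_comp]
      rw [← Groth.Agent.Lib.Helper27.GaGm.gmFn_comp, h7, h6,
        Groth.Agent.Lib.Helper27.GaGm.gmFn_one]
    rw [← h4, ← h1, h5]
  rw [h1, h2, map_one]

end Groth.Agent.S13371
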