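import Groth.Statements.S13434
import Groth.Agent.Lib.Seat60TgtGraded

set_option autoImplicit false
universe u
open W4c1hilbpn

namespace Groth.Agent.S13434

open W4c1hilbpn in
/-- Let k be an infinite field, n ≥ 2, S the polynomial ring over k in n variables, I a monomial ideal
of S of finite colength and T(I) = Hom_S(I, S/I) with its grading by integer vectors. The graded
piece of T(I) in every multidegree all of whose entries are nonnegative, or all of whose entries are
negative, vanishes, and T(I) is spanned by its pieces of non-constant sign pattern (the spans, over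
the sets N of variable indices that are neither empty nor all indices, of the graded pieces whose
multidegree is negative exactly at N). -/
theorem result (k : Type u) [Field k] [Infinite k]
    (n : ℕ) (hn : 2 ≤ n) (I : Ideal (MvPolynomial (Fin n) k)) (hI : IsMonomial I)
    [Module.Finite k (MvPolynomial (Fin n) k ⧸ I)] :
    (∀ α : Fin n → ℤ, ((∀ i, 0 ≤ α i) ∨ (∀ i, α i < 0)) → tPiece I α = ⊥) ∧
      (⨆ N : {N : Set (Fin n) // N.Nonempty ∧ N ≠ Set.univ}, sigPiece I N.1) = ⊤ := by
  haveI : Nontrivial (Fin n) := Fin.nontrivial_iff_two_le.mpr hn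
  have hvan : ∀ α : Fin n → ℤ, ((∀ i, 0 ≤ α i) ∨ (∀ i, α i < 0)) → tPiece I α = ⊥ := by
    intro α hα
    rcases hα with h | h
    · exact Groth.Agent.Lib.Seat60.TgtBasic.tPiece_eq_bot_of_nonneg hI α h
    · exact Groth.Agent.Lib.Seat60.TgtBasic.tPiece_eq_bot_of_neg hI h
  refine ⟨hvan, ?_⟩
  rw [eq_top_iff, ← Groth.Agent.Lib.Seat60.TgtGraded.iSup_tPiece_eq_top hI]
  apply iSup_le
  intro α
  by_cases hα : (∀ i, 0 ≤ α i) ∨ (∀ i, α i < 0)
  · rw [hvan α hα]
    exact bot_le
  · push Not at hα
    obtain ⟨⟨i, hi⟩, ⟨j, hj⟩⟩ := hα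
    have hN : ({l | α l < 0} : Set (Fin n)).Nonempty ∧ ({l | α l < 0} : Set (Fin n)) ≠ Set.univ := by
      refine ⟨⟨i, hi⟩, fun h => ?_⟩
      have : j ∈ ({l | α l < 0} : Set (Fin n)) := h ▸ Set.mem_univ j
      exact absurd this (not_lt.mpr hj)
    refine le_trans ?_ (le_iSup (fun N : {N : Set (Fin n) // N.Nonempty ∧ N ≠ Set.univ} =>
      sigPiece I N.1) ⟨{l | α l < 0}, hN⟩)
    unfold sigPiece
    exact le_iSup (fun α' : {α' : Fin n → ℤ // ∀ i, α' i < 0 ↔ i ∈ ({l | α l < 0} : Set (Fin n))} =>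
      tPiece I α'.1) ⟨α, fun i => Iff.rfl⟩

end Groth.Agent.S13434
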