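import Groth.Statements.S13438
import Groth.Agent.Lib.Seat60TgtXY6

set_option autoImplicit false
universe u
open W4c1hilbpn

namespace Groth.Agent.S13438

open W4c1hilbpn in
/-- Let k be an infinite field, S = k[x,y,z], and T(I) = Hom_S(I, S/I) graded by triples of integers (a
graded piece is indexed by its multidegree; its sign pattern records which of the three entries are
negative); let I be a monomial ideal of finite colength whose minimal monomial generators include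
x^a1 y^a2, x^b1 z^b3 and y^c2 z^c3 with all six exponents positive, and assume a1 ≥ b1 and a2 ≥ c2,
or b1 ≥ a1 and b3 ≥ c3, or c2 ≥ a2 and c3 ≥ b3. Then T(I) has a nonzero graded piece whose sign
pattern is negative at exactly two of the three variables. (The published statement draws the
conclusion that the corresponding point of the Hilbert scheme of points of affine 3-space is
singular; this row records the nonvanishing of a tangent piece of forbidden sign pattern, from which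
singularity follows by the smoothness criterion for monomial points.) -/
theorem result (k : Type u) [Field k] [Infinite k]
    (I : Ideal (MvPolynomial (Fin 3) k)) (hI : IsMonomial I) [Module.Finite k (MvPolynomial (Fin 3) k ⧸ I)]
    (a1 a2 b1 b3 c2 c3 : ℕ) (ha1 : 0 < a1) (ha2 : 0 < a2) (hb1 : 0 < b1) (hb3 : 0 < b3)
    (hc2 : 0 < c2) (hc3 : 0 < c3)
    (hA : e3 a1 a2 0 ∈ exps I ∧ e3 (a1 - 1) a2 0 ∉ exps I ∧ e3 a1 (a2 - 1) 0 ∉ exps I)
    (hB : e3 b1 0 b3 ∈ exps I ∧ e3 (b1 - 1) 0 b3 ∉ exps I ∧ e3 b1 0 (b3 - 1) ∉ exps I)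
    (hC : e3 0 c2 c3 ∈ exps I ∧ e3 0 (c2 - 1) c3 ∉ exps I ∧ e3 0 c2 (c3 - 1) ∉ exps I)
    (hcase : (b1 ≤ a1 ∧ c2 ≤ a2) ∨ (a1 ≤ b1 ∧ c3 ≤ b3) ∨ (a2 ≤ c2 ∧ b3 ≤ c3)) :
    sigPiece I ({0, 1} : Set (Fin 3)) ≠ ⊥ ∨ sigPiece I ({0, 2} : Set (Fin 3)) ≠ ⊥ ∨
      sigPiece I ({1, 2} : Set (Fin 3)) ≠ ⊥ := by
  open Groth.Agent.Lib.Seat60.Stair Groth.Agent.Lib.Seat60.TgtXY in
  rcases hcase with ⟨h1, h2⟩ | ⟨h1, h2⟩ | ⟨h1, h2⟩
  · left
    rw [set_compl_two]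
    have e1 := (mem_e3_iff_two hI a1 a2 0).mp hA.1
    have e2 : ¬ (hst I 2 (a1 - 1) a2 ≤ 0) := fun h => hA.2.1 ((mem_e3_iff_two hI (a1 - 1) a2 0).mpr h)
    have e3' : ¬ (hst I 2 a1 (a2 - 1) ≤ 0) := fun h => hA.2.2 ((mem_e3_iff_two hI a1 (a2 - 1) 0).mpr h)
    have f1 := (mem_e3_iff_two hI b1 0 b3).mp hB.1
    have f2 : ¬ (hst I 2 (b1 - 1) 0 ≤ b3) := fun h => hB.2.1 ((mem_e3_iff_two hI (b1 - 1) 0 b3).mpr h)
    have g1 := (mem_e3_iff_two hI 0 c2 c3).mp hC.1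
    have g2 : ¬ (hst I 2 0 (c2 - 1) ≤ c3) := fun h => hC.2.1 ((mem_e3_iff_two hI 0 (c2 - 1) c3).mpr h)
    have m1 := hst_le_zero hI 2 (b1 - 1) 0
    have m2 := hst_le_zero hI 2 0 (c2 - 1)
    exact sigPiece_compl_ne_bot hI 2 a1 a2 b1 c2 ha1 ha2 (by omega) (by omega) (by omega)
      (by omega) (by omega) h1 h2
  · right; left
    rw [set_compl_one]
    have e1 := (mem_e3_iff_one hI b1 0 b3).mp hB.1
    have e2 : ¬ (hst I 1 (b1 - 1) b3 ≤ 0) := fun h => hB.2.1 ((mem_e3_iff_one hI (b1 - 1) 0 b3).mpr h)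
    have e3' : ¬ (hst I 1 b1 (b3 - 1) ≤ 0) := fun h => hB.2.2 ((mem_e3_iff_one hI b1 0 (b3 - 1)).mpr h)
    have f1 := (mem_e3_iff_one hI a1 a2 0).mp hA.1
    have f2 : ¬ (hst I 1 (a1 - 1) 0 ≤ a2) := fun h => hA.2.1 ((mem_e3_iff_one hI (a1 - 1) a2 0).mpr h)
    have g1 := (mem_e3_iff_one hI 0 c2 c3).mp hC.1
    have g2 : ¬ (hst I 1 0 (c3 - 1) ≤ c2) := fun h => hC.2.2 ((mem_e3_iff_one hI 0 c2 (c3 - 1)).mpr h)
    have m1 := hst_le_zero hI 1 (a1 - 1) 0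
    have m2 := hst_le_zero hI 1 0 (c3 - 1)
    exact sigPiece_compl_ne_bot hI 1 b1 b3 a1 c3 hb1 hb3 (by omega) (by omega) (by omega)
      (by omega) (by omega) h1 h2
  · right; right
    rw [set_compl_zero]
    have e1 := (mem_e3_iff_zero hI 0 c2 c3).mp hC.1
    have e2 : ¬ (hst I 0 (c2 - 1) c3 ≤ 0) := fun h => hC.2.1 ((mem_e3_iff_zero hI 0 (c2 - 1) c3).mpr h)
    have e3' : ¬ (hst I 0 c2 (c3 - 1) ≤ 0) := fun h => hC.2.2 ((mem_e3_iff_zero hI 0 c2 (c3 - 1)).mpr h)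
    have f1 := (mem_e3_iff_zero hI a1 a2 0).mp hA.1
    have f2 : ¬ (hst I 0 (a2 - 1) 0 ≤ a1) := fun h => hA.2.2 ((mem_e3_iff_zero hI a1 (a2 - 1) 0).mpr h)
    have g1 := (mem_e3_iff_zero hI b1 0 b3).mp hB.1
    have g2 : ¬ (hst I 0 0 (b3 - 1) ≤ b1) := fun h => hB.2.2 ((mem_e3_iff_zero hI b1 0 (b3 - 1)).mpr h)
    have m1 := hst_le_zero hI 0 (a2 - 1) 0
    have m2 := hst_le_zero hI 0 0 (b3 - 1)
    exact sigPiece_compl_ne_bot hI 0 c2 c3 a2 b3 hc2 hc3 (by omega) (by omega) (by omega)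
      (by omega) (by omega) h1 h2

end Groth.Agent.S13438
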