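import Groth.Statements.S13439
import Groth.Agent.Lib.Seat60TgtXY6
import Groth.Agent.Lib.Seat60TgtTwoNeg

set_option autoImplicit false
universe u
open W4c1hilbpn

namespace Groth.Agent.S13439

open W4c1hilbpn in
/-- Let k be an infinite field, S = k[x,y,z], and T(I) = Hom_S(I, S/I) graded by triples of integers (a
graded piece is indexed by its multidegree; its sign pattern records which of the three entries are
negative); let I be a strongly stable ideal of finite colength (variables ordered x > y > z). Then x
lies in I if and only if the three graded pieces of T(I) whose sign pattern is negative at exactly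
two of the three variables all vanish. (The published statement phrases the right-hand side as
smoothness of the corresponding point of the Hilbert scheme of points of affine 3-space, which for a
monomial point is equivalent to this vanishing; the row records the vanishing condition, which is
what the argument establishes.) -/
theorem result (k : Type u) [Field k] [Infinite k]
    (I : Ideal (MvPolynomial (Fin 3) k)) (hI : IsStronglyStable I) [Module.Finite k (MvPolynomial (Fin 3) k ⧸ I)] :
    (MvPolynomial.X 0 : MvPolynomial (Fin 3) k) ∈ I ↔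
      (sigPiece I ({1, 2} : Set (Fin 3)) = ⊥ ∧ sigPiece I ({0, 2} : Set (Fin 3)) = ⊥ ∧
        sigPiece I ({0, 1} : Set (Fin 3)) = ⊥) := by
  open Groth.Agent.Lib.Seat60.Stair Groth.Agent.Lib.Seat60.TgtXY Groth.Agent.Lib.Seat60.TwoNeg
    Groth.Agent.Lib.Helper24TgtPiece Groth.Agent.Lib.Helper20 in
  constructor
  · intro hx
    have h0 : Finsupp.single (0 : Fin 3) 1 ∈ exps I := hx
    refine ⟨?_, ?_, ?_⟩
    · unfold sigPiece
      rw [iSup_eq_bot]
      rintro ⟨α, hα⟩
      have h1 : α 1 < 0 := (hα 1).mpr (by simp)
      have h2 : α 2 < 0 := (hα 2).mpr (by simp)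
      have h3 : ¬ α 0 < 0 := fun h => by
        have := (hα 0).mp h
        simp at this
      by_cases h4 : α 0 = 0
      · apply tPiece_eq_bot_of_nonpos hI.1 _ (i := 1) (j := 2) (by decide) h1 h2
        intro l
        fin_cases l
        · exact le_of_eq h4
        · exact le_of_lt h1
        · exact le_of_lt h2
      · exact tPiece_eq_bot_of_single_mem hI.1 h0 (l := 1) (by decide) h1 h4
    · unfold sigPiece
      rw [iSup_eq_bot]
      rintro ⟨α, hα⟩
      have h1 : α 0 < 0 := (hα 0).mpr (by simp)
      have h2 : α 2 < 0 := (hα 2).mpr (by simp)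
      exact tPiece_eq_bot_of_single_mem hI.1 h0 (l := 2) (by decide) h2 (ne_of_lt h1)
    · unfold sigPiece
      rw [iSup_eq_bot]
      rintro ⟨α, hα⟩
      have h1 : α 0 < 0 := (hα 0).mpr (by simp)
      have h2 : α 1 < 0 := (hα 1).mpr (by simp)
      exact tPiece_eq_bot_of_single_mem hI.1 h0 (l := 1) (by decide) h2 (ne_of_lt h1)
  · rintro ⟨_, _, h01⟩
    by_contra hx
    have hx' : e3 1 0 0 ∉ exps I := by
      intro hmem
      apply hx
      have e : e3 1 0 0 = Finsupp.single (0 : Fin 3) 1 := by
        apply e3_ext
        · rw [e3_zero]; simp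
        · rw [e3_one]; simp
        · rw [e3_two]; simp
      rw [e] at hmem
      exact hmem
    have hmono := hI.1
    -- the height of the staircase at the origin
    have hr1 : 1 ≤ hst I 2 0 0 := by
      by_contra hcon
      apply hx'
      have h0 : e3 0 0 0 ∈ exps I := (mem_e3_iff_two hmono 0 0 0).mpr (by omega)
      have := exps_add h0 (e3 1 0 0)
      have e : e3 0 0 0 + e3 1 0 0 = e3 1 0 0 := by
        apply e3_ext <;> simp [e3_zero, e3_one, e3_two]
      rw [e] at this
      exact this
    have htop : e3 0 0 (hst I 2 0 0) ∈ exps I := (mem_e3_iff_two hmono 0 0 _).mpr le_rfl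
    have hB : hst I 2 1 0 < hst I 2 0 0 := by
      have h1 := hI.2 _ htop 0 2 (by decide) (by rw [e3_two]; omega)
      have e : e3 0 0 (hst I 2 0 0) - Finsupp.single 2 1 + Finsupp.single 0 1 =
          e3 1 0 (hst I 2 0 0 - 1) := by
        apply e3_ext <;> simp [e3_zero, e3_one, e3_two]
      rw [e] at h1
      have := (mem_e3_iff_two hmono 1 0 _).mp h1
      omega
    have hC : hst I 2 0 1 < hst I 2 0 0 := by
      have h1 := hI.2 _ htop 1 2 (by decide) (by rw [e3_two]; omega)
      have e : e3 0 0 (hst I 2 0 0) - Finsupp.single 2 1 + Finsupp.single 1 1 =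
          e3 0 1 (hst I 2 0 0 - 1) := by
        apply e3_ext <;> simp [e3_zero, e3_one, e3_two]
      rw [e] at h1
      have := (mem_e3_iff_two hmono 0 1 _).mp h1
      omega
    -- the corner on the line `x = 1`
    obtain ⟨M, hM⟩ := hst_bdd hmono 2
    have hex : ∃ j, hst I 2 1 j = 0 := ⟨M, hM 1 M (Or.inr le_rfl)⟩
    classical
    have ha2s : hst I 2 1 (Nat.find hex) = 0 := Nat.find_spec hex
    have h10 : hst I 2 1 0 ≠ 0 := by
      intro h0
      apply hx'
      exact (mem_e3_iff_two hmono 1 0 0).mpr (by omega)
    have ha2 : 1 ≤ Nat.find hex := by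
      by_contra hcon
      have : Nat.find hex = 0 := by omega
      rw [this] at ha2s
      exact h10 ha2s
    have hA2 : 1 ≤ hst I 2 1 (Nat.find hex - 1) := by
      have := Nat.find_min hex (m := Nat.find hex - 1) (by omega)
      omega
    have hA1 : 1 ≤ hst I 2 (1 - 1) (Nat.find hex) := by
      by_contra hcon
      have h0 : e3 0 (Nat.find hex) 0 ∈ exps I := (mem_e3_iff_two hmono _ _ 0).mpr (by
        have : (1 : ℕ) - 1 = 0 := rfl
        rw [this] at hcon
        omega)
      have h1 := hI.2 _ h0 0 1 (by decide) (by rw [e3_one]; omega)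
      have e : e3 0 (Nat.find hex) 0 - Finsupp.single 1 1 + Finsupp.single 0 1 =
          e3 1 (Nat.find hex - 1) 0 := by
        apply e3_ext <;> simp [e3_zero, e3_one, e3_two]
      rw [e] at h1
      have := (mem_e3_iff_two hmono _ _ 0).mp h1
      omega
    have := sigPiece_compl_ne_bot hmono 2 1 (Nat.find hex) 1 1 le_rfl ha2 ha2s hA1 hA2 hB hC
      le_rfl ha2
    rw [← set_compl_two] at this
    exact this h01

end Groth.Agent.S13439
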