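import Groth.Statements.S13440
import Groth.Agent.Lib.Seat60TgtXY5

set_option autoImplicit false
universe u
open W4c1hilbpn

namespace Groth.Agent.S13440

open W4c1hilbpn in
/-- Let k be an infinite field, S = k[x,y,z], and T(I) = Hom_S(I, S/I) graded by triples of integers (a
graded piece is indexed by its multidegree; its sign pattern records which of the three entries are
negative); let I be a monomial ideal of finite colength with staircase numbers b_{i,j} = the number
of c with x^i y^j z^c outside I. For all natural numbers a1, a2, the span of the graded pieces of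
T(I) of multidegrees (a1, a2, c) with c < 0 has dimension at most the sum, over all i ≥ a1 and j ≥
a2, of b_{i,j} - max(b_{i+1,j}, b_{i,j+1}) (a sum with finitely many nonzero terms). -/
theorem result (k : Type u) [Field k] [Infinite k]
    (I : Ideal (MvPolynomial (Fin 3) k)) (hI : IsMonomial I) [Module.Finite k (MvPolynomial (Fin 3) k ⧸ I)] (a1 a2 : ℕ) :
    Module.finrank k ↥(⨆ α : {α : Fin 3 → ℤ // α 0 = (a1 : ℤ) ∧ α 1 = (a2 : ℤ) ∧ α 2 < 0}, tPiece I α.1) ≤
      ∑ᶠ p : ℕ × ℕ, (if a1 ≤ p.1 ∧ a2 ≤ p.2
        then stairZ I p.1 p.2 - max (stairZ I (p.1 + 1) p.2) (stairZ I p.1 (p.2 + 1)) else 0) := by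
  classical
  obtain ⟨M, hM⟩ := Groth.Agent.Lib.Seat60.Stair.hst_bdd hI 2
  have hM' : ∀ y z, M ≤ y ∨ M ≤ z → stairZ I y z = 0 := by
    intro y z hyz
    rw [← Groth.Agent.Lib.Seat60.Stair.hst_two]
    exact hM y z hyz
  have hle := Groth.Agent.Lib.Seat60.TgtXY.finrank_iSup_alpha_neg_le hI 2 a1 a2 M hM
  refine le_trans hle (le_of_eq ?_)
  rw [finsum_eq_sum_of_support_subset _ (s := (Finset.range M ×ˢ Finset.range M).image
    (fun q : ℕ × ℕ => (q.1 + a1, q.2 + a2)))]
  · rw [Finset.sum_image]
    · apply Finset.sum_congr rfl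
      intro q _
      rw [if_pos ⟨Nat.le_add_left _ _, Nat.le_add_left _ _⟩]
      unfold Groth.Agent.Lib.Seat60.TgtXY.gg
      simp only [Groth.Agent.Lib.Seat60.Stair.hst_two]
      rw [add_right_comm q.1 1 a1, add_right_comm q.2 1 a2]
    · intro q _ q' _ h
      have h1 := congrArg Prod.fst h
      have h2 := congrArg Prod.snd h
      simp only [add_left_inj] at h1 h2
      exact Prod.ext h1 h2
  · intro p hp
    rw [Function.mem_support] at hp
    by_cases hc : a1 ≤ p.1 ∧ a2 ≤ p.2
    · rw [if_pos hc] at hp
      have hne : stairZ I p.1 p.2 ≠ 0 := by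
        intro h0
        apply hp
        rw [h0, Nat.zero_sub]
      have h1 : p.1 < M := by
        by_contra hcon
        exact hne (hM' _ _ (Or.inl (not_lt.mp hcon)))
      have h2 : p.2 < M := by
        by_contra hcon
        exact hne (hM' _ _ (Or.inr (not_lt.mp hcon)))
      rw [Finset.coe_image, Set.mem_image]
      refine ⟨(p.1 - a1, p.2 - a2), ?_, ?_⟩
      · rw [Finset.mem_coe, Finset.mem_product, Finset.mem_range, Finset.mem_range]
        constructor <;> simp only <;> omega
      · apply Prod.ext <;> simp only <;> omega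
    · rw [if_neg hc] at hp
      exact absurd rfl hp

end Groth.Agent.S13440
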