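import Groth.Statements.S13443
import Groth.Agent.Lib.Seat60Stable4
import Groth.Agent.Lib.Seat60TgtXY4
import Groth.Agent.Lib.Seat60TgtXY6
import Groth.Agent.Lib.Seat60TgtPow3

set_option autoImplicit false
universe u
open W4c1hilbpn

namespace Groth.Agent.S13443

open Groth.Agent.Lib.Seat60.Stable Groth.Agent.Lib.Seat60.Stair Groth.Agent.Lib.Seat60.Slice
  Groth.Agent.Lib.Seat60.TgtPow Groth.Agent.Lib.Seat60.TgtXY MvPolynomial in
/-- the two one-negative sign pieces (at `y` and at `z`) of a strongly stable ideal -/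
theorem single_bound {k : Type u} [Field k] (r : ℕ)
    (I : Ideal (MvPolynomial (Fin 3) k)) (hI : IsStronglyStable I)
    [Module.Finite k (MvPolynomial (Fin 3) k ⧸ I)]
    (hd : Module.finrank k (MvPolynomial (Fin 3) k ⧸ I) = Nat.choose (r + 2) 3) :
    (Module.finrank k ↥(sigPiece I ({2} : Set (Fin 3))) ≤ Nat.choose (r + 3) 4 ∧
      (Module.finrank k ↥(sigPiece I ({2} : Set (Fin 3))) = Nat.choose (r + 3) 4 ↔
        I = mpow (Fin 3) k r)) ∧
    (Module.finrank k ↥(sigPiece I ({1} : Set (Fin 3))) ≤ Nat.choose (r + 3) 4 ∧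
      (Module.finrank k ↥(sigPiece I ({1} : Set (Fin 3))) = Nat.choose (r + 3) 4 ↔
        I = mpow (Fin 3) k r)) := by
  obtain ⟨M2, hM2'⟩ := hst_bdd hI.1 2
  obtain ⟨M1, hM1'⟩ := hst_bdd hI.1 1
  set M := max (max M2 M1) r with hMdef
  have hrM : r ≤ M := le_max_right _ _
  have hM2M : M2 ≤ M := (le_max_left _ _).trans (le_max_left _ _)
  have hM1M : M1 ≤ M := (le_max_right _ _).trans (le_max_left _ _)
  have hM2 : ∀ a b, M ≤ a ∨ M ≤ b → hst I 2 a b = 0 := fun a b h =>
    hM2' a b (h.imp (fun h => hM2M.trans h) (fun h => hM2M.trans h))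
  have hM1 : ∀ a b, M ≤ a ∨ M ≤ b → hst I 1 a b = 0 := fun a b h =>
    hM1' a b (h.imp (fun h => hM1M.trans h) (fun h => hM1M.trans h))
  obtain ⟨W1, W2⟩ := weighted_slices hI r hd.le M hrM hM2
  have B2 := finrank_sigPiece_single_le hI.1 2 (hst_stab_xy hI) M hM2
  have B1 := finrank_sigPiece_single_le hI.1 1 (hst_stab_one hI) M hM1
  have hconv : ∀ x, ∑ t ∈ Finset.range M, hst I 1 x t = ∑ b ∈ Finset.range M, hst I 2 x b := by
    intro x
    rw [← finrank_sliceX_one hI.1 x M (fun t ht => hM1 x t (Or.inr ht)),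
      finrank_sliceX I hI.1 x M (fun b hb => hM2 x b (Or.inr hb))]
  simp only [hconv] at B1
  refine ⟨⟨B2.trans W1, ⟨fun h => W2 (le_antisymm W1 (h ▸ B2)), fun h => ?_⟩⟩,
    ⟨B1.trans W1, ⟨fun h => W2 (le_antisymm W1 (h ▸ B1)), fun h => ?_⟩⟩⟩
  · subst h
    exact Groth.Agent.Lib.Seat60.TgtPow3.finrank_sigPiece_single r 2
  · subst h
    exact Groth.Agent.Lib.Seat60.TgtPow3.finrank_sigPiece_single r 1

open W4c1hilbpn in
/-- Let k be an infinite field, S = k[x,y,z], and T(I) = Hom_S(I, S/I) graded by triples of integers (a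
graded piece is indexed by its multidegree; its sign pattern records which of the three entries are
negative), variables ordered x > y > z; let m = (x,y,z), r a natural number and I a strongly stable
ideal of colength C(r+2, 3) = dim S/m^r. Then the spans of the graded pieces of T(I) negative
exactly at z, resp. exactly at y, have dimension at most C(r+3, 4), the spans of those negative
exactly at x and y, resp. exactly at x and z, have dimension at most C(r+2, 4) (these are the
corresponding dimensions for m^r), and in each of the four cases equality holds if and only if I =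
m^r. (The published statement assumes the ideal Borel-fixed over a field of characteristic zero,
which for monomial ideals means strongly stable; the argument uses only strong stability, and the
row is stated in that form.) -/
theorem result (k : Type u) [Field k] [Infinite k] (r : ℕ)
    (I : Ideal (MvPolynomial (Fin 3) k)) (hI : IsStronglyStable I) [Module.Finite k (MvPolynomial (Fin 3) k ⧸ I)]
    (hd : Module.finrank k (MvPolynomial (Fin 3) k ⧸ I) = Nat.choose (r + 2) 3) :
    (Module.finrank k ↥(sigPiece I ({2} : Set (Fin 3))) ≤ Nat.choose (r + 3) 4 ∧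
      (Module.finrank k ↥(sigPiece I ({2} : Set (Fin 3))) = Nat.choose (r + 3) 4 ↔ I = (Ideal.span (Set.range (MvPolynomial.X : Fin 3 → MvPolynomial (Fin 3) k))) ^ r)) ∧
    (Module.finrank k ↥(sigPiece I ({1} : Set (Fin 3))) ≤ Nat.choose (r + 3) 4 ∧
      (Module.finrank k ↥(sigPiece I ({1} : Set (Fin 3))) = Nat.choose (r + 3) 4 ↔ I = (Ideal.span (Set.range (MvPolynomial.X : Fin 3 → MvPolynomial (Fin 3) k))) ^ r)) ∧
    (Module.finrank k ↥(sigPiece I ({0, 1} : Set (Fin 3))) ≤ Nat.choose (r + 2) 4 ∧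
      (Module.finrank k ↥(sigPiece I ({0, 1} : Set (Fin 3))) = Nat.choose (r + 2) 4 ↔ I = (Ideal.span (Set.range (MvPolynomial.X : Fin 3 → MvPolynomial (Fin 3) k))) ^ r)) ∧
    (Module.finrank k ↥(sigPiece I ({0, 2} : Set (Fin 3))) ≤ Nat.choose (r + 2) 4 ∧
      (Module.finrank k ↥(sigPiece I ({0, 2} : Set (Fin 3))) = Nat.choose (r + 2) 4 ↔ I = (Ideal.span (Set.range (MvPolynomial.X : Fin 3 → MvPolynomial (Fin 3) k))) ^ r)) := by
  have hmp : (Ideal.span (Set.range (MvPolynomial.X : Fin 3 → MvPolynomial (Fin 3) k))) ^ r =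
      Groth.Agent.Lib.Seat60.TgtPow.mpow (Fin 3) k r := rfl
  obtain ⟨⟨A2, E2⟩, ⟨A1, E1⟩⟩ := single_bound r I hI hd
  have P2 := Groth.Agent.Lib.Seat60.TgtXY.finrank_sigPiece_single_eq_add hI.1 (2 : Fin 3)
  have P1 := Groth.Agent.Lib.Seat60.TgtXY.finrank_sigPiece_single_eq_add hI.1 (1 : Fin 3)
  rw [hd] at P2 P1
  have hpascal : Nat.choose (r + 3) 4 = Nat.choose (r + 2) 3 + Nat.choose (r + 2) 4 :=
    Nat.choose_succ_succ' (r + 2) 3
  rw [Groth.Agent.Lib.Seat60.Stair.set_compl_two, Groth.Agent.Lib.Seat60.Stair.set_compl_one, hmp]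
  refine ⟨⟨A2, E2⟩, ⟨A1, E1⟩, ⟨by omega, ?_⟩, ⟨by omega, ?_⟩⟩
  · rw [← E2]; omega
  · rw [← E1]; omega

end Groth.Agent.S13443
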