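import Groth.Statements.S13446
import Groth.Agent.Lib.Seat60TgtBound

set_option autoImplicit false
universe u
open W4c1hilbpn

namespace Groth.Agent.S13446

open W4c1hilbpn in
/-- Let k be an infinite field, S = k[x,y,z] with irrelevant ideal m, and d, r, p natural numbers with d
≤ C(r+2, 3) and 4p ≤ 3r + 1. For every monomial ideal I of S of colength d containing x^p, the
dimension of Hom_S(I, S/I) is at most that of Hom_S(m^r, S/m^r). -/
theorem result (k : Type u) [Field k] [Infinite k] (d r p : ℕ)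
    (hdr : d ≤ Nat.choose (r + 2) 3) (hp : 4 * p ≤ 3 * r + 1) (I : Ideal (MvPolynomial (Fin 3) k)) (hI : IsMonomial I)
    [Module.Finite k (MvPolynomial (Fin 3) k ⧸ I)] (hd : Module.finrank k (MvPolynomial (Fin 3) k ⧸ I) = d)
    (hx : (MvPolynomial.X 0 : MvPolynomial (Fin 3) k) ^ p ∈ I) :
    Module.finrank k (Tgt I) ≤ Module.finrank k (Tgt ((Ideal.span (Set.range (MvPolynomial.X : Fin 3 → MvPolynomial (Fin 3) k))) ^ r)) := by
  have hmp : (Ideal.span (Set.range (MvPolynomial.X : Fin 3 → MvPolynomial (Fin 3) k))) ^ r =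
      Groth.Agent.Lib.Seat60.TgtPow.mpow (Fin 3) k r := rfl
  rw [hmp, (Groth.Agent.Lib.Seat60.TgtPow3.finrank_mpow3 (k := k) r 0).2.2]
  refine le_trans (Groth.Agent.Lib.Seat60.Bound.finrank_Tgt_le_of_X_pow_mem hI p hx) ?_
  rw [hd]
  have h1 : (r + 2) * Nat.choose (r + 1) 2 = Nat.choose (r + 2) 3 * 3 :=
    Nat.add_one_mul_choose_eq (r + 1) 2
  have h2 : (r + 2) * Nat.choose (r + 1) 1 = Nat.choose (r + 2) 2 * 2 :=
    Nat.add_one_mul_choose_eq (r + 1) 1
  rw [Nat.choose_one_right] at h2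
  -- `2 * C(r+2,2) * C(r+1,2) = 3 (r+1) C(r+2,3)`
  have h3 : 2 * (Nat.choose (r + 2) 2 * Nat.choose (r + 1) 2) =
      (3 * r + 3) * Nat.choose (r + 2) 3 := by
    calc 2 * (Nat.choose (r + 2) 2 * Nat.choose (r + 1) 2)
        = (Nat.choose (r + 2) 2 * 2) * Nat.choose (r + 1) 2 := by ring
      _ = (r + 2) * (r + 1) * Nat.choose (r + 1) 2 := by rw [← h2]
      _ = (r + 1) * ((r + 2) * Nat.choose (r + 1) 2) := by ring
      _ = (r + 1) * (Nat.choose (r + 2) 3 * 3) := by rw [h1]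
      _ = (3 * r + 3) * Nat.choose (r + 2) 3 := by ring
  have h4 : 2 * ((2 * p + 1) * d) ≤ (3 * r + 3) * Nat.choose (r + 2) 3 := by
    calc 2 * ((2 * p + 1) * d) = (4 * p + 2) * d := by ring
      _ ≤ (3 * r + 3) * d := Nat.mul_le_mul_right _ (by omega)
      _ ≤ (3 * r + 3) * Nat.choose (r + 2) 3 := Nat.mul_le_mul_left _ hdr
  omega

end Groth.Agent.S13446
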