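import Groth.Statements.S13447
import Groth.Agent.Lib.Seat60S13447g

set_option autoImplicit false
universe u
open W4c1hilbpn

namespace Groth.Agent.S13447

open W4c1hilbpn in
/-- Let k be a field and S = k[x_0, ..., x_n] with its standard grading; for an ideal I write Hom_S(I,
S/I)_0 for the degree-0 homomorphisms (for a monomial ideal: the span of the multigraded pieces
whose multidegree has entry sum 0). Let n ≥ 4, q ≥ 1 and r be natural numbers with r + 3 ≤ n and
either r ≥ 2, or r = 1 and q ≥ 3, and let I = x_0·(x_0, ..., x_{n-1}) + x_1^q·(x_1, ..., x_{n-r-1}).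
Then Hom_S(I, S/I)_0 has dimension 3n - 1 + (n-r-2)(r+1) + C(n+q-1, n-1). (The published statement
gives this as the dimension of the tangent space to the Hilbert scheme at the point I, identified
with Hom_S(I, S/I)_0 through the comparison of graded pieces with global sections; the row records
the dimension count itself. The published statement also assumes r + 3 ≤ n, through its standing
conventions; for r = n − 2 the count is different.) -/
theorem result (k : Type u) [Field k] (n q r : ℕ) (hn : 4 ≤ n)
    (hq : 1 ≤ q) (hr : r + 3 ≤ n) (hcase : 2 ≤ r ∨ (r = 1 ∧ 3 ≤ q)) :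
    Module.finrank k ↥(⨆ α : {α : Fin (n + 1) → ℤ // ∑ i, α i = 0}, tPiece (Ideal.span ({f : MvPolynomial (Fin (n + 1)) k | ∃ i : Fin (n + 1), i.val + 1 ≤ n ∧ f = MvPolynomial.X 0 * MvPolynomial.X i} ∪ {f : MvPolynomial (Fin (n + 1)) k | ∃ i : Fin (n + 1), 1 ≤ i.val ∧ i.val ≤ n - r - 1 ∧ f = MvPolynomial.X 1 ^ q * MvPolynomial.X i})) α.1) =
      3 * n - 1 + (n - r - 2) * (r + 1) + Nat.choose (n + q - 1) (n - 1) := by
  have v1 : ((1 : Fin (n + 1)) : ℕ) = 1 := by
    rw [Fin.val_one']
    exact Nat.mod_eq_of_lt (by omega)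
  have hr1 : 1 ≤ r := by omega
  have hne : ∀ {x y : Fin (n + 1)}, x.val ≠ y.val → x ≠ y := fun h h' => h (congrArg Fin.val h')
  have h01 : (0 : Fin (n + 1)) ≠ 1 := hne (by rw [Fin.val_zero, v1]; omega)
  have h0t : (0 : Fin (n + 1)) ≠ Fin.last n := hne (by rw [Fin.val_zero, Fin.val_last]; omega)
  have h1t : (1 : Fin (n + 1)) ≠ Fin.last n := hne (by rw [v1, Fin.val_last]; omega)
  obtain ⟨R, hRdef⟩ : ∃ R : Fin (n + 1) → Prop, ∀ l, R l ↔ (n - r ≤ l.val ∧ l.val ≤ n - 1) :=
    ⟨fun l => n - r ≤ l.val ∧ l.val ≤ n - 1, fun l => Iff.rfl⟩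
  have hR0 : ¬ R (0 : Fin (n + 1)) := by
    rw [hRdef, Fin.val_zero]; omega
  have hR1 : ¬ R (1 : Fin (n + 1)) := by
    rw [hRdef, v1]; omega
  have hRt : ¬ R (Fin.last n) := by
    rw [hRdef, Fin.val_last]; omega
  have hmid : ∃ l, IsMid (0 : Fin (n + 1)) 1 (Fin.last n) R l := by
    refine ⟨⟨2, by omega⟩, hne ?_, hne ?_, hne ?_, ?_⟩
    · rw [Fin.val_zero]; simp only; omega
    · rw [v1]; simp only; omega
    · rw [Fin.val_last]; simp only; omega
    · rw [hRdef]; simp only; omega
  have hRne : ∃ b, R b := by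
    refine ⟨⟨n - 1, by omega⟩, ?_⟩
    rw [hRdef]; simp only; omega
  have hcase' : (∀ i : Fin (n + 1), ∃ w, R w ∧ w ≠ i) ∨ 3 ≤ q := by
    rcases hcase with h | ⟨-, h⟩
    · left
      intro i
      by_cases hi : i.val = n - 1
      · refine ⟨⟨n - 2, by omega⟩, ?_, hne ?_⟩
        · rw [hRdef]; simp only; omega
        · simp only; omega
      · refine ⟨⟨n - 1, by omega⟩, ?_, hne ?_⟩
        · rw [hRdef]; simp only; omega
        · simp only; omega
    · exact Or.inr h
  have hJ : Ideal.span ({f : MvPolynomial (Fin (n + 1)) k | ∃ i : Fin (n + 1), i.val + 1 ≤ n ∧ f = MvPolynomial.X 0 * MvPolynomial.X i} ∪ {f : MvPolynomial (Fin (n + 1)) k | ∃ i : Fin (n + 1), 1 ≤ i.val ∧ i.val ≤ n - r - 1 ∧ f = MvPolynomial.X 1 ^ q * MvPolynomial.X i}) = J k (0 : Fin (n + 1)) 1 (Fin.last n) R q := by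
    unfold J
    congr 2
    · ext f
      constructor
      · rintro ⟨i, hi, rfl⟩
        refine ⟨i, hne ?_, rfl⟩
        rw [Fin.val_last]; omega
      · rintro ⟨i, hi, rfl⟩
        have hiv : i.val ≠ n := by
          intro h
          apply hi
          apply Fin.ext
          rw [Fin.val_last]
          exact h
        have := i.2
        exact ⟨i, by omega, rfl⟩
    · ext f
      constructor
      · rintro ⟨i, hi1, hi2, rfl⟩
        refine ⟨i, ?_, rfl⟩
        by_cases hi : i.val = 1
        · left
          apply Fin.ext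
          rw [v1]
          exact hi
        · right
          refine ⟨hne ?_, hne ?_, hne ?_, ?_⟩
          · rw [Fin.val_zero]; omega
          · rw [v1]; exact hi
          · rw [Fin.val_last]; omega
          · rw [hRdef]; omega
      · rintro ⟨i, (rfl | ⟨hi0, hi1, hit, hiR⟩), rfl⟩
        · exact ⟨1, by rw [v1], by rw [v1]; omega, rfl⟩
        · have hiv : i.val ≠ n := by
            intro h
            apply hit
            apply Fin.ext
            rw [Fin.val_last]
            exact h
          have hiv0 : i.val ≠ 0 := by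
            intro h
            apply hi0
            apply Fin.ext
            rw [Fin.val_zero]
            exact h
          rw [hRdef] at hiR
          have := i.2
          exact ⟨i, by omega, by omega, rfl⟩
  have hRcard : (Rset R).card = r := by
    have hmap : (Rset R).map Fin.valEmbedding = Finset.Icc (n - r) (n - 1) := by
      ext x
      simp only [Finset.mem_map, mem_Rset, Fin.valEmbedding_apply, Finset.mem_Icc]
      constructor
      · rintro ⟨l, hl, rfl⟩
        exact (hRdef l).mp hl
      · intro hx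
        exact ⟨⟨x, by omega⟩, (hRdef _).mpr hx, rfl⟩
    rw [← Finset.card_map Fin.valEmbedding, hmap, Nat.card_Icc]
    omega
  have hMcard := card_Mid_add h01 h0t h1t hR0 hR1 hRt
  rw [hRcard] at hMcard
  have hMcard' : (Mid (0 : Fin (n + 1)) 1 (Fin.last n) R).card = n - r - 2 := by omega
  rw [hJ, main_abs h01 h0t h1t hR0 hR1 hRt hq hmid hRne hcase', hRcard, hMcard',
    Nat.choose_symm_of_eq_add (show n + q - 1 = q + (n - 1) by omega)]
  generalize hm : n - r - 2 = m
  have h3 : 3 * n - 1 = 3 * m + 3 * r + 5 := by omega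
  rw [h3]
  ring

end Groth.Agent.S13447
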