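import Groth.Statements.S13448
import Groth.Agent.Lib.Seat60S13448e

set_option autoImplicit false
universe u
open W4c1hilbpn

namespace Groth.Agent.S13448

open W4c1hilbpn in
/-- Let k be a field and S = k[x_0, ..., x_n] with its standard grading; for an ideal I write Hom_S(I,
S/I)_0 for the degree-0 homomorphisms (for a monomial ideal: the span of the multigraded pieces
whose multidegree has entry sum 0). Let n ≥ 4 and I = x_0·(x_0, ..., x_{n-1}) + x_1·(x_1, ...,
x_{n-2}) (the case q = 1, r = 1 of the two-block family). Then Hom_S(I, S/I)_0 has dimension 6n - 6.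
(The published statement gives this as the dimension of the tangent space to the Hilbert scheme at
the point I; the row records the dimension count.) -/
theorem result (k : Type u) [Field k] (n : ℕ) (hn : 4 ≤ n) :
    Module.finrank k ↥(⨆ α : {α : Fin (n + 1) → ℤ // ∑ i, α i = 0}, tPiece (Ideal.span ({f : MvPolynomial (Fin (n + 1)) k | ∃ i : Fin (n + 1), i.val + 1 ≤ n ∧ f = MvPolynomial.X 0 * MvPolynomial.X i} ∪ {f : MvPolynomial (Fin (n + 1)) k | ∃ i : Fin (n + 1), 1 ≤ i.val ∧ i.val ≤ n - 2 ∧ f = MvPolynomial.X 1 * MvPolynomial.X i})) α.1) = 6 * n - 6 := by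
  have v1 : ((1 : Fin (n + 1)) : ℕ) = 1 := by
    rw [Fin.val_one']
    exact Nat.mod_eq_of_lt (by omega)
  have hne : ∀ {x y : Fin (n + 1)}, x.val ≠ y.val → x ≠ y := fun h h' => h (congrArg Fin.val h')
  have h01 : (0 : Fin (n + 1)) ≠ 1 := hne (by rw [Fin.val_zero, v1]; omega)
  have h0r : (0 : Fin (n + 1)) ≠ ⟨n - 1, by omega⟩ := hne (by rw [Fin.val_zero]; simp only; omega)
  have h0t : (0 : Fin (n + 1)) ≠ Fin.last n := hne (by rw [Fin.val_zero, Fin.val_last]; omega)
  have h1r : (1 : Fin (n + 1)) ≠ ⟨n - 1, by omega⟩ := hne (by rw [v1]; simp only; omega)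
  have h1t : (1 : Fin (n + 1)) ≠ Fin.last n := hne (by rw [v1, Fin.val_last]; omega)
  have hrt : (⟨n - 1, by omega⟩ : Fin (n + 1)) ≠ Fin.last n :=
    hne (by rw [Fin.val_last]; simp only; omega)
  have hmid : ∃ l, IsMid (0 : Fin (n + 1)) 1 ⟨n - 1, by omega⟩ (Fin.last n) l := by
    refine ⟨⟨2, by omega⟩, hne ?_, hne ?_, hne ?_, hne ?_⟩
    · rw [Fin.val_zero]; simp only; omega
    · rw [v1]; simp only; omega
    · simp only; omega
    · rw [Fin.val_last]; simp only; omega
  have hJ : Ideal.span ({f : MvPolynomial (Fin (n + 1)) k | ∃ i : Fin (n + 1), i.val + 1 ≤ n ∧ f = MvPolynomial.X 0 * MvPolynomial.X i} ∪ {f : MvPolynomial (Fin (n + 1)) k | ∃ i : Fin (n + 1), 1 ≤ i.val ∧ i.val ≤ n - 2 ∧ f = MvPolynomial.X 1 * MvPolynomial.X i}) = J k (0 : Fin (n + 1)) 1 ⟨n - 1, by omega⟩ (Fin.last n) := by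
    unfold J
    congr 1
    ext f
    constructor
    · rintro (⟨i, hi, rfl⟩ | ⟨i, hi1, hi2, rfl⟩)
      · refine ⟨0, i, Or.inl ⟨rfl, hne ?_⟩, rfl⟩
        rw [Fin.val_last]; omega
      · refine ⟨1, i, Or.inr ⟨rfl, hne ?_, hne ?_, hne ?_⟩, rfl⟩
        · rw [Fin.val_zero]; omega
        · simp only; omega
        · rw [Fin.val_last]; omega
    · rintro ⟨a, i, (⟨rfl, hi⟩ | ⟨rfl, hi0, hir, hit⟩), rfl⟩
      · left
        have hiv : i.val ≠ n := by
          intro h
          apply hi
          apply Fin.ext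
          rw [Fin.val_last]
          exact h
        have := i.2
        exact ⟨i, by omega, rfl⟩
      · right
        have hiv : i.val ≠ n := by
          intro h
          apply hit
          apply Fin.ext
          rw [Fin.val_last]
          exact h
        have hiv0 : i.val ≠ 0 := by
          intro h
          apply hi0
          apply Fin.ext
          rw [Fin.val_zero]
          exact h
        have hivr : i.val ≠ n - 1 := by
          intro h
          apply hir
          apply Fin.ext
          exact h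
        have := i.2
        exact ⟨i, by omega, by omega, rfl⟩
  rw [hJ, main_abs h01 h0r h0t h1r h1t hrt hmid, card_Mid h01 h0r h0t h1r h1t hrt]
  omega

end Groth.Agent.S13448
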