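import Groth.Statements.S13449
import Groth.Agent.Lib.Seat60S13449e

set_option autoImplicit false
universe u
open W4c1hilbpn

namespace Groth.Agent.S13449

open W4c1hilbpn in
/-- Let k be a field and S = k[x_0, ..., x_n] with its standard grading; for an ideal I write Hom_S(I,
S/I)_0 for the degree-0 homomorphisms (for a monomial ideal: the span of the multigraded pieces
whose multidegree has entry sum 0). Let n ≥ 3 and I = x_0·(x_0, ..., x_{n-1}) + x_1·(x_1, ...,
x_{n-1}) (the case q = 1, r = 0 of the two-block family). Then Hom_S(I, S/I)_0 has dimension 6n - 4.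
(The published statement gives this as the dimension of the tangent space to the Hilbert scheme at
the point I; the row records the dimension count.) -/
theorem result (k : Type u) [Field k] (n : ℕ) (hn : 3 ≤ n) :
    Module.finrank k ↥(⨆ α : {α : Fin (n + 1) → ℤ // ∑ i, α i = 0}, tPiece (Ideal.span ({f : MvPolynomial (Fin (n + 1)) k | ∃ i : Fin (n + 1), i.val + 1 ≤ n ∧ f = MvPolynomial.X 0 * MvPolynomial.X i} ∪ {f : MvPolynomial (Fin (n + 1)) k | ∃ i : Fin (n + 1), 1 ≤ i.val ∧ i.val ≤ n - 1 ∧ f = MvPolynomial.X 1 * MvPolynomial.X i})) α.1) = 6 * n - 4 := by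
  have h01 : (0 : Fin (n + 1)) ≠ 1 := by
    intro h
    have := congrArg Fin.val h
    rw [Fin.val_zero, Fin.val_one'] at this
    have h2 : 1 % (n + 1) = 1 := Nat.mod_eq_of_lt (by omega)
    omega
  have v1 : ((1 : Fin (n + 1)) : ℕ) = 1 := by
    rw [Fin.val_one']
    exact Nat.mod_eq_of_lt (by omega)
  have h0t : (0 : Fin (n + 1)) ≠ Fin.last n := by
    intro h
    have := congrArg Fin.val h
    rw [Fin.val_zero, Fin.val_last] at this
    omega
  have h1t : (1 : Fin (n + 1)) ≠ Fin.last n := by
    intro h
    have := congrArg Fin.val h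
    rw [v1, Fin.val_last] at this
    omega
  have hmid : ∃ l, IsMid (0 : Fin (n + 1)) 1 (Fin.last n) l := by
    refine ⟨⟨2, by omega⟩, ?_, ?_, ?_⟩
    · intro h
      have := congrArg Fin.val h
      rw [Fin.val_zero] at this
      simp only at this
      omega
    · intro h
      have := congrArg Fin.val h
      rw [v1] at this
      simp only at this
      omega
    · intro h
      have := congrArg Fin.val h
      rw [Fin.val_last] at this
      simp only at this
      omega
  have hJ : Ideal.span ({f : MvPolynomial (Fin (n + 1)) k | ∃ i : Fin (n + 1), i.val + 1 ≤ n ∧ f = MvPolynomial.X 0 * MvPolynomial.X i} ∪ {f : MvPolynomial (Fin (n + 1)) k | ∃ i : Fin (n + 1), 1 ≤ i.val ∧ i.val ≤ n - 1 ∧ f = MvPolynomial.X 1 * MvPolynomial.X i}) = J k (0 : Fin (n + 1)) 1 (Fin.last n) := by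
    unfold J
    congr 1
    ext f
    constructor
    · rintro (⟨i, hi, rfl⟩ | ⟨i, hi1, hi2, rfl⟩)
      · refine ⟨0, i, Or.inl rfl, ?_, rfl⟩
        intro h
        have := congrArg Fin.val h
        rw [Fin.val_last] at this
        omega
      · refine ⟨1, i, Or.inr rfl, ?_, rfl⟩
        intro h
        have := congrArg Fin.val h
        rw [Fin.val_last] at this
        omega
    · rintro ⟨a, i, ha, hi, rfl⟩
      have hiv : i.val ≠ n := by
        intro h
        apply hi
        apply Fin.ext
        rw [Fin.val_last]
        exact h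
      have := i.2
      rcases ha with rfl | rfl
      · left
        exact ⟨i, by omega, rfl⟩
      · by_cases hi0 : i.val = 0
        · left
          refine ⟨1, by rw [v1]; omega, ?_⟩
          have : i = 0 := Fin.ext (by rw [hi0, Fin.val_zero])
          rw [this, mul_comm]
        · right
          exact ⟨i, by omega, by omega, rfl⟩
  rw [hJ, main_abs h01 h0t h1t hmid, card_Mid h01 h0t h1t]
  omega

end Groth.Agent.S13449
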