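import Groth.Statements.S13450
import Groth.Agent.Lib.Seat60S13450e

set_option autoImplicit false
universe u
open W4c1hilbpn

namespace Groth.Agent.S13450

open W4c1hilbpn in
/-- Let k be a field and S = k[x_0, ..., x_n] with its standard grading; for an ideal I write Hom_S(I,
S/I)_0 for the degree-0 homomorphisms (for a monomial ideal: the span of the multigraded pieces
whose multidegree has entry sum 0). Let n and q satisfy n = 3 and q ≥ 4, or n ≥ 4 and q ≥ 2, and let
I = x_0·(x_0, ..., x_{n-1}) + (x_1^q). Then Hom_S(I, S/I)_0 has dimension 2n - 1 + C(n+q-1, n-1).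
(The published statement gives this as the dimension of the tangent space to the Hilbert scheme at
the point I; the row records the dimension count.) -/
theorem result (k : Type u) [Field k] (n q : ℕ)
    (hcase : (n = 3 ∧ 4 ≤ q) ∨ (4 ≤ n ∧ 2 ≤ q)) :
    Module.finrank k ↥(⨆ α : {α : Fin (n + 1) → ℤ // ∑ i, α i = 0},
      tPiece (Ideal.span ({f : MvPolynomial (Fin (n + 1)) k | ∃ i : Fin (n + 1), i.val + 1 ≤ n ∧ f = MvPolynomial.X 0 * MvPolynomial.X i} ∪ {MvPolynomial.X 1 ^ q})) α.1) =
      2 * n - 1 + Nat.choose (n + q - 1) (n - 1) := by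
  have hn : 3 ≤ n := by omega
  have hq : 2 ≤ q := by omega
  have v1 : ((1 : Fin (n + 1)) : ℕ) = 1 := by
    rw [Fin.val_one']
    exact Nat.mod_eq_of_lt (by omega)
  have hne : ∀ {x y : Fin (n + 1)}, x.val ≠ y.val → x ≠ y := fun h h' => h (congrArg Fin.val h')
  have h01 : (0 : Fin (n + 1)) ≠ 1 := hne (by rw [Fin.val_zero, v1]; omega)
  have h0t : (0 : Fin (n + 1)) ≠ Fin.last n := hne (by rw [Fin.val_zero, Fin.val_last]; omega)
  have h1t : (1 : Fin (n + 1)) ≠ Fin.last n := hne (by rw [v1, Fin.val_last]; omega)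
  have hmidk : ∀ j : ℕ, 2 ≤ j → ∀ hj : j < n, IsMid (0 : Fin (n + 1)) 1 (Fin.last n)
      (⟨j, by omega⟩ : Fin (n + 1)) := by
    intro j hj2 hjn
    refine ⟨hne ?_, hne ?_, hne ?_⟩
    · rw [Fin.val_zero]; simp only; omega
    · rw [v1]; simp only; omega
    · rw [Fin.val_last]; simp only; omega
  have hmid : ∃ l, IsMid (0 : Fin (n + 1)) 1 (Fin.last n) l := ⟨_, hmidk 2 le_rfl (by omega)⟩
  have hcase' : (∀ i, ∃ w, IsMid (0 : Fin (n + 1)) 1 (Fin.last n) w ∧ w ≠ i) ∨ 4 ≤ q := by
    rcases hcase with ⟨_, h⟩ | ⟨h4, _⟩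
    · exact Or.inr h
    · left
      intro i
      by_cases hi : i.val = 2
      · refine ⟨_, hmidk 3 (by omega) (by omega), hne ?_⟩
        simp only
        omega
      · refine ⟨_, hmidk 2 le_rfl (by omega), hne ?_⟩
        simp only
        omega
  have hJ : Ideal.span ({f : MvPolynomial (Fin (n + 1)) k | ∃ i : Fin (n + 1), i.val + 1 ≤ n ∧ f = MvPolynomial.X 0 * MvPolynomial.X i} ∪ {MvPolynomial.X 1 ^ q}) = J k (0 : Fin (n + 1)) 1 (Fin.last n) q := by
    unfold J
    congr 2
    ext f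
    constructor
    · rintro ⟨i, hi, rfl⟩
      refine ⟨i, hne ?_, rfl⟩
      rw [Fin.val_last]; omega
    · rintro ⟨i, hi, rfl⟩
      have hiv : i.val ≠ n := by
        intro h
        apply hi
        apply Fin.ext
        rw [Fin.val_last]
        exact h
      have := i.2
      exact ⟨i, by omega, rfl⟩
  rw [hJ, main_abs h01 h0t h1t hq hmid hcase', card_Mid h01 h0t h1t,
    Nat.choose_symm_of_eq_add (show n + q - 1 = q + (n - 1) by omega)]
  omega

end Groth.Agent.S13450
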