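import Groth.Statements.S13451
import Groth.Agent.Lib.Seat60Hom0

set_option autoImplicit false
set_option linter.unusedVariables false
set_option linter.unusedSectionVars false
universe u
open W4c1hilbpn

namespace Groth.Agent.S13451

open MvPolynomial Groth.Agent.Lib.Seat60.Hom0


section twoBlocks

variable {k : Type u} [Field k] {n : ℕ} (A B : Fin (n + 1) → Prop)

/-- index type of the generators `x_i x_j`, `i ∈ A`, `j ∈ B` -/
abbrev Idx : Type := {p : Fin (n + 1) × Fin (n + 1) // A p.1 ∧ B p.2}

variable {A B}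

/-- exponent vector of `x_i x_j` -/
noncomputable def G (p : Idx A B) : Fin (n + 1) →₀ ℕ :=
  Finsupp.single p.1.1 1 + Finsupp.single p.1.2 1

lemma G_apply (p : Idx A B) (l : Fin (n + 1)) :
    G p l = (if p.1.1 = l then 1 else 0) + (if p.1.2 = l then 1 else 0) := by
  unfold G
  rw [Finsupp.add_apply, Finsupp.single_apply, Finsupp.single_apply]

variable (k A B)

/-- the ideal generated by the products `x_i x_j`, `i ∈ A`, `j ∈ B` -/
noncomputable def J : Ideal (MvPolynomial (Fin (n + 1)) k) :=
  Ideal.span {f : MvPolynomial (Fin (n + 1)) k | ∃ i j : Fin (n + 1), A i ∧ B j ∧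
        f = MvPolynomial.X i * MvPolynomial.X j}

lemma J_eq : J k A B = monIdeal (G (A := A) (B := B)) k := by
  unfold J monIdeal
  congr 1
  ext f
  constructor
  · rintro ⟨i, j, hi, hj, rfl⟩
    refine ⟨⟨(i, j), hi, hj⟩, ?_⟩
    show monomial (G _) (1 : k) = _
    unfold G
    rw [X, X, monomial_mul, one_mul]
  · rintro ⟨⟨⟨i, j⟩, hi, hj⟩, rfl⟩
    refine ⟨i, j, hi, hj, ?_⟩
    show monomial (G _) (1 : k) = _
    unfold G
    rw [X, X, monomial_mul, one_mul]

lemma J_comm : J k A B = J k B A := by
  unfold J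
  congr 1
  ext f
  constructor
  · rintro ⟨i, j, hi, hj, rfl⟩
    exact ⟨j, i, hj, hi, mul_comm _ _⟩
  · rintro ⟨i, j, hi, hj, rfl⟩
    exact ⟨j, i, hj, hi, mul_comm _ _⟩

lemma hI : IsMonomial (J k A B) := by
  rw [J_eq]
  exact isMonomial_monIdeal _

lemma hG (β : Fin (n + 1) →₀ ℕ) : β ∈ exps (J k A B) ↔ ∃ p : Idx A B, G p ≤ β := by
  rw [J_eq]
  exact mem_exps_monIdeal _ β

variable {k A B}

/-- the multidegree `e_b - e_a` -/
def dv (b a : Fin (n + 1)) : Fin (n + 1) → ℤ :=
  fun l => (if b = l then 1 else 0) - (if a = l then 1 else 0)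

variable (hAB : ∀ l, A l → ¬ B l)

include hAB in
lemma act_dv {a b : Fin (n + 1)} (ha : A a) (hb : ¬ A b) (p : Idx A B) :
    Act G (J k A B) (dv b a) p ↔ p.1.1 = a := by
  obtain ⟨⟨i, j⟩, hi, hj⟩ := p
  rw [act_iff (hG k A B)]
  simp only [G_apply, dv]
  constructor
  · rintro ⟨h1, -⟩
    have := h1 a
    have hja : j ≠ a := fun h => hAB a ha (h ▸ hj)
    have hba : b ≠ a := fun h => hb (h ▸ ha)
    rw [if_neg hja, if_neg hba, if_pos rfl] at this
    by_contra hia
    rw [if_neg hia] at this
    omega
  · intro hia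
    subst hia
    refine ⟨fun l => ?_, ?_⟩
    · push_cast
      split_ifs <;> omega
    · rintro ⟨⟨⟨i', j'⟩, hi', hj'⟩, h⟩
      have := h i'
      have h1 : j' ≠ i' := fun h => hAB i' hi' (h ▸ hj')
      have h2 : j ≠ i' := fun h => hAB i' hi' (h ▸ hj)
      have h3 : b ≠ i' := fun h => hb (h ▸ hi')
      simp only [if_neg h1, if_neg h2, if_neg h3, if_true] at this
      push_cast at this
      split_ifs at this <;> omega

include hAB in
lemma conn_dv_imp {a b : Fin (n + 1)} (ha : A a) (hb : ¬ A b) (p q : Idx A B)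
    (hpq : Conn G (J k A B) (dv b a) p q) (hp : p.1.1 = a) : q.1.1 = a := by
  obtain ⟨⟨i, j⟩, hi, hj⟩ := p
  obtain ⟨⟨i', j'⟩, hi', hj'⟩ := q
  rw [conn_iff (hG k A B)] at hpq
  obtain ⟨h1, h2⟩ := hpq
  simp only at hp
  subst hp
  by_contra hne
  simp only at hne
  apply h2
  refine ⟨⟨(i', j), hi', hj⟩, fun l => ?_⟩
  have hv := h1 l
  have d1 : j ≠ i := fun h => hAB i ha (h ▸ hj)
  have d2 : j' ≠ i := fun h => hAB i ha (h ▸ hj')
  have d3 : j ≠ i' := fun h => hAB i' hi' (h ▸ hj)
  have d4 : j' ≠ i' := fun h => hAB i' hi' (h ▸ hj')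
  have d5 : b ≠ i := fun h => hb (h ▸ ha)
  have d6 : b ≠ i' := fun h => hb (h ▸ hi')
  simp only [G_apply, dv] at hv ⊢
  push_cast at hv ⊢
  split_ifs at hv ⊢ <;> omega

include hAB in
lemma conn_dv_of {a b : Fin (n + 1)} (ha : A a) (hb : ¬ A b) (p q : Idx A B)
    (hp : p.1.1 = a) (hq : q.1.1 = a) : Conn G (J k A B) (dv b a) p q := by
  obtain ⟨⟨i, j⟩, hi, hj⟩ := p
  obtain ⟨⟨i', j'⟩, hi', hj'⟩ := q
  simp only at hp hq
  subst hp
  subst hq
  rw [conn_iff (hG k A B)]
  refine ⟨fun l => ?_, ?_⟩
  · simp only [G_apply, dv]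
    push_cast
    split_ifs <;> omega
  · rintro ⟨⟨⟨i'', j''⟩, hi'', hj''⟩, h⟩
    have := h i''
    have d1 : j ≠ i'' := fun h => hAB i'' hi'' (h ▸ hj)
    have d2 : j' ≠ i'' := fun h => hAB i'' hi'' (h ▸ hj')
    have d3 : j'' ≠ i'' := fun h => hAB i'' hi'' (h ▸ hj'')
    have d4 : b ≠ i'' := fun h => hb (h ▸ hi'')
    simp only [G_apply, dv] at this
    push_cast at this
    split_ifs at this <;> omega

include hAB in
/-- the piece of multidegree `e_b - e_a`, `a ∈ A`, `b ∉ A`, is one-dimensional -/
theorem finrank_tPiece_dv {a b : Fin (n + 1)} (ha : A a) (hb : ¬ A b) (hB : ∃ j, B j) :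
    Module.finrank k ↥(tPiece (J k A B) (dv b a)) = 1 := by
  classical
  rw [finrank_tPiece_eq_finrank_W (hI k A B) (hG k A B)]
  apply finrank_W_eq_of_cls (fun p : Idx A B => if p.1.1 = a then some (0 : Fin 1) else none)
  · intro p hp
    rw [act_dv hAB ha hb] at hp
    rw [if_neg hp]
  · intro p q hpq
    by_cases hp : p.1.1 = a
    · rw [if_pos hp, if_pos (conn_dv_imp (k := k) hAB ha hb p q hpq hp)]
    · have hq : ¬ q.1.1 = a := by
        intro hq
        apply hp
        refine conn_dv_imp (k := k) hAB ha hb q p ?_ hq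
        unfold Conn at hpq ⊢
        rw [sup_comm]
        exact hpq
      rw [if_neg hp, if_neg hq]
  · intro r
    obtain ⟨j, hj⟩ := hB
    refine ⟨⟨(a, j), ha, hj⟩, ?_⟩
    simp only [if_true]
    congr 1
    exact Subsingleton.elim _ _
  · intro c hc p q r hp hq
    have hp' : p.1.1 = a := by
      by_contra h
      rw [if_neg h] at hp
      exact absurd hp (by simp)
    have hq' : q.1.1 = a := by
      by_contra h
      rw [if_neg h] at hq
      exact absurd hq (by simp)
    exact hc.2 p q (conn_dv_of hAB ha hb p q hp' hq')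
  · intro c hc p hp
    have hp' : ¬ p.1.1 = a := by
      intro h
      rw [if_pos h] at hp
      exact absurd hp (by simp)
    apply hc.1 p
    rw [act_dv hAB ha hb]
    exact hp'

lemma sum_G (p : Idx A B) : ∑ l, (G p l : ℤ) = 2 := by
  classical
  simp only [G_apply]
  push_cast
  rw [Finset.sum_add_distrib, Finset.sum_ite_eq Finset.univ p.1.1 (fun _ => (1 : ℤ)),
    Finset.sum_ite_eq Finset.univ p.1.2 (fun _ => (1 : ℤ)), if_pos (Finset.mem_univ _),
    if_pos (Finset.mem_univ _)]
  norm_num

include hAB in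
/-- all other pieces of total degree zero vanish -/
theorem tPiece_eq_bot (hA2 : ∀ i, ∃ i', A i' ∧ i' ≠ i) (hB2 : ∀ j, ∃ j', B j' ∧ j' ≠ j)
    (α : Fin (n + 1) → ℤ) (hα : ∑ l, α l = 0)
    (hL : ∀ a b, A a → ¬ A b → α ≠ dv b a) (hL' : ∀ a b, B a → ¬ B b → α ≠ dv b a) :
    tPiece (J k A B) α = ⊥ := by
  classical
  apply tPiece_eq_bot_of_W (hI k A B) (hG k A B)
  intro c hc
  funext q
  show c q = 0
  by_cases hact : Act G (J k A B) α q
  swap
  · exact hc.1 q hact
  have hact' := (act_iff (hG k A B) q).mp hact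
  obtain ⟨hval, hnot⟩ := hact'
  have hsum : ∑ l, ((G q l : ℤ) + α l) = 2 := by
    rw [Finset.sum_add_distrib, sum_G, hα, add_zero]
  obtain ⟨u, v, huv⟩ := exists_two_of_sum_eq_two _ hval hsum
  obtain ⟨⟨i, j⟩, hi, hj⟩ := q
  simp only [G_apply] at huv hval hnot
  have hij : j ≠ i := fun h => hAB i hi (h ▸ hj)
  have hα' : ∀ l, α l = (if u = l then 1 else 0) + (if v = l then 1 else 0) -
      (if i = l then 1 else 0) - (if j = l then 1 else 0) := by
    intro l
    have := huv l
    push_cast at this
    linarith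
  have hn1 : ¬ (A u ∧ B v) := by
    rintro ⟨hu, hv⟩
    apply hnot
    refine ⟨⟨(u, v), hu, hv⟩, fun l => ?_⟩
    rw [huv l]
    push_cast
    exact le_rfl
  have hn2 : ¬ (A v ∧ B u) := by
    rintro ⟨hv, hu⟩
    apply hnot
    refine ⟨⟨(v, u), hv, hu⟩, fun l => ?_⟩
    rw [huv l]
    push_cast
    rw [add_comm]
  by_cases hui : u = i
  · subst hui
    have hbv : ¬ B v := fun h => hn1 ⟨hi, h⟩
    exfalso
    apply hL' j v hj hbv
    funext l
    rw [hα' l]
    unfold dv
    ring
  by_cases hvi : v = i
  · subst hvi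
    have hbu : ¬ B u := fun h => hn2 ⟨hi, h⟩
    exfalso
    apply hL' j u hj hbu
    funext l
    rw [hα' l]
    unfold dv
    ring
  by_cases huj : u = j
  · subst huj
    have hav : ¬ A v := fun h => hn2 ⟨h, hj⟩
    exfalso
    apply hL i v hi hav
    funext l
    rw [hα' l]
    unfold dv
    ring
  by_cases hvj : v = j
  · subst hvj
    have hau : ¬ A u := fun h => hn1 ⟨h, hj⟩
    exfalso
    apply hL i u hi hau
    funext l
    rw [hα' l]
    unfold dv
    ring
  -- now `u, v ∉ {i, j}`: the coefficient is forced to vanish, contradicting activity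
  show c ⟨(i, j), hi, hj⟩ = 0
  by_cases hAuv : ¬ A u ∧ ¬ A v
  · obtain ⟨hau, hav⟩ := hAuv
    obtain ⟨j', hj', hjj'⟩ := hB2 j
    have hinact : ¬ Act G (J k A B) α ⟨(i, j'), hi, hj'⟩ := by
      rw [act_iff (hG k A B)]
      rintro ⟨h1, -⟩
      have := h1 j
      simp only [G_apply] at this
      rw [hα' j] at this
      push_cast at this
      split_ifs at this <;> omega
    rw [← hc.1 _ hinact]
    apply hc.2
    rw [conn_iff (hG k A B)]
    have d1 : j' ≠ i := fun h => hAB i hi (h ▸ hj')
    refine ⟨fun l => ?_, ?_⟩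
    · simp only [G_apply]
      rw [hα' l]
      push_cast
      split_ifs <;> omega
    · rintro ⟨⟨⟨i'', j''⟩, hi'', hj''⟩, h⟩
      have := h i''
      have e1 : j ≠ i'' := fun h => hAB i'' hi'' (h ▸ hj)
      have e2 : j' ≠ i'' := fun h => hAB i'' hi'' (h ▸ hj')
      have e3 : j'' ≠ i'' := fun h => hAB i'' hi'' (h ▸ hj'')
      have e4 : u ≠ i'' := fun h => hau (h ▸ hi'')
      have e5 : v ≠ i'' := fun h => hav (h ▸ hi'')
      simp only [G_apply] at this
      rw [hα' i''] at this
      push_cast at this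
      split_ifs at this <;> omega
  · have hbu : ¬ B u := by
      intro hbu
      have hau : ¬ A u := fun h => hAB u h hbu
      have hav : A v := by
        by_contra hav
        exact hAuv ⟨hau, hav⟩
      exact hn2 ⟨hav, hbu⟩
    have hbv : ¬ B v := by
      intro hbv
      have hav : ¬ A v := fun h => hAB v h hbv
      have hau : A u := by
        by_contra hau
        exact hAuv ⟨hau, hav⟩
      exact hn1 ⟨hau, hbv⟩
    obtain ⟨i', hi', hii'⟩ := hA2 i
    have hinact : ¬ Act G (J k A B) α ⟨(i', j), hi', hj⟩ := by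
      rw [act_iff (hG k A B)]
      rintro ⟨h1, -⟩
      have := h1 i
      simp only [G_apply] at this
      rw [hα' i] at this
      push_cast at this
      split_ifs at this <;> omega
    rw [← hc.1 _ hinact]
    apply hc.2
    rw [conn_iff (hG k A B)]
    have d1 : j ≠ i' := fun h => hAB i' hi' (h ▸ hj)
    refine ⟨fun l => ?_, ?_⟩
    · simp only [G_apply]
      rw [hα' l]
      push_cast
      split_ifs <;> omega
    · rintro ⟨⟨⟨i'', j''⟩, hi'', hj''⟩, h⟩
      have := h j''
      have e1 : i ≠ j'' := fun h => hAB j'' (h ▸ hi) hj''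
      have e2 : i' ≠ j'' := fun h => hAB j'' (h ▸ hi') hj''
      have e3 : i'' ≠ j'' := fun h => hAB j'' (h ▸ hi'') hj''
      have e4 : u ≠ j'' := fun h => hbu (h ▸ hj'')
      have e5 : v ≠ j'' := fun h => hbv (h ▸ hj'')
      simp only [G_apply] at this
      rw [hα' j''] at this
      push_cast at this
      split_ifs at this <;> omega

end twoBlocks

section count

lemma card_filter_val_lt (N c : ℕ) (hc : c ≤ N) :
    (Finset.univ.filter (fun i : Fin N => i.val < c)).card = c := by
  rw [Finset.card_filter, Fin.sum_univ_eq_sum_range (fun x => if x < c then 1 else 0) N,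
    ← Finset.card_filter]
  have : (Finset.range N).filter (fun x => x < c) = Finset.range c := by
    ext x
    rw [Finset.mem_filter, Finset.mem_range, Finset.mem_range]
    omega
  rw [this, Finset.card_range]

lemma card_filter_not_val_lt (N c : ℕ) (hc : c ≤ N) :
    (Finset.univ.filter (fun i : Fin N => ¬ i.val < c)).card = N - c := by
  have h := Finset.card_filter_add_card_filter_not (s := (Finset.univ : Finset (Fin N)))
    (fun i : Fin N => i.val < c)
  rw [card_filter_val_lt N c hc, Finset.card_univ, Fintype.card_fin] at h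
  omega

lemma sum_dv {n : ℕ} (b a : Fin (n + 1)) : ∑ l, dv b a l = 0 := by
  classical
  unfold dv
  rw [Finset.sum_sub_distrib, Finset.sum_ite_eq Finset.univ b (fun _ => (1 : ℤ)),
    Finset.sum_ite_eq Finset.univ a (fun _ => (1 : ℤ)), if_pos (Finset.mem_univ _),
    if_pos (Finset.mem_univ _)]
  norm_num

lemma dv_inj {n : ℕ} {a b a' b' : Fin (n + 1)} (hab : a ≠ b) (hab' : a' ≠ b')
    (h : dv b a = dv b' a') : a = a' ∧ b = b' := by
  have h1 := congrFun h a
  have h2 := congrFun h b
  unfold dv at h1 h2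
  constructor
  · by_contra hne
    split_ifs at h1 <;> omega
  · by_contra hne
    split_ifs at h2 <;> omega

end count

section main

variable (k : Type u) [Field k] (n c d : ℕ)

theorem main (hc : 2 ≤ c) (hcd : c ≤ d) (hn : c + d ≤ n) :
    Module.finrank k ↥(⨆ α : {α : Fin (n + 1) → ℤ // ∑ i, α i = 0},
      tPiece (J k (fun i : Fin (n + 1) => i.val + 1 ≤ c) (fun j : Fin (n + 1) => n + 1 ≤ j.val + d))
        α.1) = c * (n - c + 1) + d * (n - d + 1) := by
  classical
  set A : Fin (n + 1) → Prop := fun i => i.val + 1 ≤ c with hA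
  set B : Fin (n + 1) → Prop := fun j => n + 1 ≤ j.val + d with hB
  have hAB : ∀ l, A l → ¬ B l := by
    intro l h1 h2
    simp only [hA, hB] at h1 h2
    omega
  have hBA : ∀ l, B l → ¬ A l := fun l h1 h2 => hAB l h2 h1
  have hA2 : ∀ i, ∃ i', A i' ∧ i' ≠ i := by
    intro i
    by_cases h : i.val = 0
    · refine ⟨⟨1, by omega⟩, ?_, ?_⟩
      · simp only [hA]; omega
      · intro he
        have := congrArg Fin.val he
        simp only at this
        omega
    · refine ⟨⟨0, by omega⟩, ?_, ?_⟩
      · simp only [hA]; omega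
      · intro he
        have := congrArg Fin.val he
        simp only at this
        omega
  have hB2 : ∀ j, ∃ j', B j' ∧ j' ≠ j := by
    intro j
    by_cases h : j.val = n
    · refine ⟨⟨n - 1, by omega⟩, ?_, ?_⟩
      · simp only [hB]; omega
      · intro he
        have := congrArg Fin.val he
        simp only at this
        omega
    · refine ⟨⟨n, by omega⟩, ?_, ?_⟩
      · simp only [hB]; omega
      · intro he
        have := congrArg Fin.val he
        simp only at this
        omega
  set S : Finset (Fin (n + 1) × Fin (n + 1)) :=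
    Finset.univ.filter (fun p => (A p.1 ∧ ¬ A p.2) ∨ (B p.1 ∧ ¬ B p.2)) with hS
  have hSne : ∀ p ∈ S, p.1 ≠ p.2 := by
    intro p hp
    rw [hS, Finset.mem_filter] at hp
    rcases hp.2 with h | h
    · intro he; exact h.2 (he ▸ h.1)
    · intro he; exact h.2 (he ▸ h.1)
  have hinj : ∀ p ∈ S, ∀ q ∈ S, dv p.2 p.1 = dv q.2 q.1 → p = q := by
    intro p hp q hq h
    obtain ⟨h1, h2⟩ := dv_inj (hSne p hp) (hSne q hq) h
    exact Prod.ext h1 h2
  rw [finrank_hom0' (hI k A B) (hG k A B) (S.image (fun p => dv p.2 p.1))]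
  · rw [Finset.sum_image hinj]
    have hone : ∀ p ∈ S, Module.finrank k ↥(tPiece (J k A B) (dv p.2 p.1)) = 1 := by
      intro p hp
      rw [hS, Finset.mem_filter] at hp
      rcases hp.2 with h | h
      · exact finrank_tPiece_dv hAB h.1 h.2 ⟨⟨n, by omega⟩, by simp only [hB]; omega⟩
      · rw [J_comm]
        exact finrank_tPiece_dv hBA h.1 h.2 ⟨⟨0, by omega⟩, by simp only [hA]; omega⟩
    rw [Finset.sum_congr rfl hone, Finset.sum_const, smul_eq_mul, mul_one]
    -- count
    have hSeq : S = (Finset.univ.filter A ×ˢ Finset.univ.filter (fun l => ¬ A l)) ∪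
        (Finset.univ.filter B ×ˢ Finset.univ.filter (fun l => ¬ B l)) := by
      ext p
      rw [hS, Finset.mem_filter, Finset.mem_union, Finset.mem_product, Finset.mem_product,
        Finset.mem_filter, Finset.mem_filter, Finset.mem_filter, Finset.mem_filter]
      simp only [Finset.mem_univ, true_and]
    have hdisj : Disjoint (Finset.univ.filter A ×ˢ Finset.univ.filter (fun l => ¬ A l))
        (Finset.univ.filter B ×ˢ Finset.univ.filter (fun l => ¬ B l)) := by
      rw [Finset.disjoint_left]
      intro p hp hp'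
      rw [Finset.mem_product, Finset.mem_filter, Finset.mem_filter] at hp hp'
      exact hAB p.1 hp.1.2 hp'.1.2
    have cA : (Finset.univ.filter A).card = c := by
      have := card_filter_val_lt (n + 1) c (by omega)
      refine Eq.trans ?_ this
      congr 1
    have cA' : (Finset.univ.filter (fun l => ¬ A l)).card = n + 1 - c := by
      have := card_filter_not_val_lt (n + 1) c (by omega)
      refine Eq.trans ?_ this
      congr 1
    have cB' : (Finset.univ.filter (fun l => ¬ B l)).card = n + 1 - d := by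
      have := card_filter_val_lt (n + 1) (n + 1 - d) (by omega)
      refine Eq.trans ?_ this
      congr 1
      ext l
      simp only [Finset.mem_filter, Finset.mem_univ, true_and, hB]
      omega
    have cB : (Finset.univ.filter B).card = d := by
      have := card_filter_not_val_lt (n + 1) (n + 1 - d) (by omega)
      have e : (Finset.univ.filter B) =
          Finset.univ.filter (fun i : Fin (n + 1) => ¬ i.val < n + 1 - d) := by
        ext l
        simp only [Finset.mem_filter, Finset.mem_univ, true_and, hB]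
        omega
      rw [e, this]
      omega
    rw [hSeq, Finset.card_union_of_disjoint hdisj, Finset.card_product, Finset.card_product,
      cA, cA', cB, cB']
    have e1 : n + 1 - c = n - c + 1 := by omega
    have e2 : n + 1 - d = n - d + 1 := by omega
    rw [e1, e2]
  · intro α hα
    obtain ⟨p, _, rfl⟩ := Finset.mem_image.mp hα
    exact sum_dv _ _
  · intro α hα hnot
    apply tPiece_eq_bot hAB hA2 hB2 α hα
    · intro a b ha hb he
      apply hnot
      rw [Finset.mem_image]
      refine ⟨(a, b), ?_, he.symm⟩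
      rw [hS, Finset.mem_filter]
      exact ⟨Finset.mem_univ _, Or.inl ⟨ha, hb⟩⟩
    · intro a b ha hb he
      apply hnot
      rw [Finset.mem_image]
      refine ⟨(a, b), ?_, he.symm⟩
      rw [hS, Finset.mem_filter]
      exact ⟨Finset.mem_univ _, Or.inr ⟨ha, hb⟩⟩

end main


open W4c1hilbpn in
/-- Let k be an algebraically closed field of characteristic different from 2, S = k[x_0, ..., x_n] with
its standard grading, 2 ≤ c ≤ d with n ≥ c + d, and I = (x_0, ..., x_{c-1})·(x_{n-d+1}, ..., x_n),
the ideal of the union of two coordinate linear spaces of codimensions c and d meeting transversely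
and not spanning the ambient space. Then the degree-0 homomorphisms Hom_S(I, S/I)_0 form a space of
dimension c(n-c+1) + d(n-d+1). (The published statement gives this number as the dimension of the
tangent space to the Hilbert scheme at the pair of planes, for every n; the row records the count of
degree-0 homomorphisms in the non-spanning range n ≥ c + d, where that tangent space is Hom_S(I,
S/I)_0.) -/
theorem result (k : Type u) [Field k] [IsAlgClosed k] (hchar : ringChar k ≠ 2)
    (n c d : ℕ) (hc : 2 ≤ c) (hcd : c ≤ d) (hn : c + d ≤ n) :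
    Module.finrank k ↥(⨆ α : {α : Fin (n + 1) → ℤ // ∑ i, α i = 0},
      tPiece (Ideal.span {f : MvPolynomial (Fin (n + 1)) k | ∃ i j : Fin (n + 1), i.val + 1 ≤ c ∧ n + 1 ≤ j.val + d ∧
        f = MvPolynomial.X i * MvPolynomial.X j}) α.1) = c * (n - c + 1) + d * (n - d + 1) := by
  exact main k n c d hc hcd hn

end Groth.Agent.S13451
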