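import Groth.Statements.S1348
import Groth.Agent.Lib.Seat6Slice2
import Groth.Agent.Lib.Helper25FlatBC

set_option autoImplicit false
set_option linter.style.haveILetI false
universe u
open FlatMor

namespace Groth.Agent.S1348

open AlgebraicGeometry CategoryTheory Limits in
/-- Let f be locally of finite presentation and flat at a point x with image s, and let h be an element
of the maximal ideal of the local ring at x whose image in the local ring of the fibre (the local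
ring at x modulo the ideal generated by the maximal ideal at s) is a nonzerodivisor. Then there is
an affine open neighbourhood U of x and a nonzerodivisor of its coordinate ring with germ h at x (so
its zero locus is an effective Cartier divisor of U through x) whose zero scheme is flat and locally
of finite presentation over the base. -/
theorem result {X S : Scheme.{u}} (f : X ⟶ S) [LocallyOfFinitePresentation f] (x : X)
    (hflat : (f.stalkMap x).hom.Flat) (h : X.presheaf.stalk x) (hm : h ∈ IsLocalRing.maximalIdeal (X.presheaf.stalk x))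
    (hreg : Ideal.Quotient.mk (Ideal.map (f.stalkMap x).hom (IsLocalRing.maximalIdeal (S.presheaf.stalk (f x)))) h ∈
      nonZeroDivisors (X.presheaf.stalk x ⧸ Ideal.map (f.stalkMap x).hom (IsLocalRing.maximalIdeal (S.presheaf.stalk (f x))))) :
    ∃ (U : X.Opens) (hU : IsAffineOpen U) (hx : x ∈ U) (h' : Γ(X, U)), X.presheaf.germ U x hx h' = h ∧ h' ∈ nonZeroDivisors Γ(X, U) ∧
      Flat (Spec.map (CommRingCat.ofHom (Ideal.Quotient.mk (Ideal.span {h'}))) ≫ hU.fromSpec ≫ f) ∧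
      LocallyOfFinitePresentation (Spec.map (CommRingCat.ofHom (Ideal.Quotient.mk (Ideal.span {h'}))) ≫ hU.fromSpec ≫ f) := by
  classical
  -- a section with germ `h`
  obtain ⟨W, hxW, h₀, hh₀⟩ := TopCat.Presheaf.exists_germ_eq X.presheaf h
  -- affine charts
  obtain ⟨_, ⟨V₀, hV₀, rfl⟩, hfxV₀, -⟩ := S.isBasis_affineOpens.exists_subset_of_mem_open
    (Set.mem_univ (f x)) isOpen_univ
  replace hV₀ : IsAffineOpen V₀ := hV₀
  replace hfxV₀ : f x ∈ V₀ := hfxV₀
  have hxWV : x ∈ W ⊓ f ⁻¹ᵁ V₀ := ⟨hxW, hfxV₀⟩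
  obtain ⟨_, ⟨U₀, hU₀, rfl⟩, hxU₀, hU₀le⟩ := X.isBasis_affineOpens.exists_subset_of_mem_open
    hxWV (W ⊓ f ⁻¹ᵁ V₀).2
  replace hU₀ : IsAffineOpen U₀ := hU₀
  replace hxU₀ : x ∈ U₀ := hxU₀
  have hU₀W : U₀ ≤ W := fun y hy => (hU₀le hy).1
  have e : U₀ ≤ f ⁻¹ᵁ V₀ := fun y hy => (hU₀le hy).2
  -- the ring data
  letI algRB : Algebra Γ(S, V₀) Γ(X, U₀) := (f.appLE V₀ U₀ e).hom.toAlgebra
  haveI hfp : Algebra.FinitePresentation Γ(S, V₀) Γ(X, U₀) :=
    (HasRingHomProperty.iff_appLE (P := @LocallyOfFinitePresentation)).1 inferInstance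
      ⟨V₀, hV₀⟩ ⟨U₀, hU₀⟩ e
  set q := (hU₀.primeIdealOf ⟨x, hxU₀⟩).asIdeal with hqdef
  set p := (hV₀.primeIdealOf ⟨f x, hfxV₀⟩).asIdeal with hpdef
  have hqp : q.comap (algebraMap Γ(S, V₀) Γ(X, U₀)) = p :=
    congrArg PrimeSpectrum.asIdeal
      (IsAffineOpen.comap_primeIdealOf_appLE V₀ hV₀ U₀ hU₀ e hxU₀)
  set s : Γ(X, U₀) := X.presheaf.map (homOfLE hU₀W).op h₀ with hs
  have hgerm_s : X.presheaf.germ U₀ x hxU₀ s = h := by
    rw [hs, TopCat.Presheaf.germ_res_apply, hh₀]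
  have hflat' : Module.Flat Γ(S, V₀) (Localization.AtPrime q) :=
    (Groth.Agent.Lib.Helper25.FlatBC.flat_stalkMap_iff_chart' V₀ hV₀ U₀ hU₀ e hxU₀).1 hflat
  -- the stalk as a localization
  letI algX : Algebra Γ(X, U₀) (X.presheaf.stalk x) :=
    TopCat.Presheaf.algebra_section_stalk X.presheaf ⟨x, hxU₀⟩
  letI algS : Algebra Γ(S, V₀) (S.presheaf.stalk (f x)) :=
    TopCat.Presheaf.algebra_section_stalk S.presheaf ⟨f x, hfxV₀⟩
  haveI hlocX : IsLocalization.AtPrime (X.presheaf.stalk x) q :=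
    hU₀.isLocalization_stalk ⟨x, hxU₀⟩
  haveI hlocS : IsLocalization.AtPrime (S.presheaf.stalk (f x)) p :=
    hV₀.isLocalization_stalk ⟨f x, hfxV₀⟩
  have halgX : ∀ b : Γ(X, U₀), algebraMap Γ(X, U₀) (X.presheaf.stalk x) b =
      X.presheaf.germ U₀ x hxU₀ b := fun _ => rfl
  have halgS : ∀ r : Γ(S, V₀), algebraMap Γ(S, V₀) (S.presheaf.stalk (f x)) r =
      S.presheaf.germ V₀ (f x) hfxV₀ r := fun _ => rfl
  have hF1 : ∀ r : Γ(S, V₀), X.presheaf.germ U₀ x hxU₀ (algebraMap Γ(S, V₀) Γ(X, U₀) r) =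
      f.stalkMap x (S.presheaf.germ V₀ (f x) hfxV₀ r) := by
    intro r
    rw [Scheme.Hom.germ_stalkMap_apply]
    change X.presheaf.germ U₀ x hxU₀ ((f.appLE V₀ U₀ e) r) = _
    rw [Scheme.Hom.appLE, CommRingCat.comp_apply, TopCat.Presheaf.germ_res_apply]
  set J := Ideal.map (f.stalkMap x).hom (IsLocalRing.maximalIdeal (S.presheaf.stalk (f x)))
    with hJ
  have hF4 : J = (p.map (algebraMap Γ(S, V₀) Γ(X, U₀))).map
      (algebraMap Γ(X, U₀) (X.presheaf.stalk x)) := by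
    rw [hJ, ← IsLocalization.AtPrime.map_eq_maximalIdeal p (S.presheaf.stalk (f x)),
      Ideal.map_map, Ideal.map_map]
    congr 1
    ext r
    rw [RingHom.comp_apply, RingHom.comp_apply, halgX, halgS, hF1]
  have hloc : ∀ n : Γ(X, U₀), s * n ∈ p.map (algebraMap Γ(S, V₀) Γ(X, U₀)) →
      ∃ w : Γ(X, U₀), w ∉ q ∧ w * n ∈ p.map (algebraMap Γ(S, V₀) Γ(X, U₀)) := by
    intro n hn
    have h1 : algebraMap Γ(X, U₀) (X.presheaf.stalk x) (s * n) ∈ J := by
      rw [hF4]; exact Ideal.mem_map_of_mem _ hn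
    rw [map_mul, halgX s, hgerm_s] at h1
    have h2 : algebraMap Γ(X, U₀) (X.presheaf.stalk x) n ∈ J := by
      rw [← Ideal.Quotient.eq_zero_iff_mem] at h1 ⊢
      rw [map_mul, mul_comm] at h1
      exact (mem_nonZeroDivisors_iff_right.1 hreg) _ h1
    rw [hF4] at h2
    obtain ⟨⟨i, w⟩, hiw⟩ :=
      (IsLocalization.mem_map_algebraMap_iff q.primeCompl (X.presheaf.stalk x)).1 h2
    rw [← map_mul] at hiw
    obtain ⟨c, hc⟩ := (IsLocalization.eq_iff_exists q.primeCompl (X.presheaf.stalk x)).1 hiw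
    refine ⟨c * w, (q.primeCompl.mul_mem c.2 w.2), ?_⟩
    have : (c : Γ(X, U₀)) * w * n = c * (n * w) := by ring
    rw [this, hc]
    exact Ideal.mul_mem_left _ _ i.2
  obtain ⟨g, hgq, hT⟩ := Groth.Agent.Lib.Seat6.Slice.exists_slice' p q hqp s hflat' hloc
  -- the basic open
  have hU : IsAffineOpen (X.basicOpen g) := hU₀.basicOpen g
  have hxU : x ∈ X.basicOpen g := by
    have h1 : hU₀.fromSpec (hU₀.primeIdealOf ⟨x, hxU₀⟩) ∈ X.basicOpen g := by
      change hU₀.primeIdealOf ⟨x, hxU₀⟩ ∈ hU₀.fromSpec ⁻¹ᵁ X.basicOpen g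
      rw [hU₀.fromSpec_preimage_basicOpen]
      exact hgq
    rwa [hU₀.fromSpec_primeIdealOf] at h1
  have e' : X.basicOpen g ≤ f ⁻¹ᵁ V₀ := (X.basicOpen_le g).trans e
  haveI hlocT : IsLocalization.Away g Γ(X, X.basicOpen g) := hU₀.isLocalization_basicOpen g
  letI algRT : Algebra Γ(S, V₀) Γ(X, X.basicOpen g) := (f.appLE V₀ (X.basicOpen g) e').hom.toAlgebra
  haveI htower : IsScalarTower Γ(S, V₀) Γ(X, U₀) Γ(X, X.basicOpen g) := by
    apply IsScalarTower.of_algebraMap_eq'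
    rw [RingHom.algebraMap_toAlgebra, RingHom.algebraMap_toAlgebra, RingHom.algebraMap_toAlgebra,
      ← CommRingCat.hom_comp, Scheme.Hom.appLE_map]
  obtain ⟨hnzd, hTflat, hquot⟩ := hT Γ(X, X.basicOpen g)
  set h' : Γ(X, X.basicOpen g) := algebraMap Γ(X, U₀) Γ(X, X.basicOpen g) s with hh'
  have hgerm : X.presheaf.germ (X.basicOpen g) x hxU h' = h := by
    rw [hh']
    change X.presheaf.germ (X.basicOpen g) x hxU
      (X.presheaf.map (homOfLE (X.basicOpen_le g)).op s) = h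
    rw [TopCat.Presheaf.germ_res_apply, hgerm_s]
  have hcomp : hU.fromSpec ≫ f = Spec.map (f.appLE V₀ (X.basicOpen g) e') ≫ hV₀.fromSpec :=
    (IsAffineOpen.SpecMap_appLE_fromSpec f hV₀ hU e').symm
  refine ⟨X.basicOpen g, hU, hxU, h', hgerm, hnzd, ?_, ?_⟩
  · rw [hcomp, ← Category.assoc, ← Spec.map_comp]
    haveI : Flat (Spec.map (f.appLE V₀ (X.basicOpen g) e' ≫
        CommRingCat.ofHom (Ideal.Quotient.mk (Ideal.span {h'})))) := by
      rw [HasRingHomProperty.Spec_iff (P := @Flat)]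
      change (algebraMap Γ(S, V₀) (Γ(X, X.basicOpen g) ⧸ Ideal.span {h'})).Flat
      rw [RingHom.flat_algebraMap_iff]
      exact hquot
    infer_instance
  · haveI : LocallyOfFinitePresentation
        (Spec.map (CommRingCat.ofHom (Ideal.Quotient.mk (Ideal.span {h'})))) := by
      rw [HasRingHomProperty.Spec_iff (P := @LocallyOfFinitePresentation)]
      exact RingHom.FinitePresentation.of_surjective _ Ideal.Quotient.mk_surjective
        (by rw [CommRingCat.hom_ofHom, Ideal.mk_ker]; exact ⟨{h'}, by simp⟩)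
    infer_instance

end Groth.Agent.S1348
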