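import Groth.Statements.S13572
import Groth.Agent.Lib.Seat58QuotStAtlasProp

set_option autoImplicit false
universe u
open CategoryTheory AlgebraicGeometry MonoidalCategory
open AlgSt

namespace Groth.Agent.S13572

open Groth.Agent.Lib.Seat58.QuotStAtlas Groth.Agent.Lib.Seat58.QuotStAtlasProp

/-- For a group action: let `G` be a group scheme over `S` that is flat, locally of finite presentation
and affine over `S`, acting on a scheme `X` over `S`. Then the canonical morphism `X ⟶ [X/G]`
(sending a `T`-point `x` of `X` to the trivial torsor `G ×_S T` with the equivariant map `(g, t) ↦ g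
· x(t)`) is representable by algebraic spaces and flat, locally of finite presentation, and
surjective. (The published statement is for a groupoid in algebraic spaces with flat, locally
finitely presented source and target; this row is the action groupoid of an affine group scheme.) -/
theorem result {S : Scheme.{u}} (G : Over S) [GrpObj G]
    [Flat G.hom] [LocallyOfFinitePresentation G.hom] [IsAffineHom G.hom] (X : Over S) (aX : AlgGrp.Action G X) :
    AlgSt.RepByAlgSpWith (AlgSp.LocP @Flat)
        (BasedFunctor.comp (AlgSt.ofOverCat X) (AlgSt.quotMap Scheme.fppfPrecoverage G aX)) ∧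
      AlgSt.RepByAlgSpWith (AlgSp.LocP @LocallyOfFinitePresentation)
        (BasedFunctor.comp (AlgSt.ofOverCat X) (AlgSt.quotMap Scheme.fppfPrecoverage G aX)) ∧
      AlgSt.RepByAlgSpWith AlgSp.IsSurjectiveMor
        (BasedFunctor.comp (AlgSt.ofOverCat X) (AlgSt.quotMap Scheme.fppfPrecoverage G aX)) := by
  refine ⟨?_, ?_, ?_⟩
  · intro U y
    refine ⟨⟨(AlgSp.yon S).obj (BB y).P, AlgSp.IsAlgSpace.yon_obj _⟩, cmp y, isEquivOver_cmp y, ?_⟩
    rw [spMapOfOver_cmp]
    exact Groth.Agent.Lib.Helper15LocEss.locP_yon_map_of_flat _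
      (prop_πU_left y @Flat Groth.Agent.Lib.Helper12.descendsAlong_flat inferInstance)
  · intro U y
    refine ⟨⟨(AlgSp.yon S).obj (BB y).P, AlgSp.IsAlgSpace.yon_obj _⟩, cmp y, isEquivOver_cmp y, ?_⟩
    rw [spMapOfOver_cmp]
    exact Groth.Agent.Lib.Helper15LocEss.locP_yon_map_of_lfp _
      (prop_πU_left y @LocallyOfFinitePresentation inferInstance inferInstance)
  · intro U y
    refine ⟨⟨(AlgSp.yon S).obj (BB y).P, AlgSp.IsAlgSpace.yon_obj _⟩, cmp y, isEquivOver_cmp y, ?_⟩
    rw [spMapOfOver_cmp]
    exact isSurjectiveMor_yon_map_πU y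

end Groth.Agent.S13572
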