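import Groth.Statements.S13573
import Groth.Agent.Lib.Seat58QuotStAtlasProp

set_option autoImplicit false
universe u
open CategoryTheory AlgebraicGeometry MonoidalCategory
open AlgSt

namespace Groth.Agent.S13573

open Groth.Agent.Lib.Seat58.QuotStAtlas Groth.Agent.Lib.Seat58.QuotStAtlasProp

/-- For a group action: let `G` be a group scheme over `S` that is smooth and affine over `S`, acting on
a scheme `X` over `S`. Then the canonical morphism `X ⟶ [X/G]` (sending a `T`-point `x` of `X` to
the trivial torsor `G ×_S T` with the equivariant map `(g, t) ↦ g · x(t)`) is representable by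
algebraic spaces, smooth, and surjective. (The published statement is for a smooth groupoid in
algebraic spaces; this row is the action groupoid of a smooth affine group scheme.) -/
theorem result {S : Scheme.{u}} (G : Over S) [GrpObj G]
    [Smooth G.hom] [IsAffineHom G.hom] (X : Over S) (aX : AlgGrp.Action G X) :
    AlgSt.RepByAlgSpWith (AlgSp.LocP @Smooth)
        (BasedFunctor.comp (AlgSt.ofOverCat X) (AlgSt.quotMap Scheme.fppfPrecoverage G aX)) ∧
      AlgSt.RepByAlgSpWith AlgSp.IsSurjectiveMor
        (BasedFunctor.comp (AlgSt.ofOverCat X) (AlgSt.quotMap Scheme.fppfPrecoverage G aX)) := by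
  refine ⟨?_, ?_⟩
  · intro U y
    refine ⟨⟨(AlgSp.yon S).obj (BB y).P, AlgSp.IsAlgSpace.yon_obj _⟩, cmp y, isEquivOver_cmp y, ?_⟩
    rw [spMapOfOver_cmp]
    exact locP_yon_map_of_smooth _
      (prop_πU_left y @Smooth inferInstance inferInstance)
  · intro U y
    refine ⟨⟨(AlgSp.yon S).obj (BB y).P, AlgSp.IsAlgSpace.yon_obj _⟩, cmp y, isEquivOver_cmp y, ?_⟩
    rw [spMapOfOver_cmp]
    exact isSurjectiveMor_yon_map_πU y

end Groth.Agent.S13573
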