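import Groth.Statements.S13626
import Groth.Agent.S0927
import Groth.Agent.Lib.Seat81EdgeMod
import Groth.Agent.Lib.Helper18PBUnit2
import Groth.Agent.Lib.Helper21Dual5

set_option autoImplicit false
universe u
open CategoryTheory CategoryTheory.Limits AlgebraicGeometry
open Coh

namespace Groth.Agent.S13626

open Groth.Agent.Lib.Helper21.ModTensor3 Groth.Agent.Lib.Helper21.ModTensor5
  Groth.Agent.Lib.Helper21.Dual Groth.Agent.Lib.Seat16.ProjFormula Groth.Agent.Lib.Helper1.PT

/-- cohomology is invariant under isomorphisms of sheaves -/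
noncomputable def hEquiv {Y : Scheme.{u}}
    {F G : Sheaf (Opens.grothendieckTopology Y) AddCommGrpCat.{u}} (ψ : F ≅ G) (p : ℕ) :
    Sheaf.H F p ≃+ Sheaf.H G p where
  toFun := Sheaf.H.map ψ.hom p
  invFun := Sheaf.H.map ψ.inv p
  left_inv x := by
    rw [← Sheaf.H.map_comp_apply, ψ.hom_inv_id, Sheaf.H.map_id_apply]
  right_inv x := by
    rw [← Sheaf.H.map_comp_apply, ψ.inv_hom_id, Sheaf.H.map_id_apply]
  map_add' x y := map_add _ x y

/-- cohomology is invariant under isomorphisms of modules -/
noncomputable def hhEquiv {Y : Scheme.{u}} {M N : Y.Modules} (φ : M ≅ N) (p : ℕ) :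
    Coh.HH Y M p ≃+ Coh.HH Y N p :=
  hEquiv ((SheafOfModules.toSheaf Y.ringCatSheaf).mapIso φ) p

/-- Let f : X → Y be a morphism of schemes with R^i f_* O_X = 0 for every i ≥ 1 and f_* O_X ≅ O_Y. Then
for every invertible O_Y-module L and every p ≥ 0 the groups H^p(X, f^* L) and H^p(Y, L) are
isomorphic (existence of a group isomorphism; the higher direct images are the right derived
functors of f_* on O_X-modules, under the instance argument recording that O_X-modules have
injective resolutions). -/
theorem result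
    {X Y : Scheme.{u}} (f : X ⟶ Y) [HasInjectiveResolutions X.Modules]
    (hR : ∀ i : ℕ, IsZero ((Coh.Rpush f (i + 1)).obj (Coh.structureModule X)))
    (h0 : Nonempty ((Coh.push f).obj (Coh.structureModule X) ≅ Coh.structureModule Y))
    (L : Y.Modules) (hL : PicF.IsInvertible L) (p : ℕ) :
    Nonempty (Coh.HH X ((Scheme.Modules.pullback f).obj L) p ≃+ Coh.HH Y L p) := by
  obtain ⟨e0⟩ := h0
  have hLF : FlatMod.IsFinLocFree L := Groth.Agent.Helper18PBUnit.isFinLocFree_of_isInvertible hL
  let TY : Y.Modules ⥤ Y.Modules := DCoh.tensorBi.obj L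
  have : TY.Additive := tL_additive Y.sheaf L
  -- right unit isomorphisms
  let rX : CohB1.tensorMod ((Scheme.Modules.pullback f).obj L) (Coh.structureModule X) ≅
      (Scheme.Modules.pullback f).obj L := rU X.sheaf ((Scheme.Modules.pullback f).obj L)
  let rY : CohB1.tensorMod L (Coh.structureModule Y) ≅ L := rU Y.sheaf L
  -- vanishing of the higher direct images of `f^* L`
  have hvan : ∀ q : ℕ, 0 < q → IsZero ((Coh.Rpush f q).obj ((Scheme.Modules.pullback f).obj L)) := by
    intro q hq
    obtain ⟨q', rfl⟩ := Nat.exists_eq_succ_of_ne_zero hq.ne'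
    obtain ⟨e⟩ := Groth.Agent.S0927.result f (Coh.structureModule X) L hLF (q' + 1)
    have hz : IsZero (TY.obj ((Coh.Rpush f (q' + 1)).obj (Coh.structureModule X))) :=
      TY.map_isZero (hR q')
    exact (hz.of_iso e.symm).of_iso ((Coh.Rpush f (q' + 1)).mapIso rX.symm)
  have hb := Groth.Agent.Lib.Seat81.EdgeMod.pushEdge_bijective f
    ((Scheme.Modules.pullback f).obj L) hvan p
  -- `f_* f^* L ≅ L`
  let φ : (Scheme.Modules.pushforward f).obj ((Scheme.Modules.pullback f).obj L) ≅ L :=
    (Scheme.Modules.pushforward f).mapIso rX.symm ≪≫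
      ((projIso f L hLF).app (Coh.structureModule X)).symm ≪≫ TY.mapIso e0 ≪≫ rY
  exact ⟨(AddEquiv.ofBijective _ hb).symm.trans (hhEquiv φ p)⟩

end Groth.Agent.S13626
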