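import Groth.Statements.S13635
import Groth.Agent.Lib.Seat98MultSch
import Groth.Agent.S13634
set_option backward.isDefEq.respectTransparency.types false

set_option autoImplicit false
universe u w
open CategoryTheory CategoryTheory.Limits MonoidalCategory CartesianMonoidalCategory MonObj AlgebraicGeometry
open MultSch

namespace Groth.Agent.S13635

open Groth.Agent.Lib.Seat98.ShDesc Groth.Agent.Lib.Seat98.MultSchLib

/-- Let M₁ → M₂ → M₃ → 0 be a sequence of R-module schemes over a scheme S, with R-linear homomorphisms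
j : M₁ → M₂ and π : M₂ → M₃, exact as a sequence of fppf sheaves. For n ≥ 1 and an R-module scheme
N, the sequence 0 → Alt(M₃^n, N) → Alt(M₂^n, N) → Alt(M₁ × M₂^(n-1), N) of R-multilinear alternating
morphisms is exact: an R-multilinear alternating φ : M₂^n → N which is trivial on all points with
first coordinate in the image of j is of the form φ' ∘ π^n for a unique morphism φ' : M₃^n → N
(unique among all morphisms), and this φ' is R-multilinear and alternating. -/
theorem result
    {S : Scheme.{u}} {R : Type w} [CommRing R] {M₁ M₂ M₃ N : Over S}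
    [GrpObj M₁] [IsCommMonObj M₁] [GrpObj M₂] [IsCommMonObj M₂] [GrpObj M₃] [IsCommMonObj M₃]
    [GrpObj N] [IsCommMonObj N]
    (ρ₁ : MultSch.RMod R M₁) (ρ₂ : MultSch.RMod R M₂) (ρ₃ : MultSch.RMod R M₃) (ρN : MultSch.RMod R N)
    (j : M₁ ⟶ M₂) (π : M₂ ⟶ M₃) [IsMonHom j] [IsMonHom π]
    (hj : ∀ a : R, j ≫ ρ₂.act a = ρ₁.act a ≫ j) (hπ : ∀ a : R, π ≫ ρ₃.act a = ρ₂.act a ≫ π)
    (w : j ≫ π = 1) (hex : (CGrpSh.seq Scheme.fppfPrecoverage j π w).Exact)
    (hepi : Epi (CGrpSh.ptsMap Scheme.fppfPrecoverage π))
    {n : ℕ} (hn : 1 ≤ n) (φ : MultSch.pow M₂ n ⟶ N)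
    (hmult : MultSch.IsMultilinear φ) (hlin : MultSch.IsRLinear ρ₂ ρN φ) (halt : MultSch.IsAlternating φ)
    (hvan : ∀ (T : Over S) (y : T ⟶ M₁) (x : Fin n → (T ⟶ M₂)), x ⟨0, hn⟩ = y ≫ j →
      MultSch.tuple x ≫ φ = 1) :
    ∃ φ' : MultSch.pow M₃ n ⟶ N,
      (∀ (T : Over S) (x : Fin n → (T ⟶ M₂)), MultSch.tuple x ≫ φ = MultSch.tuple (fun l => x l ≫ π) ≫ φ') ∧
      MultSch.IsMultilinear φ' ∧ MultSch.IsRLinear ρ₃ ρN φ' ∧ MultSch.IsAlternating φ' ∧
      ∀ φ'' : MultSch.pow M₃ n ⟶ N,
        (∀ (T : Over S) (x : Fin n → (T ⟶ M₂)), MultSch.tuple x ≫ φ = MultSch.tuple (fun l => x l ≫ π) ≫ φ'') →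
          φ'' = φ' := by
  classical
  have hLS : LocSurj (QuotSh.J Scheme.fppfPrecoverage S) π :=
    locSurj_of_epi_ptsMap Scheme.fppfPrecoverage π hepi
  have hLSp : LocSurj (QuotSh.J Scheme.fppfPrecoverage S) (powMap π n) := locSurj_powMap hLS n
  -- vanishing when any coordinate lies in the image of `j`
  have hvan' : ∀ (T : Over S) (y : T ⟶ M₁) (x : Fin n → (T ⟶ M₂)) (i : Fin n), x i = y ≫ j →
      tuple x ≫ φ = 1 := by
    intro T y x i hxi
    by_cases hi : i = ⟨0, hn⟩
    · subst hi
      exact hvan T y x hxi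
    · have hsw := swap_eq_inv φ hmult halt x i ⟨0, hn⟩ hi
      have h1 : tuple (Function.update (Function.update x i (x ⟨0, hn⟩)) ⟨0, hn⟩ (x i)) ≫ φ = 1 := by
        apply hvan T y
        rw [Function.update_self, hxi]
      rw [h1] at hsw
      exact (inv_eq_one.1 hsw.symm)
  -- `φ` only depends on the class of each coordinate modulo the kernel of `π`
  have hslot : ∀ {T : Over S} (x : Fin n → (T ⟶ M₂)) (i : Fin n) (y y' : T ⟶ M₂), y ≫ π = y' ≫ π →
      tuple (Function.update x i y) ≫ φ = tuple (Function.update x i y') ≫ φ := by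
    intro T x i y y' hyy
    have hker : (y * y'⁻¹) ≫ π = 1 := by
      rw [MonObj.mul_comp, GrpObj.inv_comp, hyy, _root_.mul_inv_cancel]
    obtain ⟨R, hR, hlift⟩ := exists_cover_lift_of_exact Scheme.fppfPrecoverage j π w hex
      (y * y'⁻¹) hker
    refine eq_of_locally _ _ R hR ?_
    intro T' g hg
    obtain ⟨t, ht⟩ := hlift g hg
    have hy : g ≫ y = (g ≫ y') * (t ≫ j) := by
      rw [ht, MonObj.comp_mul, GrpObj.comp_inv, _root_.mul_comm (g ≫ y),
        _root_.mul_inv_cancel_left]
    rw [← Category.assoc, ← Category.assoc, comp_tuple, comp_tuple, comp_update, comp_update, hy,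
      hmult, hvan' T' t _ i (Function.update_self ..), _root_.mul_one]
  have hfib : ∀ ⦃T : Over S⦄ (a a' : T ⟶ pow M₂ n),
      a ≫ powMap π n = a' ≫ powMap π n → a ≫ φ = a' ≫ φ := by
    intro T a a' haa
    rw [eq_tuple a, eq_tuple a', tuple_powMap, tuple_powMap] at haa
    have hcoord := tuple_injective haa
    set x := fun l => a ≫ proj l with hx
    set x' := fun l => a' ≫ proj l with hx'
    have hcoord' : ∀ l, x l ≫ π = x' l ≫ π := fun l => congrFun hcoord l
    rw [eq_tuple a, eq_tuple a']
    have key : ∀ s : Finset (Fin n),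
        tuple (fun l => if l ∈ s then x' l else x l) ≫ φ = tuple x ≫ φ := by
      intro s
      induction s using Finset.induction_on with
      | empty => simp
      | insert b s hb ih =>
        rw [← ih]
        have e1 : (fun l => if l ∈ insert b s then x' l else x l) =
            Function.update (fun l => if l ∈ s then x' l else x l) b (x' b) := by
          funext l
          by_cases hl : l = b
          · subst hl
            simp
          · rw [Function.update_of_ne hl]
            simp [hl]
        have e2 : (fun l => if l ∈ s then x' l else x l) =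
            Function.update (fun l => if l ∈ s then x' l else x l) b (x b) := by
          rw [eq_comm]
          convert Function.update_eq_self b _
          simp [hb]
        rw [e1]
        conv_rhs => rw [e2]
        exact hslot _ b _ _ (hcoord' b).symm
    have := key Finset.univ
    simp only [Finset.mem_univ, if_true] at this
    exact this.symm
  obtain ⟨φ', hφ'⟩ := LocSurj.exists_desc hLSp φ hfib
  have hval : ∀ (T : Over S) (x : Fin n → (T ⟶ M₂)),
      tuple x ≫ φ = tuple (fun l => x l ≫ π) ≫ φ' := by
    intro T x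
    rw [← tuple_powMap, Category.assoc, hφ']
  have hmult' : IsMultilinear φ' := by
    intro T x i y z
    obtain ⟨R, hR, hlift⟩ := exists_cover_lift_tuple hLS
      (fun o : Option (Option (Fin n)) => match o with
        | none => y
        | some none => z
        | some (some l) => x l)
    refine eq_of_locally _ _ R hR ?_
    intro T' g hg
    obtain ⟨x₀, hx₀⟩ := hlift g hg
    have hy := hx₀ none
    have hz := hx₀ (some none)
    have hxl : ∀ l, x₀ (some (some l)) ≫ π = g ≫ x l := fun l => hx₀ (some (some l))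
    simp only at hy hz hxl
    rw [MonObj.comp_mul, ← Category.assoc, ← Category.assoc, ← Category.assoc, comp_tuple,
      comp_tuple, comp_tuple, comp_update, comp_update, comp_update, MonObj.comp_mul, ← hy, ← hz,
      ← MonObj.mul_comp]
    have hfun : (fun l => g ≫ x l) = fun l => x₀ (some (some l)) ≫ π := by
      funext l
      rw [hxl]
    rw [hfun, ← update_comp, ← update_comp, ← update_comp, ← hval, ← hval, ← hval, hmult]
  have hlin' : IsRLinear ρ₃ ρN φ' := by
    intro T x i a
    obtain ⟨R, hR, hlift⟩ := exists_cover_lift_tuple hLS x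
    refine eq_of_locally _ _ R hR ?_
    intro T' g hg
    obtain ⟨x₀, hx₀⟩ := hlift g hg
    have hfun : (fun l => g ≫ x l) = fun l => x₀ l ≫ π := by
      funext l
      rw [hx₀]
    rw [← Category.assoc, ← Category.assoc, ← Category.assoc, comp_tuple, comp_tuple, comp_update,
      ← Category.assoc, ← hx₀ i, Category.assoc, hπ, ← Category.assoc, hfun, ← update_comp, ← hval,
      ← hval, hlin]
  refine ⟨φ', hval, hmult', hlin', ?_, ?_⟩
  · refine Groth.Agent.S13634.result π hepi φ' hmult' ?_
    intro T x i k hik hxik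
    rw [← hval]
    exact halt T x i k hik hxik
  · intro φ'' hφ''
    refine LocSurj.hom_ext hLSp _ _ ?_
    rw [hφ']
    have : powMap π n ≫ φ'' = φ := by
      have h1 := hφ'' (pow M₂ n) (fun l => proj l)
      have h2 : tuple (fun l => (proj l : pow M₂ n ⟶ M₂)) = 𝟙 _ := by
        have := eq_tuple (𝟙 (pow M₂ n))
        simp only [Category.id_comp] at this
        exact this.symm
      rw [h2, Category.id_comp, ← tuple_powMap, h2, Category.id_comp] at h1
      exact h1.symm
    exact this

end Groth.Agent.S13635
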