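import Groth.Statements.S13636
import Groth.Agent.Lib.Seat98ShDesc
set_option backward.isDefEq.respectTransparency.types false

set_option autoImplicit false
universe u w
open CategoryTheory CategoryTheory.Limits MonoidalCategory CartesianMonoidalCategory MonObj AlgebraicGeometry
open MultSch

namespace Groth.Agent.S13636

open Groth.Agent.Lib.Seat98.ShDesc

/-- Let M' → M → M'' → 0 be a sequence of R-module schemes over a scheme S, with R-linear homomorphisms
j and π, exact as fppf sheaves, and let ψ : P × M × Q → N be a morphism to an R-module scheme N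
which is additive and R-linear in the coordinate M (on T-valued points) and trivial on all points
whose M-coordinate lies in the image of j. Then ψ = ψ' ∘ (id × π × id) for a unique morphism ψ' : P
× M'' × Q → N, and ψ' is additive and R-linear in the coordinate M''. (The published statement has a
product M₁ × ⋯ × M_r of R-module schemes with the exact sequence in the i-th factor and ψ
R-multilinear; here the factors before and after the i-th are collected into single S-schemes P and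
Q, and only linearity in the i-th coordinate, the one the statement is about, is carried; linearity
in the other coordinates passes between ψ and ψ' formally.) -/
theorem result
    {S : Scheme.{u}} {R : Type w} [CommRing R] {P Q M' M M'' N : Over S}
    [GrpObj M'] [IsCommMonObj M'] [GrpObj M] [IsCommMonObj M] [GrpObj M''] [IsCommMonObj M'']
    [GrpObj N] [IsCommMonObj N]
    (ρ' : MultSch.RMod R M') (ρ : MultSch.RMod R M) (ρ'' : MultSch.RMod R M'') (ρN : MultSch.RMod R N)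
    (j : M' ⟶ M) (π : M ⟶ M'') [IsMonHom j] [IsMonHom π]
    (hj : ∀ a : R, j ≫ ρ.act a = ρ'.act a ≫ j) (hπ : ∀ a : R, π ≫ ρ''.act a = ρ.act a ≫ π)
    (w : j ≫ π = 1) (hex : (CGrpSh.seq Scheme.fppfPrecoverage j π w).Exact)
    (hepi : Epi (CGrpSh.ptsMap Scheme.fppfPrecoverage π))
    (ψ : P ⊗ (M ⊗ Q) ⟶ N)
    (hadd : ∀ (T : Over S) (p : T ⟶ P) (q : T ⟶ Q) (y z : T ⟶ M),
      lift p (lift (y * z) q) ≫ ψ = (lift p (lift y q) ≫ ψ) * (lift p (lift z q) ≫ ψ))
    (hlin : ∀ (T : Over S) (p : T ⟶ P) (q : T ⟶ Q) (y : T ⟶ M) (a : R),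
      lift p (lift (y ≫ ρ.act a) q) ≫ ψ = (lift p (lift y q) ≫ ψ) ≫ ρN.act a)
    (hvan : ∀ (T : Over S) (p : T ⟶ P) (q : T ⟶ Q) (y' : T ⟶ M'), lift p (lift (y' ≫ j) q) ≫ ψ = 1) :
    ∃ ψ' : P ⊗ (M'' ⊗ Q) ⟶ N,
      (P ◁ (π ▷ Q)) ≫ ψ' = ψ ∧
      (∀ (T : Over S) (p : T ⟶ P) (q : T ⟶ Q) (y z : T ⟶ M''),
        lift p (lift (y * z) q) ≫ ψ' = (lift p (lift y q) ≫ ψ') * (lift p (lift z q) ≫ ψ')) ∧
      (∀ (T : Over S) (p : T ⟶ P) (q : T ⟶ Q) (y : T ⟶ M'') (a : R),
        lift p (lift (y ≫ ρ''.act a) q) ≫ ψ' = (lift p (lift y q) ≫ ψ') ≫ ρN.act a) ∧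
      ∀ ψ'' : P ⊗ (M'' ⊗ Q) ⟶ N, (P ◁ (π ▷ Q)) ≫ ψ'' = ψ → ψ'' = ψ' := by
  classical
  have hLS : LocSurj (QuotSh.J Scheme.fppfPrecoverage S) π :=
    locSurj_of_epi_ptsMap Scheme.fppfPrecoverage π hepi
  have hLSp : LocSurj (QuotSh.J Scheme.fppfPrecoverage S) (P ◁ (π ▷ Q)) :=
    LocSurj.whiskerLeft P (LocSurj.whiskerRight hLS Q)
  -- points of the triple product
  have hpt : ∀ {T : Over S} (a : T ⟶ P ⊗ (M ⊗ Q)),
      a = lift (a ≫ fst _ _) (lift (a ≫ snd _ _ ≫ fst _ _) (a ≫ snd _ _ ≫ snd _ _)) := by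
    intro T a
    apply CartesianMonoidalCategory.hom_ext
    · rw [lift_fst]
    · rw [lift_snd]
      apply CartesianMonoidalCategory.hom_ext
      · rw [lift_fst, Category.assoc]
      · rw [lift_snd, Category.assoc]
  have hcomp : ∀ {T : Over S} (p : T ⟶ P) (y : T ⟶ M) (q : T ⟶ Q),
      lift p (lift y q) ≫ (P ◁ (π ▷ Q)) = lift p (lift (y ≫ π) q) := by
    intro T p y q
    apply CartesianMonoidalCategory.hom_ext
    · rw [Category.assoc, whiskerLeft_fst, lift_fst, lift_fst]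
    · rw [Category.assoc, whiskerLeft_snd, lift_snd_assoc, lift_snd]
      apply CartesianMonoidalCategory.hom_ext
      · rw [Category.assoc, whiskerRight_fst, lift_fst_assoc, lift_fst]
      · rw [Category.assoc, whiskerRight_snd, lift_snd, lift_snd]
  -- ψ is constant on the fibres of π in the middle slot
  have hconst : ∀ {T : Over S} (p : T ⟶ P) (q : T ⟶ Q) (y y' : T ⟶ M), y ≫ π = y' ≫ π →
      lift p (lift y q) ≫ ψ = lift p (lift y' q) ≫ ψ := by
    intro T p q y y' hyy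
    have hker : (y * y'⁻¹) ≫ π = 1 := by
      rw [MonObj.mul_comp, GrpObj.inv_comp, hyy, _root_.mul_inv_cancel]
    obtain ⟨R, hR, hlift⟩ := exists_cover_lift_of_exact Scheme.fppfPrecoverage j π w hex
      (y * y'⁻¹) hker
    refine eq_of_locally _ _ R hR ?_
    intro T' g hg
    obtain ⟨t, ht⟩ := hlift g hg
    have hy : g ≫ y = (g ≫ y') * (t ≫ j) := by
      rw [ht, MonObj.comp_mul, GrpObj.comp_inv, _root_.mul_comm (g ≫ y), _root_.mul_inv_cancel_left]
    rw [← Category.assoc, ← Category.assoc, comp_lift, comp_lift, comp_lift, comp_lift, hy, hadd,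
      hvan, _root_.mul_one]
  have hfib : ∀ ⦃T : Over S⦄ (a a' : T ⟶ P ⊗ (M ⊗ Q)),
      a ≫ (P ◁ (π ▷ Q)) = a' ≫ (P ◁ (π ▷ Q)) → a ≫ ψ = a' ≫ ψ := by
    intro T a a' haa
    rw [hpt a, hpt a', hcomp, hcomp] at haa
    have h1 := congrArg (fun z => z ≫ fst _ _) haa
    have h2 := congrArg (fun z => z ≫ snd _ _ ≫ fst _ _) haa
    have h3 := congrArg (fun z => z ≫ snd _ _ ≫ snd _ _) haa
    simp only [lift_fst, lift_snd_assoc, lift_snd] at h1 h2 h3
    rw [hpt a, hpt a', h1, h3]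
    exact hconst _ _ _ _ h2
  obtain ⟨ψ', hψ'⟩ := LocSurj.exists_desc hLSp ψ hfib
  have hval : ∀ {T : Over S} (p : T ⟶ P) (q : T ⟶ Q) (y : T ⟶ M),
      lift p (lift (y ≫ π) q) ≫ ψ' = lift p (lift y q) ≫ ψ := by
    intro T p q y
    rw [← hcomp, Category.assoc, hψ']
  refine ⟨ψ', hψ', ?_, ?_, ?_⟩
  · intro T p q y z
    refine eq_of_locally _ _ _ ((QuotSh.J Scheme.fppfPrecoverage S).intersection_covering
      (hLS y) (hLS z)) ?_
    rintro T' g ⟨⟨y₀, hy₀⟩, ⟨z₀, hz₀⟩⟩
    rw [MonObj.comp_mul, ← Category.assoc, ← Category.assoc, ← Category.assoc, comp_lift,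
      comp_lift, comp_lift, comp_lift, comp_lift, comp_lift, MonObj.comp_mul, ← hy₀, ← hz₀,
      ← MonObj.mul_comp, hval, hval, hval, hadd]
  · intro T p q y a
    refine eq_of_locally _ _ _ (hLS y) ?_
    rintro T' g ⟨y₀, hy₀⟩
    rw [← Category.assoc, ← Category.assoc, ← Category.assoc, comp_lift, comp_lift, comp_lift,
      comp_lift, ← Category.assoc, ← hy₀, Category.assoc, hπ, ← Category.assoc, hval, hval, hlin]
  · intro ψ'' hψ''
    exact LocSurj.hom_ext hLSp _ _ (by rw [hψ'', hψ'])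

end Groth.Agent.S13636
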