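import Groth.Statements.S1368
import Groth.Agent.Lib.Seat6RelAssChart

set_option autoImplicit false
set_option linter.style.haveILetI false
universe u
open FlatMor

namespace Groth.Agent.S1368

open AlgebraicGeometry CategoryTheory Limits in
/-- Let f be of finite type with irreducible target, F a quasi-coherent module of finite type on the
source and U an open of the source. If the associated points of F restricted to the generic fibre
all lie in U, then over some nonempty open of the target the associated points of F restricted to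
every fibre lie in U. -/
theorem result {X Y : Scheme.{u}} (f : X ⟶ Y) [IrreducibleSpace ↑Y] [LocallyOfFiniteType f] [QuasiCompact f]
    (F : X.Modules) (hF : Coh.IsCoh F) (U : X.Opens)
    (h : ∀ x ∈ MoreMor.relAss f F, f x = genericPoint ↑Y → x ∈ U) :
    ∃ V : Y.Opens, (V : Set ↑Y).Nonempty ∧ ∀ x ∈ MoreMor.relAss f F, f x ∈ V → x ∈ U := by
  classical
  haveI : F.IsQuasicoherent := hF.1
  haveI : SheafOfModules.IsFiniteType (R := X.ringCatSheaf) F := hF.2
  obtain ⟨_, ⟨V₀, hV₀, rfl⟩, hη, -⟩ := Y.isBasis_affineOpens.exists_subset_of_mem_open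
    (Set.mem_univ (genericPoint Y)) isOpen_univ
  replace hV₀ : IsAffineOpen V₀ := hV₀
  replace hη : genericPoint Y ∈ V₀ := hη
  set qη := hV₀.primeIdealOf ⟨genericPoint Y, hη⟩ with hqη
  have hfη : hV₀.fromSpec qη = genericPoint Y := hV₀.fromSpec_primeIdealOf _
  have hmin : ∀ p : PrimeSpectrum Γ(Y, V₀), qη ≤ p := fun p => by
    rw [PrimeSpectrum.le_iff_specializes]
    apply (hV₀.fromSpec.isOpenEmbedding.toIsInducing.specializes_iff).1
    rw [hfη]; exact genericPoint_specializes _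
  have hc : IsCompact ((f ⁻¹ᵁ V₀ : X.Opens) : Set X) := f.isCompact_preimage hV₀.isCompact
  obtain ⟨s, hs, hsU⟩ := isCompact_iff_finite_and_eq_biUnion_affineOpens.1 hc
  have hle : ∀ W ∈ s, (W : X.Opens) ≤ f ⁻¹ᵁ V₀ := by
    intro W hW
    rw [hsU]
    exact le_iSup₂ (f := fun (i : X.affineOpens) (_ : i ∈ s) => (i : X.Opens)) W hW
  have hWa : ∀ W : X.affineOpens, IsAffineOpen W.1 := fun W => W.2
  have hUc : IsClosed ((U : Set X)ᶜ) := U.2.isClosed_compl
  have key := fun (W : X.affineOpens) (hW : W ∈ s) =>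
    Groth.Agent.Lib.Seat6.RelAssChart.chart_not f F (hWa W) hV₀ (hle W hW)
      (PrimeSpectrum.vanishingIdeal ((hWa W).fromSpec ⁻¹' ((U : Set X)ᶜ))) qη (by
        intro r hr hIr hmem
        have h1 : (hWa W).fromSpec r ∈ ((U : Set X)ᶜ) :=
          (Groth.Agent.Lib.Seat6.Nwd.mem_iff_vanishingIdeal_le (hWa W) _ hUc r).2 hIr
        apply h1
        apply h _ hmem
        rw [Groth.Agent.Lib.Seat6.Nwd.affine_dict f hV₀ (hWa W) (hle W hW) r, ← hfη]
        congr 1
        exact PrimeSpectrum.ext hr)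
  let a : X.affineOpens → Γ(Y, V₀) := fun W => if hW : W ∈ s then (key W hW).choose else 1
  have ha0 : ∀ W, a W ∉ qη.asIdeal := by
    intro W
    by_cases hW : W ∈ s
    · simp only [a, dif_pos hW]; exact (key W hW).choose_spec.1
    · simp only [a, dif_neg hW]
      exact fun h => qη.2.ne_top ((Ideal.eq_top_iff_one _).2 h)
  have haF : ∀ W, ∀ hW : W ∈ s, ∀ r : Spec Γ(X, W.1),
      qη.asIdeal ≤ r.asIdeal.comap (f.appLE V₀ W.1 (hle W hW)).hom →
      a W ∉ r.asIdeal.comap (f.appLE V₀ W.1 (hle W hW)).hom →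
      PrimeSpectrum.vanishingIdeal ((hWa W).fromSpec ⁻¹' ((U : Set X)ᶜ)) ≤ r.asIdeal →
      (hWa W).fromSpec r ∉ MoreMor.relAss f F := by
    intro W hW
    simp only [a, dif_pos hW]; exact (key W hW).choose_spec.2
  let A : Γ(Y, V₀) := ∏ W ∈ hs.toFinset, a W
  have hA : A ∉ qη.asIdeal := by
    intro hmem
    obtain ⟨W, -, hW⟩ := (qη.2.prod_mem_iff).1 hmem
    exact ha0 W hW
  refine ⟨Y.basicOpen A, ⟨genericPoint Y, ?_⟩, fun x hxF hxV => ?_⟩
  · change genericPoint Y ∈ Y.basicOpen A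
    rw [← hfη, Groth.Agent.Lib.Seat6.Nwd.mem_basicOpen_iff hV₀]
    exact hA
  · by_contra hxU
    have hxV₀ : x ∈ f ⁻¹ᵁ V₀ := Y.basicOpen_le A hxV
    rw [hsU] at hxV₀
    obtain ⟨W, hxW⟩ := TopologicalSpace.Opens.mem_iSup.1 hxV₀
    obtain ⟨hW, hxW⟩ := TopologicalSpace.Opens.mem_iSup.1 hxW
    have e := hle W hW
    set q := (hWa W).primeIdealOf ⟨x, hxW⟩ with hqdef
    have hq : (hWa W).fromSpec q = x := (hWa W).fromSpec_primeIdealOf _
    have hfx : f x = hV₀.fromSpec (Spec.map (f.appLE V₀ W.1 e) q) :=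
      (congrArg f hq).symm.trans (Groth.Agent.Lib.Seat6.Nwd.affine_dict f hV₀ (hWa W) e q)
    have haq : a W ∉ q.asIdeal.comap (f.appLE V₀ W.1 e).hom := by
      intro hmem
      have h1 : (f.appLE V₀ W.1 e).hom A ∈ q.asIdeal := by
        have h2 : A = a W * ∏ W' ∈ hs.toFinset.erase W, a W' :=
          (Finset.mul_prod_erase _ _ (hs.mem_toFinset.2 hW)).symm
        rw [h2, map_mul]
        exact Ideal.mul_mem_right _ _ hmem
      have h2 : f x ∈ Y.basicOpen A := hxV
      rw [hfx, Groth.Agent.Lib.Seat6.Nwd.mem_basicOpen_iff hV₀] at h2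
      exact h2 h1
    have hI : PrimeSpectrum.vanishingIdeal ((hWa W).fromSpec ⁻¹' ((U : Set X)ᶜ)) ≤ q.asIdeal := by
      apply (Groth.Agent.Lib.Seat6.Nwd.mem_iff_vanishingIdeal_le (hWa W) _ hUc q).1
      rw [hq]; exact hxU
    have := haF W hW q (hmin ⟨_, Ideal.comap_isPrime _ _⟩) haq hI
    rw [hq] at this
    exact this hxF

end Groth.Agent.S1368
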