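import Groth.Statements.S1369
import Groth.Agent.Lib.Seat6RelAssChart

set_option autoImplicit false
set_option linter.style.haveILetI false
universe u
open FlatMor

namespace Groth.Agent.S1369

open AlgebraicGeometry CategoryTheory Limits in
/-- Let f be of finite type with irreducible target, F a quasi-coherent module of finite type on the
source and U an open of the source. If some associated point of F restricted to the generic fibre is
not in U, then over some nonempty open of the target every fibre carries an associated point of F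
(restricted to that fibre) outside U. -/
theorem result {X Y : Scheme.{u}} (f : X ⟶ Y) [IrreducibleSpace ↑Y] [LocallyOfFiniteType f] [QuasiCompact f]
    (F : X.Modules) (hF : Coh.IsCoh F) (U : X.Opens)
    (h : ∃ x ∈ MoreMor.relAss f F, f x = genericPoint ↑Y ∧ x ∉ U) :
    ∃ V : Y.Opens, (V : Set ↑Y).Nonempty ∧ ∀ y ∈ V, ∃ x ∈ MoreMor.relAss f F, f x = y ∧ x ∉ U := by
  classical
  haveI : F.IsQuasicoherent := hF.1
  haveI : SheafOfModules.IsFiniteType (R := X.ringCatSheaf) F := hF.2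
  obtain ⟨x, hxF, hxη, hxU⟩ := h
  obtain ⟨_, ⟨V₀, hV₀, rfl⟩, hη, -⟩ := Y.isBasis_affineOpens.exists_subset_of_mem_open
    (Set.mem_univ (f x)) isOpen_univ
  replace hV₀ : IsAffineOpen V₀ := hV₀
  replace hη : f x ∈ V₀ := hη
  obtain ⟨_, ⟨W, hW, rfl⟩, hxW, hWV⟩ := X.isBasis_affineOpens.exists_subset_of_mem_open
    (show x ∈ ((f ⁻¹ᵁ V₀ : X.Opens) : Set X) from hη) (f ⁻¹ᵁ V₀).2
  replace hW : IsAffineOpen W := hW
  replace hxW : x ∈ W := hxW
  have e : W ≤ f ⁻¹ᵁ V₀ := hWV
  set r₀ := hW.primeIdealOf ⟨x, hxW⟩ with hr₀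
  have hr₀x : hW.fromSpec r₀ = x := hW.fromSpec_primeIdealOf _
  obtain ⟨a, ha, H⟩ := Groth.Agent.Lib.Seat6.RelAssChart.chart_exists f F hW hV₀ e r₀
    (hr₀x.symm ▸ hxF)
  have hfx : f x = hV₀.fromSpec (Spec.map (f.appLE V₀ W e) r₀) := by
    rw [← hr₀x]; exact Groth.Agent.Lib.Seat6.Nwd.affine_dict f hV₀ hW e r₀
  refine ⟨Y.basicOpen a, ⟨f x, ?_⟩, fun y hy => ?_⟩
  · change f x ∈ Y.basicOpen a
    rw [hfx, Groth.Agent.Lib.Seat6.Nwd.mem_basicOpen_iff hV₀]
    exact ha
  · have hyV₀ : y ∈ V₀ := Y.basicOpen_le a hy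
    set P := hV₀.primeIdealOf ⟨y, hyV₀⟩ with hP
    have hPy : hV₀.fromSpec P = y := hV₀.fromSpec_primeIdealOf _
    have hle : r₀.asIdeal.comap (f.appLE V₀ W e).hom ≤ P.asIdeal := by
      have h0 : Spec.map (f.appLE V₀ W e) r₀ ⤳ P := by
        apply (hV₀.fromSpec.isOpenEmbedding.toIsInducing.specializes_iff).1
        rw [← hfx, hPy, hxη]
        exact genericPoint_specializes _
      exact (PrimeSpectrum.le_iff_specializes
        (show PrimeSpectrum Γ(Y, V₀) from Spec.map (f.appLE V₀ W e) r₀)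
        (show PrimeSpectrum Γ(Y, V₀) from P)).2 h0
    have haP : a ∉ P.asIdeal := by
      have h1 : y ∈ Y.basicOpen a := hy
      rw [← hPy, Groth.Agent.Lib.Seat6.Nwd.mem_basicOpen_iff hV₀] at h1
      exact h1
    obtain ⟨r, hrP, hr₀r, hrF⟩ := H P hle haP
    refine ⟨hW.fromSpec r, hrF, ?_, fun hmem => hxU ?_⟩
    · rw [Groth.Agent.Lib.Seat6.Nwd.affine_dict f hV₀ hW e r, ← hPy]
      congr 1
      exact PrimeSpectrum.ext hrP
    · have hsp : x ⤳ hW.fromSpec r := by
        rw [← hr₀x, hW.fromSpec.isOpenEmbedding.toIsInducing.specializes_iff]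
        exact (PrimeSpectrum.le_iff_specializes r₀ r).1 hr₀r
      exact hsp.mem_open U.2 hmem

end Groth.Agent.S1369
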