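import Groth.Statements.S13692
import Groth.Agent.Lib.Seat62H1Tensor
import Groth.Agent.Lib.Seat62H1SS

set_option autoImplicit false
set_option linter.style.haveILetI false
universe u v w
open scoped TensorProduct
attribute [local instance] CSAGal.tensorAction GpH1.unitsAction
open GalCoh

namespace Groth.Agent.S13692

open Groth.Agent.Lib.Seat62

/-- The semisimple case, repackaged. -/
theorem isTrivial_of_isSemisimpleRing (k : Type u) [Field k] (K : Type v)
    [Field K] [Algebra k K] [FiniteDimensional k K] [IsGalois k K]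
    (A : Type w) [Ring A] [Algebra k A] [FiniteDimensional k A] [IsSemisimpleRing A] :
    GpH1.H1.IsTrivial (K ≃ₐ[k] K) (K ⊗[k] A)ˣ := by
  intro x
  obtain ⟨a, rfl⟩ := GpH1.OneCocycle.cl_surjective x
  unfold GpH1.H1.pt
  rw [GpH1.OneCocycle.cl_eq_cl_iff]
  obtain ⟨c, hc⟩ := H1SS.exists_unit_of_cocycle a
  refine ⟨c, fun σ => ?_⟩
  have h2 : (GpH1.OneCocycle.trivial : GpH1.OneCocycle (K ≃ₐ[k] K) (K ⊗[k] A)ˣ) σ = 1 := rfl
  rw [h2, mul_one]
  exact hc σ

theorem key (k : Type u) [Field k] (K : Type v)
    [Field K] [Algebra k K] [FiniteDimensional k K] [IsGalois k K] (d : ℕ) :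
    ∀ (A : Type w) [Ring A] [Algebra k A] [FiniteDimensional k A],
      Module.finrank k A ≤ d → GpH1.H1.IsTrivial (K ≃ₐ[k] K) (K ⊗[k] A)ˣ := by
  induction d with
  | zero =>
    intro A _ _ _ hd
    have hA : Subsingleton A := Module.finrank_zero_iff.mp (Nat.le_zero.mp hd)
    haveI : IsArtinianRing A := IsArtinianRing.of_finite k A
    have hJ : Ring.jacobson A = ⊥ := by
      apply Submodule.ext
      intro x
      rw [Subsingleton.elim x 0]
      simp
    haveI : IsSemisimpleRing A := IsArtinianRing.isSemisimpleRing_iff_jacobson.mpr hJ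
    exact isTrivial_of_isSemisimpleRing k K A
  | succ d ih =>
    intro A _ _ _ hd
    haveI : IsArtinianRing A := IsArtinianRing.of_finite k A
    by_cases hJ : Ring.jacobson A = ⊥
    · haveI : IsSemisimpleRing A := IsArtinianRing.isSemisimpleRing_iff_jacobson.mpr hJ
      exact isTrivial_of_isSemisimpleRing k K A
    · have hnil : ∃ m : ℕ, Ring.jacobson A ^ m = ⊥ := by
        obtain ⟨m, hm⟩ := (IsSemiprimaryRing.isNilpotent : IsNilpotent (Ring.jacobson A))
        exact ⟨m, by rw [hm, Ideal.zero_eq_bot]⟩
      classical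
      have hm₀ := Nat.find_spec hnil
      have hmin := fun m => Nat.find_min hnil (m := m)
      set m₀ := Nat.find hnil with hm₀def
      have hm₀pos : m₀ ≠ 0 := by
        intro h0
        rw [h0, Submodule.pow_zero, Ideal.one_eq_top] at hm₀
        apply hJ
        rw [eq_bot_iff, ← hm₀]
        exact le_top
      have hI : Ring.jacobson A ^ (m₀ - 1) ≠ ⊥ := hmin (m₀ - 1) (by omega)
      have hm₀1 : m₀ ≠ 1 := by
        intro h1
        apply hJ
        rw [h1, Submodule.pow_one] at hm₀
        exact hm₀
      have hII : ∀ x y : A, x ∈ Ring.jacobson A ^ (m₀ - 1) → y ∈ Ring.jacobson A ^ (m₀ - 1) →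
          x * y = 0 := by
        intro x y hx hy
        have h1 : x * y ∈ Ring.jacobson A ^ (m₀ - 1) * Ring.jacobson A ^ (m₀ - 1) :=
          Ideal.mul_mem_mul hx hy
        rw [← Ideal.IsTwoSided.pow_add] at h1
        have h2 : Ring.jacobson A ^ (m₀ - 1 + (m₀ - 1)) ≤ Ring.jacobson A ^ m₀ :=
          Ideal.pow_le_pow_right (by omega)
        have h3 := h2 h1
        rw [hm₀] at h3
        exact (Submodule.mem_bot A).mp h3
      let I : Ideal A := Ring.jacobson A ^ (m₀ - 1)
      let f : A →ₐ[k] A ⧸ I := Ideal.Quotient.mkₐ k I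
      have hf : Function.Surjective f := Ideal.Quotient.mkₐ_surjective k I
      have hker : ∀ x : A, f x = 0 ↔ x ∈ I := fun x => Ideal.Quotient.eq_zero_iff_mem
      haveI : FiniteDimensional k (A ⧸ I) := Module.Finite.of_surjective f.toLinearMap hf
      have hlt : Module.finrank k (A ⧸ I) ≤ d := by
        have h1 := LinearMap.finrank_range_add_finrank_ker f.toLinearMap
        have h2 : LinearMap.range f.toLinearMap = ⊤ := LinearMap.range_eq_top.mpr hf
        rw [h2, finrank_top] at h1
        have h3 : 0 < Module.finrank k (LinearMap.ker f.toLinearMap) := by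
          rw [Module.finrank_pos_iff]
          obtain ⟨x, hx, hx0⟩ := Submodule.exists_mem_ne_zero_of_ne_bot hI
          exact ⟨⟨⟨x, (hker x).mpr hx⟩, 0, fun h => hx0 (congrArg Subtype.val h)⟩⟩
        omega
      have h' := ih (A ⧸ I) hlt
      exact H1Tensor.isTrivial_of_surjective_sqZero k K f hf
        (fun x y hx hy => hII x y ((hker x).mp hx) ((hker y).mp hy)) h'

/-- Let K be a finite Galois extension of a field k with Galois group G = Aut_k(K), and A a
finite-dimensional associative unital k-algebra, not assumed simple or central. Then H¹(G, (K ⊗_k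
A)ˣ) is trivial, G acting on K ⊗_k A through the first factor. (The published statement allows any
Galois extension and reduces to the finite case by a direct limit; the finite case is stated.) -/
theorem result (k : Type u) [Field k] (K : Type v)
    [Field K] [Algebra k K] [FiniteDimensional k K] [IsGalois k K]
    (A : Type w) [Ring A] [Algebra k A] [FiniteDimensional k A] :
    GpH1.H1.IsTrivial (K ≃ₐ[k] K) (K ⊗[k] A)ˣ := by
  exact key k K (Module.finrank k A) A le_rfl

end Groth.Agent.S13692
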