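import Groth.Statements.S13730
import Groth.Agent.Lib.Helper14TSGamma5
import Groth.Agent.Lib.Seat74TSPure
import Groth.Agent.Lib.Seat74TPowRed

set_option autoImplicit false
universe u
open scoped TensorProduct
open ZeroCyc

namespace Groth.Agent.S13730

/-- Let (C, γ) be the algebra of divided powers Γ^d_A(B) of a commutative A-algebra B with its universal
multiplicative law γ : B → C homogeneous of degree d (every multiplicative law B → C' homogeneous of
degree d factors uniquely through γ by an algebra map C → C'). If B is flat over A and K ⊗_A B is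
reduced for every field K receiving a ring map from A (X = Spec B → S = Spec A is flat with
geometrically reduced fibres), then K ⊗_A C is reduced for every such K: Γ^d_A(B) again has
geometrically reduced fibres over A. (The published statement is for a flat morphism of algebraic
spaces X → S with geometrically reduced fibres and also records that Γ^d(X/S) → S is flat; this row
is the affine case and states only the reducedness of the fibres, flatness of Γ^d_A(B) for flat B
being a separate statement.) -/
theorem result {A : Type u} [CommRing A] {B : Type u} [CommRing B] [Algebra A B] {C : Type u} [CommRing C] [Algebra A C]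
    {d : ℕ} (γ : PolLaw.MulLaw A B C d) (hγ : PolLaw.IsGammaD γ) [Module.Flat A B]
    (hred : ∀ (K : Type u) [Field K] [Algebra A K], IsReduced (K ⊗[A] B)) :
    ∀ (K : Type u) [Field K] [Algebra A K], IsReduced (K ⊗[A] C) := by
  classical
  intro K _ _
  have hτ := Groth.Agent.Lib.Helper14.TSGamma.isGammaD_tau_flat (A := A) (B := B) d
  obtain ⟨f, hf, -⟩ := hγ _ (Groth.Agent.Lib.Helper14.TSGamma.tau (A := A) (B := B) d)
  obtain ⟨g, hg, -⟩ := hτ C γ
  have h1 : PolLaw.postcomp (g.comp f).toLinearMap γ.law = γ.law := by
    ext S _ _ t
    show (g.comp f).toLinearMap.lTensor S (γ.law.toFun' S t) = _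
    rw [AlgHom.comp_toLinearMap, LinearMap.lTensor_comp, LinearMap.comp_apply]
    have h2 : f.toLinearMap.lTensor S (γ.law.toFun' S t) =
        (Groth.Agent.Lib.Helper14.TSGamma.tau (A := A) (B := B) d).law.toFun' S t := by
      rw [← hf]
      rfl
    rw [h2, ← hg]
    rfl
  have h3 : PolLaw.postcomp (AlgHom.id A C).toLinearMap γ.law = γ.law := by
    ext S _ _ t
    show (AlgHom.id A C).toLinearMap.lTensor S (γ.law.toFun' S t) = _
    simp
  have h4 : g.comp f = AlgHom.id A C := (hγ C γ).unique h1 h3
  -- `K ⊗ C ↪ K ⊗ TS` (split injection)
  have hinj1 : Function.Injective (Algebra.TensorProduct.map (AlgHom.id K K) f) := by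
    have hcomp : (Algebra.TensorProduct.map (AlgHom.id K K) g).comp
        (Algebra.TensorProduct.map (AlgHom.id K K) f) = AlgHom.id K (K ⊗[A] C) := by
      rw [← Algebra.TensorProduct.map_comp, h4]
      ext; simp
    exact Function.LeftInverse.injective (g := Algebra.TensorProduct.map (AlgHom.id K K) g)
      (fun x => congrArg (fun k : K ⊗[A] C →ₐ[K] K ⊗[A] C => k x) hcomp)
  -- `K ⊗ TS ↪ K ⊗ T^d(B)` (purity)
  have hinj2 : Function.Injective
      (Algebra.TensorProduct.map (AlgHom.id K K) (SymTen.TS A B d).val) :=
    Groth.Agent.Lib.Seat74.TSPure.lTensor_TS_injective (A := A) (B := B) d K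
  have hR := Groth.Agent.Lib.Seat74.TPowRed.isReduced_tensor_tpow hred d K
  exact isReduced_of_injective
    ((Algebra.TensorProduct.map (AlgHom.id K K) (SymTen.TS A B d).val).comp
      (Algebra.TensorProduct.map (AlgHom.id K K) f))
    (hinj2.comp hinj1)

end Groth.Agent.S13730
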