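import Groth.Statements.S13739
import Groth.Agent.Lib.Seat62GraphCover

set_option autoImplicit false
universe u
open SGA1

namespace Groth.Agent.S13739

open CategoryTheory CategoryTheory.Limits AlgebraicGeometry in
/-- Let S be a separated Noetherian scheme, q : X → S finite surjective with X separated, G a finite
group acting on X by S-automorphisms and transitively on the geometric points of X over every
geometric point of S, and r : Y → X a morphism with Y separated. If υ is the morphism from the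
disjoint union of G copies of Y to Y ×_S X (Y over S through r ≫ q) whose σ-th component is (id_Y, r
≫ σ), then υ is finite and surjective. -/
theorem result {X S Y : Scheme.{u}} [IsNoetherian S] [S.IsSeparated] [X.IsSeparated] [Y.IsSeparated] (q : X ⟶ S) [IsFinite q] [Surjective q] {G : Type u} [Group G] [Finite G] (ρ : G →* Aut X) (hρ : ∀ g : G, (ρ g).hom ≫ q = q) (htrans : ∀ (Ω : Type u) [Field Ω] [IsAlgClosed Ω] (τ₁ τ₂ : Spec (CommRingCat.of Ω) ⟶ X), τ₁ ≫ q = τ₂ ≫ q → ∃ g : G, τ₁ ≫ (ρ g).hom = τ₂) (r : Y ⟶ X) (υ : (∐ fun _ : G => Y) ⟶ pullback (r ≫ q) q) (hυ₁ : ∀ σ : G, Sigma.ι (fun _ : G => Y) σ ≫ υ ≫ pullback.fst (r ≫ q) q = 𝟙 Y) (hυ₂ : ∀ σ : G, Sigma.ι (fun _ : G => Y) σ ≫ υ ≫ pullback.snd (r ≫ q) q = r ≫ (ρ σ).hom) : IsFinite υ ∧ Surjective υ := by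
  have hυ : υ = Sigma.desc (fun σ : G => Sigma.ι (fun _ : G => Y) σ ≫ υ) := by
    apply Sigma.hom_ext
    intro σ
    rw [Sigma.ι_desc]
  have hfin : ∀ σ : G, IsFinite (Sigma.ι (fun _ : G => Y) σ ≫ υ) := fun σ =>
    Groth.Agent.Lib.Seat62.GraphCover.isFinite_of_section (pullback.fst (r ≫ q) q)
      (fun σ : G => Sigma.ι (fun _ : G => Y) σ ≫ υ) σ (by rw [Category.assoc]; exact hυ₁ σ)
  have hsurj : ⋃ σ : G, Set.range (Sigma.ι (fun _ : G => Y) σ ≫ υ) = Set.univ :=
    Groth.Agent.Lib.Seat62.GraphCover.iUnion_range_eq_univ q ρ r (pullback.fst (r ≫ q) q)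
      (pullback.snd (r ≫ q) q) (fun σ : G => Sigma.ι (fun _ : G => Y) σ ≫ υ) htrans
      (pullback.condition (f := r ≫ q) (g := q))
      (fun T g₁ g₂ h₁ h₂ => pullback.hom_ext h₁ h₂)
      (fun σ => by rw [Category.assoc]; exact hυ₁ σ)
      (fun σ => by rw [Category.assoc]; exact hυ₂ σ)
  rw [hυ]
  exact ⟨Groth.Agent.Lib.Seat62.GraphCover.isFinite_sigmaDesc G _ _ _ hfin,
    Surjective.sigmaDesc_of_union_range_eq_univ hsurj⟩

end Groth.Agent.S13739
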