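import Groth.Statements.S13740
import Groth.Agent.Lib.Seat62GraphCover

set_option autoImplicit false
set_option linter.style.haveILetI false
set_option linter.deprecated false
universe w u
open SGA1

namespace Groth.Agent.S13740

open CategoryTheory CategoryTheory.Limits AlgebraicGeometry in
/-- Let S be a separated Noetherian scheme, π : X → S finite and surjective with X separated, G a finite
group acting on X by S-automorphisms and transitively on the geometric points of X over every
geometric point of S, and F a presheaf of sets on schemes satisfying the sheaf condition for every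
finite family of quasi-finite morphisms of finite type whose induced morphism from the disjoint
union is universally submersive (a qfh-sheaf). Then pulling back along π identifies F(S) with the
G-invariant elements of F(X): F(π) is injective with image the invariants. (The published statement
takes F a qfh-sheaf on Noetherian schemes over S; this row takes a presheaf on all schemes with the
sheaf property for every such family, a stronger hypothesis.) -/
theorem result {X S : Scheme.{u}} [IsNoetherian S] [S.IsSeparated] [X.IsSeparated] (q : X ⟶ S) [IsFinite q] [Surjective q] {G : Type u} [Group G] [Finite G] (ρ : G →* Aut X) (hρ : ∀ g : G, (ρ g).hom ≫ q = q) (htrans : ∀ (Ω : Type u) [Field Ω] [IsAlgClosed Ω] (τ₁ τ₂ : Spec (CommRingCat.of Ω) ⟶ X), τ₁ ≫ q = τ₂ ≫ q → ∃ g : G, τ₁ ≫ (ρ g).hom = τ₂) (F : Scheme.{u}ᵒᵖ ⥤ Type w) (hF : ∀ ⦃T : Scheme.{u}⦄ (E : PreZeroHypercover.{u} T), Finite E.I₀ → (∀ i, LocallyOfFiniteType (E.f i)) → (∀ i, QuasiCompact (E.f i)) → (∀ i, LocallyQuasiFinite (E.f i)) → SGA1.UnivSubmersive (Sigma.desc E.f) → Presieve.IsSheafFor F E.presieve₀)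 : Function.Injective (F.map q.op) ∧ Set.range (F.map q.op) = {f : F.obj (Opposite.op X) | ∀ g : G, F.map (ρ g).hom.op f = f} := by
  classical
  -- sheaf condition for finite, jointly surjective families of finite morphisms
  have hsheaf : ∀ (ι : Type u) [Finite ι] (Y : ι → Scheme.{u}) (Z : Scheme.{u}) (g : ∀ i, Y i ⟶ Z),
      (∀ i, IsFinite (g i)) → (⋃ i, Set.range (g i) = Set.univ) →
      Presieve.IsSheafFor F (Presieve.ofArrows Y g) := by
    intro ι _ Y Z g hg hsurj
    exact hF (T := Z) ⟨ι, Y, g⟩ ‹Finite ι› (fun i => by haveI := hg i; infer_instance)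
      (fun i => by haveI := hg i; infer_instance) (fun i => by haveI := hg i; infer_instance)
      (Groth.Agent.Lib.Seat62.GraphCover.univSubmersive_sigmaDesc Y Z g hg hsurj)
  -- the cover {q}
  have hs1 : Presieve.IsSheafFor F (Presieve.ofArrows (fun _ : PUnit.{u+1} => X) (fun _ => q)) := by
    refine hsheaf PUnit.{u+1} _ S _ (fun _ => inferInstance) ?_
    rw [Set.iUnion_const]
    exact Set.range_eq_univ.mpr q.surjective
  -- the cover of X ×_S X by graphs
  let υ : G → (X ⟶ pullback q q) := fun σ =>
    pullback.lift (𝟙 X) (ρ σ).hom (by rw [Category.id_comp, hρ])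
  have hυ₁ : ∀ σ, υ σ ≫ pullback.fst q q = 𝟙 X := fun σ => pullback.lift_fst _ _ _
  have hυ₂ : ∀ σ, υ σ ≫ pullback.snd q q = 𝟙 X ≫ (ρ σ).hom := fun σ => by
    rw [Category.id_comp]; exact pullback.lift_snd _ _ _
  have hs2 : Presieve.IsSheafFor F (Presieve.ofArrows (fun _ : G => X) υ) := by
    refine hsheaf G _ _ υ (fun σ => ?_) ?_
    · exact Groth.Agent.Lib.Seat62.GraphCover.isFinite_of_section (pullback.fst q q) υ σ (hυ₁ σ)
    · exact Groth.Agent.Lib.Seat62.GraphCover.iUnion_range_eq_univ q ρ (𝟙 X) (pullback.fst q q)
        (pullback.snd q q) υ htrans (by rw [Category.id_comp]; exact pullback.condition)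
        (fun T g₁ g₂ h₁ h₂ => pullback.hom_ext h₁ h₂) hυ₁ hυ₂
  constructor
  · intro a b hab
    refine hs1.isSeparatedFor.ext ?_
    intro Y f hf
    cases hf with
    | mk i => exact hab
  · apply Set.eq_of_subset_of_subset
    · rintro f ⟨t, rfl⟩ g
      rw [← FunctorToTypes.map_comp_apply, ← op_comp, hρ]
    · intro f hf
      have hf' : ∀ g : G, F.map (ρ g).hom.op f = f := hf
      have hkey : F.map (pullback.fst q q).op f = F.map (pullback.snd q q).op f := by
        refine hs2.isSeparatedFor.ext ?_
        intro Y f' hf''
        cases hf'' with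
        | mk σ =>
          rw [← FunctorToTypes.map_comp_apply, ← FunctorToTypes.map_comp_apply, ← op_comp,
            ← op_comp, hυ₁, hυ₂, Category.id_comp, hf' σ, op_id, FunctorToTypes.map_id_apply]
      have hcomp : Presieve.Arrows.Compatible F (fun _ : PUnit.{u+1} => q) (fun _ => f) := by
        intro i j Z g₁ g₂ h
        have e1 : F.map g₁.op f =
            F.map (pullback.lift g₁ g₂ h).op (F.map (pullback.fst q q).op f) := by
          rw [← FunctorToTypes.map_comp_apply, ← op_comp, pullback.lift_fst]
        have e2 : F.map g₂.op f =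
            F.map (pullback.lift g₁ g₂ h).op (F.map (pullback.snd q q).op f) := by
          rw [← FunctorToTypes.map_comp_apply, ← op_comp, pullback.lift_snd]
        exact e1.trans ((congrArg _ hkey).trans e2.symm)
      obtain ⟨t, ht, _⟩ := ((Presieve.isSheafFor_arrows_iff _ _).mp hs1) (fun _ => f) hcomp
      exact ⟨t, ht PUnit.unit⟩

end Groth.Agent.S13740
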