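import Groth.Statements.S13742
import Groth.Agent.Lib.Seat62FibClosure

set_option autoImplicit false
universe u
open Cyc

namespace Groth.Agent.S13742

open CategoryTheory CategoryTheory.Limits AlgebraicGeometry in
/-- Let S be a separated Noetherian scheme, f : X → S separated of finite type, z a point of X mapping
to a generic point of an irreducible component of S, and ι : Z → X a closed immersion from a reduced
scheme with image the closure of z (the closure of z with its reduced structure). Then Z ×_S Spec
k(f z) is an integral scheme, and its image in the fibre X ×_S Spec k(f z) is the closure of the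
unique point w of that fibre lying over z: Z ×_S Spec k(f z) is the closure of z in its fibre, with
reduced structure. -/
theorem result {X S Z : Scheme.{u}} [IsNoetherian S] [S.IsSeparated] [X.IsSeparated] (f : X ⟶ S) [LocallyOfFiniteType f] [QuasiCompact f] (z : X) (hz : closure {f z} ∈ irreducibleComponents ↥S) (ι : Z ⟶ X) [IsClosedImmersion ι] [IsReduced Z] (hZ : Set.range ι = closure {z}) : IsIntegral (pullback (ι ≫ f) (S.fromSpecResidueField (f z))) ∧ ∃ w : ↥(pullback f (S.fromSpecResidueField (f z))), pullback.fst f (S.fromSpecResidueField (f z)) w = z ∧ Set.range (pullback.map (ι ≫ f) (S.fromSpecResidueField (f z)) f (S.fromSpecResidueField (f z)) ι (𝟙 _) (𝟙 S) (Category.comp_id _) ((Category.comp_id _).trans (Category.id_comp _).symm)) = closure {w} := by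
  open Groth.Agent.Lib.Seat62.FibClosure in
  obtain ⟨hZint, hgen⟩ := isIntegral_of_range_eq_closure ι z hZ
  set s := f z with hs
  set g := S.fromSpecResidueField s with hg
  set φ := ι ≫ f with hφ
  -- the fibre inclusions
  let jZ : pullback φ g ⟶ Z := φ.fiberι s
  let jX : pullback f g ⟶ X := f.fiberι s
  have hjZ : IsPreimmersion jZ := inferInstanceAs (IsPreimmersion (φ.fiberι s))
  have hjX : IsPreimmersion jX := inferInstanceAs (IsPreimmersion (f.fiberι s))
  have hrZ : Set.range jZ = φ ⁻¹' {s} := φ.range_fiberι s
  have hrX : Set.range jX = f ⁻¹' {s} := f.range_fiberι s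
  -- the dense point of the fibre of Z
  have hζmem : genericPoint Z ∈ Set.range jZ := by
    rw [hrZ]
    change φ (genericPoint Z) = s
    rw [hφ, Scheme.Hom.comp_apply, hgen]
  obtain ⟨ζ', hζ'⟩ := hζmem
  have hζcl : closure {ζ'} = Set.univ := by
    rw [jZ.isEmbedding.isInducing.closure_eq_preimage_closure_image, Set.image_singleton, hζ',
      (genericPoint_spec Z).def]
    rfl
  refine ⟨isIntegral_of_isPreimmersion jZ ζ' hζcl hζ', ?_⟩
  -- the point w
  have hwmem : z ∈ Set.range jX := by
    rw [hrX]; rfl
  obtain ⟨w, hw⟩ := hwmem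
  refine ⟨w, hw, ?_⟩
  set m := pullback.map φ g f g ι (𝟙 _) (𝟙 S) (Category.comp_id _)
    ((Category.comp_id _).trans (Category.id_comp _).symm) with hm
  have hmfst : m ≫ jX = jZ ≫ ι := pullback.lift_fst _ _ _
  have hrange : Set.range m = jX ⁻¹' (Set.range ι) := by
    ext p
    constructor
    · rintro ⟨q, rfl⟩
      refine ⟨jZ q, ?_⟩
      rw [← Scheme.Hom.comp_apply, ← hmfst, Scheme.Hom.comp_apply]
    · rintro ⟨t, ht⟩
      have htmem : t ∈ Set.range jZ := by
        rw [hrZ]
        change φ t = s
        rw [hφ, Scheme.Hom.comp_apply, ht]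
        have : jX p ∈ f ⁻¹' {s} := by rw [← hrX]; exact ⟨p, rfl⟩
        exact this
      obtain ⟨q, rfl⟩ := htmem
      refine ⟨q, ?_⟩
      apply jX.isEmbedding.injective
      rw [← Scheme.Hom.comp_apply, hmfst, Scheme.Hom.comp_apply, ht]
  rw [hrange, hZ, jX.isEmbedding.isInducing.closure_eq_preimage_closure_image,
    Set.image_singleton, hw]

end Groth.Agent.S13742
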