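import Groth.Statements.S1375
import Groth.Agent.Lib.Seat6FppfQF

set_option autoImplicit false
set_option linter.style.haveILetI false
universe u
open FlatMor

namespace Groth.Agent.S1375

open AlgebraicGeometry CategoryTheory Limits in
/-- Let S' → S be flat, locally of finite presentation and surjective (an fppf cover by one morphism).
Then there is a flat, locally of finite presentation, locally quasi-finite and surjective T → S
which factors through S' locally on T. -/
theorem result {S' S : Scheme.{u}} (g : S' ⟶ S) [Flat g] [LocallyOfFinitePresentation g] [Surjective g] :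
    ∃ (T : Scheme.{u}) (h : T ⟶ S), Flat h ∧ LocallyOfFinitePresentation h ∧ LocallyQuasiFinite h ∧ Surjective h ∧
      ∀ t : ↑T, ∃ (V : T.Opens) (r : ↑V ⟶ S'), t ∈ V ∧ r ≫ g = V.ι ≫ h := by
  classical
  have hex : ∀ y : S, ∃ (W : Scheme.{u}) (_ : IsAffine W) (h : W ⟶ S'), Flat (h ≫ g) ∧
      LocallyOfFinitePresentation (h ≫ g) ∧ LocallyQuasiFinite (h ≫ g) ∧
      y ∈ Set.range ⇑(h ≫ g) := fun y =>
    Groth.Agent.Lib.Seat6.FppfQF.exists_affine_flat_lqf g y (by
      obtain ⟨x, hx⟩ := g.surjective y; exact ⟨x, hx⟩)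
  choose W hW h hfl hfp hqf hy using hex
  refine ⟨∐ W, Sigma.desc (fun y => h y ≫ g), IsZariskiLocalAtSource.sigmaDesc hfl,
    IsZariskiLocalAtSource.sigmaDesc hfp, IsZariskiLocalAtSource.sigmaDesc hqf, ⟨fun y => ?_⟩, ?_⟩
  · obtain ⟨w, hw⟩ := hy y
    refine ⟨Sigma.ι W y w, ?_⟩
    rw [← Scheme.Hom.comp_apply, Sigma.ι_desc]
    exact hw
  · intro t
    obtain ⟨y, w, hw⟩ := (sigmaOpenCover W).exists_eq t
    refine ⟨(Sigma.ι W y).opensRange, (Sigma.ι W y).isoOpensRange.inv ≫ h y, ⟨w, hw⟩, ?_⟩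
    rw [Category.assoc, ← Sigma.ι_desc (fun y => h y ≫ g) y, ← Category.assoc,
      Scheme.Hom.isoOpensRange_inv_comp]

end Groth.Agent.S1375
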