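import Groth.Statements.S13839
import Groth.Agent.Lib.Seat74SymPow
import Groth.Agent.Lib.Seat74SemiNormAdjoin

set_option autoImplicit false
universe u
open AlgebraicGeometry
open scoped TensorProduct
open ChowMon

namespace Groth.Agent.S13839

/-- Let C be a Noetherian seminormal A-algebra, g : C → C' an A-algebra map with C' reduced such that
Spec C' → Spec C is a finite universal homeomorphism, and d ≥ 1 an integer divisible by every
residue degree [k(q) : k(g⁻¹q)]; let B be a flat A-algebra and φ : B → C' an A-algebra map. Then for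
every symmetric tensor x ∈ TS^d_A(B) the element φ(m_d(x)) of C', m_d : B^{⊗d} → B the
multiplication, lies in the image of C. (The published statement does not assume C' reduced and is
false without it: take A = C = k a field, C' = k[ε]/(ε²), d = 1, B = k[t] and φ(t) = ε; then ε is
not in k.) -/
theorem result (A C C' B : Type u) [CommRing A] [CommRing C] [CommRing C'] [CommRing B]
    [Algebra A C] [Algebra A C'] [Algebra A B] [IsNoetherianRing C] (hC : HTop.IsSeminormalRing C)
    (g : C →ₐ[A] C') [IsReduced C'] (hfin : g.toRingHom.Finite)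
    (hg : FlatMor.IsUnivHomeo (Spec.map (CommRingCat.ofHom g.toRingHom)))
    (d : ℕ) (hd : 0 < d)
    (hdeg : ∀ q : PrimeSpectrum C',
      @Module.finrank (PrimeSpectrum.comap g.toRingHom q).asIdeal.ResidueField q.asIdeal.ResidueField _ _
          (Ideal.ResidueField.map (PrimeSpectrum.comap g.toRingHom q).asIdeal q.asIdeal g.toRingHom
            rfl).toAlgebra.toModule ∣ d)
    [Module.Flat A B] (φ : B →ₐ[A] C') (x : ⨂[A] _ : Fin d, B) (hx : x ∈ SymTen.TS A B d) :
    φ (PiTensorProduct.lift (MultilinearMap.mkPiAlgebra A (Fin d) B) x) ∈ g.range := by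
  have hUHg : Groth.Agent.Lib.Helper20.AWN.UH g.toRingHom :=
    (Groth.Agent.Lib.Helper20.AWN.isUnivHomeo_iff_UH g.toRingHom).mp hg
  refine (?_ : _ → _) (Groth.Agent.Lib.Seat74.SemiNormAdjoin.mem_range_of_residue g.toRingHom hUHg hC
    (φ (PiTensorProduct.lift (MultilinearMap.mkPiAlgebra A (Fin d) B) x)) (fun Q => ?_))
  · rintro ⟨r, hr⟩
    exact ⟨r, hr⟩
  · have hpi : @IsPurelyInseparable _ _ _ _ (Ideal.ResidueField.map
        (PrimeSpectrum.comap g.toRingHom Q).asIdeal Q.asIdeal g.toRingHom rfl).toAlgebra := by
      let _ := (Ideal.ResidueField.map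
        (PrimeSpectrum.comap g.toRingHom Q).asIdeal Q.asIdeal g.toRingHom rfl).toAlgebra
      have : Nonempty (Q.asIdeal.ResidueField →+* AlgebraicClosure Q.asIdeal.ResidueField) :=
        ⟨algebraMap _ _⟩
      refine IsPurelyInseparable.of_injective_comp_algebraMap
        (F := (PrimeSpectrum.comap g.toRingHom Q).asIdeal.ResidueField)
        (E := Q.asIdeal.ResidueField) (AlgebraicClosure Q.asIdeal.ResidueField) ?_
      intro f₁ f₂ hf
      apply Ideal.ResidueField.ringHom_ext
      apply hUHg.2.2 (AlgebraicClosure Q.asIdeal.ResidueField)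
      ext c
      have h1 := congr($hf (algebraMap C _ c))
      simp only [RingHom.comp_apply, RingHom.algebraMap_toAlgebra] at h1
      have e := Ideal.ResidueField.map_algebraMap (PrimeSpectrum.comap g.toRingHom Q).asIdeal
        Q.asIdeal g.toRingHom rfl c
      exact (congrArg f₁ e).symm.trans (h1.trans (congrArg f₂ e))
    exact Groth.Agent.Lib.Seat74.SymPow.mem_range_of_TS A B _ _
      ((algebraMap C (PrimeSpectrum.comap g.toRingHom Q).asIdeal.ResidueField).comp
        (algebraMap A C))
      (Ideal.ResidueField.map (PrimeSpectrum.comap g.toRingHom Q).asIdeal Q.asIdeal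
        g.toRingHom rfl)
      ((algebraMap C' Q.asIdeal.ResidueField).comp φ.toRingHom)
      (by
        ext a
        exact (congrArg (algebraMap C' Q.asIdeal.ResidueField)
          (show φ (algebraMap A B a) = g (algebraMap A C a) by rw [φ.commutes, g.commutes])).trans
          (Ideal.ResidueField.map_algebraMap _ _ g.toRingHom rfl (algebraMap A C a)).symm)
      hpi d (hdeg Q) x hx

end Groth.Agent.S13839
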