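import Groth.Statements.S13847
import Groth.Agent.Lib.Seat62ProjRed

set_option autoImplicit false
set_option linter.style.haveILetI false
set_option linter.unusedSectionVars false
universe u v
open TwSh

namespace Groth.Agent.S13847

open Groth.Agent.Lib.Seat62 Groth.Agent.Lib.Seat62.ProjRed Groth.Agent.Lib.Seat62.SimpleArt

section Aux

variable {A : Type u} [Ring A] [IsSemisimpleRing (A ⧸ Ring.jacobson A)]
  {P Q : Type v} [AddCommGroup P] [Module A P] [Module.Finite A P] [Module.Projective A P]
  [AddCommGroup Q] [Module A Q] [Module.Finite A Q] [Module.Projective A Q]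

theorem mem_jacobson_equiv (e : Module.End A P ≃+* Module.End A Q) (x : Module.End A P) :
    x ∈ Ring.jacobson (Module.End A P) ↔ e x ∈ Ring.jacobson (Module.End A Q) := by
  constructor
  · intro hx
    haveI : RingHomSurjective (e : Module.End A P →+* Module.End A Q) := ⟨e.surjective⟩
    exact Ring.le_comap_jacobson (e : Module.End A P →+* Module.End A Q) hx
  · intro hx
    haveI : RingHomSurjective (e.symm : Module.End A Q →+* Module.End A P) := ⟨e.symm.surjective⟩
    have h := Ring.le_comap_jacobson (e.symm : Module.End A Q →+* Module.End A P) hx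
    rw [Ideal.mem_comap] at h
    simpa using h

theorem red_eq_zero_equiv (e : Module.End A P ≃+* Module.End A Q) (x : Module.End A P) :
    red x = 0 ↔ red (e x) = 0 := by
  rw [← mem_jacobson_iff, ← mem_jacobson_iff, mem_jacobson_equiv e]

theorem transfer (e : Module.End A P ≃+* Module.End A Q) (n : ℕ)
    (ε : Fin n → Module.End (A ⧸ Ring.jacobson A) (P ⧸ JP A P)) (hε : IsOrthIdem ε) :
    ∃ ε' : Fin n → Module.End (A ⧸ Ring.jacobson A) (Q ⧸ JP A Q), IsOrthIdem ε' := by
  obtain ⟨h0, h1, h2⟩ := hε
  choose f hf using fun i => red_surjective (A := A) (P := P) (ε i)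
  refine ⟨fun i => red (e (f i)), fun i h => ?_, fun i => ?_, fun i j hij => ?_⟩
  · rw [← red_eq_zero_equiv, hf] at h
    exact h0 i h
  · rw [← map_mul, ← map_mul, ← sub_eq_zero, ← map_sub, ← map_sub, ← red_eq_zero_equiv, map_sub,
      map_mul, hf, h1 i, sub_self]
  · rw [← map_mul, ← map_mul, ← red_eq_zero_equiv, map_mul, hf, hf, h2 i j hij]

end Aux

/-- Let A be a ring which is strongly local, that is, the quotient of A by its Jacobson radical J is a
simple left-Artinian ring, and let P and Q be finitely generated projective left A-modules. If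
End_A(P) and End_A(Q) are isomorphic as rings, then P ≅ Q as A-modules. (The published assertion
says more, that every ring isomorphism End_A(P) ≅ End_A(Q) is induced by an isomorphism P ≅ Q; that
is not correct for isomorphisms which are not linear over the centre — complex conjugation is a ring
automorphism of End_ℂ(ℂ) = ℂ induced by no ℂ-linear map — and this row keeps the existence of an
isomorphism P ≅ Q, which is what the first part of the printed proof establishes.) -/
theorem result (A : Type u) [Ring A] [IsSimpleRing (A ⧸ Ring.jacobson A)] [IsArtinianRing (A ⧸ Ring.jacobson A)] (P Q : Type v) [AddCommGroup P] [Module A P] [Module.Finite A P] [Module.Projective A P] [AddCommGroup Q] [Module A Q] [Module.Finite A Q] [Module.Projective A Q] (e : Module.End A P ≃+* Module.End A Q) : Nonempty (P ≃ₗ[A] Q) := by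
  haveI : IsSemisimpleRing (A ⧸ Ring.jacobson A) := inferInstance
  haveI := finite_reduction (A := A) (P := P)
  haveI := finite_reduction (A := A) (P := Q)
  obtain ⟨φR⟩ := nonempty_linearEquiv_of_transfer (R := A ⧸ Ring.jacobson A)
    (P ⧸ JP A P) (Q ⧸ JP A Q) (transfer e) (transfer e.symm)
  let φA : (P ⧸ JP A P) ≃ₗ[A] (Q ⧸ JP A Q) :=
    { toA φR.toLinearMap with
      invFun := φR.symm
      left_inv := φR.left_inv
      right_inv := φR.right_inv }
  exact nonempty_linearEquiv_of_reduction φA

end Groth.Agent.S13847
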