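import Groth.Statements.S13897
import Mathlib
import Groth.Agent.Lib.Seat43DvrClosed
import Groth.Agent.Lib.Seat43DvrExt
import Groth.Agent.Lib.Seat43FinSepVC
import Groth.Agent.S10388

set_option autoImplicit false
universe u
open CategoryTheory CategoryTheory.Limits AlgebraicGeometry
open AlgSp

namespace Groth.Agent.S13897

/-- Let f : X → Y be a morphism of finite type of algebraic spaces over S with Y locally Noetherian.
First: if for every valuative test square for f whose valuation ring A is a discrete valuation ring
(a morphism Spec K → X and a morphism Spec A → Y making the square commute) there are a field
extension K' of K, a valuation ring A' ⊂ K' dominating A and a morphism Spec A' → X compatible with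
both, then f is universally closed. Second: if f is in addition decent (every base change of X to a
scheme over Y is a decent algebraic space; for instance f quasi-separated, or representable) and
universally closed, then every such square over a discrete valuation ring admits such a lift with
K'/K finite separable and A' a discrete valuation ring. (The published statement asserts, for f of
finite type only, the equivalence of universal closedness with both lifting conditions and with the
existence part of the valuative criterion; the implication from universal closedness to the lifting
conditions needs f decent — the quotient of the affine line over a field of characteristic zero by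
the translation action of the integers is of finite type and universally closed over the field but
its valuative square at the point t = 1/u over the discrete valuation ring of u has no lift after
any extension — so this row adds decency to that implication.) -/
theorem result (S : Scheme.{u}) {X Y : AlgSp.Space S}
    (f : X ⟶ Y) (hft : AlgSp.IsFiniteTypeMor f.hom) (hY : AlgSp.IsLocNoethSp Y.obj) :
    ((∀ sq : AlgSp.ValSq f.hom, IsDiscreteValuationRing sq.A → sq.HasLiftExt) → AlgSp.IsUnivClosedMor f.hom) ∧
    (AlgSp.IsDecentMor f.hom → AlgSp.IsUnivClosedMor f.hom →
      ∀ sq : AlgSp.ValSq f.hom, IsDiscreteValuationRing sq.A →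
        ∃ e : sq.DomExt, IsDiscreteValuationRing e.A' ∧
          (letI := e.ψ.toAlgebra; Module.Finite sq.K e.K' ∧ Algebra.IsSeparable sq.K e.K') ∧ e.HasLift) := by
  refine ⟨fun hval =>
    Groth.Agent.Lib.Seat43.DvrClosed.isUnivClosedMor_of_dvr_liftExt f hft hY hval, ?_⟩
  intro hd hc sq hA
  obtain ⟨e, he⟩ := Groth.Agent.S10388.result f hft.2 hd hc sq
  obtain ⟨e₂, hfs, he₂⟩ := Groth.Agent.Lib.Seat43.FinSepVC.exists_finSep_lift f sq e he
  refine ⟨e₂, ?_, hfs, he₂⟩
  haveI : IsDiscreteValuationRing sq.A := hA
  exact Groth.Agent.Lib.Seat43.DvrExt.isDiscreteValuationRing_of_finite_separable e₂.φ e₂.ψ
    e₂.comm e₂.isLocalHom hfs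

end Groth.Agent.S13897
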