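import Groth.Statements.S13911
import Groth.Agent.Lib.Seat77Conic2

set_option autoImplicit false
universe u
open PlaneConic

namespace Groth.Agent.S13911

/-- For an algebraically closed field k of characteristic zero, a nonzero symmetric 3 × 3 matrix Q over
k and the ternary quadratic form f = Σ Q_ij X_i X_j in k[X_0, X_1, X_2] (the equation of a plane
conic): (1) f is irreducible iff det Q ≠ 0; (2) the conic has a singular point, that is a nonzero
vector at which all partial derivatives of f vanish, iff det Q = 0 (so smooth conics are exactly the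
irreducible ones); (3) f is the product of two linearly independent linear forms (two distinct
lines) iff rank Q = 2; (4) f is the square of a linear form (a double line) iff rank Q = 1. -/
theorem result (k : Type u) [Field k] [IsAlgClosed k] [CharZero k]
    (Q : Matrix (Fin 3) (Fin 3) k) (hQ : Q.IsSymm) (hQ0 : Q ≠ 0) (f : MvPolynomial (Fin 3) k)
    (hf : f = ∑ i : Fin 3, ∑ j : Fin 3, Q i j • (MvPolynomial.X i * MvPolynomial.X j)) :
    (Irreducible f ↔ Q.det ≠ 0) ∧
    ((∃ u : Fin 3 → k, u ≠ 0 ∧ ∀ i : Fin 3, MvPolynomial.eval u (MvPolynomial.pderiv i f) = 0) ↔ Q.det = 0) ∧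
    ((∃ a b : Fin 3 → k, LinearIndependent k ![a, b] ∧
        f = (∑ i : Fin 3, a i • MvPolynomial.X i) * (∑ i : Fin 3, b i • MvPolynomial.X i)) ↔ Q.rank = 2) ∧
    ((∃ a : Fin 3 → k, f = (∑ i : Fin 3, a i • MvPolynomial.X i) ^ 2) ↔ Q.rank = 1) := by
  classical
  have hf' : f = Groth.Agent.Lib.Seat77.Conic2.qf Q := hf
  subst hf'
  have : Invertible (2 : k) := invertibleOfNonzero two_ne_zero
  have h2 : (2 : k) ≠ 0 := two_ne_zero
  have hfh := Groth.Agent.Lib.Seat77.Conic2.qf_isHomogeneous Q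
  have hf0 : Groth.Agent.Lib.Seat77.Conic2.qf Q ≠ 0 := by
    intro h0
    apply hQ0
    ext i j
    have := Groth.Agent.Lib.Seat77.Conic2.two_mul_apply_of_eq_mul hQ
      (a := 0) (b := 0) (by rw [h0, (Groth.Agent.Lib.Seat77.Conic2.L_eq_zero_iff 0).mpr rfl, zero_mul]) i j
    simpa [h2] using this
  have hr0 : Q.rank ≠ 0 := fun h => hQ0 (Groth.Agent.Lib.Seat77.Conic2.eq_zero_of_rank_eq_zero h)
  have hLunit : ∀ a : Fin 3 → k, Groth.Agent.Lib.Seat77.Conic2.L a ≠ 0 →
      ¬ IsUnit (Groth.Agent.Lib.Seat77.Conic2.L a) := by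
    intro a ha hu
    have h1 := (Groth.Agent.Lib.Seat77.Conic2.L_isHomogeneous a).totalDegree ha
    have h0 := (MvPolynomial.isUnit_iff_totalDegree_of_isReduced.mp hu).2
    omega
  refine ⟨⟨?_, ?_⟩, ⟨?_, ?_⟩, ⟨?_, ?_⟩, ⟨?_, ?_⟩⟩
  · -- irreducible ⇒ det ≠ 0
    intro hirr hdet
    have hle := Groth.Agent.Lib.Seat77.Conic2.rank_le_two_of_det_eq_zero hQ hdet
    have hcases : Q.rank = 1 ∨ Q.rank = 2 := by omega
    rcases hcases with hr | hr
    · obtain ⟨a, ha⟩ := Groth.Agent.Lib.Seat77.Conic2.exists_sq_of_rank_one hQ hr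
      have ha0 : Groth.Agent.Lib.Seat77.Conic2.L a ≠ 0 := by
        intro h; apply hf0; rw [ha, h]; simp
      rw [sq] at ha
      rcases hirr.isUnit_or_isUnit ha with hu | hu <;> exact hLunit a ha0 hu
    · obtain ⟨a, b, -, hab⟩ := Groth.Agent.Lib.Seat77.Conic2.exists_mul_of_rank_two hQ hr
      have ha0 : Groth.Agent.Lib.Seat77.Conic2.L a ≠ 0 := by
        intro h; apply hf0; rw [hab, h]; simp
      have hb0 : Groth.Agent.Lib.Seat77.Conic2.L b ≠ 0 := by
        intro h; apply hf0; rw [hab, h]; simp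
      rcases hirr.isUnit_or_isUnit hab with hu | hu
      · exact hLunit a ha0 hu
      · exact hLunit b hb0 hu
  · -- det ≠ 0 ⇒ irreducible
    intro hdet
    refine ⟨?_, ?_⟩
    · intro hu
      have h0 := (MvPolynomial.isUnit_iff_totalDegree_of_isReduced.mp hu).2
      have h1 := hfh.totalDegree hf0
      omega
    · intro g h hgh
      by_contra hcon
      push Not at hcon
      obtain ⟨a, b, hab⟩ := Groth.Agent.Lib.Seat77.Conic2.exists_L_mul_L_of_mul hfh hf0 hgh hcon.1 hcon.2
      exact hdet (Groth.Agent.Lib.Seat77.Conic2.det_eq_zero_of_eq_mul h2 hQ hab)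
  · -- singular point ⇒ det = 0
    rintro ⟨u, hu, hsing⟩
    apply Matrix.exists_mulVec_eq_zero_iff.mp
    refine ⟨u, hu, ?_⟩
    funext i
    have := hsing i
    rw [Groth.Agent.Lib.Seat77.Conic2.eval_pderiv_qf hQ] at this
    simpa [h2] using this
  · -- det = 0 ⇒ singular point
    intro hdet
    obtain ⟨u, hu, hQu⟩ := Matrix.exists_mulVec_eq_zero_iff.mpr hdet
    refine ⟨u, hu, fun i => ?_⟩
    rw [Groth.Agent.Lib.Seat77.Conic2.eval_pderiv_qf hQ, hQu]
    simp
  · rintro ⟨a, b, hab, h⟩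
    exact Groth.Agent.Lib.Seat77.Conic2.rank_eq_two_of_eq_mul h2 hQ hab h
  · intro hr
    exact Groth.Agent.Lib.Seat77.Conic2.exists_mul_of_rank_two hQ hr
  · rintro ⟨a, h⟩
    exact Groth.Agent.Lib.Seat77.Conic2.rank_eq_one_of_eq_sq h2 hQ hQ0 h
  · intro hr
    exact Groth.Agent.Lib.Seat77.Conic2.exists_sq_of_rank_one hQ hr

end Groth.Agent.S13911
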