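import Groth.Statements.S13912
import Groth.Agent.Lib.Seat77Conic2
import Groth.Agent.Lib.Seat77Conic3

set_option autoImplicit false
universe u
open PlaneConic

namespace Groth.Agent.S13912

/-- Over an algebraically closed field k of characteristic zero, for a 2 × 2 matrix M of linear forms in
k[X_0, X_1, X_2] (entries homogeneous of degree 1, zero allowed), det M is a product of two linear
forms if and only if M can be brought by invertible scalar row and column operations g M h, with g,
h in GL_2(k), to a matrix with zero upper-right entry. (The published statement concerns matrices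
with nonzero determinant; this row also allows determinant zero, where both sides hold.) -/
theorem result (k : Type u) [Field k] [IsAlgClosed k] [CharZero k]
    (M : Matrix (Fin 2) (Fin 2) (MvPolynomial (Fin 3) k)) (hM : ∀ a b : Fin 2, (M a b).IsHomogeneous 1) :
    (∃ l₁ l₂ : MvPolynomial (Fin 3) k, l₁.IsHomogeneous 1 ∧ l₂.IsHomogeneous 1 ∧ M.det = l₁ * l₂) ↔
    ∃ g h : GL (Fin 2) k,
      ((MvPolynomial.C : k →+* MvPolynomial (Fin 3) k).mapMatrix g.val * M *
        (MvPolynomial.C : k →+* MvPolynomial (Fin 3) k).mapMatrix h.val) 0 1 = 0 := by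
  classical
  constructor
  · rintro ⟨l₁, l₂, hl₁, hl₂, hdet⟩
    choose coef hcoef using fun a b => Groth.Agent.Lib.Seat77.Conic2.exists_eq_L (hM a b)
    obtain ⟨a₁, ha₁⟩ := Groth.Agent.Lib.Seat77.Conic2.exists_eq_L hl₁
    let N : (Fin 3 → k) →ₗ[k] Matrix (Fin 2) (Fin 2) k :=
      { toFun := fun x => Matrix.of fun a b => ∑ i, coef a b i * x i
        map_add' := fun x y => by
          ext a b
          simp [mul_add, Finset.sum_add_distrib]
        map_smul' := fun t x => by
          ext a b
          simp only [Matrix.of_apply, Pi.smul_apply, smul_eq_mul, RingHom.id_apply, Matrix.smul_apply,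
            Finset.mul_sum]
          exact Finset.sum_congr rfl fun i _ => by ring }
    have hN : ∀ x a b, MvPolynomial.eval x (M a b) = N x a b := by
      intro x a b
      rw [hcoef a b, Groth.Agent.Lib.Seat77.Conic2.eval_L]
      rfl
    let lin₁ : (Fin 3 → k) →ₗ[k] k :=
      { toFun := fun x => ∑ i, a₁ i * x i
        map_add' := fun x y => by simp [mul_add, Finset.sum_add_distrib]
        map_smul' := fun t x => by
          simp only [Pi.smul_apply, smul_eq_mul, RingHom.id_apply, Finset.mul_sum]
          exact Finset.sum_congr rfl fun i _ => by ring }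
    have hdetN : ∀ x, (N x).det = lin₁ x * MvPolynomial.eval x l₂ := by
      intro x
      have h1 : MvPolynomial.eval x M.det = MvPolynomial.eval x l₁ * MvPolynomial.eval x l₂ := by
        rw [hdet, map_mul]
      rw [Matrix.det_fin_two, map_sub, map_mul, map_mul, hN, hN, hN, hN, ha₁,
        Groth.Agent.Lib.Seat77.Conic2.eval_L] at h1
      rw [Matrix.det_fin_two, h1]
      rfl
    obtain ⟨r, c, hr, hc, hrc⟩ := Groth.Agent.Lib.Seat77.Conic3.exists_row_col N lin₁ _ hdetN
    obtain ⟨g, hg⟩ := Groth.Agent.Lib.Seat77.Conic3.exists_GL_row hr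
    obtain ⟨h, hh⟩ := Groth.Agent.Lib.Seat77.Conic3.exists_GL_col hc
    refine ⟨g, h, ?_⟩
    apply MvPolynomial.funext
    intro x
    have := hrc x
    simp only [dotProduct, Matrix.mulVec, Fin.sum_univ_two] at this
    simp only [Matrix.mul_apply, RingHom.mapMatrix_apply, Matrix.map_apply, Fin.sum_univ_two, map_add,
      map_mul, MvPolynomial.eval_C, hN, hg, hh, map_zero]
    linear_combination this
  · rintro ⟨g, h, hgh⟩
    set G := (MvPolynomial.C : k →+* MvPolynomial (Fin 3) k).mapMatrix g.val with hG
    set H' := (MvPolynomial.C : k →+* MvPolynomial (Fin 3) k).mapMatrix h.val with hH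
    have hgdet : g.val.det ≠ 0 := ((Matrix.isUnit_iff_isUnit_det _).mp (Units.isUnit g)).ne_zero
    have hhdet : h.val.det ≠ 0 := ((Matrix.isUnit_iff_isUnit_det _).mp (Units.isUnit h)).ne_zero
    have hdet : (G * M * H').det = MvPolynomial.C g.val.det * M.det * MvPolynomial.C h.val.det := by
      rw [Matrix.det_mul, Matrix.det_mul, hG, hH, ← RingHom.map_det, ← RingHom.map_det]
    have hhom : ∀ i j, ((G * M * H') i j).IsHomogeneous 1 := by
      intro i j
      simp only [Matrix.mul_apply]
      apply MvPolynomial.IsHomogeneous.sum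
      intro b _
      have h1 : (∑ a, G i a * M a b).IsHomogeneous 1 := by
        apply MvPolynomial.IsHomogeneous.sum
        intro a _
        have := (MvPolynomial.isHomogeneous_C (Fin 3) (g.val i a)).mul (hM a b)
        simpa [hG] using this
      have := h1.mul (MvPolynomial.isHomogeneous_C (Fin 3) (h.val b j))
      simpa [hH] using this
    rw [Matrix.det_fin_two, hgh, zero_mul, sub_zero] at hdet
    refine ⟨MvPolynomial.C (g.val.det⁻¹ * h.val.det⁻¹) * (G * M * H') 0 0, (G * M * H') 1 1, ?_,
      hhom 1 1, ?_⟩
    · have := (MvPolynomial.isHomogeneous_C (Fin 3) (g.val.det⁻¹ * h.val.det⁻¹)).mul (hhom 0 0)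
      simpa using this
    · rw [mul_assoc, hdet, ← mul_assoc, ← mul_assoc, ← map_mul]
      have e : g.val.det⁻¹ * h.val.det⁻¹ * g.val.det = h.val.det⁻¹ := by
        field_simp
      rw [e, mul_assoc, mul_comm M.det, ← mul_assoc, ← map_mul, inv_mul_cancel₀ hhdet, map_one, one_mul]

end Groth.Agent.S13912
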