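import Groth.Statements.S13937
import Groth.Agent.Lib.Seat60ThreePtD

set_option autoImplicit false
universe u
open W4c1limliniiii

namespace Groth.Agent.S13937

open Polynomial in
/-- Over an algebraically closed field of characteristic p (zero allowed), fix three distinct points
P_1, P_2, P_3 of the affine line and admissible indices (2 ≤ e_i ≤ d, e_i prime to p, ∑ (e_i − 1) =
2d − 2). The two-dimensional spaces V of polynomials of degree at most d that contain, for each i, a
non-zero member vanishing to order at least e_i at P_i (the intersection of the three Schubert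
cycles in the Grassmannian of pencils) form a projective space of some dimension m ≥ 0: there is a
non-zero linear space L of pairs of polynomials such that sending a non-zero pair (F, G) ∈ L to the
span of F and G is a surjection onto that set of spaces under which two non-zero pairs have the same
image exactly when they are proportional. -/
theorem result (k : Type u) [Field k]
    [IsAlgClosed k] (p : ℕ) [CharP k p] (d : ℕ) (P : Fin 3 → k) (hP : Function.Injective P)
    (e : Fin 3 → ℕ) (he : W4c1limliniiii.Admissible p d e) :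
    ∃ L : Submodule k (k[X] × k[X]), L ≠ ⊥ ∧
      (∀ v ∈ L, v ≠ 0 →
        Submodule.span k {v.1, v.2} ≤ Polynomial.degreeLE k d ∧
          Module.finrank k (Submodule.span k {v.1, v.2}) = 2 ∧
          ∀ i, ∃ s ∈ Submodule.span k {v.1, v.2}, s ≠ 0 ∧
            e i ≤ Polynomial.rootMultiplicity (P i) s) ∧
      (∀ V : Submodule k k[X], V ≤ Polynomial.degreeLE k d → Module.finrank k V = 2 →
        (∀ i, ∃ s ∈ V, s ≠ 0 ∧ e i ≤ Polynomial.rootMultiplicity (P i) s) →
          ∃ v ∈ L, v ≠ 0 ∧ Submodule.span k {v.1, v.2} = V) ∧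
      (∀ v ∈ L, ∀ w ∈ L, v ≠ 0 → w ≠ 0 →
        Submodule.span k {v.1, v.2} = Submodule.span k {w.1, w.2} → ∃ c : k, w = c • v) := by
  classical
  have hle : ∀ i, e i ≤ d := fun i => (he.1 i).2.1
  have hsum := Groth.Agent.Lib.Seat60.ThreePt.sum3 he
  -- the linear space of normalised triples
  let L : Submodule k (k[X] × k[X]) :=
    { carrier := {v | Groth.Agent.Lib.Seat60.ThreePt.IsTriple d P e v.1 v.2}
      zero_mem' := ⟨by simp, by simp, dvd_zero _, dvd_zero _, by simp⟩
      add_mem' := by
        rintro v w ⟨h1, h2, h3, h4, h5⟩ ⟨h1', h2', h3', h4', h5'⟩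
        refine ⟨(natDegree_add_le _ _).trans (max_le h1 h1'),
          (natDegree_add_le _ _).trans (max_le h2 h2'), dvd_add h3 h3', dvd_add h4 h4', ?_⟩
        have : (v + w).1 - (v + w).2 = (v.1 - v.2) + (w.1 - w.2) := by
          simp only [Prod.fst_add, Prod.snd_add]; ring
        rw [this]
        exact dvd_add h5 h5'
      smul_mem' := by
        rintro c v ⟨h1, h2, h3, h4, h5⟩
        refine ⟨(natDegree_smul_le _ _).trans h1, (natDegree_smul_le _ _).trans h2, ?_, ?_, ?_⟩
        · show _ ∣ c • v.1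
          rw [smul_eq_C_mul]; exact Dvd.dvd.mul_left h3 _
        · show _ ∣ c • v.2
          rw [smul_eq_C_mul]; exact Dvd.dvd.mul_left h4 _
        · show _ ∣ c • v.1 - c • v.2
          rw [← smul_sub, smul_eq_C_mul]; exact Dvd.dvd.mul_left h5 _ }
  have hmemL : ∀ v : k[X] × k[X], v ∈ L ↔ Groth.Agent.Lib.Seat60.ThreePt.IsTriple d P e v.1 v.2 :=
    fun v => Iff.rfl
  -- nonzero members have both components nonzero
  have hne : ∀ v ∈ L, v ≠ 0 → v.1 ≠ 0 ∧ v.2 ≠ 0 := by
    rintro ⟨F, G⟩ hv hv0
    obtain ⟨h1, h2, h3, h4, h5⟩ := (hmemL _).1 hv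
    constructor
    · rintro (rfl : F = 0)
      apply hv0
      have hG : G = 0 := by
        refine Groth.Agent.Lib.Seat60.ThreePt.eq_zero_of_two hP hle hsum (i := 1) (j := 2)
          (by decide) G h2 h4 ?_
        have : (0 : k[X]) - G = -G := by ring
        simpa [this] using h5
      rw [hG]; rfl
    · rintro (rfl : G = 0)
      apply hv0
      have hF : F = 0 := by
        refine Groth.Agent.Lib.Seat60.ThreePt.eq_zero_of_two hP hle hsum (i := 0) (j := 2)
          (by decide) F h1 h3 ?_
        simpa using h5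
      rw [hF]; rfl
  have hli : ∀ v ∈ L, v ≠ 0 → LinearIndependent k ![v.1, v.2] := by
    intro v hv hv0
    obtain ⟨h1, h2, h3, h4, h5⟩ := (hmemL _).1 hv
    obtain ⟨hF0, hG0⟩ := hne v hv hv0
    exact Groth.Agent.Lib.Seat60.ThreePt.indep_of_dvd hP hle hsum (i := 0) (j := 1) (by decide)
      v.1 v.2 h1 hF0 hG0 h3 h4
  refine ⟨L, ?_, ?_, ?_, ?_⟩
  · -- nonzero
    obtain ⟨F, G, hT, hF0, -, -⟩ := Groth.Agent.Lib.Seat60.ThreePt.exists_triple hP hle hsum
    intro hbot
    have hmem : ((F, G) : k[X] × k[X]) ∈ L := (hmemL _).2 hT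
    rw [hbot, Submodule.mem_bot] at hmem
    exact hF0 (congrArg Prod.fst hmem)
  · -- every nonzero member gives a point of the Schubert intersection
    intro v hv hv0
    obtain ⟨h1, h2, h3, h4, h5⟩ := (hmemL _).1 hv
    obtain ⟨hF0, hG0⟩ := hne v hv hv0
    have hind := hli v hv hv0
    refine ⟨?_, Groth.Agent.Lib.Seat60.ThreePt.finrank_span_pair_of_li _ _ hind, ?_⟩
    · rw [Submodule.span_le]
      intro x hx
      rcases hx with rfl | hx
      · exact mem_degreeLE.2 (degree_le_of_natDegree_le h1)
      · rw [Set.mem_singleton_iff] at hx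
        subst hx
        exact mem_degreeLE.2 (degree_le_of_natDegree_le h2)
    · have hsub0 : v.1 - v.2 ≠ 0 := by
        intro h0
        have := (LinearIndependent.pair_iff.1 hind) 1 (-1) (by
          rw [one_smul, neg_smul, one_smul, ← sub_eq_add_neg]; exact h0)
        exact one_ne_zero this.1
      intro i
      fin_cases i
      · exact ⟨v.1, Submodule.subset_span (by simp), hF0, (le_rootMultiplicity_iff hF0).2 h3⟩
      · exact ⟨v.2, Submodule.subset_span (by simp), hG0, (le_rootMultiplicity_iff hG0).2 h4⟩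
      · refine ⟨v.1 - v.2, ?_, hsub0, (le_rootMultiplicity_iff hsub0).2 h5⟩
        exact Submodule.sub_mem _ (Submodule.subset_span (by simp)) (Submodule.subset_span (by simp))
  · -- surjectivity
    intro V hV hfin hs
    have hs' : ∀ i, ∃ s ∈ V, s ≠ 0 ∧ (X - C (P i)) ^ (e i) ∣ s := by
      intro i
      obtain ⟨s, hsV, hs0, hsm⟩ := hs i
      exact ⟨s, hsV, hs0, (le_rootMultiplicity_iff hs0).1 hsm⟩
    obtain ⟨F, G, -, -, hT, hF0, -, hVeq⟩ :=
      Groth.Agent.Lib.Seat60.ThreePt.normal_form hP hle hsum V hV hfin hs'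
    refine ⟨(F, G), (hmemL _).2 hT, ?_, hVeq.symm⟩
    intro h0
    exact hF0 (congrArg Prod.fst h0)
  · -- injectivity up to scalars
    intro v hv w hw hv0 hw0 hspan
    obtain ⟨hF0, hG0⟩ := hne v hv hv0
    have hTv := (hmemL _).1 hv
    have hTw := (hmemL _).1 hw
    have hcross := Groth.Agent.Lib.Seat60.ThreePt.cross hP hsum hTv hTw
    obtain ⟨h1, h2, h3, h4, h5⟩ := hTv
    obtain ⟨h1', h2', h3', h4', h5'⟩ := hTw
    have hw1 : w.1 ∈ Submodule.span k ({v.1, v.2} : Set k[X]) := by
      rw [hspan]; exact Submodule.subset_span (by simp)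
    obtain ⟨α, β, hαβ⟩ := Submodule.mem_span_pair.1 hw1
    have hβ : β = 0 := by
      by_contra hβ0
      apply hG0
      refine Groth.Agent.Lib.Seat60.ThreePt.eq_zero_of_two hP hle hsum (i := 0) (j := 1)
        (by decide) v.2 h2 ?_ h4
      have h6 : (X - C (P 0)) ^ (e 0) ∣ β • v.2 := by
        have : β • v.2 = w.1 - α • v.1 := by rw [← hαβ]; ring
        rw [this]
        refine dvd_sub h3' ?_
        rw [smul_eq_C_mul]; exact Dvd.dvd.mul_left h3 _
      have h7 : v.2 = β⁻¹ • (β • v.2) := by rw [smul_smul, inv_mul_cancel₀ hβ0, one_smul]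
      rw [h7, smul_eq_C_mul]
      exact Dvd.dvd.mul_left h6 _
    rw [hβ, zero_smul, add_zero] at hαβ
    refine ⟨α, ?_⟩
    have h8 : w.2 = α • v.2 := by
      have h9 : v.1 * w.2 = v.1 * (α • v.2) := by
        rw [hcross, ← hαβ, smul_mul_assoc, mul_smul_comm]
      exact mul_left_cancel₀ hF0 h9
    ext1
    · exact hαβ.symm
    · exact h8

end Groth.Agent.S13937
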