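import Groth.Statements.S13991
import Groth.Agent.Lib.Seat96SerreCoh

set_option autoImplicit false
universe u
open CategoryTheory AlgebraicGeometry
open CohGab

namespace Groth.Agent.S13991

/-- Let X be a Noetherian scheme and Z ⊆ X a closed subset. Then Z is irreducible (or empty) if and only
if Coh_Z(X), the coherent O_X-modules supported in Z, is an irreducible Serre subcategory of Coh(X),
i.e. it is not generated as a Serre subcategory by two Serre subcategories properly contained in it:
whenever J₁, J₂ are Serre classes on coherent modules (middle term of a short exact sequence of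
coherent modules belongs iff both outer terms do), both contained in Coh_Z, such that every Serre
class on coherent modules containing J₁ and J₂ contains Coh_Z, then J₁ or J₂ contains Coh_Z.
Consequently the points of X correspond to the irreducible Serre subcategories of finite type other
than the zero subcategory. (The published statement says 'Z is irreducible iff Coh_Z is irreducible'
and deduces a bijection between the points of X and all irreducible Serre subcategories of finite
type; the zero subcategory Coh_∅ is irreducible in this sense while ∅ is not an irreducible space,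
so irreducibility of Z is read here as 'irreducible or empty'. The published statement is also about
coherent sheaves twisted by a class in the second etale cohomology group of the units of the
structure sheaf; this row is its case of the trivial class.) -/
theorem result (X : Scheme.{u}) [IsNoetherian X]
    (Z : TopologicalSpace.Closeds X) :
    IsPreirreducible (↑Z : Set X) ↔
    ∀ J₁ J₂ : ObjectProperty X.Modules, (∀ S : ShortComplex X.Modules, S.ShortExact → Coh.IsCoh S.X₁ → Coh.IsCoh S.X₂ →
        Coh.IsCoh S.X₃ → (J₁ S.X₂ ↔ J₁ S.X₁ ∧ J₁ S.X₃)) → (∀ S : ShortComplex X.Modules, S.ShortExact → Coh.IsCoh S.X₁ → Coh.IsCoh S.X₂ →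
        Coh.IsCoh S.X₃ → (J₂ S.X₂ ↔ J₂ S.X₁ ∧ J₂ S.X₃)) →
      (∀ M : X.Modules, Coh.IsCoh M → J₁ M → CohB1.support M ⊆ (↑Z : Set X)) →
      (∀ M : X.Modules, Coh.IsCoh M → J₂ M → CohB1.support M ⊆ (↑Z : Set X)) →
      (∀ Q : ObjectProperty X.Modules, (∀ S : ShortComplex X.Modules, S.ShortExact → Coh.IsCoh S.X₁ → Coh.IsCoh S.X₂ →
        Coh.IsCoh S.X₃ → (Q S.X₂ ↔ Q S.X₁ ∧ Q S.X₃)) →
        (∀ M : X.Modules, Coh.IsCoh M → J₁ M → Q M) → (∀ M : X.Modules, Coh.IsCoh M → J₂ M → Q M) →
        ∀ M : X.Modules, Coh.IsCoh M → CohB1.support M ⊆ (↑Z : Set X) → Q M) →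
      (∀ M : X.Modules, Coh.IsCoh M → CohB1.support M ⊆ (↑Z : Set X) → J₁ M) ∨
        (∀ M : X.Modules, Coh.IsCoh M → CohB1.support M ⊆ (↑Z : Set X) → J₂ M) := by
  have hsZ := Groth.Agent.Lib.Seat96.SerreCoh.support_quotMod_vanishingIdeal (X := X) Z.isClosed
  have hcoh := Groth.Agent.Lib.Seat21.Dev.isCoh_quotMod
    (Scheme.IdealSheafData.vanishingIdeal ⟨(Z : Set X), Z.isClosed⟩)
  constructor
  · intro hZ J₁ J₂ h1 h2 _ _ hgen
    by_contra hcon
    rw [not_or] at hcon
    -- the class of modules whose support does not contain `Z`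
    have hQ : Groth.Agent.Lib.Seat96.SerreCoh.IsSerre
        (fun M : X.Modules => ¬ ((Z : Set X) ⊆ CohB1.support M)) := by
      intro S hS c1 c2 c3
      change ¬ ((Z : Set X) ⊆ CohB1.support S.X₂) ↔
        ¬ ((Z : Set X) ⊆ CohB1.support S.X₁) ∧ ¬ ((Z : Set X) ⊆ CohB1.support S.X₃)
      rw [Groth.Agent.Lib.Seat21.Dev.support_shortExact S hS, ← not_or, not_iff_not]
      constructor
      · intro h
        exact (isPreirreducible_iff_isClosed_union_isClosed.1 hZ) _ _
          (Groth.Agent.S0020.result X S.X₁ c1.2) (Groth.Agent.S0020.result X S.X₃ c3.2) h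
      · rintro (h | h)
        · exact h.trans Set.subset_union_left
        · exact h.trans Set.subset_union_right
    have key : ∀ (J : ObjectProperty X.Modules), Groth.Agent.Lib.Seat96.SerreCoh.IsSerre J →
        ¬ (∀ M : X.Modules, Coh.IsCoh M → CohB1.support M ⊆ (↑Z : Set X) → J M) →
        ∀ M : X.Modules, Coh.IsCoh M → J M → ¬ ((Z : Set X) ⊆ CohB1.support M) := by
      intro J hJ hnot M hM hJM hZM
      apply hnot
      intro N hN hNZ
      exact Groth.Agent.Lib.Seat96.SerreCoh.IsSerre.mem_of_support_subset hJ hM hJM hN (hNZ.trans hZM)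
    have := hgen (fun M : X.Modules => ¬ ((Z : Set X) ⊆ CohB1.support M)) hQ (key J₁ h1 hcon.1) (key J₂ h2 hcon.2) _ hcoh hsZ.le
    exact this hsZ.ge
  · intro h
    rw [isPreirreducible_iff_isClosed_union_isClosed]
    intro Z₁ Z₂ hZ₁ hZ₂ hcov
    have hc1 : IsClosed ((Z : Set X) ∩ Z₁) := Z.isClosed.inter hZ₁
    have hc2 : IsClosed ((Z : Set X) ∩ Z₂) := Z.isClosed.inter hZ₂
    have hgen : ∀ Q : ObjectProperty X.Modules, (∀ S : ShortComplex X.Modules, S.ShortExact → Coh.IsCoh S.X₁ →
        Coh.IsCoh S.X₂ → Coh.IsCoh S.X₃ → (Q S.X₂ ↔ Q S.X₁ ∧ Q S.X₃)) →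
        (∀ M : X.Modules, Coh.IsCoh M → CohB1.support M ⊆ (Z : Set X) ∩ Z₁ → Q M) →
        (∀ M : X.Modules, Coh.IsCoh M → CohB1.support M ⊆ (Z : Set X) ∩ Z₂ → Q M) →
        ∀ M : X.Modules, Coh.IsCoh M → CohB1.support M ⊆ (↑Z : Set X) → Q M := by
      intro Q hQ hQ1 hQ2 M hM hMZ
      have := hM.1
      have hq := Groth.Agent.Lib.Seat21.Dev.qcOn_suppSub M hc2
      have hM₁ : Coh.IsCoh (Groth.Agent.Lib.Seat21.Dev.suppSub M ((Z : Set X) ∩ Z₂)).toModules :=
        Groth.Agent.Lib.Seat21.Dev.isCoh_subSh hM _ hq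
      have hMq : Coh.IsCoh (Limits.cokernel (Groth.Agent.Lib.Seat21.Dev.suppSub M ((Z : Set X) ∩ Z₂)).ι) :=
        Groth.Agent.Lib.Seat21.Dev.isCoh_cokernel hM₁ hM _
      have hK₁ := hQ2 _ hM₁ (Groth.Agent.Lib.Seat21.Dev.support_suppSub M _)
      have hK₂ := hQ1 _ hMq (Groth.Agent.Lib.Seat21.Dev.support_cokernel_suppSub M ((Z : Set X) ∩ Z₂)
        ((Z : Set X) ∩ Z₁) hc1 (by
          intro x hx
          have hxZ := hMZ hx
          rcases hcov hxZ with hx1 | hx2
          · exact Or.inl ⟨hxZ, hx1⟩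
          · exact Or.inr ⟨hxZ, hx2⟩))
      haveI : Mono (Groth.Agent.Lib.Seat21.Dev.suppSub M ((Z : Set X) ∩ Z₂)).ι :=
        Groth.Agent.Lib.Seat21.QSub.SubSh.mono_ι _
      exact (hQ _ (Groth.Agent.Lib.Seat21.Dev.shortExact_cokernel
        (Groth.Agent.Lib.Seat21.Dev.suppSub M ((Z : Set X) ∩ Z₂)).ι) hM₁ hM hMq).2 ⟨hK₁, hK₂⟩
    rcases h (fun M : X.Modules => CohB1.support M ⊆ (Z : Set X) ∩ Z₁)
      (fun M : X.Modules => CohB1.support M ⊆ (Z : Set X) ∩ Z₂)
      (Groth.Agent.Lib.Seat96.SerreCoh.isSerre_support_subset _)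
      (Groth.Agent.Lib.Seat96.SerreCoh.isSerre_support_subset _)
      (fun M _ hM => hM.trans Set.inter_subset_left) (fun M _ hM => hM.trans Set.inter_subset_left)
      (fun Q hQ hQ1 hQ2 => hgen Q hQ hQ1 hQ2) with h' | h'
    · left
      have := h' _ hcoh hsZ.le
      rw [hsZ] at this
      exact this.trans Set.inter_subset_right
    · right
      have := h' _ hcoh hsZ.le
      rw [hsZ] at this
      exact this.trans Set.inter_subset_right

end Groth.Agent.S13991
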