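import Groth.Statements.S14003
import Groth.Agent.Lib.Seat96K0Dev

set_option autoImplicit false
universe u
open CategoryTheory AlgebraicGeometry
open KZero

namespace Groth.Agent.S14003

/-- Let X be a Noetherian scheme and Y' a closed subset; write K_0 for the Grothendieck group of the
abelian category of coherent O_X-modules with support in Y' (free abelian group on its objects
modulo the relations of short exact sequences). Let (F_a) be a family of such modules such that for
every irreducible closed subset Z ⊆ Y' with generic point ζ there is an index a with the support of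
F_a contained in Z and the stalk of F_a at ζ of length one over the local ring (a one-dimensional
vector space over the residue field). Then the classes of the F_a generate K_0. (The published
statement omits the condition that the support of F_a lie in Z; without it the claim fails already
for the spectrum of a product of two fields, where the modules k_1 ⊕ k_2 ⊕ k_2 and k_1 ⊕ k_1 ⊕ k_2
have one-dimensional stalks at the two points but their classes generate a subgroup of index 3 in
K_0 = ℤ².) -/
theorem result (X : Scheme.{u}) [IsNoetherian X]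
    (Y' : Set X) (hY' : IsClosed Y') {ι : Type u} (F : ι → X.Modules)
    (hF : ∀ a : ι, Coh.IsCoh (F a) ∧ CohB1.support (F a) ⊆ Y')
    (hgen : ∀ (Z : Set X), IsClosed Z → IsIrreducible Z → Z ⊆ Y' → ∀ y : X, closure ({y} : Set X) = Z →
      ∃ a : ι, CohB1.support (F a) ⊆ Z ∧ Module.length (X.presheaf.stalk y) ((F a).presheaf.stalk y) = 1) :
    AddSubgroup.closure (Set.range fun a : ι =>
        KZero.clSub (fun G : X.Modules => Coh.IsCoh G ∧ CohB1.support G ⊆ Y') (F a)) = ⊤ := by
  classical
  set P : ObjectProperty X.Modules := fun G : X.Modules => Coh.IsCoh G ∧ CohB1.support G ⊆ Y' with hPdef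
  have hPz : ∀ M : X.Modules, Limits.IsZero M → P M := fun M hM =>
    ⟨Groth.Agent.Lib.Seat21.Dev.isCoh_of_isZero hM, by
      rw [Groth.Agent.Lib.Seat96.K0Dev.support_of_isZero M hM]; exact Set.empty_subset _⟩
  have hPiso : ∀ M N : X.Modules, (M ≅ N) → P M → P N := fun M N e hM =>
    ⟨Groth.Agent.Lib.Seat21.Dev.isCoh_of_iso e hM.1, fun x hx =>
      hM.2 (Groth.Agent.Lib.Seat21.Dev.support_subset_of_mono e.inv hx)⟩
  have hPex : ∀ S : ShortComplex X.Modules, S.ShortExact → Coh.IsCoh S.X₁ → Coh.IsCoh S.X₂ →
      Coh.IsCoh S.X₃ → CohB1.support S.X₂ ⊆ Y' → P S.X₁ ∧ P S.X₂ ∧ P S.X₃ := by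
    intro S hS h1 h2 h3 hsupp
    have hs := Groth.Agent.Lib.Seat21.Dev.support_shortExact S hS
    exact ⟨⟨h1, fun x hx => hsupp (hs ▸ Or.inl hx)⟩, ⟨h2, hsupp⟩,
      ⟨h3, fun x hx => hsupp (hs ▸ Or.inr hx)⟩⟩
  apply Groth.Agent.Lib.Seat96.K0Dev.eq_top_of_forall_clSub_mem P
  intro M hM
  refine Groth.Agent.Lib.Seat21.Dev.core
    (Groth.Agent.Lib.Seat96.K0Dev.hyp_clSub_mem P Y' hPz hPiso hPex _) hY' ?_ M hM.1 hM.2
  intro Z hZ hirr hZY y hy _
  obtain ⟨a, haZ, hlen⟩ := hgen Z hZ hirr hZY y hy
  refine ⟨F a, (hF a).1, AddSubgroup.subset_closure ⟨a, rfl⟩, haZ, ?_⟩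
  intro F' hF' hF'Z hF'1
  exact ⟨F', hF', hF'Z,
    hF'1.nonempty_linearEquiv (Groth.Agent.Lib.Seat21.Dev.rankOne_of_length_eq_one hlen), id⟩

end Groth.Agent.S14003
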