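import Groth.Statements.S14017
import Mathlib

set_option autoImplicit false
set_option linter.style.haveILetI false
open CategoryTheory CategoryTheory.Limits AlgebraicGeometry Opposite
universe u
open EtModW

namespace Groth.Agent.S14017

section Aux

variable {Λ : Type (u + 1)} [CommRing Λ] {X : Scheme.{u}}

/-- an epimorphism of sheaves of modules is surjective on sections over a weakly contractible object -/
lemma surjective_of_epi {F G : EtModW.ModP Λ X} (φ : F ⟶ G) [Epi φ] (U : X.ProEt) (hU : ProEtS.IsWC U) :
    Function.Surjective (φ.hom.app (op U)).hom := by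
  haveI : Sheaf.IsLocallySurjective φ := (Sheaf.isLocallySurjective_iff_epi' (φ := φ)).2 inferInstance
  haveI : Epi ((sheafCompose (Scheme.ProEt.topology X) (forget (ModuleCat.{u + 1} Λ))).map φ) :=
    inferInstance
  exact hU _ _ ((sheafCompose (Scheme.ProEt.topology X) (forget (ModuleCat.{u + 1} Λ))).map φ) inferInstance

/-- sections over `U` -/
noncomputable abbrev Γ (Λ : Type (u + 1)) [CommRing Λ] (X : Scheme.{u}) (U : X.ProEt) :
    EtModW.ModP Λ X ⥤ ModuleCat.{u + 1} Λ :=
  sheafToPresheaf (Scheme.ProEt.topology X) (ModuleCat.{u + 1} Λ) ⋙ (evaluation _ _).obj (op U)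

instance (U : X.ProEt) : PreservesFiniteLimits (Γ Λ X U) := comp_preservesFiniteLimits _ _

instance (U : X.ProEt) : (Γ Λ X U).Additive where
  map_add := rfl

/-- left exactness of sections -/
lemma exists_lift_kernel {F G : EtModW.ModP Λ X} (π : F ⟶ G) (U : X.ProEt)
    (s : F.obj.obj (op U)) (hs : (π.hom.app (op U)).hom s = 0) :
    ∃ t : (kernel π).obj.obj (op U), ((kernel.ι π).hom.app (op U)).hom t = s := by
  have hS : (ShortComplex.mk (kernel.ι π) π (kernel.condition π)).Exact :=
    ShortComplex.exact_of_f_is_kernel _ (kernelIsKernel π)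
  have hS' := hS.map_of_mono_of_preservesKernel (Γ Λ X U) inferInstance inferInstance
  rw [ShortComplex.moduleCat_exact_iff] at hS'
  exact hS' s hs

end Aux

/-- Let X be a scheme, Λ a commutative ring and I a finitely generated ideal of Λ; let F be a sheaf of
Λ-modules on the small pro-étale site of X and p : F ⟶ Q a quotient map modulo I (Q is killed by I
and every morphism out of F killed by I factors uniquely through p, so Q = F/IF); let U be a weakly
contractible object of the pro-étale site. Then the map on sections F(U) → Q(U) is surjective and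
its kernel is exactly the submodule I·F(U): sections over a weakly contractible object commute with
forming IF and F/IF. (The published lemma is for sheaves of Λ-modules on an arbitrary site and a
weakly contractible object of it; this row states the case of the small pro-étale site of a scheme.) -/
theorem result
    (Λ : Type (u + 1)) [CommRing Λ] (I : Ideal Λ) (hI : I.FG)
    (X : Scheme.{u}) (F Q : EtModW.ModP Λ X) (p : F ⟶ Q) (hp : ARSys.IsQuot I p)
    (U : X.ProEt) (hU : ProEtS.IsWC U) :
    Function.Surjective (p.hom.app (op U)).hom ∧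
      LinearMap.ker (p.hom.app (op U)).hom = I • (⊤ : Submodule Λ (F.obj.obj (op U))) := by
  classical
  have hepi : Epi p := by
    constructor
    intro Y ψ₁ ψ₂ h
    have hk : ARSys.HomKilledBy I (p ≫ ψ₁) := by
      intro a ha
      have h1 : a • (p ≫ ψ₁) = p ≫ (a • 𝟙 Q) ≫ ψ₁ := by
        rw [Linear.smul_comp, Category.id_comp, Linear.comp_smul]
      rw [h1, hp.1 a ha, zero_comp, comp_zero]
    obtain ⟨ψ, -, huniq⟩ := hp.2 Y (p ≫ ψ₁) hk
    exact (huniq ψ₁ rfl).trans (huniq ψ₂ h.symm).symm
  refine ⟨surjective_of_epi p U hU, ?_⟩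
  apply le_antisymm
  · intro s hs
    rw [LinearMap.mem_ker] at hs
    obtain ⟨r, a, ha⟩ := Submodule.fg_iff_exists_fin_generating_family.1 hI
    have haI : ∀ k, a k ∈ I := fun k => ha ▸ Submodule.subset_span ⟨k, rfl⟩
    haveI : HasFiniteBiproducts (EtModW.ModP Λ X) := Abelian.hasFiniteBiproducts
    haveI : HasBiproduct (fun _ : Fin r => F) := inferInstance
    let φ : (⨁ fun _ : Fin r => F) ⟶ F := biproduct.desc (fun k => a k • 𝟙 F)
    have hπ : ARSys.HomKilledBy I (cokernel.π φ) := by
      intro b hb
      rw [← ha] at hb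
      obtain ⟨c, rfl⟩ := (Submodule.mem_span_range_iff_exists_fun Λ).1 hb
      rw [Finset.sum_smul]
      refine Finset.sum_eq_zero fun k _ => ?_
      have h0 : a k • cokernel.π φ = 0 := by
        have h1 : biproduct.ι (fun _ : Fin r => F) k ≫ φ ≫ cokernel.π φ = 0 := by
          rw [cokernel.condition, comp_zero]
        rw [← Category.assoc, biproduct.ι_desc] at h1
        rwa [Linear.smul_comp, Category.id_comp] at h1
      rw [smul_eq_mul, mul_smul, h0, smul_zero]
    obtain ⟨ψ, hψ, -⟩ := hp.2 _ (cokernel.π φ) hπ
    have h2 : ((cokernel.π φ).hom.app (op U)).hom s = 0 := by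
      have := congrArg (fun m => (m.hom.app (op U)).hom s) hψ
      refine this.symm.trans ?_
      change (ψ.hom.app (op U)).hom ((p.hom.app (op U)).hom s) = 0
      rw [hs, map_zero]
    obtain ⟨t, ht⟩ := exists_lift_kernel (cokernel.π φ) U s h2
    haveI : Epi (kernel.lift (cokernel.π φ) φ (cokernel.condition φ)) :=
      inferInstanceAs (Epi (Abelian.factorThruImage φ))
    obtain ⟨g, hg⟩ := surjective_of_epi (kernel.lift (cokernel.π φ) φ (cokernel.condition φ)) U hU t
    have hs' : s = (φ.hom.app (op U)).hom g := by
      rw [← ht, ← hg]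
      exact congrArg (fun m => (m.hom.app (op U)).hom g) (kernel.lift_ι (cokernel.π φ) φ (cokernel.condition φ))
    have hφ : φ = ∑ k, biproduct.π (fun _ : Fin r => F) k ≫ (a k • 𝟙 F) := biproduct.desc_eq
    have hφ' : (Γ Λ X U).map φ = ∑ k, (Γ Λ X U).map (biproduct.π (fun _ : Fin r => F) k ≫ (a k • 𝟙 F)) := by
      rw [hφ, Functor.map_sum]
    have hs'' : s = ∑ k, a k • (((biproduct.π (fun _ : Fin r => F) k).hom.app (op U)).hom g) := by
      rw [hs']
      have := congrArg (fun m => m.hom g) hφ'
      simp only [ModuleCat.hom_sum, LinearMap.sum_apply] at this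
      exact this
    rw [hs'']
    exact Submodule.sum_mem _ fun k _ => Submodule.smul_mem_smul (haI k) trivial
  · rw [Submodule.smul_le]
    intro a ha s _
    rw [LinearMap.mem_ker, map_smul]
    have h1 := congrArg (fun m => (m.hom.app (op U)).hom ((p.hom.app (op U)).hom s)) (hp.1 a ha)
    exact h1

end Groth.Agent.S14017
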