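import Groth.Statements.S14044
import Groth.Agent.Lib.Seat64Hermite

set_option autoImplicit false
universe u
open W4c1frobunstiva

namespace Groth.Agent.S14044

/-- Let k be a field, p a prime number and M a square matrix of size r over k[[t]] with non-zero
determinant. Allowing, besides invertible row operations over k[[t]], invertible column operations
by matrices with entries in k[[t^p]] (power series whose coefficients vanish in all degrees not
divisible by p), M can be brought to a row-reduced form — upper triangular, diagonal entries
t^{e_i}, entries above the diagonal in column j polynomials of degree less than e_j — in which in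
addition the (i, j) entry (i < j) has no term in a degree that is at least e_i and congruent to e_i
modulo p. (Existence only; the form is not unique. The published statement asks that no term in any
degree congruent to e_i modulo p remain; the published reduction — adding k[[t^p]]-multiples of
column i to column j — removes exactly the terms of degree at least e_i, which is what is asserted
here. The published statement takes k algebraically closed of characteristic p, where k[[t^p]] is
the ring of p-th powers; neither assumption is used.) -/
theorem result (k : Type u)
    [Field k] (p : ℕ) [Fact p.Prime] (r : ℕ) (M : Matrix (Fin r) (Fin r) (PowerSeries k))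
    (hM : M.det ≠ 0) :
    ∃ (N P : Matrix (Fin r) (Fin r) (PowerSeries k)) (e : Fin r → ℕ), IsUnit N ∧ IsUnit P ∧
      (∀ i j n, ¬ p ∣ n → PowerSeries.coeff n (P i j) = 0) ∧
      (∀ i, (N * M * P) i i = PowerSeries.X ^ e i) ∧ (∀ i j, j < i → (N * M * P) i j = 0) ∧
      (∀ i j, i < j → ∀ n, (e j ≤ n ∨ (e i ≤ n ∧ n % p = e i % p)) →
        PowerSeries.coeff n ((N * M * P) i j) = 0) := by
  obtain ⟨N, P, e, hN, hP, hPD, h1, h2, h3⟩ :=
    Groth.Agent.Lib.Seat64.Hermite.exists_reduced (fun n => p ∣ n)
      (fun a b ha hb => Nat.dvd_add ha hb) M hM
  refine ⟨N, P, e, hN, hP, ?_, h1, h2, ?_⟩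
  · intro i j n hn
    have h0 : PowerSeries.coeff n ((P - 1) i j) = 0 := hPD i j n hn
    have hn0 : n ≠ 0 := fun h => hn (h ▸ dvd_zero p)
    have hPij : P i j = (P - 1) i j + (1 : Matrix (Fin r) (Fin r) (PowerSeries k)) i j := by
      rw [Matrix.sub_apply, sub_add_cancel]
    rw [hPij, map_add, h0, zero_add]
    by_cases hij : i = j
    · rw [hij, Matrix.one_apply_eq, PowerSeries.coeff_one, if_neg hn0]
    · rw [Matrix.one_apply_ne hij, map_zero]
  · intro i j hij n hn
    apply h3 i j hij n
    rcases hn with h | ⟨hle, hmod⟩
    · exact Or.inl h
    · exact Or.inr ⟨hle, (Nat.modEq_iff_dvd' hle).mp hmod.symm⟩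

end Groth.Agent.S14044
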