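import Groth.Statements.S14066
import Groth.Agent.Lib.Seat64CoprodProj

set_option autoImplicit false
universe u
open CategoryTheory CategoryTheory.Limits AlgebraicGeometry TopologicalSpace
open Variety

namespace Groth.Agent.S14066

/-- Let k be a field, and let X₁ and X₂ be k-schemes with closed immersions i₁ : X₁ → P^n_k and i₂ : X₂
→ P^m_k over k. Then there is a closed immersion of the disjoint union X₁ ⨿ X₂ into P^{n+m+1}_k over
k, that is, compatible with the structure morphism of the coproduct induced by those of X₁ and X₂.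
(Stated as the step of the published proof showing that a disjoint union of two projective k-schemes
is projective.) -/
theorem result (k : Type u) [Field k] (n m : ℕ)
    (X₁ X₂ : Scheme.{u}) [X₁.Over (Spec (CommRingCat.of k))] [X₂.Over (Spec (CommRingCat.of k))]
    (i₁ : X₁ ⟶ CohB1.ProjSpace n k) [IsClosedImmersion i₁] (h₁ : i₁ ≫ CohB1.ProjSpace.toSpec n k = X₁ ↘ (Spec (CommRingCat.of k)))
    (i₂ : X₂ ⟶ CohB1.ProjSpace m k) [IsClosedImmersion i₂] (h₂ : i₂ ≫ CohB1.ProjSpace.toSpec m k = X₂ ↘ (Spec (CommRingCat.of k))) :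
    ∃ j : X₁ ⨿ X₂ ⟶ CohB1.ProjSpace (n + m + 1) k, IsClosedImmersion j ∧
      j ≫ CohB1.ProjSpace.toSpec (n + m + 1) k = coprod.desc (X₁ ↘ (Spec (CommRingCat.of k))) (X₂ ↘ (Spec (CommRingCat.of k))) := by
  classical
  -- the two coordinate projections
  let g₁ : Fin (n + m + 1 + 1) → Option (Fin (n + 1)) := fun c =>
    if h : c.val < n + 1 then some ⟨c.val, h⟩ else none
  let e₁ : Fin (n + 1) → Fin (n + m + 1 + 1) := fun i => ⟨i.val, by have := i.isLt; omega⟩
  have he₁ : ∀ i, g₁ (e₁ i) = some i := by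
    intro i
    have h : (e₁ i).val < n + 1 := i.isLt
    simp only [g₁, dif_pos h]
    rfl
  let g₂ : Fin (n + m + 1 + 1) → Option (Fin (m + 1)) := fun c =>
    if h : n + 1 ≤ c.val then some ⟨c.val - (n + 1), by have := c.isLt; omega⟩ else none
  let e₂ : Fin (m + 1) → Fin (n + m + 1 + 1) := fun i => ⟨n + 1 + i.val, by have := i.isLt; omega⟩
  have he₂ : ∀ i, g₂ (e₂ i) = some i := by
    intro i
    have h : n + 1 ≤ (e₂ i).val := Nat.le_add_right _ _
    simp only [g₂, dif_pos h]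
    congr 1
    apply Fin.ext
    change n + 1 + i.val - (n + 1) = i.val
    omega
  have hg : ∀ c, g₁ c = none ∨ g₂ c = none := by
    intro c
    by_cases h : c.val < n + 1
    · right
      have h' : ¬ (n + 1 ≤ c.val) := by omega
      simp only [g₂, dif_neg h']
    · left
      simp only [g₁, dif_neg h]
  let l₁ := Groth.Agent.Lib.Seat64.CoprodProj.linMap k g₁ e₁ he₁
  let l₂ := Groth.Agent.Lib.Seat64.CoprodProj.linMap k g₂ e₂ he₂
  have hdisj : Disjoint (Set.range (i₁ ≫ l₁)) (Set.range (i₂ ≫ l₂)) := by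
    have h0 := Groth.Agent.Lib.Seat64.CoprodProj.disjoint_range_linMap k g₁ e₁ he₁ g₂ e₂ he₂ hg
    rw [Set.disjoint_left] at h0 ⊢
    rintro y ⟨x₁, rfl⟩ ⟨x₂, hx₂⟩
    exact h0 ⟨i₁ x₁, rfl⟩ ⟨i₂ x₂, hx₂⟩
  refine ⟨coprod.desc (i₁ ≫ l₁) (i₂ ≫ l₂),
    Groth.Agent.Lib.Seat64.CoprodProj.isClosedImmersion_coprod_desc _ _ hdisj, ?_⟩
  apply coprod.hom_ext
  · rw [coprod.inl_desc_assoc, coprod.inl_desc, Category.assoc,
      Groth.Agent.Lib.Seat64.CoprodProj.linMap_toSpec, h₁]
  · rw [coprod.inr_desc_assoc, coprod.inr_desc, Category.assoc,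
      Groth.Agent.Lib.Seat64.CoprodProj.linMap_toSpec, h₂]

end Groth.Agent.S14066
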