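import Groth.Statements.S14073
import Groth.Agent.Lib.Seat99DetFFR2

set_option autoImplicit false
universe u
open FamCyc

namespace Groth.Agent.S14073

/-- Let A be a Noetherian ring, M an A-module with a finite resolution by finite free modules, and φ an
endomorphism of M. Then there is a unique element of A (the determinant of φ) whose image in A_p is
the determinant of the localized endomorphism φ_p of the free A_p-module M_p, for every prime p of A
at which M_p is free. -/
theorem result (A : Type u) [CommRing A] [IsNoetherianRing A]
    (M : Type u) [AddCommGroup M] [Module A M] (n : ℕ) (hM : FamCyc.HasFiniteFreeResolutionLE A n M)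
    (φ : M →ₗ[A] M) :
    ∃! a : A, ∀ (p : Ideal A) [p.IsPrime],
      Module.Free (Localization.AtPrime p) (LocalizedModule p.primeCompl M) →
        algebraMap A (Localization.AtPrime p) a =
          LinearMap.det (LocalizedModule.map p.primeCompl φ) := by
  have hMfin : Module.Finite A M := Groth.Agent.Lib.Seat99.DetFFR.finite_of_ffr n M hM
  obtain ⟨χ, hmonic, hχ⟩ := Groth.Agent.Lib.Seat99.DetFFR.exists_charpoly n M hM φ
  have hex : ∀ (p : Ideal A) [p.IsPrime],
      Module.Free (Localization.AtPrime p) (LocalizedModule p.primeCompl M) →
        algebraMap A (Localization.AtPrime p) ((-1) ^ χ.natDegree * χ.coeff 0) =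
          LinearMap.det (LocalizedModule.map p.primeCompl φ) := by
    intro p _ hfree
    have := hfree
    have := Groth.Agent.Lib.Seat99.DetFFR.finite_localizedModule p.primeCompl M
    have h1 := hχ p hfree
    have hdeg : Module.finrank (Localization.AtPrime p) (LocalizedModule p.primeCompl M) =
        χ.natDegree := by
      rw [← LinearMap.charpoly_natDegree (LocalizedModule.map p.primeCompl φ), ← h1,
        hmonic.natDegree_map]
    rw [LinearMap.det_eq_sign_charpoly_coeff, ← h1, hdeg, Polynomial.coeff_map, map_mul, map_pow,
      map_neg, map_one]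
  refine ⟨(-1) ^ χ.natDegree * χ.coeff 0, hex, ?_⟩
  intro a' ha'
  rw [← sub_eq_zero]
  apply Groth.Agent.Lib.Seat99.DetFFR.eq_zero_of_forall_assoc
  intro P _ hP
  have hMfree := Groth.Agent.Lib.Seat99.DetFFR.free_localized_of_ffr P hP n M hM
  rw [map_sub, ha' P hMfree, hex P hMfree, sub_self]

end Groth.Agent.S14073
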