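import Groth.Statements.S14083
-- import your own Groth.Agent.* helpers here
import Groth.Agent.Lib.Seat71ArSingNodeAut

set_option autoImplicit false
universe u
open ArSing

namespace Groth.Agent.S14083

open Groth.Agent.Lib.Seat71.ArSingNF Groth.Agent.Lib.Seat71.ArSingParity
  Groth.Agent.Lib.Seat71.ArSingSwap Groth.Agent.Lib.Seat71.ArSingNodeAut

/-- Over an algebraically closed field k of characteristic different from 2, every non-trivial k-algebra
involution σ of the node algebra A_1 = k[[x,y]]/(y^2 - x^2) is conjugate, by a k-algebra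
automorphism φ of A_1, to one of the three involutions (x, y) ↦ (x, -y), (x, y) ↦ (-x, -y), (x, y) ↦
(y, x). -/
theorem result (k : Type u) [Field k] [IsAlgClosed k]
    (h2 : (2 : k) ≠ 0)
    (σ : ArSing.ring k 1 ≃ₐ[k] ArSing.ring k 1) (hσ : ∀ a, σ (σ a) = a) (hne : σ ≠ AlgEquiv.refl) :
    ∃ φ : ArSing.ring k 1 ≃ₐ[k] ArSing.ring k 1,
      (φ.symm (σ (φ (ArSing.x k 1))) = ArSing.x k 1 ∧ φ.symm (σ (φ (ArSing.y k 1))) = -ArSing.y k 1) ∨
      (φ.symm (σ (φ (ArSing.x k 1))) = -ArSing.x k 1 ∧ φ.symm (σ (φ (ArSing.y k 1))) = -ArSing.y k 1) ∨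
      (φ.symm (σ (φ (ArSing.x k 1))) = ArSing.y k 1 ∧ φ.symm (σ (φ (ArSing.y k 1))) = ArSing.x k 1) := by
  have huv := u_mul_v (k := k)
  have hPuv : P (σ (ArSing.x k 1 + ArSing.y k 1)) * P (σ (ArSing.y k 1 - ArSing.x k 1)) = 0 := by
    rw [← map_mul, ← map_mul, huv, map_zero, map_zero]
  have hQuv : Q (σ (ArSing.x k 1 + ArSing.y k 1)) * Q (σ (ArSing.y k 1 - ArSing.x k 1)) = 0 := by
    rw [← map_mul, ← map_mul, huv, map_zero, map_zero]
  have hu_ne : ArSing.x k 1 + ArSing.y k 1 ≠ 0 := by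
    intro h
    have := congrArg P h
    rw [P_u, map_zero] at this
    exact two_X_ne_zero h2 this
  have hv_ne : ArSing.y k 1 - ArSing.x k 1 ≠ 0 := by
    intro h
    have := congrArg Q h
    rw [Q_v, map_zero] at this
    have h3 : (2 : PowerSeries k) * PowerSeries.X = 0 := by linear_combination -this
    exact two_X_ne_zero h2 h3
  have hnz : ∀ w : ArSing.ring k 1, w ≠ 0 → ¬ (P (σ w) = 0 ∧ Q (σ w) = 0) := by
    rintro w hw ⟨h1, h3⟩
    have : σ w = 0 := PQ_injective h2 (by rw [h1, map_zero]) (by rw [h3, map_zero])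
    exact hw (by simpa using this)
  have hmemP : ∀ z : ArSing.ring k 1, ∃ w, z - ArSing.xMap k 1 (P z) =
      (ArSing.y k 1 - ArSing.x k 1) * w := by
    intro z
    have : z - ArSing.xMap k 1 (P z) ∈ RingHom.ker (P : ArSing.ring k 1 →ₐ[k] PowerSeries k) := by
      rw [RingHom.mem_ker]
      show P (z - ArSing.xMap k 1 (P z)) = 0
      rw [map_sub, P_xMap, sub_self]
    rw [ker_P, Ideal.mem_span_singleton] at this
    exact this
  have hmemQ : ∀ z : ArSing.ring k 1, ∃ w, z - ArSing.xMap k 1 (Q z) =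
      (ArSing.x k 1 + ArSing.y k 1) * w := by
    intro z
    have : z - ArSing.xMap k 1 (Q z) ∈ RingHom.ker (Q : ArSing.ring k 1 →ₐ[k] PowerSeries k) := by
      rw [RingHom.mem_ker]
      show Q (z - ArSing.xMap k 1 (Q z)) = 0
      rw [map_sub, Q_xMap, sub_self]
    rw [ker_Q, Ideal.mem_span_singleton] at this
    exact this
  -- the third alternative from branchwise description
  have third : ∀ φ' : ArSing.ring k 1 ≃ₐ[k] ArSing.ring k 1,
      (∀ z, P (φ'.symm (σ (φ' z))) = P z) →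
      (∀ z, Q (φ'.symm (σ (φ' z))) = PowerSeries.rescale (-1 : k) (Q z)) →
      (φ'.symm (σ (φ' (ArSing.x k 1))) = ArSing.y k 1 ∧
        φ'.symm (σ (φ' (ArSing.y k 1))) = ArSing.x k 1) := by
    intro φ' hP hQ
    constructor
    · apply PQ_injective h2
      · rw [hP, P_x, P_y]
      · rw [hQ, Q_x, Q_y, PowerSeries.rescale_X]
        simp
    · apply PQ_injective h2
      · rw [hP, P_x, P_y]
      · rw [hQ, Q_x, Q_y, map_neg, PowerSeries.rescale_X]
        simp
  by_cases hcase : P (σ (ArSing.y k 1 - ArSing.x k 1)) = 0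
  · -- branch-preserving
    have hQu : Q (σ (ArSing.x k 1 + ArSing.y k 1)) = 0 := by
      rcases mul_eq_zero.1 hQuv with h | h
      · exact h
      · exact absurd ⟨hcase, h⟩ (hnz _ hv_ne)
    have hPσ : ∀ z, P (σ z) = P (σ (ArSing.xMap k 1 (P z))) := by
      intro z
      obtain ⟨w, hw⟩ := hmemP z
      have : P (σ (z - ArSing.xMap k 1 (P z))) = 0 := by
        rw [hw, map_mul, map_mul, hcase, zero_mul]
      rw [map_sub, map_sub, sub_eq_zero] at this
      exact this
    have hQσ : ∀ z, Q (σ z) = Q (σ (ArSing.xMap k 1 (Q z))) := by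
      intro z
      obtain ⟨w, hw⟩ := hmemQ z
      have : Q (σ (z - ArSing.xMap k 1 (Q z))) = 0 := by
        rw [hw, map_mul, map_mul, hQu, zero_mul]
      rw [map_sub, map_sub, sub_eq_zero] at this
      exact this
    let α : PowerSeries k →ₐ[k] PowerSeries k :=
      (P.comp (σ : ArSing.ring k 1 →ₐ[k] ArSing.ring k 1)).comp (ArSing.xMap k 1)
    let β : PowerSeries k →ₐ[k] PowerSeries k :=
      (Q.comp (σ : ArSing.ring k 1 →ₐ[k] ArSing.ring k 1)).comp (ArSing.xMap k 1)
    have hα : ∀ z, α (P z) = P (σ z) := fun z => (hPσ z).symm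
    have hβ : ∀ z, β (Q z) = Q (σ z) := fun z => (hQσ z).symm
    have hαα : ∀ f, α (α f) = f := by
      intro f
      have h1 : α f = P (σ (ArSing.xMap k 1 f)) := rfl
      rw [h1, hα, hσ, P_xMap]
    have hββ : ∀ f, β (β f) = f := by
      intro f
      have h1 : β f = Q (σ (ArSing.xMap k 1 f)) := rfl
      rw [h1, hβ, hσ, Q_xMap]
    let α' : PowerSeries k ≃ₐ[k] PowerSeries k :=
      AlgEquiv.ofAlgHom α α (AlgHom.ext hαα) (AlgHom.ext hαα)
    let β' : PowerSeries k ≃ₐ[k] PowerSeries k :=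
      AlgEquiv.ofAlgHom β β (AlgHom.ext hββ) (AlgHom.ext hββ)
    obtain ⟨hξ₁, ψ₁, -, hψ₁⟩ := Groth.Agent.S14080.result k h2 α' hαα
    obtain ⟨hξ₂, ψ₂, -, hψ₂⟩ := Groth.Agent.S14080.result k h2 β' hββ
    set ξ₁ := PowerSeries.coeff 1 (α' PowerSeries.X) with hξ₁def
    set ξ₂ := PowerSeries.coeff 1 (β' PowerSeries.X) with hξ₂def
    let φ := branchEquiv h2 ψ₁ ψ₂
    have hPφ : ∀ z, P (φ.symm (σ (φ z))) = PowerSeries.rescale ξ₁ (P z) := by
      intro z
      rw [P_branchEquiv_symm, ← hα, P_branchEquiv]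
      exact hψ₁ (P z)
    have hQφ : ∀ z, Q (φ.symm (σ (φ z))) = PowerSeries.rescale ξ₂ (Q z) := by
      intro z
      rw [Q_branchEquiv_symm, ← hβ, Q_branchEquiv]
      exact hψ₂ (Q z)
    have h1 : ξ₁ = 1 ∨ ξ₁ = -1 := mul_self_eq_one_iff.1 (by rw [← sq]; exact hξ₁)
    have h3 : ξ₂ = 1 ∨ ξ₂ = -1 := mul_self_eq_one_iff.1 (by rw [← sq]; exact hξ₂)
    rcases h1 with h1 | h1 <;> rcases h3 with h3 | h3
    · -- trivial: contradiction
      exfalso
      apply hne
      have hid : ∀ z, φ.symm (σ (φ z)) = z := by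
        intro z
        apply PQ_injective h2
        · rw [hPφ, h1, PowerSeries.rescale_one]; rfl
        · rw [hQφ, h3, PowerSeries.rescale_one]; rfl
      ext w
      have := hid (φ.symm w)
      rw [AlgEquiv.apply_symm_apply] at this
      have h4 := congrArg φ this
      rw [AlgEquiv.apply_symm_apply, AlgEquiv.apply_symm_apply] at h4
      exact h4
    · exact ⟨φ, Or.inr (Or.inr (third φ (fun z => by
        rw [hPφ, h1, PowerSeries.rescale_one]; rfl) (fun z => by rw [hQφ, h3])))⟩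
    · -- conjugate further by θ
      refine ⟨(θ h2).trans φ, Or.inr (Or.inr (third _ (fun z => ?_) (fun z => ?_)))⟩
      · show P ((θ h2).symm (φ.symm (σ (φ (θ h2 z))))) = P z
        rw [P_θ_symm, hQφ, h3, PowerSeries.rescale_one, Q_θ]; rfl
      · show Q ((θ h2).symm (φ.symm (σ (φ (θ h2 z))))) = _
        rw [Q_θ_symm, hPφ, h1, P_θ]
    · refine ⟨φ, Or.inr (Or.inl ⟨?_, ?_⟩)⟩
      · apply PQ_injective h2
        · rw [hPφ, h1, map_neg, P_x, PowerSeries.rescale_X]; simp
        · rw [hQφ, h3, map_neg, Q_x, PowerSeries.rescale_X]; simp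
      · apply PQ_injective h2
        · rw [hPφ, h1, map_neg, P_y, PowerSeries.rescale_X]; simp
        · rw [hQφ, h3, map_neg, Q_y, map_neg, PowerSeries.rescale_X]; simp
  · -- branch-swapping
    have hPu : P (σ (ArSing.x k 1 + ArSing.y k 1)) = 0 :=
      (mul_eq_zero.1 hPuv).resolve_right hcase
    have hQv : Q (σ (ArSing.y k 1 - ArSing.x k 1)) = 0 := by
      rcases mul_eq_zero.1 hQuv with h | h
      · exact absurd ⟨hPu, h⟩ (hnz _ hu_ne)
      · exact h
    have hPσ : ∀ z, P (σ z) = P (σ (ArSing.xMap k 1 (Q z))) := by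
      intro z
      obtain ⟨w, hw⟩ := hmemQ z
      have : P (σ (z - ArSing.xMap k 1 (Q z))) = 0 := by
        rw [hw, map_mul, map_mul, hPu, zero_mul]
      rw [map_sub, map_sub, sub_eq_zero] at this
      exact this
    have hQσ : ∀ z, Q (σ z) = Q (σ (ArSing.xMap k 1 (P z))) := by
      intro z
      obtain ⟨w, hw⟩ := hmemP z
      have : Q (σ (z - ArSing.xMap k 1 (P z))) = 0 := by
        rw [hw, map_mul, map_mul, hQv, zero_mul]
      rw [map_sub, map_sub, sub_eq_zero] at this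
      exact this
    let α : PowerSeries k →ₐ[k] PowerSeries k :=
      (P.comp (σ : ArSing.ring k 1 →ₐ[k] ArSing.ring k 1)).comp (ArSing.xMap k 1)
    let β : PowerSeries k →ₐ[k] PowerSeries k :=
      (Q.comp (σ : ArSing.ring k 1 →ₐ[k] ArSing.ring k 1)).comp (ArSing.xMap k 1)
    have hα : ∀ z, α (Q z) = P (σ z) := fun z => (hPσ z).symm
    have hβ : ∀ z, β (P z) = Q (σ z) := fun z => (hQσ z).symm
    have hαβ : ∀ f, α (β f) = f := by
      intro f
      have h1 : β f = Q (σ (ArSing.xMap k 1 f)) := rfl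
      rw [h1, hα, hσ, P_xMap]
    have hβα : ∀ f, β (α f) = f := by
      intro f
      have h1 : α f = P (σ (ArSing.xMap k 1 f)) := rfl
      rw [h1, hβ, hσ, Q_xMap]
    let β' : PowerSeries k ≃ₐ[k] PowerSeries k :=
      AlgEquiv.ofAlgHom β α (AlgHom.ext hβα) (AlgHom.ext hαβ)
    let φ := branchEquiv h2 AlgEquiv.refl β'
    have hθ : ∀ z, φ.symm (σ (φ z)) = θ h2 z := by
      intro z
      apply PQ_injective h2
      · rw [P_branchEquiv_symm, P_θ, ← hα, Q_branchEquiv]
        exact hαβ (Q z)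
      · rw [Q_branchEquiv_symm, Q_θ, ← hβ, P_branchEquiv]
        exact β'.symm_apply_apply (P z)
    refine ⟨φ, Or.inl ⟨?_, ?_⟩⟩
    · rw [hθ]
      apply PQ_injective h2
      · rw [P_θ, Q_x, P_x]
      · rw [Q_θ, Q_x, P_x]
    · rw [hθ]
      apply PQ_injective h2
      · rw [P_θ, Q_y, map_neg, P_y]
      · rw [Q_θ, P_y, map_neg, Q_y, neg_neg]

end Groth.Agent.S14083
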