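import Groth.Statements.S14087
import Mathlib
import Groth.Agent.S14091

set_option autoImplicit false
set_option linter.style.haveILetI false
universe u
open ArSing

namespace Groth.Agent.S14087

namespace Aux

open Polynomial

variable {k : Type u} [Field k]

section Aug

variable {R : Type u} [CommRing R] [Algebra k R] (ε : R →ₐ[k] k)
  (hnil : ∀ r : R, IsNilpotent (r - algebraMap k R (ε r)))

include hnil

theorem isUnit_iff (r : R) : IsUnit r ↔ ε r ≠ 0 := by
  haveI : Nontrivial R := RingHom.domain_nontrivial (ε : R →+* k)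
  constructor
  · intro hr
    exact (hr.map ε).ne_zero
  · intro hr
    have hu : IsUnit (algebraMap k R (ε r)) := (isUnit_iff_ne_zero.mpr hr).map (algebraMap k R)
    have := (hnil r).isUnit_add_left_of_commute hu (Commute.all _ _)
    rwa [add_sub_cancel] at this

theorem isLocalRing : IsLocalRing R := by
  haveI : Nontrivial R := RingHom.domain_nontrivial (ε : R →+* k)
  refine IsLocalRing.of_nonunits_add fun a b ha hb => ?_
  have ha' : ε a = 0 := by
    by_contra h
    exact ha ((isUnit_iff ε hnil a).mpr h)
  have hb' : ε b = 0 := by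
    by_contra h
    exact hb ((isUnit_iff ε hnil b).mpr h)
  intro hab
  exact (isUnit_iff ε hnil (a + b)).mp hab (by rw [map_add, ha', hb', add_zero])

end Aug

variable (k) in
/-- Evaluation at zero on `k[X]/(X^n)`, `n > 0`. -/
noncomputable def ev (n : ℕ) (hn : 0 < n) :
    (Polynomial k ⧸ Ideal.span {(X : Polynomial k) ^ n}) →ₐ[k] k :=
  Ideal.Quotient.liftₐ (Ideal.span {(X : Polynomial k) ^ n}) (Polynomial.aeval (0 : k)) (by
    intro a ha
    rw [Ideal.mem_span_singleton] at ha
    obtain ⟨q, rfl⟩ := ha
    rw [map_mul, map_pow, Polynomial.aeval_X, zero_pow hn.ne', zero_mul])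

theorem ev_nil (n : ℕ) (hn : 0 < n) (b : Polynomial k ⧸ Ideal.span {(X : Polynomial k) ^ n}) :
    IsNilpotent (b - algebraMap k _ (ev k n hn b)) := by
  obtain ⟨p, rfl⟩ := Ideal.Quotient.mk_surjective b
  have h1 : ev k n hn (Ideal.Quotient.mk _ p) = p.eval 0 := by
    change Polynomial.aeval (0 : k) p = _
    rw [Polynomial.coe_aeval_eq_eval]
  have h2 : (X : Polynomial k) ∣ p - C (p.eval 0) := by
    rw [Polynomial.X_dvd_iff, Polynomial.coeff_sub, Polynomial.coeff_C_zero,
      Polynomial.coeff_zero_eq_eval_zero, sub_self]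
  obtain ⟨q, hq⟩ := h2
  refine ⟨n, ?_⟩
  rw [h1]
  have h3 : (Ideal.Quotient.mk (Ideal.span {(X : Polynomial k) ^ n}) p -
      algebraMap k _ (p.eval 0)) = Ideal.Quotient.mk _ (p - C (p.eval 0)) := by
    rw [map_sub]
    rfl
  rw [h3, hq, ← map_pow, Ideal.Quotient.eq_zero_iff_mem, Ideal.mem_span_singleton, mul_pow]
  exact dvd_mul_right _ _

end Aux

open Polynomial in
/-- Over an algebraically closed field k, if B = k[t]/(t^n) with n ≥ 1 is flat over a k-subalgebra A ⊆ B
(a finite flat extension of pointed finite algebras with curvilinear top), then A is curvilinear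
too: A is isomorphic as a k-algebra to k[t]/(t^m) for some m. -/
theorem result (k : Type u) [Field k] [IsAlgClosed k]
    (n : ℕ) (hn : 0 < n)
    (A : Subalgebra k (Polynomial k ⧸ Ideal.span {(X : Polynomial k) ^ n}))
    [Module.Flat A (Polynomial k ⧸ Ideal.span {(X : Polynomial k) ^ n})] :
    ∃ m : ℕ, Nonempty (A ≃ₐ[k] (Polynomial k ⧸ Ideal.span {(X : Polynomial k) ^ m})) := by
  set B := Polynomial k ⧸ Ideal.span {(X : Polynomial k) ^ n} with hB
  let εB : B →ₐ[k] k := Aux.ev k n hn
  have hnilB : ∀ b : B, IsNilpotent (b - algebraMap k B (εB b)) := Aux.ev_nil n hn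
  let εA : A →ₐ[k] k := εB.comp A.val
  have hnilA : ∀ a : A, IsNilpotent (a - algebraMap k A (εA a)) := by
    intro a
    have := hnilB (a : B)
    have h1 : A.val (a - algebraMap k A (εA a)) = (a : B) - algebraMap k B (εB (a : B)) := by
      rw [map_sub]
      rfl
    rw [← IsNilpotent.map_iff (f := A.val) Subtype.val_injective, h1]
    exact this
  haveI : IsLocalRing B := Aux.isLocalRing εB hnilB
  haveI : IsLocalRing A := Aux.isLocalRing εA hnilA
  haveI : IsLocalHom (algebraMap A B) := by
    refine ⟨fun a ha => ?_⟩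
    rw [Aux.isUnit_iff εA hnilA]
    exact (Aux.isUnit_iff εB hnilB _).mp ha
  have hflat : @Module.Flat A B _ _ Algebra.toModule := ‹Module.Flat A B›
  haveI : @Module.FaithfullyFlat A B _ _ Algebra.toModule :=
    @Module.FaithfullyFlat.of_flat_of_isLocalHom A B _ _ _ _ _ hflat _
  haveI : Module.Finite k B := (Polynomial.monic_X_pow n).finite_quotient
  haveI : Module.Finite k A := Module.Finite.of_injective A.val.toLinearMap Subtype.val_injective
  haveI : IsNoetherianRing A := isNoetherian_of_tower k (inferInstance : IsNoetherian k A)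
  haveI : IsPrincipalIdealRing B :=
    IsPrincipalIdealRing.of_surjective (Ideal.Quotient.mk (Ideal.span {(X : Polynomial k) ^ n}))
      Ideal.Quotient.mk_surjective
  have hinj : Function.Injective (algebraMap A B) := Subtype.val_injective
  have hprin : (IsLocalRing.maximalIdeal A).IsPrincipal := by
    set I := (IsLocalRing.maximalIdeal A).map (algebraMap A B) with hI
    obtain ⟨b, hb⟩ := (IsPrincipalIdealRing.principal I).principal
    have hb' : I = Ideal.span {b} := hb
    by_cases h : ∀ s ∈ IsLocalRing.maximalIdeal A,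
        algebraMap A B s ∈ IsLocalRing.maximalIdeal B * I
    · have hle : I ≤ IsLocalRing.maximalIdeal B • I :=
        Ideal.map_le_iff_le_comap.mpr (fun s hs => h s hs)
      have hbot : I = ⊥ :=
        Submodule.eq_bot_of_le_smul_of_le_jacobson_bot (IsLocalRing.maximalIdeal B) I
          (IsNoetherian.noetherian I) hle
          (by rw [IsLocalRing.jacobson_eq_maximalIdeal ⊥ bot_ne_top])
      have hm : IsLocalRing.maximalIdeal A = ⊥ := by
        rw [← Ideal.comap_map_eq_self_of_faithfullyFlat (B := B) (IsLocalRing.maximalIdeal A),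
          ← hI, hbot, Ideal.comap_bot_of_injective _ hinj]
      rw [hm]
      exact bot_isPrincipal
    · push Not at h
      obtain ⟨s, hs, hsI⟩ := h
      have hsmem : algebraMap A B s ∈ I := Ideal.mem_map_of_mem _ hs
      rw [hb', Ideal.mem_span_singleton'] at hsmem
      obtain ⟨c, hc⟩ := hsmem
      have hcu : IsUnit c := by
        by_contra hcn
        apply hsI
        rw [← hc]
        exact Ideal.mul_mem_mul ((IsLocalRing.mem_maximalIdeal c).mpr hcn)
          (hb' ▸ Ideal.mem_span_singleton_self b)
      have hspan : I = Ideal.span {algebraMap A B s} := by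
        rw [hb', ← hc, Ideal.span_singleton_mul_left_unit hcu]
      have hm : IsLocalRing.maximalIdeal A = Ideal.span {s} := by
        have hmap : Ideal.span {algebraMap A B s} = (Ideal.span {s}).map (algebraMap A B) := by
          rw [Ideal.map_span, Set.image_singleton]
        rw [← Ideal.comap_map_eq_self_of_faithfullyFlat (B := B) (IsLocalRing.maximalIdeal A),
          ← hI, hspan, hmap, Ideal.comap_map_eq_self_of_faithfullyFlat]
      exact ⟨⟨s, hm⟩⟩
  have hcurv := IsLocalRing.finrank_cotangentSpace_le_one_iff.mpr hprin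
  exact ⟨Module.finrank k A, Groth.Agent.S14091.result k A hcurv⟩

end Groth.Agent.S14087
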