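import Groth.Statements.S14090
-- import your own Groth.Agent.* helpers here
import Groth.Agent.Lib.Seat64AffBlowUp
import Groth.Agent.Lib.Helper20EffCartier

set_option autoImplicit false
universe u
open CategoryTheory AlgebraicGeometry
open BlowUp

namespace Groth.Agent.S14090

open Groth.Agent.Lib.Seat64.AffBlowUp Groth.Agent.Lib.Helper20.EffCartier

/-- Let A → B be an injective ring homomorphism and I an ideal of A such that the ideal I·B of B is
contained in the image of I (so I is an ideal of B as well) and I·B is generated by one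
nonzerodivisor of B (I is free of rank one over B). Then Spec B → Spec A is a blowing up of Spec A
in I. (This is the affine statement behind recovering a pair (X̃, D̃), D̃ an effective Cartier
divisor finite flat over D, as the blow-up of the pushout X̃ ⨿_D̃ D along D.) -/
theorem result (A B : Type u) [CommRing A] [CommRing B] [Algebra A B]
    (hinj : Function.Injective (algebraMap A B)) (I : Ideal A)
    (hIB : (Ideal.map (algebraMap A B) I : Set B) ⊆ algebraMap A B '' (I : Set A))
    (f : B) (hf : f ∈ nonZeroDivisors B) (hgen : Ideal.map (algebraMap A B) I = Ideal.span {f}) :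
    BlowUp.IsBlowUp (Spec.map (CommRingCat.ofHom (algebraMap A B))) (Curv2.idealSheaf A I) := by
  have htop : (Curv2.idealSheaf A I).ideal ⟨⊤, isAffineOpen_top _⟩ =
      I.map (Scheme.ΓSpecIso (CommRingCat.of A)).inv.hom :=
    (Scheme.IdealSheafData.equivOfIsAffine).right_inv _
  -- the ideal of the pullback on an affine open `U` of `Y`
  have hideal : ∀ {Y : Scheme.{u}} (g : Y ⟶ Spec (CommRingCat.of A)) (U : Y.Opens)
      (hU : IsAffineOpen U),
      ((Curv2.idealSheaf A I).comap g).ideal ⟨U, hU⟩ =
        I.map (resψ (g.appTop.hom.comp (Scheme.ΓSpecIso (CommRingCat.of A)).inv.hom) U) := by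
    intro Y g U hU
    rw [ideal_comap_eq_map g (Curv2.idealSheaf A I) hU (isAffineOpen_top _) le_top, htop,
      Ideal.map_map]
    rfl
  have hnat : (Spec.map (CommRingCat.ofHom (algebraMap A B))).appTop.hom.comp
      (Scheme.ΓSpecIso (CommRingCat.of A)).inv.hom =
      (Scheme.ΓSpecIso (CommRingCat.of B)).inv.hom.comp (algebraMap A B) := by
    have := Scheme.ΓSpecIso_inv_naturality (CommRingCat.ofHom (algebraMap A B))
    have h2 := congrArg CommRingCat.Hom.hom this
    rw [CommRingCat.hom_comp, CommRingCat.hom_comp] at h2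
    exact h2.symm
  constructor
  · intro x
    refine ⟨⟨⊤, isAffineOpen_top _⟩, trivial,
      (Scheme.ΓSpecIso (CommRingCat.of B)).inv.hom f, ?_, ?_⟩
    · have hinj' : Function.Injective (Scheme.ΓSpecIso (CommRingCat.of B)).hom.hom :=
        (Scheme.ΓSpecIso (CommRingCat.of B)).commRingCatIsoToRingEquiv.injective
      apply mem_nonZeroDivisors_of_injective hinj'
      have : (Scheme.ΓSpecIso (CommRingCat.of B)).hom.hom
          ((Scheme.ΓSpecIso (CommRingCat.of B)).inv.hom f) = f := by
        rw [← CommRingCat.comp_apply, Iso.inv_hom_id]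
        rfl
      rw [this]
      exact hf
    · rw [hideal _ ⊤ (isAffineOpen_top _)]
      have h1 : resψ ((Spec.map (CommRingCat.ofHom (algebraMap A B))).appTop.hom.comp
          (Scheme.ΓSpecIso (CommRingCat.of A)).inv.hom) ⊤ =
          (Scheme.ΓSpecIso (CommRingCat.of B)).inv.hom.comp (algebraMap A B) := by
        rw [← hnat]
        exact RingHom.ext (resψ_top _)
      rw [h1, ← Ideal.map_map, hgen, Ideal.map_span, Set.image_singleton]
  · intro Y g hg
    set ψ : A →+* Γ(Y, ⊤) := g.appTop.hom.comp (Scheme.ΓSpecIso (CommRingCat.of A)).inv.hom with hψ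
    have hloc : LocPrincipal ψ I := by
      intro y W hyW
      obtain ⟨U, hU, hyU, hUW, c, hc, hIc⟩ := exists_le_of_isEffCartierIdeal hg y W hyW
      refine ⟨U, hyU, hUW, c, hc, ?_⟩
      rw [← hIc, hideal g U hU]
    obtain ⟨η, hη, hηuniq⟩ := existsUnique_extension hinj I hIB ψ hloc
    have hg' : g.appTop = (Scheme.ΓSpecIso (CommRingCat.of A)).hom ≫ CommRingCat.ofHom ψ := by
      rw [hψ, CommRingCat.ofHom_comp, CommRingCat.ofHom_hom, CommRingCat.ofHom_hom,
        Iso.hom_inv_id_assoc]
    refine ⟨Y.toSpecΓ ≫ Spec.map (CommRingCat.ofHom η), ?_, ?_⟩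
    · apply ext_of_isAffine
      rw [Scheme.Hom.comp_appTop, Scheme.Hom.comp_appTop, Scheme.toSpecΓ_appTop,
        Scheme.ΓSpecIso_naturality, Scheme.ΓSpecIso_naturality_assoc, hg', ← CommRingCat.ofHom_comp,
        hη]
    · intro h' hh'
      have hη' : (h'.appTop.hom.comp (Scheme.ΓSpecIso (CommRingCat.of B)).inv.hom).comp
          (algebraMap A B) = ψ := by
        rw [RingHom.comp_assoc, ← hnat, ← RingHom.comp_assoc, hψ, ← hh', Scheme.Hom.comp_appTop,
          CommRingCat.hom_comp]
      have h3 := hηuniq _ hη'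
      apply ext_of_isAffine
      rw [Scheme.Hom.comp_appTop, Scheme.toSpecΓ_appTop, Scheme.ΓSpecIso_naturality, ← h3,
        CommRingCat.ofHom_comp, CommRingCat.ofHom_hom, CommRingCat.ofHom_hom, Iso.hom_inv_id_assoc]

end Groth.Agent.S14090
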