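import Groth.Statements.S14093
-- import your own Groth.Agent.* helpers here
import Groth.Agent.Lib.Seat71ArSingFlat

set_option autoImplicit false
universe u
open ArSing

namespace Groth.Agent.S14093

open Groth.Agent.Lib.Seat71.ArSingNF Groth.Agent.Lib.Seat71.ArSingFlat
  Groth.Agent.Lib.Seat71.ArSingLen

/-- For an algebraically closed field k of characteristic prime to 2 and to r+1 and the involution σ of
A_r = k[[x,y]]/(y^2 - x^(r+1)) with σ(x) = x, σ(y) = -y: the invariant subalgebra is k[[x]] (the
image of t ↦ x from k[[t]]), the inclusion k[[x]] → A_r is faithfully flat (flat, and the maximal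
ideal of k[[t]] does not generate the unit ideal of A_r), and the fixed locus (the closed subscheme
cut out by all σ(a) - a) is a Cartier divisor of length r + 1, i.e. its ideal is generated by one
nonzerodivisor and the quotient has length r + 1. -/
theorem result (k : Type u) [Field k] [IsAlgClosed k] (r : ℕ)
    (h2 : (2 : k) ≠ 0) (hr : ((r + 1 : ℕ) : k) ≠ 0)
    (σ : ArSing.ring k r ≃ₐ[k] ArSing.ring k r) (hx : σ (ArSing.x k r) = ArSing.x k r)
    (hy : σ (ArSing.y k r) = -ArSing.y k r) :
    (∀ a : ArSing.ring k r, σ a = a ↔ a ∈ (ArSing.xMap k r).range) ∧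
    ((ArSing.xMap k r).toRingHom.Flat ∧
      Ideal.map (ArSing.xMap k r) (IsLocalRing.maximalIdeal (PowerSeries k)) ≠ ⊤) ∧
    (∃ g : ArSing.ring k r, g ∈ nonZeroDivisors (ArSing.ring k r) ∧
      Ideal.span (Set.range fun a : ArSing.ring k r => σ a - a) = Ideal.span {g}) ∧
    Module.length (ArSing.ring k r)
      (ArSing.ring k r ⧸ Ideal.span (Set.range fun a : ArSing.ring k r => σ a - a)) = r + 1 := by
  have hσx : ∀ a : PowerSeries k, σ (ArSing.xMap k r a) = ArSing.xMap k r a := by
    intro a
    have := algHom_xMap (σ : ArSing.ring k r →ₐ[k] ArSing.ring k r) (AlgHom.id k (PowerSeries k))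
      (by simpa [xMap_X] using hx) (by simp) a
    simpa using this
  have hσΦ : ∀ a b : PowerSeries k, σ (Φ r a b) = Φ r a (-b) := by
    intro a b
    unfold Φ
    rw [map_add, map_mul, hσx, hσx, hy, map_neg]
    ring
  have h2' : ∀ b : PowerSeries k, -b = b → b = 0 := by
    intro b hb
    ext i
    have := congrArg (PowerSeries.coeff i) hb
    rw [map_neg] at this
    have h3 : (2 : k) * PowerSeries.coeff i b = 0 := by linear_combination -this
    simpa [h2] using h3
  have hI : Ideal.span (Set.range fun a : ArSing.ring k r => σ a - a) =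
      Ideal.span {ArSing.y k r} := by
    apply le_antisymm
    · rw [Ideal.span_le]
      rintro _ ⟨a, rfl⟩
      obtain ⟨p, q, rfl⟩ := Φ_surj r a
      show σ (Φ r p q) - Φ r p q ∈ _
      rw [hσΦ, Φ_sub, sub_self, SetLike.mem_coe, Ideal.mem_span_singleton]
      refine ⟨Φ r (-q - q) 0, ?_⟩
      rw [y_mul_Φ]
      simp
    · rw [Ideal.span_singleton_le_iff_mem]
      have h3 : σ (ArSing.y k r) - ArSing.y k r ∈
          Ideal.span (Set.range fun a : ArSing.ring k r => σ a - a) :=
        Ideal.subset_span ⟨_, rfl⟩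
      have h4 : ArSing.y k r = algebraMap k (ArSing.ring k r) (-(2 : k)⁻¹) *
          (σ (ArSing.y k r) - ArSing.y k r) := by
        rw [hy, map_neg]
        have : algebraMap k (ArSing.ring k r) (2 : k)⁻¹ * 2 = 1 := by
          rw [← map_ofNat (algebraMap k (ArSing.ring k r)) 2, ← map_mul, inv_mul_cancel₀ h2,
            map_one]
        linear_combination (-ArSing.y k r) * this
      rw [h4]
      exact Ideal.mul_mem_left _ _ h3
  refine ⟨?_, ⟨xMap_flat r, map_xMap_maximalIdeal_ne_top r⟩, ⟨ArSing.y k r, y_mem_nonZeroDivisors r, hI⟩, ?_⟩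
  · intro a
    constructor
    · intro h
      obtain ⟨p, q, rfl⟩ := Φ_surj r a
      rw [hσΦ] at h
      have hq : q = 0 := h2' q (Φ_inj r h).2
      subst hq
      exact ⟨p, xMap_eq_Φ r p⟩
    · rintro ⟨p, rfl⟩
      exact hσx p
  · rw [hI, length_quot_span_y]

end Groth.Agent.S14093
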