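import Groth.Statements.S14094
-- import your own Groth.Agent.* helpers here
import Groth.Agent.Lib.Seat71ArSingParity

set_option autoImplicit false
universe u
open ArSing

namespace Groth.Agent.S14094

open Groth.Agent.Lib.Seat71.ArSingNF Groth.Agent.Lib.Seat71.ArSingFlat
  Groth.Agent.Lib.Seat71.ArSingLen Groth.Agent.Lib.Seat71.ArSingParity

/-- K algebraically closed of characteristic prime to 2 and to r+1, r = 2m - 1 with m ≥ 2, σ the
involution x ↦ -x, y ↦ y of A_r = k[[x,y]]/(y^2 - x^(r+1)), and φ : A_(m-1) → A_r the k-algebra map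
x ↦ x^2, y ↦ y. Then the invariant subalgebra of σ is the image of φ (so A_r^σ ≅ A_(m-1)), φ is
faithfully flat (flat, and the maximal ideal of A_(m-1) does not generate the unit ideal), and the
fixed locus of σ is a Cartier divisor of length 2: its ideal, generated by the elements σ(a) - a, is
generated by one nonzerodivisor and has quotient of length 2. -/
theorem result (k : Type u) [Field k] [IsAlgClosed k] (m r : ℕ)
    (hm : 2 ≤ m) (hr : r = 2 * m - 1) (h2 : (2 : k) ≠ 0) (hr1 : ((r + 1 : ℕ) : k) ≠ 0)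
    (σ : ArSing.ring k r ≃ₐ[k] ArSing.ring k r) (hx : σ (ArSing.x k r) = -ArSing.x k r)
    (hy : σ (ArSing.y k r) = ArSing.y k r)
    (φ : ArSing.ring k (m - 1) →ₐ[k] ArSing.ring k r) (hφx : φ (ArSing.x k (m - 1)) = ArSing.x k r ^ 2)
    (hφy : φ (ArSing.y k (m - 1)) = ArSing.y k r) :
    (∀ a : ArSing.ring k r, σ a = a ↔ a ∈ φ.range) ∧
    (φ.toRingHom.Flat ∧ ∀ I : Ideal (ArSing.ring k (m - 1)), I.IsMaximal → Ideal.map φ I ≠ ⊤) ∧
    (∃ g : ArSing.ring k r, g ∈ nonZeroDivisors (ArSing.ring k r) ∧ Ideal.span (Set.range fun a : ArSing.ring k r => σ a - a) = Ideal.span {g}) ∧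
    Module.length (ArSing.ring k r) (ArSing.ring k r ⧸ Ideal.span (Set.range fun a : ArSing.ring k r => σ a - a)) = 2 := by
  have hσx : ∀ a : PowerSeries k, σ (ArSing.xMap k r a) = ArSing.xMap k r (N a) := by
    intro a
    exact algHom_xMap (σ : ArSing.ring k r →ₐ[k] ArSing.ring k r) N
      (by rw [N_X, map_neg, xMap_X]; exact hx) (by rw [N_X]; simp) a
  have hσΦ : ∀ a b : PowerSeries k, σ (Φ r a b) = Φ r (N a) (N b) := by
    intro a b
    unfold Φ
    rw [map_add, map_mul, hσx, hσx, hy]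
  have hφx' : ∀ a : PowerSeries k, φ (ArSing.xMap k (m - 1) a) = ArSing.xMap k r (E a) := by
    intro a
    exact algHom_xMap φ E (by rw [E_X, map_pow, xMap_X]; exact hφx) (by rw [E_X]; simp) a
  have hφΦ : ∀ a b : PowerSeries k, φ (Φ (m - 1) a b) = Φ r (E a) (E b) := by
    intro a b
    unfold Φ
    rw [map_add, map_mul, hφx', hφx', hφy]
  have hI : Ideal.span (Set.range fun a : ArSing.ring k r => σ a - a) =
      Ideal.span {ArSing.x k r} := by
    apply le_antisymm
    · rw [Ideal.span_le]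
      rintro _ ⟨a, rfl⟩
      obtain ⟨p, q, rfl⟩ := Φ_surj r a
      show σ (Φ r p q) - Φ r p q ∈ _
      rw [hσΦ, Φ_sub, N_sub_self, N_sub_self, SetLike.mem_coe, Ideal.mem_span_singleton]
      refine ⟨Φ r (-2 * E (od p)) (-2 * E (od q)), ?_⟩
      rw [x_mul_Φ]
    · rw [Ideal.span_singleton_le_iff_mem]
      have h3 : σ (ArSing.x k r) - ArSing.x k r ∈
          Ideal.span (Set.range fun a : ArSing.ring k r => σ a - a) :=
        Ideal.subset_span ⟨_, rfl⟩
      have h4 : ArSing.x k r = algebraMap k (ArSing.ring k r) (-(2 : k)⁻¹) *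
          (σ (ArSing.x k r) - ArSing.x k r) := by
        rw [hx, map_neg]
        have : algebraMap k (ArSing.ring k r) (2 : k)⁻¹ * 2 = 1 := by
          rw [← map_ofNat (algebraMap k (ArSing.ring k r)) 2, ← map_mul, inv_mul_cancel₀ h2,
            map_one]
        linear_combination (-ArSing.x k r) * this
      rw [h4]
      exact Ideal.mul_mem_left _ _ h3
  have hflat : φ.toRingHom.Flat := by
    let _ : Algebra (ArSing.ring k (m - 1)) (ArSing.ring k r) := φ.toRingHom.toAlgebra
    show Module.Flat (ArSing.ring k (m - 1)) (ArSing.ring k r)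
    have hsmul : ∀ (s : ArSing.ring k (m - 1)) (z : ArSing.ring k r), s • z = φ s * z := by
      intro s z
      rw [Algebra.smul_def]
      rfl
    let L : (ArSing.ring k (m - 1) × ArSing.ring k (m - 1)) →ₗ[ArSing.ring k (m - 1)]
        ArSing.ring k r :=
      { toFun := fun p => φ p.1 + φ p.2 * ArSing.x k r
        map_add' := fun p q => by
          show φ (p.1 + q.1) + φ (p.2 + q.2) * ArSing.x k r = _
          rw [map_add, map_add]
          ring
        map_smul' := fun s p => by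
          show φ (s * p.1) + φ (s * p.2) * ArSing.x k r = s • (φ p.1 + φ p.2 * ArSing.x k r)
          rw [hsmul, map_mul, map_mul]
          ring }
    have hLΦ : ∀ a₁ b₁ a₂ b₂ : PowerSeries k, L (Φ (m - 1) a₁ b₁, Φ (m - 1) a₂ b₂) =
        Φ r (E a₁ + PowerSeries.X * E a₂) (E b₁ + PowerSeries.X * E b₂) := by
      intro a₁ b₁ a₂ b₂
      show φ (Φ (m - 1) a₁ b₁) + φ (Φ (m - 1) a₂ b₂) * ArSing.x k r = _
      rw [hφΦ, hφΦ, mul_comm, x_mul_Φ, Φ_add]
    have hL : Function.Bijective L := by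
      constructor
      · rw [← LinearMap.ker_eq_bot, LinearMap.ker_eq_bot']
        rintro ⟨α, β⟩ h
        obtain ⟨a₁, b₁, rfl⟩ := Φ_surj (m - 1) α
        obtain ⟨a₂, b₂, rfl⟩ := Φ_surj (m - 1) β
        rw [hLΦ] at h
        obtain ⟨h1, h2⟩ := Φ_eq_zero r h
        have e1 : a₁ = 0 := by rw [← ev_E_add a₁ a₂, h1]; ext; simp [ev]
        have e2 : a₂ = 0 := by rw [← od_E_add a₁ a₂, h1]; ext; simp [od]
        have e3 : b₁ = 0 := by rw [← ev_E_add b₁ b₂, h2]; ext; simp [ev]
        have e4 : b₂ = 0 := by rw [← od_E_add b₁ b₂, h2]; ext; simp [od]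
        rw [e1, e2, e3, e4, Φ_zero]
        rfl
      · intro z
        obtain ⟨a, b, rfl⟩ := Φ_surj r z
        refine ⟨(Φ (m - 1) (ev a) (ev b), Φ (m - 1) (od a) (od b)), ?_⟩
        rw [hLΦ, ← parity_decomp, ← parity_decomp]
    exact Module.Flat.of_linearEquiv (LinearEquiv.ofBijective L hL).symm
  refine ⟨?_, ⟨hflat, ?_⟩, ⟨ArSing.x k r, x_mem_nonZeroDivisors r, hI⟩, ?_⟩
  · intro a
    constructor
    · intro h
      obtain ⟨p, q, rfl⟩ := Φ_surj r a
      rw [hσΦ] at h
      obtain ⟨hp, hq⟩ := Φ_inj r h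
      rw [N_eq_self_iff h2] at hp hq
      refine ⟨Φ (m - 1) (ev p) (ev q), ?_⟩
      show φ (Φ (m - 1) (ev p) (ev q)) = _
      rw [hφΦ]
      conv_rhs => rw [parity_decomp p, parity_decomp q, hp, hq]
      simp
    · rintro ⟨z, rfl⟩
      obtain ⟨p, q, rfl⟩ := Φ_surj (m - 1) z
      show σ (φ (Φ (m - 1) p q)) = φ (Φ (m - 1) p q)
      rw [hφΦ, hσΦ, N_E, N_E]
  · intro I hI' h
    have h1 : I ≤ Ideal.span {ArSing.x k (m - 1), ArSing.y k (m - 1)} :=
      le_span_x_y_of_ne_top (m - 1) hI'.ne_top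
    have h2 : Ideal.map φ I ≤ Ideal.span {ArSing.x k r, ArSing.y k r} := by
      refine (Ideal.map_mono h1).trans ?_
      rw [Ideal.map_span, Ideal.span_le]
      rintro _ ⟨z, hz, rfl⟩
      rcases hz with rfl | rfl
      · rw [hφx]
        exact Ideal.pow_mem_of_mem _ (Ideal.subset_span (by simp)) _ (by norm_num)
      · rw [hφy]
        exact Ideal.subset_span (by simp)
    rw [h, top_le_iff] at h2
    exact span_x_y_ne_top r h2
  · rw [hI, length_quot_span_x]

end Groth.Agent.S14094
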