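import Groth.Statements.S14095
-- import your own Groth.Agent.* helpers here
import Groth.Agent.Lib.Seat71ArSingParity

set_option autoImplicit false
universe u
open ArSing

namespace Groth.Agent.S14095

open Groth.Agent.Lib.Seat71.ArSingNF Groth.Agent.Lib.Seat71.ArSingFlat
  Groth.Agent.Lib.Seat71.ArSingLen Groth.Agent.Lib.Seat71.ArSingParity

/-- K algebraically closed of characteristic prime to 2 and to r+1, r = 2m - 1 with m ≥ 1, σ the
involution x ↦ -x, y ↦ -y of A_r = k[[x,y]]/(y^2 - x^(r+1)), and φ : A_m → A_r the k-algebra map x ↦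
x^2, y ↦ xy. Then the invariant subalgebra of σ is the image of φ and φ is injective (so A_r^σ ≅
A_m), φ is not flat, and the fixed locus of σ is the reduced closed point and is not a Cartier
divisor: the ideal generated by the elements σ(a) - a has quotient of length 1 and is not generated
by one nonzerodivisor. -/
theorem result (k : Type u) [Field k] [IsAlgClosed k] (m r : ℕ)
    (hm : 1 ≤ m) (hr : r = 2 * m - 1) (h2 : (2 : k) ≠ 0) (hr1 : ((r + 1 : ℕ) : k) ≠ 0)
    (σ : ArSing.ring k r ≃ₐ[k] ArSing.ring k r) (hx : σ (ArSing.x k r) = -ArSing.x k r)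
    (hy : σ (ArSing.y k r) = -ArSing.y k r)
    (φ : ArSing.ring k m →ₐ[k] ArSing.ring k r) (hφx : φ (ArSing.x k m) = ArSing.x k r ^ 2)
    (hφy : φ (ArSing.y k m) = ArSing.x k r * ArSing.y k r) :
    (∀ a : ArSing.ring k r, σ a = a ↔ a ∈ φ.range) ∧ Function.Injective φ ∧
    ¬ φ.toRingHom.Flat ∧
    Module.length (ArSing.ring k r) (ArSing.ring k r ⧸ Ideal.span (Set.range fun a : ArSing.ring k r => σ a - a)) = 1 ∧
    ¬ (∃ g : ArSing.ring k r, g ∈ nonZeroDivisors (ArSing.ring k r) ∧ Ideal.span (Set.range fun a : ArSing.ring k r => σ a - a) = Ideal.span {g}) := by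
  have hσx : ∀ a : PowerSeries k, σ (ArSing.xMap k r a) = ArSing.xMap k r (N a) := by
    intro a
    exact algHom_xMap (σ : ArSing.ring k r →ₐ[k] ArSing.ring k r) N
      (by rw [N_X, map_neg, xMap_X]; exact hx) (by rw [N_X]; simp) a
  have hσΦ : ∀ a b : PowerSeries k, σ (Φ r a b) = Φ r (N a) (-N b) := by
    intro a b
    unfold Φ
    rw [map_add, map_mul, hσx, hσx, hy, map_neg]
    ring
  have hφx' : ∀ a : PowerSeries k, φ (ArSing.xMap k m a) = ArSing.xMap k r (E a) := by
    intro a
    exact algHom_xMap φ E (by rw [E_X, map_pow, xMap_X]; exact hφx) (by rw [E_X]; simp) a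
  have hφΦ : ∀ a b : PowerSeries k, φ (Φ m a b) = Φ r (E a) (PowerSeries.X * E b) := by
    intro a b
    unfold Φ
    rw [map_add, map_mul, hφx', hφx', hφy, map_mul, xMap_X]
    ring
  have hhalf : algebraMap k (ArSing.ring k r) (2 : k)⁻¹ * 2 = 1 := by
    rw [← map_ofNat (algebraMap k (ArSing.ring k r)) 2, ← map_mul, inv_mul_cancel₀ h2, map_one]
  have hI : Ideal.span (Set.range fun a : ArSing.ring k r => σ a - a) =
      Ideal.span {ArSing.x k r, ArSing.y k r} := by
    apply le_antisymm
    · rw [Ideal.span_le]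
      rintro _ ⟨a, rfl⟩
      obtain ⟨p, q, rfl⟩ := Φ_surj r a
      show σ (Φ r p q) - Φ r p q ∈ _
      rw [hσΦ, Φ_sub, N_sub_self]
      exact mem_span_x_y_of_constantCoeff r _ (by simp)
    · rw [Ideal.span_le]
      intro z hz
      have h3 : ∀ w : ArSing.ring k r, σ w = -w →
          w ∈ Ideal.span (Set.range fun a : ArSing.ring k r => σ a - a) := by
        intro w hw
        have h3 : σ w - w ∈ Ideal.span (Set.range fun a : ArSing.ring k r => σ a - a) :=
          Ideal.subset_span ⟨_, rfl⟩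
        have h4 : w = algebraMap k (ArSing.ring k r) (-(2 : k)⁻¹) * (σ w - w) := by
          rw [hw, map_neg]
          linear_combination (-w) * hhalf
        rw [h4]
        exact Ideal.mul_mem_left _ _ h3
      rcases hz with rfl | rfl
      · exact h3 _ hx
      · exact h3 _ hy
  refine ⟨?_, ?_, ?_, ?_, ?_⟩
  · intro a
    constructor
    · intro h
      obtain ⟨p, q, rfl⟩ := Φ_surj r a
      rw [hσΦ] at h
      obtain ⟨hp, hq⟩ := Φ_inj r h
      rw [N_eq_self_iff h2] at hp
      rw [neg_eq_iff_eq_neg, N_eq_neg_self_iff h2] at hq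
      refine ⟨Φ m (ev p) (od q), ?_⟩
      show φ (Φ m (ev p) (od q)) = _
      rw [hφΦ]
      conv_rhs => rw [parity_decomp p, parity_decomp q, hp, hq]
      simp
    · rintro ⟨z, rfl⟩
      obtain ⟨p, q, rfl⟩ := Φ_surj m z
      show σ (φ (Φ m p q)) = φ (Φ m p q)
      rw [hφΦ, hσΦ, N_E, N_X_mul_E, neg_neg]
  · rw [injective_iff_map_eq_zero]
    intro z hz
    obtain ⟨p, q, rfl⟩ := Φ_surj m z
    rw [hφΦ] at hz
    obtain ⟨h1, h3⟩ := Φ_eq_zero r hz
    have e1 : p = 0 := E_injective (by rw [h1, map_zero])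
    have e2 : q = 0 := by rw [← od_X_mul_E q, h3]; ext; simp [od]
    rw [e1, e2, Φ_zero]
  · intro hflat
    have hrel : φ.toRingHom (ArSing.y k m) * ArSing.x k r +
        φ.toRingHom (-ArSing.x k m) * ArSing.y k r = 0 := by
      show φ (ArSing.y k m) * ArSing.x k r + φ (-ArSing.x k m) * ArSing.y k r = 0
      rw [map_neg, hφx, hφy]
      ring
    have hcolon : ∀ a b : ArSing.ring k m, ArSing.y k m * a + -ArSing.x k m * b = 0 →
        a ∈ Ideal.span {ArSing.x k m, ArSing.y k m} := by
      intro a b hab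
      obtain ⟨p, q, rfl⟩ := Φ_surj m a
      obtain ⟨c, d, rfl⟩ := Φ_surj m b
      have hab' : ArSing.y k m * Φ m p q = ArSing.x k m * Φ m c d := by
        linear_combination hab
      rw [y_mul_Φ, x_mul_Φ] at hab'
      obtain ⟨-, h4⟩ := Φ_inj m hab'
      exact mem_span_x_y_of_constantCoeff m _ (by rw [h4]; simp)
    have h3 := mem_map_of_flat_of_relation φ.toRingHom hflat _ _ _ _ hrel _ hcolon
    rw [Ideal.map_span, Set.image_pair] at h3
    change ArSing.x k r ∈ Ideal.span {φ (ArSing.x k m), φ (ArSing.y k m)} at h3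
    rw [hφx, hφy, Ideal.mem_span_pair] at h3
    obtain ⟨u, v, huv⟩ := h3
    have h4 : ArSing.x k r * (1 - (u * ArSing.x k r + v * ArSing.y k r)) = 0 := by
      linear_combination -huv
    have h5 := x_mul_eq_zero r h4
    apply span_x_y_ne_top (k := k) r
    rw [Ideal.eq_top_iff_one, Ideal.mem_span_pair]
    exact ⟨u, v, (sub_eq_zero.1 h5).symm⟩
  · rw [hI, length_quot_span_x_y]
  · rintro ⟨g, -, hg⟩
    rw [hI] at hg
    obtain ⟨p, q, rfl⟩ := Φ_surj r g
    have hp : PowerSeries.constantCoeff p = 0 := by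
      have := constantCoeff_co0_of_mem_span_x_y r
        (show Φ r p q ∈ Ideal.span {ArSing.x k r, ArSing.y k r} by
          rw [hg]; exact Ideal.subset_span rfl)
      rwa [co0_Φ] at this
    have hxg : ArSing.x k r ∈ Ideal.span {Φ r p q} := by
      rw [← hg]; exact Ideal.subset_span (by simp)
    have hyg : ArSing.y k r ∈ Ideal.span {Φ r p q} := by
      rw [← hg]; exact Ideal.subset_span (by simp)
    rw [Ideal.mem_span_singleton] at hxg hyg
    obtain ⟨w, hw⟩ := hxg
    obtain ⟨w', hw'⟩ := hyg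
    obtain ⟨c, d, rfl⟩ := Φ_surj r w
    obtain ⟨c', d', rfl⟩ := Φ_surj r w'
    rw [x_eq_Φ, Φ_mul] at hw
    rw [y_eq_Φ, Φ_mul] at hw'
    obtain ⟨hw1, hw2⟩ := Φ_inj r hw
    obtain ⟨-, hw4⟩ := Φ_inj r hw'
    -- constant coefficients
    have e1 : PowerSeries.constantCoeff q * PowerSeries.constantCoeff c' = 1 := by
      have := congrArg PowerSeries.constantCoeff hw4
      simpa [hp] using this.symm
    have hq0 : PowerSeries.constantCoeff q ≠ 0 := by
      intro h
      rw [h, zero_mul] at e1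
      exact zero_ne_one e1
    have hc0 : PowerSeries.constantCoeff c = 0 := by
      have := congrArg PowerSeries.constantCoeff hw2
      simp only [map_zero, map_add, map_mul, hp, zero_mul, zero_add] at this
      exact (mul_eq_zero.1 this.symm).resolve_left hq0
    obtain ⟨p', rfl⟩ := PowerSeries.X_dvd_iff.2 hp
    obtain ⟨c'', rfl⟩ := PowerSeries.X_dvd_iff.2 hc0
    have hr2 : r + 1 = (r - 1) + 2 := by omega
    have e2 : (PowerSeries.X : PowerSeries k) * 1 =
        PowerSeries.X * (PowerSeries.X * (p' * c'' + PowerSeries.X ^ (r - 1) * (q * d))) := by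
      rw [hr2, pow_add] at hw1
      linear_combination hw1
    have e3 := mul_left_cancel₀ PowerSeries.X_ne_zero e2
    have := congrArg PowerSeries.constantCoeff e3
    simp at this

end Groth.Agent.S14095
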