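import Groth.Statements.S14096
-- import your own Groth.Agent.* helpers here
import Groth.Agent.Lib.Seat71ArSingSwap

set_option autoImplicit false
universe u
open ArSing

namespace Groth.Agent.S14096

open Groth.Agent.Lib.Seat71.ArSingNF Groth.Agent.Lib.Seat71.ArSingParity
  Groth.Agent.Lib.Seat71.ArSingSwap

/-- K algebraically closed of characteristic ≠ 2, σ the involution of the node algebra A_1 =
k[[x,y]]/(y^2 - x^2) exchanging x and y, and φ : A_1 → A_1 the k-algebra map with φ(x + y) = x + y
and φ(y - x) = (y - x)^2 (in the branch coordinates u = x + y, v = y - x with uv = 0: u ↦ u, v ↦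
v^2). Then the invariant subalgebra of σ is the image of φ and φ is injective (so A_1^σ ≅ A_1), and
the fixed locus of σ is the branch v = 0: the ideal generated by the elements σ(a) - a is the ideal
(y - x), a minimal prime ideal generated by a zero-divisor (so not a Cartier divisor). Moreover φ is
not flat. (The published statement asserts that this extension is faithfully flat; it is not: as a
module over the invariant subalgebra B = k[[u,w]]/(uw), w = v^2, A_1 is B ⊕ (B/uB)·v, and B/uB is
not flat over B — equivalently the fibre length jumps from 1 on the branch w = 0 to 2 at the closed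
point.) -/
theorem result (k : Type u) [Field k] [IsAlgClosed k]
    (h2 : (2 : k) ≠ 0)
    (σ : ArSing.ring k 1 ≃ₐ[k] ArSing.ring k 1) (hx : σ (ArSing.x k 1) = ArSing.y k 1)
    (hy : σ (ArSing.y k 1) = ArSing.x k 1)
    (φ : ArSing.ring k 1 →ₐ[k] ArSing.ring k 1) (hφu : φ (ArSing.x k 1 + ArSing.y k 1) = ArSing.x k 1 + ArSing.y k 1)
    (hφv : φ (ArSing.y k 1 - ArSing.x k 1) = (ArSing.y k 1 - ArSing.x k 1) ^ 2) :
    (∀ a : ArSing.ring k 1, σ a = a ↔ a ∈ φ.range) ∧ Function.Injective φ ∧
    Ideal.span (Set.range fun a : ArSing.ring k 1 => σ a - a) = Ideal.span {ArSing.y k 1 - ArSing.x k 1} ∧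
    (ArSing.y k 1 - ArSing.x k 1) ∉ nonZeroDivisors (ArSing.ring k 1) ∧
    Ideal.span {ArSing.y k 1 - ArSing.x k 1} ∈ minimalPrimes (ArSing.ring k 1) ∧
    ¬ φ.toRingHom.Flat := by
  have hXmem : (PowerSeries.X : PowerSeries k) ∈ Ideal.span {(PowerSeries.X : PowerSeries k)} :=
    Ideal.subset_span rfl
  have hPσ : ∀ z, P (σ z) = P z := by
    have : P.comp (σ : ArSing.ring k 1 →ₐ[k] ArSing.ring k 1) = P := by
      apply ring_algHom_ext (Ideal.span {(PowerSeries.X : PowerSeries k)})
        powerSeries_iInf_span_X_pow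
      · show P (σ (ArSing.x k 1)) = P (ArSing.x k 1)
        rw [hx, P_x, P_y]
      · show P (σ (ArSing.y k 1)) = P (ArSing.y k 1)
        rw [hy, P_x, P_y]
      · show P (σ (ArSing.x k 1)) ∈ _
        rw [hx, P_y]
        exact hXmem
    exact fun z => DFunLike.congr_fun this z
  have hQσ : ∀ z, Q (σ z) = N (Q z) := by
    have : Q.comp (σ : ArSing.ring k 1 →ₐ[k] ArSing.ring k 1) = N.comp Q := by
      apply ring_algHom_ext (Ideal.span {(PowerSeries.X : PowerSeries k)})
        powerSeries_iInf_span_X_pow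
      · show Q (σ (ArSing.x k 1)) = N (Q (ArSing.x k 1))
        rw [hx, Q_x, Q_y, N_X]
      · show Q (σ (ArSing.y k 1)) = N (Q (ArSing.y k 1))
        rw [hy, Q_x, Q_y, map_neg, N_X, neg_neg]
      · show Q (σ (ArSing.x k 1)) ∈ _
        rw [hx, Q_y]
        exact (Ideal.neg_mem_iff _).2 hXmem
    exact fun z => DFunLike.congr_fun this z
  have hPφ : ∀ z, P (φ z) = P z := by
    have : P.comp φ = P := by
      apply algHom_ext_uv h2
      · show P (φ _) = P _
        rw [hφu]
      · show P (φ _) = P _
        rw [hφv, map_pow, P_v]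
        simp
      · show PowerSeries.constantCoeff (P (φ _)) = 0
        rw [hφu, P_u]
        simp
      · show PowerSeries.constantCoeff (P (φ _)) = 0
        rw [hφv, map_pow, P_v]
        simp
    exact fun z => DFunLike.congr_fun this z
  have hQφ : ∀ z, Q (φ z) = Sc (Q z) := by
    have : Q.comp φ = Sc.comp Q := by
      apply algHom_ext_uv h2
      · show Q (φ _) = Sc (Q _)
        rw [hφu, Q_u, map_zero]
      · show Q (φ _) = Sc (Q _)
        rw [hφv, map_pow, Q_v, map_mul, Sc_X, map_neg, map_ofNat]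
        ring
      · show PowerSeries.constantCoeff (Q (φ _)) = 0
        rw [hφu, Q_u]
        simp
      · show PowerSeries.constantCoeff (Q (φ _)) = 0
        rw [hφv, map_pow, Q_v]
        simp
    exact fun z => DFunLike.congr_fun this z
  have hhalf : algebraMap k (ArSing.ring k 1) (2 : k)⁻¹ * 2 = 1 := by
    rw [← map_ofNat (algebraMap k (ArSing.ring k 1)) 2, ← map_mul, inv_mul_cancel₀ h2, map_one]
  have huv := u_mul_v (k := k)
  have hu_ne : P (ArSing.x k 1 + ArSing.y k 1) ≠ 0 := by
    rw [P_u]; exact two_X_ne_zero h2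
  have hI : Ideal.span (Set.range fun a : ArSing.ring k 1 => σ a - a) =
      Ideal.span {ArSing.y k 1 - ArSing.x k 1} := by
    apply le_antisymm
    · rw [Ideal.span_le]
      rintro _ ⟨a, rfl⟩
      show σ a - a ∈ Ideal.span {ArSing.y k 1 - ArSing.x k 1}
      rw [← ker_P, RingHom.mem_ker]
      show P (σ a - a) = 0
      rw [map_sub, hPσ, sub_self]
    · rw [Ideal.span_singleton_le_iff_mem]
      have h3 : σ (ArSing.y k 1 - ArSing.x k 1) - (ArSing.y k 1 - ArSing.x k 1) ∈
          Ideal.span (Set.range fun a : ArSing.ring k 1 => σ a - a) :=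
        Ideal.subset_span ⟨_, rfl⟩
      have h4 : ArSing.y k 1 - ArSing.x k 1 = algebraMap k (ArSing.ring k 1) (-(2 : k)⁻¹) *
          (σ (ArSing.y k 1 - ArSing.x k 1) - (ArSing.y k 1 - ArSing.x k 1)) := by
        rw [map_sub, hx, hy, map_neg]
        linear_combination (-(ArSing.y k 1 - ArSing.x k 1)) * hhalf
      rw [h4]
      exact Ideal.mul_mem_left _ _ h3
  have hann : ∀ a : ArSing.ring k 1, (ArSing.x k 1 + ArSing.y k 1) * a = 0 →
      a ∈ Ideal.span {ArSing.y k 1 - ArSing.x k 1} := by
    intro a ha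
    rw [← ker_P, RingHom.mem_ker]
    have := congrArg P ha
    rw [map_mul, map_zero] at this
    exact (mul_eq_zero.1 this).resolve_left hu_ne
  refine ⟨?_, ?_, hI, ?_, ?_, ?_⟩
  · intro a
    constructor
    · intro h
      have h3 : N (Q a) = Q a := by rw [← hQσ, h]
      rw [N_eq_self_iff h2] at h3
      have h4 : Q a = E (ev (Q a)) := by
        conv_lhs => rw [parity_decomp (Q a), h3]
        simp
      obtain ⟨z, hz1, hz2⟩ := exists_PQ h2 (P a) (PowerSeries.rescale ((-2 : k)⁻¹) (ev (Q a))) (by
        obtain ⟨p, q, rfl⟩ := Φ_surj 1 a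
        rw [P_Φ, Q_Φ]
        rw [← PowerSeries.coeff_zero_eq_constantCoeff_apply,
          ← PowerSeries.coeff_zero_eq_constantCoeff_apply, PowerSeries.coeff_rescale]
        simp [ev])
      refine ⟨z, ?_⟩
      show φ z = a
      apply PQ_injective h2
      · rw [hPφ, hz1]
      · rw [hQφ, hz2, Sc_rescale_inv h2, ← h4]
    · rintro ⟨z, rfl⟩
      show σ (φ z) = φ z
      apply PQ_injective h2
      · rw [hPσ]
      · rw [hQσ, hQφ, N_Sc]
  · rw [injective_iff_map_eq_zero]
    intro z hz
    apply PQ_injective h2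
    · rw [← hPφ, hz]
    · apply Sc_injective h2
      rw [← hQφ, hz, map_zero, map_zero]
  · intro hv
    rw [mem_nonZeroDivisors_iff_right] at hv
    have := hv _ huv
    rw [this, map_zero] at hu_ne
    exact hu_ne rfl
  · rw [minimalPrimes_eq_minimals]
    have hprime : (Ideal.span {ArSing.y k 1 - ArSing.x k 1}).IsPrime := by
      rw [← ker_P]
      exact RingHom.ker_isPrime _
    refine ⟨hprime, ?_⟩
    intro q hq hle
    rw [Ideal.span_singleton_le_iff_mem]
    have h3 : (ArSing.x k 1 + ArSing.y k 1) * (ArSing.y k 1 - ArSing.x k 1) ∈ q := by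
      rw [huv]; exact q.zero_mem
    rcases hq.mem_or_mem h3 with h4 | h4
    · exfalso
      have h5 := hle h4
      rw [← ker_P, RingHom.mem_ker] at h5
      exact hu_ne h5
    · exact h4
  · intro hflat
    have hrel : φ.toRingHom (ArSing.x k 1 + ArSing.y k 1) * (ArSing.y k 1 - ArSing.x k 1) +
        φ.toRingHom 0 * 0 = 0 := by
      show φ (ArSing.x k 1 + ArSing.y k 1) * (ArSing.y k 1 - ArSing.x k 1) + φ 0 * 0 = 0
      rw [hφu, huv, mul_zero, add_zero]
    have h3 := mem_map_of_flat_of_relation φ.toRingHom hflat _ _ _ _ hrel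
      (Ideal.span {ArSing.y k 1 - ArSing.x k 1}) (by
        intro a b hab
        rw [zero_mul, add_zero] at hab
        exact hann a hab)
    rw [Ideal.map_span, Set.image_singleton] at h3
    change ArSing.y k 1 - ArSing.x k 1 ∈ Ideal.span {φ (ArSing.y k 1 - ArSing.x k 1)} at h3
    rw [hφv, Ideal.mem_span_singleton] at h3
    obtain ⟨w, hw⟩ := h3
    have h4 := congrArg Q hw
    rw [map_mul, map_pow, Q_v] at h4
    have h5 : (PowerSeries.X : PowerSeries k) * (-2) =
        PowerSeries.X * (PowerSeries.X * (4 * Q w)) := by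
      linear_combination h4
    have h6 := mul_left_cancel₀ PowerSeries.X_ne_zero h5
    have h7 := congrArg PowerSeries.constantCoeff h6
    rw [map_mul, PowerSeries.constantCoeff_X, zero_mul, map_neg, map_ofNat] at h7
    exact h2 (neg_eq_zero.1 h7)

end Groth.Agent.S14096
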