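import Groth.Statements.S14105
import Groth.Agent.Lib.Seat64FibCodim

set_option autoImplicit false
universe u
open CategoryTheory CategoryTheory.Limits AlgebraicGeometry Opposite TopologicalSpace
open CInt

namespace Groth.Agent.S14105

/-- Let f : X → S be a morphism and g : S' → S a base change, with X, S, S' and X' = X ×_S S' locally
Noetherian, and let Y be a closed subset of X with preimage Y' under the projection X' → X. Writing
the codimension of a closed subset relative to a morphism as the infimum, over its points, of the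
Krull dimension of the local ring of the fibre through that point: the codimension of Y' relative to
X' → S' is at least the codimension of Y relative to f, and the two are equal when the projection X'
→ X maps Y' onto Y. -/
theorem result {X S S' : Scheme.{u}} (f : X ⟶ S) (g : S' ⟶ S)
    [IsLocallyNoetherian X] [IsLocallyNoetherian S] [IsLocallyNoetherian S']
    [IsLocallyNoetherian (pullback f g)] (Y : Set ↥X) (hY : IsClosed Y) :
    ((⨅ y : Y, ringKrullDim ↑(CInt.fiberStalk f y.1)) ≤
      ⨅ y' : (fun x' => (pullback.fst f g) x') ⁻¹' Y,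
        ringKrullDim ↑(CInt.fiberStalk (pullback.snd f g) y'.1)) ∧
    (Y ⊆ Set.range (pullback.fst f g).base →
      (⨅ y' : (fun x' => (pullback.fst f g) x') ⁻¹' Y,
        ringKrullDim ↑(CInt.fiberStalk (pullback.snd f g) y'.1)) =
        ⨅ y : Y, ringKrullDim ↑(CInt.fiberStalk f y.1)) := by
  have hNoeth : ∀ {Z W : Scheme.{u}} (φ : Z ⟶ W) [IsLocallyNoetherian Z] (z : Z),
      IsNoetherianRing ((φ.fiber (φ z)).presheaf.stalk (φ.asFiber z)) := by
    intro Z W φ _ z
    obtain ⟨e⟩ := Groth.Agent.Lib.Helper5.FiberStalk.nonempty_stalk_asFiber_equiv φ z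
    exact isNoetherianRing_of_ringEquiv _ e.symm
  have key := fun x' => @Groth.Agent.Lib.Seat64.FibCodim.fiber_dim _ _ _ _ f g
    (pullback.snd f g) (pullback.fst f g) (IsPullback.of_hasPullback f g) x'
    (hNoeth f _) (fun x'' => hNoeth (pullback.snd f g) x'')
  have h1 : (⨅ y : Y, ringKrullDim ↑(CInt.fiberStalk f y.1)) ≤
      ⨅ y' : (fun x' => (pullback.fst f g) x') ⁻¹' Y,
        ringKrullDim ↑(CInt.fiberStalk (pullback.snd f g) y'.1) := by
    refine le_iInf fun y' => ?_
    exact iInf_le_of_le ⟨(pullback.fst f g) y'.1, y'.2⟩ (key y'.1).1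
  refine ⟨h1, fun hsurj => le_antisymm ?_ h1⟩
  refine le_iInf fun y => ?_
  obtain ⟨y, hyY⟩ := y
  obtain ⟨x', rfl⟩ := hsurj hyY
  obtain ⟨x'', hx'', hdim⟩ := (key x').2
  have hmem : x'' ∈ (fun x' => (pullback.fst f g) x') ⁻¹' Y := by
    show (pullback.fst f g) x'' ∈ Y
    rw [hx'']; exact hyY
  exact iInf_le_of_le ⟨x'', hmem⟩ (le_of_eq hdim)

end Groth.Agent.S14105
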