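import Groth.Statements.S14106
import Groth.Agent.Lib.Seat66SmCodim

set_option autoImplicit false
universe u
open CategoryTheory CategoryTheory.Limits AlgebraicGeometry Opposite TopologicalSpace
open CInt

set_option linter.style.haveILetI false

namespace Groth.Agent.S14106

/-- Let S be a locally Noetherian scheme, f : X → S a smooth morphism and i : Y → X a closed immersion
whose composite with f is smooth. Then the codimension of the image of i relative to f (the infimum
over its points y of the Krull dimension of the local ring at y of the fibre of f through y) equals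
its codimension in X (the infimum over the same points of the Krull dimension of O_{X,y}). -/
theorem result {X Y S : Scheme.{u}} [IsLocallyNoetherian X]
    [IsLocallyNoetherian S] (f : X ⟶ S) [Smooth f] (i : Y ⟶ X) [IsClosedImmersion i] [Smooth (i ≫ f)] :
    (⨅ y : Set.range i.base, ringKrullDim ↑(CInt.fiberStalk f y.1)) =
      ⨅ y : Set.range i.base, ringKrullDim ↑(X.presheaf.stalk y.1) := by
  apply le_antisymm
  · refine le_iInf fun y => ?_
    refine (iInf_le _ y).trans ?_
    obtain ⟨e⟩ := Groth.Agent.Lib.Helper5.FiberStalk.nonempty_stalk_asFiber_equiv f y.1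
    change ringKrullDim ((f.fiber (f y.1)).presheaf.stalk (f.asFiber y.1)) ≤ _
    rw [ringKrullDim_eq_of_ringEquiv e]
    exact ringKrullDim_quotient_le _
  · refine le_iInf fun y => ?_
    obtain ⟨y, y₀, rfl⟩ := y
    obtain ⟨y', hy'⟩ := Groth.Agent.Lib.Seat66.SmCodim.exists_stalk_dim_le_fiberStalk_dim f i y₀
    exact (iInf_le (fun y : Set.range i.base => ringKrullDim ↑(X.presheaf.stalk y.1))
      ⟨i y', ⟨y', rfl⟩⟩).trans hy'

end Groth.Agent.S14106
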