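import Groth.Statements.S14113
import Groth.Agent.Lib.Seat64SplitCx
import Groth.Agent.Lib.Seat64AffSplit

set_option autoImplicit false
universe u
open CategoryTheory CategoryTheory.Limits AlgebraicGeometry Opposite TopologicalSpace
attribute [local instance] HasDerivedCategory.standard
open DCoh

namespace Groth.Agent.S14113

/-- Let X be an affine scheme and E a bounded above cochain complex of finite locally free O_X-modules
(a strictly pseudo-coherent complex). Then E is acyclic if and only if the identity of E is null
homotopic. -/
theorem result {X : Scheme.{u}} [IsAffine X]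
    (E : CochainComplex X.Modules ℤ) (b : ℤ) (hEb : ∀ i : ℤ, b < i → IsZero (E.X i))
    (hE : ∀ i : ℤ, FlatMod.IsFinLocFree (E.X i)) :
    E.Acyclic ↔ Nonempty (Homotopy (𝟙 E) 0) := by
  constructor
  · intro hac
    refine Groth.Agent.Lib.Seat64.SplitCx.nonempty_homotopy_id_zero_of_class
      (fun M : X.Modules => FlatMod.IsFinLocFree M)
      (fun A B e h => Groth.Agent.Lib.Seat64.AffSplit.isFinLocFree_of_iso e h)
      (fun A h => Groth.Agent.Lib.Seat5.LocFreeKer.isFinLocFree_of_isZero h)
      (fun {A B} p hp hA hB => by
        haveI := hp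
        exact Groth.Agent.Lib.Seat5.LocFreeKer.isFinLocFree_kernel_of_epi p hA hB)
      (fun {A B} p hp hA hB => by
        haveI := hp
        haveI : A.IsQuasicoherent :=
          Groth.Agent.Helper18Strict.isQCoh_of_isFP A
            (Groth.Agent.Lib.Helper2.LocFree.isFP_of_isFinLocFree A hA)
        exact Groth.Agent.Lib.Seat64.AffSplit.exists_section_of_epi p hB)
      E b hEb hE (fun i => hac i)
  · rintro ⟨h⟩ i
    exact Groth.Agent.Lib.Seat64.SplitCx.exactAt_of_homotopy_id_zero E h i

end Groth.Agent.S14113
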