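import Groth.Statements.S14116
import Groth.Agent.S6034
import Groth.Agent.Lib.Seat13HZSect
import Groth.Agent.Lib.Seat13FlatDepth
import Groth.Agent.Lib.Helper2LocFree

set_option autoImplicit false
universe u
open CategoryTheory CategoryTheory.Limits AlgebraicGeometry Opposite TopologicalSpace
open LocCohZ

namespace Groth.Agent.S14116

/-- Let X be a locally Noetherian scheme, U ⊆ X open with closed complement Y, d a natural number such
that the depth of O_X along Y is at least d (every local ring O_{X,y}, y ∈ Y, has depth at least d),
and M a finite locally free O_X-module. Then Γ(X, ℋ^d_Y(M)) is isomorphic to H^d_Y(X, M), where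
ℋ^d_Y is the d-th right derived functor of the sheaf of sections with support in Y (applied to the
underlying abelian sheaf of M) and H^d_Y(X, M) is cohomology with support in Y. Existence of an
additive isomorphism only; the published statement asserts a canonical functorial isomorphism that
is linear over the global functions Γ(X, O_X) (obtained in its proof as the edge map of the
local-to-global spectral sequence), and adds that U ↦ H^d_{Y∩U}(U, M), U ⊆ X open, is a sheaf; none
of this is part of this row. (The published statement assumes a flat morphism X → S with
Cohen–Macaulay fibres and relative codimension of Y at least d; these enter only through the depth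
bound, which is the hypothesis of this row.) -/
theorem result (X : Scheme.{u}) [IsLocallyNoetherian X]
    (U : X.Opens) (d : ℕ)
    (hdepth : ∀ x : ↥X, x ∉ (U : Set ↥X) → (d : ℕ∞) ≤ LocCoh.depth ↑(X.presheaf.stalk x) ↑(X.presheaf.stalk x))
    (M : X.Modules) (hM : FlatMod.IsFinLocFree M) :
    Nonempty (↑(((LocCohZ.HZsh (X := X.carrier) U d).obj (Coh.toAb M)).obj.obj (op ⊤)) ≃+ LocCohZ.HZM X M d U) := by
  have hfp : SheafOfModules.IsFinitePresentation (R := X.ringCatSheaf) M :=
    Groth.Agent.Lib.Helper2.LocFree.isFP_of_isFinLocFree M hM
  have hqc : SheafOfModules.IsQuasicoherent (R := X.ringCatSheaf) M := inferInstance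
  have hft : SheafOfModules.IsFiniteType (R := X.ringCatSheaf) M := inferInstance
  have hflat := Groth.Agent.Lib.Helper2.LocFree.isFlat_of_isFinLocFree M hM
  have hvan := (Groth.Agent.S6034.result X U M ⟨hqc, hft⟩ d).2 (fun x hx => by
    have : Module.Flat (X.presheaf.stalk x) (M.presheaf.stalk x) := hflat x
    exact (hdepth x hx).trans
      (Groth.Agent.Lib.Seat13.FlatDepth.depth_le_of_flat (X.presheaf.stalk x) (M.presheaf.stalk x)))
  exact Groth.Agent.Lib.Seat13.HZSect.nonempty_sections_HZsh_equiv_HZc U (Coh.toAb M) d hvan

end Groth.Agent.S14116
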