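import Groth.Statements.S14119
import Groth.Agent.Lib.Seat64ProperInt

set_option autoImplicit false
universe u
open CategoryTheory CategoryTheory.Limits AlgebraicGeometry Opposite TopologicalSpace
open BlowUp

namespace Groth.Agent.S14119

open Groth.Agent.Lib.Seat64.ProperInt

/-- Let X be a locally Noetherian scheme, Y an effective Cartier divisor on X (a quasi-coherent ideal
sheaf which, near every point, is generated on some affine open by one nonzerodivisor; Y is its
support) and Z a closed integral subscheme (a closed immersion i from an integral scheme with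
generic point ξ). Assume X irreducible with all local rings catenary (the first of the two printed
sufficient conditions), and assume that the inverse image ideal sheaf of Y on Z is the ideal of an
effective Cartier divisor on Z. Then Y and Z intersect properly: every point ζ of Y ∩ Z that is
maximal under generization inside Y ∩ Z satisfies dim O_{X,ζ} = codim(Y,X) + codim(Z,X), where
codim(Y,X) is the infimum over y ∈ Y of dim O_{X,y} and codim(Z,X) = dim O_{X,i(ξ)}. (The published
statement also has a second sufficient condition, X biequidimensional, and a fourth equivalent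
condition, vanishing of the higher Tor sheaves of O_Y against O_Z; neither is included in this row.) -/
theorem result {X Z : Scheme.{u}}
    [IsLocallyNoetherian X] [IrreducibleSpace ↥X] (hcat : ∀ x : ↥X, CAlg.IsCatenary ↑(X.presheaf.stalk x))
    (𝓘 : X.IdealSheafData) (hY : BlowUp.IsEffCartierIdeal 𝓘)
    (i : Z ⟶ X) [IsClosedImmersion i] [IsIntegral Z] (hc : BlowUp.IsEffCartierIdeal (𝓘.comap i)) :
    (∀ ζ : ↥X, ζ ∈ (𝓘.support : Set ↥X) ∩ Set.range i.base →
        (∀ ζ' : ↥X, ζ' ∈ (𝓘.support : Set ↥X) ∩ Set.range i.base → ζ' ⤳ ζ → ζ' = ζ) →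
        ringKrullDim ↑(X.presheaf.stalk ζ) =
          (⨅ y : (𝓘.support : Set ↥X), ringKrullDim ↑(X.presheaf.stalk y.1)) +
            ringKrullDim ↑(X.presheaf.stalk (i (genericPoint ↥Z)))) := by
  rintro ζ ⟨hζs, z, rfl⟩ hmax
  have : IsLocallyNoetherian Z := LocallyOfFiniteType.isLocallyNoetherian i
  have hinf : (⨅ y : (𝓘.support : Set ↥X), ringKrullDim ↑(X.presheaf.stalk y.1)) = 1 := by
    apply le_antisymm
    · obtain ⟨y, hy, -, hdim⟩ := exists_generization_dim_eq_one 𝓘 hY (i z) hζs
      exact (iInf_le _ (⟨y, hy⟩ : (𝓘.support : Set ↥X))).trans hdim.le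
    · exact le_iInf fun y => one_le_dim_of_mem_support 𝓘 hY y.1 y.2
  have hz : ringKrullDim (Z.presheaf.stalk z) = 1 := by
    apply dim_eq_one_of_maximal (𝓘.comap i) hc z
    · rw [Scheme.IdealSheafData.support_comap]
      exact hζs
    · intro y hy hyz
      rw [Scheme.IdealSheafData.support_comap] at hy
      have h1 : i y = i z := hmax (i y) ⟨hy, y, rfl⟩ (hyz.map i.continuous)
      exact i.isClosedEmbedding.injective h1
  have hmain := dim_stalk_eq_add i z (hcat (i z))
  rw [hinf, add_comm]
  rw [hz] at hmain
  exact hmain

end Groth.Agent.S14119
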