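import Groth.Statements.S14123
import Groth.Agent.Lib.Seat64DvrExt
import Groth.Agent.Lib.Seat64GmQuot
-- import your own Groth.Agent.* helpers here

set_option autoImplicit false
universe u v
open GmQuot

namespace Groth.Agent.S14123

/-- Let `A = ⊕_{d ∈ ℤ} A_d` be a graded commutative ring whose ideal `I₊` generated by the homogeneous
elements of positive degree is finitely generated, `R` a discrete valuation ring with fraction field
`K`, and `φ : A → R` a ring map with `φ(I₊) ≠ 0` and `φ(I₊)` inside the maximal ideal. Then after a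
finite extension `K'/K` and a discrete valuation ring `R'` of `K'` dominating `R` there are a
nonzero non-unit `ϖ ∈ R'` and a ring map `g : A → R'` with `g(a) ϖ^d = φ(a)` for every homogeneous
`a` of degree `d` (so `g` is `φ` rescaled through the grading by `ϖ`), such that `g(I₊) R' = R'`.
(The published statement is phrased for the quotient stack of `Spec A` by the multiplicative group
and its closed substack cut out by `I₊`, in a setting where `A` is Noetherian, being of finite type
over a Noetherian base: an `R`-point whose closed point lies in that substack and whose generic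
point does not admits, after a finite extension, an elementary modification avoiding the substack;
this row is the graded-ring statement the printed argument proves, assuming only that `I₊` is
finitely generated, which is all that argument uses, and with `ϖ` not required to be a uniformizer.) -/
theorem result
    {A : Type u} [CommRing A] (𝒜 : ℤ → AddSubgroup A) [GradedRing 𝒜]
    (hfg : (Ideal.span {a : A | ∃ d : ℤ, 0 < d ∧ a ∈ 𝒜 d}).FG)
    (R : Type v) [CommRing R] [IsDomain R] [IsDiscreteValuationRing R]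
    (K : Type v) [Field K] [Algebra R K] [IsFractionRing R K]
    (φ : A →+* R)
    (hle : Ideal.map φ (Ideal.span {a : A | ∃ d : ℤ, 0 < d ∧ a ∈ 𝒜 d}) ≤ IsLocalRing.maximalIdeal R)
    (hne : Ideal.map φ (Ideal.span {a : A | ∃ d : ℤ, 0 < d ∧ a ∈ 𝒜 d}) ≠ ⊥) :
    ∃ (R' : Type v) (_ : CommRing R') (_ : IsDomain R') (_ : IsDiscreteValuationRing R')
      (K' : Type v) (_ : Field K') (_ : Algebra R' K') (_ : IsFractionRing R' K')
      (_ : Algebra R R') (_ : Algebra K K') (_ : Algebra R K')
      (_ : IsScalarTower R R' K') (_ : IsScalarTower R K K')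
      (_ : Module.Finite K K') (_ : IsLocalHom (algebraMap R R'))
      (ϖ : R') (g : A →+* R'),
      ϖ ≠ 0 ∧ ϖ ∈ IsLocalRing.maximalIdeal R' ∧
      (∀ (d : ℤ) (a : A), a ∈ 𝒜 d →
        algebraMap R' K' (g a) * algebraMap R' K' ϖ ^ d = algebraMap R K' (φ a)) ∧
      Ideal.map g (Ideal.span {a : A | ∃ d : ℤ, 0 < d ∧ a ∈ 𝒜 d}) = ⊤ := by
  classical
  obtain ⟨F, hFS, hF⟩ :=
    (Submodule.fg_span_iff_fg_span_finset_subset {a : A | ∃ d : ℤ, 0 < d ∧ a ∈ 𝒜 d}).1 hfg
  obtain ⟨π, hπ⟩ := IsDiscreteValuationRing.exists_irreducible R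
  -- a degree function on the generators
  have hdeg : ∀ a : A, ∃ d : ℤ, a ∈ F → (0 < d ∧ a ∈ 𝒜 d) := by
    intro a
    by_cases ha : a ∈ F
    · obtain ⟨d, hd, had⟩ := hFS ha
      exact ⟨d, fun _ => ⟨hd, had⟩⟩
    · exact ⟨0, fun h => absurd h ha⟩
  choose dg hdg using hdeg
  -- an order function
  have hord : ∀ a : A, ∃ n : ℕ, φ a ≠ 0 → Associated (φ a) (π ^ n) := by
    intro a
    by_cases ha : φ a = 0
    · exact ⟨0, fun h => absurd ha h⟩
    · obtain ⟨n, hn⟩ := IsDiscreteValuationRing.associated_pow_irreducible ha hπ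
      exact ⟨n, fun _ => hn⟩
  choose ord hord using hord
  -- some generator has nonzero image
  have hne' : (F.filter (fun a => φ a ≠ 0)).Nonempty := by
    by_contra h
    rw [Finset.not_nonempty_iff_eq_empty, Finset.filter_eq_empty_iff] at h
    apply hne
    have hF' : Ideal.span {a : A | ∃ d : ℤ, 0 < d ∧ a ∈ 𝒜 d} = Ideal.span (F : Set A) := hF
    rw [hF', Ideal.map_span, Ideal.span_eq_bot]
    rintro _ ⟨a, ha, rfl⟩
    exact not_not.1 (h ha)
  obtain ⟨a₀, ha₀, hmin⟩ :=
    Finset.exists_min_image _ (fun a => (ord a : ℚ) / (dg a : ℚ)) hne'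
  rw [Finset.mem_filter] at ha₀
  obtain ⟨ha₀F, ha₀ne⟩ := ha₀
  obtain ⟨hd₀pos, hd₀mem⟩ := hdg a₀ ha₀F
  have hN : 1 ≤ (dg a₀).toNat := by omega
  have hρ : 1 ≤ ord a₀ := by
    by_contra h
    have h0 : ord a₀ = 0 := by omega
    have hass := hord a₀ ha₀ne
    rw [h0, pow_zero] at hass
    have hu : IsUnit (φ a₀) := hass.symm.isUnit isUnit_one
    have hm : φ a₀ ∈ IsLocalRing.maximalIdeal R :=
      hle (Ideal.mem_map_of_mem φ (Ideal.subset_span ⟨dg a₀, hd₀pos, hd₀mem⟩))
    exact (IsLocalRing.mem_maximalIdeal _).1 hm hu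
  obtain ⟨R', i1, i2, i3, i4, i5, T, hinj, hT, hπT⟩ :=
    Groth.Agent.Lib.Seat64.DvrExt.exists_ramified_ext R π hπ (dg a₀).toNat hN
  set N := (dg a₀).toNat with hNdef
  set ρ := ord a₀ with hρdef
  set ϖ : R' := T ^ ρ with hϖdef
  set φ' : A →+* R' := (algebraMap R R').comp φ with hφ'
  have hT0 : T ≠ 0 := hT.ne_zero
  have hϖ0 : ϖ ≠ 0 := pow_ne_zero _ hT0
  -- images of elements with nonzero image
  have himg : ∀ a : A, φ a ≠ 0 → ∃ u : R'ˣ, φ' a * u = T ^ (N * ord a) := by
    intro a ha
    obtain ⟨u, hu⟩ := hord a ha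
    refine ⟨Units.map (algebraMap R R').toMonoidHom u, ?_⟩
    have : algebraMap R R' (φ a * u) = algebraMap R R' (π ^ ord a) := by rw [hu]
    rw [map_mul, map_pow, hπT, ← pow_mul] at this
    exact this
  have hdvdF : ∀ f ∈ F, 0 < dg f ∧ f ∈ 𝒜 (dg f) ∧ ϖ ^ (dg f).toNat ∣ φ' f := by
    intro f hf
    obtain ⟨hfpos, hfmem⟩ := hdg f hf
    refine ⟨hfpos, hfmem, ?_⟩
    by_cases hf0 : φ f = 0
    · rw [hφ', RingHom.comp_apply, hf0, map_zero]; exact dvd_zero _
    · obtain ⟨u, hu⟩ := himg f hf0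
      have h1 := hmin f (Finset.mem_filter.2 ⟨hf, hf0⟩)
      have hq1 : (0 : ℚ) < (dg a₀ : ℚ) := by exact_mod_cast hd₀pos
      have hq2 : (0 : ℚ) < (dg f : ℚ) := by exact_mod_cast hfpos
      rw [div_le_div_iff₀ hq1 hq2] at h1
      have h2 : (ord a₀ : ℤ) * dg f ≤ (ord f : ℤ) * dg a₀ := by exact_mod_cast h1
      have h3 : ρ * (dg f).toNat ≤ N * ord f := by
        have e1 : ((dg f).toNat : ℤ) = dg f := Int.toNat_of_nonneg hfpos.le
        have e2 : (N : ℤ) = dg a₀ := Int.toNat_of_nonneg hd₀pos.le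
        have : ((ρ * (dg f).toNat : ℕ) : ℤ) ≤ ((N * ord f : ℕ) : ℤ) := by
          push_cast
          rw [e1, e2]
          linarith
        exact_mod_cast this
      have h4 : ϖ ^ (dg f).toNat ∣ φ' f * u := by
        rw [hu, hϖdef, ← pow_mul]
        exact pow_dvd_pow T h3
      exact (IsUnit.dvd_mul_right u.isUnit).1 h4
  have hdvd := Groth.Agent.Lib.Seat64.GmQuot.dvd_of_generators 𝒜 φ' ϖ F dg hF hdvdF
  obtain ⟨g, hg⟩ := Groth.Agent.Lib.Seat64.GmQuot.exists_rescale (K' := FractionRing R') 𝒜 φ' ϖ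
    hϖ0 hdvd
  -- algebra structures
  have st1 : IsScalarTower R R' (FractionRing R') := inferInstance
  have hι : Function.Injective (algebraMap R' (FractionRing R')) :=
    IsFractionRing.injective R' (FractionRing R')
  have hinjK : Function.Injective (algebraMap R (FractionRing R')) := by
    rw [IsScalarTower.algebraMap_eq R R' (FractionRing R')]
    exact hι.comp hinj
  let algKK' : Algebra K (FractionRing R') := (IsFractionRing.lift hinjK).toAlgebra
  have st2 : IsScalarTower R K (FractionRing R') :=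
    IsScalarTower.of_algebraMap_eq (fun x => (IsFractionRing.lift_algebraMap hinjK x).symm)
  have : FaithfulSMul R R' := (faithfulSMul_iff_algebraMap_injective R R').2 hinj
  have : Algebra.IsAlgebraic R R' := Algebra.IsAlgebraic.of_finite R R'
  have fin : Module.Finite K (FractionRing R') :=
    Module.Finite.of_isLocalization R R' (nonZeroDivisors R)
  have hloc : IsLocalHom (algebraMap R R') := by
    constructor
    intro a ha
    by_contra hna
    have hm : a ∈ IsLocalRing.maximalIdeal R := hna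
    rw [hπ.maximalIdeal_eq, Ideal.mem_span_singleton] at hm
    obtain ⟨b, rfl⟩ := hm
    rw [map_mul, hπT] at ha
    have h1 : IsUnit (T ^ N) := isUnit_of_mul_isUnit_left ha
    exact hT.not_isUnit ((isUnit_pow_iff (by omega)).1 h1)
  refine ⟨R', i1, i2, i3, FractionRing R', inferInstance, inferInstance, inferInstance, i4, algKK',
    inferInstance, st1, st2, fin, hloc, ϖ, g, hϖ0, ?_, ?_, ?_⟩
  · rw [IsLocalRing.mem_maximalIdeal, mem_nonunits_iff, hϖdef, isUnit_pow_iff (by omega)]
    exact hT.not_isUnit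
  · intro d a ha
    rw [hg d a ha, IsScalarTower.algebraMap_apply R R' (FractionRing R')]
    rfl
  · obtain ⟨u, hu⟩ := himg a₀ ha₀ne
    have h1 := hg (dg a₀) a₀ hd₀mem
    have e2 : (N : ℤ) = dg a₀ := Int.toNat_of_nonneg hd₀pos.le
    rw [← e2, zpow_natCast, ← map_pow, ← map_mul] at h1
    have h2 : g a₀ * ϖ ^ N = φ' a₀ := hι h1
    have h3 : ϖ ^ N = φ' a₀ * u := by
      rw [hu, hϖdef, ← pow_mul, mul_comm]
    have hφ0 : φ' a₀ ≠ 0 := by
      intro h
      apply ha₀ne
      apply hinj
      rw [map_zero]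
      exact h
    have h4 : φ' a₀ * (g a₀ * u) = φ' a₀ * 1 := by
      calc φ' a₀ * (g a₀ * u) = g a₀ * (φ' a₀ * u) := by ring
        _ = g a₀ * ϖ ^ N := by rw [h3]
        _ = φ' a₀ := h2
        _ = φ' a₀ * 1 := (mul_one _).symm
    have h5 : g a₀ * u = 1 := mul_left_cancel₀ hφ0 h4
    have hunit : IsUnit (g a₀) := IsUnit.of_mul_eq_one _ h5
    exact Ideal.eq_top_of_isUnit_mem _
      (Ideal.mem_map_of_mem g (Ideal.subset_span ⟨dg a₀, hd₀pos, hd₀mem⟩)) hunit

end Groth.Agent.S14123
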