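import Groth.Statements.S14173
import Groth.Agent.Lib.Seat64TwistSES
import Groth.Agent.Lib.Helper27PnChart
import Groth.Agent.S12453

set_option autoImplicit false
universe u
open CategoryTheory CategoryTheory.Limits AlgebraicGeometry
open Variety

namespace Groth.Agent.S14173

/-- Let k be an algebraically closed field of characteristic zero (the published statement is over the
complex numbers; this row allows any algebraically closed field of characteristic zero) and 0 → F₁ →
F₂ → F₃ → 0 a short exact sequence of coherent modules on P^n_k. If F₁ and F₃ are m-regular then so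
is F₂; equivalently reg F₂ ≤ max(reg F₁, reg F₃). -/
theorem result (k : Type u) [Field k] [IsAlgClosed k] [CharZero k]
    (n : ℕ) (S : ShortComplex (CohB1.ProjSpace n k).Modules) (hS : S.ShortExact)
    (h₁ : Coh.IsCoh S.X₁) (h₂ : Coh.IsCoh S.X₂) (h₃ : Coh.IsCoh S.X₃) (m : ℤ)
    (hreg₁ : Curv2.IsMRegular k n S.X₁ m) (hreg₃ : Curv2.IsMRegular k n S.X₃ m) :
    Curv2.IsMRegular k n S.X₂ m := by
  intro i hi1 hin
  have hcov : (⨆ f : CohB1.polyGrading n k 1, Proj.basicOpen (CohB1.polyGrading n k)
      (f : MvPolynomial (Fin (n + 1)) k)) = ⊤ := by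
    rw [eq_top_iff, ← Groth.Agent.Lib.Helper27PnChart.iSup_basicOpen_X n k]
    refine iSup_le fun j => ?_
    exact le_iSup (fun f : CohB1.polyGrading n k 1 => Proj.basicOpen (CohB1.polyGrading n k)
      (f : MvPolynomial (Fin (n + 1)) k)) ⟨MvPolynomial.X j, Groth.Agent.Lib.Helper27PnChart.X_mem_one n k j⟩
  have hT : PicF.IsInvertible (Twist.twistProjSpace n k (m - i)) :=
    (Groth.Agent.S12453.result (CohB1.polyGrading n k) hcov).1 (m - i)
  have hS' := Groth.Agent.Lib.Seat64.TwistSES.shortExact_twSC S hS _ hT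
  exact Groth.Agent.Lib.Seat58.TwistExact.subsingleton_HH_mid
    (Groth.Agent.Lib.Seat64.TwistSES.twSC S (Twist.twistProjSpace n k (m - i))) hS' i
    (hreg₁ i hi1 hin) (hreg₃ i hi1 hin)

end Groth.Agent.S14173
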