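import Groth.Statements.S14184
import Groth.Agent.S11878
import Groth.Agent.Lib.Seat53PtValue


set_option autoImplicit false
universe u
open CategoryTheory AlgebraicGeometry
open LocSym

namespace Groth.Agent.S14184

/-- Let k be an algebraically closed field and X a smooth proper integral curve over k (structure
morphism c, dimension one); points are k-points and ord_x is the valuation at x. Let n ≥ 1, let Z be
a finite set of points, let f₁, f₂ be nonzero rational functions and D₁, D₁′, D₂ divisors (finitely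
supported integer-valued functions on points) with n·D₁ = div(f₁) + D₁′, D₁′ supported on Z, n·D₂ =
div(f₂), f₂ taking the value 1 at every point of Z, and div(f₁) and D₂ with disjoint supports. Let
v₁(x) ∈ kˣ be the value of f₁ at each point of the support of D₂ and v₂(x) ∈ kˣ the value of f₂ at
each point of the support of D₁. Then the quotient of ∏_x v₁(x)^{D₂(x)} by ∏_x v₂(x)^{D₁(x)} is an
n-th root of unity: its n-th power is 1. (This quotient f₁(D₂)/f₂(D₁) is the generalised Weil
pairing of the classes of (D₁, D₁′, f₁) and D₂; the published statement also normalises f₁, f₂ at a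
base point, which is not needed for this assertion.) -/
theorem result
    (k : Type u) [Field k] [IsAlgClosed k] (X : Scheme.{u}) [IsIntegral X]
    (c : X ⟶ Spec (CommRingCat.of k)) [IsProper c] [Smooth c] (hdim : topologicalKrullDim X = 1)
    (n : ℕ) (hn : 1 ≤ n) (Z : Finset (LocSym.Pt c))
    (f₁ f₂ : X.functionField) (hf₁ : f₁ ≠ 0) (hf₂ : f₂ ≠ 0)
    (D₁ D₁' D₂ : LocSym.Pt c →₀ ℤ)
    (hD₁ : ∀ x : LocSym.Pt c, (n : ℤ) * D₁ x = x.ord f₁ + D₁' x) (hD₁' : D₁'.support ⊆ Z)
    (hD₂ : ∀ x : LocSym.Pt c, (n : ℤ) * D₂ x = x.ord f₂)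
    (hf₂Z : ∀ x ∈ Z, LocSym.HasValueAt x f₂ 1)
    (hdisj : ∀ x : LocSym.Pt c, x.ord f₁ = 0 ∨ D₂ x = 0)
    (v₁ v₂ : LocSym.Pt c → kˣ)
    (hv₁ : ∀ x ∈ D₂.support, LocSym.HasValueAt x f₁ (v₁ x : k))
    (hv₂ : ∀ x ∈ D₁.support, LocSym.HasValueAt x f₂ (v₂ x : k)) :
    ((D₂.prod fun x e => v₁ x ^ e) / (D₁.prod fun x e => v₂ x ^ e)) ^ n = 1 := by
  classical
  have hnpos : (0 : ℤ) < n := by exact_mod_cast hn
  -- value functions defined everywhere
  have ex1 : ∀ x : LocSym.Pt c, ∃ u : kˣ, x.ord f₁ = 0 → LocSym.HasValueAt x f₁ (u : k) := by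
    intro x
    by_cases hx : x.ord f₁ = 0
    · obtain ⟨a, ha⟩ :=
        Groth.Agent.Lib.Seat53.PtValue.exists_hasValueAt_of_ord_eq_zero c hdim x f₁ hf₁ hx
      exact ⟨a, fun _ => ha⟩
    · exact ⟨1, fun h => absurd h hx⟩
  choose w₁ hw₁ using ex1
  have ex2 : ∀ x : LocSym.Pt c, ∃ u : kˣ, x.ord f₂ = 0 → LocSym.HasValueAt x f₂ (u : k) := by
    intro x
    by_cases hx : x.ord f₂ = 0
    · obtain ⟨a, ha⟩ :=
        Groth.Agent.Lib.Seat53.PtValue.exists_hasValueAt_of_ord_eq_zero c hdim x f₂ hf₂ hx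
      exact ⟨a, fun _ => ha⟩
    · exact ⟨1, fun h => absurd h hx⟩
  choose w₂ hw₂ using ex2
  let vf : LocSym.Pt c → kˣ := fun x => if x ∈ D₂.support then v₁ x else w₁ x
  let vg : LocSym.Pt c → kˣ := fun x => if x ∈ D₁.support then v₂ x else w₂ x
  have hvf : ∀ x : LocSym.Pt c, x.ord f₁ = 0 → LocSym.HasValueAt x f₁ (vf x : k) := by
    intro x hx
    simp only [vf]
    split_ifs with h
    · exact hv₁ x h
    · exact hw₁ x hx
  have hvg : ∀ x : LocSym.Pt c, x.ord f₂ = 0 → LocSym.HasValueAt x f₂ (vg x : k) := by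
    intro x hx
    simp only [vg]
    split_ifs with h
    · exact hv₂ x h
    · exact hw₂ x hx
  have hdisj' : ∀ x : LocSym.Pt c, x.ord f₁ = 0 ∨ x.ord f₂ = 0 := by
    intro x
    rcases hdisj x with h | h
    · exact Or.inl h
    · right; rw [← hD₂ x, h, mul_zero]
  have key := Groth.Agent.S11878.result k X c hdim f₁ f₂ hf₁ hf₂ hdisj' vf vg hvf hvg
  -- left side
  have hL : ∏ᶠ x : LocSym.Pt c, vf x ^ x.ord f₂ = (D₂.prod fun x e => v₁ x ^ e) ^ n := by
    rw [finprod_eq_prod_of_mulSupport_subset (s := D₂.support)]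
    · unfold Finsupp.prod
      rw [← Finset.prod_pow]
      apply Finset.prod_congr rfl
      intro x hx
      simp only [vf, if_pos hx]
      rw [← hD₂ x, mul_comm, zpow_mul, zpow_natCast]
    · intro x hx
      rw [Function.mem_mulSupport] at hx
      rw [Finset.mem_coe, Finsupp.mem_support_iff]
      intro h0
      apply hx
      rw [← hD₂ x, h0, mul_zero, zpow_zero]
  -- right side
  have hR : ∏ᶠ x : LocSym.Pt c, vg x ^ x.ord f₁ = (D₁.prod fun x e => v₂ x ^ e) ^ n := by
    have hZ1 : ∀ x : LocSym.Pt c, D₁' x ≠ 0 → vg x = 1 := by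
      intro x hx
      have hxZ : x ∈ Z := hD₁' (Finsupp.mem_support_iff.mpr hx)
      have h1 := hf₂Z x hxZ
      have h0 := (Groth.Agent.Lib.Seat53.PtValue.ord_eq_zero_of_hasValueAt c hdim x f₂ 1
        one_ne_zero h1).2
      apply Units.ext
      exact Groth.Agent.Lib.Seat53.PtValue.hasValueAt_unique c hdim x f₂ _ _ (hvg x h0) h1
    rw [finprod_eq_prod_of_mulSupport_subset (s := D₁.support)]
    · unfold Finsupp.prod
      rw [← Finset.prod_pow]
      apply Finset.prod_congr rfl
      intro x hx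
      have hvgx : vg x = v₂ x := by simp only [vg, if_pos hx]
      rw [← zpow_natCast (v₂ x ^ D₁ x) n, ← zpow_mul, mul_comm, hD₁ x, zpow_add, ← hvgx]
      by_cases h0 : D₁' x = 0
      · rw [h0, zpow_zero, mul_one]
      · rw [hZ1 x h0, one_zpow, one_zpow, mul_one]
    · intro x hx
      rw [Function.mem_mulSupport] at hx
      rw [Finset.mem_coe, Finsupp.mem_support_iff]
      intro h0
      apply hx
      have h1 := hD₁ x
      rw [h0, mul_zero] at h1
      by_cases h2 : D₁' x = 0
      · rw [h2, add_zero] at h1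
        rw [← h1, zpow_zero]
      · rw [hZ1 x h2, one_zpow]
  rw [hL, hR] at key
  rw [div_pow, key, div_self']

end Groth.Agent.S14184
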