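import Mathlib
import Groth.Prelude
import Groth.Statements.S14193
import Groth.Agent.Lib.Seat90ExpRatA
import Groth.Agent.Lib.Seat90ExpRatB
import Groth.Agent.Lib.Seat90ExpRatC

set_option autoImplicit false
open PowerSeries
open StackCount

namespace Groth.Agent.S14193

/-- Let q > 1 be an integer and let F be an element of the subring of the rational function field ℚ(X)
generated by X, X^(-1) and the fractions 1/(X^n - 1) for n ≥ 1 (so F(q^v) is defined for every v ≥
1). If the formal power series exp(Σ_{v ≥ 1} F(q^v) t^v / v) in ℚ⟦t⟧ is the expansion of a rational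
function, i.e. its product with some non-zero polynomial in t is a polynomial, then F is a Laurent
polynomial with integer coefficients: F · X^a is the image of a polynomial with integer coefficients
for some a. (The published statement also assumes that the series defines a meromorphic function on
the complex plane; that is implied by rationality and is omitted here.) -/
theorem result (q : ℤ) (hq : 1 < q) (F : RatFunc ℚ)
    (hF : F ∈ Subring.closure
      (({RatFunc.X, (RatFunc.X : RatFunc ℚ)⁻¹} : Set (RatFunc ℚ)) ∪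
        Set.range fun n : ℕ => ((RatFunc.X : RatFunc ℚ) ^ (n + 1) - 1)⁻¹))
    (hrat : ∃ P Q : Polynomial ℚ, Q ≠ 0 ∧
      (PowerSeries.exp ℚ).subst
          (PowerSeries.mk fun v : ℕ => if v = 0 then (0 : ℚ)
            else F.eval (RingHom.id ℚ) ((q : ℚ) ^ v) / (v : ℚ))
        * (Q : PowerSeries ℚ) = (P : PowerSeries ℚ)) :
    ∃ (P : Polynomial ℤ) (a : ℕ),
      F * RatFunc.X ^ a = algebraMap (Polynomial ℚ) (RatFunc ℚ) (P.map (Int.castRingHom ℚ)) := by
  open Groth.Agent.Lib.Seat90.ExpRat in
  obtain ⟨P, Q, hQ, h⟩ := hrat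
  have hq' : (1 : ℚ) < (q : ℚ) := by exact_mod_cast hq
  obtain ⟨G, a, N, e, hN, hrep⟩ := rep_of_mem hF
  obtain ⟨c, d, M₀, hc, hrec⟩ :=
    exists_recurrence (fun v => F.eval (RingHom.id ℚ) ((q : ℚ) ^ v)) P Q hQ h
  have hDz : (Dz a N e).map (Int.castRingHom ℚ) = Dq a N e := by
    unfold Dz Dq
    simp
  have hrep' : F * algebraMap (Polynomial ℚ) (RatFunc ℚ) (Dq a N e) =
      algebraMap (Polynomial ℚ) (RatFunc ℚ) (G.map (Int.castRingHom ℚ)) := by
    rw [← hDz]
    exact hrep
  have hdvd := dvd_of_recurrence hq' F _ a N e hN hrep' c d M₀ hc hrec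
  obtain ⟨K, hK⟩ := exists_int_quotient G N e hN hdvd
  refine ⟨K, a, ?_⟩
  have hM : ι ((Polynomial.X ^ N - 1 : Polynomial ℤ) ^ e) ≠ 0 := by
    intro h0
    have h1 : ((Polynomial.X ^ N - 1 : Polynomial ℤ) ^ e) = 0 := ι_injective (by rw [h0, map_zero])
    exact ((Polynomial.monic_X_pow_sub_C (1 : ℤ) hN.ne').pow e).ne_zero (by simpa using h1)
  have h2 : F * ι (Dz a N e) = ι G := hrep
  rw [hK] at h2
  unfold Dz at h2
  rw [map_mul, map_mul, map_pow, ι_X, ← mul_assoc] at h2
  have h3 : F * RatFunc.X ^ a = ι K := by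
    apply mul_right_cancel₀ hM
    rw [h2]
    ring
  exact h3

end Groth.Agent.S14193
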