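import Groth.Statements.S14196
import Groth.Agent.Lib.Seat58QuotStK

set_option autoImplicit false
universe u
open CategoryTheory MonoidalCategory CartesianMonoidalCategory AlgebraicGeometry
open StackCount

namespace Groth.Agent.S14196

section Aux

open Opposite MonObj GrpObj
open Groth.Agent.S12838 Groth.Agent.Lib.Seat58.QuotStK

variable {S : Scheme.{u}} {G : Over S} [GrpObj G] {X : Over S} {aX : AlgGrp.Action G X}

theorem etale_le_fppf : Scheme.etalePrecoverage.{u} ≤ Scheme.fppfPrecoverage.{u} :=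
  Scheme.precoverage_mono fun _ _ _ h => by
    have : Etale _ := h
    exact ⟨inferInstance, inferInstance⟩

/-- part (1): sections over an algebraically closed point -/
theorem exists_section_fiber {Ω : Type u} [Field Ω] [IsAlgClosed Ω]
    (t : Spec (CommRingCat.of Ω) ⟶ S)
    (A : (AlgSt.QuotObj.forget Scheme.etalePrecoverage G aX).Fiber (Over.mk t)) :
    ∃ s : Over.mk t ⟶ A.1.P, s ≫ A.1.π = eqToHom A.2.symm := by
  obtain ⟨A, hA⟩ := A
  obtain ⟨base, P, act, π, cart, loc, φ, eqv⟩ := A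
  change base = Over.mk t at hA
  subst hA
  obtain ⟨R, hR, hsec⟩ := loc
  exact Groth.Agent.Lib.Seat58.QuotStGeomPt.exists_section t P π ⟨R, etale_le_fppf _ hR, hsec⟩

/-- part (2) -/
theorem iso_iff {T : Over S}
    (A B : (AlgSt.QuotObj.forget Scheme.etalePrecoverage G aX).Fiber T)
    (tA : T ⟶ A.1.P) (tB : T ⟶ B.1.P)
    (hA : tA ≫ A.1.π = eqToHom A.2.symm) (hB : tB ≫ B.1.π = eqToHom B.2.symm) :
    Nonempty (A ≅ B) ↔ ∃ g : T ⟶ G, lift g (tA ≫ A.1.φ) ≫ aX.act = tB ≫ B.1.φ := by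
  obtain ⟨A, hA'⟩ := A
  obtain ⟨B, hB'⟩ := B
  obtain ⟨baseA, PA, actA, πA, cartA, locA, φA, eqvA⟩ := A
  obtain ⟨baseB, PB, actB, πB, cartB, locB, φB, eqvB⟩ := B
  change baseA = T at hA'
  change baseB = T at hB'
  subst hA'
  subst hB'
  let A : AlgSt.QuotObj Scheme.etalePrecoverage G aX := ⟨baseB, PA, actA, πA, cartA, locA, φA, eqvA⟩
  let B : AlgSt.QuotObj Scheme.etalePrecoverage G aX := ⟨baseB, PB, actB, πB, cartB, locB, φB, eqvB⟩
  have hA1 : tA ≫ πA = 𝟙 baseB := hA
  have hB1 : tB ≫ πB = 𝟙 baseB := hB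
  constructor
  · rintro ⟨e⟩
    have hlift : (AlgSt.QuotSt Scheme.etalePrecoverage G aX).p.IsHomLift (𝟙 baseB) e.hom.1 := e.hom.2
    have hbase : (e.hom.1 : A ⟶ B).base = 𝟙 baseB := by
      have h := IsHomLift.fac' (AlgSt.QuotSt Scheme.etalePrecoverage G aX).p (𝟙 baseB) e.hom.1
      have h' : (e.hom.1 : A ⟶ B).base = eqToHom rfl ≫ 𝟙 baseB ≫ eqToHom rfl := h
      simpa using h'
    have hw : (tA ≫ (e.hom.1 : A ⟶ B).top) ≫ πB = tB ≫ πB := by
      rw [Category.assoc, (e.hom.1 : A ⟶ B).cart.w, hbase, Category.comp_id]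
      exact hA1.trans hB1.symm
    obtain ⟨u, hu1, hu2⟩ := cartB.exists_lift tB (tA ≫ (e.hom.1 : A ⟶ B).top) hw.symm
    refine ⟨u ≫ fst G PB, ?_⟩
    have h1 : tB ≫ φB = u ≫ (G ◁ φB) ≫ aX.act := by
      rw [← hu1, Category.assoc, eqvB]
    rw [h1, ← Category.assoc]
    congr 1
    apply CartesianMonoidalCategory.hom_ext
    · simp
    · rw [lift_snd, Category.assoc, whiskerLeft_snd, ← Category.assoc, hu2, Category.assoc]
      exact congrArg (tA ≫ ·) (e.hom.1 : A ⟶ B).wφ.symm
  · rintro ⟨g, hg⟩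
    let eA := trivIso A tA hA1
    let eB := trivIso B tB hB1
    let eAB := rmulIso (K := Scheme.etalePrecoverage) (aX := aX) (tB ≫ φB) (tA ≫ φA) g hg
    refine ⟨Groth.Agent.Lib.Seat58.QuotStGeomPt.fiberIso (x := ⟨A, rfl⟩) (y := ⟨B, rfl⟩) (eA.symm ≪≫ eAB.symm ≪≫ eB) ?_⟩
    have h1 : (AlgSt.QuotSt Scheme.etalePrecoverage G aX).p.IsHomLift (𝟙 baseB) eA.hom :=
      isHomLift_of_base_eq_id (T := baseB) eA.hom rfl rfl
        (by rw [trivIso_hom_base]; exact (Category.id_comp (𝟙 baseB)).symm)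
    have h2 : (AlgSt.QuotSt Scheme.etalePrecoverage G aX).p.IsHomLift (𝟙 baseB) eB.hom :=
      isHomLift_of_base_eq_id (T := baseB) eB.hom rfl rfl
        (by rw [trivIso_hom_base]; exact (Category.id_comp (𝟙 baseB)).symm)
    have h3 : (AlgSt.QuotSt Scheme.etalePrecoverage G aX).p.IsHomLift (𝟙 baseB) eAB.hom :=
      isHomLift_of_base_eq_id (T := baseB) eAB.hom rfl rfl
        (by rw [rmulIso_hom_base]; exact (Category.id_comp (𝟙 baseB)).symm)
    have h1' : (AlgSt.QuotSt Scheme.etalePrecoverage G aX).p.IsHomLift (𝟙 baseB) eA.inv :=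
      IsHomLift.lift_id_inv _ baseB eA
    have h3' : (AlgSt.QuotSt Scheme.etalePrecoverage G aX).p.IsHomLift (𝟙 baseB) eAB.inv :=
      IsHomLift.lift_id_inv _ baseB eAB
    change (AlgSt.QuotSt Scheme.etalePrecoverage G aX).p.IsHomLift (𝟙 baseB)
      (eA.inv ≫ eAB.inv ≫ eB.hom)
    have h4 : (AlgSt.QuotSt Scheme.etalePrecoverage G aX).p.IsHomLift (𝟙 baseB ≫ 𝟙 baseB ≫ 𝟙 baseB)
      (eA.inv ≫ eAB.inv ≫ eB.hom) := inferInstance
    simpa using h4

/-- part (3) -/
theorem exists_fiber_of_point {T : Over S} (x : T ⟶ X) :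
    ∃ (A : (AlgSt.QuotObj.forget Scheme.etalePrecoverage G aX).Fiber T) (t : T ⟶ A.1.P),
      t ≫ A.1.π = eqToHom A.2.symm ∧ t ≫ A.1.φ = x := by
  refine ⟨⟨(AlgSt.quotMap Scheme.etalePrecoverage G aX).obj ⟨T, ⟨x⟩⟩, rfl⟩, unitSec T, ?_, ?_⟩
  · change lift (1 : T ⟶ G) (𝟙 T) ≫ snd G T = 𝟙 T
    rw [lift_snd]
  · change lift (1 : T ⟶ G) (𝟙 T) ≫ (G ◁ x) ≫ aX.act = x
    have : lift (1 : T ⟶ G) (𝟙 T) ≫ (G ◁ x) = lift (1 : T ⟶ G) x := by
      apply CartesianMonoidalCategory.hom_ext <;> simp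
    rw [← Category.assoc, this, one_act_lift]

end Aux

/-- Let k be a finite field with algebraic closure k̄, G a smooth affine algebraic group over k acting
on a variety X over k (reduced, of finite type), and [X/G] the quotient stack whose objects over a
k-scheme T are G-torsors P → T, locally trivial for the étale topology and taken to be schemes, with
a G-equivariant morphism P → X. Write T̄ = Spec k̄ over Spec k. Then: every object of the fibre
category of [X/G] over T̄ admits a section T̄ → P of its torsor; for objects A, B over T̄ with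
chosen sections t_A, t_B, A and B are isomorphic in the fibre over T̄ if and only if the k̄-points
t_B φ_B and t_A φ_A of X lie in one G(k̄)-orbit (there is g ∈ G(T̄) with g · (t_A φ_A) = t_B φ_B);
and every k̄-point of X is of the form t φ_A. Hence the isomorphism classes of [X/G](k̄) correspond
bijectively to the G(k̄)-orbits in X(k̄). (The published statement allows any smooth algebraic group
G; this row takes G affine, so that every torsor is a scheme.) -/
theorem result (k : Type u) [Field k] [Finite k]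
    (G : Over (Spec (CommRingCat.of k))) [GrpObj G] [Smooth G.hom] [IsAffineHom G.hom]
    (X : Over (Spec (CommRingCat.of k))) [LocallyOfFiniteType X.hom] [QuasiCompact X.hom]
    [IsReduced X.left] (aX : AlgGrp.Action G X) :
    (∀ A : (AlgSt.QuotObj.forget Scheme.etalePrecoverage G aX).Fiber (Over.mk (Spec.map (CommRingCat.ofHom (algebraMap k (AlgebraicClosure k)))) : Over (Spec (CommRingCat.of k))),
        ∃ t : (Over.mk (Spec.map (CommRingCat.ofHom (algebraMap k (AlgebraicClosure k)))) : Over (Spec (CommRingCat.of k))) ⟶ A.1.P, t ≫ A.1.π = eqToHom A.2.symm) ∧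
    (∀ (A B : (AlgSt.QuotObj.forget Scheme.etalePrecoverage G aX).Fiber (Over.mk (Spec.map (CommRingCat.ofHom (algebraMap k (AlgebraicClosure k)))) : Over (Spec (CommRingCat.of k))))
        (tA : (Over.mk (Spec.map (CommRingCat.ofHom (algebraMap k (AlgebraicClosure k)))) : Over (Spec (CommRingCat.of k))) ⟶ A.1.P) (tB : (Over.mk (Spec.map (CommRingCat.ofHom (algebraMap k (AlgebraicClosure k)))) : Over (Spec (CommRingCat.of k))) ⟶ B.1.P),
        tA ≫ A.1.π = eqToHom A.2.symm → tB ≫ B.1.π = eqToHom B.2.symm →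
        (Nonempty (A ≅ B) ↔
          ∃ g : (Over.mk (Spec.map (CommRingCat.ofHom (algebraMap k (AlgebraicClosure k)))) : Over (Spec (CommRingCat.of k))) ⟶ G,
            CartesianMonoidalCategory.lift g (tA ≫ A.1.φ) ≫ aX.act = tB ≫ B.1.φ)) ∧
    (∀ x : (Over.mk (Spec.map (CommRingCat.ofHom (algebraMap k (AlgebraicClosure k)))) : Over (Spec (CommRingCat.of k))) ⟶ X,
        ∃ (A : (AlgSt.QuotObj.forget Scheme.etalePrecoverage G aX).Fiber (Over.mk (Spec.map (CommRingCat.ofHom (algebraMap k (AlgebraicClosure k)))) : Over (Spec (CommRingCat.of k)))) (t : (Over.mk (Spec.map (CommRingCat.ofHom (algebraMap k (AlgebraicClosure k)))) : Over (Spec (CommRingCat.of k))) ⟶ A.1.P),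
          t ≫ A.1.π = eqToHom A.2.symm ∧ t ≫ A.1.φ = x) := by
  refine ⟨?_, ?_, ?_⟩
  · intro A
    exact exists_section_fiber _ A
  · intro A B tA tB hA hB
    exact iso_iff A B tA tB hA hB
  · intro x
    exact exists_fiber_of_point x

end Groth.Agent.S14196
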