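import Groth.Statements.S14311
import Groth.Agent.Lib.Seat71JetTaylor
import Groth.Agent.Lib.Seat71JetInv
import Groth.Agent.Lib.Seat71JetNF

set_option autoImplicit false
universe u
open ArSing

namespace Groth.Agent.S14311

open Groth.Agent.Lib.Seat71.ArSingBasic Groth.Agent.Lib.Seat71.JetTaylor
  Groth.Agent.Lib.Seat71.JetInv Groth.Agent.Lib.Seat71.JetLin Groth.Agent.Lib.Seat71.JetNF in
/-- Let k be an algebraically closed field in which 2 ≠ 0, f a polynomial in x = X_0, y = X_1 over k and
a a zero of f in k². Then the gradient and all second partial derivatives of f vanish at a if and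
only if the completed local ring k[[x,y]]/(f recentred at a) of the plane curve f = 0 at a is
isomorphic as a k-algebra neither to k[[x,y]]/(y^2 - x^(n+1)) for any natural number n nor to
k[[x,y]]/(y^2). (Here n = 0, a smooth point, is allowed; with n ≥ 1 only, as in the published
definition of an A-singularity, the equivalence fails at smooth points of the curve. Only 2 ≠ 0 is
assumed of the characteristic; the published setting assumes a characteristic different from 2, 3, 5
and 7.) -/
theorem result
    {k : Type u} [Field k] [IsAlgClosed k] (h2 : (2 : k) ≠ 0) (f : MvPolynomial (Fin 2) k) (a : Fin 2 → k)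
    (hfa : MvPolynomial.eval a f = 0) :
    ((∀ i : Fin 2, MvPolynomial.eval a (MvPolynomial.pderiv i f) = 0) ∧
      ∀ i j : Fin 2, MvPolynomial.eval a (MvPolynomial.pderiv i (MvPolynomial.pderiv j f)) = 0) ↔
    ¬ ((∃ n : ℕ, Nonempty ((MvPowerSeries (Fin 2) k ⧸ Ideal.span
        ({(MvPolynomial.aeval (fun i : Fin 2 => MvPolynomial.X i + MvPolynomial.C (a i)) f).toMvPowerSeries} :
          Set (MvPowerSeries (Fin 2) k))) ≃ₐ[k] ArSing.ring k n)) ∨
        Nonempty ((MvPowerSeries (Fin 2) k ⧸ Ideal.span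
        ({(MvPolynomial.aeval (fun i : Fin 2 => MvPolynomial.X i + MvPolynomial.C (a i)) f).toMvPowerSeries} :
          Set (MvPowerSeries (Fin 2) k))) ≃ₐ[k]
          (MvPowerSeries (Fin 2) k ⧸ Ideal.span ({MvPowerSeries.X 1 ^ 2} : Set (MvPowerSeries (Fin 2) k))))) := by
  have hjet := jet_iff h2 f a
  have h00 : c (shift a f : MvPolynomial (Fin 2) k).toMvPowerSeries 0 0 = 0 := by
    have h1 : c (shift a f : MvPolynomial (Fin 2) k).toMvPowerSeries 0 0 =
        MvPolynomial.coeff (mon 0 0) (shift a f) := MvPolynomial.coeff_coe _ _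
    have h2' : mon 0 0 = 0 := by simp [mon]
    rw [h1, h2', coeff_zero_shift, hfa]
  unfold shift at hjet h00
  rw [hjet]
  set G : MvPowerSeries (Fin 2) k :=
    (MvPolynomial.aeval (fun i : Fin 2 => MvPolynomial.X i + MvPolynomial.C (a i)) f).toMvPowerSeries
    with hG
  constructor
  · rintro ⟨h10, h01, h20, h11, h02⟩ hiso
    have hnot : ¬ Inv k (MvPowerSeries (Fin 2) k ⧸ Ideal.span {G}) := by
      apply not_Inv
      intro i j hij
      have hi : i < 3 := by omega
      have hj : j < 3 := by omega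
      interval_cases i <;> interval_cases j <;> first | assumption | omega
    rcases hiso with ⟨n, ⟨e⟩⟩ | ⟨⟨e⟩⟩
    · exact hnot (Inv_of_equiv e (Inv_ArSing n))
    · exact hnot (Inv_of_equiv e Inv_ysq)
  · intro hiso
    by_contra hne
    obtain ⟨σ, hσ0, hσreg⟩ := reduce G h00 hne
    obtain ⟨e0⟩ := quot_equiv σ G
    rcases normal_form h2 (σ G) hσ0 hσreg with ⟨n, ⟨e⟩⟩ | ⟨⟨e⟩⟩
    · exact hiso (Or.inl ⟨n, ⟨e0.trans e⟩⟩)
    · exact hiso (Or.inr ⟨e0.trans e⟩)

end Groth.Agent.S14311
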