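import Groth.Statements.S14372
import Groth.Agent.Lib.Seat66CommonZero
import Groth.Agent.Lib.Seat66ChainRule

set_option autoImplicit false
universe u
open Fano

namespace Groth.Agent.S14372

open MvPolynomial in
/-- Core argument, with a basis `b` of `U` and a basis `c` of a complement `U'`. -/
theorem core (k : Type u) [Field k] [IsAlgClosed k]
    (n d : ℕ) (hd : 2 ≤ d) (f : MvPolynomial (Fin (n + 1)) k) (hf : f.IsHomogeneous d)
    (U U' : Submodule k (Fin (n + 1) → k)) (hUU' : U ⊔ U' = ⊤)
    (hU : ∀ u ∈ U, MvPolynomial.eval u f = 0)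
    (hsm : ∀ u ∈ U, u ≠ 0 → ∃ i : Fin (n + 1), MvPolynomial.eval u (MvPolynomial.pderiv i f) ≠ 0)
    (s s' : ℕ) (b : Module.Basis (Fin s) k U) (c : Module.Basis (Fin s') k U') :
    s ≤ s' := by
  by_contra hlt
  push Not at hlt
  -- the substitution `x_i = ∑_j (b j)_i y_j`
  let L : Fin (n + 1) → MvPolynomial (Fin s) k :=
    fun i => ∑ j, C ((b j : Fin (n + 1) → k) i) * X j
  let ι : (Fin s → k) → (Fin (n + 1) → k) := fun y i => eval y (L i)
  have hι : ∀ y, ι y = ((b.equivFun.symm y : U) : Fin (n + 1) → k) := by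
    intro y
    rw [Module.Basis.equivFun_symm_apply]
    ext i
    simp only [ι, L, map_sum, map_mul, eval_C, eval_X]
    rw [Submodule.coe_sum, Finset.sum_apply]
    refine Finset.sum_congr rfl (fun j _ => ?_)
    simp [mul_comm]
  have hιU : ∀ y, ι y ∈ U := by
    intro y; rw [hι]; exact Submodule.coe_mem _
  have heval : ∀ (p : MvPolynomial (Fin (n + 1)) k) (y : Fin s → k),
      eval y (bind₁ L p) = eval (ι y) p := by
    intro p y
    have := aeval_bind₁ (R := k) (S := k) y L p
    simpa [aeval_eq_eval] using this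
  -- the restriction of `f` to `U` vanishes identically
  have hg : bind₁ L f = 0 := by
    apply MvPolynomial.funext
    intro y
    rw [heval, map_zero]
    exact hU _ (hιU y)
  have hpL : ∀ (j : Fin s) (i : Fin (n + 1)), pderiv j (L i) = C ((b j : Fin (n + 1) → k) i) := by
    intro j i
    classical
    simp only [L, map_sum, pderiv_C_mul]
    rw [Finset.sum_eq_single j]
    · rw [pderiv_X_self, mul_one]
    · intro j' _ hj'
      rw [pderiv_X_of_ne hj', mul_zero]
    · intro h; exact absurd (Finset.mem_univ _) h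
  -- (A): the gradient at points of `U` is orthogonal to `U`
  have hA : ∀ (y : Fin s → k) (j : Fin s),
      ∑ i, eval (ι y) (pderiv i f) * (b j : Fin (n + 1) → k) i = 0 := by
    intro y j
    have h1 := Groth.Agent.Lib.Seat66.ChainRule.pderiv_bind₁ L j f
    rw [hg, map_zero] at h1
    have h2 := congrArg (eval y) h1
    rw [map_zero, map_sum] at h2
    rw [h2]
    refine Finset.sum_congr rfl (fun i _ => ?_)
    rw [map_mul, heval, hpL, eval_C]
  -- the normal derivatives
  let h : Fin s' → MvPolynomial (Fin s) k :=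
    fun l => ∑ i, bind₁ L (pderiv i f) * C ((c l : Fin (n + 1) → k) i)
  have hh : ∀ (l : Fin s') (y : Fin s → k),
      eval y (h l) = ∑ i, eval (ι y) (pderiv i f) * (c l : Fin (n + 1) → k) i := by
    intro l y
    simp only [h, map_sum, map_mul, heval, eval_C]
  have hι0 : ι 0 = 0 := by
    rw [hι, map_zero]; rfl
  have hpd0 : ∀ i, eval (0 : Fin (n + 1) → k) (pderiv i f) = 0 := by
    intro i
    have h1 : (pderiv i f).IsHomogeneous (d - 1) := hf.pderiv
    rw [eval_zero]
    show coeff 0 (pderiv i f) = 0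
    apply h1.coeff_eq_zero
    rw [map_zero]
    omega
  have hh0 : ∀ l, eval 0 (h l) = 0 := by
    intro l
    rw [hh, hι0]
    refine Finset.sum_eq_zero (fun i _ => ?_)
    rw [hpd0, zero_mul]
  obtain ⟨y, hy0, hy⟩ := Groth.Agent.Lib.Seat66.CommonZero.exists_ne_zero_common_zero s h
    (by simpa using hlt) hh0
  -- the point `u = ι y`
  have hu0 : ι y ≠ 0 := by
    rw [hι]
    intro h0
    apply hy0
    have : (b.equivFun.symm y : U) = 0 := Subtype.ext h0
    exact (LinearEquiv.map_eq_zero_iff b.equivFun.symm).mp this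
  obtain ⟨i, hi⟩ := hsm (ι y) (hιU y) hu0
  apply hi
  -- the linear form `v ↦ ∑ i, ∂_i f (u) v_i`
  let φ : (Fin (n + 1) → k) →ₗ[k] k :=
    ∑ i, eval (ι y) (pderiv i f) • (LinearMap.proj i : (Fin (n + 1) → k) →ₗ[k] k)
  have hφ : ∀ v, φ v = ∑ i, eval (ι y) (pderiv i f) * v i := by
    intro v
    simp [φ, LinearMap.sum_apply]
  have hUk : U ≤ LinearMap.ker φ := by
    intro w hw
    rw [LinearMap.mem_ker]
    have hw' : w = ((∑ j, b.repr ⟨w, hw⟩ j • b j : U) : Fin (n + 1) → k) := by
      rw [b.sum_repr]
    rw [hw', Submodule.coe_sum, map_sum]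
    refine Finset.sum_eq_zero (fun j _ => ?_)
    rw [Submodule.coe_smul, map_smul, hφ, hA y j, smul_zero]
  have hU'k : U' ≤ LinearMap.ker φ := by
    intro w hw
    rw [LinearMap.mem_ker]
    have hw' : w = ((∑ l, c.repr ⟨w, hw⟩ l • c l : U') : Fin (n + 1) → k) := by
      rw [c.sum_repr]
    rw [hw', Submodule.coe_sum, map_sum]
    refine Finset.sum_eq_zero (fun l _ => ?_)
    rw [Submodule.coe_smul, map_smul, hφ, ← hh, hy l, smul_zero]
  have htop : LinearMap.ker φ = ⊤ := by
    rw [eq_top_iff, ← hUU']
    exact sup_le hUk hU'k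
  have h1 : φ (Pi.single i 1) = 0 := by
    have : (Pi.single i 1 : Fin (n + 1) → k) ∈ LinearMap.ker φ := by rw [htop]; trivial
    exact this
  rw [hφ] at h1
  rw [← h1]
  classical
  rw [Finset.sum_eq_single i]
  · simp
  · intro j _ hj
    simp [Pi.single_eq_of_ne hj]
  · intro h; exact absurd (Finset.mem_univ _) h

/-- Over an algebraically closed field k of arbitrary characteristic, let f be a homogeneous form of
degree d ≥ 2 in n + 1 variables and U a linear subspace of k^(n+1) on which f vanishes, such that at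
every nonzero vector of U some partial derivative of f does not vanish (the hypersurface f = 0 in
P^n contains the r-plane P(U), r + 1 = dim U, and is smooth at every point of it). Then 2 · dim U ≤
n + 1, i.e. r ≤ (n − 1)/2. (The published statement assumes the hypersurface smooth everywhere; this
row assumes smoothness only along P(U).) -/
theorem result (k : Type u) [Field k] [IsAlgClosed k]
    (n d : ℕ) (hd : 2 ≤ d) (f : MvPolynomial (Fin (n + 1)) k) (hf : f.IsHomogeneous d)
    (U : Submodule k (Fin (n + 1) → k)) (hU : ∀ u ∈ U, MvPolynomial.eval u f = 0)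
    (hsm : ∀ u ∈ U, u ≠ 0 → ∃ i : Fin (n + 1), MvPolynomial.eval u (MvPolynomial.pderiv i f) ≠ 0) :
    2 * Module.finrank k ↥U ≤ n + 1 := by
  obtain ⟨U', hU'⟩ := Submodule.exists_isCompl U
  have hdim : Module.finrank k U + Module.finrank k U' = n + 1 := by
    rw [Submodule.finrank_add_eq_of_isCompl hU', Module.finrank_fin_fun]
  have := core k n d hd f hf U U' hU'.sup_eq_top hU hsm _ _ (Module.finBasis k U)
    (Module.finBasis k U')
  omega

end Groth.Agent.S14372
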