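import Groth.Statements.S14415
import Groth.Agent.Lib.Seat66AssFlat
import Groth.Agent.Lib.Helper18FinFlat1
import Groth.Agent.Lib.Helper23AssAffine

set_option autoImplicit false
set_option linter.style.haveILetI false
set_option backward.isDefEq.respectTransparency false
universe u
open CategoryTheory AlgebraicGeometry
open FlatMor

namespace Groth.Agent.S14415

/-- every prime of the sections over an affine open is the prime of a point -/
theorem primeIdealOf_isoSpec_inv {X : Scheme.{u}} {U : X.Opens} (hU : IsAffineOpen U)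
    (p : PrimeSpectrum Γ(X, U)) : hU.primeIdealOf (hU.isoSpec.inv p) = p := by
  change hU.isoSpec.hom (hU.isoSpec.inv p) = p
  rw [← Scheme.Hom.comp_apply, Iso.inv_hom_id]
  rfl

/-- the ring-level flatness over an affine open of the target -/
theorem flat_app (C C' : Scheme.{u}) (f : C ⟶ C') [IsFinite f] [IsLocallyNoetherian C']
    (hreg : ∀ y : C', IsRegularLocalRing (C'.presheaf.stalk y))
    (hdim : ∀ y : C', ringKrullDim (C'.presheaf.stalk y) ≤ 1)
    (hass : ∀ x : C, Curv2.IsAssPoint (Coh.structureModule C) x →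
      ringKrullDim (C'.presheaf.stalk (f.base x)) = 0)
    (W : C'.Opens) (hW : IsAffineOpen W) : (f.app W).hom.Flat := by
  haveI : IsLocallyNoetherian C := LocallyOfFiniteType.isLocallyNoetherian f
  have hV : IsAffineOpen (f ⁻¹ᵁ W) := hW.preimage f
  haveI : IsNoetherianRing Γ(C', W) := IsLocallyNoetherian.component_noetherian ⟨W, hW⟩
  haveI : IsNoetherianRing Γ(C, f ⁻¹ᵁ W) := IsLocallyNoetherian.component_noetherian ⟨_, hV⟩
  letI : Algebra Γ(C', W) Γ(C, f ⁻¹ᵁ W) := (f.app W).hom.toAlgebra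
  change Module.Flat Γ(C', W) Γ(C, f ⁻¹ᵁ W)
  -- transport of stalk data to localizations
  have key : ∀ (p : Ideal Γ(C', W)) [p.IsPrime], ∃ y : C', ∃ hy : y ∈ W,
      (hW.primeIdealOf ⟨y, hy⟩).asIdeal = p := by
    intro p hp
    refine ⟨(hW.isoSpec.inv ⟨p, hp⟩ : W).1, (hW.isoSpec.inv ⟨p, hp⟩ : W).2, ?_⟩
    have := primeIdealOf_isoSpec_inv hW ⟨p, hp⟩
    exact congrArg PrimeSpectrum.asIdeal this
  apply Groth.Agent.Lib.Seat66.AssFlat.flat_of_associatedPrimes
  · intro 𝔪 h𝔪
    obtain ⟨y, hy, rfl⟩ := key 𝔪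
    haveI := hW.isLocalization_stalk ⟨y, hy⟩
    letI : Algebra Γ(C', W) (C'.presheaf.stalk y) := C'.presheaf.algebra_section_stalk ⟨y, hy⟩
    haveI := hreg y
    exact IsRegularLocalRing.of_ringEquiv
      (IsLocalization.algEquiv (hW.primeIdealOf ⟨y, hy⟩).asIdeal.primeCompl
        (C'.presheaf.stalk y) (Localization.AtPrime (hW.primeIdealOf ⟨y, hy⟩).asIdeal)).toRingEquiv
  · intro 𝔪 h𝔪
    obtain ⟨y, hy, rfl⟩ := key 𝔪
    haveI := hW.isLocalization_stalk ⟨y, hy⟩
    letI : Algebra Γ(C', W) (C'.presheaf.stalk y) := C'.presheaf.algebra_section_stalk ⟨y, hy⟩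
    rw [IsLocalization.AtPrime.ringKrullDim_eq_height (hW.primeIdealOf ⟨y, hy⟩).asIdeal,
      ← IsLocalization.AtPrime.ringKrullDim_eq_height (hW.primeIdealOf ⟨y, hy⟩).asIdeal
        (C'.presheaf.stalk y)]
    exact hdim y
  · intro 𝔮 h𝔮
    haveI : 𝔮.IsPrime := h𝔮.isPrime
    obtain ⟨x, hx, rfl⟩ : ∃ x : C, ∃ hx : x ∈ f ⁻¹ᵁ W,
        (hV.primeIdealOf ⟨x, hx⟩).asIdeal = 𝔮 := by
      refine ⟨(hV.isoSpec.inv ⟨𝔮, inferInstance⟩ : (f ⁻¹ᵁ W : C.Opens)).1,
        (hV.isoSpec.inv ⟨𝔮, inferInstance⟩ : (f ⁻¹ᵁ W : C.Opens)).2, ?_⟩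
      have := primeIdealOf_isoSpec_inv hV ⟨𝔮, inferInstance⟩
      exact congrArg PrimeSpectrum.asIdeal this
    haveI : (Coh.structureModule C).IsQuasicoherent :=
      Groth.Agent.Lib.Helper20.OmegaAff.isQuasicoherent_structureModule
    have hassx : Curv2.IsAssPoint (Coh.structureModule C) x := by
      rw [Groth.Agent.Lib.Helper23.AssAffine.isAssPoint_iff_mem_associatedPrimes hV
        (Coh.structureModule C) x hx]
      exact h𝔮
    have h0 := hass x hassx
    have hcomap := IsAffineOpen.comap_primeIdealOf_appLE (f := f) (x := x) W hW (f ⁻¹ᵁ W) hV le_rfl hx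
    have hy : f.base x ∈ W := hx
    haveI := hW.isLocalization_stalk ⟨f.base x, hy⟩
    letI : Algebra Γ(C', W) (C'.presheaf.stalk (f.base x)) :=
      C'.presheaf.algebra_section_stalk ⟨f.base x, hy⟩
    rw [IsLocalization.AtPrime.ringKrullDim_eq_height (hW.primeIdealOf ⟨f.base x, hy⟩).asIdeal
      (C'.presheaf.stalk (f.base x))] at h0
    have h1 : (hW.primeIdealOf ⟨f.base x, hy⟩).asIdeal.height = 0 := by exact_mod_cast h0
    have h2 : Ideal.comap (algebraMap Γ(C', W) Γ(C, f ⁻¹ᵁ W)) (hV.primeIdealOf ⟨x, hx⟩).asIdeal =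
        (hW.primeIdealOf ⟨f.base x, hy⟩).asIdeal := by
      have := congrArg PrimeSpectrum.asIdeal hcomap
      rw [← Scheme.Hom.app_eq_appLE] at this
      exact this
    rw [h2]
    exact h1

theorem result
    (C C' : Scheme.{u}) (f : C ⟶ C') [IsFinite f] [IsLocallyNoetherian C']
    (hreg : ∀ y : C', IsRegularLocalRing (C'.presheaf.stalk y))
    (hdim : ∀ y : C', ringKrullDim (C'.presheaf.stalk y) ≤ 1)
    (hass : ∀ x : C, Curv2.IsAssPoint (Coh.structureModule C) x →
      ringKrullDim (C'.presheaf.stalk (f.base x)) = 0) :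
    FlatMod.IsFinLocFree ((Coh.push f).obj (Coh.structureModule C)) := by
  have hfp : LocallyOfFinitePresentation f :=
    LocallyOfFinitePresentation.iff_locallyOfFiniteType.mpr inferInstance
  have hflat : Flat f := by
    have hcov : ⨆ V : C'.affineOpens, (V.1 : C'.Opens) = ⊤ := iSup_affineOpens_eq_top C'
    rw [IsZariskiLocalAtTarget.iff_of_iSup_eq_top (P := @Flat) (fun V : C'.affineOpens => V.1) hcov]
    intro V
    haveI : IsAffine ((f ⁻¹ᵁ V.1 : C.Opens) : Scheme.{u}) := V.2.preimage f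
    haveI : IsAffine ((V.1 : C'.Opens) : Scheme.{u}) := V.2
    rw [HasRingHomProperty.iff_of_isAffine (P := @Flat)]
    exact (Groth.Agent.Helper18FinFlat.appTop_restrict_iff f RingHom.Flat.respectsIso V.1).2
      (flat_app C C' f hreg hdim hass V.1 V.2)
  exact Groth.Agent.Helper18FinFlat.pushforward_isFinLocFree f ⟨inferInstance, hflat, hfp⟩

end Groth.Agent.S14415
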