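import Groth.Statements.S14449
import Mathlib
import Groth.Agent.Lib.Seat3Recoll
import Groth.Agent.Lib.Seat3OpenClosedSeq
import Groth.Agent.Lib.Seat38PullExact
-- import your own Groth.Agent.* helpers here

set_option autoImplicit false
universe u
open CategoryTheory CategoryTheory.Limits AlgebraicGeometry
open EtCore

namespace Groth.Agent.S14449

open Opposite Groth.Agent.S0100 Groth.Agent.S0101 Groth.Agent.Lib.Helper16.EtStalk
  Groth.Agent.Lib.Seat3.ClosedPush Groth.Agent.Lib.Seat3.ClosedOpen
  Groth.Agent.Lib.Seat3.OpenClosedSeq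

set_option backward.isDefEq.respectTransparency.types false in
lemma isZero_pull_push {X Z U : Scheme.{u}}
    (i : Z ⟶ X) (j : U ⟶ X) [IsOpenImmersion j]
    (hZU : Set.range j.base = (Set.range i.base)ᶜ) (G : EtCoh.Ab Z) :
    IsZero ((EtCoh.pull j).obj ((EtCoh.push i).obj G)) := by
  let e : EtCoh.pull j ≅ EtShriek.restrAlong j :=
    (EtCoh.pullPushAdj j).leftAdjointUniq (Groth.Agent.S0651.restrPushAdj j)
  refine IsZero.of_iso ?_ (e.app _)
  apply isZero_of_sections
  intro V
  change IsZero (((EtCoh.push i).obj G).obj.obj (op ((EtShriek.compEtale j).obj V)))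
  apply isZero_push_sections
  rw [Set.disjoint_left]
  rintro _ ⟨a, rfl⟩ h2
  have h3 : (V.hom ≫ j) a ∈ Set.range j.base := by
    rw [Scheme.Hom.comp_apply]
    exact ⟨_, rfl⟩
  rw [hZU] at h3
  exact h3 h2

set_option backward.isDefEq.respectTransparency.types false in
lemma isIso_of_pull {X Z U : Scheme.{u}}
    (i : Z ⟶ X) [IsClosedImmersion i] (j : U ⟶ X) [IsOpenImmersion j]
    (hZU : Set.range j.base = (Set.range i.base)ᶜ) {F F' : EtCoh.Ab X} (a : F ⟶ F')
    (hi : IsIso ((EtCoh.pull i).map a)) (hj : IsIso ((EtCoh.pull j).map a)) : IsIso a := by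
  have key : ∀ {Y : Scheme.{u}} (f : Y ⟶ X) (_ : IsIso ((EtCoh.pull f).map a))
      (Ω : Type u) [Field Ω] [IsSepClosed Ω] (ζ : Spec (CommRingCat.of Ω) ⟶ Y),
      Function.Bijective ((EtCoh.stalk (ζ ≫ f)).map a) := by
    intro Y f hf Ω _ _ ζ
    have nat := (stalkPullIso f ζ).hom.naturality a
    have h4 : IsIso ((EtCoh.pull f ⋙ EtCoh.stalk ζ).map a) := by
      rw [Functor.comp_map]; infer_instance
    have h5 : IsIso ((EtCoh.stalk (ζ ≫ f)).map a ≫ (stalkPullIso f ζ).hom.app F') :=
      nat ▸ inferInstance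
    have h2 : IsIso ((EtCoh.stalk (ζ ≫ f)).map a) :=
      IsIso.of_isIso_comp_right _ ((stalkPullIso f ζ).hom.app F')
    exact (ConcreteCategory.isIso_iff_bijective _).mp h2
  have hbij : ∀ (Ω : Type u) [Field Ω] [IsSepClosed Ω] (ξ : Spec (CommRingCat.of Ω) ⟶ X),
      Function.Bijective ((EtCoh.stalk ξ).map a) := by
    intro Ω _ _ ξ
    by_cases hξ : ξ (default : Spec (CommRingCat.of Ω)) ∈ Set.range i.base
    · obtain ⟨ζ, rfl⟩ := exists_fac_of_mem_range i ξ hξ
      exact key i hi Ω ζ
    · have hr : Set.range ξ.base ⊆ Set.range j.base := by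
        rw [Groth.Agent.S0652.range_spec_field, hZU]
        exact Set.singleton_subset_iff.mpr hξ
      have hfac : IsOpenImmersion.lift j ξ hr ≫ j = ξ := IsOpenImmersion.lift_fac _ _ _
      rw [← hfac]
      exact key j hj Ω _
  have hm : Mono a := mono_of_stalks _ (fun Ω _ _ ξ => (hbij Ω ξ).1)
  have he : Epi a := epi_of_stalks _ (fun Ω _ _ ξ => (hbij Ω ξ).2)
  exact isIso_of_mono_of_epi _

set_option backward.isDefEq.respectTransparency.types false in
/-- Let X be a scheme, i : Z ⟶ X a closed immersion and j : U ⟶ X an open immersion whose image is the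
complement of the image of i. Then the functor from abelian sheaves on the small étale site of X to
the category of triples (G on Z, H on U, φ : G ⟶ i⁻¹ j_* H), sending F to (i⁻¹ F, j⁻¹ F, i⁻¹ of the
unit F ⟶ j_* j⁻¹ F), is an equivalence of categories. The category of triples is the comma category
of the identity functor of Ab(Z) over j_* ⋙ i⁻¹. -/
theorem result {X Z U : Scheme.{u}}
    (i : Z ⟶ X) [IsClosedImmersion i] (j : U ⟶ X) [IsOpenImmersion j]
    (hZU : Set.range j.base = (Set.range i.base)ᶜ) :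
    (EtCore.recollTriple i j).IsEquivalence := by
  have e : EtCore.recollTriple i j =
      Groth.Agent.Lib.Seat3.Recoll.triple (EtCoh.pull i) (EtCoh.pullPushAdj j) := rfl
  rw [e]
  have : IsIso (EtCoh.pullPushAdj j).counit := by
    have : ∀ G, IsIso ((EtCoh.pullPushAdj j).counit.app G) :=
      fun G => Groth.Agent.S0651.isIso_counit_pull j G
    exact NatIso.isIso_of_isIso_app _
  exact Groth.Agent.Lib.Seat3.Recoll.isEquivalence (EtCoh.pullPushAdj i) (EtCoh.pullPushAdj j)
    (isZero_pull_push i j hZU) (fun a hi hj => isIso_of_pull i j hZU a hi hj)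

end Groth.Agent.S14449
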