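import Groth.Statements.S1446
import Groth.Agent.Lib.Seat6RelAssChart

set_option autoImplicit false
set_option linter.style.haveILetI false
universe u
open FlatMor

namespace Groth.Agent.S1446

open AlgebraicGeometry CategoryTheory Limits in
/-- Let f : X → S be locally of finite type, F a quasi-coherent O_X-module of finite type, and ξ a point
of the relative assassin of F with closure Z. Then there is a nonempty subset V of Z, open in Z,
such that for every point x of V, if x is a generic point of an irreducible component of the fibre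
of V through x then x lies in the relative assassin of F. -/
theorem result {X S : Scheme.{u}} (f : X ⟶ S) [LocallyOfFiniteType f]
    (F : X.Modules) (hF : Coh.IsCoh F) (ξ : X) (hξ : ξ ∈ MoreMor.relAss f F) :
    ∃ V : Set ↑X, V ⊆ closure {ξ} ∧ IsOpen (Subtype.val ⁻¹' V : Set ↑(closure ({ξ} : Set ↑X))) ∧ V.Nonempty ∧
      ∀ (x : X) (hx : x ∈ V), (∃ C ∈ irreducibleComponents ↑(V ∩ f ⁻¹' {f x}), IsGenericPoint (⟨x, hx, rfl⟩ : ↑(V ∩ f ⁻¹' {f x})) C) →
        x ∈ MoreMor.relAss f F := by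
  classical
  haveI : F.IsQuasicoherent := hF.1
  haveI : SheafOfModules.IsFiniteType (R := X.ringCatSheaf) F := hF.2
  -- affine charts
  obtain ⟨_, ⟨V₀, hV₀, rfl⟩, hfξ, -⟩ := S.isBasis_affineOpens.exists_subset_of_mem_open
    (Set.mem_univ (f ξ)) isOpen_univ
  replace hV₀ : IsAffineOpen V₀ := hV₀
  replace hfξ : f ξ ∈ V₀ := hfξ
  obtain ⟨_, ⟨W, hW, rfl⟩, hξW, hWV⟩ := X.isBasis_affineOpens.exists_subset_of_mem_open
    (show ξ ∈ ((f ⁻¹ᵁ V₀ : X.Opens) : Set X) from hfξ) (f ⁻¹ᵁ V₀).2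
  replace hW : IsAffineOpen W := hW
  replace hξW : ξ ∈ W := hξW
  have e : W ≤ f ⁻¹ᵁ V₀ := hWV
  set r₀ := hW.primeIdealOf ⟨ξ, hξW⟩ with hr₀
  have hr₀ξ : hW.fromSpec r₀ = ξ := hW.fromSpec_primeIdealOf _
  obtain ⟨a, ha, H⟩ := Groth.Agent.Lib.Seat6.RelAssChart.chart_of_minimal f F hW hV₀ e r₀
    (hr₀ξ.symm ▸ hξ)
  refine ⟨closure {ξ} ∩ ((W ⊓ f ⁻¹ᵁ (S.basicOpen a) : X.Opens) : Set X), Set.inter_subset_left,
    ?_, ⟨ξ, subset_closure rfl, hξW, ?_⟩, ?_⟩
  · have : (Subtype.val ⁻¹' (closure {ξ} ∩ ((W ⊓ f ⁻¹ᵁ (S.basicOpen a) : X.Opens) : Set X)) :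
        Set ↑(closure ({ξ} : Set ↑X))) =
        Subtype.val ⁻¹' ((W ⊓ f ⁻¹ᵁ (S.basicOpen a) : X.Opens) : Set X) := by
      ext ⟨y, hy⟩
      simp
    rw [this]
    exact (W ⊓ f ⁻¹ᵁ (S.basicOpen a)).2.preimage continuous_subtype_val
  · -- ξ ∈ f⁻¹ D(a)
    change f ξ ∈ S.basicOpen a
    rw [← hr₀ξ, Groth.Agent.Lib.Seat6.Nwd.affine_dict f hV₀ hW e r₀,
      Groth.Agent.Lib.Seat6.Nwd.mem_basicOpen_iff hV₀]
    exact ha
  · rintro x ⟨hxcl, hxW, hxa⟩ ⟨C, hC, hgen⟩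
    set r := hW.primeIdealOf ⟨x, hxW⟩ with hr
    have hrx : hW.fromSpec r = x := hW.fromSpec_primeIdealOf _
    have hspec : ∀ r₁ r₂ : Spec Γ(X, W), r₁.asIdeal ≤ r₂.asIdeal ↔
        hW.fromSpec r₁ ⤳ hW.fromSpec r₂ := by
      intro r₁ r₂
      rw [hW.fromSpec.isOpenEmbedding.toIsInducing.specializes_iff]
      exact PrimeSpectrum.le_iff_specializes r₁ r₂
    have hξx : ξ ⤳ x := specializes_iff_mem_closure.2 hxcl
    have hr₀r : r₀.asIdeal ≤ r.asIdeal := by
      rw [hspec, hr₀ξ, hrx]; exact hξx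
    have hfx : f x = hV₀.fromSpec (Spec.map (f.appLE V₀ W e) r) := by
      rw [← hrx]; exact Groth.Agent.Lib.Seat6.Nwd.affine_dict f hV₀ hW e r
    have har : a ∉ r.asIdeal.comap (f.appLE V₀ W e).hom := by
      have h1 : f x ∈ S.basicOpen a := hxa
      rw [hfx, Groth.Agent.Lib.Seat6.Nwd.mem_basicOpen_iff hV₀] at h1
      exact h1
    rw [← hrx]
    refine H r hr₀r har ?_
    intro r' hcomap hr₀r' hr'r
    set x' := hW.fromSpec r' with hx'
    have hx'W : x' ∈ W := Groth.Agent.Lib.Helper2.QCoh.fromSpec_mem hW r'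
    have hξx' : ξ ⤳ x' := by
      rw [← hr₀ξ]; exact (hspec r₀ r').1 hr₀r'
    have hx'x : x' ⤳ x := by
      rw [← hrx]; exact (hspec r' r).1 hr'r
    have hfx' : f x' = f x := by
      rw [hfx, hx', Groth.Agent.Lib.Seat6.Nwd.affine_dict f hV₀ hW e r']
      congr 1
      exact PrimeSpectrum.ext hcomap
    have hx'V : x' ∈ closure {ξ} ∩ ((W ⊓ f ⁻¹ᵁ (S.basicOpen a) : X.Opens) : Set X) := by
      refine ⟨specializes_iff_mem_closure.1 hξx', hx'W, ?_⟩
      change f x' ∈ S.basicOpen a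
      rw [hfx']; exact hxa
    -- work in the subtype
    let xT : ↑((closure {ξ} ∩ ((W ⊓ f ⁻¹ᵁ (S.basicOpen a) : X.Opens) : Set X)) ∩
      f ⁻¹' {f x}) := ⟨x, ⟨hxcl, hxW, hxa⟩, rfl⟩
    let xT' : ↑((closure {ξ} ∩ ((W ⊓ f ⁻¹ᵁ (S.basicOpen a) : X.Opens) : Set X)) ∩
      f ⁻¹' {f x}) := ⟨x', hx'V, hfx'⟩
    have h1 : xT' ⤳ xT := (subtype_specializes_iff xT' xT).2 hx'x
    have hgen' : closure {xT} = C := hgen
    have hCle : C ⊆ closure {xT'} := by
      rw [← hgen']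
      exact closure_minimal (Set.singleton_subset_iff.2 (specializes_iff_mem_closure.1 h1))
        isClosed_closure
    have hirr : IsIrreducible (closure {xT'}) := isIrreducible_singleton.closure
    have hle : closure {xT'} ⊆ C := hC.2 hirr hCle
    have h2 : xT ⤳ xT' := by
      rw [specializes_iff_mem_closure, hgen']
      exact hle (subset_closure rfl)
    have h3 : x ⤳ x' := (subtype_specializes_iff xT xT').1 h2
    have h4 : x' = x := (hx'x.antisymm h3).eq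
    apply hW.fromSpec.isOpenEmbedding.injective
    rw [hrx]; exact h4

end Groth.Agent.S1446
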