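import Groth.Statements.S14460
import Groth.Agent.Lib.Seat2FibreCard
import Groth.Agent.Lib.Seat2FEtGalois
import Groth.Agent.Lib.Seat62GraphCover

set_option autoImplicit false
universe u
open CategoryTheory CategoryTheory.Limits AlgebraicGeometry
open Pi1

namespace Groth.Agent.S14460

open Groth.Agent.Lib.Seat2.FibreCard Groth.Agent.Lib.Seat2.FEtGalois Groth.Agent.Lib.Seat2.FEtMono

section Aux

/-- a point of a coproduct with values in a field factors through a component. -/
lemma exists_factor_sigma {K : Type u} [Field K] {ι : Type u} (Y : ι → Scheme.{u})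
    (s : Spec (CommRingCat.of K) ⟶ ∐ Y) :
    ∃ (i : ι) (a : Spec (CommRingCat.of K) ⟶ Y i), a ≫ Sigma.ι Y i = s := by
  obtain ⟨i, y, hy⟩ := (sigmaOpenCover Y).exists_eq (s (IsLocalRing.closedPoint K))
  change ι at i
  change Sigma.ι Y i y = _ at hy
  have hrange : Set.range s ⊆ Set.range (Sigma.ι Y i) := by
    rintro _ ⟨z, rfl⟩
    have hz : z = IsLocalRing.closedPoint K := Subsingleton.elim _ _
    rw [hz]
    exact ⟨y, hy⟩
  exact ⟨i, IsOpenImmersion.lift (Sigma.ι Y i) s hrange,
    IsOpenImmersion.lift_fac (Sigma.ι Y i) s hrange⟩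

/-- the geometric fibres of a finite étale cover are finite. -/
lemma finite_fiberObj {X : Scheme.{u}} {Ω : Type u} [Field Ω] [IsSepClosed Ω]
    (ξ : Spec (CommRingCat.of Ω) ⟶ X) (Y : FEt.Cat X) : Finite (FEt.fiberObj ξ Y) := by
  let e : (fiberFunctor ξ).obj Y ≃ FEt.fiberObj ξ Y := ((fiberFunctorInclIso ξ).app Y).toEquiv
  exact Finite.of_equiv _ e

end Aux

/-- Let Y → X be finite étale with Y nonempty and all geometric fibres of the same cardinality n, and
let a finite group G act on Y over X without fixed points (no point of Y with values in a field is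
fixed by a non-identity element). Then G has at most n elements, and it has exactly n elements if
and only if the morphism from the disjoint union of copies of Y indexed by G to Y ×_X Y, given on
the copy indexed by g by the identity and g, is an isomorphism. (For Y empty the bound fails, since
every finite group acts without fixed points on the empty cover, whose fibres have cardinality 0;
this row assumes Y nonempty.) -/
theorem result {X : Scheme.{u}} (Y : FEt.Cat X)
    [Nonempty ↥Y.left] (n : ℕ)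
    (hn : ∀ (Ω : Type u) [Field Ω] [IsSepClosed Ω] (ξ : Spec (CommRingCat.of Ω) ⟶ X), Nat.card (FEt.fiberObj ξ Y) = n)
    (G : Type u) [Group G] [Finite G] (ρ : G →* Aut Y)
    (hfree : ∀ g : G, g ≠ 1 → ∀ (K : Type u) [Field K] (y : Spec (CommRingCat.of K) ⟶ Y.left),
      y ≫ (ρ g).hom.left ≠ y) :
    Nat.card G ≤ n ∧
      (Nat.card G = n ↔ IsIso (Limits.Sigma.desc fun g : G =>
        pullback.lift (𝟙 Y.left) (ρ g).hom.left
          ((Category.id_comp Y.hom).trans (Over.w (ρ g).hom.hom).symm) : (∐ fun _ : G => Y.left) ⟶ pullback Y.hom Y.hom)) := by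
  classical
  have hYfin : IsFinite Y.hom := Y.prop.1
  have hYet : Etale Y.hom := Y.prop.2
  -- the action
  obtain ⟨a, ha⟩ : ∃ a : G → (Y.left ⟶ Y.left), ∀ g, a g = (ρ g).hom.left := ⟨_, fun _ => rfl⟩
  have ha_w : ∀ g, a g ≫ Y.hom = Y.hom := fun g => by
    rw [ha]
    exact Over.w (ρ g).hom.hom
  have ha_mul : ∀ g h, a (g * h) = a h ≫ a g := by
    intro g h
    rw [ha, ha, ha, map_mul]
    rfl
  have ha_one : a 1 = 𝟙 _ := by
    rw [ha, map_one]
    rfl
  have hfree' : ∀ g : G, ∀ (K : Type u) [Field K] (y : Spec (CommRingCat.of K) ⟶ Y.left),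
      y ≫ a g = y → g = 1 := by
    intro g K _ y hy
    by_contra hg
    exact hfree g hg K y ((ha g) ▸ hy)
  -- injectivity of the orbit map
  have hinj : ∀ (K : Type u) [Field K] (y : Spec (CommRingCat.of K) ⟶ Y.left),
      Function.Injective (fun g : G => y ≫ a g) := by
    intro K _ y g h hgh
    have hgh' : y ≫ a g = y ≫ a h := hgh
    have h1 : y ≫ a (h⁻¹ * g) = y := by
      rw [ha_mul, ← Category.assoc, hgh', Category.assoc, ← ha_mul, inv_mul_cancel, ha_one,
        Category.comp_id]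
    have h2 := hfree' _ K y h1
    exact (inv_mul_eq_one.mp h2).symm
  -- the orbit map into the fibre
  have hfib : ∀ (Ω : Type u) [Field Ω] [IsSepClosed Ω] (y : Spec (CommRingCat.of Ω) ⟶ Y.left),
      ∃ j : G → FEt.fiberObj (y ≫ Y.hom) Y, Function.Injective j ∧ (∀ g, (j g).1 = y ≫ a g) ∧
        Finite (FEt.fiberObj (y ≫ Y.hom) Y) ∧ Nat.card (FEt.fiberObj (y ≫ Y.hom) Y) = n := by
    intro Ω _ _ y
    refine ⟨fun g => ⟨y ≫ a g, by rw [Category.assoc, ha_w]⟩, ?_, fun g => rfl,
      finite_fiberObj _ _, hn Ω _⟩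
    intro g h hgh
    exact hinj Ω y (congrArg Subtype.val hgh)
  -- a geometric point of `Y`
  obtain ⟨y₀⟩ := (inferInstance : Nonempty Y.left)
  let Ω₀ := AlgebraicClosure (Y.left.residueField y₀)
  obtain ⟨η, -⟩ : ∃ η : Spec (CommRingCat.of Ω₀) ⟶ Y.left, True :=
    ⟨Spec.map (CommRingCat.ofHom (algebraMap (Y.left.residueField y₀) Ω₀)) ≫
      Y.left.fromSpecResidueField y₀, trivial⟩
  obtain ⟨j₀, hj₀, hj₀a, hfin₀, hcard₀⟩ := hfib Ω₀ η
  -- the comparison morphism
  obtain ⟨Ψ, hΨ⟩ : ∃ Ψ : (∐ fun _ : G => Y.left) ⟶ pullback Y.hom Y.hom,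
      Ψ = (Limits.Sigma.desc fun g : G =>
        pullback.lift (𝟙 Y.left) (ρ g).hom.left
          ((Category.id_comp Y.hom).trans (Over.w (ρ g).hom.hom).symm)) := ⟨_, rfl⟩
  rw [← hΨ]
  have hΨfst : ∀ g, Sigma.ι (fun _ : G => Y.left) g ≫ Ψ ≫ pullback.fst Y.hom Y.hom = 𝟙 _ := by
    intro g
    rw [hΨ, ← Category.assoc, Sigma.ι_desc, pullback.lift_fst]
  have hΨsnd : ∀ g, Sigma.ι (fun _ : G => Y.left) g ≫ Ψ ≫ pullback.snd Y.hom Y.hom = a g := by
    intro g
    rw [hΨ, ← Category.assoc, Sigma.ι_desc, pullback.lift_snd, ha]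
  refine ⟨?_, ?_, ?_⟩
  · rw [← hcard₀]
    exact Nat.card_le_card_of_injective j₀ hj₀
  · -- the numerical condition implies that `Ψ` is an isomorphism
    intro hG
    -- `Ψ` is finite étale
    have hP : FEt.prop (Sigma.desc fun _ : G => 𝟙 Y.left) :=
      ⟨Groth.Agent.Lib.Seat62.GraphCover.isFinite_sigmaDesc G _ _ _ (fun _ => inferInstance),
        IsZariskiLocalAtSource.sigmaDesc (fun _ => inferInstance)⟩
    let P : FEt.Cat Y.left := MorphismProperty.Over.mk ⊤ (Sigma.desc fun _ : G => 𝟙 Y.left) hP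
    let Q : FEt.Cat Y.left := MorphismProperty.Over.mk ⊤ (pullback.fst Y.hom Y.hom)
      ⟨inferInstance, inferInstance⟩
    have hΨw : Ψ ≫ pullback.fst Y.hom Y.hom = Sigma.desc fun _ : G => 𝟙 Y.left := by
      apply Sigma.hom_ext
      intro g
      rw [hΨfst, Sigma.ι_desc]
    let Ψ' : P ⟶ Q := MorphismProperty.Over.homMk Ψ hΨw trivial
    have hΨprop : FEt.prop Ψ := fet_left Ψ'
    have hΨfin : IsFinite Ψ := hΨprop.1
    have hΨet : Etale Ψ := hΨprop.2
    let T : FEt.Cat (pullback Y.hom Y.hom) := MorphismProperty.Over.mk ⊤ Ψ hΨprop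
    rw [Scheme.Hom.isIso_iff_finrank_eq]
    ext q
    rw [Pi.one_apply]
    let Ω := AlgebraicClosure ((pullback Y.hom Y.hom).residueField q)
    obtain ⟨ξ, hξq⟩ : ∃ ξ : Spec (CommRingCat.of Ω) ⟶ pullback Y.hom Y.hom,
        ξ (IsLocalRing.closedPoint Ω) = q :=
      ⟨Spec.map (CommRingCat.ofHom (algebraMap ((pullback Y.hom Y.hom).residueField q) Ω)) ≫
        (pullback Y.hom Y.hom).fromSpecResidueField q, by
        rw [Scheme.Hom.comp_apply, Scheme.fromSpecResidueField_apply]⟩
    have hcard := card_fiberObj_eq_finrank ξ T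
    rw [hξq] at hcard
    change _ = Scheme.Hom.finrank Ψ q at hcard
    rw [← hcard, Nat.card_eq_one_iff_unique]
    obtain ⟨j, hj, hja, hfin, hcardj⟩ := hfib Ω (ξ ≫ pullback.fst Y.hom Y.hom)
    have hjbij : Function.Bijective j :=
      hj.bijective_of_nat_card_le (by rw [hcardj, hG])
    constructor
    · -- uniqueness
      constructor
      rintro ⟨s, hs⟩ ⟨s', hs'⟩
      change Spec (CommRingCat.of Ω) ⟶ ∐ fun _ : G => Y.left at s
      change Spec (CommRingCat.of Ω) ⟶ ∐ fun _ : G => Y.left at s'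
      change s ≫ Ψ = ξ at hs
      change s' ≫ Ψ = ξ at hs'
      apply Subtype.ext
      change s = s'
      obtain ⟨g, b, rfl⟩ := exists_factor_sigma (fun _ : G => Y.left) s
      obtain ⟨g', b', rfl⟩ := exists_factor_sigma (fun _ : G => Y.left) s'
      have hb : b = ξ ≫ pullback.fst Y.hom Y.hom := by
        rw [← hs, Category.assoc, Category.assoc, hΨfst]
        exact (Category.comp_id _).symm
      have hb' : b' = ξ ≫ pullback.fst Y.hom Y.hom := by
        rw [← hs', Category.assoc, Category.assoc, hΨfst]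
        exact (Category.comp_id _).symm
      have hbg : b ≫ a g = ξ ≫ pullback.snd Y.hom Y.hom := by
        rw [← hs, Category.assoc, Category.assoc, hΨsnd]
      have hbg' : b' ≫ a g' = ξ ≫ pullback.snd Y.hom Y.hom := by
        rw [← hs', Category.assoc, Category.assoc, hΨsnd]
      have hgg : g = g' := by
        apply hinj Ω (ξ ≫ pullback.fst Y.hom Y.hom)
        change (ξ ≫ pullback.fst Y.hom Y.hom) ≫ a g = (ξ ≫ pullback.fst Y.hom Y.hom) ≫ a g'
        rw [← hb, hbg, hb, ← hb', hbg']
      subst hgg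
      rw [hb, hb']
    · -- existence
      have hw : (ξ ≫ pullback.snd Y.hom Y.hom) ≫ Y.hom =
          (ξ ≫ pullback.fst Y.hom Y.hom) ≫ Y.hom := by
        rw [Category.assoc, Category.assoc, pullback.condition]
      obtain ⟨g, hg⟩ := hjbij.surjective ⟨ξ ≫ pullback.snd Y.hom Y.hom, hw⟩
      have hg' : (ξ ≫ pullback.fst Y.hom Y.hom) ≫ a g = ξ ≫ pullback.snd Y.hom Y.hom := by
        rw [← hja, hg]
      refine ⟨⟨(ξ ≫ pullback.fst Y.hom Y.hom) ≫ Sigma.ι (fun _ : G => Y.left) g, ?_⟩⟩
      change ((ξ ≫ pullback.fst Y.hom Y.hom) ≫ Sigma.ι (fun _ : G => Y.left) g) ≫ Ψ = ξ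
      apply pullback.hom_ext
      · rw [Category.assoc, Category.assoc, hΨfst]
        exact Category.comp_id _
      · rw [Category.assoc, Category.assoc, hΨsnd, hg']
  · -- an isomorphism forces the numerical condition
    intro hiso
    rw [← hcard₀]
    apply Nat.card_eq_of_bijective j₀
    refine ⟨hj₀, ?_⟩
    rintro ⟨s, hs⟩
    change Spec (CommRingCat.of Ω₀) ⟶ Y.left at s
    change s ≫ Y.hom = η ≫ Y.hom at hs
    obtain ⟨g, b, hb⟩ := exists_factor_sigma (fun _ : G => Y.left)
      (pullback.lift η s hs.symm ≫ inv Ψ)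
    have hb' : b ≫ Sigma.ι (fun _ : G => Y.left) g ≫ Ψ = pullback.lift η s hs.symm := by
      rw [← Category.assoc, hb, Category.assoc, IsIso.inv_hom_id, Category.comp_id]
    have h1 : b = η := by
      have := congrArg (fun m => m ≫ pullback.fst Y.hom Y.hom) hb'
      simp only [Category.assoc, hΨfst, Category.comp_id, pullback.lift_fst] at this
      exact this
    have h2 : b ≫ a g = s := by
      have := congrArg (fun m => m ≫ pullback.snd Y.hom Y.hom) hb'
      simp only [Category.assoc, hΨsnd, pullback.lift_snd] at this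
      exact this
    refine ⟨g, Subtype.ext ?_⟩
    exact (hj₀a g).trans ((congrArg (fun m => m ≫ a g) h1).symm.trans h2)

end Groth.Agent.S14460
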