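import Groth.Statements.S14481
import Groth.Agent.Lib.Seat66CharCycKrull

set_option autoImplicit false
universe u
open CategoryTheory AlgebraicGeometry
open CharCyc

open Groth.Agent.Lib.Helper4.VarDim Groth.Agent.Lib.Seat66.CharCycTop Groth.Agent.Lib.Seat66.CharCycBase Groth.Agent.Lib.Seat66.CharCycFib Groth.Agent.Lib.Seat66.CharCycKrull
open Topology TopologicalSpace

set_option linter.style.haveILetI false

namespace Groth.Agent.S14481

/-- First equivalence: let k be a field, let π : C → X be a morphism between k-schemes of finite type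
such that every irreducible component of C has dimension n, and let ι : W → X be a regular immersion
of codimension c. The following are equivalent: (a) ι meets C properly, that is, whenever P is an
irreducible component of C and Q is an irreducible component of P ×_X W (the subspace P ∩ π⁻¹(ι(W))
of C), one has dim Q = dim P − c; (b) dim C ×_X W ≤ n − c (the subspace π⁻¹(ι(W)) of C). Dimensions
are written additively: dim Q + c = n and dim π⁻¹(ι(W)) + c ≤ n, the empty space having dimension ⊥.
(Stated for each of the four kinds of regular immersion of codimension c — regular, Koszul-regular,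
H₁-regular, quasi-regular; the published statement does not distinguish kinds.) -/
theorem result (k : Type u) [Field k] (C X W : Scheme.{u})
    (q : X ⟶ Spec (CommRingCat.of k)) (π : C ⟶ X) (ι : W ⟶ X)
    [LocallyOfFiniteType q] [CompactSpace X] [LocallyOfFiniteType π] [CompactSpace C]
    (κ : RegImm.Kind) (n c : ℕ) (hι : RegImm.IsRegularImmersionOfCodim κ c ι)
    (hC : ∀ P ∈ irreducibleComponents (C : Type u), topologicalKrullDim P = n) :
    (∀ P ∈ irreducibleComponents (C : Type u), ∀ Q ∈ irreducibleComponents (P ∩ π ⁻¹' Set.range ι : Set C),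
        topologicalKrullDim Q + (c : WithBot ℕ∞) = n) ↔
      topologicalKrullDim (π ⁻¹' Set.range ι : Set C) + (c : WithBot ℕ∞) ≤ n := by
  classical
  obtain ⟨hιimm, hloc⟩ := hι
  letI : X.Over (Spec (CommRingCat.of k)) := ⟨q⟩
  letI : C.Over (Spec (CommRingCat.of k)) := ⟨π ≫ q⟩
  haveI : LocallyOfFiniteType (X ↘ Spec (CommRingCat.of k)) :=
    inferInstanceAs (LocallyOfFiniteType q)
  haveI : LocallyOfFiniteType (C ↘ Spec (CommRingCat.of k)) :=
    inferInstanceAs (LocallyOfFiniteType (π ≫ q))
  haveI : IsNoetherian X := isNoetherian_of_lft k q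
  haveI : NoetherianSpace W := ι.isEmbedding.isInducing.noetherianSpace
  haveI : QuasiCompact ι := inferInstance
  have hTlc : IsLocallyClosed (π ⁻¹' Set.range ι : Set C) :=
    ι.isLocallyClosed_range.preimage π.continuous
  rw [dim_add_le_iff k _ hTlc c n]
  constructor
  · intro h t ht
    have hP := irreducibleComponent_mem_irreducibleComponents t
    let t' : ↥(irreducibleComponent t ∩ π ⁻¹' Set.range ι : Set C) :=
      ⟨t, mem_irreducibleComponent, ht⟩
    have hQ := irreducibleComponent_mem_irreducibleComponents t'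
    have h1 := h _ hP _ hQ
    have hPc : IsClosed (irreducibleComponent t) := isClosed_of_mem_irreducibleComponents _ hP
    have hlc : IsLocallyClosed (irreducibleComponent t ∩ π ⁻¹' Set.range ι : Set C) :=
      hPc.isLocallyClosed.inter hTlc
    have hQc : IsClosed (irreducibleComponent t') := isClosed_of_mem_irreducibleComponents _ hQ
    have h2 := trdegNat_le_topologicalKrullDim_of_isLocallyClosed k C _
      (isLocallyClosed_image_val _ hlc _ hQc) t ⟨t', mem_irreducibleComponent, rfl⟩
    rw [dim_image_val] at h2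
    have h3 : ((trdegNat k C t : ℕ) : WithBot ℕ∞) + (c : WithBot ℕ∞) ≤ (n : WithBot ℕ∞) :=
      (add_le_add h2 le_rfl).trans h1.le
    exact_mod_cast h3
  · intro h P hP Q hQ
    have hPc : IsClosed P := isClosed_of_mem_irreducibleComponents _ hP
    have hlc : IsLocallyClosed (P ∩ π ⁻¹' Set.range ι : Set C) := hPc.isLocallyClosed.inter hTlc
    have hQc : IsClosed Q := isClosed_of_mem_irreducibleComponents _ hQ
    have hQlc := isLocallyClosed_image_val _ hlc Q hQc
    rw [← dim_image_val (P ∩ π ⁻¹' Set.range ι : Set C) Q]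
    apply le_antisymm
    · rw [dim_add_le_iff k _ hQlc c n]
      rintro _ ⟨y, -, rfl⟩
      exact h y.1 y.2.2
    · haveI : QuasiSober ↥(P ∩ π ⁻¹' Set.range ι : Set C) := quasiSober_of_isLocallyClosed _ hlc
      obtain ⟨ξ', hξ'⟩ := QuasiSober.sober hQ.1 hQc
      obtain ⟨η, hη⟩ := QuasiSober.sober hP.1 hPc
      have hηn : trdegNat k C η = n := by
        have := topologicalKrullDim_eq_trdegNat_of_isGenericPoint k P η hη
        rw [hC P hP] at this
        exact_mod_cast this.symm
      have hξP : ξ'.1 ∈ P := ξ'.2.1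
      obtain ⟨w, hw⟩ : π ξ'.1 ∈ Set.range ι := ξ'.2.2
      obtain ⟨UX, hwU, hcl, rs, hlen, -, hker⟩ := hloc w
      have hπξ : π ξ'.1 ∈ UX.1 := hw ▸ hwU
      obtain ⟨U, hU, hξU, hUle⟩ :=
        exists_isAffineOpen_mem_and_subset (U := π ⁻¹ᵁ UX.1) (x := ξ'.1) hπξ
      have hUle' : U ≤ π ⁻¹ᵁ UX.1 := hUle
      have hηξ : η ⤳ ξ'.1 := hη.specializes hξP
      have hηU : η ∈ U := hηξ.mem_open U.isOpen hξU
      have hvan : ∀ y ∈ U, (∀ a ∈ rs.map (π.appLE UX.1 U hUle').hom, y ∉ C.basicOpen a) ↔
          π y ∈ Set.range ι := by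
        intro y hy
        rw [mem_range_iff_forall_notMem_basicOpen ι UX hcl rs hker (π y) (hUle hy)]
        simp only [List.mem_map, forall_exists_index, and_imp, forall_apply_eq_imp_iff₂]
        refine forall₂_congr fun r hr => ?_
        rw [Scheme.basicOpen_appLE]
        constructor
        · intro h1 h2
          exact h1 ⟨hy, h2⟩
        · intro h1 h2
          exact h1 h2.2
      obtain ⟨y, hyU, hηy, hyξ, hyv, hyd⟩ := exists_specialization_vanishing k C hU
        (rs.map (π.appLE UX.1 U hUle').hom) η ξ'.1 hηU hξU hηξ ((hvan ξ'.1 hξU).mpr ξ'.2.2)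
      have hyT : y ∈ π ⁻¹' Set.range ι := (hvan y hyU).mp hyv
      have hyP : y ∈ P := by
        rw [← hη.def]
        exact specializes_iff_mem_closure.mp hηy
      let y' : ↥(P ∩ π ⁻¹' Set.range ι : Set C) := ⟨y, hyP, hyT⟩
      have hy'ξ' : y' ⤳ ξ' := (subtype_specializes_iff y' ξ').mpr hyξ
      have hy'Q : y' ∈ Q := by
        have hirr : IsIrreducible (closure ({y'} : Set ↥(P ∩ π ⁻¹' Set.range ι : Set C))) :=
          isIrreducible_singleton.closure
        have hle : Q ≤ closure {y'} := by
          rw [← hξ'.def]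
          exact closure_minimal
            (Set.singleton_subset_iff.mpr (specializes_iff_mem_closure.mp hy'ξ')) isClosed_closure
        exact hQ.2 hirr hle (subset_closure rfl)
      have h5 := trdegNat_le_topologicalKrullDim_of_isLocallyClosed k C _ hQlc y ⟨y', hy'Q, rfl⟩
      rw [List.length_map, hlen, hηn] at hyd
      have h6 : (n : WithBot ℕ∞) ≤ ((trdegNat k C y : ℕ) : WithBot ℕ∞) + (c : WithBot ℕ∞) := by
        exact_mod_cast hyd
      exact h6.trans (add_le_add h5 le_rfl)

end Groth.Agent.S14481
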