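import Groth.Statements.S14482
import Groth.Agent.Lib.Seat66CharCycFib

set_option autoImplicit false
universe u
open CategoryTheory AlgebraicGeometry
open CharCyc

open Groth.Agent.Lib.Helper4.VarDim Groth.Agent.Lib.Seat66.CharCycTop Groth.Agent.Lib.Seat66.CharCycBase Groth.Agent.Lib.Seat66.CharCycFib
open Topology

set_option linter.style.haveILetI false

namespace Groth.Agent.S14482

/-- Second assertion: let k be a field, let π : C → X be a morphism between k-schemes of finite type
such that every irreducible component of C has dimension n, let ι : W → X be a regular immersion of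
codimension c, and for j ≥ 0 let B_j ⊆ X be the set of points whose fibre under π has dimension at
least j. Assume that every B_j is closed in X. Then dim B_j + j ≤ n for every j, and the condition
dim π⁻¹(ι(W)) + c ≤ n (that is, dim C ×_X W ≤ n − c) holds if and only if dim ι⁻¹(B_j) + c + j ≤ n
for every j (that is, ι meets the sequence (B_j) n-semi-properly). Dimensions are topological Krull
dimensions of subspaces, the empty space having dimension ⊥. (Stated for each of the four kinds of
regular immersion of codimension c — regular, Koszul-regular, H₁-regular, quasi-regular; the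
published statement does not distinguish kinds.) -/
theorem result (k : Type u) [Field k] (C X W : Scheme.{u})
    (q : X ⟶ Spec (CommRingCat.of k)) (π : C ⟶ X) (ι : W ⟶ X)
    [LocallyOfFiniteType q] [CompactSpace X] [LocallyOfFiniteType π] [CompactSpace C]
    (κ : RegImm.Kind) (n c : ℕ) (hι : RegImm.IsRegularImmersionOfCodim κ c ι)
    (hC : ∀ P ∈ irreducibleComponents (C : Type u), topologicalKrullDim P = n)
    (hB : ∀ j : ℕ, IsClosed {x : X | (j : WithBot ℕ∞) ≤ topologicalKrullDim (π.fiber x)}) :
    (∀ j : ℕ, topologicalKrullDim {x : X | (j : WithBot ℕ∞) ≤ topologicalKrullDim (π.fiber x)} + (j : WithBot ℕ∞) ≤ n) ∧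
      (topologicalKrullDim (π ⁻¹' Set.range ι : Set C) + (c : WithBot ℕ∞) ≤ n ↔
        ∀ j : ℕ, topologicalKrullDim (ι ⁻¹' {x : X | (j : WithBot ℕ∞) ≤ topologicalKrullDim (π.fiber x)} : Set W) + (c : WithBot ℕ∞) + (j : WithBot ℕ∞) ≤ n) := by
  classical
  obtain ⟨hιimm, -⟩ := hι
  letI : X.Over (Spec (CommRingCat.of k)) := ⟨q⟩
  letI : C.Over (Spec (CommRingCat.of k)) := ⟨π ≫ q⟩
  letI : W.Over (Spec (CommRingCat.of k)) := ⟨ι ≫ q⟩
  haveI : LocallyOfFiniteType (X ↘ Spec (CommRingCat.of k)) :=
    inferInstanceAs (LocallyOfFiniteType q)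
  haveI : LocallyOfFiniteType (C ↘ Spec (CommRingCat.of k)) :=
    inferInstanceAs (LocallyOfFiniteType (π ≫ q))
  haveI : LocallyOfFiniteType (W ↘ Spec (CommRingCat.of k)) :=
    inferInstanceAs (LocallyOfFiniteType (ι ≫ q))
  have hπ : π ≫ (X ↘ Spec (CommRingCat.of k)) = (C ↘ Spec (CommRingCat.of k)) := rfl
  have hιk : ι ≫ (X ↘ Spec (CommRingCat.of k)) = (W ↘ Spec (CommRingCat.of k)) := rfl
  have hCn : ∀ p : C, trdegNat k C p ≤ n := trdegNat_le_of_forall_irreducibleComponents k n hC
  refine ⟨fun j => ?_, ?_⟩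
  · rw [dim_add_le_iff k _ (hB j).isLocallyClosed]
    intro x hx
    obtain ⟨p, -, hp⟩ := exists_point_of_le_fiber_dim k π hπ x j hx
    exact hp.trans (hCn p)
  · have hlc : IsLocallyClosed (π ⁻¹' Set.range ι : Set C) :=
      ι.isLocallyClosed_range.preimage π.continuous
    rw [dim_add_le_iff k _ hlc]
    have hlc' : ∀ j : ℕ, IsLocallyClosed
        (ι ⁻¹' {x : X | (j : WithBot ℕ∞) ≤ topologicalKrullDim (π.fiber x)} : Set W) :=
      fun j => ((hB j).preimage ι.continuous).isLocallyClosed
    have hrw : ∀ j : ℕ, (topologicalKrullDim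
        (ι ⁻¹' {x : X | (j : WithBot ℕ∞) ≤ topologicalKrullDim (π.fiber x)} : Set W) +
          (c : WithBot ℕ∞) + (j : WithBot ℕ∞) ≤ n) ↔
        ∀ w ∈ (ι ⁻¹' {x : X | (j : WithBot ℕ∞) ≤ topologicalKrullDim (π.fiber x)} : Set W),
          trdegNat k W w + (c + j) ≤ n := by
      intro j
      rw [← dim_add_le_iff k _ (hlc' j), add_assoc]
      push_cast
      rfl
    simp only [hrw]
    constructor
    · intro h j w hw
      obtain ⟨p, hp1, hp2⟩ := exists_point_of_le_fiber_dim k π hπ (ι w) j hw
      have h1 := h p ⟨w, hp1.symm⟩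
      have h2 := trdegNat_eq_of_isPreimmersion k ι hιk w
      omega
    · rintro h p ⟨w, hw⟩
      obtain ⟨j, hj1, hj2⟩ := exists_le_fiber_dim k π hπ p
      have h1 := h j w (by
        change (j : WithBot ℕ∞) ≤ topologicalKrullDim (π.fiber (ι w))
        rw [hw]
        exact hj1)
      have h2 := trdegNat_eq_of_isPreimmersion k ι hιk w
      rw [hw] at h2
      omega

end Groth.Agent.S14482
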