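import Groth.Statements.S14483
import Groth.Agent.Lib.Seat66CharCycBase
import Groth.Agent.Lib.Seat66CharCycInsep

set_option autoImplicit false
universe u
open CategoryTheory CategoryTheory.Limits AlgebraicGeometry
open CharCyc

open Groth.Agent.Lib.Helper4.VarDim Groth.Agent.Lib.Seat66.CharCycTop Groth.Agent.Lib.Seat66.CharCycBase Groth.Agent.Lib.Seat66.CharCycInsep
open Topology

set_option linter.style.haveILetI false

namespace Groth.Agent.S14483

/-- Let k be a field and let f : X → S be a morphism between separated k-schemes of finite type. Two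
closed subsets Y, Z of X are said to well intersect with respect to f when dim(Y ×_S Z ∖ Y ×_X Z) ≤
dim Y + dim Z − dim S; here Y ×_S Z ∖ Y ×_X Z is taken as the subspace of X ×_S X of points whose
two projections lie in Y and in Z and which are not in the image of the diagonal, and the inequality
is written additively as dim(Y ×_S Z ∖ Y ×_X Z) + dim S ≤ dim Y + dim Z (topological Krull
dimensions, the empty space having dimension ⊥). Let Y ⊆ X be closed and irreducible with dim Y <
dim S, and suppose that the pair Y, Y well intersects with respect to f. Then Y → S is generically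
radicial onto its image: there is an open subset V of X meeting Y such that f is injective on V ∩ Y
and, at every point of V ∩ Y, the residue field extension induced by f is purely inseparable. -/
theorem result (k : Type u) [Field k] (X S : Scheme.{u})
    (q : S ⟶ Spec (CommRingCat.of k)) (f : X ⟶ S)
    [LocallyOfFiniteType q] [CompactSpace S] [IsSeparated q] [LocallyOfFiniteType f] [CompactSpace X] [IsSeparated f]
    (Y : Set X) (hYc : IsClosed Y) (hYi : IsIrreducible Y)
    (hWI : topologicalKrullDim {p : ↥(pullback f f) | pullback.fst f f p ∈ Y ∧ pullback.snd f f p ∈ Y ∧ p ∉ Set.range (pullback.diagonal f)} + topologicalKrullDim S ≤ topologicalKrullDim Y + topologicalKrullDim Y)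
    (hYS : topologicalKrullDim Y < topologicalKrullDim S) :
    ∃ V : Set X, IsOpen V ∧ (V ∩ Y).Nonempty ∧ Set.InjOn f.base (V ∩ Y) ∧
      ∀ x ∈ V ∩ Y, (f.residueFieldMap x).hom.IsPurelyInseparable := by
  classical
  letI : S.Over (Spec (CommRingCat.of k)) := ⟨q⟩
  letI : X.Over (Spec (CommRingCat.of k)) := ⟨f ≫ q⟩
  letI : (pullback f f).Over (Spec (CommRingCat.of k)) := ⟨pullback.fst f f ≫ f ≫ q⟩
  haveI : LocallyOfFiniteType (X ↘ Spec (CommRingCat.of k)) :=
    inferInstanceAs (LocallyOfFiniteType (f ≫ q))
  haveI : LocallyOfFiniteType ((pullback f f) ↘ Spec (CommRingCat.of k)) :=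
    inferInstanceAs (LocallyOfFiniteType (pullback.fst f f ≫ f ≫ q))
  haveI : IsNoetherian S := isNoetherian_of_lft k q
  haveI : IsNoetherian X := isNoetherian_of_lft k (f ≫ q)
  haveI : CompactSpace ↥(pullback f f) :=
    QuasiCompact.compactSpace_of_compactSpace (pullback.fst f f)
  haveI : IsNoetherian (pullback f f) := isNoetherian_of_lft k (pullback.fst f f ≫ f ≫ q)
  set W : Set ↥(pullback f f) := {p : ↥(pullback f f) | pullback.fst f f p ∈ Y ∧
    pullback.snd f f p ∈ Y ∧ p ∉ Set.range (pullback.diagonal f)} with hW
  have hWlc : IsLocallyClosed W := isLocallyClosed_offDiag f Y Y hYc hYc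
  obtain ⟨η, hη⟩ := QuasiSober.sober hYi hYc
  have hdimY := topologicalKrullDim_eq_trdegNat_of_isGenericPoint k Y η hη
  -- points of `W` have small transcendence degree
  have hsmall : ∀ p ∈ W, trdegNat k (pullback f f) p < trdegNat k X η := by
    intro p hp
    by_contra hcon
    push Not at hcon
    have h1 := trdegNat_le_topologicalKrullDim_of_isLocallyClosed k (pullback f f) W hWlc p hp
    have h4 : ((trdegNat k X η : ℕ) : WithBot ℕ∞) ≤ topologicalKrullDim W := by
      refine le_trans ?_ h1
      exact_mod_cast hcon
    have h5 : ((trdegNat k X η : ℕ) : WithBot ℕ∞) + topologicalKrullDim S ≤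
        ((trdegNat k X η : ℕ) : WithBot ℕ∞) + topologicalKrullDim Y := by
      rw [← hdimY]
      refine le_trans ?_ hWI
      rw [hdimY]
      exact add_le_add_left h4 _
    exact absurd (add_nat_le_cancel _ h5) (not_le.mpr hYS)
  have hC : IsConstructible ((pullback.fst f f).base '' W) :=
    (pullback.fst f f).isConstructible_image (isConstructible_of_isLocallyClosed hWlc)
  have hsubY : (pullback.fst f f).base '' W ⊆ Y := by
    rintro _ ⟨p, hp, rfl⟩
    exact hp.1
  have hηV : η ∉ closure ((pullback.fst f f).base '' W) := by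
    intro hcl
    have h1 : η ∈ (pullback.fst f f).base '' W := by
      apply mem_of_isConstructible_of_mem_closure hC
      refine closure_mono ?_ hcl
      intro y hy
      refine ⟨hy, ?_⟩
      rw [hη.def]
      exact hsubY hy
    obtain ⟨p, hp, hpη⟩ := h1
    have h2 : trdegNat k X (pullback.fst f f p) ≤ trdegNat k (pullback f f) p :=
      trdegNat_le_of_hom k (pullback.fst f f) rfl p
    have h3 := hsmall p hp
    have h4 : pullback.fst f f p = η := hpη
    rw [h4] at h2
    omega
  have hkey : ∀ x : X, x ∉ closure ((pullback.fst f f).base '' W) → x ∈ Y →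
      ∀ z : ↥(pullback f f), pullback.fst f f z = x → pullback.snd f f z ∈ Y →
        z ∈ Set.range (pullback.diagonal f) := by
    intro x hx hxY z hz1 hz2
    by_contra hcon
    apply hx
    apply subset_closure
    exact ⟨z, ⟨by rw [hz1]; exact hxY, hz2, hcon⟩, hz1⟩
  refine ⟨(closure ((pullback.fst f f).base '' W))ᶜ, isClosed_closure.isOpen_compl,
    ⟨η, hηV, hη.mem⟩, ?_, ?_⟩
  · rintro x ⟨hxV, hxY⟩ x' ⟨hx'V, hx'Y⟩ hxx'
    by_contra hne
    obtain ⟨p, hp1, hp2⟩ :=
      Scheme.Pullback.exists_preimage_pullback (f := f) (g := f) x x' hxx'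
    have := hkey x hxV hxY p hp1 (by rw [hp2]; exact hx'Y)
    exact notMem_range_diagonal f p (by rw [hp1, hp2]; exact hne) this
  · rintro x ⟨hxV, hxY⟩
    apply isPurelyInseparable_residueFieldMap_of_forall_mem_range_diagonal
    intro z hz1 hz2
    exact hkey x hxV hxY z hz1 (by rw [hz2]; exact hxY)

end Groth.Agent.S14483
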