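import Groth.Statements.S14484
import Groth.Agent.Lib.Seat66CharCycBase

set_option autoImplicit false
universe u
open CategoryTheory CategoryTheory.Limits AlgebraicGeometry
open CharCyc

open Groth.Agent.Lib.Helper4.VarDim Groth.Agent.Lib.Seat66.CharCycTop Groth.Agent.Lib.Seat66.CharCycBase
open Topology

set_option linter.style.haveILetI false

namespace Groth.Agent.S14484

/-- Let k be a field and let f : X → S be a morphism between separated k-schemes of finite type. Two
closed subsets Y, Z of X are said to well intersect with respect to f when dim(Y ×_S Z ∖ Y ×_X Z) ≤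
dim Y + dim Z − dim S; here Y ×_S Z ∖ Y ×_X Z is taken as the subspace of X ×_S X of points whose
two projections lie in Y and in Z and which are not in the image of the diagonal, and the inequality
is written additively as dim(Y ×_S Z ∖ Y ×_X Z) + dim S ≤ dim Y + dim Z (topological Krull
dimensions, the empty space having dimension ⊥). Let Y, Z ⊆ X be closed irreducible subsets that
well intersect with respect to f, with dim Y < dim S and dim Z < dim S, and assume Y ⊄ Z. Then f(Y)
is not contained in the closure of f(Y) ∩ f(Z); in particular f(Y) ⊄ f(Z). -/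
theorem result (k : Type u) [Field k] (X S : Scheme.{u})
    (q : S ⟶ Spec (CommRingCat.of k)) (f : X ⟶ S)
    [LocallyOfFiniteType q] [CompactSpace S] [IsSeparated q] [LocallyOfFiniteType f] [CompactSpace X] [IsSeparated f]
    (Y Z : Set X) (hYc : IsClosed Y) (hYi : IsIrreducible Y) (hZc : IsClosed Z) (hZi : IsIrreducible Z)
    (hWI : topologicalKrullDim {p : ↥(pullback f f) | pullback.fst f f p ∈ Y ∧ pullback.snd f f p ∈ Z ∧ p ∉ Set.range (pullback.diagonal f)} + topologicalKrullDim S ≤ topologicalKrullDim Y + topologicalKrullDim Z)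
    (hYS : topologicalKrullDim Y < topologicalKrullDim S) (hZS : topologicalKrullDim Z < topologicalKrullDim S)
    (hYZ : ¬ Y ⊆ Z) :
    ¬ (f.base '' Y ⊆ closure (f.base '' Y ∩ f.base '' Z)) ∧ ¬ (f.base '' Y ⊆ f.base '' Z) := by
  classical
  letI : S.Over (Spec (CommRingCat.of k)) := ⟨q⟩
  letI : X.Over (Spec (CommRingCat.of k)) := ⟨f ≫ q⟩
  letI : (pullback f f).Over (Spec (CommRingCat.of k)) := ⟨pullback.fst f f ≫ f ≫ q⟩
  haveI : LocallyOfFiniteType (X ↘ Spec (CommRingCat.of k)) :=
    inferInstanceAs (LocallyOfFiniteType (f ≫ q))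
  haveI : LocallyOfFiniteType ((pullback f f) ↘ Spec (CommRingCat.of k)) :=
    inferInstanceAs (LocallyOfFiniteType (pullback.fst f f ≫ f ≫ q))
  haveI : IsNoetherian S := isNoetherian_of_lft k q
  haveI : IsNoetherian X := isNoetherian_of_lft k (f ≫ q)
  have key : ¬ (f.base '' Y ⊆ closure (f.base '' Y ∩ f.base '' Z)) := by
    intro hsub
    obtain ⟨η, hη⟩ := QuasiSober.sober hYi hYc
    have hC : IsConstructible (f.base '' Z) :=
      f.isConstructible_image (isConstructible_of_isClosed hZc)
    have hs : f.base η ∈ f.base '' Z := by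
      apply mem_of_isConstructible_of_mem_closure hC
      have h1 : f.base η ∈ closure (f.base '' Y ∩ f.base '' Z) := hsub ⟨η, hη.mem, rfl⟩
      refine closure_mono ?_ h1
      rintro _ ⟨⟨y, hy, rfl⟩, hz⟩
      refine ⟨hz, ?_⟩
      exact specializes_iff_mem_closure.mp ((hη.specializes hy).map f.continuous)
    obtain ⟨z, hzZ, hz⟩ := hs
    have hne : η ≠ z := by
      rintro rfl
      apply hYZ
      rw [← hη.def]
      exact closure_minimal (Set.singleton_subset_iff.mpr hzZ) hZc
    obtain ⟨p, hp1, hp2⟩ :=
      Scheme.Pullback.exists_preimage_pullback (f := f) (g := f) η z hz.symm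
    have hpW : p ∈ {p : ↥(pullback f f) | pullback.fst f f p ∈ Y ∧ pullback.snd f f p ∈ Z ∧
        p ∉ Set.range (pullback.diagonal f)} := by
      refine ⟨?_, ?_, ?_⟩
      · rw [hp1]; exact hη.mem
      · rw [hp2]; exact hzZ
      · apply notMem_range_diagonal
        rw [hp1, hp2]
        exact hne
    have h1 := trdegNat_le_topologicalKrullDim_of_isLocallyClosed k (pullback f f) _
      (isLocallyClosed_offDiag f Y Z hYc hZc) p hpW
    have h2 : trdegNat k X (pullback.fst f f p) ≤ trdegNat k (pullback f f) p :=
      trdegNat_le_of_hom k (pullback.fst f f) rfl p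
    rw [hp1] at h2
    have h3 := topologicalKrullDim_eq_trdegNat_of_isGenericPoint k Y η hη
    have h4 : ((trdegNat k X η : ℕ) : WithBot ℕ∞) ≤
        topologicalKrullDim {p : ↥(pullback f f) | pullback.fst f f p ∈ Y ∧
          pullback.snd f f p ∈ Z ∧ p ∉ Set.range (pullback.diagonal f)} := by
      refine le_trans ?_ h1
      exact_mod_cast h2
    have h5 : ((trdegNat k X η : ℕ) : WithBot ℕ∞) + topologicalKrullDim S ≤
        ((trdegNat k X η : ℕ) : WithBot ℕ∞) + topologicalKrullDim Z := by
      rw [← h3]
      refine le_trans ?_ hWI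
      rw [h3]
      exact add_le_add_left h4 _
    exact absurd (add_nat_le_cancel _ h5) (not_le.mpr hZS)
  refine ⟨key, fun h => key ?_⟩
  intro s hs
  exact subset_closure ⟨hs, h hs⟩

end Groth.Agent.S14484
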