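import Groth.Statements.S14485
import Groth.Agent.Lib.Seat66CharCycBC

set_option autoImplicit false
universe u
open CategoryTheory CategoryTheory.Limits AlgebraicGeometry
open CharCyc

open Groth.Agent.Lib.Helper4.VarDim Groth.Agent.Lib.Seat66.CharCycTop Groth.Agent.Lib.Seat66.CharCycBase Groth.Agent.Lib.Seat66.CharCycFib Groth.Agent.Lib.Seat66.CharCycDiag Groth.Agent.Lib.Seat66.CharCycBC
open Topology

set_option linter.style.haveILetI false

namespace Groth.Agent.S14485

/-- Let k be a field and let f : X → S be a morphism between separated k-schemes of finite type. Two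
closed subsets Y, Z of X are said to well intersect with respect to f when dim(Y ×_S Z ∖ Y ×_X Z) ≤
dim Y + dim Z − dim S; here Y ×_S Z ∖ Y ×_X Z is taken as the subspace of X ×_S X of points whose
two projections lie in Y and in Z and which are not in the image of the diagonal, and the inequality
is written additively as dim(Y ×_S Z ∖ Y ×_X Z) + dim S ≤ dim Y + dim Z (topological Krull
dimensions, the empty space having dimension ⊥). Let Y, Z ⊆ X be closed subsets, and let g : S' → S
be faithfully flat with every fibre of dimension d (relative constant dimension d), where S' is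
again a separated k-scheme of finite type. Write f' : X' = X ×_S S' → S' for the base change and Y',
Z' ⊆ X' for the preimages of Y, Z. Then well-intersection of Y, Z with respect to f is equivalent to
well-intersection of Y', Z' with respect to f'. -/
theorem result (k : Type u) [Field k] (X S S' : Scheme.{u})
    (q : S ⟶ Spec (CommRingCat.of k)) (f : X ⟶ S) (g : S' ⟶ S)
    [LocallyOfFiniteType q] [CompactSpace S] [IsSeparated q] [LocallyOfFiniteType f] [CompactSpace X] [IsSeparated f]
    [LocallyOfFiniteType g] [CompactSpace S'] [IsSeparated g] [Flat g] [Surjective g]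
    (d : ℕ) (hd : ∀ s : S, topologicalKrullDim (g.fiber s) = d)
    (Y Z : Set X) (hYc : IsClosed Y) (hZc : IsClosed Z) :
    (topologicalKrullDim {p : ↥(pullback f f) | pullback.fst f f p ∈ Y ∧ pullback.snd f f p ∈ Z ∧ p ∉ Set.range (pullback.diagonal f)} + topologicalKrullDim S ≤ topologicalKrullDim Y + topologicalKrullDim Z) ↔
      (topologicalKrullDim {p : ↥(pullback (pullback.snd f g) (pullback.snd f g)) | pullback.fst (pullback.snd f g) (pullback.snd f g) p ∈ ((pullback.fst f g) ⁻¹' Y) ∧ pullback.snd (pullback.snd f g) (pullback.snd f g) p ∈ ((pullback.fst f g) ⁻¹' Z) ∧ p ∉ Set.range (pullback.diagonal (pullback.snd f g))} + topologicalKrullDim S' ≤ topologicalKrullDim ((pullback.fst f g) ⁻¹' Y) + topologicalKrullDim ((pullback.fst f g) ⁻¹' Z)) := by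
  classical
  letI : S.Over (Spec (CommRingCat.of k)) := ⟨q⟩
  letI : S'.Over (Spec (CommRingCat.of k)) := ⟨g ≫ q⟩
  letI : X.Over (Spec (CommRingCat.of k)) := ⟨f ≫ q⟩
  letI : (pullback f g).Over (Spec (CommRingCat.of k)) := ⟨pullback.fst f g ≫ f ≫ q⟩
  letI : (pullback f f).Over (Spec (CommRingCat.of k)) := ⟨pullback.fst f f ≫ f ≫ q⟩
  letI : (pullback (pullback.snd f g) (pullback.snd f g)).Over (Spec (CommRingCat.of k)) :=
    ⟨bcMap f g ≫ pullback.fst f f ≫ f ≫ q⟩
  haveI : LocallyOfFiniteType (bcMap f g) :=
    MorphismProperty.of_isPullback (P := @LocallyOfFiniteType) (isPullback_bcMap f g).flip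
      inferInstance
  haveI : LocallyOfFiniteType (S ↘ Spec (CommRingCat.of k)) :=
    inferInstanceAs (LocallyOfFiniteType q)
  haveI : LocallyOfFiniteType (S' ↘ Spec (CommRingCat.of k)) :=
    inferInstanceAs (LocallyOfFiniteType (g ≫ q))
  haveI : LocallyOfFiniteType (X ↘ Spec (CommRingCat.of k)) :=
    inferInstanceAs (LocallyOfFiniteType (f ≫ q))
  haveI : LocallyOfFiniteType ((pullback f g) ↘ Spec (CommRingCat.of k)) :=
    inferInstanceAs (LocallyOfFiniteType (pullback.fst f g ≫ f ≫ q))
  haveI : LocallyOfFiniteType ((pullback f f) ↘ Spec (CommRingCat.of k)) :=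
    inferInstanceAs (LocallyOfFiniteType (pullback.fst f f ≫ f ≫ q))
  haveI : LocallyOfFiniteType
      ((pullback (pullback.snd f g) (pullback.snd f g)) ↘ Spec (CommRingCat.of k)) :=
    inferInstanceAs (LocallyOfFiniteType (bcMap f g ≫ pullback.fst f f ≫ f ≫ q))
  haveI : IsNoetherian S := isNoetherian_of_lft k q
  haveI : IsNoetherian X := isNoetherian_of_lft k (f ≫ q)
  haveI : CompactSpace ↥(pullback f f) :=
    QuasiCompact.compactSpace_of_compactSpace (pullback.fst f f)
  have hd1 : ∀ x : X, topologicalKrullDim ((pullback.fst f g).fiber x) = d := fun x =>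
    (dim_fiber_eq_of_isPullback (IsPullback.of_hasPullback f g).flip x).trans (hd (f x))
  have hd2 : ∀ p : ↥(pullback f f), topologicalKrullDim ((bcMap f g).fiber p) = d := fun p =>
    (dim_fiber_eq_of_isPullback (isPullback_bcMap f g).flip p).trans (hd _)
  have hS' : topologicalKrullDim S' = topologicalKrullDim S + (d : WithBot ℕ∞) :=
    dim_eq_add k g rfl d hd
  have hY' := dim_preimage_eq_add k (pullback.fst f g) rfl d hd1 Y hYc.isLocallyClosed
  have hZ' := dim_preimage_eq_add k (pullback.fst f g) rfl d hd1 Z hZc.isLocallyClosed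
  have hW' := dim_preimage_eq_add k (bcMap f g) rfl d hd2 _ (isLocallyClosed_offDiag f Y Z hYc hZc)
  have hset : {p : ↥(pullback (pullback.snd f g) (pullback.snd f g)) |
      pullback.fst (pullback.snd f g) (pullback.snd f g) p ∈ ((pullback.fst f g) ⁻¹' Y) ∧
      pullback.snd (pullback.snd f g) (pullback.snd f g) p ∈ ((pullback.fst f g) ⁻¹' Z) ∧
      p ∉ Set.range (pullback.diagonal (pullback.snd f g))} =
      (bcMap f g) ⁻¹' {p : ↥(pullback f f) | pullback.fst f f p ∈ Y ∧ pullback.snd f f p ∈ Z ∧
        p ∉ Set.range (pullback.diagonal f)} := by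
    ext p
    simp only [Set.mem_ofPred_eq, Set.mem_preimage]
    rw [bcMap_fst_apply, bcMap_snd_apply, mem_range_diagonal_bcMap_iff]
  rw [hset, hW', hS', hY', hZ']
  exact (add_add_le_iff _ _ _ _ d).symm

end Groth.Agent.S14485
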