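import Groth.Statements.S14496
import Groth.Agent.Lib.Seat66IndCofG

set_option autoImplicit false
universe v
open IndCof

namespace Groth.Agent.S14496

open CategoryTheory CategoryTheory.Limits in
/-- Let C be a small abelian category all of whose objects are Artinian and killed by some power of a
prime p, and A an ind-object of C of cofinite type. Let N be such that p^n A = p^N A for all n ≥ N,
so that the divisible part A_div = ⋂ p^n A equals p^N A. Then A_div is of cofinite type and
divisible (multiplication by p on it is an epimorphism; integers prime to p act invertibly on every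
ind-object here, so this is divisibility by all positive integers); it is the largest divisible
sub-object of A; and A / A_div is the largest quotient of A lying in C: every epimorphism from A
onto an object isomorphic to an object of C vanishes on A_div. (The row takes the stabilization
index N as a hypothesis instead of forming the intersection; that A / A_div itself lies in C is the
statement about A / p^N A and is not repeated here.) -/
theorem result {C : Type v} [SmallCategory C] [Abelian C]
    (hart : ∀ X : C, IsArtinianObject X) (p : ℕ) (hp : p.Prime)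
    (htor : ∀ X : C, ∃ n : ℕ, (p ^ n) • 𝟙 X = 0)
    (A : Ind C) (hA : ∀ n : ℕ, (Ind.yoneda (C := C)).essImage (kernel ((p ^ n) • 𝟙 A))) (N : ℕ)
    (hN : ∀ n : ℕ, N ≤ n → imageSubobject ((p ^ n) • 𝟙 A) = imageSubobject ((p ^ N) • 𝟙 A)) :
    (∀ n : ℕ, (Ind.yoneda (C := C)).essImage
        (kernel ((p ^ n) • 𝟙 ((imageSubobject ((p ^ N) • 𝟙 A) : Subobject A) : Ind C)))) ∧
      Epi (p • 𝟙 ((imageSubobject ((p ^ N) • 𝟙 A) : Subobject A) : Ind C)) ∧
      (∀ D : Subobject A, Epi (p • 𝟙 (D : Ind C)) → D ≤ imageSubobject ((p ^ N) • 𝟙 A)) ∧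
      (∀ (Q : Ind C) (q : A ⟶ Q), Epi q → (Ind.yoneda (C := C)).essImage Q →
        (imageSubobject ((p ^ N) • 𝟙 A)).arrow ≫ q = 0) := by
  have htorg := Groth.Agent.Lib.Seat66.IndCofP.htor_general p hp htor
  have hAg := Groth.Agent.Lib.Seat66.IndCofP.essImage_kernel_nsmul p hp htor A hA
  refine ⟨?_, ?_, ?_, ?_⟩
  · intro n
    exact Groth.Agent.Lib.Seat66.IndCofG.essImage_kernel_nsmul_imageSubobject hart htorg
      ((p ^ N) • 𝟙 A) hAg hAg (p ^ n) (pow_pos hp.pos n)
  · apply Groth.Agent.Lib.Seat66.IndCofG.epi_nsmul_imageSubobject (p ^ N) p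
    rw [← pow_succ]
    exact hN (N + 1) (Nat.le_succ N)
  · intro D hD
    exact Groth.Agent.Lib.Seat66.IndCofG.le_imageSubobject_nsmul_of_epi D (p ^ N)
      (Groth.Agent.Lib.Seat66.IndCofG.epi_pow_nsmul_id p _ hD N)
  · intro Q q _ hQ
    obtain ⟨X, ⟨e⟩⟩ := hQ
    obtain ⟨k, hk⟩ := htor X
    have hQk : (p ^ (N + k)) • 𝟙 Q = 0 := by
      have h1 : (p ^ k) • 𝟙 Q = 0 := by
        have h2 : (p ^ k) • 𝟙 (Ind.yoneda.obj X) = 0 :=
          Groth.Agent.Lib.Seat66.IndCofB.nsmul_eq_zero_of_yoneda hk (𝟙 _)
        have h3 : 𝟙 Q = e.inv ≫ 𝟙 (Ind.yoneda.obj X) ≫ e.hom := by simp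
        rw [h3, ← Preadditive.comp_nsmul, ← Preadditive.nsmul_comp, h2, zero_comp, comp_zero]
      rw [pow_add, mul_comm, mul_nsmul, h1, smul_zero]
    exact Groth.Agent.Lib.Seat66.IndCofG.arrow_comp_eq_zero_of_eq q (hN (N + k) (Nat.le_add_right N k))
      (Groth.Agent.Lib.Seat66.IndCofG.imageSubobject_nsmul_arrow_comp_eq_zero q _ hQk)

end Groth.Agent.S14496
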