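import Groth.Statements.S14497
import Groth.Agent.Lib.Seat66AbSub

set_option autoImplicit false
universe v u
open IndCof

namespace Groth.Agent.S14497

open CategoryTheory CategoryTheory.Limits Groth.Agent.Lib.Seat66.AbSub in
/-- If `B'` is a divisible subobject of `B` and `N > 0` kills `B / B'` then `N B = B'`. -/
theorem image_nsmul_eq {V : Type u} [Category.{v} V] [Abelian V] (B : V) (B' : Subobject B)
    (hdiv : ∀ k : ℕ, 0 < k → Epi (k • 𝟙 (B' : V))) (N : ℕ) (hN : 0 < N)
    (hNQ : N • 𝟙 (cokernel B'.arrow) = 0) :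
    imageSubobject (N • 𝟙 B) = B' := by
  apply le_antisymm
  · have h0 : (N • 𝟙 B) ≫ cokernel.π B'.arrow = 0 := by
      have : (N • 𝟙 B) ≫ cokernel.π B'.arrow = cokernel.π B'.arrow ≫ (N • 𝟙 (cokernel B'.arrow)) := by
        rw [Preadditive.nsmul_comp, Preadditive.comp_nsmul, Category.id_comp, Category.comp_id]
      rw [this, hNQ, comp_zero]
    exact imageSubobject_le _ (Abelian.monoLift B'.arrow (N • 𝟙 B) h0) (Abelian.monoLift_comp _ _ _)
  · have := hdiv N hN
    have h1 : imageSubobject ((N • 𝟙 (B' : V)) ≫ B'.arrow) = B' := by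
      rw [imageSubobject_epi_comp, imageSubobject_arrow_eq]
    have h2 : (N • 𝟙 (B' : V)) ≫ B'.arrow = B'.arrow ≫ (N • 𝟙 B) := by
      rw [Preadditive.nsmul_comp, Preadditive.comp_nsmul, Category.id_comp, Category.comp_id]
    calc B' = imageSubobject ((N • 𝟙 (B' : V)) ≫ B'.arrow) := h1.symm
      _ = imageSubobject (B'.arrow ≫ (N • 𝟙 B)) := imageSubobject_congr h2
      _ ≤ imageSubobject (N • 𝟙 B) := imageSubobject_comp_le _ _

open CategoryTheory CategoryTheory.Limits Groth.Agent.Lib.Seat66.AbSub in
/-- Let B be an object of an abelian category and consider the inverse system, indexed by the positive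
integers ordered by divisibility, with every term equal to B and transition map from the m-th to the
n-th term (n ∣ m) given by multiplication by m/n. This system is Mittag-Leffler, i.e. for every n
the images in the n-th term of the transition maps are eventually constant, if and only if B has a
divisible sub-object B' (multiplication by every positive integer is an epimorphism of B') with B/B'
killed by some positive integer. Moreover such a B' is the largest divisible sub-object of B. -/
theorem result
    {V : Type u} [Category.{v} V] [Abelian V] (B : V) :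
    ((∀ n : ℕ, 0 < n → ∃ m : ℕ, 0 < m ∧ n ∣ m ∧ ∀ m' : ℕ, 0 < m' → m ∣ m' →
        imageSubobject ((m' / n) • 𝟙 B) = imageSubobject ((m / n) • 𝟙 B)) ↔
      ∃ B' : Subobject B, (∀ k : ℕ, 0 < k → Epi (k • 𝟙 (B' : V))) ∧
        ∃ M : ℕ, 0 < M ∧ M • 𝟙 (cokernel B'.arrow) = 0) ∧
    (∀ B' : Subobject B, (∀ k : ℕ, 0 < k → Epi (k • 𝟙 (B' : V))) →
      (∃ M : ℕ, 0 < M ∧ M • 𝟙 (cokernel B'.arrow) = 0) →
      ∀ D : Subobject B, (∀ k : ℕ, 0 < k → Epi (k • 𝟙 (D : V))) → D ≤ B') := by
  refine ⟨⟨?_, ?_⟩, ?_⟩
  · -- Mittag-Leffler implies the existence of a divisible subobject of finite index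
    intro hML
    obtain ⟨m, hm, -, hstab⟩ := hML 1 Nat.one_pos
    simp only [Nat.div_one] at hstab
    refine ⟨imageSubobject (m • 𝟙 B), ?_, m, hm, ?_⟩
    · intro k hk
      apply epi_of_imageSubobject_comp_arrow_eq (imageSubobject (m • 𝟙 B))
      have h1 : factorThruImageSubobject (m • 𝟙 B) ≫
          ((k • 𝟙 ((imageSubobject (m • 𝟙 B) : Subobject B) : V)) ≫
            (imageSubobject (m • 𝟙 B)).arrow) = (m * k) • 𝟙 B := by
        rw [Preadditive.nsmul_comp, Preadditive.comp_nsmul, Category.id_comp,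
          imageSubobject_arrow_comp, ← mul_nsmul]
      have h2 := hstab (m * k) (Nat.mul_pos hm hk) (Dvd.intro k rfl)
      rw [← imageSubobject_congr h1, imageSubobject_epi_comp] at h2
      exact h2
    · have hπ : cokernel.π (imageSubobject (m • 𝟙 B)).arrow ≫
          (m • 𝟙 (cokernel (imageSubobject (m • 𝟙 B)).arrow)) = 0 := by
        have : cokernel.π (imageSubobject (m • 𝟙 B)).arrow ≫
            (m • 𝟙 (cokernel (imageSubobject (m • 𝟙 B)).arrow)) =
            (m • 𝟙 B) ≫ cokernel.π (imageSubobject (m • 𝟙 B)).arrow := by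
          rw [Preadditive.nsmul_comp, Preadditive.comp_nsmul, Category.id_comp, Category.comp_id]
        rw [this]
        have h3 : (m • 𝟙 B) ≫ cokernel.π (imageSubobject (m • 𝟙 B)).arrow =
            factorThruImageSubobject (m • 𝟙 B) ≫ (imageSubobject (m • 𝟙 B)).arrow ≫
              cokernel.π (imageSubobject (m • 𝟙 B)).arrow := by
          rw [← Category.assoc, imageSubobject_arrow_comp]
        rw [h3, cokernel.condition, comp_zero]
      exact (cancel_epi (cokernel.π (imageSubobject (m • 𝟙 B)).arrow)).mp (by rw [hπ, comp_zero])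
  · -- conversely
    rintro ⟨B', hdiv, M, hM, hMQ⟩ n hn
    refine ⟨n * M, Nat.mul_pos hn hM, Dvd.intro M rfl, ?_⟩
    intro m' hm' hdvd
    obtain ⟨t, rfl⟩ := hdvd
    have ht : 0 < t := by
      rcases Nat.eq_zero_or_pos t with h | h
      · subst h; simp at hm'
      · exact h
    have e1 : n * M * t / n = M * t := by
      rw [mul_assoc, Nat.mul_div_cancel_left _ hn]
    have e2 : n * M / n = M := Nat.mul_div_cancel_left _ hn
    rw [e1, e2]
    have hMt : (M * t) • 𝟙 (cokernel B'.arrow) = 0 := by
      rw [mul_nsmul, hMQ, smul_zero]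
    rw [image_nsmul_eq B B' hdiv (M * t) (Nat.mul_pos hM ht) hMt,
      image_nsmul_eq B B' hdiv M hM hMQ]
  · -- maximality
    rintro B' - ⟨M, hM, hMQ⟩ D hD
    apply le_of_comp_cokernel_eq_zero
    have := hD M hM
    apply (cancel_epi (M • 𝟙 (D : V))).mp
    rw [comp_zero, Preadditive.nsmul_comp, Category.id_comp]
    have : M • (D.arrow ≫ cokernel.π B'.arrow) =
        (D.arrow ≫ cokernel.π B'.arrow) ≫ (M • 𝟙 (cokernel B'.arrow)) := by
      rw [Preadditive.comp_nsmul, Category.comp_id]
    rw [this, hMQ, comp_zero]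

end Groth.Agent.S14497
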