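import Groth.Statements.S14608
import Groth.Agent.Lib.Seat67LocCrit

set_option autoImplicit false
universe u v
open CAlg

namespace Groth.Agent.S14608

open TensorProduct in
/-- Let A be a Noetherian ring, M a finitely generated A-module, F a finitely generated free A-module, δ
: M → F an A-linear map and p a prime of A with residue field κ(p). The following are equivalent:
(a) the natural map (ker δ) ⊗ κ(p) → ker(δ ⊗ κ(p)) is surjective (its image is the whole kernel);
(b) that map is bijective; (c) (F / im δ) localized at p is a free module over the local ring A_p.
Moreover, if these hold then (im δ) localized at p is free over A_p. (The published statement takes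
M to be the cokernel of a map of finitely generated free modules; over a Noetherian ring this is
every finitely generated M, which is what this row takes.) -/
theorem result (A : Type u) [CommRing A] [IsNoetherianRing A]
    (M : Type v) (F : Type v) [AddCommGroup M] [Module A M] [Module.Finite A M]
    [AddCommGroup F] [Module A F] [Module.Finite A F] [Module.Free A F]
    (δ : M →ₗ[A] F) (p : Ideal A) [p.IsPrime] :
    [ Function.Exact (LinearMap.lTensor p.ResidueField (LinearMap.ker δ).subtype)
        (LinearMap.lTensor p.ResidueField δ),
      Function.Exact (LinearMap.lTensor p.ResidueField (LinearMap.ker δ).subtype)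
        (LinearMap.lTensor p.ResidueField δ) ∧
        Function.Injective (LinearMap.lTensor p.ResidueField (LinearMap.ker δ).subtype),
      Module.Free (Localization.AtPrime p)
        (LocalizedModule p.primeCompl (F ⧸ LinearMap.range δ)) ].TFAE ∧
    (Function.Exact (LinearMap.lTensor p.ResidueField (LinearMap.ker δ).subtype)
        (LinearMap.lTensor p.ResidueField δ) →
      Module.Free (Localization.AtPrime p)
        (LocalizedModule p.primeCompl (LinearMap.range δ))) := by
  classical
  -- notation
  set κ := p.ResidueField with hκ
  let K := LinearMap.ker δ
  let I := LinearMap.range δ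
  let δ' : M →ₗ[A] I := δ.rangeRestrict
  let ι : I →ₗ[A] F := I.subtype
  have hδ : δ = ι ∘ₗ δ' := by ext x; rfl
  have hδ'surj : Function.Surjective δ' := LinearMap.surjective_rangeRestrict δ
  have hι : Function.Injective ι := Subtype.val_injective
  have hexK : Function.Exact K.subtype δ' := by
    have : LinearMap.ker δ' = K := LinearMap.ker_rangeRestrict δ
    rw [LinearMap.exact_iff, this, Submodule.range_subtype]
  have hexκ : Function.Exact (LinearMap.lTensor κ K.subtype) (LinearMap.lTensor κ δ') :=
    lTensor_exact κ hexK hδ'surj
  have hsurjκ : Function.Surjective (LinearMap.lTensor κ δ') :=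
    LinearMap.lTensor_surjective κ hδ'surj
  have hcomp : LinearMap.lTensor κ δ = LinearMap.lTensor κ ι ∘ₗ LinearMap.lTensor κ δ' := by
    rw [← LinearMap.lTensor_comp, ← hδ]
  -- (a) ⟺ injectivity of κ ⊗ ι
  have key : Function.Exact (LinearMap.lTensor κ K.subtype) (LinearMap.lTensor κ δ) ↔
      Function.Injective (LinearMap.lTensor κ ι) := by
    constructor
    · intro hex
      rw [injective_iff_map_eq_zero]
      intro x hx
      obtain ⟨y, rfl⟩ := hsurjκ x
      have hy : LinearMap.lTensor κ δ y = 0 := by rw [hcomp]; exact hx
      obtain ⟨z, rfl⟩ := (hex y).mp hy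
      exact hexκ.apply_apply_eq_zero z
    · intro hinj y
      rw [hcomp, LinearMap.comp_apply, ← hexκ y]
      exact ⟨fun h => hinj (by rw [h, map_zero]), fun h => by rw [h, map_zero]⟩
  -- consequences of (c)
  have fromC : Module.Free (Localization.AtPrime p)
        (LocalizedModule p.primeCompl (F ⧸ LinearMap.range δ)) →
      Function.Injective (LinearMap.lTensor κ ι) ∧
        Function.Injective (LinearMap.lTensor κ K.subtype) := by
    intro hfree
    have hfree' : Module.Free (Localization.AtPrime p)
        (LocalizedModule p.primeCompl (F ⧸ LinearMap.range ι)) := by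
      have : LinearMap.range ι = LinearMap.range δ := Submodule.range_subtype _
      rw [this]; exact hfree
    obtain ⟨l', hl'⟩ :=
      Groth.Agent.Lib.Seat67.LocCrit.exists_retraction_of_free_quotient p ι hι
    refine ⟨Groth.Agent.Lib.Seat67.LocCrit.lTensor_injective_of_retraction p ι ⟨l', hl'⟩, ?_⟩
    -- `I_p` is projective, hence `K_p → M_p` splits
    have hproj : Module.Projective (Localization.AtPrime p) (LocalizedModule p.primeCompl I) :=
      Module.Projective.of_split _ _ hl'
    have hsurj : Function.Surjective (LocalizedModule.map p.primeCompl δ') :=
      LocalizedModule.map_surjective _ _ hδ'surj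
    have hex := Groth.Agent.Lib.Seat67.LocCrit.locMap_exact p.primeCompl _ _ hexK
    have hinj := LocalizedModule.map_injective p.primeCompl K.subtype Subtype.val_injective
    obtain ⟨l, hl⟩ := Module.projective_lifting_property
      (LocalizedModule.map p.primeCompl δ') LinearMap.id hsurj
    have := (Function.Exact.split_tfae hex hinj hsurj).out 0 1
    exact Groth.Agent.Lib.Seat67.LocCrit.lTensor_injective_of_retraction p K.subtype
      (this.mp ⟨l, hl⟩)
  refine ⟨?_, ?_⟩
  · tfae_have 1 → 3 := by
      intro h
      have := Groth.Agent.Lib.Seat67.LocCrit.free_localized_quotient p ι (key.mp h)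
      have hr : LinearMap.range ι = LinearMap.range δ := Submodule.range_subtype _
      rw [hr] at this
      exact this
    tfae_have 3 → 2 := by
      intro h
      obtain ⟨h1, h2⟩ := fromC h
      exact ⟨key.mpr h1, h2⟩
    tfae_have 2 → 1 := fun h => h.1
    tfae_finish
  · intro h
    exact Groth.Agent.Lib.Seat67.LocCrit.free_localized_source p ι (key.mp h)

end Groth.Agent.S14608
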