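import Groth.Statements.S14611
import Groth.Agent.Lib.Seat67LocCrit2

set_option autoImplicit false
universe u
open FlatCx

namespace Groth.Agent.S14611

open CategoryTheory CategoryTheory.Limits in
/-- Let A be a Noetherian ring, Q a cochain complex whose terms are finitely generated projective
A-modules, and d an integer such that H^p(Q) = 0 for every p < d and H^p(Q ⊗_A A/m) = 0 for every p
< d and every maximal ideal m of A. Then Q^d / im(Q^{d-1} → Q^d), the degree-d term of the
truncation τ_{≥ d} Q, is a projective A-module, so that τ_{≥ d} Q is again a complex of projective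
modules. (The published statement also asserts that Q → τ_{≥ d} Q is a quasi-isomorphism when H^p(Q)
= 0 for p < d; this row omits that clause.) -/
theorem result (A : Type u) [CommRing A] [IsNoetherianRing A]
    (Q : CochainComplex (ModuleCat.{u} A) ℤ)
    (hQ : ∀ i, Module.Finite A (Q.X i) ∧ Module.Projective A (Q.X i)) (d : ℤ)
    (h1 : ∀ p < d, IsZero (Q.homology p))
    (h2 : ∀ (m : Ideal A) [m.IsMaximal], ∀ p < d,
      IsZero ((CohIII.tensorObj Q (ModuleCat.of A (A ⧸ m))).homology p)) :
    Module.Projective A (Q.opcycles d) := by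
  have hfM := (hQ (d - 1)).1
  have hfF := (hQ d).1
  have hpF := (hQ d).2
  let ε : Q.X (d - 2) →ₗ[A] Q.X (d - 1) := (Q.d (d - 2) (d - 1)).hom
  let δ : Q.X (d - 1) →ₗ[A] Q.X d := (Q.d (d - 1) d).hom
  have hεδ : δ ∘ₗ ε = 0 := by
    have := Q.d_comp_d (d - 2) (d - 1) d
    exact congrArg ModuleCat.Hom.hom this
  have hex : ∀ (m : Ideal A) [m.IsMaximal],
      Function.Exact (LinearMap.rTensor (A ⧸ m) ε) (LinearMap.rTensor (A ⧸ m) δ) := by
    intro m _
    have hz := h2 m (d - 1) (by omega)
    have hE : (CohIII.tensorObj Q (ModuleCat.of A (A ⧸ m))).ExactAt (d - 1) := by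
      rwa [HomologicalComplex.exactAt_iff_isZero_homology]
    rw [HomologicalComplex.exactAt_iff' _ (d - 2) (d - 1) d (by simp; omega) (by simp)] at hE
    rw [ShortComplex.ShortExact.moduleCat_exact_iff_function_exact] at hE
    exact hE
  have hproj := Groth.Agent.Lib.Seat67.LocCrit.projective_quotient_of_exact_rTensor ε δ hεδ hex
  let e : Q.opcycles d ≅ ModuleCat.of A (Q.X d ⧸ LinearMap.range δ) :=
    (Q.opcyclesIsCokernel (d - 1) d (by simp)).coconePointUniqueUpToIso
      (ModuleCat.cokernelIsColimit (Q.d (d - 1) d))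
  exact Module.Projective.of_equiv e.toLinearEquiv.symm

end Groth.Agent.S14611
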