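import Groth.Statements.S14624
import Groth.Agent.Lib.Seat67IndFP

set_option autoImplicit false
open CategoryTheory CategoryTheory.Limits
universe u
open Hensel

namespace Groth.Agent.S14624

/-- Let A be a commutative ring, m a proper ideal of A and Â the m-adic completion. Assume the
approximation property for polynomial systems: whenever finitely many polynomials over A in finitely
many variables have a common zero â in Â, then for every c there is a common zero a in A which
agrees with â in A/m^c. Let F be a functor from A-algebras (commutative rings under A) to sets which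
preserves filtered colimits, c a natural number and ξ ∈ F(Â). Then there is η ∈ F(A) whose image in
F(A/m^c) equals the image of ξ; here π is the A-algebra map Â → A/m^c (pinned by its underlying ring
map) and ρ the A-algebra map A → A/m^c. (The published statement takes for A the henselization at a
prime ideal of an algebra of finite type over a field or over an excellent discrete valuation ring,
for which the approximation property of polynomial systems is quoted; this row carries that property
as a hypothesis and draws the published conclusion for functors.) -/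
theorem result (A : Type u) [CommRing A]
    (m : Ideal A) (hm : m ≠ ⊤)
    (hAP : ∀ (k l c : ℕ) (f : Fin l → MvPolynomial (Fin k) A) (â : Fin k → AdicCompletion m A),
      (∀ i, MvPolynomial.aeval â (f i) = 0) →
      ∃ a : Fin k → A, (∀ i, MvPolynomial.eval a (f i) = 0) ∧
        ∀ j, Ideal.Quotient.mk (m ^ c) (a j) = AdicCompletion.evalₐ m c (â j))
    (F : Under (CommRingCat.of A) ⥤ Type u)
    (hF : ∀ (J : Type u) [SmallCategory J] [IsFiltered J], PreservesColimitsOfShape J F)
    (c : ℕ)
    (π : Under.mk (CommRingCat.ofHom (algebraMap A (AdicCompletion m A))) ⟶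
      Under.mk (CommRingCat.ofHom (algebraMap A (A ⧸ m ^ c))))
    (hπ : π.right = CommRingCat.ofHom
      (AdicCompletion.evalₐ m c : AdicCompletion m A →ₐ[A] A ⧸ m ^ c).toRingHom)
    (ρ : Under.mk (𝟙 (CommRingCat.of A)) ⟶ Under.mk (CommRingCat.ofHom (algebraMap A (A ⧸ m ^ c))))
    (ξ : F.obj (Under.mk (CommRingCat.ofHom (algebraMap A (AdicCompletion m A))))) :
    ∃ η : F.obj (Under.mk (𝟙 (CommRingCat.of A))), F.map ρ η = F.map π ξ := by
  classical
  obtain ⟨k, I', hfg, g, ξ', hξ'⟩ :=
    Groth.Agent.Lib.Seat67.IndFP.exists_fp_lift F hF (AdicCompletion m A) ξ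
  obtain ⟨T, hT⟩ := hfg
  let P := MvPolynomial (Fin k) A
  let f : Fin T.card → P := fun i => (T.equivFin.symm i).1
  have hfT : ∀ p ∈ T, ∃ i, f i = p := fun p hp =>
    ⟨T.equivFin ⟨p, hp⟩, by simp [f]⟩
  have hfI : ∀ i, f i ∈ I' := fun i => by
    rw [← hT]; exact Ideal.subset_span (T.equivFin.symm i).2
  let â : Fin k → AdicCompletion m A := fun j => g.right.hom (Ideal.Quotient.mk I' (MvPolynomial.X j))
  -- the composite `P → P/I' → Â` is evaluation at `â`
  have hgC : ∀ r : A, g.right.hom (Ideal.Quotient.mk I' (MvPolynomial.C r)) =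
      algebraMap A (AdicCompletion m A) r := fun r => by
    have := congr($(Under.w g).hom r)
    exact this
  have hφ : (g.right.hom.comp (Ideal.Quotient.mk I')) =
      (MvPolynomial.aeval â : P →ₐ[A] AdicCompletion m A).toRingHom := by
    apply MvPolynomial.ringHom_ext
    · intro r
      simp only [RingHom.comp_apply, AlgHom.toRingHom_eq_coe, RingHom.coe_coe,
        MvPolynomial.aeval_C]
      exact hgC r
    · intro j
      simp only [RingHom.comp_apply, AlgHom.toRingHom_eq_coe, RingHom.coe_coe,
        MvPolynomial.aeval_X]
      rfl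
  have hzero : ∀ i, MvPolynomial.aeval â (f i) = 0 := fun i => by
    have h1 : (g.right.hom.comp (Ideal.Quotient.mk I')) (f i) = 0 := by
      rw [RingHom.comp_apply, Ideal.Quotient.eq_zero_iff_mem.mpr (hfI i), map_zero]
    rw [hφ] at h1
    exact h1
  obtain ⟨a, ha0, hac⟩ := hAP k T.card c f â hzero
  -- the map `P/I' → A`
  have hI'a : ∀ p ∈ I', MvPolynomial.eval a p = 0 := by
    intro p hp
    rw [← hT] at hp
    refine Submodule.span_induction (p := fun p _ => MvPolynomial.eval a p = 0) ?_ ?_ ?_ ?_ hp
    · intro q hq
      obtain ⟨i, rfl⟩ := hfT q hq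
      exact ha0 i
    · simp
    · intro x y _ _ hx hy
      rw [map_add, hx, hy, add_zero]
    · intro r x _ hx
      rw [smul_eq_mul, map_mul, hx, mul_zero]
  let ψ : P ⧸ I' →+* A := Ideal.Quotient.lift I' (MvPolynomial.eval a) hI'a
  let ψ' : Under.mk (CommRingCat.ofHom (algebraMap A (P ⧸ I'))) ⟶
      Under.mk (𝟙 (CommRingCat.of A)) :=
    Under.homMk (CommRingCat.ofHom ψ) (by
      ext r
      change ψ (Ideal.Quotient.mk I' (MvPolynomial.C r)) = r
      simp [ψ])
  refine ⟨F.map ψ' ξ', ?_⟩
  -- the two maps `P/I' → A/m^c` agree
  have hρ : ∀ r : A, ρ.right.hom r = Ideal.Quotient.mk (m ^ c) r := fun r => by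
    have := congr($(Under.w ρ).hom r)
    exact this
  have hπ' : ∀ x : AdicCompletion m A, π.right.hom x = AdicCompletion.evalₐ m c x := fun x => by
    rw [hπ]; rfl
  have hpoly : ∀ x : P, Ideal.Quotient.mk (m ^ c) (MvPolynomial.eval a x) =
      AdicCompletion.evalₐ m c (MvPolynomial.aeval â x) := by
    intro x
    induction x using MvPolynomial.induction_on with
    | C r => simp
    | add p q hp hq => simp only [map_add, hp, hq]
    | mul_X p j hp =>
      simp only [map_mul, hp, MvPolynomial.eval_X, MvPolynomial.aeval_X]
      rw [hac j]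
  have key : ψ' ≫ ρ = g ≫ π := by
    ext x
    obtain ⟨x, rfl⟩ := Ideal.Quotient.mk_surjective x
    change ρ.right.hom (ψ (Ideal.Quotient.mk I' x)) =
      π.right.hom (g.right.hom (Ideal.Quotient.mk I' x))
    have e1 : ψ (Ideal.Quotient.mk I' x) = MvPolynomial.eval a x := rfl
    have e2 : g.right.hom (Ideal.Quotient.mk I' x) = MvPolynomial.aeval â x := by
      have := congr($hφ x)
      exact this
    rw [e1, e2, hρ, hπ']
    exact hpoly x
  rw [← hξ', ← Functor.map_comp_apply, ← Functor.map_comp_apply, key]

end Groth.Agent.S14624
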