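import Groth.Statements.S14625
import Groth.Agent.Lib.Seat14CycloHensel
import Groth.Agent.S13507

set_option autoImplicit false
open CategoryTheory AlgebraicGeometry
universe u
open EtBase

namespace Groth.Agent.S14625

/-- Let A be a strictly henselian local ring, n ≥ 1 an integer invertible in A, and X a scheme over Spec
A. Then the étale sheaf μ_n of n-th roots of unity on X is isomorphic to the constant sheaf with
value ℤ/n. Only the existence of an isomorphism is asserted; it depends on the choice of a primitive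
n-th root of unity in A. -/
theorem result (A : Type u) [CommRing A]
    (hA : EtCoh.IsStrictlyHenselianLocalRing A) (n : ℕ) (hn : 1 ≤ n) (hu : IsUnit (n : A))
    (X : Scheme.{u}) (f : X ⟶ Spec (CommRingCat.of A)) :
    Nonempty (EtCoh.mu X n ≅ EtCoh.const X (ZMod n)) := by
  obtain ⟨hH, hS⟩ := hA
  obtain ⟨ζ, hζ⟩ := Groth.Agent.Lib.Seat14.CycloHensel.exists_cyclotomic_root A n hn hu
  let ψ : A →+* Γ(X, ⊤) := ((Scheme.ΓSpecIso (CommRingCat.of A)).inv ≫ f.appTop).hom
  have hunit : IsUnit (n : Γ(X, ⊤)) := by
    have := hu.map ψ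
    rwa [map_natCast] at this
  have h1 : Polynomial.eval₂ (Int.castRingHom A) ζ (Polynomial.cyclotomic n ℤ) = 0 := by
    rw [← Polynomial.eval_map, Polynomial.map_cyclotomic_int]
    exact hζ
  have h2 : Polynomial.aeval (ψ ζ) (Polynomial.cyclotomic n ℤ) = 0 := by
    rw [Polynomial.aeval_def]
    have h3 : algebraMap ℤ Γ(X, ⊤) = ψ.comp (Int.castRingHom A) := RingHom.ext_int _ _
    rw [h3, ← Polynomial.hom_eval₂, h1, map_zero]
  exact Groth.Agent.S13507.result X n hn hunit (ψ ζ) h2

end Groth.Agent.S14625
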