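import Groth.Statements.S14649
import Groth.Agent.Lib.Seat67ExtRees

set_option autoImplicit false
universe u
open FiltBl

namespace Groth.Agent.S14649

/-- Let A be a Noetherian local ring that is a quotient of a Gorenstein ring, and F a filtration of
ideals on A (F^0 = A ⊇ F^1 ⊇ ⋯, F^i F^j ⊆ F^{i+j}) with every F^n nonzero and ⋂ F^n = 0, whose Rees
algebra ⊕_{n ≥ 0} F^n X^n is finitely generated over A and with F^1 of height at least 2
(equivalently, every F^n with n ≥ 1 has height at least 2, all F^n having the same radical). Then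
the extended Rees algebra R' = ⊕_{n ∈ ℤ} F^n T^n ⊆ A[T, T⁻¹] is a Cohen–Macaulay ring if and only if
the associated graded ring G = ⊕ F^n/F^{n+1}, realised as R'/uR' with u = T⁻¹, is a Cohen–Macaulay
ring. (The published statement is made under the further standing assumption that no nonzero element
of the Rees algebra ⊕_{n ≥ 0} F^n T^n is annihilated by a power of the ideal generated by its
homogeneous elements of positive degree; this row does not assume it, and the assertion holds
without it.) -/
theorem result (A : Type u) [CommRing A] [IsNoetherianRing A] [IsLocalRing A]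
    (S : Type u) [CommRing S] [LocCoh.IsGorensteinRing S] (π : S →+* A) (hπ : Function.Surjective π)
    (𝓕 : FiltBl.IdealFiltration A) (hne : ∀ n, 𝓕.F n ≠ ⊥) (hsep : ⨅ n, 𝓕.F n = ⊥)
    (hfg : Algebra.FiniteType A 𝓕.rees) (hht : 2 ≤ (𝓕.F 1).height) :
    LocCoh.IsCohenMacaulayRing 𝓕.extRees ↔ LocCoh.IsCohenMacaulayRing 𝓕.Gr := by
  classical
  have hN : IsNoetherianRing 𝓕.extRees :=
    Groth.Agent.Lib.Seat67.ExtRees.isNoetherianRing_extRees 𝓕 hfg
  have hreg := Groth.Agent.Lib.Seat67.ExtRees.isSMulRegular_u 𝓕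
  have hF1 : 𝓕.F 1 ≠ ⊤ := Groth.Agent.Lib.Seat67.ExtRees.F_one_ne_top 𝓕 hsep
  constructor
  · intro h
    refine { isCohenMacaulayLocalRing_localization := fun Q hQ => ?_ }
    rw [Groth.Agent.Lib.Seat67.QuotRegCM.isCohenMacaulayLocalRing_localization_quotient_iff
      𝓕.u hreg Q]
    exact h.isCohenMacaulayLocalRing_localization _
  · intro h
    apply Groth.Agent.Lib.Seat67.GrCM.isCohenMacaulayRing_of_forall_homogeneous_int
      (Groth.Agent.Lib.Seat67.ExtRees.sgr (Rees.ldeg 𝓕.extRees))
    intro q hq hqh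
    have hqh' : q.IsHomogeneous (Rees.ldeg 𝓕.extRees) :=
      (Groth.Agent.Lib.Seat67.ExtRees.isHomogeneous_sgr_iff _ q).mp hqh
    have hne := Groth.Agent.Lib.Seat67.ExtRees.sup_span_u_ne_top 𝓕 hF1 q hqh' hq.ne_top
    obtain ⟨Qm, hQm, hle⟩ := Ideal.exists_le_maximal _ hne
    have hQmp : Qm.IsPrime := hQm.isPrime
    have hker : RingHom.ker (Ideal.Quotient.mk (Ideal.span {𝓕.u})) ≤ Qm := by
      rw [Ideal.mk_ker]
      exact le_sup_right.trans hle
    have hQ'p : (Qm.map (Ideal.Quotient.mk (Ideal.span {𝓕.u}))).IsPrime :=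
      Ideal.map_isPrime_of_surjective Ideal.Quotient.mk_surjective hker
    have hcomap : (Qm.map (Ideal.Quotient.mk (Ideal.span {𝓕.u}))).comap
        (Ideal.Quotient.mk (Ideal.span {𝓕.u})) = Qm :=
      (Ideal.comap_map_of_surjective' _ Ideal.Quotient.mk_surjective Qm).trans
        (sup_eq_left.mpr hker)
    have h1 := h.isCohenMacaulayLocalRing_localization
      (Qm.map (Ideal.Quotient.mk (Ideal.span {𝓕.u})))
    rw [Groth.Agent.Lib.Seat67.QuotRegCM.isCohenMacaulayLocalRing_localization_quotient_iff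
      𝓕.u hreg] at h1
    refine Groth.Agent.Lib.Helper28.CMFib.isCohenMacaulayLocalRing_localization_of_le q _ ?_ h1
    rw [hcomap]
    exact le_sup_left.trans hle

end Groth.Agent.S14649
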