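import Groth.Statements.S14650
import Groth.Agent.Lib.Seat67ExtReesGor

set_option autoImplicit false
universe u
open FiltBl

namespace Groth.Agent.S14650

/-- Let A be a Noetherian local ring that is a quotient of a Gorenstein ring, and F a filtration of
ideals on A (F^0 = A ⊇ F^1 ⊇ ⋯, F^i F^j ⊆ F^{i+j}) with every F^n nonzero and ⋂ F^n = 0, whose Rees
algebra ⊕_{n ≥ 0} F^n X^n is finitely generated over A and with F^1 of height at least 2
(equivalently, every F^n with n ≥ 1 has height at least 2, all F^n having the same radical). Then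
the extended Rees algebra R' = ⊕_{n ∈ ℤ} F^n T^n ⊆ A[T, T⁻¹] is a Gorenstein ring if and only if the
associated graded ring G = ⊕ F^n/F^{n+1}, realised as R'/uR' with u = T⁻¹, is a Gorenstein ring.
(The published statement is made under the further standing assumption that no nonzero element of
the Rees algebra ⊕_{n ≥ 0} F^n T^n is annihilated by a power of the ideal generated by its
homogeneous elements of positive degree; this row does not assume it, and the assertion holds
without it.) -/
theorem result (A : Type u) [CommRing A] [IsNoetherianRing A] [IsLocalRing A]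
    (S : Type u) [CommRing S] [LocCoh.IsGorensteinRing S] (π : S →+* A) (hπ : Function.Surjective π)
    (𝓕 : FiltBl.IdealFiltration A) (hne : ∀ n, 𝓕.F n ≠ ⊥) (hsep : ⨅ n, 𝓕.F n = ⊥)
    (hfg : Algebra.FiniteType A 𝓕.rees) (hht : 2 ≤ (𝓕.F 1).height) :
    LocCoh.IsGorensteinRing 𝓕.extRees ↔ LocCoh.IsGorensteinRing 𝓕.Gr := by
  classical
  open Groth.Agent.Lib.Seat67.ExtRees Groth.Agent.Lib.Seat67.ExtReesGor
    Groth.Agent.Lib.Seat67.QuotRegGor Groth.Agent.Lib.Helper5.GorRing in
  have hN : IsNoetherianRing 𝓕.extRees := isNoetherianRing_extRees 𝓕 hfg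
  have hreg := isSMulRegular_u 𝓕
  have hF1 : 𝓕.F 1 ≠ ⊤ := F_one_ne_top 𝓕 hsep
  constructor
  · intro h
    exact gorRing_quotient_of_regular 𝓕.u hreg
  · intro h
    -- Step 1: Gorenstein at the primes containing `u`
    have step1 : ∀ (Q : Ideal 𝓕.extRees) [Q.IsPrime], 𝓕.u ∈ Q →
        LocCoh.IsGorensteinLocalRing (Localization.AtPrime Q) := by
      intro Q hQ hu
      have hker : RingHom.ker (Ideal.Quotient.mk (Ideal.span {𝓕.u})) ≤ Q := by
        rw [Ideal.mk_ker]
        exact (Ideal.span_singleton_le_iff_mem _).mpr hu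
      have hQ'p : (Q.map (Ideal.Quotient.mk (Ideal.span {𝓕.u}))).IsPrime :=
        Ideal.map_isPrime_of_surjective Ideal.Quotient.mk_surjective hker
      have hcomap : (Q.map (Ideal.Quotient.mk (Ideal.span {𝓕.u}))).comap
          (Ideal.Quotient.mk (Ideal.span {𝓕.u})) = Q :=
        (Ideal.comap_map_of_surjective' _ Ideal.Quotient.mk_surjective Q).trans
          (sup_eq_left.mpr hker)
      have h1 := h.isGorensteinLocalRing_localization
        (Q.map (Ideal.Quotient.mk (Ideal.span {𝓕.u})))
      rw [gorLocal_localization_quotient_iff 𝓕.u hreg] at h1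
      exact (gorLocal_congr hcomap).mp h1
    -- Step 2: `A` is Gorenstein
    have hne := sup_span_u_ne_top 𝓕 hF1 (P0 𝓕) (P0_isHomogeneous 𝓕)
      (inferInstance : (P0 𝓕).IsPrime).ne_top
    obtain ⟨Qm, hQm, hle⟩ := Ideal.exists_le_maximal _ hne
    have hQmp : Qm.IsPrime := hQm.isPrime
    have hGorQm := step1 Qm (hle (Ideal.mem_sup_right (Ideal.mem_span_singleton_self _)))
    have hGorP0 : LocCoh.IsGorensteinLocalRing (Localization.AtPrime (P0 𝓕)) :=
      gorLocal_localization_of_le (P0 𝓕) Qm (le_sup_left.trans hle) hGorQm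
    have hmp : ((P0 𝓕).map (algebraMap 𝓕.extRees (LaurentPolynomial A))).IsPrime := by
      rw [map_P0]; infer_instance
    have hGorP1 : LocCoh.IsGorensteinLocalRing (Localization.AtPrime (P1 A)) :=
      (gorLocal_congr (map_P0 𝓕)).mp
        ((gorLocal_localization_map_iff (Submonoid.powers 𝓕.u) (LaurentPolynomial A) (P0 𝓕)
          (disjoint_powers_u 𝓕 (u_notMem_P0 𝓕))).mpr hGorP0)
    have hA : LocCoh.IsGorensteinLocalRing A := gorLocal_of_gorLocal_P1 hGorP1
    -- Step 3: the Laurent polynomial ring is Gorenstein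
    have hAring : LocCoh.IsGorensteinRing A :=
      Groth.Agent.Lib.Helper29.GorAnn.isGorensteinRing_of_isGorensteinLocalRing A
    have hpoly : LocCoh.IsGorensteinRing (Polynomial A) := gorRing_polynomial A
    have hL : LocCoh.IsGorensteinRing (LaurentPolynomial A) :=
      gorRing_of_isLocalization (Submonoid.powers (Polynomial.X : Polynomial A))
        (LaurentPolynomial A)
    refine { isGorensteinLocalRing_localization := fun P hP => ?_ }
    by_cases hu : 𝓕.u ∈ P
    · exact step1 P hu
    · have hd := disjoint_powers_u 𝓕 hu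
      have hP1 : (P.map (algebraMap 𝓕.extRees (LaurentPolynomial A))).IsPrime :=
        IsLocalization.isPrime_of_isPrime_disjoint (Submonoid.powers 𝓕.u) _ P hP hd
      exact (gorLocal_localization_map_iff (Submonoid.powers 𝓕.u) (LaurentPolynomial A) P
        hd).mp (hL.isGorensteinLocalRing_localization _)

end Groth.Agent.S14650
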