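import Groth.Statements.S14651
import Groth.Agent.Lib.Seat67ExtRees
import Groth.Agent.Lib.Seat67QuotRegSk

set_option autoImplicit false
universe u
open FiltBl

namespace Groth.Agent.S14651

/-- Let A be a Noetherian local ring that is a quotient of a Gorenstein ring, and F a filtration of
ideals on A (F^0 = A ⊇ F^1 ⊇ ⋯, F^i F^j ⊆ F^{i+j}) with every F^n nonzero and ⋂ F^n = 0, whose Rees
algebra ⊕_{n ≥ 0} F^n X^n is finitely generated over A and with F^1 of height at least 2
(equivalently, every F^n with n ≥ 1 has height at least 2, all F^n having the same radical). Then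
the extended Rees algebra R' = ⊕_{n ∈ ℤ} F^n T^n ⊆ A[T, T⁻¹] satisfies Serre's condition (S_2) if
and only if the associated graded ring G = ⊕ F^n/F^{n+1}, realised as R'/uR' with u = T⁻¹, satisfies
(S_1) and A satisfies (S_2). (The published statement is made under the further standing assumption
that no nonzero element of the Rees algebra ⊕_{n ≥ 0} F^n T^n is annihilated by a power of the ideal
generated by its homogeneous elements of positive degree; this row does not assume it, and the
assertion holds without it.) -/
theorem result (A : Type u) [CommRing A] [IsNoetherianRing A] [IsLocalRing A]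
    (S : Type u) [CommRing S] [LocCoh.IsGorensteinRing S] (π : S →+* A) (hπ : Function.Surjective π)
    (𝓕 : FiltBl.IdealFiltration A) (hne : ∀ n, 𝓕.F n ≠ ⊥) (hsep : ⨅ n, 𝓕.F n = ⊥)
    (hfg : Algebra.FiniteType A 𝓕.rees) (hht : 2 ≤ (𝓕.F 1).height) :
    LocCoh.HasSk 2 𝓕.extRees 𝓕.extRees ↔ (LocCoh.HasSk 1 𝓕.Gr 𝓕.Gr ∧ LocCoh.HasSk 2 A A) := by
  classical
  open Groth.Agent.Lib.Seat67.ExtRees Groth.Agent.Lib.Seat67.QuotRegSk Groth.Agent.Lib.Helper28 in
  have hN : IsNoetherianRing 𝓕.extRees := isNoetherianRing_extRees 𝓕 hfg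
  have hreg := isSMulRegular_u 𝓕
  have hNL : IsNoetherianRing (LaurentPolynomial A) :=
    IsLocalization.isNoetherianRing (Submonoid.powers 𝓕.u) _ hN
  have hmk : Function.Surjective (Ideal.Quotient.mk (Ideal.span {𝓕.u})) :=
    Ideal.Quotient.mk_surjective
  have hkermk : RingHom.ker (Ideal.Quotient.mk (Ideal.span {𝓕.u})) = Ideal.span {𝓕.u} :=
    Ideal.mk_ker
  -- `(S_2)` for the Laurent polynomial ring in terms of the primes of `R'` not containing `u`
  have hLaurent : LocCoh.HasSk 2 (LaurentPolynomial A) (LaurentPolynomial A) ↔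
      ∀ (P : Ideal 𝓕.extRees) [P.IsPrime], 𝓕.u ∉ P →
        SnLocalRing 2 (Localization.AtPrime P) := by
    rw [hasSk_self_iff_forall_snLocalRing]
    constructor
    · intro h P hP hu
      have hd : Disjoint ((Submonoid.powers 𝓕.u : Submonoid 𝓕.extRees) : Set 𝓕.extRees)
          (P : Set 𝓕.extRees) := by
        rw [Set.disjoint_left]
        rintro _ ⟨n, rfl⟩ hn
        exact hu (hP.mem_of_pow_mem n hn)
      have hP1 : (P.map (algebraMap 𝓕.extRees (LaurentPolynomial A))).IsPrime :=
        IsLocalization.isPrime_of_isPrime_disjoint (Submonoid.powers 𝓕.u) _ P hP hd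
      rw [← snLocalRing_localization_map_iff (Submonoid.powers 𝓕.u) (LaurentPolynomial A) 2 P hd]
      exact h _
    · intro h P1 hP1
      have hP : (P1.comap (algebraMap 𝓕.extRees (LaurentPolynomial A))).IsPrime :=
        Ideal.comap_isPrime _ _
      have hm : (P1.comap (algebraMap 𝓕.extRees (LaurentPolynomial A))).map
          (algebraMap 𝓕.extRees (LaurentPolynomial A)) = P1 :=
        IsLocalization.map_under (Submonoid.powers 𝓕.u) _ P1
      have hu : 𝓕.u ∉ P1.comap (algebraMap 𝓕.extRees (LaurentPolynomial A)) := by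
        intro hmem
        rw [Ideal.mem_comap] at hmem
        exact hP1.ne_top (Ideal.eq_top_of_isUnit_mem _ hmem (LaurentPolynomial.isUnit_T (-1)))
      have hd : Disjoint ((Submonoid.powers 𝓕.u : Submonoid 𝓕.extRees) : Set 𝓕.extRees)
          ((P1.comap (algebraMap 𝓕.extRees (LaurentPolynomial A)) : Ideal 𝓕.extRees) :
            Set 𝓕.extRees) := by
        rw [Set.disjoint_left]
        rintro _ ⟨n, rfl⟩ hn
        exact hu (hP.mem_of_pow_mem n hn)
      have hmp : ((P1.comap (algebraMap 𝓕.extRees (LaurentPolynomial A))).map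
          (algebraMap 𝓕.extRees (LaurentPolynomial A))).IsPrime := by
        rw [hm]; exact hP1
      have h1 := h _ hu
      rw [← snLocalRing_localization_map_iff (Submonoid.powers 𝓕.u) (LaurentPolynomial A) 2 _ hd]
        at h1
      exact (snLocalRing_congr 2 hm).mp h1
  constructor
  · intro H
    rw [hasSk_self_iff_forall_snLocalRing] at H
    constructor
    · rw [hasSk_self_iff_forall_snLocalRing]
      intro p hp
      rw [snLocalRing_localization_quotient_iff 1 𝓕.u hreg p]
      exact H _
    · have hL : LocCoh.HasSk 2 (LaurentPolynomial A) (LaurentPolynomial A) :=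
        hLaurent.mpr (fun P hP _ => H P)
      exact hasSk_of_faithfullyFlat (R := A) (S := LaurentPolynomial A) 2 hL
  · rintro ⟨H1, H2⟩
    rw [hasSk_self_iff_forall_snLocalRing] at H1
    rw [hasSk_self_iff_forall_snLocalRing]
    -- the Laurent polynomial ring is `(S_2)`
    have hpoly : LocCoh.HasSk 2 (Polynomial A) (Polynomial A) := hasSk_polynomial 2 H2
    have hL : LocCoh.HasSk 2 (LaurentPolynomial A) (LaurentPolynomial A) := by
      rw [hasSk_self_iff_forall_snLocalRing] at hpoly ⊢
      intro P1 hP1
      have hP2 : (P1.comap (algebraMap (Polynomial A) (LaurentPolynomial A))).IsPrime :=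
        Ideal.comap_isPrime _ _
      have hP2m : (P1.comap (algebraMap (Polynomial A) (LaurentPolynomial A))).map
          (algebraMap (Polynomial A) (LaurentPolynomial A)) = P1 :=
        IsLocalization.map_under (Submonoid.powers (Polynomial.X : Polynomial A)) _ P1
      have hd2 : Disjoint ((Submonoid.powers (Polynomial.X : Polynomial A) :
          Submonoid (Polynomial A)) : Set (Polynomial A))
          ((P1.comap (algebraMap (Polynomial A) (LaurentPolynomial A)) : Ideal (Polynomial A)) :
            Set (Polynomial A)) := by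
        rw [Set.disjoint_left]
        rintro _ ⟨n, rfl⟩ hn
        have h1 : algebraMap (Polynomial A) (LaurentPolynomial A) (Polynomial.X ^ n) ∈ P1 := hn
        rw [LaurentPolynomial.algebraMap_X_pow] at h1
        exact hP1.ne_top (Ideal.eq_top_of_isUnit_mem _ h1 (LaurentPolynomial.isUnit_T _))
      have hP2mp : ((P1.comap (algebraMap (Polynomial A) (LaurentPolynomial A))).map
          (algebraMap (Polynomial A) (LaurentPolynomial A))).IsPrime := by
        rw [hP2m]; exact hP1
      have h4 := hpoly (P1.comap (algebraMap (Polynomial A) (LaurentPolynomial A)))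
      rw [← snLocalRing_localization_map_iff
        (Submonoid.powers (Polynomial.X : Polynomial A)) (LaurentPolynomial A) 2 _ hd2] at h4
      exact (snLocalRing_congr 2 hP2m).mp h4
    intro P hP
    by_cases hu : 𝓕.u ∈ P
    · have hkerP : RingHom.ker (Ideal.Quotient.mk (Ideal.span {𝓕.u})) ≤ P := by
        rw [hkermk]
        exact (Ideal.span_singleton_le_iff_mem _).mpr hu
      have hpp : (P.map (Ideal.Quotient.mk (Ideal.span {𝓕.u}))).IsPrime :=
        Ideal.map_isPrime_of_surjective hmk hkerP
      have hcomap : (P.map (Ideal.Quotient.mk (Ideal.span {𝓕.u}))).comap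
          (Ideal.Quotient.mk (Ideal.span {𝓕.u})) = P :=
        (Ideal.comap_map_of_surjective' _ hmk P).trans (sup_eq_left.mpr hkerP)
      have h1 := H1 (P.map (Ideal.Quotient.mk (Ideal.span {𝓕.u})))
      rw [snLocalRing_localization_quotient_iff 1 𝓕.u hreg] at h1
      exact (snLocalRing_congr 2 hcomap).mp h1
    · exact hLaurent.mp hL P hu

end Groth.Agent.S14651
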