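import Groth.Statements.S14652
import Groth.Agent.Lib.Seat67ReesHom

set_option autoImplicit false
universe u
open FiltBl

namespace Groth.Agent.S14652

/-- Let A be a Noetherian integrally closed domain with fraction field K, let v_1, …, v_s be finitely
many valuations on K with values in ℤ ∪ {∞} (written additively) that are non-negative on A, and let
r_i = p_i / q_i be positive rationals (p_i, q_i positive integers). Let F be the filtration of
ideals of A given by F^k = {x ∈ A | q_i · v_i(x) ≥ k · p_i for every i}. Then the Rees algebra ⊕_{k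
≥ 0} F^k X^k ⊆ A[X] is an integrally closed domain (it need not be Noetherian). -/
theorem result (A K : Type u) [CommRing A] [IsDomain A]
    [IsNoetherianRing A] [IsIntegrallyClosed A] [Field K] [Algebra A K] [IsFractionRing A K]
    (ι : Type) [Finite ι] (v : ι → AddValuation K (WithTop ℤ))
    (hv : ∀ (i : ι) (x : A), 0 ≤ v i (algebraMap A K x)) (p q : ι → ℕ) (hp : ∀ i, 0 < p i)
    (hq : ∀ i, 0 < q i) (𝓕 : FiltBl.IdealFiltration A)
    (hF : ∀ (k : ℕ) (x : A), x ∈ 𝓕.F k ↔
      ∀ i, ((k * p i : ℕ) : WithTop ℤ) ≤ (q i : WithTop ℤ) * v i (algebraMap A K x)) :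
    IsIntegrallyClosed 𝓕.rees := by
  classical
  have : IsIntegrallyClosedIn (↥𝓕.rees) (Polynomial A) := by
    rw [isIntegrallyClosedIn_iff]
    refine ⟨Subtype.val_injective, fun {x} hx => ⟨⟨x, fun n => ?_⟩, rfl⟩⟩
    obtain ⟨m, d, hd, hrel⟩ :=
      Groth.Agent.Lib.Seat67.ReesHom.exists_relation_of_isIntegral_monomial 𝓕
        (Groth.Agent.Lib.Seat67.ReesHom.isIntegral_monomial_coeff 𝓕 hx n)
    rw [hF]
    intro i
    refine Groth.Agent.Lib.Seat67.ReesVal.le_mul_valuation_of_monic_relation (v i) (p i) (q i) n m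
      (hq i) (algebraMap A K (x.coeff n)) (fun j => algebraMap A K (d j)) ?_ ?_
    · intro j hj
      exact (hF _ _).mp (hd j hj) i
    · have := congrArg (algebraMap A K) hrel
      simpa only [map_add, map_pow, map_sum, map_mul, map_zero] using this
  exact IsIntegrallyClosed.of_isIntegrallyClosed_of_isIntegrallyClosedIn (↥𝓕.rees) (Polynomial A)

end Groth.Agent.S14652
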