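import Groth.Statements.S14654
import Groth.Agent.Lib.Seat67ProjNormal

set_option autoImplicit false
universe u
open FiltBl

namespace Groth.Agent.S14654

open AlgebraicGeometry in
/-- Let A be a Noetherian ℕ-graded commutative ring which is normal, i.e. every localization of A at a
prime ideal is an integrally closed domain. Then the scheme Proj A is normal: every local ring of
Proj A is an integrally closed domain. -/
theorem result (A : Type u) [CommRing A] [IsNoetherianRing A]
    (𝒜 : ℕ → AddSubgroup A) [GradedRing 𝒜]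
    (hA : ∀ (p : Ideal A) [p.IsPrime], IsDomain (Localization.AtPrime p) ∧
      IsIntegrallyClosed (Localization.AtPrime p))
    (x : Proj 𝒜) :
    IsDomain ((Proj 𝒜).presheaf.stalk x) ∧ IsIntegrallyClosed ((Proj 𝒜).presheaf.stalk x) := by
  let p : Ideal A := x.asHomogeneousIdeal.toIdeal
  have hpprime : p.IsPrime := x.isPrime
  have hp : p.IsHomogeneous 𝒜 := x.asHomogeneousIdeal.isHomogeneous
  obtain ⟨hdom, hic⟩ := hA p
  let e : (Proj 𝒜).presheaf.stalk x ≃+* HomogeneousLocalization.AtPrime 𝒜 p :=
    (Proj.stalkIso 𝒜 x).commRingCatIsoToRingEquiv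
  have hdomB : IsDomain (HomogeneousLocalization.AtPrime 𝒜 p) :=
    Groth.Agent.Lib.Seat67.ProjNormal.isDomain_atPrime 𝒜 p
  have hicB : IsIntegrallyClosed (HomogeneousLocalization.AtPrime 𝒜 p) :=
    Groth.Agent.Lib.Seat67.ProjNormal.isIntegrallyClosed_atPrime 𝒜 p hp
  have hdomS : IsDomain ((Proj 𝒜).presheaf.stalk x) := e.toMulEquiv.isDomain _
  exact ⟨hdomS, IsIntegrallyClosed.of_equiv e.symm⟩

end Groth.Agent.S14654
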