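import Groth.Statements.S14655
import Groth.Agent.Lib.Seat67ProjCM
import Groth.Agent.Lib.Seat67PureCM

set_option autoImplicit false
universe u
open FiltBl

namespace Groth.Agent.S14655

open AlgebraicGeometry in
/-- Let A be a Noetherian ℕ-graded commutative ring which is a Cohen–Macaulay ring. Then the scheme Proj
A is Cohen–Macaulay: every local ring of Proj A is a Cohen–Macaulay local ring. -/
theorem result (A : Type u) [CommRing A]
    (𝒜 : ℕ → AddSubgroup A) [GradedRing 𝒜] [LocCoh.IsCohenMacaulayRing A] (x : Proj 𝒜) :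
    LocCoh.IsCohenMacaulayLocalRing ((Proj 𝒜).presheaf.stalk x) := by
  classical
  let p : Ideal A := x.asHomogeneousIdeal.toIdeal
  have hpprime : p.IsPrime := x.isPrime
  have hp : p.IsHomogeneous 𝒜 := x.asHomogeneousIdeal.isHomogeneous
  have hAn : IsNoetherianRing A := inferInstance
  -- a homogeneous element of positive degree outside `p`
  obtain ⟨d, t₀, hd, ht₀, ht₀p⟩ : ∃ (d : ℕ) (t₀ : A), 0 < d ∧ t₀ ∈ 𝒜 d ∧ t₀ ∉ p := by
    have hnot := x.not_irrelevant_le
    obtain ⟨y, hy, hyp⟩ := SetLike.not_le_iff_exists.mp hnot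
    obtain ⟨j, hj⟩ := Groth.Agent.Lib.Seat67.ProjS1.exists_decompose_notMem 𝒜 hp hyp
    refine ⟨j, _, ?_, SetLike.coe_mem _, hj⟩
    rcases Nat.eq_zero_or_pos j with rfl | hpos
    · exfalso
      apply hj
      have h0 : GradedRing.proj 𝒜 0 y = 0 := (HomogeneousIdeal.mem_irrelevant_iff 𝒜 y).mp hy
      rw [GradedRing.proj_apply] at h0
      rw [h0]
      exact p.zero_mem
    · exact hpos
  have hBn : IsNoetherianRing (HomogeneousLocalization.AtPrime 𝒜 p) :=
    Groth.Agent.Lib.Seat67.ProjS1.isNoetherianRing_atPrime 𝒜 p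
  have hL : LocCoh.IsCohenMacaulayLocalRing (Localization.AtPrime p) :=
    LocCoh.IsCohenMacaulayRing.isCohenMacaulayLocalRing_localization p
  have hB : LocCoh.IsCohenMacaulayLocalRing (HomogeneousLocalization.AtPrime 𝒜 p) :=
    Groth.Agent.Lib.Seat67.PureCM.isCohenMacaulayLocalRing_of_pure
      (algebraMap (HomogeneousLocalization.AtPrime 𝒜 p) (Localization.AtPrime p))
      (Groth.Agent.Lib.Seat67.ProjCM.algebraMap_mem_maximalIdeal 𝒜 p)
      (fun I => Groth.Agent.Lib.Seat67.ProjCM.comap_map_le 𝒜 p hp I)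
      (Groth.Agent.Lib.Seat67.ProjCM.eq_maximalIdeal_of_le_comap 𝒜 p hp hd ht₀ ht₀p)
  let e : (Proj 𝒜).presheaf.stalk x ≃+* HomogeneousLocalization.AtPrime 𝒜 p :=
    (Proj.stalkIso 𝒜 x).commRingCatIsoToRingEquiv
  exact Groth.Agent.Lib.Helper28.isCohenMacaulayLocalRing_of_ringEquiv e.symm

end Groth.Agent.S14655
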