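import Groth.Statements.S14656
import Groth.Agent.Lib.Seat67ProjS1c
import Groth.Agent.Lib.Seat67ProjS1d
import Groth.Agent.Lib.Helper28DepthMore
import Groth.Agent.Lib.Helper5TensorSk

set_option autoImplicit false
universe u
open FiltBl

namespace Groth.Agent.S14656

open AlgebraicGeometry in
/-- Let A be a Noetherian ℕ-graded commutative ring satisfying Serre's condition (S_1) (every
localization A_p has depth at least min(1, dim A_p)). Then every local ring of the scheme Proj A
satisfies (S_1). -/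
theorem result (A : Type u) [CommRing A] [IsNoetherianRing A]
    (𝒜 : ℕ → AddSubgroup A) [GradedRing 𝒜] (hA : LocCoh.HasSk 1 A A) (x : Proj 𝒜) :
    LocCoh.HasSk 1 ((Proj 𝒜).presheaf.stalk x) ((Proj 𝒜).presheaf.stalk x) := by
  classical
  let p : Ideal A := x.asHomogeneousIdeal.toIdeal
  have hpprime : p.IsPrime := x.isPrime
  have hp : p.IsHomogeneous 𝒜 := x.asHomogeneousIdeal.isHomogeneous
  -- a homogeneous element of positive degree outside `p`
  obtain ⟨d, t₀, hd, ht₀, ht₀p⟩ : ∃ (d : ℕ) (t₀ : A), 0 < d ∧ t₀ ∈ 𝒜 d ∧ t₀ ∉ p := by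
    have hnot := x.not_irrelevant_le
    obtain ⟨y, hy, hyp⟩ := SetLike.not_le_iff_exists.mp hnot
    obtain ⟨j, hj⟩ := Groth.Agent.Lib.Seat67.ProjS1.exists_decompose_notMem 𝒜 hp hyp
    refine ⟨j, _, ?_, SetLike.coe_mem _, hj⟩
    rcases Nat.eq_zero_or_pos j with rfl | hpos
    · exfalso
      apply hj
      have h0 : GradedRing.proj 𝒜 0 y = 0 := (HomogeneousIdeal.mem_irrelevant_iff 𝒜 y).mp hy
      rw [GradedRing.proj_apply] at h0
      rw [h0]
      exact p.zero_mem
    · exact hpos
  -- associated primes of `A` are minimal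
  have hAss : ∀ P ∈ associatedPrimes A A, P ∈ minimalPrimes A := by
    have h := (Groth.Agent.Lib.Helper28.hasSk_one_iff_forall_mem_minimalPrimes
      (R := A) (M := A)).mpr hA
    intro P hP
    have := h P hP
    rwa [Module.annihilator_eq_bot.mpr inferInstance] at this
  have hBnoeth : IsNoetherianRing (HomogeneousLocalization.AtPrime 𝒜 p) :=
    Groth.Agent.Lib.Seat67.ProjS1.isNoetherianRing_atPrime 𝒜 p
  have hB : LocCoh.HasSk 1 (HomogeneousLocalization.AtPrime 𝒜 p)
      (HomogeneousLocalization.AtPrime 𝒜 p) := by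
    refine (Groth.Agent.Lib.Helper28.hasSk_one_iff_forall_mem_minimalPrimes
      (R := HomogeneousLocalization.AtPrime 𝒜 p)
      (M := HomogeneousLocalization.AtPrime 𝒜 p)).mp ?_
    intro q hq
    rw [Module.annihilator_eq_bot.mpr inferInstance]
    exact Groth.Agent.Lib.Seat67.ProjS1.mem_minimalPrimes_of_mem_associatedPrimes 𝒜 p hp hAss hd
      ht₀ ht₀p hq
  let e : (Proj 𝒜).presheaf.stalk x ≃+* HomogeneousLocalization.AtPrime 𝒜 p :=
    (Proj.stalkIso 𝒜 x).commRingCatIsoToRingEquiv
  have : IsNoetherianRing ((Proj 𝒜).presheaf.stalk x) := isNoetherianRing_of_ringEquiv _ e.symm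
  exact Groth.Agent.Lib.Helper5.TensorSk.hasSk_self_of_ringEquiv e.symm 1 hB

end Groth.Agent.S14656
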