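import Groth.Statements.S14659
import Groth.Agent.Lib.Seat67GrUnitReg

set_option autoImplicit false
universe u
open FiltBl

namespace Groth.Agent.S14659

/-- Let R be a Noetherian ℤ-graded commutative ring which is regular (every localization at a prime is a
regular local ring), whose degree-0 subring R_0 is a local ring, with R_1 ≠ 0 and with a homogeneous
unit in some positive degree; let N be the least positive degree in which R has a unit and t ∈ R_N a
unit (so that R_N = t · R_0). Then C = R/(t − 1)R is a regular local ring. -/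
theorem result (R : Type u) [CommRing R]
    [IsNoetherianRing R] (𝒜 : ℤ → AddSubgroup R) [GradedRing 𝒜]
    (hreg : ∀ (p : Ideal R) [p.IsPrime], IsRegularLocalRing (Localization.AtPrime p))
    [IsLocalRing (GrLC.deg0 𝒜)] (h1 : ∃ x ∈ 𝒜 1, x ≠ 0) (N : ℕ) (hN : 0 < N) (t : R)
    (ht : t ∈ 𝒜 (N : ℤ)) (htu : IsUnit t)
    (hmin : ∀ (n : ℤ), 0 < n → n < (N : ℤ) → ∀ s ∈ 𝒜 n, ¬ IsUnit s) :
    IsRegularLocalRing (R ⧸ Ideal.span {t - 1}) := by
  classical
  have hu : ((htu.unit : Rˣ) : R) ∈ 𝒜 (N : ℤ) := by rw [IsUnit.unit_spec]; exact ht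
  have hN' : (0 : ℤ) < (N : ℤ) := by exact_mod_cast hN
  have hm : Groth.Agent.Lib.Seat67.GrUnit.HM (𝒜 := 𝒜) (N := (N : ℤ)) htu.unit := by
    intro i j hi hj hij a ha b hb
    have hc : a * b * ((htu.unit⁻¹ : Rˣ) : R) ∈ 𝒜 0 := by
      have h2 := Groth.Agent.Lib.Seat67.GrUnit.inv_mem htu.unit hu
      exact Groth.Agent.Lib.Seat67.GrUnit.mem_zero_of_mul
        (Groth.Agent.Lib.Seat67.GrUnit.mem_of_mul_eq ha hb hij) h2 (by ring)
    refine ⟨⟨_, hc⟩, ?_, ?_⟩
    · by_contra hcn
      have hcu : IsUnit (⟨_, hc⟩ : SetLike.GradeZero.subring 𝒜) := by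
        by_contra h
        exact hcn ((IsLocalRing.mem_maximalIdeal _).mpr h)
      have hcu' : IsUnit (a * b * ((htu.unit⁻¹ : Rˣ) : R)) :=
        hcu.map (SetLike.GradeZero.subring 𝒜).subtype
      have hab : IsUnit (a * b) := by
        have := hcu'.mul (Units.isUnit htu.unit)
        rwa [mul_assoc, Units.inv_mul, mul_one] at this
      exact hmin i hi (by omega) a ha (isUnit_of_mul_isUnit_left hab)
    · change a * b = a * b * ((htu.unit⁻¹ : Rˣ) : R) * ((htu.unit : Rˣ) : R)
      rw [mul_assoc, Units.inv_mul, mul_one]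
  have := Groth.Agent.Lib.Seat67.GrUnit.isRegularLocalRing_quot htu.unit hu hN' hm hreg
  rwa [IsUnit.unit_spec] at this

end Groth.Agent.S14659
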