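import Groth.Statements.S14660
import Groth.Agent.Lib.Seat67ExtRees

set_option autoImplicit false
universe u
open FiltBl

namespace Groth.Agent.S14660

/-- (ii) ⇔ (iii): let A be a Noetherian local ring that is a quotient of a Gorenstein ring, and F a
filtration of ideals on A (F^0 = A ⊇ F^1 ⊇ ⋯, F^i F^j ⊆ F^{i+j}) with every F^n nonzero and ⋂ F^n =
0, whose Rees algebra ⊕_{n ≥ 0} F^n X^n is finitely generated over A and with F^1 of height at least
2 (equivalently, every F^n with n ≥ 1 has height at least 2, all F^n having the same radical). Let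
R' = ⊕_{n ∈ ℤ} F^n T^n ⊆ A[T, T⁻¹] be the extended Rees algebra, R_+R' its ideal generated by the
elements a T^n with n ≥ 1 and a ∈ F^n, u = T⁻¹, and G the associated graded ring, given here as any
ring with a surjection φ : R' → G whose kernel is uR', with G_+ = φ(R_+R'). Then the open subscheme
Spec R' − V(R_+R') is Cohen–Macaulay (every localization of R' at a prime not containing R_+R' is a
Cohen–Macaulay local ring) if and only if the localization G_p is Cohen–Macaulay for every prime p
of G with G_+ ⊄ p and the localization A_q is Cohen–Macaulay for every prime q of A with F^1 ⊄ q.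
(The published statement phrases the first condition for the scheme Spec_X ⊕_{n ∈ ℤ} O_X(n) over the
filtered blowing-up X = Proj ⊕_{n ≥ 0} F^n T^n, which is identified with this open subscheme of Spec
R'; it asks the condition on G only at homogeneous primes not containing G_+, which for the graded
ring G is equivalent to asking it at all such primes; it states the condition on A at the primes not
containing a fixed F^N with F^{nN} = (F^N)^n for all n, an ideal with the same radical as F^1; and
it is made under the further standing assumption that no nonzero element of ⊕_{n ≥ 0} F^n T^n is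
annihilated by a power of the ideal generated by its homogeneous elements of positive degree, which
this row does not assume and which is not needed.) -/
theorem result (A : Type u) [CommRing A] [IsNoetherianRing A] [IsLocalRing A]
    (S : Type u) [CommRing S] [LocCoh.IsGorensteinRing S] (π : S →+* A) (hπ : Function.Surjective π)
    (𝓕 : FiltBl.IdealFiltration A) (hne : ∀ n, 𝓕.F n ≠ ⊥) (hsep : ⨅ n, 𝓕.F n = ⊥)
    (hfg : Algebra.FiniteType A 𝓕.rees) (hht : 2 ≤ (𝓕.F 1).height)
    (G : Type u) [CommRing G] (φ : 𝓕.extRees →+* G) (hφ : Function.Surjective φ)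
    (hker : RingHom.ker φ = Ideal.span {𝓕.u}) (Rp : Ideal 𝓕.extRees)
    (hRp : Rp = Ideal.span {x : 𝓕.extRees | ∃ n : ℕ, 0 < n ∧ ∃ a ∈ 𝓕.F n,
      (x : LaurentPolynomial A) = LaurentPolynomial.C a * LaurentPolynomial.T (n : ℤ)}) :
    (∀ (P : Ideal 𝓕.extRees) [P.IsPrime], ¬ Rp ≤ P →
        LocCoh.IsCohenMacaulayLocalRing (Localization.AtPrime P)) ↔
      ((∀ (p : Ideal G) [p.IsPrime], ¬ Ideal.map φ Rp ≤ p →
          LocCoh.IsCohenMacaulayLocalRing (Localization.AtPrime p)) ∧
        (∀ (q : Ideal A) [q.IsPrime], ¬ 𝓕.F 1 ≤ q →
            LocCoh.IsCohenMacaulayLocalRing (Localization.AtPrime q))) := by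
  classical
  have hN : IsNoetherianRing 𝓕.extRees :=
    Groth.Agent.Lib.Seat67.ExtRees.isNoetherianRing_extRees 𝓕 hfg
  have hreg := Groth.Agent.Lib.Seat67.ExtRees.isSMulRegular_u 𝓕
  have hgen : ∀ (n : ℕ), 0 < n → ∀ a ∈ 𝓕.F n, ∀ x : 𝓕.extRees,
      (x : LaurentPolynomial A) = LaurentPolynomial.C a * LaurentPolynomial.T (n : ℤ) →
      x ∈ Rp := by
    intro n hn a ha x hx
    rw [hRp]
    exact Ideal.subset_span ⟨n, hn, a, ha, hx⟩
  constructor
  · intro H
    constructor
    · intro p hp hnp
      rw [Groth.Agent.Lib.Seat67.QuotRegCM.isCohenMacaulayLocalRing_localization_iff_of_ker_eq_span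
        φ hφ 𝓕.u hker hreg p]
      apply H
      intro hle
      apply hnp
      calc Ideal.map φ Rp ≤ Ideal.map φ (p.comap φ) := Ideal.map_mono hle
        _ ≤ p := Ideal.map_comap_le
    · intro q hq hnq
      rw [Groth.Agent.Lib.Seat67.QuotRegCM.isCohenMacaulayLocalRing_localization_iff_of_ker_eq_span
        (Groth.Agent.Lib.Seat67.ExtRees.ε 𝓕) (Groth.Agent.Lib.Seat67.ExtRees.ε_surjective 𝓕)
        (1 - 𝓕.u) (Groth.Agent.Lib.Seat67.ExtRees.ker_ε 𝓕)
        (Groth.Agent.Lib.Seat67.ExtRees.isSMulRegular_one_sub_u 𝓕) q]
      apply H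
      intro hle
      apply hnq
      intro a ha
      obtain ⟨x, hx⟩ := Groth.Agent.Lib.Seat67.ExtRees.exists_term 𝓕 1 a ha
      have hmem : x ∈ Rp := hgen 1 one_pos a ha x hx
      have := hle hmem
      rwa [Ideal.mem_comap, Groth.Agent.Lib.Seat67.ExtRees.ε_of_coe_eq 𝓕 hx] at this
  · rintro ⟨H1, H2⟩ P hP hnP
    by_cases hu : 𝓕.u ∈ P
    · have hkerP : RingHom.ker φ ≤ P := by
        rw [hker]
        exact (Ideal.span_singleton_le_iff_mem _).mpr hu
      have hpp : (P.map φ).IsPrime := Ideal.map_isPrime_of_surjective hφ hkerP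
      have hcomap : (P.map φ).comap φ = P :=
        (Ideal.comap_map_of_surjective' φ hφ P).trans (sup_eq_left.mpr hkerP)
      have h1 := H1 (P.map φ) (by
        intro hle
        apply hnP
        calc Rp ≤ (Rp.map φ).comap φ := Ideal.le_comap_map
          _ ≤ (P.map φ).comap φ := Ideal.comap_mono hle
          _ = P := hcomap)
      rw [Groth.Agent.Lib.Seat67.QuotRegCM.isCohenMacaulayLocalRing_localization_iff_of_ker_eq_span
        φ hφ 𝓕.u hker hreg] at h1
      exact Groth.Agent.Lib.Helper28.CMFib.isCohenMacaulayLocalRing_localization_of_le P _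
        (le_of_eq hcomap.symm) h1
    · -- `u ∉ P`
      have hq : (P.comap (algebraMap A 𝓕.extRees)).IsPrime := Ideal.comap_isPrime _ _
      have hnq : ¬ 𝓕.F 1 ≤ P.comap (algebraMap A 𝓕.extRees) := by
        intro hle
        apply hnP
        rw [hRp, Ideal.span_le]
        rintro x ⟨n, hn, a, ha, hx⟩
        have h1 : x * 𝓕.u ^ n ∈ P := by
          rw [Groth.Agent.Lib.Seat67.ExtRees.mul_u_pow_of_coe_eq 𝓕 hx]
          exact hle (𝓕.antitone hn ha)
        rcases hP.mem_or_mem h1 with h | h
        · exact h
        · exact absurd (hP.mem_of_pow_mem n h) hu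
      have hA := H2 _ hnq
      have hd : Disjoint ((Submonoid.powers 𝓕.u : Submonoid 𝓕.extRees) : Set 𝓕.extRees)
          (P : Set 𝓕.extRees) := by
        rw [Set.disjoint_left]
        rintro _ ⟨n, rfl⟩ hn
        exact hu (hP.mem_of_pow_mem n hn)
      have hP1 : (P.map (algebraMap 𝓕.extRees (LaurentPolynomial A))).IsPrime :=
        IsLocalization.isPrime_of_isPrime_disjoint (Submonoid.powers 𝓕.u) _ P hP hd
      have hP1c : (P.map (algebraMap 𝓕.extRees (LaurentPolynomial A))).comap
          (algebraMap 𝓕.extRees (LaurentPolynomial A)) = P :=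
        IsLocalization.under_map_of_isPrime_disjoint (Submonoid.powers 𝓕.u) _ hP hd
      rw [← Groth.Agent.Lib.Seat67.QuotRegCM.isCohenMacaulayLocalRing_localization_map_iff
        (Submonoid.powers 𝓕.u) (LaurentPolynomial A) P hd]
      -- descend to the polynomial ring
      set P1 := P.map (algebraMap 𝓕.extRees (LaurentPolynomial A)) with hP1def
      have hP2 : (P1.comap (algebraMap (Polynomial A) (LaurentPolynomial A))).IsPrime :=
        Ideal.comap_isPrime _ _
      have hP2m : (P1.comap (algebraMap (Polynomial A) (LaurentPolynomial A))).map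
          (algebraMap (Polynomial A) (LaurentPolynomial A)) = P1 :=
        IsLocalization.map_under (Submonoid.powers (Polynomial.X : Polynomial A)) _ P1
      have hd2 : Disjoint ((Submonoid.powers (Polynomial.X : Polynomial A) :
          Submonoid (Polynomial A)) : Set (Polynomial A))
          ((P1.comap (algebraMap (Polynomial A) (LaurentPolynomial A)) : Ideal (Polynomial A)) :
            Set (Polynomial A)) := by
        rw [Set.disjoint_left]
        rintro _ ⟨n, rfl⟩ hn
        have h1 : algebraMap (Polynomial A) (LaurentPolynomial A) (Polynomial.X ^ n) ∈ P1 := hn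
        rw [LaurentPolynomial.algebraMap_X_pow] at h1
        exact hP1.ne_top (Ideal.eq_top_of_isUnit_mem _ h1 (LaurentPolynomial.isUnit_T _))
      have hP2mp : ((P1.comap (algebraMap (Polynomial A) (LaurentPolynomial A))).map
          (algebraMap (Polynomial A) (LaurentPolynomial A))).IsPrime := by
        rw [hP2m]; exact hP1
      have hcomapC : (P1.comap (algebraMap (Polynomial A) (LaurentPolynomial A))).comap
          (algebraMap A (Polynomial A)) = P.comap (algebraMap A 𝓕.extRees) := by
        ext a
        simp only [Ideal.mem_comap]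
        rw [← hP1c]
        simp only [Ideal.mem_comap]
        have e1 : algebraMap (Polynomial A) (LaurentPolynomial A) (algebraMap A (Polynomial A) a) =
            LaurentPolynomial.C a := by
          rw [← Polynomial.C_eq_algebraMap, LaurentPolynomial.algebraMap_eq_toLaurent,
            Polynomial.toLaurent_C]
        have e2 : algebraMap 𝓕.extRees (LaurentPolynomial A) (algebraMap A 𝓕.extRees a) =
            LaurentPolynomial.C a := rfl
        rw [e1, e2]
      have h3 : LocCoh.IsCohenMacaulayLocalRing (Localization.AtPrime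
          ((P1.comap (algebraMap (Polynomial A) (LaurentPolynomial A))).comap
            (algebraMap A (Polynomial A)))) :=
        Groth.Agent.Lib.Helper28.CMFib.isCohenMacaulayLocalRing_localization_of_le _ _
          (le_of_eq hcomapC) hA
      have h4 := Groth.Agent.Lib.Seat67.QuotRegCM.isCohenMacaulayLocalRing_polynomial_atPrime
        (P1.comap (algebraMap (Polynomial A) (LaurentPolynomial A))) h3
      rw [← Groth.Agent.Lib.Seat67.QuotRegCM.isCohenMacaulayLocalRing_localization_map_iff
        (Submonoid.powers (Polynomial.X : Polynomial A)) (LaurentPolynomial A) _ hd2] at h4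
      exact Groth.Agent.Lib.Helper28.CMFib.isCohenMacaulayLocalRing_localization_of_le _ _
        (le_of_eq hP2m.symm) h4

end Groth.Agent.S14660
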