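import Groth.Statements.S14678
-- import your own Groth.Agent.* helpers here

set_option autoImplicit false
universe u
open CategoryTheory CategoryTheory.Limits AlgebraicGeometry
open EtBase

namespace Groth.Agent.S14678

/-- Elements of the residue field at a point of an affine open are fractions of sections. -/
theorem exists_frac_residue {S : Scheme.{u}} {U : S.Opens} (hU : IsAffineOpen U) (s : ↥S)
    (hs : s ∈ U) (c : S.residueField s) :
    ∃ r g : Γ(S, U), (S.residue s).hom ((S.presheaf.germ U s hs).hom g) ≠ 0 ∧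
      (S.residue s).hom ((S.presheaf.germ U s hs).hom g) * c =
        (S.residue s).hom ((S.presheaf.germ U s hs).hom r) := by
  obtain ⟨z, rfl⟩ := Scheme.residue_surjective S s c
  let _ : Algebra Γ(S, U) (S.presheaf.stalk s) :=
    TopCat.Presheaf.algebra_section_stalk S.presheaf (U := U) ⟨s, hs⟩
  have hloc : IsLocalization.AtPrime (S.presheaf.stalk s) (hU.primeIdealOf ⟨s, hs⟩).asIdeal :=
    hU.isLocalization_stalk ⟨s, hs⟩
  obtain ⟨⟨r, g⟩, hrg⟩ := IsLocalization.surj (hU.primeIdealOf ⟨s, hs⟩).asIdeal.primeCompl z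
  have hunit : IsUnit ((S.presheaf.germ U s hs).hom g.1) :=
    IsLocalization.map_units (M := (hU.primeIdealOf ⟨s, hs⟩).asIdeal.primeCompl)
      (S.presheaf.stalk s) g
  refine ⟨r, g.1, ?_, ?_⟩
  · exact (hunit.map (S.residue s).hom).ne_zero
  · have : z * (S.presheaf.germ U s hs).hom g.1 = (S.presheaf.germ U s hs).hom r := hrg
    rw [← this, map_mul, mul_comm]

theorem result (S : Scheme.{u}) (s : ↥S)
    (ℓ : Type u) [Field ℓ] [Algebra (S.residueField s) ℓ] [Module.Finite (S.residueField s) ℓ] :
    ∃ (U' : Scheme.{u}) (b : U' ⟶ S) (t : Spec (CommRingCat.of ℓ) ⟶ U'),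
      IsAffine U' ∧ Flat b ∧ LocallyOfFinitePresentation b ∧ IsPreimmersion t ∧
        t ≫ b = Spec.map (CommRingCat.ofHom (algebraMap (S.residueField s) ℓ)) ≫ S.fromSpecResidueField s := by
  -- an affine open neighbourhood of `s`
  obtain ⟨_, ⟨U, hU : IsAffineOpen U, rfl⟩, hs, -⟩ :=
    S.isBasis_affineOpens.exists_subset_of_mem_open (Set.mem_univ s) isOpen_univ
  -- module generators of `ℓ` over `κ(s)`
  obtain ⟨n, α, hα⟩ := Module.Finite.exists_fin (R := S.residueField s) (M := ℓ)
  -- the ring map `Γ(S, U) → ℓ`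
  let ψ : Γ(S, U) →+* ℓ :=
    (algebraMap (S.residueField s) ℓ).comp ((S.residue s).hom.comp (S.presheaf.germ U s hs).hom)
  let φ : MvPolynomial (Fin n) Γ(S, U) →+* ℓ := MvPolynomial.eval₂Hom ψ α
  have hφC : φ.comp MvPolynomial.C = ψ := by
    ext x; simp [φ]
  refine ⟨Spec (CommRingCat.of (MvPolynomial (Fin n) Γ(S, U))),
    Spec.map (CommRingCat.ofHom (MvPolynomial.C (σ := Fin n) (R := Γ(S, U)))) ≫ hU.fromSpec,
    Spec.map (CommRingCat.ofHom φ), inferInstance, ?_, ?_, ?_, ?_⟩
  · -- flat
    have : Flat (Spec.map (CommRingCat.ofHom (MvPolynomial.C (σ := Fin n) (R := Γ(S, U))))) := by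
      rw [Flat.SpecMap_iff]
      change (algebraMap Γ(S, U) (MvPolynomial (Fin n) Γ(S, U))).Flat
      rw [RingHom.flat_algebraMap_iff]
      infer_instance
    infer_instance
  · -- locally of finite presentation
    have : LocallyOfFinitePresentation
        (Spec.map (CommRingCat.ofHom (MvPolynomial.C (σ := Fin n) (R := Γ(S, U))))) := by
      rw [LocallyOfFinitePresentation.SpecMap_iff]
      change (algebraMap Γ(S, U) (MvPolynomial (Fin n) Γ(S, U))).FinitePresentation
      rw [RingHom.finitePresentation_algebraMap]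
      infer_instance
    infer_instance
  · -- preimmersion
    refine IsPreimmersion.mk_SpecMap ?_ ?_
    · change Topology.IsEmbedding (PrimeSpectrum.comap φ)
      exact Topology.IsEmbedding.of_subsingleton _
    · change φ.SurjectiveOnStalks
      apply RingHom.surjectiveOnStalks_of_exists_div
      intro y
      have hy : y ∈ Submodule.span (S.residueField s) (Set.range α) := by rw [hα]; trivial
      induction hy using Submodule.span_induction with
      | mem y hy =>
        obtain ⟨i, rfl⟩ := hy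
        exact ⟨MvPolynomial.X i, 1, by simp, by simp [φ]⟩
      | zero => exact ⟨0, 1, by simp, by simp⟩
      | add y₁ y₂ _ _ h₁ h₂ =>
        obtain ⟨r₁, g₁, hu₁, e₁⟩ := h₁
        obtain ⟨r₂, g₂, hu₂, e₂⟩ := h₂
        refine ⟨r₁ * g₂ + r₂ * g₁, g₁ * g₂, by rw [map_mul]; exact hu₁.mul hu₂, ?_⟩
        rw [map_mul, map_add, map_mul, map_mul, ← e₁, ← e₂]
        ring
      | smul c y _ h =>
        obtain ⟨r, g, hu, e⟩ := h
        obtain ⟨r₀, g₀, hne, e₀⟩ := exists_frac_residue hU s hs c
        have hψ : ∀ x, φ (MvPolynomial.C x) = algebraMap (S.residueField s) ℓ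
            ((S.residue s).hom ((S.presheaf.germ U s hs).hom x)) := fun x => by
          rw [← RingHom.comp_apply, hφC]; rfl
        refine ⟨MvPolynomial.C r₀ * r, MvPolynomial.C g₀ * g, ?_, ?_⟩
        · rw [map_mul]
          refine IsUnit.mul ?_ hu
          rw [hψ, isUnit_iff_ne_zero]
          exact (map_ne_zero _).mpr hne
        · rw [map_mul, map_mul, hψ, hψ, ← e, ← e₀, map_mul, Algebra.smul_def]
          ring
  · rw [← Category.assoc, ← Spec.map_comp, ← CommRingCat.ofHom_comp, hφC,
      Scheme.fromSpecResidueField, ← hU.fromSpecStalk_eq_fromSpecStalk hs,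
      IsAffineOpen.fromSpecStalk, ← Category.assoc, ← Category.assoc, ← Spec.map_comp,
      ← Spec.map_comp]
    rfl

end Groth.Agent.S14678
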