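import Groth.Statements.S14683
import Groth.Agent.Lib.Seat34SekSuwaAct

set_option autoImplicit false
universe u
open CategoryTheory AlgebraicGeometry MonoidalCategory CartesianMonoidalCategory MonObj GrpObj
open SekSuwa

namespace Groth.Agent.S14683

/-- Let R be a discrete valuation ring of characteristic zero and residue characteristic p, and let λ, μ
∈ R satisfy the divisibility condition under which the finite R-group schemes G_{λ,1} and G_{μ,1}
(the kernels of the isogenies ψ of the one-parameter groups with law s + t + λst, resp. μ) are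
defined. Then every action of G_{μ,1} on G_{λ,1} by group automorphisms is trivial: for every
R-scheme T and all T-valued points g of G_{μ,1} and x of G_{λ,1}, g · x = x. An action by group
automorphisms is an action of the group scheme G_{μ,1} on the scheme G_{λ,1} whose action map is
multiplicative in the second variable on points. (The published statement is made under standing
assumptions that R contains a primitive p²-th root of unity and that λ, μ have positive valuation;
this row drops both, which the argument does not use.) -/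
theorem result (R : Type u) [CommRing R] [IsDomain R] [IsDiscreteValuationRing R] [CharZero R]
    (p : ℕ) [Fact p.Prime] [CharP (IsLocalRing.ResidueField R) p]
    (lam mu : R) (h₁ : SekSuwa.DivCond lam p) (h₂ : SekSuwa.DivCond mu p)
    (a : AlgGrp.Action (SekSuwa.GK R mu p h₂) (SekSuwa.GK R lam p h₁))
    (hmul : ∀ (T : Over (Spec (CommRingCat.of R))) (g : T ⟶ SekSuwa.GK R mu p h₂)
      (x y : T ⟶ SekSuwa.GK R lam p h₁), lift g (x * y) ≫ a.act = (lift g x ≫ a.act) * (lift g y ≫ a.act))
    (T : Over (Spec (CommRingCat.of R))) (g : T ⟶ SekSuwa.GK R mu p h₂) (x : T ⟶ SekSuwa.GK R lam p h₁) :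
    lift g x ≫ a.act = x := by
  have hp : 0 < p := (Fact.out : p.Prime).pos
  have hfl : Flat (SekSuwa.GK R lam p h₁).hom :=
    Groth.Agent.Lib.Seat34.SekSuwaGeneric.flat_GK_hom h₁ hp
  have hfm : Flat (SekSuwa.GK R mu p h₂).hom :=
    Groth.Agent.Lib.Seat34.SekSuwaGeneric.flat_GK_hom h₂ hp
  have hPflat : Flat (SekSuwa.GK R mu p h₂ ⊗ SekSuwa.GK R lam p h₁).hom := by
    change Flat (Limits.pullback.fst (SekSuwa.GK R mu p h₂).hom (SekSuwa.GK R lam p h₁).hom ≫
      (SekSuwa.GK R mu p h₂).hom)
    infer_instance
  have hPaff : IsAffine (SekSuwa.GK R mu p h₂ ⊗ SekSuwa.GK R lam p h₁).left := by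
    have i1 : IsAffine (SekSuwa.GK R mu p h₂).left :=
      inferInstanceAs (IsAffine (Spec (CommRingCat.of (SekSuwa.AK R mu p h₂))))
    have i2 : IsAffine (SekSuwa.GK R lam p h₁).left :=
      inferInstanceAs (IsAffine (Spec (CommRingCat.of (SekSuwa.AK R lam p h₁))))
    exact AlgebraicGeometry.Scheme.Pullback.isAffine_of_isAffine_isAffine_isAffine (SekSuwa.GK R mu p h₂).hom
      (SekSuwa.GK R lam p h₁).hom
  have hnzd : lam * mu ∈ nonZeroDivisors R := mul_mem h₁.nzd h₂.nzd
  have hact : a.act = snd (SekSuwa.GK R mu p h₂) (SekSuwa.GK R lam p h₁) := by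
    apply Over.OverMorphism.ext
    refine Groth.Agent.Lib.Seat34.SekSuwaAct.left_ext_of_flat
      (SekSuwa.GK R mu p h₂ ⊗ SekSuwa.GK R lam p h₁) (lam * mu) hnzd _ _ ?_
    intro C _ _ hu j
    have hul : IsUnit (algebraMap R C lam) := by
      rw [map_mul] at hu
      exact isUnit_of_mul_isUnit_left hu
    have hum : IsUnit (algebraMap R C mu) := by
      rw [map_mul] at hu
      exact isUnit_of_mul_isUnit_right hu
    have key := Groth.Agent.Lib.Seat34.SekSuwaAct.act_eq_of_isUnit h₁ h₂ a hmul hul hum
      (j ≫ fst _ _) (j ≫ snd _ _)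
    have h1 : lift (j ≫ fst (SekSuwa.GK R mu p h₂) (SekSuwa.GK R lam p h₁))
        (j ≫ snd (SekSuwa.GK R mu p h₂) (SekSuwa.GK R lam p h₁)) = j := by
      rw [← comp_lift, lift_fst_snd, Category.comp_id]
    rw [h1] at key
    exact congrArg (fun k => k.left) key
  rw [hact, lift_snd]

end Groth.Agent.S14683
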