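import Groth.Statements.S14688
import Groth.Agent.Lib.Seat34TorsorGeneric
import Groth.Agent.Lib.Seat34SekSuwaGeneric
import Groth.Agent.S13152

set_option autoImplicit false
universe u
open CategoryTheory AlgebraicGeometry
open SekSuwa

namespace Groth.Agent.S14688

/-- Let R be a discrete valuation ring of characteristic zero and residue characteristic p, n ≥ 1, λ ∈ R
satisfying the divisibility condition under which the finite flat R-group scheme G_{λ,n} (the kernel
of ψ on the one-parameter group with law s + t + λst, of order p^n) and its homomorphism α^{λ,n} to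
μ_{p^n} are defined, and X a normal integral scheme which is faithfully flat over Spec R. If an fppf
torsor P over X under G_{λ,n} becomes trivial after extension of the structure group along α^{λ,n} —
there is an fppf μ_{p^n}-torsor P' over X with an α^{λ,n}-equivariant X-morphism P → P', and P' has
a section over X — then P has a section over X. So H¹(X, G_{λ,n}) → H¹(X, μ_{p^n}) has trivial
kernel, and the groups H¹(X, G_{π^i,n}) for decreasing i form an increasing filtration of H¹(X,
μ_{p^n}). (The published statement is the filtration itself, for the commutative groups in question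
injectivity of these homomorphisms; the trivial-kernel assertion stated here is what the argument
establishes.) -/
theorem result (R : Type u) [CommRing R] [IsDomain R] [IsDiscreteValuationRing R] [CharZero R]
    (p : ℕ) [Fact p.Prime] [CharP (IsLocalRing.ResidueField R) p]
    (n : ℕ) (hn : 0 < n) (lam : R) (h : SekSuwa.DivCond lam (p ^ n))
    (X : Scheme.{u}) [IsIntegral X] (hX : Pi1.IsNormalScheme X)
    (f : X ⟶ Spec (CommRingCat.of R)) [Flat f] [Surjective f]
    (P : Over X) (a : AlgGrp.Action (Red.bc f (SekSuwa.GK R lam (p ^ n) h)) P)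
    (hP : NonAbH1.IsTorsorFor Scheme.fppfPrecoverage a)
    (P' : Over X) (a' : AlgGrp.Action (Red.bc f (Red.diag R (ZMod (p ^ n)))) P')
    (hP' : NonAbH1.IsTorsorFor Scheme.fppfPrecoverage a')
    (hpush : NonAbH1.IsPushforwardAlongSch ((Over.pullback f).map (SekSuwa.alphaN R lam (p ^ n) h)) a a')
    (htriv : NonAbH1.HasSectionOver P' (𝟙 X)) :
    NonAbH1.HasSectionOver P (𝟙 X) := by
  have hN : 0 < p ^ n := pow_pos (Fact.out : p.Prime).pos n
  have hG1 : IsFinite (SekSuwa.GK R lam (p ^ n) h).hom :=
    Groth.Agent.Lib.Seat34.SekSuwaGeneric.isFinite_GK_hom h hN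
  have hG2 : Flat (SekSuwa.GK R lam (p ^ n) h).hom :=
    Groth.Agent.Lib.Seat34.SekSuwaGeneric.flat_GK_hom h hN
  have hG3 : IsFinite (Red.bc f (SekSuwa.GK R lam (p ^ n) h)).hom := by
    show IsFinite (Limits.pullback.snd (SekSuwa.GK R lam (p ^ n) h).hom f)
    infer_instance
  have hG4 : Flat (Red.bc f (SekSuwa.GK R lam (p ^ n) h)).hom := by
    show Flat (Limits.pullback.snd (SekSuwa.GK R lam (p ^ n) h).hom f)
    infer_instance
  have h1 : IsFinite P.hom := Groth.Agent.Lib.Seat34.TorsorFF.isFinite_of_isTorsorFor a hP
  have h2 : Flat P.hom := Groth.Agent.Lib.Seat34.TorsorFF.flat_of_isTorsorFor a hP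
  have h3 : Surjective P.hom := Groth.Agent.Lib.Seat34.TorsorGeneric.surjective_of_isTorsorFor a hP
  have h4 : QuasiCompact P.hom := inferInstance
  obtain ⟨σ', hσ'⟩ := htriv
  have hsec : NonAbH1.HasSectionOver P' (X.fromSpecStalk (genericPoint X)) :=
    ⟨X.fromSpecStalk (genericPoint X) ≫ σ', by rw [Category.assoc, hσ', Category.comp_id]⟩
  have hbij : ∀ Z : Over (Spec (X.presheaf.stalk (genericPoint X))),
      Function.Bijective (fun u : (Over.map (X.fromSpecStalk (genericPoint X))).obj Z ⟶
        Red.bc f (SekSuwa.GK R lam (p ^ n) h) =>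
          u ≫ (Over.pullback f).map (SekSuwa.alphaN R lam (p ^ n) h)) := by
    intro Z
    apply Groth.Agent.Lib.Seat34.TorsorGeneric.comp_pullback_map_bijective
    apply Groth.Agent.Lib.Seat34.SekSuwaGeneric.alphaN_comp_bijective h hN
    have hu := Groth.Agent.Lib.Seat34.SekSuwaGeneric.isUnit_Phi_generic f lam h.nzd
    have e : ((Over.map f).obj ((Over.map (X.fromSpecStalk (genericPoint X))).obj Z)).hom =
        Z.hom ≫ (X.fromSpecStalk (genericPoint X) ≫ f) := by
      simp
    rw [e, Groth.Agent.Lib.Seat34.SekSuwaGeneric.Phi_precomp]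
    exact hu.map Z.hom.appTop.hom
  exact Groth.Agent.S13152.result hX (Red.bc f (SekSuwa.GK R lam (p ^ n) h)) P a hP
    (Groth.Agent.Lib.Seat34.TorsorGeneric.hasSectionOver_of_bijective_points
      ((Over.pullback f).map (SekSuwa.alphaN R lam (p ^ n) h)) a a'
      (X.fromSpecStalk (genericPoint X)) hbij hP.1 hP'.1 hpush hsec)

end Groth.Agent.S14688
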