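import Groth.Statements.S14783
-- import your own Groth.Agent.* helpers here
import Groth.Agent.Lib.Seat68ChainLift
import Groth.Agent.Lib.Seat68LocClosed
import Groth.Agent.S14788
import Groth.Agent.S3398

set_option autoImplicit false
universe u
open CategoryTheory CategoryTheory.Limits AlgebraicGeometry
open Subtr

namespace Groth.Agent.S14783

open Groth.Agent.Lib.Seat68.LocClosed Groth.Agent.Lib.Seat68.ChainLift

/-- descent of local closedness for the preimage of a subset with pro-constructible, locally closed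
preimage. -/
theorem isLocallyClosed_of_preimage {S' S : Scheme.{u}} (f : S' ⟶ S)
    [QuasiCompact f] (hf : Subtr.UnivSSubtrusive f) (E : Set S)
    (h1 : IsLocallyClosed (f ⁻¹' E)) (h2 : IsRetrocompact (f ⁻¹' E)) : IsLocallyClosed E := by
  have hS : Subtr.IsSSubtrusive f := hf (𝟙 S') (𝟙 S) f (IsPullback.id_vert f)
  have hsurj : Function.Surjective f := by
    intro y
    obtain ⟨x, _, _, hx, _⟩ := hS (specializes_refl y)
    exact ⟨x, hx⟩
  have hE'pc : ProCons.IsProConstructible (f ⁻¹' E) :=
    isProConstructible_of_isLocallyClosed S' _ h1 h2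
  have hEimg : f '' (f ⁻¹' E) = E := Set.image_preimage_eq E hsurj
  have hEpc : ProCons.IsProConstructible E := by
    rw [← hEimg]
    exact Groth.Agent.S3398.result f _ hE'pc
  have hcl : f '' closure (f ⁻¹' E) = closure E := (Groth.Agent.S14788.result f).mp hS E hEpc
  have hdiffcl : IsClosed (closure (f ⁻¹' E) \ f ⁻¹' E) := by
    have := h1.isOpen_coborder
    rw [coborder] at this
    exact isOpen_compl_iff.mp this
  have hT : closure E \ E = f '' (closure (f ⁻¹' E) \ f ⁻¹' E) := by
    apply subset_antisymm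
    · rintro t ⟨ht1, ht2⟩
      rw [← hcl] at ht1
      obtain ⟨c, hc, rfl⟩ := ht1
      exact ⟨c, ⟨hc, ht2⟩, rfl⟩
    · rintro _ ⟨c, ⟨hc1, hc2⟩, rfl⟩
      refine ⟨?_, hc2⟩
      rw [← hcl]
      exact ⟨c, hc1, rfl⟩
  have hTpc : ProCons.IsProConstructible (closure E \ E) := by
    rw [hT]
    exact Groth.Agent.S3398.result f _ (isProConstructible_of_isClosed S' _ hdiffcl)
  have hTstable : StableUnderSpecialization (closure E \ E) := by
    rintro t t₁ htt ⟨ht1, ht2⟩
    refine ⟨isClosed_closure.stableUnderSpecialization htt ht1, fun ht₁E => ht2 ?_⟩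
    obtain ⟨e, heE, het⟩ :=
      Groth.Agent.Lib.Helper5.exists_specializes_of_mem_closure S E hEpc t ht1
    obtain ⟨x₀, x₁, x₂, hx₀₁, hx₁₂, hx₀, hx₁, hx₂⟩ := exists_chain_lift f hf het htt
    obtain ⟨O, Z, hO, hZ, hOZ⟩ := h1
    have hx₀E : x₀ ∈ f ⁻¹' E := by show f x₀ ∈ E; rw [hx₀]; exact heE
    have hx₂E : x₂ ∈ f ⁻¹' E := by show f x₂ ∈ E; rw [hx₂]; exact ht₁E
    rw [hOZ] at hx₀E hx₂E
    have hx₁E : x₁ ∈ f ⁻¹' E := by
      rw [hOZ]
      exact ⟨hx₁₂.mem_open hO hx₂E.1, hx₀₁.mem_closed hZ hx₀E.2⟩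
    have : f x₁ ∈ E := hx₁E
    rwa [hx₁] at this
  have hTclosed : IsClosed (closure E \ E) := by
    rw [← closure_eq_iff_isClosed]
    apply subset_antisymm _ subset_closure
    intro p hp
    obtain ⟨z, hz, hzp⟩ := Groth.Agent.Lib.Helper5.exists_specializes_of_mem_closure S _ hTpc p hp
    exact hTstable hzp hz
  rw [isLocallyClosed_iff_isOpen_coborder, coborder]
  exact hTclosed.isOpen_compl

/-- Let f : S' ⟶ S be a quasi-compact morphism of schemes every base change of which has the lifting
property for ordered pairs of points, and E ⊆ S any subset. For E to be both locally closed and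
retrocompact it is necessary and sufficient that f⁻¹(E) be both. -/
theorem result {S' S : Scheme.{u}} (f : S' ⟶ S)
    [QuasiCompact f] (hf : Subtr.UnivSSubtrusive f) (E : Set S) :
    (IsLocallyClosed E ∧ IsRetrocompact E) ↔
      (IsLocallyClosed (f ⁻¹' E) ∧ IsRetrocompact (f ⁻¹' E)) := by
  constructor
  · rintro ⟨h1, h2⟩
    exact ⟨h1.preimage f.continuous, isRetrocompact_of_isProConstructible S' _
      (Groth.Agent.Lib.Helper5.isProConstructible_preimage f E
        (isProConstructible_of_isLocallyClosed S E h1 h2))⟩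
  · rintro ⟨h1, h2⟩
    refine ⟨isLocallyClosed_of_preimage f hf E h1 h2, ?_⟩
    have hS : Subtr.IsSSubtrusive f := hf (𝟙 S') (𝟙 S) f (IsPullback.id_vert f)
    have hsurj : Function.Surjective f := by
      intro y
      obtain ⟨x, _, _, hx, _⟩ := hS (specializes_refl y)
      exact ⟨x, hx⟩
    intro U hUc hUo
    have h3 : IsCompact (f ⁻¹' E ∩ f ⁻¹' U) :=
      h2 (QuasiCompact.isCompact_preimage U hUo hUc) (hUo.preimage f.continuous)
    have h4 : E ∩ U = f '' (f ⁻¹' E ∩ f ⁻¹' U) := by
      rw [← Set.preimage_inter, Set.image_preimage_eq _ hsurj]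
    rw [h4]
    exact h3.image f.continuous

end Groth.Agent.S14783
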