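import Groth.Statements.S14791
import Groth.Agent.Lib.Seat68SubtrLim

set_option autoImplicit false
universe u
open CategoryTheory CategoryTheory.Limits AlgebraicGeometry
open Subtr

namespace Groth.Agent.S14791

open Groth.Agent.Lib.Helper22.LimBC Groth.Agent.Lib.Seat68.SubtrLim

/-- Let S = lim S_i be a cofiltered limit of schemes with affine transition morphisms, Y₀ a scheme over
a stage S_{i₀}, f₀ : X₀ ⟶ Y₀ a quasi-compact morphism, and write f_i, f for the base changes of f₀
to the stages S_i and to S (realised as second projections of fibre products). If there is a stage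
S_{i₁} such that f_i has the lifting property for ordered pairs of points for every stage S_i over
S_{i₁}, then f has it. (The published statement is about subtrusive morphisms and assumes f a
quotient map for the constructible topologies; this row keeps only the lifting property and assumes
f₀ quasi-compact, which makes the fibres quasi-compact as the filtered-intersection step of the
argument requires.) -/
theorem result {I : Type u} [SmallCategory I] [IsCofiltered I]
    (D : I ⥤ Scheme.{u}) (c : Limits.Cone D) (hc : Limits.IsLimit c)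
    [∀ (i j : I) (a : i ⟶ j), IsAffineHom (D.map a)] (i₀ : I)
    {X₀ Y₀ : Scheme.{u}} (f₀ : X₀ ⟶ Y₀) (g₀ : Y₀ ⟶ D.obj i₀) [QuasiCompact f₀]
    (h : ∃ (i₁ : I) (ψ : i₁ ⟶ i₀), ∀ (i : I) (φ : i ⟶ i₁),
      Subtr.IsSSubtrusive (pullback.snd f₀ (pullback.fst g₀ (D.map (φ ≫ ψ))))) :
    Subtr.IsSSubtrusive (pullback.snd f₀ (pullback.fst g₀ (c.π.app i₀))) := by
  have inst : ∀ {i j : I} (a : i ⟶ j), IsAffineHom (D.map a) := fun a => inferInstance
  obtain ⟨i₁, ψ, hh⟩ := h
  have hY := IsPullback.of_hasPullback g₀ (c.π.app i₀)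
  have hX := IsPullback.of_hasPullback f₀ (pullback.fst g₀ (c.π.app i₀))
  refine isSSubtrusive_of_isLimit D c hc i₀ f₀ g₀ _ _ _ _ hY hX
    (fun j => ∃ (i : I) (φ : i ⟶ i₁), j = Over.mk (φ ≫ ψ)) ?_ ?_
  · intro j
    obtain ⟨k, a, b, hab⟩ := IsCofiltered.cospan j.hom ψ
    exact ⟨Over.mk (b ≫ ψ), ⟨k, b, rfl⟩, ⟨Over.homMk a (by simpa using hab)⟩⟩
  · rintro _ ⟨i, φ, rfl⟩
    have hsub := hh i φ
    have sq := isPullback_bcMor D i₀ f₀ g₀ (Over.mk (φ ≫ ψ))
    rw [← sq.isoPullback_hom_snd]
    exact isSSubtrusive_iso_comp _ _ hsub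

end Groth.Agent.S14791
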