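import Groth.Statements.S14822
import Groth.Agent.Lib.Seat85ProperNormal2
import Groth.Agent.Lib.Seat66FibDegGen

set_option autoImplicit false
universe u
open CategoryTheory CategoryTheory.Limits AlgebraicGeometry
open CohIII

namespace Groth.Agent.S14822

/-- Let k be a field and f : X → Y a surjective k-morphism between integral proper k-schemes of the same
dimension, with Y normal (all local rings integrally closed domains). Then f is a fibration (Γ(U,
O_Y) → Γ(f⁻¹U, O_X) bijective for every open U ⊆ Y) if and only if f is birational: the embedding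
K(Y) → K(X) of function fields given by the stalk map at the generic points is bijective. -/
theorem result (k : Type u) [Field k]
    (X Y : Scheme.{u}) [X.Over (Spec (CommRingCat.of k))] [Y.Over (Spec (CommRingCat.of k))]
    [IsProper (X ↘ Spec (CommRingCat.of k))] [IsProper (Y ↘ Spec (CommRingCat.of k))] [IsIntegral X] [IsIntegral Y]
    (hY : Pi1.IsNormalScheme Y) (f : X ⟶ Y) [Surjective f] (hf : f ≫ (Y ↘ Spec (CommRingCat.of k)) = X ↘ Spec (CommRingCat.of k))
    (hdim : topologicalKrullDim ↥X = topologicalKrullDim ↥Y)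
    (h : f.base (genericPoint ↥X) ⤳ genericPoint ↥Y) :
    (∀ U : Y.Opens, IsIso (f.app U)) ↔ Function.Bijective (CohIII.stalkToFunctionField f (genericPoint ↥Y) h) := by
  have hprop : IsProper f := by
    have : IsProper (f ≫ (Y ↘ Spec (CommRingCat.of k))) := hf ▸ inferInstance
    exact IsProper.of_comp f (Y ↘ Spec (CommRingCat.of k))
  constructor
  · intro hiso
    refine ⟨(CohIII.stalkToFunctionField f (genericPoint ↥Y) h).injective, ?_⟩
    obtain ⟨W, hW, hηW, hfin, -⟩ :=
      Groth.Agent.Lib.Seat66.FibDegGen.exists_affine_finite_flat k f hf hdim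
    have hWa : IsAffine ((W : Y.Opens) : Scheme.{u}) := hW
    have hU' : IsAffine ((f ⁻¹ᵁ W : X.Opens) : Scheme.{u}) := isAffine_of_isAffineHom (f ∣_ W)
    have hU : IsAffineOpen (f ⁻¹ᵁ W) := hU'
    have hηX := Groth.Agent.Lib.Seat85.ProperNormal.genericPoint_mem_preimage f h W hηW
    have : Nonempty W := ⟨⟨_, hηW⟩⟩
    have : Nonempty (f ⁻¹ᵁ W : X.Opens) := ⟨⟨_, hηX⟩⟩
    have := functionField_isFractionRing_of_isAffineOpen X (f ⁻¹ᵁ W) hU
    have := hiso W
    have hsurj := (ConcreteCategory.bijective_of_isIso (f.app W)).2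
    intro x
    obtain ⟨b, b', hb', rfl⟩ := IsFractionRing.div_surjective (A := Γ(X, f ⁻¹ᵁ W)) x
    obtain ⟨a, rfl⟩ := hsurj b
    obtain ⟨a', rfl⟩ := hsurj b'
    refine ⟨algebraMap Γ(Y, W) Y.functionField a / algebraMap Γ(Y, W) Y.functionField a', ?_⟩
    rw [map_div₀]
    congr 1
    · exact Groth.Agent.Lib.Seat85.ProperNormal.stalkToFunctionField_germ f h W hηW a
    · exact Groth.Agent.Lib.Seat85.ProperNormal.stalkToFunctionField_germ f h W hηW a'
  · intro hbij U
    refine Groth.Agent.Lib.Seat85.ProperNormal.isIso_app_of_normal f hY h ?_ U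
    intro x _
    exact hbij.2 x

end Groth.Agent.S14822
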