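import Groth.Statements.S14875
-- import your own Groth.Agent.* helpers here
import Groth.Agent.S14873
import Mathlib.Algebra.Lie.Engel
import Mathlib.Algebra.Lie.Killing
import Mathlib.LinearAlgebra.BilinearForm.Orthogonal

set_option autoImplicit false
universe u v
open PLie

namespace Groth.Agent.S14875

open LieAlgebra LieModule in
/-- If `U ≤ H` are Lie subalgebras, `H` normalises `U` and every element of `U` is ad-nilpotent on
`L`, then `H` and `U` are orthogonal for the Killing form. -/
theorem killingForm_eq_zero_of_normalizes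
    {k : Type u} [Field k] {L : Type v} [LieRing L] [LieAlgebra k L] [Module.Finite k L]
    (U H : LieSubalgebra k L) (hnorm : ∀ h ∈ H, ∀ u ∈ U, ⁅h, u⁆ ∈ U)
    (hnil : ∀ u ∈ U, IsNilpotent (LieAlgebra.ad k L u))
    (h : L) (hh : h ∈ H) (u : L) (hu : u ∈ U) : killingForm k L h u = 0 := by
  have : LieModule.IsNilpotent ↥U L := by
    rw [LieModule.isNilpotent_iff_forall' (R := k)]
    rintro ⟨x, hx⟩
    rw [LieSubalgebra.toEnd_mk]
    exact hnil x hx
  obtain ⟨n, hn⟩ := LieModule.IsNilpotent.nilpotent k ↥U L
  -- the lower central series (as a `U`-module) is stable under `H`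
  have hstab : ∀ i : ℕ, ∀ m ∈ lowerCentralSeries k ↥U L i, ⁅h, m⁆ ∈ lowerCentralSeries k ↥U L i := by
    intro i
    induction i with
    | zero => intro m _; simp
    | succ i ih =>
      intro m hm
      rw [lowerCentralSeries_succ] at hm
      rw [← LieSubmodule.mem_toSubmodule] at hm ⊢
      rw [LieSubmodule.lieIdeal_oper_eq_linear_span] at hm
      induction hm using Submodule.span_induction with
      | mem x hx =>
        obtain ⟨⟨⟨v, hv⟩, _⟩, ⟨w, hw⟩, rfl⟩ := hx
        change ⁅h, ⁅v, w⁆⁆ ∈ _
        rw [leibniz_lie]
        refine add_mem ?_ ?_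
        · rw [LieSubmodule.mem_toSubmodule, lowerCentralSeries_succ]
          exact LieSubmodule.lie_mem_lie (I := (⊤ : LieIdeal k ↥U))
            (x := ⟨⁅h, v⁆, hnorm h hh v hv⟩) (LieSubmodule.mem_top _) hw
        · rw [LieSubmodule.mem_toSubmodule, lowerCentralSeries_succ]
          exact LieSubmodule.lie_mem_lie (I := (⊤ : LieIdeal k ↥U))
            (x := ⟨v, hv⟩) (LieSubmodule.mem_top _) (ih w hw)
      | zero => simp
      | add x y _ _ hx hy => rw [lie_add]; exact add_mem hx hy
      | smul c x _ hx => rw [lie_smul]; exact Submodule.smul_mem _ c hx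
  -- hence `ad h ∘ ad u` pushes the series down
  have hpow : ∀ i : ℕ, ∀ m : L,
      ((LieAlgebra.ad k L h ∘ₗ LieAlgebra.ad k L u) ^ i) m ∈ lowerCentralSeries k ↥U L i := by
    intro i
    induction i with
    | zero => intro m; simp
    | succ i ih =>
      intro m
      rw [pow_succ', Module.End.mul_apply]
      apply hstab
      rw [lowerCentralSeries_succ]
      exact LieSubmodule.lie_mem_lie (I := (⊤ : LieIdeal k ↥U))
        (x := ⟨u, hu⟩) (LieSubmodule.mem_top _) (ih m)
  have hN : IsNilpotent (LieAlgebra.ad k L h ∘ₗ LieAlgebra.ad k L u) := by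
    refine ⟨n, ?_⟩
    ext m
    have := hpow n m
    rw [hn] at this
    simpa using this
  rw [killingForm_apply_apply]
  exact (LinearMap.isNilpotent_trace_of_isNilpotent hN).eq_zero

/-- Let `L` be a finite-dimensional Lie algebra over a field of characteristic `p` equipped with a
`p`-mapping `φ`, whose Killing form is non-degenerate. Let `U` and `H` be Lie subalgebras of `L`
such that `H` is the normaliser of `U`, `U` is the set of elements of `H` that lie in the solvable
radical of `H` and are `p`-nilpotent, and the orthogonal of `U` for the Killing form is closed under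
the bracket. Then `U` is the orthogonal of `H` for the Killing form. (The published statement is for
the Lie algebra of a reductive group over a field of characteristic `p` with its canonical
`p`-structure; this row states it for any finite-dimensional Lie algebra with a `p`-mapping.) -/
theorem result
    (k : Type u) [Field k] (p : ℕ) [Fact p.Prime] [CharP k p]
    (L : Type v) [LieRing L] [LieAlgebra k L] [Module.Finite k L]
    (φ : PLie.PMap k p L) (hκ : (killingForm k L).Nondegenerate)
    (U H : LieSubalgebra k L) (hH : H = U.normalizer)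
    (hU : ∀ x : L, x ∈ U ↔ ∃ hx : x ∈ H, (⟨x, hx⟩ : ↥H) ∈ LieAlgebra.radical k ↥H ∧ PLie.IsPNilpotent φ x)
    (hperp : ∀ a b : L, (∀ y ∈ U, killingForm k L a y = 0) → (∀ y ∈ U, killingForm k L b y = 0) →
      ∀ y ∈ U, killingForm k L ⁅a, b⁆ y = 0) :
    ∀ x : L, x ∈ U ↔ ∀ h ∈ H, killingForm k L h x = 0 := by
  classical
  -- `U ≤ H` and the elements of `U` are ad-nilpotent
  have hUH : ∀ x ∈ U, x ∈ H := fun x hx => ((hU x).1 hx).1
  have hnil : ∀ x ∈ U, IsNilpotent (LieAlgebra.ad k L x) := fun x hx =>
    Groth.Agent.S14873.isNilpotent_ad_of_isPNilpotent φ x ((hU x).1 hx).2.2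
  have hnorm : ∀ h ∈ H, ∀ u ∈ U, ⁅h, u⁆ ∈ U := by
    intro h hh u hu
    rw [hH] at hh
    exact (LieSubalgebra.mem_normalizer_iff U h).1 hh u hu
  -- first half: `H ⟂ U`
  have h1 : ∀ h ∈ H, ∀ u ∈ U, killingForm k L h u = 0 := fun h hh u hu =>
    killingForm_eq_zero_of_normalizes U H hnorm hnil h hh u hu
  -- symmetry and double orthogonal
  have hsymm : ∀ a b : L, killingForm k L a b = killingForm k L b a :=
    fun a b => LieModule.traceForm_comm k L L a b
  have hrefl : (killingForm k L).IsRefl := (LieModule.traceForm_isSymm k L L).isRefl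
  have hdd := LinearMap.BilinForm.orthogonal_orthogonal (B := killingForm k L) hκ hrefl
    (U : Submodule k L)
  -- membership in `U` via the double orthogonal
  have hmemU : ∀ x : L, (∀ a : L, (∀ y ∈ U, killingForm k L a y = 0) → killingForm k L a x = 0) →
      x ∈ U := by
    intro x hx
    have : x ∈ (killingForm k L).orthogonal ((killingForm k L).orthogonal (U : Submodule k L)) := by
      rw [LinearMap.BilinForm.mem_orthogonal_iff]
      intro a ha
      rw [LinearMap.BilinForm.mem_orthogonal_iff] at ha
      change killingForm k L a x = 0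
      apply hx
      intro y hy
      have := ha y hy
      change killingForm k L y a = 0 at this
      rw [hsymm]; exact this
    rw [hdd] at this
    exact this
  -- the orthogonal of `U` normalises `U`, hence lies in `H`
  have hPH : ∀ b : L, (∀ y ∈ U, killingForm k L b y = 0) → b ∈ H := by
    intro b hb
    rw [hH, LieSubalgebra.mem_normalizer_iff]
    intro u hu
    apply hmemU
    intro a ha
    have h3 := hperp a b ha hb u hu
    have h4 := LieModule.traceForm_apply_lie_apply k L L a b u
    change killingForm k L ⁅a, b⁆ u = killingForm k L a ⁅b, u⁆ at h4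
    rw [← h4]; exact h3
  intro x
  constructor
  · intro hx h hh
    exact h1 h hh x hx
  · intro hx
    apply hmemU
    intro a ha
    exact hx a (hPH a ha)

end Groth.Agent.S14875
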