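import Groth.Statements.S14896
-- import your own Groth.Agent.* helpers here
import Mathlib.RingTheory.Unramified.LocalStructure
import Mathlib.RingTheory.QuasiFinite.Basic
import Mathlib.RingTheory.Etale.Basic
import Mathlib.RingTheory.Localization.Away.Basic

set_option autoImplicit false
universe u
open CAlg

namespace Groth.Agent.S14896

/-- In a commutative ring with finite prime spectrum, for a prime `P` there is `f ∉ P` such that
every prime not containing `f` is contained in `P` (the generizations of `P` form a basic open). -/
theorem exists_notMem_forall_prime_le (B : Type u) [CommRing B] [Finite (PrimeSpectrum B)]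
    (P : Ideal B) [P.IsPrime] :
    ∃ f : B, f ∉ P ∧ ∀ Q : Ideal B, Q.IsPrime → f ∉ Q → Q ≤ P := by
  classical
  have := Fintype.ofFinite (PrimeSpectrum B)
  have hex : ∀ Q : PrimeSpectrum B, ∃ g : B, g ∉ P ∧ (¬ Q.asIdeal ≤ P → g ∈ Q.asIdeal) := by
    intro Q
    by_cases h : Q.asIdeal ≤ P
    · exact ⟨1, fun h1 => (Ideal.IsPrime.ne_top ‹P.IsPrime›) ((Ideal.eq_top_iff_one P).2 h1),
        fun h' => absurd h h'⟩
    · obtain ⟨g, hgQ, hgP⟩ := Set.not_subset.1 h
      exact ⟨g, hgP, fun _ => hgQ⟩
  choose g hgP hgQ using hex
  refine ⟨∏ Q, g Q, ?_, ?_⟩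
  · intro h
    obtain ⟨Q, _, hQ⟩ := Ideal.IsPrime.prod_mem_iff.1 h
    exact hgP Q hQ
  · intro Q hQ hf
    by_contra hle
    apply hf
    exact Ideal.mul_mem_left _ _ (hgQ ⟨Q, hQ⟩ hle) |> fun h => by
      rw [← Finset.prod_erase_mul _ _ (Finset.mem_univ (⟨Q, hQ⟩ : PrimeSpectrum B))]
      exact h

/-- Localisation at a prime of a ring with finite spectrum is a localisation away from an element. -/
theorem isLocalization_atPrime_away (B : Type u) [CommRing B] [Finite (PrimeSpectrum B)]
    (P : Ideal B) [P.IsPrime] :
    ∃ f : B, f ∉ P ∧ IsLocalization.AtPrime (Localization.Away f) P := by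
  obtain ⟨f, hfP, hf⟩ := exists_notMem_forall_prime_le B P
  refine ⟨f, hfP, ?_⟩
  refine IsLocalization.of_le (S := Localization.Away f) (Submonoid.powers f) P.primeCompl ?_ ?_
  · rintro _ ⟨n, rfl⟩
    exact fun h => hfP (Ideal.IsPrime.mem_of_pow_mem ‹_› n h)
  · intro s hs
    by_contra hu
    obtain ⟨m, hm, hsm⟩ := exists_max_ideal_of_mem_nonunits (show algebraMap B (Localization.Away f) s ∈ nonunits _ from hu)
    have hQ : (m.comap (algebraMap B (Localization.Away f))).IsPrime := Ideal.comap_isPrime _ _
    have hfQ : f ∉ m.comap (algebraMap B (Localization.Away f)) := by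
      intro h
      exact hm.ne_top (Ideal.eq_top_of_isUnit_mem _ h (IsLocalization.Away.algebraMap_isUnit f))
    exact hs (hf _ hQ hfQ hsm)

/-- Let L/K be a finite extension of valued fields, v_L extending v_K, with K° = the valuation ring of
v_K having finite spectrum (finite height), and L° the valuation ring of v_L. If L° is local-étale
over K°, i.e. L° is the localization at a prime ideal of some étale K°-algebra B compatibly with the
K°-algebra structures, then L° is étale over K°. (For valued fields of finite height 'unramified' in
the local-étale sense is thus the same as K° → L° étale; the published lemma phrases the hypothesis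
as 'L/K unramified'.) -/
theorem result
    {K L Γ₀ Γ₁ : Type u} [Field K] [Field L] [Algebra K L] [FiniteDimensional K L]
    [LinearOrderedCommGroupWithZero Γ₀] [LinearOrderedCommGroupWithZero Γ₁]
    (vK : Valuation K Γ₀) (vL : Valuation L Γ₁) [vK.HasExtension vL]
    [Finite (PrimeSpectrum vK.valuationSubring)]
    (B : Type u) [CommRing B] [Algebra vK.valuationSubring B] [Algebra.Etale vK.valuationSubring B]
    [Algebra B vL.valuationSubring] [IsScalarTower vK.valuationSubring B vL.valuationSubring]
    (P : Ideal B) [P.IsPrime] [IsLocalization.AtPrime vL.valuationSubring P] :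
    Algebra.Etale vK.valuationSubring vL.valuationSubring := by
  classical
  have : Algebra.QuasiFinite vK.valuationSubring B := inferInstance
  have : Finite (PrimeSpectrum B) := Algebra.QuasiFinite.finite_primeSpectrum vK.valuationSubring B
  obtain ⟨f, hfP, hloc⟩ := isLocalization_atPrime_away B P
  have := hloc
  have : Algebra.Etale B (Localization.Away f) := inferInstance
  have : Algebra.Etale vK.valuationSubring (Localization.Away f) :=
    Algebra.Etale.comp vK.valuationSubring B (Localization.Away f)
  let e : Localization.Away f ≃ₐ[B] vL.valuationSubring :=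
    IsLocalization.algEquiv P.primeCompl (Localization.Away f) vL.valuationSubring
  exact Algebra.Etale.of_equiv (e.restrictScalars vK.valuationSubring)

end Groth.Agent.S14896
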