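import Groth.Statements.S14901
import Groth.Agent.Lib.Seat66CharCycFib
import Groth.Agent.Lib.Helper4DimFormulaAP

set_option autoImplicit false
universe u
open MovLem

open Groth.Agent.Lib.Helper4.VarDim Groth.Agent.Lib.Helper4.DimFormula Groth.Agent.Lib.Helper4.FibDim Groth.Agent.Lib.Seat66.CharCycTop Groth.Agent.Lib.Seat66.CharCycBase Groth.Agent.Lib.Seat66.CharCycFib
open Topology TopologicalSpace

set_option linter.style.haveILetI false

namespace Groth.Agent.S14901

open AlgebraicGeometry CategoryTheory in
/-- Let k be a field, let S and X be separated k-schemes of finite type that are locally equidimensional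
(all irreducible components passing through a given point have the same dimension), let f : S → X be
a k-morphism and Z ⊆ X a closed subset. Let d be the dimension of the image f(S), as a subspace of
X. If every point s of S with f(s) ∈ Z satisfies dim O_{S,s} ≥ d + 1 (equivalently: the closed
subset f⁻¹(Z) of S has local codimension at least d + 1 at each of its points), then f⁻¹(Z) is
empty. -/
theorem result (k : Type u) [Field k] (S X : Scheme.{u})
    (pS : S ⟶ Spec (CommRingCat.of k)) (pX : X ⟶ Spec (CommRingCat.of k))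
    [IsSeparated pS] [LocallyOfFiniteType pS] [QuasiCompact pS]
    [IsSeparated pX] [LocallyOfFiniteType pX] [QuasiCompact pX]
    (hS : ∀ (s : S) (A B : Set S), A ∈ irreducibleComponents (S : Type u) → B ∈ irreducibleComponents (S : Type u) →
      s ∈ A → s ∈ B → topologicalKrullDim A = topologicalKrullDim B)
    (hX : ∀ (x : X) (A B : Set X), A ∈ irreducibleComponents (X : Type u) → B ∈ irreducibleComponents (X : Type u) →
      x ∈ A → x ∈ B → topologicalKrullDim A = topologicalKrullDim B)
    (f : S ⟶ X) (hf : f ≫ pX = pS) (Z : Set X) (hZ : IsClosed Z)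
    (h : ∀ s : S, f.base s ∈ Z →
      topologicalKrullDim (Set.range f.base) + 1 ≤ ringKrullDim (S.presheaf.stalk s)) :
    f.base ⁻¹' Z = ∅ := by
  classical
  letI : X.Over (Spec (CommRingCat.of k)) := ⟨pX⟩
  letI : S.Over (Spec (CommRingCat.of k)) := ⟨pS⟩
  haveI : LocallyOfFiniteType (X ↘ Spec (CommRingCat.of k)) :=
    inferInstanceAs (LocallyOfFiniteType pX)
  haveI : LocallyOfFiniteType (S ↘ Spec (CommRingCat.of k)) :=
    inferInstanceAs (LocallyOfFiniteType pS)
  haveI : CompactSpace S := QuasiCompact.compactSpace_of_compactSpace pS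
  haveI : CompactSpace X := QuasiCompact.compactSpace_of_compactSpace pX
  haveI : IsNoetherian S := isNoetherian_of_lft k pS
  haveI : IsNoetherian X := isNoetherian_of_lft k pX
  haveI : LocallyOfFiniteType (f ≫ pX) := by rw [hf]; infer_instance
  haveI : LocallyOfFiniteType f := locallyOfFiniteType_of_comp f pX
  have hfk : f ≫ (X ↘ Spec (CommRingCat.of k)) = (S ↘ Spec (CommRingCat.of k)) := hf
  by_contra hne
  obtain ⟨s, hs⟩ := Set.nonempty_iff_ne_empty.mpr hne
  obtain ⟨η, hηcomp, hηs⟩ := exists_generic_specializes s
  obtain ⟨y, hy1, hys, hy2⟩ := exists_ptTrdeg_eq_fibreDimAt f s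
  have hyZ : f.base y ∈ Z := by rw [hy1]; exact hs
  have h1 : ptTrdeg f η ≤ ptTrdeg f y := by
    have := (ptTrdeg_le_fibreDimAt f η).trans (fibreDimAt_le_of_specializes f η s hηs)
    rw [hy2] at this
    exact_mod_cast this
  have tη : trdegNat k S η = trdegNat k X (f η) + ptTrdeg f η :=
    trdegNat_eq_add_fiber k f hfk (f η) (f.asFiber η) η (f.fiberι_asFiber η)
  have ty : trdegNat k S y = trdegNat k X (f y) + ptTrdeg f y :=
    trdegNat_eq_add_fiber k f hfk (f y) (f.asFiber y) y (f.fiberι_asFiber y)
  have hA : ((trdegNat k X (f η) : ℕ) : WithBot ℕ∞) ≤ topologicalKrullDim (Set.range f.base) := by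
    have hC : IsConstructible (Set.range f.base) := by
      rw [← Set.image_univ]
      exact f.isConstructible_image IsConstructible.univ
    obtain ⟨O, hO, hξO, hdich⟩ := exists_open_dichotomy hC (f η)
    have hsub : closure {f η} ∩ O ⊆ Set.range f.base := by
      rcases hdich with h' | h'
      · exact h'
      · exact absurd ⟨η, rfl⟩ (h' ⟨subset_closure rfl, hξO⟩)
    obtain ⟨U, hU, hξU, hUO⟩ :=
      exists_isAffineOpen_mem_and_subset (U := ⟨O, hO⟩) (x := f η) hξO
    exact trdegNat_le_topologicalKrullDim_of_subset k X hU (f η) hξU _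
      (fun z hz => hsub ⟨hz.1, hUO hz.2⟩)
  obtain ⟨b, hb⟩ := exists_ringKrullDim_stalk_eq k S y
  have hloc := localDim_eq_add k S y (trdegNat k S y) b (trdeg_eq_trdegNat k S y) hb
  have hC : b + trdegNat k S y ≤ trdegNat k S η := by
    have hfin : (irreducibleComponents S).Finite := NoetherianSpace.finite_irreducibleComponents
    have hclosed : IsClosed (⋃₀ {A ∈ irreducibleComponents S | y ∉ A}) := by
      rw [Set.sUnion_eq_biUnion]
      exact (hfin.subset fun A hA => hA.1).isClosed_biUnion
        fun A hA => isClosed_of_mem_irreducibleComponents A hA.1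
    let U : Opens S := ⟨(⋃₀ {A ∈ irreducibleComponents S | y ∉ A})ᶜ, hclosed.isOpen_compl⟩
    have hyU : y ∈ U := by
      rintro ⟨A, hA, hyA⟩
      exact hA.2 hyA
    have h3 := Groth.Agent.Lib.Helper7.TopDim.localDim_le y U hyU
    have h4 : topologicalKrullDim (U : Set S) ≤ ((trdegNat k S η : ℕ) : WithBot ℕ∞) := by
      refine topologicalKrullDim_le_of_isLocallyClosed k _ U.isOpen.isLocallyClosed _ fun u hu => ?_
      have hA := irreducibleComponent_mem_irreducibleComponents u
      have hyA : y ∈ irreducibleComponent u := by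
        by_contra hcon
        exact hu ⟨_, ⟨hA, hcon⟩, mem_irreducibleComponent⟩
      have hAc := isClosed_of_mem_irreducibleComponents _ hA
      have hsA : s ∈ irreducibleComponent u := hys.mem_closed hAc hyA
      have hsB : s ∈ closure {η} := specializes_iff_mem_closure.mp hηs
      have hdim := hS s _ _ hA hηcomp hsA hsB
      have h5 := trdegNat_le_topologicalKrullDim_of_isLocallyClosed k S _ hAc.isLocallyClosed u
        mem_irreducibleComponent
      rw [hdim, topologicalKrullDim_closure_singleton k S η] at h5
      exact h5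
    rw [hloc] at h3
    have h5 := h3.trans h4
    have h6 : trdegNat k S y + b ≤ trdegNat k S η := by exact_mod_cast h5
    omega
  have hfin := h y hyZ
  rw [hb] at hfin
  have h6 : ((trdegNat k X (f η) : ℕ) : WithBot ℕ∞) + 1 ≤ (b : WithBot ℕ∞) :=
    (add_le_add hA le_rfl).trans hfin
  have h7 : trdegNat k X (f η) + 1 ≤ b := by exact_mod_cast h6
  omega

end Groth.Agent.S14901
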