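import Groth.Statements.S14985
import Groth.Agent.Lib.Seat14TensorPowFree

set_option autoImplicit false
universe u
open CAlg

namespace Groth.Agent.S14985


open TensorProduct Groth.Agent.Lib.Seat14 in
/-- Tensor powers of a finitely generated projective module are projective, with the evident
recursive description. -/
theorem aux_proj (R : Type u) [CommRing R] (P : Type u) [AddCommGroup P] [Module R P]
    [Module.Projective R P] : ∀ j : ℕ, Module.Projective R (TensorPower R j P) := by
  intro j
  induction j with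
  | zero =>
    exact Module.Projective.of_equiv (PiTensorProduct.isEmptyEquiv (R := R) (s := fun _ : Fin 0 => P)
      (Fin 0)).symm
  | succ j ih =>
    have e1 : TensorPower R 1 P ≃ₗ[R] P := PiTensorProduct.subsingletonEquiv (0 : Fin 1)
    have : Module.Projective R (TensorPower R 1 P) := Module.Projective.of_equiv e1.symm
    exact Module.Projective.of_equiv (TensorPower.mulEquiv (R := R) (M := P) (n := j) (m := 1))

/-- Let R be a Noetherian commutative ring of finite Krull dimension and P a finitely generated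
projective R-module. If the n-th tensor power of P is free for some n ≥ 1, then the direct sum of N
copies of P is free for some N ≥ 1. -/
theorem result (R : Type u) [CommRing R] [IsNoetherianRing R]
    (hdim : ringKrullDim R < ⊤) (P : Type u) [AddCommGroup P] [Module R P] [Module.Finite R P]
    [Module.Projective R P] (n : ℕ) (hn : 1 ≤ n) (hfree : Module.Free R (TensorPower R n P)) :
    ∃ N : ℕ, 1 ≤ N ∧ Module.Free R (Fin N → P) := by
  classical
  -- trivial ring
  rcases subsingleton_or_nontrivial R with hR | hR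
  · have : Subsingleton (Fin 1 → P) := Module.subsingleton R _
    exact ⟨1, le_refl 1, Module.Free.of_subsingleton R _⟩
  have hproj := aux_proj R P
  -- the family of tensor powers
  let T : ℕ → Type u := fun j => TensorPower R j P
  let e0 : T 0 ≃ₗ[R] R := PiTensorProduct.isEmptyEquiv (R := R) (s := fun _ : Fin 0 => P) (Fin 0)
  let e1 : TensorPower R 1 P ≃ₗ[R] P := PiTensorProduct.subsingletonEquiv (0 : Fin 1)
  let es : ∀ j, T (j + 1) ≃ₗ[R] TensorProduct R P (T j) := fun j =>
    (TensorPower.mulEquiv (R := R) (M := P) (n := j) (m := 1)).symm ≪≫ₗ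
      (TensorProduct.congr (LinearEquiv.refl R (TensorPower R j P)) e1) ≪≫ₗ
      TensorProduct.comm R _ _
  -- ranks
  have hrkT : ∀ j, Module.rankAtStalk (R := R) (T j) = (Module.rankAtStalk (R := R) P) ^ j := by
    intro j
    induction j with
    | zero =>
      rw [Module.rankAtStalk_eq_of_equiv e0, Module.rankAtStalk_self, pow_zero]
    | succ j ih =>
      rw [Module.rankAtStalk_eq_of_equiv (es j), Module.rankAtStalk_tensorProduct, ih, pow_succ,
        mul_comm]
  let m := Module.finrank R (TensorPower R n P)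
  have en0 : T n ≃ₗ[R] (Fin m → R) := Module.finBasis R (TensorPower R n P) |>.equivFun
  have hm : ∀ p : PrimeSpectrum R, (Module.rankAtStalk (R := R) P p) ^ n = m := by
    intro p
    have h1 := congrFun (hrkT n) p
    rw [Pi.pow_apply] at h1
    rw [← h1, Module.rankAtStalk_eq_finrank_of_free]
    rfl
  obtain ⟨p0⟩ : Nonempty (PrimeSpectrum R) := inferInstance
  let r := Module.rankAtStalk (R := R) P p0
  have hrk : ∀ p : PrimeSpectrum R, Module.rankAtStalk (R := R) P p = r := by
    intro p
    have := (hm p).trans (hm p0).symm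
    exact Nat.pow_left_injective (by omega : n ≠ 0) this
  rcases Nat.eq_zero_or_pos r with hr0 | hrpos
  · -- P is zero
    have hP : Subsingleton P := by
      rw [← Module.rankAtStalk_eq_zero_iff_subsingleton (R := R)]
      ext p
      rw [hrk p, hr0]; rfl
    exact ⟨1, le_refl 1, Module.Free.of_subsingleton R _⟩
  have en : T n ≃ₗ[R] (Fin (r ^ n) → R) :=
    en0 ≪≫ₗ LinearEquiv.funCongrLeft R R (finCongr (hm p0))
  -- the dimension
  obtain ⟨k, hk⟩ : ∃ k : ℕ, ringKrullDim R < k := by
    generalize ringKrullDim R = d at hdim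
    induction d with
    | bot => exact ⟨0, WithBot.bot_lt_coe _⟩
    | coe a =>
      induction a with
      | top => exact absurd hdim (lt_irrefl _)
      | coe b => exact ⟨b + 1, by exact_mod_cast Nat.lt_succ_self b⟩
  obtain ⟨N₁, hN₁, t, ⟨ε⟩⟩ := Groth.Agent.Lib.Seat14.TensorPowFree.main k R hk P r hrpos hrk n
    (by omega) T e0 es en
  have hrk' : ∀ p : PrimeSpectrum R,
      k + 1 ≤ (k + 1) * Module.rankAtStalk (R := R) (Fin N₁ → P) p := by
    intro p
    have h1 : Module.rankAtStalk (R := R) (Fin N₁ → P) p = N₁ * r := by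
      rw [Module.rankAtStalk_pi, finsum_eq_sum_of_fintype]
      simp [hrk]
    rw [h1]
    have : 1 ≤ N₁ * r := Nat.mul_pos hN₁ hrpos
    nlinarith
  obtain ⟨ε'⟩ := Groth.Agent.Lib.Seat14.BassCancel.pow_equiv k hk.le (k + 1) (Fin N₁ → P)
    (Fin (N₁ * r) → R) hrk' t
    (ε ≪≫ₗ (Groth.Agent.Lib.Seat14.TensorPowFree.finAddEquiv R (N₁ * r) t).symm)
  refine ⟨(k + 1) * N₁, Nat.mul_pos (Nat.succ_pos k) hN₁, ?_⟩
  have c : (Fin ((k + 1) * N₁) → P) ≃ₗ[R] (Fin (k + 1) → Fin N₁ → P) :=
    (LinearEquiv.funCongrLeft R P finProdFinEquiv) ≪≫ₗ LinearEquiv.curry R P (Fin (k + 1)) (Fin N₁)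
  exact Module.Free.of_equiv (c ≪≫ₗ ε').symm

end Groth.Agent.S14985
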