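import Groth.Statements.S14988
import Groth.Agent.Lib.Helper21ModTensor3
import Groth.Agent.Lib.Helper1FLF1
import Groth.Agent.Lib.Helper1Sky9

set_option autoImplicit false
universe u
open CategoryTheory CategoryTheory.Limits AlgebraicGeometry
open ResProp

namespace Groth.Agent.S14988
open Groth.Agent.Lib.Helper21.ModTensor3

/-- a functor preserving a coproduct: maps out of the image of the coproduct are determined on the
images of the injections -/
theorem hom_ext_of_preserves {C D : Type*} [Category C] [Category D] (G : C ⥤ D) {κ : Type*}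
    (V : κ → C) [HasCoproduct V] [PreservesColimit (Discrete.functor V) G] {Z : D}
    (a b : G.obj (∐ V) ⟶ Z) (h : ∀ l, G.map (Sigma.ι V l) ≫ a = G.map (Sigma.ι V l) ≫ b) : a = b := by
  have hc := isColimitOfPreserves G (coproductIsCoproduct V)
  refine hc.hom_ext ?_
  rintro ⟨l⟩
  exact h l

/-- `F ↦ W ⊗ f^* F` -/
noncomputable abbrev G {X Y : Scheme.{u}} (f : X ⟶ Y) (W : X.Modules) : Y.Modules ⥤ X.Modules :=
  Scheme.Modules.pullback f ⋙ tL X.sheaf W

instance {X Y : Scheme.{u}} (f : X ⟶ Y) (W : X.Modules) : PreservesColimitsOfSize.{u, u} (G f W) := by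
  have h1 : PreservesColimitsOfSize.{u, u} (Scheme.Modules.pullback f) :=
    (Scheme.Modules.pullbackPushforwardAdjunction f).leftAdjoint_preservesColimits
  have h2 : PreservesColimitsOfSize.{u, u} (tL X.sheaf W) := inferInstance
  exact @comp_preservesColimits _ _ _ _ _ _ (Scheme.Modules.pullback f) (tL X.sheaf W) h1 h2

theorem epi_G_map {X Y : Scheme.{u}} (f : X ⟶ Y) (W : X.Modules) {A B : Y.Modules} (ρ : A ⟶ B)
    [Epi ρ] : Epi ((G f W).map ρ) := by
  have : PreservesColimitsOfShape WalkingSpan (G f W) := inferInstance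
  infer_instance

/-- In the case of schemes, let f : X ⟶ Y be a morphism of quasi-compact quasi-separated schemes. If
every quasi-coherent module on Y is a quotient of a direct sum of finite locally free modules (Y has
the resolution property) and some family (W_i) of finite locally free modules on X is f-generating,
i.e. every quasi-coherent module on X is a quotient of a direct sum of modules W_i ⊗ f^*N with N
quasi-coherent on Y, then every quasi-coherent module on X is a quotient of a direct sum of finite
locally free modules (X has the resolution property). (The published statement is for quasi-compact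
quasi-separated morphisms of algebraic stacks and assumes the family universally f-generating; this
row is the case of schemes and assumes the family only f-generating, which is what the argument
uses.) -/
theorem result {X Y : Scheme.{u}}
    [CompactSpace X] [QuasiSeparatedSpace X] [CompactSpace Y] [QuasiSeparatedSpace Y] (f : X ⟶ Y)
    (hY : ∀ N : Y.Modules, Coh.IsQCoh N →
      ∃ (κ : Type u) (V : κ → Y.Modules) (π : (∐ V) ⟶ N), (∀ k, FlatMod.IsFinLocFree (V k)) ∧ Epi π)
    {ι : Type u} (W : ι → X.Modules) (hW : ∀ i, FlatMod.IsFinLocFree (W i))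
    (hf : ∀ M : X.Modules, Coh.IsQCoh M →
      ∃ (κ : Type u) (j : κ → ι) (N : κ → Y.Modules)
        (π : (∐ fun k => CohB1.tensorMod (W (j k)) ((Scheme.Modules.pullback f).obj (N k))) ⟶ M),
        (∀ k, Coh.IsQCoh (N k)) ∧ Epi π) :
    ∀ M : X.Modules, Coh.IsQCoh M →
      ∃ (κ : Type u) (E : κ → X.Modules) (π : (∐ E) ⟶ M), (∀ k, FlatMod.IsFinLocFree (E k)) ∧ Epi π := by
  intro M hM
  obtain ⟨κ, j, N, π, hN, hπ⟩ := hf M hM
  choose κ' V ρ hV hρ using fun k => hY (N k) (hN k)
  let E : (Σ k, κ' k) → X.Modules := fun p => (G f (W (j p.1))).obj (V p.1 p.2)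
  let q : (∐ E) ⟶ M := Sigma.desc (fun p => (G f (W (j p.1))).map (Sigma.ι (V p.1) p.2 ≫ ρ p.1) ≫
    Sigma.ι (fun k => CohB1.tensorMod (W (j k)) ((Scheme.Modules.pullback f).obj (N k))) p.1 ≫ π)
  refine ⟨Σ k, κ' k, E, q, ?_, ?_⟩
  · rintro ⟨k, l⟩
    exact Groth.Agent.Lib.Helper1.FLF.isFinLocFree_tensor _ _ (hW (j k))
      (Groth.Agent.Lib.Helper1.Sky.isFinLocFree_pullback f _ (hV k l))
  · constructor
    intro Z g h hgh
    have := hπ
    rw [← cancel_epi π]
    refine Sigma.hom_ext _ _ (fun k => ?_)
    have := hρ k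
    have : Epi ((G f (W (j k))).map (ρ k)) := epi_G_map f _ (ρ k)
    have key : (G f (W (j k))).map (ρ k) ≫ Sigma.ι (fun k => CohB1.tensorMod (W (j k))
        ((Scheme.Modules.pullback f).obj (N k))) k ≫ π ≫ g =
        (G f (W (j k))).map (ρ k) ≫ Sigma.ι (fun k => CohB1.tensorMod (W (j k))
        ((Scheme.Modules.pullback f).obj (N k))) k ≫ π ≫ h := by
      refine hom_ext_of_preserves (G f (W (j k))) (V k) _ _ (fun l => ?_)
      have := congrArg (fun t => Sigma.ι E ⟨k, l⟩ ≫ t) hgh
      simp only [q, Sigma.ι_desc_assoc, Functor.map_comp, Category.assoc] at this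
      exact this
    exact (cancel_epi ((G f (W (j k))).map (ρ k))).1 key

end Groth.Agent.S14988
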