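import Groth.Statements.S15003
import Groth.Agent.Lib.Seat66FibDeg

set_option autoImplicit false
universe u
open CategoryTheory CategoryTheory.Limits AlgebraicGeometry
open Harb

open Groth.Agent.Lib.Seat66.FibDeg

set_option linter.style.haveILetI false

namespace Groth.Agent.S15003

/-- Let k be an algebraically closed field and let π : Y → X be a finite, surjective and unramified
k-morphism of smooth varieties over k (X and Y integral, separated and of finite type over k with
all local rings regular) which sends the generic point of Y to the generic point of X, so that the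
function field k(X) embeds in k(Y). Then for every closed point p of X the fibre π⁻¹(p) consists of
exactly deg π points, where deg π = [k(Y) : k(X)] is the degree of that field extension. -/
theorem result (k : Type u) [Field k] [IsAlgClosed k]
    (X Y : Scheme.{u}) [X.Over (Spec (CommRingCat.of k))] [Y.Over (Spec (CommRingCat.of k))]
    [IsIntegral X] [IsIntegral Y]
    [IsSeparated (X ↘ (Spec (CommRingCat.of k)))] [LocallyOfFiniteType (X ↘ (Spec (CommRingCat.of k)))]
    [QuasiCompact (X ↘ (Spec (CommRingCat.of k)))]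
    [IsSeparated (Y ↘ (Spec (CommRingCat.of k)))] [LocallyOfFiniteType (Y ↘ (Spec (CommRingCat.of k)))]
    [QuasiCompact (Y ↘ (Spec (CommRingCat.of k)))]
    (hregX : ∀ x : X, IsRegularLocalRing (X.presheaf.stalk x))
    (hregY : ∀ y : Y, IsRegularLocalRing (Y.presheaf.stalk y))
    (π : Y ⟶ X) (hπ : π ≫ (X ↘ (Spec (CommRingCat.of k))) = (Y ↘ (Spec (CommRingCat.of k))))
    [AlgebraicGeometry.IsFinite π] [AlgebraicGeometry.Surjective π] [AlgebraicGeometry.FormallyUnramified π]
    (e : π.base (genericPoint Y) = genericPoint X) (p : X) (hp : IsClosed ({p} : Set X)) :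
    Nat.card {q : Y // π.base q = p} =
      Models.homDegree (X.presheaf.stalkSpecializes (specializes_of_eq e) ≫ π.stalkMap (genericPoint Y)).hom := by
  classical
  haveI hlft : LocallyOfFiniteType (π ≫ (X ↘ Spec (CommRingCat.of k))) := by
    rw [hπ]; infer_instance
  haveI : LocallyOfFiniteType π := locallyOfFiniteType_of_comp π (X ↘ Spec (CommRingCat.of k))
  haveI : Flat π := flat_of_finite_of_regular k hregX hregY π hπ e
  have hrank : ∀ y : X, π.finrank y = Models.homDegree
      (X.presheaf.stalkSpecializes (specializes_of_eq e) ≫ π.stalkMap (genericPoint Y)).hom := by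
    intro y
    obtain ⟨V, hV, hyV, -⟩ :=
      exists_isAffineOpen_mem_and_subset (X := X) (U := ⊤) (x := y) (by simp)
    have hU : IsAffineOpen (π ⁻¹ᵁ V) := hV.preimage π
    have hη : genericPoint X ∈ V :=
      ((genericPoint_spec X).mem_open_set_iff V.isOpen).mpr ⟨y, trivial, hyV⟩
    refine finrank_eq_of_app π hV _ (fun p => ?_) y hyV
    letI := (π.app V).hom.toAlgebra
    haveI : Nonempty V := ⟨⟨y, hyV⟩⟩
    haveI : Module.Finite Γ(X, V) Γ(Y, π ⁻¹ᵁ V) := π.finite_app V hV
    haveI : Module.Flat Γ(X, V) Γ(Y, π ⁻¹ᵁ V) := flat_app π hV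
    have h1 := ringHom_finrank_eq_finrank (A := Γ(X, V)) (B := Γ(Y, π ⁻¹ᵁ V)) p
    rw [RingHom.algebraMap_toAlgebra] at h1
    rw [h1, finrank_app_eq_stalk π e hV hU hη]
    rfl
  obtain ⟨V, hV, hpV, -⟩ :=
    exists_isAffineOpen_mem_and_subset (X := X) (U := ⊤) (x := p) (by simp)
  have hsum := Groth.Agent.Lib.Seat32.FinFlatDeg.finsum_fibre π hV _ hrank p hpV
  rw [← hsum]
  have hterm : ∀ q ∈ π ⁻¹' {p}, ((Module.length (Y.presheaf.stalk q) (Y.presheaf.stalk q ⧸
      Ideal.map (π.stalkMap q).hom (IsLocalRing.maximalIdeal (X.presheaf.stalk (π q))))).toNat *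
        π.residueDegree q) = 1 := by
    intro q hq
    have hq' : π q = p := hq
    rw [length_quot_map_maximalIdeal_eq_one π q,
      residueDegree_eq_one_of_isClosed k π q (by rw [hq']; exact hp)]
    rfl
  rw [finsum_mem_congr rfl hterm, finsum_one]
  exact Nat.card_coe_set_eq (π ⁻¹' {p})

end Groth.Agent.S15003
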