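import Groth.Statements.S15013
-- import your own Groth.Agent.* helpers here
import Groth.Agent.Lib.Helper10TF
import Mathlib.Algebra.Homology.DerivedCategory.Ext.ExactSequences
import Mathlib.Algebra.Homology.ShortComplex.ModuleCat

set_option autoImplicit false
universe u
open CategoryTheory
open TFCurv

namespace Groth.Agent.S15013

/-- Let O be a one-dimensional Noetherian local domain with algebraically closed residue field whose
integral closure O~ in its fraction field K is a finite O-module, and let w be a canonical ideal of
O, taken here as a nonzero finitely generated O-submodule of K whose injective dimension as an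
O-module is at most one. Then Ext^i_O(M, w) vanishes for all i ≥ 1 and every finitely generated
torsion-free O-module M. -/
theorem result (O : Type u) [CommRing O] [IsDomain O] [IsNoetherianRing O] [IsLocalRing O] (hdim : ringKrullDim O = 1) [IsAlgClosed (IsLocalRing.ResidueField O)] (K : Type u) [Field K] [Algebra O K] [IsFractionRing O K] (hfin : Module.Finite O ↥(integralClosure O K)) (ω : Submodule O K) (hω0 : ω ≠ ⊥) (hωfg : ω.FG) (hωinj : HasInjectiveDimensionLT (ModuleCat.of O ↥ω) 2) (M : Type u) [AddCommGroup M] [Module O M] [Module.Finite O M] [NoZeroSMulDivisors O M] (i : ℕ) (hi : 1 ≤ i) : Subsingleton (Abelian.Ext (ModuleCat.of O M) (ModuleCat.of O ↥ω) i) := by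
  classical
  obtain ⟨n, f, hf⟩ := Groth.Agent.Lib.Helper10.exists_injective_of_isTorsionFree O M
  -- the short exact sequence `0 → M → Oⁿ → T → 0`
  let S : ShortComplex (ModuleCat.{u} O) :=
    ModuleCat.shortComplexOfCompEqZero f (LinearMap.range f).mkQ (by
      ext x
      simp)
  have hS : S.ShortExact := by
    refine ModuleCat.shortComplex_shortExact S ?_ hf (Submodule.mkQ_surjective _)
    intro y
    change (LinearMap.range f).mkQ y = 0 ↔ y ∈ Set.range f
    rw [Submodule.mkQ_apply, Submodule.Quotient.mk_eq_zero]
    rfl
  have hproj : Projective (ModuleCat.of O (Fin n → O)) := inferInstance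
  obtain ⟨j, rfl⟩ : ∃ j, i = j + 1 := ⟨i - 1, by omega⟩
  refine ⟨fun a b => ?_⟩
  suffices h : ∀ x : Abelian.Ext (ModuleCat.of O M) (ModuleCat.of O ↥ω) (j + 1), x = 0 by
    rw [h a, h b]
  intro x
  have h3 : hS.extClass.comp x (show 1 + (j + 1) = j + 2 by omega) = 0 :=
    Abelian.Ext.eq_zero_of_hasInjectiveDimensionLT _ 2 (by omega)
  obtain ⟨x₂, hx₂⟩ := Abelian.Ext.contravariant_sequence_exact₁ hS _ x
    (show 1 + (j + 1) = j + 2 by omega) h3
  have hx0 : x₂ = 0 := by
    have : Projective S.X₂ := hproj
    exact Abelian.Ext.eq_zero_of_projective x₂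
  rw [← hx₂, hx0, Abelian.Ext.comp_zero]

end Groth.Agent.S15013
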