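import Groth.Statements.S15008
import Groth.Agent.S15013
import Groth.Agent.Lib.Seat69CanonEnd
import Groth.Agent.Lib.Seat69LatDual

set_option autoImplicit false
universe u
open CategoryTheory
open TFCurv

namespace Groth.Agent.S15008

/-- Let O be a one-dimensional Noetherian local domain with algebraically closed residue field whose
integral closure O~ in its fraction field K is a finite O-module, and suppose O is not Gorenstein.
If w is an O-submodule of K with O ⊆ w ⊆ O~ whose injective dimension as an O-module is at most one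
(a canonical ideal placed between O and O~), then length(w/O) + length(O~/C) = 2 · length(O~/O),
where C is the conductor of O in O~. -/
theorem result (O : Type u) [CommRing O] [IsDomain O] [IsNoetherianRing O] [IsLocalRing O] (hdim : ringKrullDim O = 1) [IsAlgClosed (IsLocalRing.ResidueField O)] (K : Type u) [Field K] [Algebra O K] [IsFractionRing O K] (hfin : Module.Finite O ↥(integralClosure O K)) (hG : ¬ LocCoh.IsGorensteinLocalRing O) (ω : Submodule O K) (hω1 : (1 : Submodule O K) ≤ ω) (hω2 : ω ≤ (Subalgebra.toSubmodule (integralClosure O K))) (hωinj : HasInjectiveDimensionLT (ModuleCat.of O ↥ω) 2) : Module.length O (↥ω ⧸ Submodule.comap ω.subtype (1 : Submodule O K)) + Module.length O (↥(integralClosure O K) ⧸ ((1 : Submodule O K).colon (Subalgebra.toSubmodule (integralClosure O K))) • (⊤ : Submodule O ↥(integralClosure O K))) = 2 * Module.length O (↥(integralClosure O K) ⧸ Submodule.comap (Subalgebra.toSubmodule (integralClosure O K)).subtype (1 : Submodule O K)) := by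
  classical
  open Groth.Agent.Lib.Seat69.LatDual in
  set Õs : Submodule O K := Subalgebra.toSubmodule (integralClosure O K) with hÕs
  have hÕfg : Õs.FG := Module.Finite.iff_fg.mp hfin
  have hωfg : ω.FG := fg_of_le hÕfg hω2
  have h1mem : (1 : K) ∈ ω := hω1 (Submodule.one_le.mp le_rfl)
  have hω0 : ω ≠ ⊥ := fun h => by
    rw [h] at h1mem
    exact one_ne_zero ((Submodule.mem_bot O).mp h1mem)
  have hvan : Groth.Agent.Lib.Seat69.CanonEnd.Vanishing ω := fun M' _ _ _ _ j hj =>
    Groth.Agent.S15013.result O hdim K hfin ω hω0 hωfg hωinj M' j hj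
  have hK : NoZeroSMulDivisors O K := Groth.Agent.Lib.Seat69.CanonEnd.nzsd_K
  have hW : Groth.Agent.Lib.Seat69.CanonRefl.IsCanon O ↥ω :=
    { finite := Module.Finite.iff_fg.mpr hωfg
      tf := Groth.Agent.Lib.Seat69.CanonEnd.nzsd_submodule ω
      nontriv := (Submodule.nontrivial_iff_ne_bot).mpr hω0
      van := hvan
      end_eq := Groth.Agent.Lib.Seat69.CanonEnd.end_omega hdim ω hω0 hωfg hvan }
  -- `ω / 1 = ω`
  have hdiv1 : ω / (1 : Submodule O K) = ω := by
    ext x
    rw [Submodule.mem_div_iff_forall_mul_mem]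
    constructor
    · intro h
      have h2 := h 1 (Submodule.one_le.mp le_rfl)
      rwa [mul_one] at h2
    · intro hx y hy
      obtain ⟨r, rfl⟩ := Submodule.mem_one.mp hy
      rw [mul_comm, ← Algebra.smul_def]
      exact ω.smul_mem r hx
  set Cs : Submodule O K := ω / Õs with hCs
  have h1Õ : (1 : Submodule O K) ≤ Õs := hω1.trans hω2
  have h10 : (1 : Submodule O K) ≠ ⊥ := fun h => by
    have h2 : (1 : K) ∈ (1 : Submodule O K) := Submodule.one_le.mp le_rfl
    rw [h] at h2
    exact one_ne_zero ((Submodule.mem_bot O).mp h2)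
  have hωω : ω / ω = 1 := by
    have hfg1 : (1 : Submodule O K).FG := by
      rw [Submodule.one_eq_span]
      exact Submodule.fg_span_singleton 1
    have h2 := Groth.Agent.Lib.Seat69.LatDual.div_div_cancel ω hW 1 hfg1 h10
    rwa [hdiv1] at h2
  have hCs1 : Cs ≤ 1 := by
    rw [← hωω]
    exact div_anti ω hω2
  -- `Cs` is stable under `Õ`
  have hCsmul : ∀ x ∈ Cs, ∀ p ∈ Õs, x * p ∈ Cs := by
    intro x hx p hp
    rw [hCs, Submodule.mem_div_iff_forall_mul_mem]
    intro z hz
    rw [mul_assoc]
    exact Submodule.mem_div_iff_forall_mul_mem.mp hx _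
      ((integralClosure O K).mul_mem hp hz)
  -- duality
  have hdual := length_dual ω hW hωfg 1 Õs h1Õ hÕfg h10
  rw [hdiv1] at hdual
  have hadd1 := length_add Cs 1 ω hCs1 hω1
  have hadd2 := length_add Cs 1 Õs hCs1 h1Õ
  have hC : ((1 : Submodule O K).colon (Õs : Set K)) • (⊤ : Submodule O ↥Õs) =
      Submodule.comap Õs.subtype Cs := by
    apply le_antisymm
    · rw [Submodule.smul_le]
      intro r hr y _
      show ((r • y : ↥Õs) : K) ∈ Cs
      rw [hCs, Submodule.mem_div_iff_forall_mul_mem]
      intro z hz
      have h2 : ((r • y : ↥Õs) : K) * z = r • ((y : K) * z) := by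
        rw [Submodule.coe_smul, smul_mul_assoc]
      rw [h2]
      exact hω1 (Submodule.mem_colon.mp hr _ ((integralClosure O K).mul_mem y.2 hz))
    · intro x hx
      have hx' : (x : K) ∈ Cs := hx
      obtain ⟨r, hr⟩ := Submodule.mem_one.mp (hCs1 hx')
      have hrc : r ∈ (1 : Submodule O K).colon (Õs : Set K) := by
        rw [Submodule.mem_colon]
        intro p hp
        rw [Algebra.smul_def, hr]
        exact hCs1 (hCsmul _ hx' p hp)
      have hx1 : x = r • (⟨1, (integralClosure O K).one_mem⟩ : ↥Õs) := by
        apply Subtype.ext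
        rw [Submodule.coe_smul, Algebra.smul_def, mul_one, hr]
      rw [hx1]
      exact Submodule.smul_mem_smul hrc Submodule.mem_top
  show Module.length O (↥ω ⧸ Submodule.comap ω.subtype (1 : Submodule O K)) +
    Module.length O (↥Õs ⧸ ((1 : Submodule O K).colon (Õs : Set K)) • (⊤ : Submodule O ↥Õs)) =
    2 * Module.length O (↥Õs ⧸ Submodule.comap Õs.subtype (1 : Submodule O K))
  rw [hC, hadd2, ← add_assoc,
    add_comm (Module.length O (↥ω ⧸ Submodule.comap ω.subtype (1 : Submodule O K))), ← hadd1,
    hdual, two_mul]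

end Groth.Agent.S15008
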