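import Groth.Statements.S15035
import Groth.Agent.Lib.Seat69GorLattice

set_option autoImplicit false
universe u
open TFCurv

namespace Groth.Agent.S15035

/-- Let O be a one-dimensional Gorenstein local domain with algebraically closed residue field whose
integral closure O~ in its fraction field K is a finite O-module, and C ⊆ O the conductor of O in
O~. Then every finitely generated torsion-free O-module of rank n is isomorphic to an O-submodule
M'' of K^n with C^n ⊆ M'' ⊆ O^n. (For a general O the published statement places M'' between (O~*)^n
and ω^n for the canonical ideal ω; only the Gorenstein case ω = O, O~* = C is stated.) -/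
theorem result (O : Type u) [CommRing O] [IsDomain O] [LocCoh.IsGorensteinLocalRing O] (hdim : ringKrullDim O = 1) [IsAlgClosed (IsLocalRing.ResidueField O)] (K : Type u) [Field K] [Algebra O K] [IsFractionRing O K] (hfin : Module.Finite O ↥(integralClosure O K)) (M : Type u) [AddCommGroup M] [Module O M] [Module.Finite O M] [NoZeroSMulDivisors O M] (n : ℕ) (hn : Module.finrank K (TensorProduct O K M) = n) : ∃ M'' : Submodule O (Fin n → K), Submodule.pi Set.univ (fun _ : Fin n => (((1 : Submodule O K).colon (Subalgebra.toSubmodule (integralClosure O K))) • (1 : Submodule O K))) ≤ M'' ∧ M'' ≤ Submodule.pi Set.univ (fun _ : Fin n => (1 : Submodule O K)) ∧ Nonempty (M ≃ₗ[O] ↥M'') := by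
  classical
  open Groth.Agent.Lib.Seat69.GorLattice in
  have : IsNoetherianRing O := inferInstance
  obtain ⟨n', M'', h1, h2, ⟨e⟩⟩ := exists_lattice (K := K) hdim hfin M
  have hÕfg : (Subalgebra.toSubmodule (integralClosure O K)).FG := Module.Finite.iff_fg.mp hfin
  obtain ⟨c, hc0, hc⟩ := exists_colon_ne_zero (Subalgebra.toSubmodule (integralClosure O K)) hÕfg
  have hrank : Module.finrank O ↥M'' = n' := by
    refine finrank_of_sandwich M'' c hc0 ?_ h2
    intro v
    apply h1
    rw [Submodule.mem_pi]
    intro i _
    have h3 : algebraMap O K (c * v i) = (c * v i) • (1 : K) := by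
      rw [Algebra.smul_def, mul_one]
    rw [h3]
    exact Submodule.smul_mem_smul (Ideal.mul_mem_right _ _ hc) (Submodule.one_le.mp le_rfl)
  have hnn : n' = n := by
    rw [← hn, finrank_tensor_eq, e.finrank_eq, hrank]
  subst hnn
  exact ⟨M'', h1, h2, ⟨e⟩⟩

end Groth.Agent.S15035
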