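import Groth.Statements.S15012
import Groth.Agent.S15009
import Groth.Agent.S15035
import Groth.Agent.Lib.Seat69LatticeAsm

set_option autoImplicit false
universe u
open TFCurv

namespace Groth.Agent.S15012

/-- Let O be a one-dimensional Gorenstein local domain with algebraically closed residue field whose
integral closure O~ in its fraction field K is a finite O-module, and let C ⊆ O be the conductor of
O in O~. Every finitely generated torsion-free O-module of rank n is isomorphic to an O-submodule M'
of K^n with C^n ⊆ M' ⊆ O~^n and length(M'/C^n) = n · length(O/C); that is, every isomorphism class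
of rank-n torsion-free modules is represented by a submodule of (O~/C)^n of the same length as
(O/C)^n. -/
theorem result (O : Type u) [CommRing O] [IsDomain O] [LocCoh.IsGorensteinLocalRing O] (hdim : ringKrullDim O = 1) [IsAlgClosed (IsLocalRing.ResidueField O)] (K : Type u) [Field K] [Algebra O K] [IsFractionRing O K] (hfin : Module.Finite O ↥(integralClosure O K)) (M : Type u) [AddCommGroup M] [Module O M] [Module.Finite O M] [NoZeroSMulDivisors O M] (n : ℕ) (hn : Module.finrank K (TensorProduct O K M) = n) : ∃ M' : Submodule O (Fin n → K), Submodule.pi Set.univ (fun _ : Fin n => (((1 : Submodule O K).colon (Subalgebra.toSubmodule (integralClosure O K))) • (1 : Submodule O K))) ≤ M' ∧ M' ≤ Submodule.pi Set.univ (fun _ : Fin n => (Subalgebra.toSubmodule (integralClosure O K))) ∧ Nonempty (M ≃ₗ[O] ↥M') ∧ Module.length O (↥M' ⧸ Submodule.comap M'.subtype (Submodule.pi Set.univ (fun _ : Fin n => (((1 : Submodule O K).colon (Subalgebra.toSubmodule (integralClosure O K))) • (1 : Submodule O K))))) = (n : ℕ∞) * Module.length O (O ⧸ ((1 : Submodule O K).colon (Subalgebra.toSubmodule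 (integralClosure O K)))) := by
  classical
  have : IsNoetherianRing O := inferInstance
  have : IsLocalRing O := inferInstance
  obtain ⟨L, hOL, hLÕ, ⟨eL⟩⟩ := Groth.Agent.S15009.result O hdim K hfin M n hn
  obtain ⟨M'', hCM, hMO, ⟨eM⟩⟩ := Groth.Agent.S15035.result O hdim K hfin M n hn
  obtain ⟨M', h1, h2, ⟨e⟩, h3⟩ :=
    Groth.Agent.Lib.Seat69.LatticeAsm.exists_lattice_colength O K hdim hfin n L M'' hOL hLÕ hCM hMO
      (eL.symm.trans eM)
  exact ⟨M', h1, h2, ⟨eL.trans e⟩, h3⟩

end Groth.Agent.S15012
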