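import Groth.Statements.S15022
import Groth.Agent.Lib.Seat69ValueDual

set_option autoImplicit false
universe u
open CategoryTheory
open TFCurv

namespace Groth.Agent.S15022

/-- Let k be an algebraically closed field and A ≠ k[[t]] a k-subalgebra of k[[t]] that is closed in the
t-adic topology and over which k[[t]] is a finite module (as for the complete local ring of a
unibranch curve singularity inside its normalisation), and let Γ ⊆ ℕ be the set of t-orders of the
nonzero elements of A (its value semigroup); let c be the conductor of Γ (every n ≥ c lies in Γ, c −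
1 does not) and suppose A is not Gorenstein. If w is an A-submodule of k[[t]] with 1 ∈ w whose
injective dimension as an A-module is at most one (a canonical ideal of A placed between A and
k[[t]]), then the value set of w is the dual of Γ: a natural number n is the t-order of some element
of w exactly when n ≥ c or c − 1 − n is a gap of Γ. (The published statement does not exclude the
Gorenstein case; this row assumes that A is not Gorenstein.) -/
theorem result (k : Type u) [Field k] [IsAlgClosed k] (A : Subalgebra k (PowerSeries k)) (hA : Module.Finite ↥A (PowerSeries k)) (hcl : ∀ f : PowerSeries k, (∀ n : ℕ, ∃ g ∈ A, (n : ℕ∞) ≤ PowerSeries.order (f - g)) → f ∈ A) (hsing : A ≠ ⊤) (Γ : Set ℕ) (hΓ : ∀ n : ℕ, n ∈ Γ ↔ ∃ f ∈ A, PowerSeries.order f = n) (c : ℕ) (hc : ∀ n : ℕ, c ≤ n → n ∈ Γ) (hc0 : c ≠ 0) (hc1 : c - 1 ∉ Γ) (hG : ¬ LocCoh.IsGorensteinLocalRing ↥A) (ω : Submodule ↥A (PowerSeries k)) (hω1 : (1 : PowerSeries k) ∈ ω) (hωfg : ω.FG) (hωinj : HasInjectiveDimensionLT (ModuleCat.of ↥A ↥ω)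 2) (n : ℕ) : (∃ f ∈ ω, PowerSeries.order f = n) ↔ (c ≤ n ∨ c - 1 - n ∉ Γ) := by
  have hmain := Groth.Agent.Lib.Seat69.ValueDual.valueSet_dual A hA hcl hsing Γ hΓ c hc hc0 hc1 ω hω1
    hωfg hωinj (Submodule.span ↥A {(1 : PowerSeries k)})
    (Submodule.subset_span (Set.mem_singleton _)) n
  have hspan : ∀ m : PowerSeries k, m ∈ Submodule.span ↥A {(1 : PowerSeries k)} ↔ m ∈ A := by
    intro m
    rw [Submodule.mem_span_singleton]
    constructor
    · rintro ⟨a, rfl⟩
      rw [Groth.Agent.Lib.Seat69.CurveRing.smul_eq, mul_one]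
      exact a.2
    · intro hm
      refine ⟨⟨m, hm⟩, ?_⟩
      rw [Groth.Agent.Lib.Seat69.CurveRing.smul_eq, mul_one]
  have h1 : (∃ f ∈ ω, PowerSeries.order f = n) ↔
      (∃ u : PowerSeries k, PowerSeries.order u = n ∧
        ∀ m ∈ Submodule.span ↥A {(1 : PowerSeries k)}, u * m ∈ ω) := by
    constructor
    · rintro ⟨f, hf, hfn⟩
      refine ⟨f, hfn, fun m hm => ?_⟩
      have hmA := (hspan m).mp hm
      have h2 : f * m = (⟨m, hmA⟩ : ↥A) • f := by
        rw [Groth.Agent.Lib.Seat69.CurveRing.smul_eq, mul_comm]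
      rw [h2]
      exact ω.smul_mem _ hf
    · rintro ⟨u, hun, hu⟩
      refine ⟨u, ?_, hun⟩
      have h2 := hu 1 (Submodule.subset_span (Set.mem_singleton _))
      rwa [mul_one] at h2
  have h2 : (¬ ∃ m ∈ Submodule.span ↥A {(1 : PowerSeries k)},
      PowerSeries.order m = ((c - 1 - n : ℕ) : ℕ∞)) ↔ c - 1 - n ∉ Γ := by
    rw [hΓ]
    constructor
    · rintro h ⟨f, hf, hfo⟩
      exact h ⟨f, (hspan f).mpr hf, hfo⟩
    · rintro h ⟨m, hm, hmo⟩
      exact h ⟨m, (hspan m).mp hm, hmo⟩
  rw [h1, hmain, h2]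

end Groth.Agent.S15022
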