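import Groth.Statements.S15023
import Groth.Agent.Lib.Seat69RankOneMono
import Groth.Agent.Lib.Seat69RankOneEmbed

set_option autoImplicit false
universe u
open TFCurv

namespace Groth.Agent.S15023

/-- Let k be an algebraically closed field and A ≠ k[[t]] a k-subalgebra of k[[t]] that is closed in the
t-adic topology, over which k[[t]] is a finite module, and such that every power series is carried
into A by multiplication with some nonzero element of A (so k[[t]] lies in the fraction field of A
and is its normalisation, as for the complete local ring of a unibranch curve singularity), and let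
Γ ⊆ ℕ be the set of t-orders of the nonzero elements of A (its value semigroup); assume moreover
that A is the monomial ring of Γ (a power series lies in A exactly when all its exponents lie in Γ),
and let δ be the number of gaps of Γ. Then every finitely generated torsion-free A-module of rank
one is isomorphic to an A-submodule M' of k[[t]] with t^{2δ} k[[t]] ⊆ M' and dim_k(k[[t]]/M') = δ,
equivalently dim_k(M'/t^{2δ}k[[t]]) = δ: every isomorphism class of rank-one torsion-free modules is
represented by a δ-dimensional A-stable subspace of k[[t]]/t^{2δ}k[[t]]. -/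
theorem result (k : Type u) [Field k] [IsAlgClosed k] (A : Subalgebra k (PowerSeries k)) (hA : Module.Finite ↥A (PowerSeries k)) (hcl : ∀ f : PowerSeries k, (∀ n : ℕ, ∃ g ∈ A, (n : ℕ∞) ≤ PowerSeries.order (f - g)) → f ∈ A) (hsing : A ≠ ⊤) (hbir : ∀ f : PowerSeries k, ∃ a ∈ A, a ≠ 0 ∧ a * f ∈ A) (Γ : Set ℕ) (hΓ : ∀ n : ℕ, n ∈ Γ ↔ ∃ f ∈ A, PowerSeries.order f = n) (hmono : ∀ f : PowerSeries k, f ∈ A ↔ ∀ n : ℕ, PowerSeries.coeff n f ≠ 0 → n ∈ Γ) (M : Type u) [AddCommGroup M] [Module ↥A M] [Module.Finite ↥A M] [NoZeroSMulDivisors ↥A M] (hrk : Module.finrank (FractionRing ↥A) (TensorProduct ↥A (FractionRing ↥A) M) = 1) : ∃ M' : Submodule ↥A (PowerSeries k), (Ideal.span {(PowerSeries.X : PowerSeries k) ^ (2 * Γᶜ.ncard)}).restrictScalars ↥A ≤ M' ∧ Nonempty (M ≃ₗ[↥A] ↥M') ∧ Module.finrank k (PowerSeries k ⧸ M'.restrictScalars k) = Γᶜ.ncard := by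
  classical
  -- conductor
  obtain ⟨a, haA, ha0, ha⟩ := Groth.Agent.S15015.exists_conductor k A hA hbir
  obtain ⟨c, hc⟩ : ∃ c : ℕ, PowerSeries.order a = c :=
    ⟨(PowerSeries.order a).toNat,
      (ENat.natCast_toNat (ne_of_lt (PowerSeries.order_finite_iff_ne_zero.mpr ha0))).symm⟩
  have hcΓ : ∀ n, c ≤ n → n ∈ Γ := by
    intro n hn
    rw [hΓ]
    refine ⟨a * PowerSeries.X ^ (n - c), ha _, ?_⟩
    rw [PowerSeries.order_mul, PowerSeries.order_X_pow, hc]
    have : c + (n - c) = n := by omega
    exact_mod_cast this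
  -- embed `M` into `k[[t]]`
  obtain ⟨h, hhinj⟩ :=
    Groth.Agent.Lib.Seat69.RankOneEmbed.exists_injective_of_rank_one ↥A M hrk
  haveI := Groth.Agent.Lib.Seat69.RankOneEmbed.nontrivial_of_rank_one ↥A M hrk
  let ψ : M →ₗ[↥A] PowerSeries k := (Algebra.linearMap ↥A (PowerSeries k)).comp h
  have hψinj : Function.Injective ψ := fun m m' hmm => hhinj (Subtype.ext hmm)
  let I : Submodule ↥A (PowerSeries k) := LinearMap.range ψ
  have hI : I ≠ ⊥ := by
    intro hI0
    obtain ⟨m, hm⟩ := exists_ne (0 : M)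
    have : ψ m ∈ I := ⟨m, rfl⟩
    rw [hI0, Submodule.mem_bot] at this
    exact hm (hψinj (by rw [this, map_zero]))
  obtain ⟨M', h1, ⟨e1⟩, h3⟩ :=
    Groth.Agent.Lib.Seat69.RankOneMono.exists_normalised k A hcl Γ hΓ c hcΓ I hI
  exact ⟨M', h1, ⟨(LinearEquiv.ofInjective ψ hψinj).trans e1⟩, h3⟩

end Groth.Agent.S15023
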