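import Groth.Statements.S15025
import Groth.Agent.Lib.Helper13TorMore

set_option autoImplicit false
universe u
open CategoryTheory
open TFCurv

namespace Groth.Agent.S15025

/-- Let O be a one-dimensional Noetherian local domain with algebraically closed residue field whose
integral closure O~ in its fraction field K is a finite O-module, M a finitely generated
torsion-free O-module and g : M → O^n an injective O-linear map whose cokernel T' has finite length.
Then the torsion submodule of O~ ⊗_O M is O-linearly isomorphic to Tor_1^O(O~, T') (existence of an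
isomorphism only). -/
theorem result (O : Type u) [CommRing O] [IsDomain O] [IsNoetherianRing O] [IsLocalRing O] (hdim : ringKrullDim O = 1) [IsAlgClosed (IsLocalRing.ResidueField O)] (K : Type u) [Field K] [Algebra O K] [IsFractionRing O K] (hfin : Module.Finite O ↥(integralClosure O K)) (M : Type u) [AddCommGroup M] [Module O M] [Module.Finite O M] [NoZeroSMulDivisors O M] (n : ℕ) (g : M →ₗ[O] (Fin n → O)) (hg : Function.Injective g) (hT : IsFiniteLength O ((Fin n → O) ⧸ LinearMap.range g)) : Nonempty (↥(Submodule.torsion O (TensorProduct O ↥(integralClosure O K) M)) ≃ₗ[O] ↑(((Tor (ModuleCat.{u} O) 1).obj (ModuleCat.of O ↥(integralClosure O K))).obj (ModuleCat.of O ((Fin n → O) ⧸ LinearMap.range g)))) := by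
  classical
  let Ot := ↥(integralClosure O K)
  let ι : Ot →ₗ[O] K := (integralClosure O K).val.toLinearMap
  have hι : Function.Injective ι := Subtype.val_injective
  haveI : Module.Flat O K := IsLocalization.flat K (nonZeroDivisors O)
  -- `ι` is a localization of modules
  haveI hloc : IsLocalizedModule (nonZeroDivisors O) ι := by
    refine ⟨fun s => ?_, fun k => ?_, fun h => ⟨1, by rw [hι h]⟩⟩
    · rw [Module.End.isUnit_iff]
      have hs : IsUnit (algebraMap O K s) := IsLocalization.map_units K s
      refine ⟨fun a b hab => ?_, fun b => ⟨hs.unit⁻¹.1 * b, ?_⟩⟩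
      · simp only [Module.algebraMap_end_apply, Algebra.smul_def] at hab
        exact hs.mul_right_injective hab
      · simp only [Module.algebraMap_end_apply, Algebra.smul_def]
        rw [← mul_assoc, IsUnit.mul_val_inv, one_mul]
    · obtain ⟨⟨b, s⟩, hbs⟩ := IsLocalization.surj (nonZeroDivisors O) k
      refine ⟨⟨algebraMap O Ot b, s⟩, ?_⟩
      show (s : O) • k = algebraMap O K b
      rw [Algebra.smul_def, mul_comm]
      exact hbs
  -- the localized tensor map
  haveI hlocM : IsLocalizedModule (nonZeroDivisors O)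
      (TensorProduct.AlgebraTensorModule.rTensor O M ι) := inferInstance
  have hrM : ∀ x : TensorProduct O Ot M,
      TensorProduct.AlgebraTensorModule.rTensor O M ι x = LinearMap.rTensor M ι x := fun x => rfl
  -- kernel of `O~ ⊗ g` is the torsion
  have hker : LinearMap.ker (LinearMap.lTensor Ot g) =
      Submodule.torsion O (TensorProduct O Ot M) := by
    have h1 : Function.Injective (LinearMap.lTensor K g) :=
      Module.Flat.lTensor_preserves_injective_linearMap g hg
    have h2 : Function.Injective (LinearMap.rTensor (Fin n → O) ι) :=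
      Module.Flat.rTensor_preserves_injective_linearMap ι hι
    have h3 : (LinearMap.rTensor (Fin n → O) ι).comp (LinearMap.lTensor Ot g) =
        (LinearMap.lTensor K g).comp (LinearMap.rTensor M ι) := by
      rw [LinearMap.rTensor_comp_lTensor, LinearMap.lTensor_comp_rTensor]
    ext x
    rw [LinearMap.mem_ker, Submodule.mem_torsion_iff]
    constructor
    · intro hx
      have h4 : LinearMap.lTensor K g (LinearMap.rTensor M ι x) = 0 := by
        have := congrArg (fun φ => φ x) h3
        simp only [LinearMap.comp_apply] at this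
        rw [← this, hx, map_zero]
      have h5 : LinearMap.rTensor M ι x = 0 := h1 (by rw [h4, map_zero])
      rw [← hrM] at h5
      exact (IsLocalizedModule.eq_zero_iff (nonZeroDivisors O) _).mp h5
    · rintro ⟨s, hs⟩
      apply h2
      rw [map_zero]
      have h6 : (s : O) • (LinearMap.rTensor (Fin n → O) ι (LinearMap.lTensor Ot g x)) = 0 := by
        rw [← map_smul, ← map_smul]
        have : (s : O) • x = 0 := hs
        rw [this, map_zero, map_zero]
      have hu := IsLocalizedModule.map_units
        (TensorProduct.AlgebraTensorModule.rTensor O (Fin n → O) ι) s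
      rw [Module.End.isUnit_iff] at hu
      apply hu.1
      rw [map_zero]
      exact h6
  let S : ShortComplex (ModuleCat.{u} O) :=
    ModuleCat.shortComplexOfCompEqZero g (LinearMap.range g).mkQ (by
      ext x
      simp)
  have hS : S.ShortExact := by
    refine ModuleCat.shortComplex_shortExact S ?_ hg (Submodule.mkQ_surjective _)
    intro y
    change (LinearMap.range g).mkQ y = 0 ↔ y ∈ Set.range g
    rw [Submodule.mkQ_apply, Submodule.Quotient.mk_eq_zero]
    rfl
  let X : ModuleCat.{u} O := ModuleCat.of O Ot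
  haveI : Module.Flat O S.X₂ := inferInstanceAs (Module.Flat O (Fin n → O))
  have h0 : Limits.IsZero (((Tor (ModuleCat.{u} O) 1).obj X).obj S.X₂) :=
    Groth.Agent.Helper13Tor.isZero_tor_of_flat_right X S.X₂ 1 (by omega)
  obtain ⟨δ, w₁, w₂, hex₁, hex₂⟩ := Groth.Agent.Helper13Tor.tor₂_exists_δ X S hS 0
  have hδmono : Mono δ := hex₁.mono_g (h0.eq_of_src _ _)
  let F := Groth.Agent.Helper13Tor.tL X
  let e₁ : ((Tor (ModuleCat.{u} O) 0).obj X).obj S.X₁ ≅ F.obj S.X₁ :=
    F.leftDerivedZeroIsoSelf.app S.X₁
  let e₂ : ((Tor (ModuleCat.{u} O) 0).obj X).obj S.X₂ ≅ F.obj S.X₂ :=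
    F.leftDerivedZeroIsoSelf.app S.X₂
  have hn : ((Tor (ModuleCat.{u} O) 0).obj X).map S.f ≫ e₂.hom = e₁.hom ≫ F.map S.f :=
    F.leftDerivedZeroIsoSelf.hom.naturality S.f
  have w₃ : (δ ≫ e₁.hom) ≫ F.map S.f = 0 := by
    rw [Category.assoc, ← hn, ← Category.assoc, w₂, Limits.zero_comp]
  have hex₃ : (ShortComplex.mk (δ ≫ e₁.hom) (F.map S.f) w₃).Exact :=
    ShortComplex.exact_of_iso (ShortComplex.isoMk (S₁ := ShortComplex.mk δ _ w₂)
      (S₂ := ShortComplex.mk (δ ≫ e₁.hom) (F.map S.f) w₃) (Iso.refl _) e₁ e₂
      (by simp) hn.symm) hex₂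
  rw [ShortComplex.moduleCat_exact_iff_range_eq_ker] at hex₃
  let Φ : ↑(((Tor (ModuleCat.{u} O) 1).obj X).obj S.X₃) →ₗ[O] TensorProduct O Ot M :=
    (δ ≫ e₁.hom).hom
  have hΦinj : Function.Injective Φ :=
    (ModuleCat.mono_iff_injective (δ ≫ e₁.hom)).mp (mono_comp _ _)
  have hΦrange : LinearMap.range Φ = Submodule.torsion O (TensorProduct O Ot M) := by
    rw [← hker]
    exact hex₃
  exact ⟨((LinearEquiv.ofInjective Φ hΦinj).trans (LinearEquiv.ofEq _ _ hΦrange)).symm⟩


end Groth.Agent.S15025
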