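import Groth.Statements.S15040
import Groth.Agent.Lib.Seat69Gor1

set_option autoImplicit false
universe u
open CategoryTheory
open TFCurv

namespace Groth.Agent.S15040

/-- Let O be a one-dimensional Gorenstein local domain with algebraically closed residue field whose
integral closure O~ in its fraction field K is a finite O-module, and let M be an intermediate ring
O ⊆ M ⊆ O~ (an overring of O), viewed as an O-module. Put M⁻¹ = {x ∈ K | x·M ⊆ O}, which lies in O
and is identified with an ideal of O. Then Ext¹_O(M, M) and Hom_O(M⁻¹, O/M⁻¹) are isomorphic abelian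
groups (existence of an additive isomorphism only). -/
theorem result (O : Type u) [CommRing O] [IsDomain O] [LocCoh.IsGorensteinLocalRing O] (hdim : ringKrullDim O = 1) [IsAlgClosed (IsLocalRing.ResidueField O)] (K : Type u) [Field K] [Algebra O K] [IsFractionRing O K] (hfin : Module.Finite O ↥(integralClosure O K)) (M : Subalgebra O K) (hM : M ≤ integralClosure O K) : Nonempty (Abelian.Ext (ModuleCat.of O ↥M) (ModuleCat.of O ↥M) 1 ≃+ (↥((1 : Submodule O K) / Subalgebra.toSubmodule M) →ₗ[O] (O ⧸ Submodule.comap (Algebra.linearMap O K) ((1 : Submodule O K) / Subalgebra.toSubmodule M)))) := by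
  classical
  have : IsNoetherianRing O := inferInstance
  have := hfin
  have : IsNoetherian O ↥(integralClosure O K) := isNoetherian_of_isNoetherianRing_of_finite O _
  have : Module.Finite O ↥M :=
    Module.Finite.of_injective (Subalgebra.inclusion hM).toLinearMap
      (Subalgebra.inclusion_injective hM)
  have : Module.Finite O ↥(Subalgebra.toSubmodule M) :=
    Module.Finite.equiv (Subalgebra.toSubmoduleEquiv M).symm
  have hfg : (Subalgebra.toSubmodule M).FG := Module.Finite.iff_fg.mp inferInstance
  obtain ⟨e⟩ := Groth.Agent.Lib.Seat69.Gor1.ext_one_overring hdim (Subalgebra.toSubmodule M) hfg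
    ((Subalgebra.mem_toSubmodule M).mpr (one_mem M))
    (fun a ha b hb => (Subalgebra.mem_toSubmodule M).mpr
      (M.mul_mem ((Subalgebra.mem_toSubmodule M).mp ha) ((Subalgebra.mem_toSubmodule M).mp hb)))
  exact ⟨(Groth.Agent.Lib.Seat69.Gor1.extCongrOfLinearEquiv (Subalgebra.toSubmoduleEquiv M).symm
    (Subalgebra.toSubmoduleEquiv M).symm 1).trans e⟩

end Groth.Agent.S15040
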