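import Groth.Statements.S15043
import Groth.Agent.Lib.Seat88QuietSch
import Groth.Agent.Lib.Seat88QuietSwap

set_option autoImplicit false
open CategoryTheory AlgebraicGeometry
universe u
open Quiet

namespace Groth.Agent.S15043

/-- Over a scheme `X` of prime characteristic `p`, the composite of quasi-etale morphisms `g : Z ⟶ Y`
and `f : Y ⟶ X` (each locally on its source an extraction of `p`-th roots followed by an etale
morphism) is quasi-etale. -/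
theorem result (p : ℕ) [Fact p.Prime] {X Y Z : Scheme.{u}} [FrobSch.IsCharP X p]
    (f : Y ⟶ X) (g : Z ⟶ Y) (hf : Quiet.IsQuiet p f) (hg : Quiet.IsQuiet p g) :
    Quiet.IsQuiet p (g ≫ f) := by
  classical
  refine Groth.Agent.Lib.Seat88.QuietSch.isQuiet_of_normalForm (g ≫ f) (fun z => ?_)
  obtain ⟨U₂, hU₂, hxU₂, -⟩ :=
    exists_isAffineOpen_mem_and_subset (x := f (g z)) (U := ⊤) trivial
  obtain ⟨N₂, hN₂, hN₂U₂, C₂, α₂, w₂, n, hyN₂, hα₂, hw₂, hcomm₂⟩ :=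
    Groth.Agent.Lib.Seat88.QuietSch.exists_normalForm hf (g z) U₂ hU₂ hxU₂
  obtain ⟨N₁, hN₁, hN₁N₂, C₁, α₁, w₁, m, hzN₁, hα₁, hw₁, hcomm₁⟩ :=
    Groth.Agent.Lib.Seat88.QuietSch.exists_normalForm hg z N₂ hN₂ hyN₂
  have hp0 : (p : Γ(X, U₂)) = 0 := FrobSch.natCast_eq_zero_app X p U₂
  have hpC₂ : (p : C₂) = 0 :=
    Groth.Agent.Lib.Seat88.QuietTower.natCast_eq_zero_of_hom p α₂.hom hp0
  obtain ⟨C'', α'', w'', hα'', hw'', hpo⟩ :=
    Groth.Agent.Lib.Seat88.QuietTower.swap p n w₂ α₁ hpC₂ hw₂ hα₁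
  have hle : N₁ ≤ (g ≫ f) ⁻¹ᵁ U₂ := by
    intro x hx
    exact hN₂U₂ (hN₁N₂ hx)
  refine ⟨N₁, hN₁, U₂, hU₂, hle, C'', α₂ ≫ α'', w'' ≫ w₁, m + n, hzN₁, ?_,
    Groth.Agent.Lib.Seat88.QuietTower.IsTowerHom.comp p m n w'' w₁ hw'' hw₁, ?_⟩
  · rw [CommRingCat.hom_comp]
    exact RingHom.Etale.stableUnderComposition _ _ hα₂ hα''
  · have h1 : (α₂ ≫ α'') ≫ w'' ≫ w₁ = (α₂ ≫ w₂) ≫ (α₁ ≫ w₁) := by
      rw [Category.assoc, Category.assoc, ← Category.assoc α'' w'' w₁, ← hpo.w, Category.assoc]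
    rw [h1, hcomm₂, hcomm₁, Scheme.Hom.appLE_comp_appLE]

end Groth.Agent.S15043
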