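import Groth.Statements.S15056
import Groth.Agent.Lib.Seat69FrobHeight

set_option autoImplicit false
universe u
open scoped TensorProduct
open FrobAlg

namespace Groth.Agent.S15056

/-- Let p be a prime number, R a Noetherian ring of characteristic p and A a finitely generated
commutative Hopf algebra over R (an affine algebraic R-group G = Spec A). The n-fold relative
Frobenius of G is the trivial homomorphism exactly when a^(p^n) = 0 for every a in the augmentation
ideal; G has finite Frobenius height when this holds for some n. Then G has finite Frobenius height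
if and only if A is a finite R-module and, for every algebraically closed field K and every ring
homomorphism R → K, the base change K ⊗_R A is a local ring (G is finite over R with connected
geometric fibres). -/
theorem result (p : ℕ) [Fact p.Prime] (R : Type u) [CommRing R] [CharP R p]
    [IsNoetherianRing R] (A : Type u) [CommRing A] [HopfAlgebra R A] [Algebra.FiniteType R A] :
    (∃ n : ℕ, ∀ a : A, Bialgebra.counitAlgHom R A a = 0 → a ^ p ^ n = 0) ↔
      (Module.Finite R A ∧ ∀ (K : Type u) [Field K] [IsAlgClosed K] [Algebra R K], IsLocalRing (K ⊗[R] A)) := by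
  constructor
  · rintro ⟨n, hn⟩
    have hnil : ∀ a : A, Bialgebra.counitAlgHom R A a = 0 → IsNilpotent a :=
      fun a ha => ⟨p ^ n, hn a ha⟩
    refine ⟨Groth.Agent.Lib.Seat69.FrobHeight.finite_of_nil (Bialgebra.counitAlgHom R A) hnil, ?_⟩
    intro K _ _ _
    exact Groth.Agent.Lib.Seat69.FrobHeight.isLocalRing_of_nil (Bialgebra.counitAlgHom R A) K hnil
  · rintro ⟨-, hloc⟩
    haveI : IsNoetherianRing A := Algebra.FiniteType.isNoetherianRing R A
    obtain ⟨N, hN⟩ := IsNoetherianRing.isNilpotent_nilradical A
    refine ⟨N, fun a ha => ?_⟩
    have h1 : a ∈ nilradical A :=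
      Groth.Agent.Lib.Seat69.FrobHeight.mem_nilradical_of_local (Bialgebra.counitAlgHom R A)
        (fun K _ _ _ => hloc K) a ha
    have h2 : a ^ N ∈ nilradical A ^ N := Ideal.pow_mem_pow h1 N
    rw [hN] at h2
    have h3 : a ^ N = 0 := h2
    exact pow_eq_zero_of_le (Nat.lt_pow_self (Fact.out : p.Prime).one_lt).le h3

end Groth.Agent.S15056
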