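import Groth.Statements.S15057
-- import your own Groth.Agent.* helpers here
import Groth.Agent.Lib.Seat69Amitsur
import Mathlib.Algebra.Homology.ShortComplex.Ab

set_option autoImplicit false
universe u
open CategoryTheory CategoryTheory.Limits
open Desc

namespace Groth.Agent.S15057

open Groth.Agent.Lib.Seat69.Amitsur

section Compare

variable (R A : Type u) [CommRing R] [CommRing A] [Algebra R A]

/-- The arrow `R → A` in `CommRingCat`. -/
noncomputable abbrev arr : Arrow CommRingCat.{u} :=
  Arrow.mk (CommRingCat.ofHom (algebraMap R A))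

/-- The Čech conerve of `R → A`. -/
noncomputable abbrev cech : CosimplicialObject CommRingCat.{u} := (arr R A).cechConerve

/-- The wide pushout ring in degree `n`. -/
noncomputable abbrev W (n : ℕ) : CommRingCat.{u} := (cech R A).obj (SimplexCategory.mk n)

/-- The `i`-th inclusion `A → W n`. -/
noncomputable def ιW (n : ℕ) (i : Fin (n + 1)) : CommRingCat.of A ⟶ W R A n :=
  WidePushout.ι (B := (arr R A).left) (objs := fun _ : Fin (n + 1) => (arr R A).right)
    (fun _ => (arr R A).hom) i

/-- The structure map `R → W n`. -/
noncomputable def headW (n : ℕ) : CommRingCat.of R ⟶ W R A n :=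
  WidePushout.head (B := (arr R A).left) (objs := fun _ : Fin (n + 1) => (arr R A).right)
    (fun _ => (arr R A).hom)

theorem arrow_ιW (n : ℕ) (i : Fin (n + 1)) :
    CommRingCat.ofHom (algebraMap R A) ≫ ιW R A n i = headW R A n :=
  WidePushout.arrow_ι (B := (arr R A).left) (objs := fun _ : Fin (n + 1) => (arr R A).right)
    (fun _ => (arr R A).hom) i

/-- Comparison map from the wide pushout to the tensor tower. -/
noncomputable def toM (n : ℕ) : W R A n ⟶ CommRingCat.of (M R A (n + 1)) :=
  WidePushout.desc (CommRingCat.ofHom (algebraMap R (M R A (n + 1))))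
    (fun i => CommRingCat.ofHom (ι R A (n + 1) i).toRingHom)
    (fun i => by
      ext r
      exact (ι R A (n + 1) i).commutes r)

theorem ιW_toM (n : ℕ) (i : Fin (n + 1)) :
    ιW R A n i ≫ toM R A n = CommRingCat.ofHom (ι R A (n + 1) i).toRingHom :=
  WidePushout.ι_desc _ _ _ _ _

theorem headW_toM (n : ℕ) :
    headW R A n ≫ toM R A n = CommRingCat.ofHom (algebraMap R (M R A (n + 1))) :=
  WidePushout.head_desc _ _ _ _


theorem W_hom_ext (n : ℕ) {S : CommRingCat.{u}} (f g : W R A n ⟶ S)
    (h : ∀ i, ιW R A n i ≫ f = ιW R A n i ≫ g) (h0 : headW R A n ≫ f = headW R A n ≫ g) : f = g :=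
  WidePushout.hom_ext _ _ _ h h0

/-- `W n` as an `R`-algebra through the structure map. -/
@[instance_reducible]
noncomputable def algW (n : ℕ) : Algebra R (W R A n) := (headW R A n).hom.toAlgebra

/-- The inclusions into `W n` as `R`-algebra maps. -/
noncomputable def ιWalg (n : ℕ) (i : Fin (n + 1)) :
    letI := algW R A n
    A →ₐ[R] W R A n :=
  letI := algW R A n
  { (ιW R A n i).hom with
    commutes' := fun r => by
      have := congrArg (fun f => f.hom r) (arrow_ιW R A n i)
      exact this }

/-- Comparison map from the tensor tower to the wide pushout. -/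
noncomputable def fromM (n : ℕ) :
    letI := algW R A n
    M R A (n + 1) →ₐ[R] W R A n :=
  letI := algW R A n
  lift R A (n + 1) (W R A n) (ιWalg R A n)

theorem toM_fromM (n : ℕ) (x : M R A (n + 1)) : (toM R A n).hom (fromM R A n x) = x := by
  let _ := algW R A n
  -- `toM` as an algebra map
  let t : W R A n →ₐ[R] M R A (n + 1) :=
    { (toM R A n).hom with
      commutes' := fun r => by
        have := congrArg (fun f => f.hom r) (headW_toM R A n)
        exact this }
  have key : t.comp (fromM R A n) = AlgHom.id R (M R A (n + 1)) := by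
    apply hom_ext R A (n + 1)
    intro i
    rw [AlgHom.comp_assoc]
    have h1 : (fromM R A n).comp (ι R A (n + 1) i) = ιWalg R A n i :=
      lift_comp_ι R A (n + 1) (W R A n) (ιWalg R A n) i
    rw [h1]
    apply AlgHom.ext
    intro a
    have := congrArg (fun f => f.hom a) (ιW_toM R A n i)
    exact this
  exact congrArg (fun f => f x) key

theorem fromM_toM (n : ℕ) (x : W R A n) : fromM R A n ((toM R A n).hom x) = x := by
  let _ := algW R A n
  have key : toM R A n ≫ CommRingCat.ofHom (fromM R A n).toRingHom = 𝟙 (W R A n) := by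
    apply W_hom_ext
    · intro i
      rw [← Category.assoc, ιW_toM, Category.comp_id]
      ext a
      have h1 : (fromM R A n).comp (ι R A (n + 1) i) = ιWalg R A n i :=
        lift_comp_ι R A (n + 1) (W R A n) (ιWalg R A n) i
      exact congrArg (fun f => f a) h1
    · rw [← Category.assoc, headW_toM, Category.comp_id]
      ext r
      exact (fromM R A n).commutes r
  exact congrArg (fun f => f.hom x) key

theorem toM_bijective (n : ℕ) : Function.Bijective (toM R A n).hom :=
  ⟨fun x y h => by
      have := congrArg (fromM R A n) h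
      rwa [fromM_toM, fromM_toM] at this,
    fun y => ⟨fromM R A n y, toM_fromM R A n y⟩⟩

theorem ιW_δ (n : ℕ) (i : Fin (n + 2)) (j : Fin (n + 1)) :
    ιW R A n j ≫ (cech R A).δ i = ιW R A (n + 1) (i.succAbove j) := by
  unfold ιW
  change WidePushout.ι _ j ≫ (arr R A).cechConerve.map (SimplexCategory.δ i) = _
  rw [Arrow.cechConerve_map]
  exact WidePushout.ι_desc (fun _ => (arr R A).hom) _ _ _ j

theorem headW_δ (n : ℕ) (i : Fin (n + 2)) :
    headW R A n ≫ (cech R A).δ i = headW R A (n + 1) := by
  unfold headW
  change WidePushout.head _ ≫ (arr R A).cechConerve.map (SimplexCategory.δ i) = _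
  rw [Arrow.cechConerve_map]
  exact WidePushout.head_desc (fun _ => (arr R A).hom) _ _ _

/-- The comparison maps commute with the cofaces. -/
theorem δ_toM (n : ℕ) (i : Fin (n + 2)) :
    (cech R A).δ i ≫ toM R A (n + 1) =
      toM R A n ≫ CommRingCat.ofHom (δ R A (n + 1) i).toRingHom := by
  apply W_hom_ext
  · intro j
    rw [← Category.assoc, ιW_δ, ιW_toM, ← Category.assoc, ιW_toM]
    ext a
    have := δ_comp_ι R A (n + 1) i j
    exact (congrArg (fun f => f a) this).symm
  · rw [← Category.assoc, headW_δ, headW_toM, ← Category.assoc, headW_toM]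
    ext r
    exact ((δ R A (n + 1) i).commutes r).symm

theorem δ_toM_apply (n : ℕ) (i : Fin (n + 2)) (x : W R A n) :
    (toM R A (n + 1)).hom (((cech R A).δ i).hom x) = δ R A (n + 1) i ((toM R A n).hom x) :=
  congrArg (fun f => f.hom x) (δ_toM R A n i)


/-- The comparison maps commute with the alternating sums of the cofaces. -/
theorem d_toM (n : ℕ) (x : W R A n) :
    (toM R A (n + 1)).hom (∑ i : Fin (n + 2), ((-1 : ℤ) ^ (i : ℕ)) • ((cech R A).δ i).hom x) =
      d R A (n + 1) ((toM R A n).hom x) := by
  rw [map_sum]
  unfold d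
  rw [LinearMap.sum_apply]
  apply Finset.sum_congr rfl
  intro i _
  rw [map_zsmul, δ_toM_apply, LinearMap.smul_apply]
  rfl

/-- The functor to abelian groups whose alternating coface complex is the Amitsur complex. -/
noncomputable abbrev F : CosimplicialObject AddCommGrpCat.{u} :=
  (cech R A) ⋙ forget₂ CommRingCat RingCat ⋙ forget₂ RingCat AddCommGrpCat

theorem objD_apply (n : ℕ) (x : W R A n) :
    (AlgebraicTopology.AlternatingCofaceMapComplex.objD (F R A) n).hom x =
      ∑ i : Fin (n + 2), ((-1 : ℤ) ^ (i : ℕ)) • ((cech R A).δ i).hom x := by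
  unfold AlgebraicTopology.AlternatingCofaceMapComplex.objD
  have h : ∀ (s : Finset (Fin (n + 2))),
      (∑ i ∈ s, ((-1 : ℤ) ^ (i : ℕ)) • (F R A).δ i).hom x =
        ∑ i ∈ s, ((-1 : ℤ) ^ (i : ℕ)) • ((cech R A).δ i).hom x := by
    intro s
    classical
    induction s using Finset.induction_on with
    | empty => simp
    | insert a s ha ih =>
      rw [Finset.sum_insert ha, Finset.sum_insert ha, AddCommGrpCat.hom_add,
        AddMonoidHom.add_apply, ih, AddCommGrpCat.hom_zsmul]
      rfl
  exact h Finset.univ

end Compare

/-- Let R → A be a faithfully flat homomorphism of commutative rings. The Amitsur complex A → A ⊗_R A →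
A ⊗_R A ⊗_R A → ⋯, whose differential is the alternating sum of the maps inserting a unit in each
tensor slot, is realised here as the alternating coface complex (of underlying abelian groups) of
the Čech conerve of R → A in the category of commutative rings, whose degree-n term is the
(n+1)-fold coproduct of A under R, i.e. the (n+1)-fold tensor power over R. Then this complex is
exact in every degree n ≥ 1. (Exactness at the start, namely that R → A is injective with image the
equaliser of the two maps A → A ⊗_R A, is the degree-0 statement and is not part of this row.) -/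
theorem result (R A : Type u) [CommRing R] [CommRing A] [Algebra R A] [Module.FaithfullyFlat R A]
    (n : ℕ) (hn : 0 < n) :
    (AlgebraicTopology.AlternatingCofaceMapComplex.obj
      ((Arrow.mk (CommRingCat.ofHom (algebraMap R A))).cechConerve ⋙ forget₂ CommRingCat RingCat ⋙
        forget₂ RingCat AddCommGrpCat)).ExactAt n := by
  obtain ⟨m, rfl⟩ : ∃ m, n = m + 1 := ⟨n - 1, by omega⟩
  rw [HomologicalComplex.exactAt_iff' _ m (m + 1) (m + 2) (by simp) (by simp),
    ShortComplex.ab_exact_iff]
  intro x hx
  -- unfold the differentials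
  change (AlgebraicTopology.AlternatingCofaceMapComplex.obj (F R A)).d (m + 1) (m + 2) x = 0 at hx
  have hd1 : (AlgebraicTopology.AlternatingCofaceMapComplex.obj (F R A)).d (m + 1) (m + 2) =
      AlgebraicTopology.AlternatingCofaceMapComplex.objD (F R A) (m + 1) :=
    CochainComplex.of_d (fun n => (F R A).obj (SimplexCategory.mk n))
      (AlgebraicTopology.AlternatingCofaceMapComplex.objD (F R A)) (m + 1)
  have hd0 : (AlgebraicTopology.AlternatingCofaceMapComplex.obj (F R A)).d m (m + 1) =
      AlgebraicTopology.AlternatingCofaceMapComplex.objD (F R A) m :=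
    CochainComplex.of_d (fun n => (F R A).obj (SimplexCategory.mk n))
      (AlgebraicTopology.AlternatingCofaceMapComplex.objD (F R A)) m
  rw [hd1] at hx
  let x' : W R A (m + 1) := x
  have hx' : (AlgebraicTopology.AlternatingCofaceMapComplex.objD (F R A) (m + 1)).hom x' = 0 := hx
  rw [objD_apply] at hx'
  have h1 : d R A (m + 2) ((toM R A (m + 1)).hom x') = 0 := by
    rw [← d_toM, hx', map_zero]
  obtain ⟨y', hy'⟩ := (exact_d R A (m + 1) ((toM R A (m + 1)).hom x')).1 h1
  obtain ⟨y, hy⟩ := (toM_bijective R A m).2 y'
  refine ⟨(y : W R A m), ?_⟩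
  change (AlgebraicTopology.AlternatingCofaceMapComplex.obj (F R A)).d m (m + 1) y = x
  rw [hd0]
  change (AlgebraicTopology.AlternatingCofaceMapComplex.objD (F R A) m).hom y = x'
  rw [objD_apply]
  apply (toM_bijective R A (m + 1)).1
  rw [d_toM, hy, hy']

end Groth.Agent.S15057
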