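import Groth.Statements.S15079
-- import your own Groth.Agent.* helpers here
import Groth.Agent.S15078

set_option autoImplicit false
universe u v
open MovLem

namespace Groth.Agent.S15079

open Polynomial Groth.Agent.S15078 in
/-- Degree and leading coefficient of the twisted translate (refinement of `S15078`). -/
theorem natDegree_twistedTranslate
    {k : Type u} [Field k] {K : Type v} [Field K] [Algebra k K] {r : ℕ}
    (f : Polynomial (MvPolynomial (Fin r) k)) (j0 : ℕ) (hj0 : j0 ∈ f.support)
    (hmax : ∀ j ∈ f.support, (f.natDegree + 1) * (f.coeff j).totalDegree + j ≤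
      (f.natDegree + 1) * (f.coeff j0).totalDegree + j0)
    (N : ℕ) (hND : f.natDegree + 1 ≤ N) (g : Fin r → K)
    (hg : MvPolynomial.aeval g
      (MvPolynomial.homogeneousComponent (f.coeff j0).totalDegree (f.coeff j0)) ≠ 0) :
    (Polynomial.eval₂ (Φ g N).toRingHom Polynomial.X f).natDegree =
        N * (f.coeff j0).totalDegree + j0 ∧
      (Polynomial.eval₂ (Φ g N).toRingHom Polynomial.X f).leadingCoeff =
        MvPolynomial.C (MvPolynomial.aeval g
          (MvPolynomial.homogeneousComponent (f.coeff j0).totalDegree (f.coeff j0))) := by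
  classical
  have hN : 0 < N := lt_of_lt_of_le (Nat.succ_pos _) hND
  have hsum : Polynomial.eval₂ (Φ g N).toRingHom Polynomial.X f =
      ∑ j ∈ f.support, Φ g N (f.coeff j) * X ^ j := by
    rw [Polynomial.eval₂_eq_sum, Polynomial.sum_def]
    rfl
  have hstrict : ∀ j ∈ f.support, j ≠ j0 →
      N * (f.coeff j).totalDegree + j < N * (f.coeff j0).totalDegree + j0 := by
    intro j hj hjne
    exact arith f.natDegree N _ _ j j0 hND (Polynomial.le_natDegree_of_mem_supp j hj)
      (Polynomial.le_natDegree_of_mem_supp j0 hj0) (hmax j hj) hjne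
  have hterm : ∀ j ∈ f.support,
      (Φ g N (f.coeff j) * X ^ j).natDegree ≤ N * (f.coeff j).totalDegree + j := by
    intro j hj
    exact natDegree_mul_le_of_le (Φ_lt g N hN (f.coeff j) _ le_rfl).1 (natDegree_X_pow_le j)
  have hdeg : (Polynomial.eval₂ (Φ g N).toRingHom Polynomial.X f).natDegree ≤
      N * (f.coeff j0).totalDegree + j0 := by
    rw [hsum]
    apply natDegree_sum_le_of_forall_le
    intro j hj
    by_cases hjj : j = j0
    · subst hjj; exact hterm j hj
    · exact (hterm j hj).trans (hstrict j hj hjj).le
  have hcoeff : (Polynomial.eval₂ (Φ g N).toRingHom Polynomial.X f).coeff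
      (N * (f.coeff j0).totalDegree + j0) = MvPolynomial.C (MvPolynomial.aeval g
        (MvPolynomial.homogeneousComponent (f.coeff j0).totalDegree (f.coeff j0))) := by
    rw [hsum, finsetSum_coeff, Finset.sum_eq_single j0]
    · rw [coeff_mul_X_pow]
      exact (Φ_lt g N hN (f.coeff j0) _ le_rfl).2
    · intro j hj hjne
      exact coeff_eq_zero_of_natDegree_lt (lt_of_le_of_lt (hterm j hj) (hstrict j hj hjne))
    · intro h; exact absurd hj0 h
  have hCne : (MvPolynomial.C (MvPolynomial.aeval g
        (MvPolynomial.homogeneousComponent (f.coeff j0).totalDegree (f.coeff j0))) :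
        MvPolynomial (Fin r) K) ≠ 0 := by
    rw [Ne, MvPolynomial.C_eq_zero]
    exact hg
  have hnat := natDegree_eq_of_le_of_coeff_ne_zero hdeg (by rw [hcoeff]; exact hCne)
  exact ⟨hnat, by rw [Polynomial.leadingCoeff, hnat, hcoeff]⟩

open Polynomial in
/-- Quotient by a polynomial of positive degree with unit leading coefficient over a domain:
finite, and the base ring embeds. -/
theorem finite_and_injective_of_leadingCoeff_isUnit {R : Type*} [CommRing R] [IsDomain R]
    (F : R[X]) (hu : IsUnit F.leadingCoeff) (hd : 1 ≤ F.natDegree) :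
    Module.Finite R (R[X] ⧸ Ideal.span {F}) ∧
      Function.Injective ((Ideal.Quotient.mk (Ideal.span {F})).comp (algebraMap R R[X])) := by
  constructor
  · obtain ⟨u, hu'⟩ := hu
    have hmonic : (C (↑u⁻¹ : R) * F).Monic := by
      rw [Monic, leadingCoeff_mul, leadingCoeff_C, ← hu', Units.inv_mul]
    have hspan : Ideal.span {C (↑u⁻¹ : R) * F} = Ideal.span {F} :=
      Ideal.span_singleton_mul_left_unit (Polynomial.isUnit_C.mpr (Units.isUnit _)) F
    rw [← hspan]
    exact hmonic.finite_quotient
  · rw [injective_iff_map_eq_zero]
    intro a ha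
    rw [RingHom.comp_apply, Ideal.Quotient.eq_zero_iff_mem, Ideal.mem_span_singleton] at ha
    obtain ⟨q, hq⟩ := ha
    by_contra ha0
    have hq0 : q ≠ 0 := by
      rintro rfl
      rw [mul_zero] at hq
      exact ha0 ((map_eq_zero_iff _ (Polynomial.C_injective)).mp hq)
    have hF0 : F ≠ 0 := by
      rintro rfl
      simp at hd
    have h1 : (algebraMap R R[X] a).natDegree = F.natDegree + q.natDegree := by
      rw [hq, natDegree_mul hF0 hq0]
    have h2 : (algebraMap R R[X] a).natDegree = 0 := natDegree_C a
    omega

/-- Let k be an infinite perfect field, r, m ≥ 1, and let f be an irreducible polynomial in t over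
k[x_1, …, x_r] whose constant term in t is a unit of k[x_1, …, x_r], so that the hypersurface Z : f
= 0 in affine (r+1)-space with coordinates x_1, …, x_r, t is integral and does not meet the divisor
t = 0 (the modulus condition in cubical degree one). Then there are a nonzero polynomial h in k[x_1,
…, x_r] and an integer s₀ such that for every s ≥ s₀, every field K over k and every point g of K^r
with h(g) ≠ 0, the translate of Z_K by the automorphism x_i ↦ x_i + t^{s(m+1)} g_i, t ↦ t is finite
and surjective over affine r-space over K: the quotient of K[x_1, …, x_r][t] by the translated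
equation is a finitely generated K[x_1, …, x_r]-module and K[x_1, …, x_r] maps injectively into it.
(The published statement allows every nonzero point g of affine r-space; for r = 2 and f = x_1 t − 1
the point g = (0, 1) translates Z to itself, which is not finite over the affine plane, so the
conclusion is stated here for g in a nonempty open subset h ≠ 0, which is what the published proof
establishes.) -/
theorem result
    {k : Type u} [Field k] [Infinite k] [PerfectField k] (r m : ℕ) (hr : 1 ≤ r) (hm : 1 ≤ m)
    (f : Polynomial (MvPolynomial (Fin r) k)) (hirr : Irreducible f) (h0 : IsUnit (f.coeff 0)) :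
    ∃ h : MvPolynomial (Fin r) k, h ≠ 0 ∧ ∃ s₀ : ℕ, ∀ s : ℕ, s₀ ≤ s →
      ∀ (K : Type v) [Field K] [Algebra k K] (g : Fin r → K), MvPolynomial.aeval g h ≠ 0 →
        ∀ F : Polynomial (MvPolynomial (Fin r) K),
          F = Polynomial.eval₂ (MvPolynomial.aeval (fun i : Fin r => Polynomial.C (MvPolynomial.X i) + Polynomial.C (MvPolynomial.C (g i)) * Polynomial.X ^ (s * (m + 1))) : MvPolynomial (Fin r) k →ₐ[k] Polynomial (MvPolynomial (Fin r) K)).toRingHom Polynomial.X f →
          Module.Finite (MvPolynomial (Fin r) K) (Polynomial (MvPolynomial (Fin r) K) ⧸ Ideal.span {F}) ∧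
          Function.Injective ((Ideal.Quotient.mk (Ideal.span {F})).comp (algebraMap (MvPolynomial (Fin r) K) (Polynomial (MvPolynomial (Fin r) K)))) := by
  classical
  have hf : f ≠ 0 := hirr.ne_zero
  have hne : f.support.Nonempty := Polynomial.nonempty_support_iff.mpr hf
  obtain ⟨j0, hj0, hmax⟩ := Finset.exists_max_image f.support
    (fun j => (f.natDegree + 1) * (f.coeff j).totalDegree + j) hne
  have hfj0 : f.coeff j0 ≠ 0 := Polynomial.mem_support_iff.mp hj0
  -- `f` has positive degree in `t`
  have hdegf : 1 ≤ f.natDegree := by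
    by_contra hlt
    have h0 : f.natDegree = 0 := by omega
    obtain ⟨a, ha⟩ := Polynomial.natDegree_eq_zero.mp h0
    apply hirr.not_isUnit
    have hu : IsUnit (f.coeff 0) := ‹IsUnit (f.coeff 0)›
    rw [← ha, Polynomial.coeff_C_zero] at hu
    rw [← ha]
    exact Polynomial.isUnit_C.mpr hu
  refine ⟨MvPolynomial.homogeneousComponent (f.coeff j0).totalDegree (f.coeff j0), ?_,
    f.natDegree + 1, ?_⟩
  · obtain ⟨α, hα, hαE⟩ := Finset.exists_mem_eq_sup (f.coeff j0).support
      (MvPolynomial.support_nonempty.mpr hfj0) (fun s => s.sum fun _ e => e)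
    intro h0
    have := congrArg (MvPolynomial.coeff α) h0
    have hαE' : Finsupp.degree α = (f.coeff j0).totalDegree := hαE.symm
    rw [MvPolynomial.coeff_homogeneousComponent, if_pos hαE', MvPolynomial.coeff_zero] at this
    exact (MvPolynomial.mem_support_iff.mp hα) this
  · intro s hs K _ _ g hg F hF
    have hND : f.natDegree + 1 ≤ s * (m + 1) :=
      hs.trans (Nat.le_mul_of_pos_right s (Nat.succ_pos m))
    obtain ⟨hnat, hlc⟩ := natDegree_twistedTranslate f j0 hj0 hmax (s * (m + 1)) hND g hg
    have hFe : F = Polynomial.eval₂ (Groth.Agent.S15078.Φ g (s * (m + 1))).toRingHom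
        Polynomial.X f := hF
    rw [← hFe] at hnat hlc
    apply finite_and_injective_of_leadingCoeff_isUnit F
    · rw [hlc]
      exact (Ne.isUnit hg).map MvPolynomial.C
    · rw [hnat]
      -- the maximising index has positive weight
      have hmem : f.natDegree ∈ f.support :=
        Polynomial.mem_support_iff.mpr (Polynomial.leadingCoeff_ne_zero.mpr hf)
      have h1 := hmax f.natDegree hmem
      have hpos : 1 ≤ (f.natDegree + 1) * (f.coeff j0).totalDegree + j0 := by
        have : 1 ≤ (f.natDegree + 1) * (f.coeff f.natDegree).totalDegree + f.natDegree :=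
          le_trans hdegf (Nat.le_add_left _ _)
        exact le_trans this h1
      by_contra hlt
      have hz : s * (m + 1) * (f.coeff j0).totalDegree + j0 = 0 := by omega
      have hj00 : j0 = 0 := by omega
      have hE0 : s * (m + 1) * (f.coeff j0).totalDegree = 0 := by omega
      have hNpos : 0 < s * (m + 1) := lt_of_lt_of_le (Nat.succ_pos _) hND
      have hE : (f.coeff j0).totalDegree = 0 := by
        rcases Nat.mul_eq_zero.mp hE0 with h | h
        · omega
        · exact h
      rw [hE, hj00] at hpos
      simp at hpos

end Groth.Agent.S15079
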