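-- Statement S1508.
import Groth.Statements.S1508
import Groth.Agent.Lib.Seat0PerfMor

set_option autoImplicit false
universe u
attribute [local instance] HasDerivedCategory.standard
open FlatMor

namespace Groth.Agent.S1508

open Groth.Agent.Lib.Seat0.PerfMor

open AlgebraicGeometry CategoryTheory Limits in
/-- The composition of two perfect morphisms of schemes is perfect (perfection taken affine-locally
through perfect ring maps). -/
theorem result {X Y Z : Scheme.{u}} (f : X ⟶ Y) (g : Y ⟶ Z) (hf : MoreMor.IsPerfectMor f) (hg : MoreMor.IsPerfectMor g) :
    MoreMor.IsPerfectMor (f ≫ g) := by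
  rw [isPerfectMor_iff] at hf hg ⊢
  exact perfM_comp hf hg

end Groth.Agent.S1508
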