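import Groth.Statements.S15100
import Groth.Agent.Lib.Seat70KaehlerLocal

set_option autoImplicit false
universe u
open TensorProduct
open CAlg

namespace Groth.Agent.S15100

/-- Let V be a discrete valuation ring with uniformizer u and V → R → A commutative V-algebras with A an
R-algebra compatibly; assume A is a Noetherian local domain of Krull dimension 3 with u in its
maximal ideal, that Ω_{A/V} is a free A-module of rank 2 and that A ⊗_R Ω_{R/V} is a free A-module
of rank 1. Suppose that on the special fibre Ω_{A/R} is locally free exactly away from the closed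
point: for every prime P of A containing u other than the maximal ideal the localization (Ω_{A/R})_P
is free over A_P, while Ω_{A/R} is not free over A. Then Ω_{A/R} is not locally free on the generic
fibre: there is a prime Q of A not containing u with (Ω_{A/R})_Q not free over A_Q. (In the
published statement R is a regular local ring of dimension 2 and A a local ring of dimension 3, both
smooth over V, which yields the two freeness hypotheses used here, and the hypothesis is phrased as
local freeness of Ω of the special fibre of A over that of R away from the closed point.) -/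
theorem result
    (V R A : Type u) [CommRing V] [IsDomain V] [IsDiscreteValuationRing V] [CommRing R] [CommRing A]
    [IsDomain A] [IsNoetherianRing A] [IsLocalRing A]
    [Algebra V R] [Algebra V A] [Algebra R A] [IsScalarTower V R A]
    (u : V) (hu : Irreducible u) (huA : algebraMap V A u ∈ IsLocalRing.maximalIdeal A)
    (hdimA : ringKrullDim A = 3)
    (hΩA : Module.Free A (Ω[A⁄V])) (hrkA : Module.finrank A (Ω[A⁄V]) = 2)
    (hΩR : Module.Free A (A ⊗[R] Ω[R⁄V])) (hrkR : Module.finrank A (A ⊗[R] Ω[R⁄V]) = 1)
    (h0 : ∀ P : PrimeSpectrum A, algebraMap V A u ∈ P.asIdeal → P.asIdeal ≠ IsLocalRing.maximalIdeal A →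
      Module.Free (Localization.AtPrime P.asIdeal) (LocalizedModule P.asIdeal.primeCompl (Ω[A⁄R])))
    (hm : ¬ Module.Free A (Ω[A⁄R])) :
    ∃ Q : PrimeSpectrum A, algebraMap V A u ∉ Q.asIdeal ∧
      ¬ Module.Free (Localization.AtPrime Q.asIdeal) (LocalizedModule Q.asIdeal.primeCompl (Ω[A⁄R])) := by
  classical
  -- the exact sequence
  let φ := KaehlerDifferential.mapBaseChange V R A
  let ψ := KaehlerDifferential.map V R A A
  have hex : Function.Exact φ ψ := KaehlerDifferential.exact_mapBaseChange_map V R A
  have hψ : Function.Surjective ψ := KaehlerDifferential.map_surjective V R A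
  -- finiteness
  have : Module.Finite A (Ω[A⁄V]) := Module.finite_of_finrank_pos (by omega)
  have : Module.Finite A (A ⊗[R] Ω[R⁄V]) := Module.finite_of_finrank_pos (by omega)
  -- bases
  let b1 : Module.Basis (Fin 1) A (A ⊗[R] Ω[R⁄V]) := Module.finBasisOfFinrankEq A _ hrkR
  let b2 : Module.Basis (Fin 2) A (Ω[A⁄V]) := Module.finBasisOfFinrankEq A _ hrkA
  let z := φ (b1 0)
  have hker : LinearMap.ker ψ = Submodule.span A {z} := by
    rw [hex.linearMap_ker_eq, ← Submodule.map_top, ← b1.span_eq, Submodule.map_span]
    congr 1
    ext x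
    simp [z, Fin.eq_zero, eq_comm]
  -- z is in 𝔪 F and nonzero
  have hzm : z ∈ (IsLocalRing.maximalIdeal A) • (⊤ : Submodule A (Ω[A⁄V])) := by
    by_contra hz
    exact hm (Groth.Agent.Lib.Seat70.KaehlerLocal.free_coker_of_notMem ψ hψ z hker hz)
  have hz0 : z ≠ 0 := by
    intro hz
    apply hm
    have hinj : Function.Injective ψ := by
      rw [← LinearMap.ker_eq_bot, hker, hz]
      simp
    exact Module.Free.of_equiv (LinearEquiv.ofBijective ψ ⟨hinj, hψ⟩)
  -- the ideal of coordinates
  let s : Finset A := Finset.univ.image (fun i => b2.repr z i)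
  have hscard : s.card ≤ 2 := by
    refine Finset.card_image_le.trans ?_
    simp
  have hzQ : ∀ Q : Ideal A, Ideal.span (s : Set A) ≤ Q → z ∈ Q • (⊤ : Submodule A (Ω[A⁄V])) := by
    intro Q hQ
    rw [← b2.sum_repr z]
    refine Submodule.sum_mem _ fun i _ => ?_
    refine Submodule.smul_mem_smul (hQ (Ideal.subset_span ?_)) Submodule.mem_top
    simp [s]
  have hnotfree : ∀ Q : Ideal A, [Q.IsPrime] → Ideal.span (s : Set A) ≤ Q →
      ¬ Module.Free (Localization.AtPrime Q) (LocalizedModule Q.primeCompl (Ω[A⁄R])) := by
    intro Q _ hQ hfree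
    obtain ⟨c, hc, hcz⟩ := Groth.Agent.Lib.Seat70.KaehlerLocal.exists_smul_eq_zero_of_free_localized Q ψ hψ z hker (hzQ Q hQ) hfree
    have hc0 : c ≠ 0 := by
      rintro rfl
      exact hc (Ideal.zero_mem Q)
    have : Module.IsTorsionFree A (Ω[A⁄V]) := inferInstance
    exact hz0 ((smul_eq_zero.mp hcz).resolve_left hc0)
  by_contra hcon
  push Not at hcon
  -- every prime containing the coordinates is the maximal ideal
  have hsm : Ideal.span (s : Set A) ≤ IsLocalRing.maximalIdeal A := by
    rw [Ideal.span_le]
    intro x hx
    simp only [s, Finset.coe_image, Finset.coe_univ, Set.image_univ, Set.mem_range] at hx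
    obtain ⟨i, rfl⟩ := hx
    by_contra hni
    have hunit : IsUnit (b2.repr z i) := by
      simpa [IsLocalRing.mem_maximalIdeal, mem_nonunits_iff] using hni
    -- then z ∉ 𝔪 F
    have : b2.coord i z ∈ IsLocalRing.maximalIdeal A := by
      have hmap : ∀ v ∈ (IsLocalRing.maximalIdeal A) • (⊤ : Submodule A (Ω[A⁄V])),
          b2.coord i v ∈ IsLocalRing.maximalIdeal A := by
        intro v hv
        refine Submodule.smul_induction_on hv ?_ ?_
        · intro r hr n _
          rw [map_smul]
          exact Ideal.mul_mem_right _ _ hr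
        · intro x y hx hy
          rw [map_add]
          exact add_mem hx hy
      exact hmap z hzm
    rw [IsLocalRing.mem_maximalIdeal, mem_nonunits_iff] at this
    exact this hunit
  have hmin : IsLocalRing.maximalIdeal A ∈ (Ideal.span (s : Set A)).minimalPrimes := by
    refine ⟨⟨inferInstance, hsm⟩, ?_⟩
    rintro Q ⟨hQp, hQs⟩ hQle
    have := hQp
    have hnf := hnotfree Q hQs
    have huQ : algebraMap V A u ∈ Q := by
      by_contra huQ
      exact hnf (hcon ⟨Q, hQp⟩ huQ)
    by_contra hne
    have hQne : Q ≠ IsLocalRing.maximalIdeal A := by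
      rintro rfl
      exact hne le_rfl
    exact hnf (h0 ⟨Q, hQp⟩ huQ hQne)
  have hht := Ideal.height_le_card_of_mem_minimalPrimes_span_finset hmin
  have hdim : (IsLocalRing.maximalIdeal A).height = (3 : ℕ∞) := by
    have h1 := IsLocalRing.maximalIdeal_height_eq_ringKrullDim (R := A)
    rw [hdimA] at h1
    have h2 : ((IsLocalRing.maximalIdeal A).height : WithBot ℕ∞) = ((3 : ℕ∞) : WithBot ℕ∞) := by
      rw [h1]; rfl
    exact WithBot.coe_injective h2
  rw [hdim] at hht
  have : (3 : ℕ∞) ≤ 2 := hht.trans (by exact_mod_cast hscard)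
  exact absurd this (by norm_num)

end Groth.Agent.S15100
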