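import Groth.Statements.S15173
import Mathlib

set_option autoImplicit false
universe u v
open Polynomial
open BddFin

namespace Groth.Agent.S15173

/-- Let K be a field of characteristic p > 0 such that K contains all roots of unity (for every n ≥ 1
the polynomial X^n − 1 splits into linear factors over K), and A a finite-dimensional central
division algebra over K. If A contains an element w not in K with w ^ p in K, then the quotient of
the unit group of A by that of K has unbounded finite subgroups: for every N there is a subgroup H
of the units of A containing the units of K as a subgroup of finite index greater than N. (The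
published statement assumes only that some element of A is inseparable over K and passes at once to
a purely inseparable subfield of degree p; this row assumes an element generating such a subfield
directly, which is what the rest of the printed argument uses.) -/
theorem result
    (K : Type u) [Field K] (p : ℕ) [Fact p.Prime] [CharP K p] (hK : ∀ n : ℕ, 0 < n → (X ^ n - 1 : K[X]).Splits)
    (A : Type v) [DivisionRing A] [Algebra K A] [Algebra.IsCentral K A] [FiniteDimensional K A]
    (w : A) (hw : w ^ p ∈ (algebraMap K A).range) (hwK : w ∉ (algebraMap K A).range) (N : ℕ) :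
    ∃ H : Subgroup Aˣ, (Units.map (algebraMap K A : K →* A)).range ≤ H ∧
      N < ((Units.map (algebraMap K A : K →* A)).range).relIndex H := by
  classical
  -- K is infinite, by Wedderburn's little theorem
  have hKinf : Infinite K := by
    by_contra hfin
    rw [not_infinite_iff_finite] at hfin
    have : Finite A := Module.finite_of_finite K
    let _ : Field A := littleWedderburn A
    apply hwK
    have hc : w ∈ Subalgebra.center K A := by
      rw [Subalgebra.mem_center_iff]
      intro b
      exact mul_comm b w
    have := Algebra.IsCentral.out (K := K) (D := A) hc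
    rw [Algebra.mem_bot] at this
    obtain ⟨c, hc⟩ := this
    exact ⟨c, hc⟩
  set Z : Subgroup Aˣ := (Units.map (algebraMap K A : K →* A)).range with hZ
  have hZmem : ∀ x : Aˣ, x ∈ Z ↔ ∃ c : Kˣ, algebraMap K A (c : K) = (x : A) := by
    intro x
    rw [hZ, MonoidHom.mem_range]
    constructor
    · rintro ⟨c, rfl⟩
      exact ⟨c, rfl⟩
    · rintro ⟨c, hc⟩
      exact ⟨c, Units.ext hc⟩
  have hZn : Z.Normal := by
    refine ⟨fun x hx g => ?_⟩
    rw [hZmem] at hx ⊢
    obtain ⟨c, hc⟩ := hx
    refine ⟨c, ?_⟩
    have : (g : A) * x * ((g⁻¹ : Aˣ) : A) = x := by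
      rw [← hc, ← Algebra.commutes, mul_assoc, Units.mul_inv, mul_one]
    rw [Units.val_mul, Units.val_mul, this, hc]
  -- the units 1 + a w
  have hne : ∀ a : K, (1 + algebraMap K A a * w : A) ≠ 0 := by
    intro a h
    apply hwK
    have ha : a ≠ 0 := by
      rintro rfl
      simp at h
    refine ⟨-a⁻¹, ?_⟩
    have h1 : algebraMap K A a * w = -1 := eq_neg_of_add_eq_zero_right h
    have h2 : algebraMap K A a⁻¹ * (algebraMap K A a * w) = w := by
      rw [← mul_assoc, ← map_mul, inv_mul_cancel₀ ha, map_one, one_mul]
    rw [map_neg, ← h2, h1, mul_neg, mul_one]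
  let U : K → Aˣ := fun a => Units.mk0 _ (hne a)
  let π := QuotientGroup.mk' Z
  have hinj : Function.Injective (fun a => π (U a)) := by
    intro a b hab
    have h1 : (U a)⁻¹ * U b ∈ Z := by
      have := (QuotientGroup.eq (s := Z)).mp hab
      exact this
    rw [hZmem] at h1
    obtain ⟨c, hc⟩ := h1
    have h2 : (U b : A) = (U a : A) * algebraMap K A (c : K) := by
      rw [hc, Units.val_mul, ← mul_assoc, Units.mul_inv, one_mul]
    simp only [U, Units.val_mk0] at h2
    -- (1 - c) + (b - c a) w = 0
    have h3 : algebraMap K A (1 - (c : K)) + algebraMap K A (b - c * a) * w = 0 := by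
      have : (1 + algebraMap K A a * w) * algebraMap K A (c : K) =
          algebraMap K A (c : K) + algebraMap K A (c * a) * w := by
        rw [add_mul, one_mul, map_mul, ← Algebra.commutes (c : K) (algebraMap K A a * w), mul_assoc]
      rw [this] at h2
      rw [map_sub, map_sub, map_one, sub_mul]
      have h4 : algebraMap K A b * w = algebraMap K A (c : K) + algebraMap K A (c * a) * w - 1 := by
        rw [← h2]; abel
      rw [h4]; abel
    by_cases hbc : b - c * a = 0
    · rw [hbc, map_zero, zero_mul, add_zero] at h3
      have h5 : (1 - (c : K)) = 0 := (map_eq_zero_iff _ (algebraMap K A).injective).mp h3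
      have hc1 : (c : K) = 1 := by
        have := sub_eq_zero.mp h5
        exact this.symm
      rw [hc1, one_mul] at hbc
      exact (sub_eq_zero.mp hbc).symm
    · exfalso
      apply hwK
      refine ⟨-(b - c * a)⁻¹ * (1 - c), ?_⟩
      have h6 : algebraMap K A (b - c * a) * w = -algebraMap K A (1 - (c : K)) :=
        eq_neg_of_add_eq_zero_right h3
      have h7 : algebraMap K A (b - c * a)⁻¹ * (algebraMap K A (b - c * a) * w) = w := by
        rw [← mul_assoc, ← map_mul, inv_mul_cancel₀ hbc, map_one, one_mul]
      rw [← h7, h6, map_mul, map_neg, neg_mul, mul_neg]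
  -- p-th powers land in Z
  have hpow : ∀ a : K, (π (U a)) ^ p = 1 := by
    intro a
    rw [← map_pow, QuotientGroup.mk'_apply, QuotientGroup.eq_one_iff, hZmem]
    obtain ⟨d, hd⟩ := hw
    have hcomm : Commute (1 : A) (algebraMap K A a * w) := Commute.one_left _
    have h1 : ((U a) ^ p : Aˣ).val = algebraMap K A (1 + a ^ p * d) := by
      simp only [U, Units.val_pow_eq_pow_val, Units.val_mk0]
      have : CharP A p := charP_of_injective_algebraMap (algebraMap K A).injective p
      rw [add_pow_char_of_commute p hcomm, one_pow, (Algebra.commute_algebraMap_left a w).mul_pow, ← hd]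
      simp [map_add, map_mul, map_pow]
    have hne0 : (1 + a ^ p * d : K) ≠ 0 := by
      intro h0
      have := (U a ^ p).ne_zero
      rw [h1, h0, map_zero] at this
      exact this rfl
    exact ⟨Units.mk0 _ hne0, by rw [h1]; rfl⟩
  have hcommU : ∀ a b : K, π (U a) * π (U b) = π (U b) * π (U a) := by
    intro a b
    rw [← map_mul, ← map_mul]
    congr 1
    apply Units.ext
    simp only [U, Units.val_mul, Units.val_mk0]
    have h1 : Commute (algebraMap K A a * w) (algebraMap K A b * w) := by
      have : Commute w (algebraMap K A b * w) :=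
        (Algebra.commute_algebraMap_right b w).mul_right (Commute.refl w)
      exact (Algebra.commute_algebraMap_left a _).mul_left this
    have hx1 : Commute (1 + algebraMap K A a * w) 1 := Commute.one_right _
    have hxy : Commute (1 + algebraMap K A a * w) (algebraMap K A b * w) :=
      (Commute.one_left _).add_left h1
    exact (hx1.add_right hxy).eq
  -- choose N + 1 distinct elements of K
  obtain ⟨F, hFcard⟩ := Infinite.exists_subset_card_eq K (N + 1)
  let T : Set (Aˣ ⧸ Z) := (fun a => π (U a)) '' (F : Set K)
  have hTfin : T.Finite := (Finset.finite_toSet F).image _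
  have hTcomm : ∀ x ∈ T, ∀ y ∈ T, x * y = y * x := by
    rintro _ ⟨a, _, rfl⟩ _ ⟨b, _, rfl⟩
    exact hcommU a b
  let S : Subgroup (Aˣ ⧸ Z) := Subgroup.closure T
  have hScomm : ∀ x ∈ S, ∀ y ∈ S, x * y = y * x := by
    have hc := Subgroup.isMulCommutative_closure hTcomm
    intro x hx y hy
    have := hc.is_comm.comm (⟨x, hx⟩ : Subgroup.closure T) ⟨y, hy⟩
    exact congrArg Subtype.val this
  letI : CommGroup S :=
    { (inferInstance : Group S) with
      mul_comm := fun a b => Subtype.ext (hScomm a.1 a.2 b.1 b.2) }
  have hSpow : ∀ x ∈ S, x ^ p = 1 := by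
    intro x hx
    refine Subgroup.closure_induction (p := fun x _ => x ^ p = 1) ?_ ?_ ?_ ?_ hx
    · rintro _ ⟨a, _, rfl⟩
      exact hpow a
    · exact one_pow p
    · intro x y hx hy hxp hyp
      have hc : Commute x y := hScomm x hx y hy
      rw [hc.mul_pow, hxp, hyp, one_mul]
    · intro x _ hxp
      rw [inv_pow, hxp, inv_one]
  have : Finite T := hTfin
  have : Group.FG S := Group.closure_finite_fg T
  have hSfin : Finite S := by
    apply CommGroup.finite_of_fg_isMulTorsion
    intro g
    rw [isOfFinOrder_iff_pow_eq_one]
    refine ⟨p, (Fact.out : p.Prime).pos, ?_⟩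
    apply Subtype.ext
    simpa using hSpow g.1 g.2
  have hScard : N < Nat.card S := by
    have h1 : T ⊆ (S : Set (Aˣ ⧸ Z)) := Subgroup.subset_closure
    have h2 : T.ncard = N + 1 := by
      rw [Set.ncard_image_of_injective _ hinj, Set.ncard_coe_finset, hFcard]
    have h3 : T.ncard ≤ (S : Set (Aˣ ⧸ Z)).ncard :=
      Set.ncard_le_ncard h1 (Set.toFinite _)
    have h4 : (S : Set (Aˣ ⧸ Z)).ncard = Nat.card S := by
      rw [← Nat.card_coe_set_eq]; rfl
    omega
  refine ⟨S.comap π, ?_, ?_⟩
  · intro x hx
    rw [Subgroup.mem_comap]
    have : π x = 1 := by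
      rw [QuotientGroup.mk'_apply, QuotientGroup.eq_one_iff]
      exact hx
    rw [this]
    exact S.one_mem
  · have hker : (⊥ : Subgroup (Aˣ ⧸ Z)).comap π = Z := by
      rw [MonoidHom.comap_bot, QuotientGroup.ker_mk']
    have h0 : ((⊥ : Subgroup (Aˣ ⧸ Z)).comap π).relIndex (S.comap π) =
        (⊥ : Subgroup (Aˣ ⧸ Z)).relIndex S := by
      rw [Subgroup.relIndex_comap]
      congr 1
      exact Subgroup.map_comap_eq_self_of_surjective (QuotientGroup.mk'_surjective Z) S
    have h1 : Z.relIndex (S.comap π) = (⊥ : Subgroup (Aˣ ⧸ Z)).relIndex S :=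
      (congrArg (fun H : Subgroup Aˣ => H.relIndex (S.comap π)) hker.symm).trans h0
    rw [h1, Subgroup.relIndex_bot_left]
    exact hScard

end Groth.Agent.S15173
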