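import Groth.Statements.S15185
import Groth.Agent.Lib.LeadRadical
import Mathlib

set_option autoImplicit false
universe u v
open Polynomial
open BddFin

namespace Groth.Agent.S15185

/-- Let K be a field of characteristic p > 0 such that K contains all roots of unity (for every n ≥ 1
the polynomial X^n − 1 splits into linear factors over K), A a central division algebra of dimension
n ^ 2 over K, and write n = n' · p ^ m with n' prime to p; let N be the reduced norm of A. Consider
the kernel of the homomorphism from the units of A modulo those of K to Kˣ/(Kˣ)^(p^m) induced by N.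
Every element of finite order of that kernel has order dividing n': if x ≠ 0 in A has x ^ r in K for
some r ≥ 1 and N x is a (p ^ m)-th power of a non-zero element of K, then x ^ n' lies in K. -/
theorem result
    (K : Type u) [Field K] (p : ℕ) [Fact p.Prime] [CharP K p] (hK : ∀ n : ℕ, 0 < n → (X ^ n - 1 : K[X]).Splits)
    (A : Type v) [DivisionRing A] [Algebra K A] [Algebra.IsCentral K A] [FiniteDimensional K A]
    (n n' m : ℕ) (hA : Module.finrank K A = n ^ 2) (hn : n = n' * p ^ m) (hn' : ¬ p ∣ n')
    (N : A →* K) (hN : CSAGal.IsRedNorm K A N)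
    (x : A) (hx : x ≠ 0) (hxr : ∃ r : ℕ, 0 < r ∧ x ^ r ∈ (algebraMap K A).range)
    (hNx : ∃ b : K, b ≠ 0 ∧ N x = b ^ (p ^ m)) :
    x ^ n' ∈ (algebraMap K A).range := by
  classical
  have hp : p.Prime := Fact.out
  obtain ⟨r, hr, hxr⟩ := hxr
  obtain ⟨b, hb0, hNb⟩ := hNx
  have hint : IsIntegral K x := Algebra.IsIntegral.isIntegral x
  set e := (minpoly K x).natDegree with he
  have he0 : 0 < e := minpoly.natDegree_pos hint
  obtain ⟨c, hc⟩ := Groth.Agent.Lib.LeadCSA.pow_natDegree_minpoly_mem_range hK hint hr hxr
  -- e ∣ n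
  have hen : e ∣ n := by
    have hcomm := Groth.Agent.Lib.LeadCSA.adjoin_singleton_comm (k := K) x
    have := Groth.Agent.Lib.LeadCSA.finrank_comm_subalgebra_dvd
      (Algebra.adjoin K ({x} : Set A)) hcomm hA
    rwa [Groth.Agent.Lib.LeadCSA.finrank_adjoin_singleton] at this
  have hc0 : c ≠ 0 := by
    rintro rfl
    rw [map_zero] at hc
    exact hx (pow_eq_zero_iff he0.ne' |>.mp hc.symm)
  -- reduced norm of a scalar
  have hNc : N (algebraMap K A c) = c ^ n := by
    obtain ⟨K', _, _, _, s, φ, hφ⟩ := hN
    have hs : s = n := by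
      have h1 : Module.finrank K' (TensorProduct K K' A) = s * s := by
        rw [φ.toLinearEquiv.finrank_eq, Module.finrank_matrix]; simp
      rw [Module.finrank_baseChange, hA] at h1
      exact Nat.mul_self_inj.mp (by rw [← h1]; ring)
    subst hs
    apply (algebraMap K K').injective
    rw [hφ, map_pow]
    have h2 : ((1 : K') ⊗ₜ[K] (algebraMap K A c) : TensorProduct K K' A) =
        algebraMap K' (TensorProduct K K' A) (algebraMap K K' c) := by
      rw [Algebra.TensorProduct.algebraMap_apply, Algebra.algebraMap_eq_smul_one c (A := A),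
        ← TensorProduct.smul_tmul, ← Algebra.algebraMap_eq_smul_one]
      rfl
    rw [h2, AlgEquiv.commutes, Matrix.algebraMap_eq_diagonal, Matrix.det_diagonal]
    simp
  -- N(x)^e = c^n
  have h1 : (b ^ e) ^ (p ^ m) = (c ^ n') ^ (p ^ m) := by
    have : N x ^ e = c ^ n := by rw [← map_pow, ← hc, hNc]
    rw [hNb] at this
    rw [← pow_mul, mul_comm, pow_mul, this, hn, pow_mul]
  have h2 : b ^ e = c ^ n' := by
    have := iterateFrobenius_inj K p m
    apply this
    simpa [iterateFrobenius_def] using h1
  by_cases hpe : p ∣ e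
  · exfalso
    obtain ⟨e', he'⟩ := hpe
    have he'0 : 0 < e' := by
      rcases Nat.eq_zero_or_pos e' with h | h
      · rw [h, mul_zero] at he'; omega
      · exact h
    -- c is a p-th power
    have hcop : Nat.Coprime n' p := ((Nat.Prime.coprime_iff_not_dvd hp).mpr hn').symm
    have hbez : (n' : ℤ) * Nat.gcdA n' p + (p : ℤ) * Nat.gcdB n' p = 1 := by
      have := Nat.gcd_eq_gcd_ab n' p
      rw [hcop.gcd_eq_one] at this
      exact_mod_cast this.symm
    set α := Nat.gcdA n' p
    set β := Nat.gcdB n' p
    let d : K := (b ^ e') ^ α * c ^ β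
    have hd : d ^ p = c := by
      have h3 : c ^ n' = (b ^ e') ^ p := by
        rw [← h2, he', mul_comm, pow_mul]
      have hsw : ∀ (y : K) (γ : ℤ) (k : ℕ), (y ^ γ) ^ k = (y ^ k) ^ γ := by
        intro y γ k
        rw [← zpow_natCast, ← zpow_mul, mul_comm, zpow_mul, zpow_natCast]
      calc d ^ p = ((b ^ e') ^ p) ^ α * (c ^ p) ^ β := by
            simp only [d, mul_pow]
            rw [hsw, hsw]
        _ = (c ^ n') ^ α * (c ^ p) ^ β := by rw [h3]
        _ = c ^ ((n' : ℤ) * α + (p : ℤ) * β) := by
            rw [zpow_add₀ hc0, zpow_mul, zpow_natCast, zpow_mul, zpow_natCast]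
        _ = c := by rw [hbez, zpow_one]
    -- x^{e'} = d
    have hxe : x ^ e' = algebraMap K A d := by
      have h4 : (x ^ e' - algebraMap K A d) ^ p = 0 := by
        have hcm : Commute (x ^ e') (algebraMap K A d) := Algebra.commute_algebraMap_right d _
        have : CharP A p := charP_of_injective_algebraMap (algebraMap K A).injective p
        rw [sub_pow_char_of_commute p hcm, ← pow_mul, mul_comm, ← he', ← map_pow, hd, hc, sub_self]
      exact sub_eq_zero.mp (pow_eq_zero_iff hp.ne_zero |>.mp h4)
    -- contradiction with minimality of the minimal polynomial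
    have hmonic : (X ^ e' - C d : K[X]).Monic := monic_X_pow_sub_C d he'0.ne'
    have hroot : aeval x (X ^ e' - C d : K[X]) = 0 := by
      simp [hxe]
    have hdeg := minpoly.min K x hmonic hroot
    have hd1 : (minpoly K x).degree = (e : WithBot ℕ) := by
      rw [he]; exact degree_eq_natDegree (minpoly.ne_zero hint)
    rw [hd1, degree_X_pow_sub_C he'0 d] at hdeg
    have : e ≤ e' := by exact_mod_cast hdeg
    have h5 : 2 * e' ≤ e := by
      rw [he']; exact Nat.mul_le_mul_right e' hp.two_le
    omega
  · -- e ∣ n'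
    have hcop : Nat.Coprime e (p ^ m) := Nat.Coprime.pow_right m
      ((Nat.Prime.coprime_iff_not_dvd hp).mpr hpe).symm
    have hen' : e ∣ n' := by
      rw [hn] at hen
      exact hcop.dvd_of_dvd_mul_right hen
    obtain ⟨q, hq⟩ := hen'
    refine ⟨c ^ q, ?_⟩
    rw [map_pow, hq, pow_mul, hc]

end Groth.Agent.S15185
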