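import Groth.Statements.S15252
import Groth.Agent.Lib.Seat53CubicThreefoldMeet


set_option autoImplicit false
open Fano

namespace Groth.Agent.S15252

/-- Let X be a smooth cubic hypersurface in projective 4-space over ℂ and let L₁, L₂ be two distinct
lines on X which meet. Then there is a finite set G of points of L₁ such that every line on X
meeting both L₁ and L₂ passes through a point of G. Here X is given by a cubic form f in five
variables satisfying the Jacobian smoothness condition at every nonzero zero, a line on X is a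
2-dimensional subspace of ℂ^5 on which f vanishes, two lines meet when the subspaces intersect
non-trivially, and a point of L₁ is a 1-dimensional subspace of it. (The published statement also
covers two disjoint lines; this row assumes that L₁ and L₂ meet.) -/
theorem result
    (f : MvPolynomial (Fin 5) ℂ) (hf : f.IsHomogeneous 3)
    (hsm : ∀ u : Fin 5 → ℂ, u ≠ 0 → MvPolynomial.eval u f = 0 →
      ∃ i : Fin 5, MvPolynomial.eval u (MvPolynomial.pderiv i f) ≠ 0)
    (L₁ L₂ : Submodule ℂ (Fin 5 → ℂ)) (h₁ : Module.finrank ℂ ↥L₁ = 2) (h₂ : Module.finrank ℂ ↥L₂ = 2)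
    (hf₁ : ∀ u ∈ L₁, MvPolynomial.eval u f = 0) (hf₂ : ∀ u ∈ L₂, MvPolynomial.eval u f = 0)
    (hne : L₁ ≠ L₂) (hmeet : L₁ ⊓ L₂ ≠ ⊥) :
    ∃ G : Set (Submodule ℂ (Fin 5 → ℂ)), G.Finite ∧ (∀ g ∈ G, Module.finrank ℂ ↥g = 1 ∧ g ≤ L₁) ∧
      ∀ L : Submodule ℂ (Fin 5 → ℂ), Module.finrank ℂ ↥L = 2 → (∀ u ∈ L, MvPolynomial.eval u f = 0) →
        L ⊓ L₁ ≠ ⊥ → L ⊓ L₂ ≠ ⊥ → ∃ g ∈ G, g ≤ L := by
  have hF := Groth.Agent.Lib.Seat53.CubicN.symTri_polar f
  have hsm' : ∀ v : Fin 5 → ℂ, v ≠ 0 → Groth.Agent.Lib.Seat53.CubicN.polar f v v v = 0 →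
      ∃ w, Groth.Agent.Lib.Seat53.CubicN.polar f v v w ≠ 0 := by
    intro v hv hfv
    rw [Groth.Agent.Lib.Seat53.CubicN.polar_self hf] at hfv
    obtain ⟨i, hi⟩ := hsm v hv hfv
    refine ⟨Pi.single i 1, ?_⟩
    rw [Groth.Agent.Lib.Seat53.CubicN.polar_single hf, Groth.Agent.Lib.Seat53.CubicN.inner2_self hf]
    intro h0
    apply hi
    have : (1 / 6 : ℂ) * 2 ≠ 0 := by norm_num
    rw [← mul_assoc] at h0
    exact (mul_eq_zero.mp h0).resolve_left this
  have hdim : Module.finrank ℂ (Fin 5 → ℂ) = 5 := by simp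
  have key := Groth.Agent.Lib.Seat53.CubicN.exists_finite_meeting hF hsm' hdim L₁ L₂ h₁ h₂
    (fun u hu => by rw [Groth.Agent.Lib.Seat53.CubicN.polar_self hf]; exact hf₁ u hu)
    (fun u hu => by rw [Groth.Agent.Lib.Seat53.CubicN.polar_self hf]; exact hf₂ u hu) hne hmeet
  obtain ⟨G, hGfin, hG1, hG2⟩ := key
  refine ⟨G, hGfin, hG1, ?_⟩
  intro L hL hfL hm₁ hm₂
  exact hG2 L hL (fun u hu => by
    rw [Groth.Agent.Lib.Seat53.CubicN.polar_self hf]; exact hfL u hu) hm₁ hm₂

end Groth.Agent.S15252
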