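import Groth.Statements.S1527
import Groth.Agent.Lib.Helper23LocGen
import Groth.Agent.Lib.Helper23Support
import Groth.Agent.Lib.Helper23SecTw3
import Groth.Agent.Lib.Helper18Ann2
import Groth.Agent.Lib.Seat93ZeroDim
import Groth.Agent.Lib.Seat93ExtendPt

set_option autoImplicit false
universe u
open CategoryTheory CategoryTheory.Limits AlgebraicGeometry
open Variety

namespace Groth.Agent.S1527

open Groth.Agent.Lib.Helper23.LocGen Groth.Agent.Lib.Helper23.SecTw Groth.Agent.Lib.Helper6 in
/-- On a proper scheme over a field, a coherent module whose support has dimension at most zero is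
globally generated (a quotient of a free module). -/
theorem result (k : Type u) [Field k] (X : Scheme.{u}) [X.Over (Spec (CommRingCat.of k))] [IsProper (X ↘ (Spec (CommRingCat.of k)))]
    (F : X.Modules) (hF : Coh.IsCoh F) (hsupp : topologicalKrullDim (CohB1.support F) ≤ 0) :
    Curv2.IsGloballyGenerated F := by
  haveI : F.IsQuasicoherent := hF.1
  haveI : IsLocallyNoetherian X :=
    LocallyOfFiniteType.isLocallyNoetherian (X ↘ Spec (CommRingCat.of k))
  haveI : CompactSpace X :=
    QuasiCompact.compactSpace_of_compactSpace (X ↘ Spec (CommRingCat.of k))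
  haveI : IsNoetherian X := {}
  -- the support is closed
  obtain ⟨J, -, -, -, hJ⟩ := Groth.Agent.Helper18Ann.main_S9377 F hF.2
  have hZcl : IsClosed (CohB1.support F) := by
    rw [← hJ]
    exact J.support.isClosed
  -- and finite discrete
  haveI : Finite ↥(CohB1.support F) :=
    Groth.Agent.Lib.Seat93.ZeroDim.finite_of_dim_le_zero _ hsupp
  haveI : T1Space ↥(CohB1.support F) :=
    Groth.Agent.Lib.Seat93.ZeroDim.t1Space_of_dim_le_zero _ hsupp
  haveI : DiscreteTopology ↥(CohB1.support F) := inferInstance
  apply isGloballyGenerated_of_locGen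
  intro x
  refine ⟨⊤, trivial, ?_⟩
  intro A _ m y hyA
  by_cases hyZ : y ∈ CohB1.support F
  · -- a point of the support: extend `m` near `y` to a global section
    have hopen : IsOpen ({⟨y, hyZ⟩} : Set ↥(CohB1.support F)) := isOpen_discrete _
    obtain ⟨B₀, hB₀open, hB₀⟩ := isOpen_induced_iff.1 hopen
    have hycl : IsClosed ({y} : Set X) := by
      have h1 : IsClosed ({⟨y, hyZ⟩} : Set ↥(CohB1.support F)) := isClosed_singleton
      have h2 := hZcl.isClosedEmbedding_subtypeVal.isClosedMap _ h1
      simpa using h2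
    let B : X.Opens := A ⊓ ⟨B₀, hB₀open⟩
    have hyB₀ : y ∈ B₀ := by
      have : (⟨y, hyZ⟩ : ↥(CohB1.support F)) ∈ Subtype.val ⁻¹' B₀ := by rw [hB₀]; rfl
      exact this
    have hyB : y ∈ B := ⟨hyA, hyB₀⟩
    have hm : ∀ (x : X) (hx : x ∈ B), x ≠ y →
        F.presheaf.germ B x hx (res F (inf_le_left : B ≤ A) m) = 0 := by
      intro x hx hxy
      have hxZ : x ∉ CohB1.support F := by
        intro hxZ
        have h1 : (⟨x, hxZ⟩ : ↥(CohB1.support F)) ∈ Subtype.val ⁻¹' B₀ := hx.2
        rw [hB₀] at h1
        exact hxy (congrArg Subtype.val h1)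
      have hsub : Subsingleton (F.presheaf.stalk x) := by
        by_contra h
        exact hxZ h
      exact Subsingleton.elim _ _
    obtain ⟨t, ht⟩ := Groth.Agent.Lib.Seat93.ExtendPt.exists_global_extension F y hycl B hyB
      (res F (inf_le_left : B ≤ A) m) hm
    refine ⟨B, inf_le_left, hyB, ?_⟩
    have h1 : sv (secHom F t) B = res F (inf_le_left : B ≤ A) m := by
      rw [sv_secHom]
      exact ht
    rw [← h1]
    exact sv_mem_gspan F (secHom F t) B
  · -- outside the support the section vanishes near `y`
    have hsub : Subsingleton (F.presheaf.stalk y) := by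
      by_contra h
      exact hyZ h
    have h0 : F.presheaf.germ A y hyA m = F.presheaf.germ A y hyA 0 := Subsingleton.elim _ _
    obtain ⟨B, hyB, i₁, i₂, hB⟩ := F.presheaf.germ_eq y hyA hyA m 0 h0
    rw [map_zero] at hB
    refine ⟨B, i₁.le, hyB, ?_⟩
    have : res F i₁.le m = 0 := hB
    rw [this]
    exact zero_mem _

end Groth.Agent.S1527
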