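import Groth.Statements.S15299
import Groth.Agent.Lib.Seat91MvPolyPoincare

set_option autoImplicit false
universe u
open Omega

namespace Groth.Agent.S15299

/-- Let k be a field of characteristic zero, A = k[x_1, …, x_n] and Ω = Ω_{A/k}. Let d be a k-linear
endomorphism of the exterior algebra ⋀_A Ω which agrees with the universal derivation on A, sends
⋀^p Ω into ⋀^(p+1) Ω, is a graded derivation and satisfies d ∘ d = 0 (these properties characterise
the de Rham differential). Then the de Rham complex 0 → k → A → Ω → ⋀^2 Ω → ⋯ → ⋀^n Ω → 0 is exact: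
an element of A with d a = 0 is a constant, and every d-closed element of ⋀^(p+1) Ω is d of some
element of ⋀^p Ω. -/
theorem result (k : Type u) [Field k] [CharZero k] (n : ℕ)
    (d : ExteriorAlgebra (MvPolynomial (Fin n) k) (KaehlerDifferential k (MvPolynomial (Fin n) k)) →ₗ[k]
      ExteriorAlgebra (MvPolynomial (Fin n) k) (KaehlerDifferential k (MvPolynomial (Fin n) k)))
    (h0 : ∀ a : MvPolynomial (Fin n) k,
      d (algebraMap (MvPolynomial (Fin n) k) _ a) =
        ExteriorAlgebra.ι (MvPolynomial (Fin n) k) (KaehlerDifferential.D k (MvPolynomial (Fin n) k) a))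
    (hdeg : ∀ (p : ℕ) (ω : ExteriorAlgebra (MvPolynomial (Fin n) k) (KaehlerDifferential k (MvPolynomial (Fin n) k))),
      ω ∈ ExteriorAlgebra.exteriorPower (MvPolynomial (Fin n) k) p (KaehlerDifferential k (MvPolynomial (Fin n) k)) →
        d ω ∈ ExteriorAlgebra.exteriorPower (MvPolynomial (Fin n) k) (p + 1) (KaehlerDifferential k (MvPolynomial (Fin n) k)))
    (hder : ∀ (p : ℕ) (ω η : ExteriorAlgebra (MvPolynomial (Fin n) k) (KaehlerDifferential k (MvPolynomial (Fin n) k))),
      ω ∈ ExteriorAlgebra.exteriorPower (MvPolynomial (Fin n) k) p (KaehlerDifferential k (MvPolynomial (Fin n) k)) →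
        d (ω * η) = d ω * η + (-1) ^ p * ω * d η)
    (hdd : ∀ ω, d (d ω) = 0) :
    (∀ a : MvPolynomial (Fin n) k, d (algebraMap (MvPolynomial (Fin n) k) _ a) = 0 →
        ∃ c : k, a = MvPolynomial.C c) ∧
    ∀ (p : ℕ) (ω : ExteriorAlgebra (MvPolynomial (Fin n) k) (KaehlerDifferential k (MvPolynomial (Fin n) k))),
      ω ∈ ExteriorAlgebra.exteriorPower (MvPolynomial (Fin n) k) (p + 1) (KaehlerDifferential k (MvPolynomial (Fin n) k)) →
        d ω = 0 →
          ∃ θ ∈ ExteriorAlgebra.exteriorPower (MvPolynomial (Fin n) k) p (KaehlerDifferential k (MvPolynomial (Fin n) k)),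
            d θ = ω := by
  classical
  set A := MvPolynomial (Fin n) k with hA
  set Ω' := KaehlerDifferential k A with hΩ
  -- products of `ι (D b)` are closed
  have hone : d 1 = 0 := by
    have h := h0 1
    rw [map_one, Derivation.map_one_eq_zero, map_zero] at h
    exact h
  have hιD : ∀ b : A, d (ExteriorAlgebra.ι A (KaehlerDifferential.D k A b)) = 0 := by
    intro b
    rw [← h0 b, hdd]
  have hclosed : ∀ (p : ℕ) (v : Fin p → A),
      d (ExteriorAlgebra.ιMulti A p (fun i => KaehlerDifferential.D k A (v i))) = 0 := by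
    intro p
    induction p with
    | zero =>
      intro v
      rw [ExteriorAlgebra.ιMulti_zero_apply]
      exact hone
    | succ p ih =>
      intro v
      rw [ExteriorAlgebra.ιMulti_succ_apply]
      have hmem : ExteriorAlgebra.ι A (KaehlerDifferential.D k A (v 0)) ∈
          ExteriorAlgebra.exteriorPower A 1 Ω' := by
        have := (ExteriorAlgebra.ιMulti_range A (M := Ω') 1) ⟨fun _ => KaehlerDifferential.D k A (v 0), rfl⟩
        simpa [ExteriorAlgebra.ιMulti_succ_apply] using this
      rw [hder 1 _ _ hmem, hιD, zero_mul, zero_add]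
      have : Matrix.vecTail (fun i => KaehlerDifferential.D k A (v i)) =
          fun i => KaehlerDifferential.D k A (Matrix.vecTail v i) := rfl
      rw [this, ih, mul_zero]
  -- the degreewise family
  let d' : ∀ p : ℕ, ↥(⋀[A]^p Ω') →ₗ[k] ↥(⋀[A]^(p + 1) Ω') := fun p =>
    { toFun := fun ω => ⟨d ω.1, hdeg p ω.1 ω.2⟩
      map_add' := fun x y => by
        apply Subtype.ext
        simp [map_add]
      map_smul' := fun c x => by
        apply Subtype.ext
        simp [map_smul] }
  have hd'val : ∀ p (ω : ↥(⋀[A]^p Ω')), ((d' p ω : ↥(⋀[A]^(p + 1) Ω')) : ExteriorAlgebra A Ω') = d ω.1 :=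
    fun p ω => rfl
  have hrule : DeRham.IsRule (KaehlerDifferential.D k A) d' := by
    intro p b₀ b
    apply Subtype.ext
    rw [hd'val]
    unfold DeRham.gen
    rw [Submodule.coe_smul, exteriorPower.ιMulti_apply_coe, exteriorPower.ιMulti_apply_coe,
      Algebra.smul_def]
    have hmem : algebraMap A (ExteriorAlgebra A Ω') b₀ ∈ ExteriorAlgebra.exteriorPower A 0 Ω' := by
      rw [ExteriorAlgebra.exteriorPower, pow_zero]
      exact Submodule.mem_one.2 ⟨b₀, rfl⟩
    rw [hder 0 _ _ hmem, h0, hclosed, mul_zero, add_zero, ExteriorAlgebra.ιMulti_succ_apply]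
    rfl
  have hdiff : DeRham.IsDiff (KaehlerDifferential.D k A) d' := by
    refine ⟨hrule, fun p => ?_⟩
    ext ω
    simp only [LinearMap.comp_apply, LinearMap.zero_apply]
    rw [hd'val, hd'val, hdd]
    rfl
  obtain ⟨hP0, hP1⟩ := Groth.Agent.Lib.Seat91.MvPolyPoincare.poincare (R := k) (σ := Fin n) d' hdiff
  constructor
  · intro a ha
    apply hP0 a
    rw [h0] at ha
    exact (ExteriorAlgebra.ι_inj A _ _).1 (by rw [ha, map_zero])
  · intro p ω hω hdω
    obtain ⟨θ, hθ⟩ := hP1 p ⟨ω, hω⟩ (by
      apply Subtype.ext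
      rw [hd'val]
      exact hdω)
    refine ⟨θ.1, θ.2, ?_⟩
    have := congrArg Subtype.val hθ
    rw [hd'val] at this
    exact this

end Groth.Agent.S15299
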