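import Groth.Statements.S15300
import Groth.Agent.Lib.Seat71MilnorCat
-- import your own Groth.Agent.* helpers here

set_option autoImplicit false
universe u
open HomAlg3

namespace Groth.Agent.S15300

open CategoryTheory CategoryTheory.Limits Opposite Groth.Agent.Lib.Seat71 in
/-- For abelian groups, let (A_n)_n be a tower of cochain complexes of abelian groups, indexed by the
natural numbers, all of whose transition maps A_{n+1}^p → A_n^p are surjective. Then for every p
there is a short exact sequence 0 → lim¹_n h^(p-1)(A_n) → h^p(lim_n A_n) → lim_n h^p(A_n) → 0: the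
comparison map h^p(lim A_n) → lim h^p(A_n) is surjective and its kernel is isomorphic to lim¹ of the
tower of the (p-1)-st cohomology groups (existence of an isomorphism only). (The published statement
is made in an axiomatic setting that also covers quasi-coherent sheaves; this row is the case of
abelian groups.) -/
theorem result
    (K : ℕᵒᵖ ⥤ HomologicalComplex AddCommGrpCat.{u} (ComplexShape.up ℤ))
    (hK : ∀ (n : ℕ) (q : ℤ), Function.Surjective ((K.map (homOfLE (Nat.le_succ n)).op).f q).hom)
    (p q : ℤ) (hqp : q + 1 = p) :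
    Function.Surjective (limit.post K (HomologicalComplex.homologyFunctor _ _ p)).hom ∧
      Nonempty ((limit.post K (HomologicalComplex.homologyFunctor _ _ p)).hom.ker ≃+
        Formal2.limOne (fun n => (K.obj (op n)).homology q)
          (fun n => (HomologicalComplex.homologyMap (K.map (homOfLE (Nat.le_succ n)).op) q).hom)) := by
  -- indices
  obtain ⟨q', hq'⟩ : ∃ q' : ℤ, q' + 1 = q := ⟨q - 1, by ring⟩
  obtain ⟨p', hp'⟩ : ∃ p' : ℤ, p + 1 = p' := ⟨p + 1, rfl⟩
  -- abbreviations
  let Kn : ℕ → HomologicalComplex AddCommGrpCat.{u} (ComplexShape.up ℤ) := fun n => K.obj (op n)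
  let tr : ∀ n, Kn (n + 1) ⟶ Kn n := fun n => K.map (homOfLE (Nat.le_succ n)).op
  let L := limit K
  let pr : ∀ n, L ⟶ Kn n := fun n => limit.π K (op n)
  have hpr : ∀ n, pr (n + 1) ≫ tr n = pr n := fun n => limit.w K _
  -- elementwise facts
  have dd : ∀ (X : HomologicalComplex AddCommGrpCat.{u} (ComplexShape.up ℤ)) (i j k : ℤ) (x : X.X i),
      (X.d j k).hom ((X.d i j).hom x) = 0 := by
    intro X i j k x
    have h : (X.d i j ≫ X.d j k).hom x = (0 : X.X i ⟶ X.X k).hom x := by rw [X.d_comp_d]
    exact h
  have comm : ∀ {X Y : HomologicalComplex AddCommGrpCat.{u} (ComplexShape.up ℤ)} (φ : X ⟶ Y)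
      (i j : ℤ) (x : X.X i), (φ.f j).hom ((X.d i j).hom x) = (Y.d i j).hom ((φ.f i).hom x) := by
    intro X Y φ i j x
    have h : (X.d i j ≫ φ.f j).hom x = (φ.f i ≫ Y.d i j).hom x := by rw [φ.comm]
    exact h
  have hcone : ∀ (i : ℤ) n (x : L.X i), ((tr n).f i).hom (((pr (n + 1)).f i).hom x) =
      ((pr n).f i).hom x := by
    intro i n x
    have h : ((pr (n + 1) ≫ tr n).f i).hom x = ((pr n).f i).hom x := by rw [hpr]
    exact h
  -- limit cones in each degree
  have hlim : ∀ i : ℤ, IsLimit ((HomologicalComplex.eval _ _ i).mapCone (limit.cone K)) :=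
    fun i => isLimitOfPreserves _ (limit.isLimit K)
  have ext : ∀ (i : ℤ) (x : L.X i), (∀ n, ((pr n).f i).hom x = 0) → x = 0 :=
    fun i x h => MilnorCat.tower_ext _ (hlim i) x h
  have ex : ∀ (i : ℤ) (x : ∀ n, (Kn n).X i), (∀ n, ((tr n).f i).hom (x (n + 1)) = x n) →
      ∃ y : L.X i, ∀ n, ((pr n).f i).hom y = x n :=
    fun i x hx => MilnorCat.tower_exists _ (hlim i) x hx
  -- the comparison map, componentwise
  let H := HomologicalComplex.homologyFunctor AddCommGrpCat.{u} (ComplexShape.up ℤ) p
  have hpost : ∀ n (h : L.homology p),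
      (limit.π (K ⋙ H) (op n)).hom ((limit.post K H).hom h) =
        (HomologicalComplex.homologyMap (pr n) p).hom h := by
    intro n h
    have h1 : (limit.post K H ≫ limit.π (K ⋙ H) (op n)).hom h = (H.map (limit.π K (op n))).hom h := by
      rw [limit.post_π]
    exact h1
  have hlimH : ∀ (x : (limit (K ⋙ H) : AddCommGrpCat.{u})),
      (∀ n, (limit.π (K ⋙ H) (op n)).hom x = 0) → x = 0 :=
    fun x h => MilnorCat.tower_ext (K ⋙ H) (limit.isLimit _) x h
  have hS := MilnorAbs.surj
    (dB := fun n => ((Kn n).d q p).hom) (dC := fun n => ((Kn n).d p p').hom)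
    (hBC := fun n x => dd (Kn n) q p p' x)
    (tB := fun n => ((tr n).f q).hom) (tC := fun n => ((tr n).f p).hom)
    (tD := fun n => ((tr n).f p').hom)
    (htB := fun n x => comm (tr n) q p x) (htC := fun n x => comm (tr n) p p' x)
    (sB := fun n => hK n q)
    (πC := fun n => ((pr n).f p).hom) (πD := fun n => ((pr n).f p').hom)
    (dLC := (L.d p p').hom)
    (hπD := fun n x => comm (pr n) p p' x)
    (extD := ext p') (exC := ex p)
    (cC := fun n => MilnorCat.cyc (Kn n) p p' hp') (cL := MilnorCat.cyc L p p' hp')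
    (scC := fun n => MilnorCat.cyc_surjective (Kn n) p p' hp')
    (kcC := fun n z => MilnorCat.cyc_eq_zero_iff (Kn n) q p p' hqp hp' z)
    (tHC := fun n => (HomologicalComplex.homologyMap (tr n) p).hom)
    (πH := fun n => (HomologicalComplex.homologyMap (pr n) p).hom)
    (htHC := fun n z z' hz => MilnorCat.cyc_naturality (tr n) p p' hp' z z' hz)
    (hπH := fun n z z' hz => MilnorCat.cyc_naturality (pr n) p p' hp' z z' hz)
  refine ⟨?_, ?_⟩
  · intro ξ'
    obtain ⟨h, hh⟩ := hS (fun n => (limit.π (K ⋙ H) (op n)).hom ξ') (fun n => by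
      have h1 : (limit.π (K ⋙ H) (op (n + 1)) ≫ (K ⋙ H).map (homOfLE (Nat.le_succ n)).op).hom ξ' =
          (limit.π (K ⋙ H) (op n)).hom ξ' := by rw [limit.w]
      exact h1)
    refine ⟨h, ?_⟩
    apply sub_eq_zero.1
    apply hlimH
    intro n
    rw [map_sub, hpost, hh, sub_self]
  · refine MilnorAbs.iso
      (dA := fun n => ((Kn n).d q' q).hom)
      (dB := fun n => ((Kn n).d q p).hom) (dC := fun n => ((Kn n).d p p').hom)
      (hAB := fun n x => dd (Kn n) q' q p x)
      (hBC := fun n x => dd (Kn n) q p p' x)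
      (tA := fun n => ((tr n).f q').hom)
      (tB := fun n => ((tr n).f q).hom) (tC := fun n => ((tr n).f p).hom)
      (htA := fun n x => comm (tr n) q' q x)
      (htB := fun n x => comm (tr n) q p x)
      (sA := fun n => hK n q') (sB := fun n => hK n q)
      (πB := fun n => ((pr n).f q).hom)
      (πC := fun n => ((pr n).f p).hom) (πD := fun n => ((pr n).f p').hom)
      (dLB := (L.d q p).hom) (dLC := (L.d p p').hom)
      (hπC := fun n x => comm (pr n) q p x)
      (hπD := fun n x => comm (pr n) p p' x)
      (hcB := hcone q) (hcC := hcone p)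
      (extC := ext p) (extD := ext p') (exB := ex q) (exC := ex p)
      (cB := fun n => MilnorCat.cyc (Kn n) q p hqp)
      (cC := fun n => MilnorCat.cyc (Kn n) p p' hp') (cL := MilnorCat.cyc L p p' hp')
      (scB := fun n => MilnorCat.cyc_surjective (Kn n) q p hqp)
      (scL := MilnorCat.cyc_surjective L p p' hp')
      (kcB := fun n z => MilnorCat.cyc_eq_zero_iff (Kn n) q' q p hq' hqp z)
      (kcC := fun n z => MilnorCat.cyc_eq_zero_iff (Kn n) q p p' hqp hp' z)
      (kcL := fun z => MilnorCat.cyc_eq_zero_iff L q p p' hqp hp' z)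
      (tHB := fun n => (HomologicalComplex.homologyMap (tr n) q).hom)
      (πH := fun n => (HomologicalComplex.homologyMap (pr n) p).hom)
      (htHB := fun n z z' hz => MilnorCat.cyc_naturality (tr n) q p hqp z z' hz)
      (hπH := fun n z z' hz => MilnorCat.cyc_naturality (pr n) p p' hp' z z' hz)
      (R := (Formal2.towerDiff (fun n => (K.obj (op n)).homology q)
          (fun n => (HomologicalComplex.homologyMap (K.map (homOfLE (Nat.le_succ n)).op) q).hom)).range)
      ?_
      (Kr := (limit.post K (HomologicalComplex.homologyFunctor _ _ p)).hom.ker) ?_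
    · intro y
      constructor
      · rintro ⟨η, rfl⟩
        exact ⟨η, fun n => rfl⟩
      · rintro ⟨η, hη⟩
        exact ⟨η, funext fun n => (hη n).symm⟩
    · intro h
      have hk : h ∈ (limit.post K H).hom.ker ↔ (limit.post K H).hom h = 0 := AddMonoidHom.mem_ker
      refine hk.trans ?_
      constructor
      · intro h0 n
        rw [← hpost, h0]
        exact map_zero _
      · intro h0
        apply hlimH
        intro n
        rw [hpost]
        exact h0 n

end Groth.Agent.S15300
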