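import Groth.Statements.S15316
import Groth.Agent.Lib.Seat71NodeDomain

set_option autoImplicit false
universe u
open ArLef ArLef.NodeAlg

namespace Groth.Agent.S15316

/-- Let B be a discrete valuation ring with uniformizer π and N = B[[t, e]]/(te - π) the complete local
ring of a semi-stable arithmetic surface at a singular point of the closed fibre. A ring
automorphism σ of N with σ(π) associated to π (for instance a B-algebra automorphism, or one lying
over an automorphism of B) either stabilizes the two branches, σ(t) = α t and σ(e) = β e for units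
α, β, or switches them, σ(t) = α e and σ(e) = β t for units α, β. (The published setting has B
complete with algebraically closed residue field and σ linear over B or over an automorphism of B;
the argument uses only that σ(π) generates (π).) -/
theorem result (B : Type u) [CommRing B] [IsDomain B] [IsDiscreteValuationRing B] (π : B) (hπ : Irreducible π)
    (σ : ArLef.NodeAlg B π ≃+* ArLef.NodeAlg B π)
    (hσ : Associated (σ (algebraMap B (ArLef.NodeAlg B π) π)) (algebraMap B (ArLef.NodeAlg B π) π)) :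
    (∃ α β : (ArLef.NodeAlg B π)ˣ, σ (ArLef.NodeAlg.t π) = (α : ArLef.NodeAlg B π) * ArLef.NodeAlg.t π ∧ σ (ArLef.NodeAlg.e π) = (β : ArLef.NodeAlg B π) * ArLef.NodeAlg.e π) ∨
      (∃ α β : (ArLef.NodeAlg B π)ˣ, σ (ArLef.NodeAlg.t π) = (α : ArLef.NodeAlg B π) * ArLef.NodeAlg.e π ∧ σ (ArLef.NodeAlg.e π) = (β : ArLef.NodeAlg B π) * ArLef.NodeAlg.t π) := by
  have hdom : IsDomain (ArLef.NodeAlg B π) := Groth.Agent.Lib.Seat71.Node.nodeAlg_isDomain π hπ
  have tp : Prime (ArLef.NodeAlg.t π) := Groth.Agent.Lib.Seat71.Node.t_prime π hπ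
  have ep : Prime (ArLef.NodeAlg.e π) := Groth.Agent.Lib.Seat71.Node.e_prime π hπ
  have stp : Prime (σ (ArLef.NodeAlg.t π)) := (MulEquiv.prime_iff σ).2 tp
  have sep : Prime (σ (ArLef.NodeAlg.e π)) := (MulEquiv.prime_iff σ).2 ep
  have hte := Groth.Agent.Lib.Seat71.Node.t_mul_e π
  obtain ⟨u, hu⟩ := hσ
  rw [← hte, map_mul] at hu
  -- hu : σ t * σ e * u = t * e
  have hdvd : ArLef.NodeAlg.t π ∣ σ (ArLef.NodeAlg.t π) * σ (ArLef.NodeAlg.e π) := by
    have h1 : ArLef.NodeAlg.t π ∣ σ (ArLef.NodeAlg.t π) * σ (ArLef.NodeAlg.e π) * (u : ArLef.NodeAlg B π) := by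
      rw [hu]; exact dvd_mul_right _ _
    rcases tp.dvd_or_dvd h1 with h | h
    · exact h
    · exact absurd (isUnit_of_dvd_unit h u.isUnit) tp.not_isUnit
  rcases tp.dvd_or_dvd hdvd with h | h
  · left
    obtain ⟨v, hv⟩ := tp.associated_of_dvd stp h
    -- hv : t * v = σ t
    have hv' : σ (ArLef.NodeAlg.t π) = (v : ArLef.NodeAlg B π) * ArLef.NodeAlg.t π := by rw [← hv, mul_comm]
    refine ⟨v, (v * u)⁻¹, hv', ?_⟩
    have h2 : ArLef.NodeAlg.t π * ((v : ArLef.NodeAlg B π) * σ (ArLef.NodeAlg.e π) * u) =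
        ArLef.NodeAlg.t π * ArLef.NodeAlg.e π := by
      rw [← hu, hv']; ring
    have h3 := mul_left_cancel₀ tp.ne_zero h2
    have h4 : ((v * u)⁻¹ : (ArLef.NodeAlg B π)ˣ).1 * ((v : ArLef.NodeAlg B π) * u) = 1 := by
      rw [← Units.val_mul, ← Units.val_mul, inv_mul_cancel, Units.val_one]
    calc σ (ArLef.NodeAlg.e π) = (((v * u)⁻¹ : (ArLef.NodeAlg B π)ˣ).1 * ((v : ArLef.NodeAlg B π) * u)) *
          σ (ArLef.NodeAlg.e π) := by rw [h4, one_mul]
      _ = ((v * u)⁻¹ : (ArLef.NodeAlg B π)ˣ).1 * ((v : ArLef.NodeAlg B π) * σ (ArLef.NodeAlg.e π) * u) := by ring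
      _ = _ := by rw [h3]
  · right
    obtain ⟨v, hv⟩ := tp.associated_of_dvd sep h
    -- hv : t * v = σ e
    have hv' : σ (ArLef.NodeAlg.e π) = (v : ArLef.NodeAlg B π) * ArLef.NodeAlg.t π := by rw [← hv, mul_comm]
    refine ⟨(v * u)⁻¹, v, ?_, hv'⟩
    have h2 : ArLef.NodeAlg.t π * ((v : ArLef.NodeAlg B π) * σ (ArLef.NodeAlg.t π) * u) =
        ArLef.NodeAlg.t π * ArLef.NodeAlg.e π := by
      rw [← hu, hv']; ring
    have h3 := mul_left_cancel₀ tp.ne_zero h2
    have h4 : ((v * u)⁻¹ : (ArLef.NodeAlg B π)ˣ).1 * ((v : ArLef.NodeAlg B π) * u) = 1 := by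
      rw [← Units.val_mul, ← Units.val_mul, inv_mul_cancel, Units.val_one]
    calc σ (ArLef.NodeAlg.t π) = (((v * u)⁻¹ : (ArLef.NodeAlg B π)ˣ).1 * ((v : ArLef.NodeAlg B π) * u)) *
          σ (ArLef.NodeAlg.t π) := by rw [h4, one_mul]
      _ = ((v * u)⁻¹ : (ArLef.NodeAlg B π)ˣ).1 * ((v : ArLef.NodeAlg B π) * σ (ArLef.NodeAlg.t π) * u) := by ring
      _ = _ := by rw [h3]

end Groth.Agent.S15316
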