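import Groth.Statements.S15317
import Groth.Agent.Lib.Seat71NodeGen

set_option autoImplicit false
universe u
open ArLef ArLef.NodeAlg

namespace Groth.Agent.S15317

/-- Let B be a discrete valuation ring with uniformizer π, N = B[[t, e]]/(te - π), and σ a non-trivial
B-algebra automorphism of N stabilizing both branches of the closed fibre (σ(t) associated to t,
σ(e) associated to e). Then the fixed-point ideal of σ, generated by all σ(r) - r, is g·(t, e) for a
non-zero g: the divisorial part of the fixed locus is cut out by g and its residual part is the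
reduced closed point, of multiplicity one. (Stated in the complete local ring, where the published
argument takes place; the published setting has B complete with algebraically closed residue field.) -/
theorem result (B : Type u) [CommRing B] [IsDomain B] [IsDiscreteValuationRing B] (π : B) (hπ : Irreducible π)
    (σ : ArLef.NodeAlg B π ≃ₐ[B] ArLef.NodeAlg B π) (hσ : σ ≠ AlgEquiv.refl)
    (ht : Associated (σ (ArLef.NodeAlg.t π)) (ArLef.NodeAlg.t π))
    (he : Associated (σ (ArLef.NodeAlg.e π)) (ArLef.NodeAlg.e π)) :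
    ∃ g : ArLef.NodeAlg B π, g ≠ 0 ∧
      ArLef.fixIdeal σ = Ideal.span {g} * Ideal.span ({ArLef.NodeAlg.t π, ArLef.NodeAlg.e π} : Set (ArLef.NodeAlg B π)) := by
  classical
  obtain ⟨u, hu⟩ := ht
  obtain ⟨v, hv⟩ := he
  -- σ t = α t, σ e = β e
  set α : (ArLef.NodeAlg B π)ˣ := u⁻¹ with hα
  set β : (ArLef.NodeAlg B π)ˣ := v⁻¹ with hβ
  have hσt : σ (ArLef.NodeAlg.t π) = (α : ArLef.NodeAlg B π) * ArLef.NodeAlg.t π := by
    have h0 : (α : ArLef.NodeAlg B π) * (σ (ArLef.NodeAlg.t π) * u) = σ (ArLef.NodeAlg.t π) := by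
      rw [mul_comm (σ (ArLef.NodeAlg.t π)), ← mul_assoc, ← Units.val_mul, hα, inv_mul_cancel,
        Units.val_one, one_mul]
    rw [hu] at h0
    exact h0.symm
  have hσe : σ (ArLef.NodeAlg.e π) = (β : ArLef.NodeAlg B π) * ArLef.NodeAlg.e π := by
    have h0 : (β : ArLef.NodeAlg B π) * (σ (ArLef.NodeAlg.e π) * v) = σ (ArLef.NodeAlg.e π) := by
      rw [mul_comm (σ (ArLef.NodeAlg.e π)), ← mul_assoc, ← Units.val_mul, hβ, inv_mul_cancel,
        Units.val_one, one_mul]
    rw [hv] at h0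
    exact h0.symm
  have hte := Groth.Agent.Lib.Seat71.Node.t_mul_e π
  have hαβ : (α : ArLef.NodeAlg B π) * β = 1 := by
    have h1 : σ (ArLef.NodeAlg.t π) * σ (ArLef.NodeAlg.e π) = ArLef.NodeAlg.t π * ArLef.NodeAlg.e π := by
      rw [← map_mul, hte, σ.commutes]
    rw [hσt, hσe] at h1
    have h2 : algebraMap B (ArLef.NodeAlg B π) π * ((α : ArLef.NodeAlg B π) * β - 1) = 0 := by
      rw [← hte]
      linear_combination h1
    exact sub_eq_zero.1 (Groth.Agent.Lib.Helper22.nodeAlg_pi_regular π hπ.ne_zero _ h2)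
  set g : ArLef.NodeAlg B π := (α : ArLef.NodeAlg B π) - 1 with hg
  have hge : g * ArLef.NodeAlg.e π = -(α : ArLef.NodeAlg B π) * (σ (ArLef.NodeAlg.e π) - ArLef.NodeAlg.e π) := by
    rw [hσe, hg]
    linear_combination (ArLef.NodeAlg.e π) * hαβ
  have hσe' : σ (ArLef.NodeAlg.e π) - ArLef.NodeAlg.e π = -(β : ArLef.NodeAlg B π) * (g * ArLef.NodeAlg.e π) := by
    rw [hσe, hg]
    linear_combination (ArLef.NodeAlg.e π) * hαβ
  have hgt : g * ArLef.NodeAlg.t π = σ (ArLef.NodeAlg.t π) - ArLef.NodeAlg.t π := by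
    rw [hσt, hg]; ring
  set J : Ideal (ArLef.NodeAlg B π) := Ideal.span {g} *
    Ideal.span ({ArLef.NodeAlg.t π, ArLef.NodeAlg.e π} : Set (ArLef.NodeAlg B π)) with hJ
  have hgtJ : g * ArLef.NodeAlg.t π ∈ J :=
    Ideal.mul_mem_mul (Ideal.mem_span_singleton_self g) (Ideal.subset_span (Set.mem_insert _ _))
  have hgeJ : g * ArLef.NodeAlg.e π ∈ J :=
    Ideal.mul_mem_mul (Ideal.mem_span_singleton_self g)
      (Ideal.subset_span (Set.mem_insert_of_mem _ rfl))
  have hsub : ∀ r, σ r - r ∈ J := by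
    intro r
    refine Groth.Agent.Lib.Seat71.Node.sub_mem_of_generators π (σ.toRingEquiv : ArLef.NodeAlg B π →+* ArLef.NodeAlg B π)
      ?_ ?_ J ?_ ?_ ?_ r
    · show σ (ArLef.NodeAlg.t π) ∈ _
      rw [hσt]
      exact Ideal.mul_mem_left _ _ (Groth.Agent.Lib.Seat71.Node.t_mem_mN π)
    · show σ (ArLef.NodeAlg.e π) ∈ _
      rw [hσe]
      exact Ideal.mul_mem_left _ _ (Groth.Agent.Lib.Seat71.Node.e_mem_mN π)
    · intro b
      show σ (algebraMap B _ b) - algebraMap B _ b ∈ J
      rw [σ.commutes, sub_self]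
      exact J.zero_mem
    · show σ (ArLef.NodeAlg.t π) - ArLef.NodeAlg.t π ∈ J
      rw [← hgt]; exact hgtJ
    · show σ (ArLef.NodeAlg.e π) - ArLef.NodeAlg.e π ∈ J
      rw [hσe']; exact J.mul_mem_left _ hgeJ
  refine ⟨g, ?_, ?_⟩
  · intro hg0
    apply hσ
    ext r
    have h1 := hsub r
    rw [hJ, hg0, Ideal.span_singleton_zero, Ideal.bot_mul, Ideal.mem_bot, sub_eq_zero] at h1
    exact h1
  · apply le_antisymm
    · unfold ArLef.fixIdeal
      rw [Ideal.span_le]
      rintro _ ⟨r, rfl⟩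
      exact hsub r
    · rw [Ideal.span_singleton_mul_le_iff]
      intro z hz
      have hz' : z ∈ Ideal.span ({ArLef.NodeAlg.t π, ArLef.NodeAlg.e π} : Set (ArLef.NodeAlg B π)) := hz
      rw [Ideal.mem_span_pair] at hz'
      obtain ⟨x, y, rfl⟩ := hz'
      have ht_mem : g * ArLef.NodeAlg.t π ∈ ArLef.fixIdeal σ := by
        rw [hgt]; exact Ideal.subset_span ⟨_, rfl⟩
      have he_mem : g * ArLef.NodeAlg.e π ∈ ArLef.fixIdeal σ := by
        rw [hge]
        exact Ideal.mul_mem_left _ _ (Ideal.subset_span ⟨_, rfl⟩)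
      have : g * (x * ArLef.NodeAlg.t π + y * ArLef.NodeAlg.e π) =
          x * (g * ArLef.NodeAlg.t π) + y * (g * ArLef.NodeAlg.e π) := by ring
      rw [this]
      exact Ideal.add_mem _ (Ideal.mul_mem_left _ _ ht_mem) (Ideal.mul_mem_left _ _ he_mem)

end Groth.Agent.S15317
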