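import Groth.Statements.S15318
import Groth.Agent.Lib.Seat71NodeMore

set_option autoImplicit false
universe u
open ArLef ArLef.NodeAlg

namespace Groth.Agent.S15318

/-- Let B be a discrete valuation ring with uniformizer π, N = B[[t, e]]/(te - π), and σ a B-algebra
automorphism of N switching the two branches of the closed fibre (σ(t) associated to e, σ(e)
associated to t). Then the fixed-point ideal of σ is principal, generated by an element h of order
one (h is not in (t, e)²), and π is a non-zero-divisor modulo h: the fixed locus is a horizontal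
regular divisor through the point with empty residual part. (Stated in the complete local ring,
where the published argument takes place; the published setting has B complete with algebraically
closed residue field.) -/
theorem result (B : Type u) [CommRing B] [IsDomain B] [IsDiscreteValuationRing B] (π : B) (hπ : Irreducible π)
    (σ : ArLef.NodeAlg B π ≃ₐ[B] ArLef.NodeAlg B π)
    (ht : Associated (σ (ArLef.NodeAlg.t π)) (ArLef.NodeAlg.e π))
    (he : Associated (σ (ArLef.NodeAlg.e π)) (ArLef.NodeAlg.t π)) :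
    ∃ h : ArLef.NodeAlg B π, ArLef.fixIdeal σ = Ideal.span {h} ∧
      h ∉ (Ideal.span ({ArLef.NodeAlg.t π, ArLef.NodeAlg.e π} : Set (ArLef.NodeAlg B π))) ^ 2 ∧
      IsSMulRegular (ArLef.NodeAlg B π ⧸ Ideal.span ({h} : Set (ArLef.NodeAlg B π))) π := by
  classical
  have hdom : IsDomain (ArLef.NodeAlg B π) := Groth.Agent.Lib.Seat71.Node.nodeAlg_isDomain π hπ
  have hprime := Groth.Agent.Lib.Seat71.Node.span_pi_isPrime π hπ
  have hDdom : IsDomain (MvPowerSeries (Fin 1) (B ⧸ Ideal.span {π})) := NoZeroDivisors.to_isDomain _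
  have tp : Prime (ArLef.NodeAlg.t π) := Groth.Agent.Lib.Seat71.Node.t_prime π hπ
  have ep : Prime (ArLef.NodeAlg.e π) := Groth.Agent.Lib.Seat71.Node.e_prime π hπ
  obtain ⟨u, hu⟩ := ht
  obtain ⟨v, hv⟩ := he
  set α : (ArLef.NodeAlg B π)ˣ := u⁻¹ with hα
  set β : (ArLef.NodeAlg B π)ˣ := v⁻¹ with hβ
  have hσt : σ (ArLef.NodeAlg.t π) = (α : ArLef.NodeAlg B π) * ArLef.NodeAlg.e π := by
    have h0 : (α : ArLef.NodeAlg B π) * (σ (ArLef.NodeAlg.t π) * u) = σ (ArLef.NodeAlg.t π) := by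
      rw [mul_comm (σ (ArLef.NodeAlg.t π)), ← mul_assoc, ← Units.val_mul, hα, inv_mul_cancel,
        Units.val_one, one_mul]
    rw [hu] at h0
    exact h0.symm
  have hσe : σ (ArLef.NodeAlg.e π) = (β : ArLef.NodeAlg B π) * ArLef.NodeAlg.t π := by
    have h0 : (β : ArLef.NodeAlg B π) * (σ (ArLef.NodeAlg.e π) * v) = σ (ArLef.NodeAlg.e π) := by
      rw [mul_comm (σ (ArLef.NodeAlg.e π)), ← mul_assoc, ← Units.val_mul, hβ, inv_mul_cancel,
        Units.val_one, one_mul]
    rw [hv] at h0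
    exact h0.symm
  have hte := Groth.Agent.Lib.Seat71.Node.t_mul_e π
  have hαβ : (α : ArLef.NodeAlg B π) * β = 1 := by
    have h1 : σ (ArLef.NodeAlg.t π) * σ (ArLef.NodeAlg.e π) = ArLef.NodeAlg.t π * ArLef.NodeAlg.e π := by
      rw [← map_mul, hte, σ.commutes]
    rw [hσt, hσe] at h1
    have h2 : algebraMap B (ArLef.NodeAlg B π) π * ((α : ArLef.NodeAlg B π) * β - 1) = 0 := by
      rw [← hte]
      linear_combination h1
    exact sub_eq_zero.1 (Groth.Agent.Lib.Helper22.nodeAlg_pi_regular π hπ.ne_zero _ h2)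
  set h : ArLef.NodeAlg B π := (α : ArLef.NodeAlg B π) * ArLef.NodeAlg.e π - ArLef.NodeAlg.t π with hh
  have hht : σ (ArLef.NodeAlg.t π) - ArLef.NodeAlg.t π = h := by rw [hσt]
  have hhe : σ (ArLef.NodeAlg.e π) - ArLef.NodeAlg.e π = -(β : ArLef.NodeAlg B π) * h := by
    rw [hσe, hh]
    linear_combination (ArLef.NodeAlg.e π) * hαβ
  -- images of h under the two reductions
  have hθα : IsUnit (Groth.Agent.Lib.Seat71.Node.thetaN π (α : ArLef.NodeAlg B π)) := α.isUnit.map _
  have hθh : Groth.Agent.Lib.Seat71.Node.thetaN π h =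
      Groth.Agent.Lib.Seat71.Node.thetaN π (α : ArLef.NodeAlg B π) * MvPowerSeries.X 0 := by
    rw [hh, map_sub, map_mul, Groth.Agent.Lib.Seat71.Node.thetaN_t,
      Groth.Agent.Lib.Seat71.Node.thetaN_e, sub_zero]
  have hθh' : Groth.Agent.Lib.Seat71.Node.thetaN π (Groth.Agent.Lib.Seat71.Node.swapN π h) =
      - MvPowerSeries.X 0 := by
    rw [hh, map_sub, map_mul, Groth.Agent.Lib.Seat71.Node.swapN_e, Groth.Agent.Lib.Seat71.Node.swapN_t,
      map_sub, map_mul, Groth.Agent.Lib.Seat71.Node.thetaN_t, Groth.Agent.Lib.Seat71.Node.thetaN_e,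
      mul_zero, zero_sub]
  have hY0 : (MvPowerSeries.X 0 : MvPowerSeries (Fin 1) (B ⧸ Ideal.span {π})) ≠ 0 :=
    Groth.Agent.Lib.Seat71.Node.X0_ne_zero'
  have hth : ¬ ArLef.NodeAlg.t π ∣ h := by
    apply Groth.Agent.Lib.Seat71.Node.not_t_dvd_of_thetaN_ne_zero
    rw [hθh]
    exact mul_ne_zero hθα.ne_zero hY0
  have heh : ¬ ArLef.NodeAlg.e π ∣ h := by
    apply Groth.Agent.Lib.Seat71.Node.not_e_dvd_of_thetaN_swapN_ne_zero
    rw [hθh']
    exact neg_ne_zero.2 hY0
  refine ⟨h, ?_, ?_, ?_⟩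
  · apply le_antisymm
    · unfold ArLef.fixIdeal
      rw [Ideal.span_le]
      rintro _ ⟨r, rfl⟩
      refine Groth.Agent.Lib.Seat71.Node.sub_mem_of_generators π
        (σ.toRingEquiv : ArLef.NodeAlg B π →+* ArLef.NodeAlg B π) ?_ ?_ _ ?_ ?_ ?_ r
      · show σ (ArLef.NodeAlg.t π) ∈ _
        rw [hσt]
        exact Ideal.mul_mem_left _ _ (Groth.Agent.Lib.Seat71.Node.e_mem_mN π)
      · show σ (ArLef.NodeAlg.e π) ∈ _
        rw [hσe]
        exact Ideal.mul_mem_left _ _ (Groth.Agent.Lib.Seat71.Node.t_mem_mN π)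
      · intro b
        show σ (algebraMap B _ b) - algebraMap B _ b ∈ _
        rw [σ.commutes, sub_self]
        exact Ideal.zero_mem _
      · show σ (ArLef.NodeAlg.t π) - ArLef.NodeAlg.t π ∈ _
        rw [hht]; exact Ideal.mem_span_singleton_self h
      · show σ (ArLef.NodeAlg.e π) - ArLef.NodeAlg.e π ∈ _
        rw [hhe]; exact Ideal.mul_mem_left _ _ (Ideal.mem_span_singleton_self h)
    · rw [Ideal.span_singleton_le_iff_mem, ← hht]
      exact Ideal.subset_span ⟨_, rfl⟩
  · intro hmem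
    have h1 := Groth.Agent.Lib.Seat71.Node.thetaN_mem_of_mem_sq π h hmem
    rw [hθh] at h1
    obtain ⟨c, hc⟩ := h1
    have h2 : Groth.Agent.Lib.Seat71.Node.thetaN π (α : ArLef.NodeAlg B π) = MvPowerSeries.X 0 * c := by
      apply mul_right_cancel₀ hY0
      rw [hc]; ring
    have h3 : IsUnit (MvPowerSeries.X 0 : MvPowerSeries (Fin 1) (B ⧸ Ideal.span {π})) :=
      isUnit_of_mul_isUnit_left (h2 ▸ hθα)
    exact Groth.Agent.Lib.Seat71.Node.X0_not_isUnit h3
  · rw [isSMulRegular_iff_right_eq_zero_of_smul]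
    intro m hm
    obtain ⟨r, rfl⟩ := Ideal.Quotient.mk_surjective m
    have h1 : algebraMap B (ArLef.NodeAlg B π) π * r ∈ Ideal.span {h} := by
      rw [← Ideal.Quotient.eq_zero_iff_mem, ← hm, ← Algebra.smul_def]
      rfl
    rw [Ideal.Quotient.eq_zero_iff_mem, Ideal.mem_span_singleton]
    rw [Ideal.mem_span_singleton] at h1
    obtain ⟨s, hs⟩ := h1
    -- t * e * r = h * s
    rw [← hte] at hs
    have hts : ArLef.NodeAlg.t π ∣ s := by
      have : ArLef.NodeAlg.t π ∣ h * s := by rw [← hs]; exact ⟨ArLef.NodeAlg.e π * r, by ring⟩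
      exact (tp.dvd_or_dvd this).resolve_left hth
    obtain ⟨s', rfl⟩ := hts
    have h2 : ArLef.NodeAlg.e π * r = h * s' := by
      apply mul_left_cancel₀ tp.ne_zero
      rw [← mul_assoc, hs]; ring
    have hes : ArLef.NodeAlg.e π ∣ s' := by
      have : ArLef.NodeAlg.e π ∣ h * s' := by rw [← h2]; exact dvd_mul_right _ _
      exact (ep.dvd_or_dvd this).resolve_left heh
    obtain ⟨s'', rfl⟩ := hes
    refine ⟨s'', ?_⟩
    apply mul_left_cancel₀ ep.ne_zero
    rw [h2]; ring

end Groth.Agent.S15318
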