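import Groth.Statements.S15320
import Groth.Agent.Lib.Seat71NodeMax
import Groth.Agent.Lib.Seat71NodeMore
import Groth.Agent.Lib.Seat71IdealAux

set_option autoImplicit false
universe u
open ArLef ArLef.NodeAlg

namespace Groth.Agent.S15320

/-- Let B be a discrete valuation ring with uniformizer π, N = B[[t, e]]/(te - π) the complete local
ring of a semi-stable arithmetic surface over B at a singular point x of the closed fibre, and σ a
ring automorphism of N over an automorphism τ of B with v(τ(π) - π) = j ≥ 1, that is σ(π) = π + γ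
π^j with γ a unit of B, and with σ(b) - b ∈ π^j N for every b ∈ B (automatic when B is totally
ramified over the fixed ring of τ, as in the published setting, where the residue field is
algebraically closed). If σ switches the two branches through x (σ(t) associated to e and σ(e) to
t), then the fixed-point ideal I of σ is contained in no proper principal ideal (x is not on the
divisorial part of the fixed locus) and N/I has length 2j - 1 (the multiplicity of x in the residual
fixed-point scheme). -/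
theorem result (B : Type u) [CommRing B] [IsDomain B] [IsDiscreteValuationRing B] (π : B) (hπ : Irreducible π)
    (j : ℕ) (hj : 1 ≤ j) (γ : B) (hγ : IsUnit γ)
    (σ : ArLef.NodeAlg B π ≃+* ArLef.NodeAlg B π)
    (hσB : ∀ b : B, σ (algebraMap B (ArLef.NodeAlg B π) b) - algebraMap B (ArLef.NodeAlg B π) b ∈
      Ideal.span ({algebraMap B (ArLef.NodeAlg B π) (π ^ j)} : Set (ArLef.NodeAlg B π)))
    (hσπ : σ (algebraMap B (ArLef.NodeAlg B π) π) = algebraMap B (ArLef.NodeAlg B π) (π + γ * π ^ j))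
    (ht : Associated (σ (ArLef.NodeAlg.t π)) (ArLef.NodeAlg.e π)) (he : Associated (σ (ArLef.NodeAlg.e π)) (ArLef.NodeAlg.t π)) :
    (∀ g : ArLef.NodeAlg B π, ArLef.fixIdeal σ ≤ Ideal.span ({g} : Set (ArLef.NodeAlg B π)) → IsUnit g) ∧
      Module.length (ArLef.NodeAlg B π) (ArLef.NodeAlg B π ⧸ ArLef.fixIdeal σ) = ((2 * j - 1 : ℕ) : ℕ∞) := by
  classical
  have hdom : IsDomain (ArLef.NodeAlg B π) := Groth.Agent.Lib.Seat71.Node.nodeAlg_isDomain π hπ
  have hloc : IsLocalRing (ArLef.NodeAlg B π) := Groth.Agent.Lib.Seat71.Node.nodeAlg_isLocalRing π hπ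
  have hprime := Groth.Agent.Lib.Seat71.Node.span_pi_isPrime π hπ
  have hDdom : IsDomain (MvPowerSeries (Fin 1) (B ⧸ Ideal.span {π})) := NoZeroDivisors.to_isDomain _
  have tp : Prime (ArLef.NodeAlg.t π) := Groth.Agent.Lib.Seat71.Node.t_prime π hπ
  have ep : Prime (ArLef.NodeAlg.e π) := Groth.Agent.Lib.Seat71.Node.e_prime π hπ
  obtain ⟨u, hu⟩ := ht
  obtain ⟨v, hv⟩ := he
  set α : (ArLef.NodeAlg B π)ˣ := u⁻¹ with hα
  set β : (ArLef.NodeAlg B π)ˣ := v⁻¹ with hβ
  set tt : ArLef.NodeAlg B π := ArLef.NodeAlg.t π with htt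
  set ee : ArLef.NodeAlg B π := ArLef.NodeAlg.e π with hee
  have hσt : σ tt = (α : ArLef.NodeAlg B π) * ee := by
    have h0 : (α : ArLef.NodeAlg B π) * (σ tt * u) = σ tt := by
      rw [mul_comm (σ tt), ← mul_assoc, ← Units.val_mul, hα, inv_mul_cancel,
        Units.val_one, one_mul]
    rw [hu] at h0
    exact h0.symm
  have hσe : σ ee = (β : ArLef.NodeAlg B π) * tt := by
    have h0 : (β : ArLef.NodeAlg B π) * (σ ee * v) = σ ee := by
      rw [mul_comm (σ ee), ← mul_assoc, ← Units.val_mul, hβ, inv_mul_cancel,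
        Units.val_one, one_mul]
    rw [hv] at h0
    exact h0.symm
  have hte : tt * ee = algebraMap B (ArLef.NodeAlg B π) π := Groth.Agent.Lib.Seat71.Node.t_mul_e π
  set P : ArLef.NodeAlg B π := algebraMap B (ArLef.NodeAlg B π) π with hP
  set G : ArLef.NodeAlg B π := algebraMap B (ArLef.NodeAlg B π) γ with hG
  have hGu : IsUnit G := hγ.map _
  have hPj : P ^ j = P * P ^ (j - 1) := by
    rw [← pow_succ']; congr 1; omega
  have hαβ : (α : ArLef.NodeAlg B π) * β = 1 + G * P ^ (j - 1) := by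
    have h1 : σ tt * σ ee = P + G * P ^ j := by
      rw [← map_mul, hte, hσπ, map_add, map_mul, map_pow]
    rw [hσt, hσe, hPj] at h1
    have h2 : P * ((α : ArLef.NodeAlg B π) * β - (1 + G * P ^ (j - 1))) = 0 := by
      linear_combination h1 - ((α : ArLef.NodeAlg B π) * β) * hte
    exact sub_eq_zero.1 (Groth.Agent.Lib.Helper22.nodeAlg_pi_regular π hπ.ne_zero _ h2)
  set h : ArLef.NodeAlg B π := (α : ArLef.NodeAlg B π) * ee - tt with hh
  have hht : σ tt - tt = h := by rw [hσt]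
  have hhe : σ ee - ee = -(β : ArLef.NodeAlg B π) * h + G * (P ^ (j - 1) * ee) := by
    rw [hσe, hh]
    linear_combination (ee) * hαβ
  -- images of h under the two reductions
  have hθα : IsUnit (Groth.Agent.Lib.Seat71.Node.thetaN π (α : ArLef.NodeAlg B π)) := α.isUnit.map _
  have hθh : Groth.Agent.Lib.Seat71.Node.thetaN π h =
      Groth.Agent.Lib.Seat71.Node.thetaN π (α : ArLef.NodeAlg B π) * MvPowerSeries.X 0 := by
    rw [hh, map_sub, map_mul, Groth.Agent.Lib.Seat71.Node.thetaN_t,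
      Groth.Agent.Lib.Seat71.Node.thetaN_e, sub_zero]
  have hθh' : Groth.Agent.Lib.Seat71.Node.thetaN π (Groth.Agent.Lib.Seat71.Node.swapN π h) =
      - MvPowerSeries.X 0 := by
    rw [hh, map_sub, map_mul, Groth.Agent.Lib.Seat71.Node.swapN_e, Groth.Agent.Lib.Seat71.Node.swapN_t,
      map_sub, map_mul, Groth.Agent.Lib.Seat71.Node.thetaN_t, Groth.Agent.Lib.Seat71.Node.thetaN_e,
      mul_zero, zero_sub]
  have hY0 : (MvPowerSeries.X 0 : MvPowerSeries (Fin 1) (B ⧸ Ideal.span {π})) ≠ 0 :=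
    Groth.Agent.Lib.Seat71.Node.X0_ne_zero'
  have heh : ¬ ee ∣ h := by
    apply Groth.Agent.Lib.Seat71.Node.not_e_dvd_of_thetaN_swapN_ne_zero
    rw [hθh']
    exact neg_ne_zero.2 hY0
  have hreg : ∀ x, ee * x ∈ Ideal.span {h} → x ∈ Ideal.span {h} :=
    Groth.Agent.Lib.Seat71.Len.regular_mod_span_of_prime ep heh
  have hhm : h ∈ Groth.Agent.Lib.Seat71.Node.mN π :=
    Ideal.sub_mem _ (Ideal.mul_mem_left _ _ (Groth.Agent.Lib.Seat71.Node.e_mem_mN π))
      (Groth.Agent.Lib.Seat71.Node.t_mem_mN π)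
  -- the fixed ideal
  have hI : ArLef.fixIdeal σ = Ideal.span {h} ⊔ Ideal.span {P ^ (j - 1) * ee} := by
    apply le_antisymm
    · unfold ArLef.fixIdeal
      rw [Ideal.span_le]
      rintro _ ⟨r, rfl⟩
      refine Groth.Agent.Lib.Seat71.Node.sub_mem_of_generators π
        (σ : ArLef.NodeAlg B π →+* ArLef.NodeAlg B π) ?_ ?_ _ ?_ ?_ ?_ r
      · show σ tt ∈ _
        rw [hσt]
        exact Ideal.mul_mem_left _ _ (Groth.Agent.Lib.Seat71.Node.e_mem_mN π)
      · show σ ee ∈ _
        rw [hσe]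
        exact Ideal.mul_mem_left _ _ (Groth.Agent.Lib.Seat71.Node.t_mem_mN π)
      · intro b
        have h1 := hσB b
        rw [Ideal.mem_span_singleton'] at h1
        obtain ⟨c, hc⟩ := h1
        show σ (algebraMap B _ b) - algebraMap B _ b ∈ _
        rw [← hc, map_pow, hPj]
        refine Ideal.mem_sup_right (Ideal.mem_span_singleton'.2 ⟨c * tt, ?_⟩)
        rw [← hte]; ring
      · show σ tt - tt ∈ _
        rw [hht]; exact Ideal.mem_sup_left (Ideal.mem_span_singleton_self h)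
      · show σ ee - ee ∈ _
        rw [hhe]
        exact Submodule.add_mem_sup (Ideal.mul_mem_left _ _ (Ideal.mem_span_singleton_self h))
          (Ideal.mul_mem_left _ _ (Ideal.mem_span_singleton_self _))
    · have h1 : h ∈ ArLef.fixIdeal σ := by
        rw [← hht]; exact Ideal.subset_span ⟨_, rfl⟩
      refine sup_le ?_ ?_
      · rw [Ideal.span_singleton_le_iff_mem]; exact h1
      · rw [Ideal.span_singleton_le_iff_mem]
        have h2 : σ ee - ee ∈ ArLef.fixIdeal σ := Ideal.subset_span ⟨_, rfl⟩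
        have h3 : G * (P ^ (j - 1) * ee) = (σ ee - ee) + (β : ArLef.NodeAlg B π) * h := by
          rw [hhe]; ring
        have h4 : G * (P ^ (j - 1) * ee) ∈ ArLef.fixIdeal σ := by
          rw [h3]; exact Ideal.add_mem _ h2 (Ideal.mul_mem_left _ _ h1)
        exact (Ideal.unit_mul_mem_iff_mem _ hGu).1 h4
  have hI2 : ArLef.fixIdeal σ = Ideal.span {h} ⊔ Ideal.span {ee ^ (2 * j - 1)} := by
    rw [hI]
    have hαu : IsUnit ((α : ArLef.NodeAlg B π) ^ (j - 1)) := (α.isUnit).pow _
    refine Groth.Agent.Lib.Seat71.IdealAux.sup_span_eq_of_eq_unit_mul_add (Ideal.span {h}) hαu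
      (i := (P ^ (j - 1) - ((α : ArLef.NodeAlg B π) * ee ^ 2) ^ (j - 1)) * ee) ?_ ?_
    · have h1 : P - (α : ArLef.NodeAlg B π) * ee ^ 2 = h * (-ee) := by
        rw [hh, ← hte]; ring
      have h2 : P - (α : ArLef.NodeAlg B π) * ee ^ 2 ∣
          P ^ (j - 1) - ((α : ArLef.NodeAlg B π) * ee ^ 2) ^ (j - 1) := sub_dvd_pow_sub_pow _ _ _
      rw [h1] at h2
      rw [Ideal.mem_span_singleton]
      exact Dvd.dvd.mul_right (dvd_trans (dvd_mul_right h (-ee)) h2) _
    · have h1 : 2 * j - 1 = 2 * (j - 1) + 1 := by omega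
      rw [h1, pow_succ, pow_mul, mul_pow]
      ring
  have hlen : Module.length (ArLef.NodeAlg B π) (ArLef.NodeAlg B π ⧸ ArLef.fixIdeal σ) =
      ((2 * j - 1 : ℕ) : ℕ∞) := by
    rw [hI2, Groth.Agent.Lib.Seat71.Len.length_quot_sup_span_pow (Ideal.span {h}) ee hreg]
    have h1 : Ideal.span {h} ⊔ Ideal.span {ee} = Groth.Agent.Lib.Seat71.Node.mN π := by
      rw [Groth.Agent.Lib.Seat71.Node.mN_eq_span_sup_span, sup_comm (Ideal.span {h})]
      have h2 : Ideal.span {ee} ⊔ Ideal.span {h} = Ideal.span {ee} ⊔ Ideal.span {tt} := by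
        refine Groth.Agent.Lib.Seat71.IdealAux.sup_span_eq_of_eq_unit_mul_add (Ideal.span {ee})
          (u := -1) (IsUnit.neg (isUnit_one (M := ArLef.NodeAlg B π))) (i := (α : ArLef.NodeAlg B π) * ee) ?_ ?_
        · exact Ideal.mul_mem_left _ _ (Ideal.mem_span_singleton_self _)
        · rw [hh]; ring
      rw [h2, sup_comm]
    rw [h1, Groth.Agent.Lib.Seat71.Node.length_quot_mN π hπ, mul_one]
  refine ⟨?_, hlen⟩
  intro g hg
  by_contra hgu
  have hmax : Groth.Agent.Lib.Seat71.Node.mN π = IsLocalRing.maximalIdeal (ArLef.NodeAlg B π) :=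
    IsLocalRing.eq_maximalIdeal (Groth.Agent.Lib.Seat71.Node.mN_isMaximal π hπ)
  have hgm : g ∈ Groth.Agent.Lib.Seat71.Node.mN π := by
    rw [hmax]; exact hgu
  have h1 : h ∈ Ideal.span {g} := hg (by rw [← hht]; exact Ideal.subset_span ⟨_, rfl⟩)
  obtain ⟨a, ha⟩ := Ideal.mem_span_singleton.1 h1
  have hnsq : h ∉ (Ideal.span ({ArLef.NodeAlg.t π, ArLef.NodeAlg.e π} : Set (ArLef.NodeAlg B π))) ^ 2 := by
    intro hmem
    have h1 := Groth.Agent.Lib.Seat71.Node.thetaN_mem_of_mem_sq π h hmem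
    rw [hθh] at h1
    obtain ⟨c, hc⟩ := h1
    have h2 : Groth.Agent.Lib.Seat71.Node.thetaN π (α : ArLef.NodeAlg B π) = MvPowerSeries.X 0 * c := by
      apply mul_right_cancel₀ hY0
      rw [hc]; ring
    have h3 : IsUnit (MvPowerSeries.X 0 : MvPowerSeries (Fin 1) (B ⧸ Ideal.span {π})) :=
      isUnit_of_mul_isUnit_left (h2 ▸ hθα)
    exact Groth.Agent.Lib.Seat71.Node.X0_not_isUnit h3
  have hau : IsUnit a := by
    by_contra hau
    have ham : a ∈ Groth.Agent.Lib.Seat71.Node.mN π := by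
      rw [hmax]; exact hau
    apply hnsq
    rw [ha, pow_two]
    exact Ideal.mul_mem_mul hgm ham
  have hgh : Ideal.span {g} = Ideal.span {h} := by
    rw [ha, Ideal.span_singleton_mul_right_unit hau]
  have h2 : ee ^ (2 * j - 1) * 1 ∈ Ideal.span {h} := by
    rw [mul_one, ← hgh]
    apply hg
    rw [hI2]
    exact Ideal.mem_sup_right (Ideal.mem_span_singleton_self _)
  have h3 := Groth.Agent.Lib.Seat71.Len.regular_mod_pow (Ideal.span {h}) hreg (2 * j - 1) 1 h2
  have h4 : Ideal.span {h} = ⊤ := (Ideal.eq_top_iff_one _).2 h3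
  have h5 : Ideal.span {h} ≤ Groth.Agent.Lib.Seat71.Node.mN π := by
    rw [Ideal.span_singleton_le_iff_mem]; exact hhm
  rw [h4] at h5
  exact (Groth.Agent.Lib.Seat71.Node.mN_isMaximal π hπ).ne_top (top_le_iff.1 h5)

end Groth.Agent.S15320
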