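import Groth.Statements.S15321
import Groth.Agent.Lib.Seat71PSLen

set_option autoImplicit false
universe u
open ArLef

namespace Groth.Agent.S15321

/-- In the case of a smooth point with the closed fibre outside the divisorial part, let B be a discrete
valuation ring with uniformizer π and residue field k, B[[t]] the complete local ring of a
semi-stable arithmetic surface over B at a point x where the closed fibre is smooth, and σ a ring
automorphism of B[[t]] over an automorphism τ of B with v(τ(π) - π) = j ≥ 1, that is σ(π) = π + γ
π^j with γ a unit, and σ(b) - b ∈ π^j B[[t]] for all b ∈ B (automatic for B totally ramified over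
the fixed ring of τ, as in the published setting). If π does not divide f = σ(t) - t (the closed
fibre is not in the divisorial part of the fixed locus near x), then the length of B[[t]] modulo the
fixed-point ideal of σ is j m, where m, the length of k[[t]]/(f mod π), is the multiplicity of x as
a fixed point of σ on the closed fibre. -/
theorem result (B : Type u) [CommRing B] [IsDomain B] [IsDiscreteValuationRing B] (π : B) (hπ : Irreducible π)
    (j : ℕ) (hj : 1 ≤ j) (γ : B) (hγ : IsUnit γ)
    (σ : PowerSeries B ≃+* PowerSeries B)
    (hσB : ∀ b : B, σ (algebraMap B (PowerSeries B) b) - algebraMap B (PowerSeries B) b ∈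
      Ideal.span ({algebraMap B (PowerSeries B) (π ^ j)} : Set (PowerSeries B)))
    (hσπ : σ (algebraMap B (PowerSeries B) π) = algebraMap B (PowerSeries B) (π + γ * π ^ j))
    (h0 : ¬ (algebraMap B (PowerSeries B) π ∣ σ PowerSeries.X - PowerSeries.X)) :
    Module.length (PowerSeries B) (PowerSeries B ⧸ ArLef.fixIdeal σ) =
      (j : ℕ∞) * Module.length (PowerSeries (IsLocalRing.ResidueField B)) (PowerSeries (IsLocalRing.ResidueField B) ⧸
        Ideal.span ({PowerSeries.map (IsLocalRing.residue B) (σ PowerSeries.X - PowerSeries.X)} : Set (PowerSeries (IsLocalRing.ResidueField B)))) := by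
  classical
  have hC : ∀ b : B, algebraMap B (PowerSeries B) b = PowerSeries.C b := fun b => rfl
  set f : PowerSeries B := σ PowerSeries.X - PowerSeries.X with hf
  have hI : ArLef.fixIdeal σ =
      Ideal.span {f} ⊔ Ideal.span {(PowerSeries.C π : PowerSeries B) ^ j} := by
    apply le_antisymm
    · unfold ArLef.fixIdeal
      rw [Ideal.span_le]
      rintro _ ⟨r, rfl⟩
      refine Groth.Agent.Lib.Seat71.PSFix.sub_mem_of_generators
        (σ : PowerSeries B →+* PowerSeries B) ?_ _ ?_ ?_ r
      · show σ PowerSeries.X ∈ _
        rw [IsLocalRing.mem_maximalIdeal, mem_nonunits_iff]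
        intro h
        have h1 : IsUnit (σ.symm (σ PowerSeries.X)) := h.map σ.symm
        rw [RingEquiv.symm_apply_apply] at h1
        have := PowerSeries.isUnit_iff_constantCoeff.1 h1
        rw [PowerSeries.constantCoeff_X] at this
        exact not_isUnit_zero this
      · intro b
        have h1 := hσB b
        rw [hC, hC, map_pow] at h1
        exact Ideal.mem_sup_right h1
      · exact Ideal.mem_sup_left (Ideal.mem_span_singleton_self _)
    · refine sup_le ?_ ?_
      · rw [Ideal.span_singleton_le_iff_mem]
        exact Ideal.subset_span ⟨PowerSeries.X, rfl⟩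
      · rw [Ideal.span_singleton_le_iff_mem]
        have h1 : σ (PowerSeries.C π) - PowerSeries.C π ∈ ArLef.fixIdeal σ :=
          Ideal.subset_span ⟨PowerSeries.C π, rfl⟩
        have h2 : σ (PowerSeries.C π) - PowerSeries.C π =
            PowerSeries.C γ * (PowerSeries.C π : PowerSeries B) ^ j := by
          have := hσπ
          rw [hC, hC] at this
          rw [this, map_add, map_mul, map_pow]; ring
        rw [h2] at h1
        have hu : IsUnit (PowerSeries.C γ : PowerSeries B) := hγ.map _
        exact (Ideal.unit_mul_mem_iff_mem _ hu).1 h1
  rw [hI]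
  refine Groth.Agent.Lib.Seat71.PSLen.length_quot_span_sup_pow hπ f ?_ j
  rw [← hC]
  exact h0

end Groth.Agent.S15321
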