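import Groth.Statements.S15323
import Groth.Agent.Lib.Seat71NodeStab2

set_option autoImplicit false
universe u
open ArLef ArLef.NodeAlg

namespace Groth.Agent.S15323

/-- In the cases where the branches through the point do not lie in the divisorial part of the fixed
locus, let B be a discrete valuation ring with uniformizer π, N = B[[t, e]]/(te - π) the complete
local ring of a semi-stable arithmetic surface over B at a singular point x of the closed fibre, and
σ a ring automorphism of N with σ(π) = π + γ π^j (γ a unit of B, j ≥ 1) and σ(b) - b ∈ π^j N for all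
b ∈ B (σ lies over an automorphism τ of B with v(τ(π) - π) = j, B totally ramified over the fixed
ring as in the published setting). Suppose σ fixes the branches, σ(t) = α t and σ(e) = β e with
units α, β, and that t does not divide β - 1 and e does not divide α - 1. Then the length of N
modulo the fixed-point ideal of σ (the multiplicity of x in the residual fixed-point scheme) is j
(s₁ + s₂) + 1, where s₁ = length N/(t, β - 1) and s₂ = length N/(e, α - 1) are the fixed-point
multiplicities of σ at x along the two branches, each lowered by one. -/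
theorem result (B : Type u) [CommRing B] [IsDomain B] [IsDiscreteValuationRing B] (π : B) (hπ : Irreducible π)
    (j : ℕ) (hj : 1 ≤ j) (γ : B) (hγ : IsUnit γ)
    (σ : ArLef.NodeAlg B π ≃+* ArLef.NodeAlg B π)
    (hσB : ∀ b : B, σ (algebraMap B (ArLef.NodeAlg B π) b) - algebraMap B (ArLef.NodeAlg B π) b ∈
      Ideal.span ({algebraMap B (ArLef.NodeAlg B π) (π ^ j)} : Set (ArLef.NodeAlg B π)))
    (hσπ : σ (algebraMap B (ArLef.NodeAlg B π) π) = algebraMap B (ArLef.NodeAlg B π) (π + γ * π ^ j))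
    (α β : (ArLef.NodeAlg B π)ˣ) (ht : σ (ArLef.NodeAlg.t π) = (α : ArLef.NodeAlg B π) * ArLef.NodeAlg.t π) (he : σ (ArLef.NodeAlg.e π) = (β : ArLef.NodeAlg B π) * ArLef.NodeAlg.e π)
    (htb : ¬ (ArLef.NodeAlg.t π ∣ (β : ArLef.NodeAlg B π) - 1)) (hea : ¬ (ArLef.NodeAlg.e π ∣ (α : ArLef.NodeAlg B π) - 1)) :
    Module.length (ArLef.NodeAlg B π) (ArLef.NodeAlg B π ⧸ ArLef.fixIdeal σ) =
      (j : ℕ∞) * (Module.length (ArLef.NodeAlg B π) (ArLef.NodeAlg B π ⧸ Ideal.span ({ArLef.NodeAlg.t π, (β : ArLef.NodeAlg B π) - 1} : Set (ArLef.NodeAlg B π))) +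
        Module.length (ArLef.NodeAlg B π) (ArLef.NodeAlg B π ⧸ Ideal.span ({ArLef.NodeAlg.e π, (α : ArLef.NodeAlg B π) - 1} : Set (ArLef.NodeAlg B π)))) + 1 := by
  classical
  have hdom : IsDomain (ArLef.NodeAlg B π) := Groth.Agent.Lib.Seat71.Node.nodeAlg_isDomain π hπ
  have hαβ := Groth.Agent.Lib.Seat71.Node.stab_mul_eq π hπ j hj γ σ hσπ α β ht he
  have hI := Groth.Agent.Lib.Seat71.Node.stab_fixIdeal π hπ j hj γ hγ σ hσB hσπ α β ht he
  have hte : ArLef.NodeAlg.t π * ArLef.NodeAlg.e π = algebraMap B (ArLef.NodeAlg B π) π :=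
    Groth.Agent.Lib.Seat71.Node.t_mul_e π
  set P : ArLef.NodeAlg B π := algebraMap B (ArLef.NodeAlg B π) π with hP
  set G : ArLef.NodeAlg B π := algebraMap B (ArLef.NodeAlg B π) γ with hG
  set tt : ArLef.NodeAlg B π := ArLef.NodeAlg.t π with htt
  set ee : ArLef.NodeAlg B π := ArLef.NodeAlg.e π with hee
  have hGu : IsUnit G := hγ.map _
  have hPM : P ^ (j - 1) = tt ^ (j - 1) * ee ^ (j - 1) := by
    rw [← mul_pow, hte]
  have h1 : ((α : ArLef.NodeAlg B π) - 1) * β = G * (tt ^ (j - 1) * ee ^ (j - 1)) - ((β : ArLef.NodeAlg B π) - 1) := by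
    rw [← hPM]; linear_combination hαβ
  have h2 : ((β : ArLef.NodeAlg B π) - 1) * α = G * (tt ^ (j - 1) * ee ^ (j - 1)) - ((α : ArLef.NodeAlg B π) - 1) := by
    rw [← hPM]; linear_combination hαβ
  have key := Groth.Agent.Lib.Seat71.Node.L_stab π hπ ((α : ArLef.NodeAlg B π) - 1)
    ((β : ArLef.NodeAlg B π) - 1) α β G α.isUnit β.isUnit hGu (j - 1) (j - 1) h1 h2 hea htb
  rw [hI, Groth.Agent.Lib.Seat71.Len.L_pair, Groth.Agent.Lib.Seat71.Len.L_pair,
    mul_comm ((α : ArLef.NodeAlg B π) - 1), mul_comm ((β : ArLef.NodeAlg B π) - 1),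
    ← Groth.Agent.Lib.Seat71.Len.L_def, key]
  obtain ⟨k, rfl⟩ : ∃ k, j = k + 1 := ⟨j - 1, by omega⟩
  rw [Nat.add_sub_cancel]
  push_cast
  ring

end Groth.Agent.S15323
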