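import Groth.Statements.S15325
import Groth.Agent.Lib.Seat71NodeLen

set_option autoImplicit false
universe u
open ArLef ArLef.NodeAlg

namespace Groth.Agent.S15325

/-- Let k be a field, A = k[[t, e]]/(te) the complete local ring of a nodal curve at a node x, and σ a
k-algebra automorphism of A fixing the two branches, σ(t) = α t and σ(e) = β e with units α, β.
Writing I for the fixed-point ideal of σ (generated by all σ(r) - r), the fixed-point multiplicity
length(A/I) of σ at x and the fixed-point multiplicities length(A/(I + (t))), length(A/(I + (e))) of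
the automorphisms induced on the two branches satisfy length(A/I) + 1 = length(A/(I + (t))) +
length(A/(I + (e))), as extended natural numbers (both sides are infinite when σ fixes a branch
pointwise). (The published setting has k algebraically closed.) -/
theorem result (k : Type u) [Field k]
    (σ : ArLef.NodeAlg k 0 ≃ₐ[k] ArLef.NodeAlg k 0) (α β : (ArLef.NodeAlg k 0)ˣ)
    (ht : σ (ArLef.NodeAlg.t (0 : k)) = (α : ArLef.NodeAlg k 0) * ArLef.NodeAlg.t (0 : k)) (he : σ (ArLef.NodeAlg.e (0 : k)) = (β : ArLef.NodeAlg k 0) * ArLef.NodeAlg.e (0 : k)) :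
    Module.length (ArLef.NodeAlg k 0) (ArLef.NodeAlg k 0 ⧸ ArLef.fixIdeal σ) + 1 =
      Module.length (ArLef.NodeAlg k 0) (ArLef.NodeAlg k 0 ⧸ (ArLef.fixIdeal σ ⊔ Ideal.span ({ArLef.NodeAlg.t (0 : k)} : Set (ArLef.NodeAlg k 0)))) +
        Module.length (ArLef.NodeAlg k 0) (ArLef.NodeAlg k 0 ⧸ (ArLef.fixIdeal σ ⊔ Ideal.span ({ArLef.NodeAlg.e (0 : k)} : Set (ArLef.NodeAlg k 0)))) := by
  classical
  set tt : ArLef.NodeAlg k 0 := ArLef.NodeAlg.t (0 : k) with htt
  set ee : ArLef.NodeAlg k 0 := ArLef.NodeAlg.e (0 : k) with hee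
  set A : ArLef.NodeAlg k 0 := (α : ArLef.NodeAlg k 0) - 1 with hA
  set Bb : ArLef.NodeAlg k 0 := (β : ArLef.NodeAlg k 0) - 1 with hBb
  have hAt : σ tt - tt = A * tt := by rw [ht, hA]; ring
  have hBe : σ ee - ee = Bb * ee := by rw [he, hBb]; ring
  have hI : ArLef.fixIdeal σ = Ideal.span {A * tt, Bb * ee} := by
    apply le_antisymm
    · unfold ArLef.fixIdeal
      rw [Ideal.span_le]
      rintro _ ⟨r, rfl⟩
      refine Groth.Agent.Lib.Seat71.Node.sub_mem_of_generators (0 : k)
        (σ.toRingEquiv : ArLef.NodeAlg k 0 →+* ArLef.NodeAlg k 0) ?_ ?_ _ ?_ ?_ ?_ r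
      · show σ tt ∈ _
        rw [ht]
        exact Ideal.mul_mem_left _ _ (Groth.Agent.Lib.Seat71.Node.t_mem_mN 0)
      · show σ ee ∈ _
        rw [he]
        exact Ideal.mul_mem_left _ _ (Groth.Agent.Lib.Seat71.Node.e_mem_mN 0)
      · intro b
        show σ (algebraMap k _ b) - algebraMap k _ b ∈ _
        rw [σ.commutes, sub_self]
        exact Ideal.zero_mem _
      · show σ tt - tt ∈ _
        rw [hAt]; exact Ideal.subset_span (Set.mem_insert _ _)
      · show σ ee - ee ∈ _
        rw [hBe]; exact Ideal.subset_span (Set.mem_insert_of_mem _ rfl)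
    · rw [Ideal.span_le]
      intro z hz
      rcases hz with rfl | rfl
      · rw [← hAt]; exact Ideal.subset_span ⟨_, rfl⟩
      · rw [← hBe]; exact Ideal.subset_span ⟨_, rfl⟩
  set I : Ideal (ArLef.NodeAlg k 0) := ArLef.fixIdeal σ with hIdef
  have hImN : I ≤ Groth.Agent.Lib.Seat71.Node.mN (0 : k) := by
    rw [hI, Ideal.span_le]
    intro z hz
    rcases hz with rfl | rfl
    · exact Ideal.mul_mem_left _ _ (Groth.Agent.Lib.Seat71.Node.t_mem_mN 0)
    · exact Ideal.mul_mem_left _ _ (Groth.Agent.Lib.Seat71.Node.e_mem_mN 0)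
  have hinf : (I ⊔ Ideal.span {tt}) ⊓ (I ⊔ Ideal.span {ee}) = I := by
    apply le_antisymm
    · intro x hx
      obtain ⟨hx1, hx2⟩ := hx
      obtain ⟨i1, hi1, y1, hy1, rfl⟩ := Submodule.mem_sup.1 hx1
      obtain ⟨i2, hi2, y2, hy2, h12⟩ := Submodule.mem_sup.1 hx2
      obtain ⟨r1, rfl⟩ := Ideal.mem_span_singleton'.1 hy1
      obtain ⟨r2, rfl⟩ := Ideal.mem_span_singleton'.1 hy2
      have hd : i2 - i1 ∈ Ideal.span {A * tt, Bb * ee} := by
        rw [← hI]; exact I.sub_mem hi2 hi1
      obtain ⟨p, q, hpq⟩ := Ideal.mem_span_pair.1 hd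
      have h1 : tt * (r1 - p * A) = ee * (r2 + q * Bb) := by
        linear_combination (-1 : ArLef.NodeAlg k 0) * h12 - hpq
      have h2 := Groth.Agent.Lib.Seat71.Node.t_mul_eq_e_mul_zero _ _ h1
      have h3 : r1 * tt = p * (A * tt) := by linear_combination h2
      rw [h3]
      refine I.add_mem hi1 (I.mul_mem_left _ ?_)
      rw [hI]; exact Ideal.subset_span (Set.mem_insert _ _)
    · exact le_inf le_sup_left le_sup_left
  have hsup : (I ⊔ Ideal.span {tt}) ⊔ (I ⊔ Ideal.span {ee}) = Groth.Agent.Lib.Seat71.Node.mN (0 : k) := by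
    apply le_antisymm
    · refine sup_le (sup_le hImN ?_) (sup_le hImN ?_)
      · rw [Ideal.span_singleton_le_iff_mem]; exact Groth.Agent.Lib.Seat71.Node.t_mem_mN 0
      · rw [Ideal.span_singleton_le_iff_mem]; exact Groth.Agent.Lib.Seat71.Node.e_mem_mN 0
    · unfold Groth.Agent.Lib.Seat71.Node.mN
      rw [Ideal.span_le]
      intro z hz
      rcases hz with rfl | rfl
      · exact Ideal.mem_sup_left (Ideal.mem_sup_right (Ideal.mem_span_singleton_self _))
      · exact Ideal.mem_sup_right (Ideal.mem_sup_right (Ideal.mem_span_singleton_self _))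
  have key := Groth.Agent.Lib.Seat71.Node.length_quotient_inf_add_sup
    (R := ArLef.NodeAlg k 0) (M := ArLef.NodeAlg k 0) (I ⊔ Ideal.span {tt}) (I ⊔ Ideal.span {ee})
  rw [hinf, hsup, Groth.Agent.Lib.Seat71.Node.length_quot_mN_zero] at key
  exact key

end Groth.Agent.S15325
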