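import Groth.Statements.S15364
import Groth.Agent.Lib.Seat51Rigid3

set_option autoImplicit false
universe u
open CategoryTheory CategoryTheory.Limits MonoidalCategory CartesianMonoidalCategory AlgebraicGeometry
open AbSch

namespace Groth.Agent.S15364

/-- For an abelian scheme f : A → T (a commutative T-group scheme, proper and smooth over T with
geometrically connected fibres) and a commutative group scheme H finite and locally free over T, the
adjunction map H → f_* f^* H of fppf sheaves on T is an isomorphism, i.e. for every T-scheme U the
map H(U) → H(A ×_T U), s ↦ s ∘ pr, is bijective. This row states the case U = T, to which the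
general case reduces by base change: composition with the structure morphism A → T is a bijection
from the sections of H over T onto the T-morphisms A → H. The group structure of H plays no role and
is not assumed. (The published statement has an arbitrary base T; the published argument rests on
the rigidity lemma in its form for Noetherian schemes, so T is taken locally Noetherian here.) -/
theorem result {T : Scheme.{u}} [IsLocallyNoetherian T]
    (A : Over T) [GrpObj A] [IsCommMonObj A] [IsProper A.hom] [Smooth A.hom] [GeometricallyConnected A.hom]
    (H : Over T) [IsFinite H.hom] [Flat H.hom] [LocallyOfFinitePresentation H.hom] :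
    Function.Bijective fun s : (𝟙_ (Over T) ⟶ H) => toUnit A ≫ s := by
  have hAN : IsLocallyNoetherian A.left := LocallyOfFiniteType.isLocallyNoetherian A.hom
  have hflat : Flat A.hom := inferInstance
  constructor
  · intro s s' h
    have h1 : (MonObj.one : 𝟙_ (Over T) ⟶ A) ≫ toUnit A = 𝟙 _ := toUnit_unique _ _
    have h2 := congrArg (fun t => (MonObj.one : 𝟙_ (Over T) ⟶ A) ≫ t) h
    simp only [← Category.assoc, h1, Category.id_comp] at h2
    exact h2
  · intro g
    have h0 : ∀ s : T, Function.Bijective
        (pullback.snd A.hom (T.fromSpecResidueField s)).appTop := fun s =>
      Groth.Agent.Lib.Seat51Rigid.h0_of_geometricallyConnected_of_smooth A.hom s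
    have hcoll := Groth.Agent.Lib.Seat51Rigid.coll_eq_univ_of_finite A.hom H.hom g.left (Over.w g)
    have hfq : g.left ≫ H.hom = A.hom ≫ 𝟙 T := by rw [Over.w g, Category.comp_id]
    obtain ⟨t, ht1, ht2⟩ := Groth.Agent.Lib.Seat51Rigid.exists_factor_of_coll_eq_univ A.hom H.hom
      g.left (𝟙 T) hfq h0 hcoll
    refine ⟨Over.homMk t (by simpa using ht1), ?_⟩
    ext
    simp only [Over.comp_left, Over.toUnit_left, Over.homMk_left]
    exact ht2.symm

end Groth.Agent.S15364
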