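import Groth.Statements.S15419
import Groth.Agent.Lib.Seat86GrConv
import Groth.Agent.Lib.Seat86GrQReg
import Groth.Agent.Lib.Helper13HB

set_option autoImplicit false
universe u
open GrLC

namespace Groth.Agent.S15419

/-- Let k be a field, S = k[x_0, …, x_r] graded by degree, 𝔪 = (x_0, …, x_r), M a finitely generated
ℤ-graded S-module and x a linear form (x ∈ S_1) that is quasi-regular on M: the submodule of
elements of M killed by x has finite length. Let N = M/xM, given as a graded module with a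
surjective degree-preserving S-linear map π : M → N whose kernel is xM; graded local cohomology of M
and of N is computed from *injective resolutions in the graded category. If M is weakly d-regular,
that is H^i_𝔪(M) vanishes in degree d − i + 1 for every i > 0, then N is weakly d-regular. -/
theorem result (k : Type u) [Field k] (r : ℕ)
    (M : Type u) [AddCommGroup M] [Module k M] [Module (MvPolynomial (Fin (r + 1)) k) M]
    [IsScalarTower k (MvPolynomial (Fin (r + 1)) k) M] [Module.Finite (MvPolynomial (Fin (r + 1)) k) M]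
    (ℳ : ℤ → Submodule k M) [DirectSum.Decomposition ℳ] [SetLike.GradedSMul (GrSyz.stdGr k (Fin (r + 1))) ℳ]
    (x : MvPolynomial (Fin (r + 1)) k) (hx : x ∈ GrSyz.stdGr k (Fin (r + 1)) 1)
    (hq : IsFiniteLength (MvPolynomial (Fin (r + 1)) k) ↥(Submodule.torsionBy (MvPolynomial (Fin (r + 1)) k) M x))
    (N : Type u) [AddCommGroup N] [Module k N] [Module (MvPolynomial (Fin (r + 1)) k) N]
    [IsScalarTower k (MvPolynomial (Fin (r + 1)) k) N] [Module.Finite (MvPolynomial (Fin (r + 1)) k) N]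
    (𝒩 : ℤ → Submodule k N) [DirectSum.Decomposition 𝒩] [SetLike.GradedSMul (GrSyz.stdGr k (Fin (r + 1))) 𝒩]
    (π : M →ₗ[MvPolynomial (Fin (r + 1)) k] N) (hπ : Function.Surjective π) (hπg : GrLC.IsGrHom ℳ 𝒩 π)
    (hker : LinearMap.ker π = LinearMap.range (x • (LinearMap.id : M →ₗ[MvPolynomial (Fin (r + 1)) k] M)))
    (E : GrLC.StarInjRes (GrSyz.stdGr k (Fin (r + 1))) ℳ) (E' : GrLC.StarInjRes (GrSyz.stdGr k (Fin (r + 1))) 𝒩) (d : ℤ)
    (hM : ∀ i : ℕ, 0 < i → E.Hcomp (GrSyz.irrel (GrSyz.stdGr k (Fin (r + 1)))) i (d - (i : ℤ) + 1) = ⊥) (i : ℕ) (hi : 0 < i) :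
    E'.Hcomp (GrSyz.irrel (GrSyz.stdGr k (Fin (r + 1)))) i (d - (i : ℤ) + 1) = ⊥ := by
  classical
  have hpos : ∀ n : ℤ, n < 0 →
      Groth.Agent.Lib.Seat86.GrConv.addGr (GrSyz.stdGr k (Fin (r + 1))) n = ⊥ := by
    intro n hn
    rw [eq_bot_iff]
    intro p hp
    have hp' : p ∈ GrSyz.stdGr k (Fin (r + 1)) n := hp
    rw [Groth.Agent.Helper13HB.stdGr_neg n hn] at hp'
    exact AddSubgroup.mem_bot.mpr ((Submodule.mem_bot k).mp hp')
  have ha : (Groth.Agent.Lib.Seat86.GrConv.convIdeal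
      (GrSyz.irrel (GrSyz.stdGr k (Fin (r + 1))))).toIdeal =
      Ideal.span (⋃ n ∈ Set.Ioi (0 : ℤ),
        ((Groth.Agent.Lib.Seat86.GrConv.addGr (GrSyz.stdGr k (Fin (r + 1))) n :
          AddSubgroup (MvPolynomial (Fin (r + 1)) k)) : Set (MvPolynomial (Fin (r + 1)) k))) := by
    change Ideal.span {p : MvPolynomial (Fin (r + 1)) k |
      ∃ n : ℤ, 0 < n ∧ p ∈ GrSyz.stdGr k (Fin (r + 1)) n} = _
    congr 1
    ext p
    constructor
    · rintro ⟨n, hn, hp⟩
      exact Set.mem_iUnion₂.mpr ⟨n, hn, hp⟩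
    · intro hp
      obtain ⟨n, hn, hp⟩ := Set.mem_iUnion₂.mp hp
      exact ⟨n, hn, hp⟩
  have hx' : x ∈ Groth.Agent.Lib.Seat86.GrConv.addGr (GrSyz.stdGr k (Fin (r + 1))) 1 := hx
  have hKhom : (Submodule.torsionBy (MvPolynomial (Fin (r + 1)) k) M x).IsHomogeneous
      (Groth.Agent.Lib.Seat86.GrConv.addGr ℳ) := by
    intro j m hm
    rw [Submodule.mem_torsionBy_iff] at hm ⊢
    have h := Groth.Agent.Lib.Helper29GrEss.decompose_smul_of_mem
      (Groth.Agent.Lib.Seat86.GrConv.addGr (GrSyz.stdGr k (Fin (r + 1))))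
      (Groth.Agent.Lib.Seat86.GrConv.addGr ℳ) hx' m (j + 1)
    rw [hm, DirectSum.decompose_zero, add_sub_cancel_right] at h
    exact h.symm
  have : IsArtinian (MvPolynomial (Fin (r + 1)) k)
      ↥(Submodule.torsionBy (MvPolynomial (Fin (r + 1)) k) M x) :=
    (isFiniteLength_iff_isNoetherian_isArtinian.mp hq).2
  have hK : ∀ m : M, x • m = 0 → m ∈ GrLC.gam (Groth.Agent.Lib.Seat86.GrConv.convIdeal
      (GrSyz.irrel (GrSyz.stdGr k (Fin (r + 1))))).toIdeal M := fun m hm =>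
    Groth.Agent.Lib.Seat86.GrQReg.mem_gam_of_isArtinian hpos ha
      (Submodule.torsionBy (MvPolynomial (Fin (r + 1)) k) M x) hKhom m
      ((Submodule.mem_torsionBy_iff _ _).mpr hm)
  have hπg' : GrLC.IsGrHom (Groth.Agent.Lib.Seat86.GrConv.addGr ℳ)
      (Groth.Agent.Lib.Seat86.GrConv.addGr 𝒩) π := hπg
  have h1 := Groth.Agent.Lib.Seat86.GrConv.conv_eq_zero_of_Hcomp_eq_bot E
    (GrSyz.irrel (GrSyz.stdGr k (Fin (r + 1)))) i (d - (i : ℤ) + 1) (hM i hi)
  have e : d - (i : ℤ) + 1 + -1 = d - ((i + 1 : ℕ) : ℤ) + 1 := by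
    push_cast
    ring
  have h2 := Groth.Agent.Lib.Seat86.GrConv.conv_eq_zero_of_Hcomp_eq_bot E
    (GrSyz.irrel (GrSyz.stdGr k (Fin (r + 1)))) (i + 1) (d - ((i + 1 : ℕ) : ℤ) + 1)
    (hM (i + 1) (Nat.succ_pos i))
  rw [← e] at h2
  exact Groth.Agent.Lib.Seat86.GrConv.Hcomp_eq_bot_of_conv E'
    (GrSyz.irrel (GrSyz.stdGr k (Fin (r + 1)))) i (d - (i : ℤ) + 1)
    (Groth.Agent.Lib.Seat86.GrQReg.Hgr_quot_eq_zero x 1 hx'
      (Groth.Agent.Lib.Seat86.GrConv.convIdeal (GrSyz.irrel (GrSyz.stdGr k (Fin (r + 1)))))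
      hK π hπ hπg' hker (Groth.Agent.Lib.Seat86.GrConv.convRes E)
      (Groth.Agent.Lib.Seat86.GrConv.convRes E') i (d - (i : ℤ) + 1) h1 h2)

end Groth.Agent.S15419
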