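import Groth.Statements.S15420
import Groth.Agent.Lib.Seat86GrConv
import Groth.Agent.Lib.Seat86GrQReg
import Groth.Agent.Lib.Helper13HB
import Groth.Agent.Lib.Helper13RegCount
import Groth.Agent.Lib.Seat97GrCMReg

set_option autoImplicit false
universe u
open GrLC

namespace Groth.Agent.S15420

/-- Let k be a field, S = k[x_0, …, x_r] graded by degree, 𝔪 = (x_0, …, x_r), M a finitely generated
ℤ-graded S-module, x ∈ S_1 a linear form quasi-regular on M (the elements of M killed by x form a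
submodule of finite length), and N = M/xM, given as a graded module with a surjective
degree-preserving S-linear map π : M → N with kernel xM; graded local cohomology is computed from
*injective resolutions in the graded category. Call a module d-regular when H^0_𝔪 of it has no
nonzero piece in degrees above d and H^i_𝔪 of it vanishes in degree d − i + 1 for every i > 0. Then
M is d-regular if and only if N is d-regular and H^0_𝔪(M) has no nonzero piece in degrees above d. -/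
theorem result (k : Type u) [Field k] (r : ℕ)
    (M : Type u) [AddCommGroup M] [Module k M] [Module (MvPolynomial (Fin (r + 1)) k) M]
    [IsScalarTower k (MvPolynomial (Fin (r + 1)) k) M] [Module.Finite (MvPolynomial (Fin (r + 1)) k) M]
    (ℳ : ℤ → Submodule k M) [DirectSum.Decomposition ℳ] [SetLike.GradedSMul (GrSyz.stdGr k (Fin (r + 1))) ℳ]
    (x : MvPolynomial (Fin (r + 1)) k) (hx : x ∈ GrSyz.stdGr k (Fin (r + 1)) 1)
    (hq : IsFiniteLength (MvPolynomial (Fin (r + 1)) k) ↥(Submodule.torsionBy (MvPolynomial (Fin (r + 1)) k) M x))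
    (N : Type u) [AddCommGroup N] [Module k N] [Module (MvPolynomial (Fin (r + 1)) k) N]
    [IsScalarTower k (MvPolynomial (Fin (r + 1)) k) N] [Module.Finite (MvPolynomial (Fin (r + 1)) k) N]
    (𝒩 : ℤ → Submodule k N) [DirectSum.Decomposition 𝒩] [SetLike.GradedSMul (GrSyz.stdGr k (Fin (r + 1))) 𝒩]
    (π : M →ₗ[MvPolynomial (Fin (r + 1)) k] N) (hπ : Function.Surjective π) (hπg : GrLC.IsGrHom ℳ 𝒩 π)
    (hker : LinearMap.ker π = LinearMap.range (x • (LinearMap.id : M →ₗ[MvPolynomial (Fin (r + 1)) k] M)))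
    (E : GrLC.StarInjRes (GrSyz.stdGr k (Fin (r + 1))) ℳ) (E' : GrLC.StarInjRes (GrSyz.stdGr k (Fin (r + 1))) 𝒩) (d : ℤ) :
    (GrLC.endDeg (E.Hgr (GrSyz.irrel (GrSyz.stdGr k (Fin (r + 1)))) 0) ≤ ((d : WithTop ℤ) : WithBot (WithTop ℤ)) ∧ ∀ i : ℕ, 0 < i → E.Hcomp (GrSyz.irrel (GrSyz.stdGr k (Fin (r + 1)))) i (d - (i : ℤ) + 1) = ⊥) ↔
      ((GrLC.endDeg (E'.Hgr (GrSyz.irrel (GrSyz.stdGr k (Fin (r + 1)))) 0) ≤ ((d : WithTop ℤ) : WithBot (WithTop ℤ)) ∧ ∀ i : ℕ, 0 < i → E'.Hcomp (GrSyz.irrel (GrSyz.stdGr k (Fin (r + 1)))) i (d - (i : ℤ) + 1) = ⊥) ∧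
        GrLC.endDeg (E.Hgr (GrSyz.irrel (GrSyz.stdGr k (Fin (r + 1)))) 0) ≤ ((d : WithTop ℤ) : WithBot (WithTop ℤ))) := by
  classical
  have hpos : ∀ n : ℤ, n < 0 →
      Groth.Agent.Lib.Seat86.GrConv.addGr (GrSyz.stdGr k (Fin (r + 1))) n = ⊥ := by
    intro n hn
    rw [eq_bot_iff]
    intro p hp
    have hp' : p ∈ GrSyz.stdGr k (Fin (r + 1)) n := hp
    rw [Groth.Agent.Helper13HB.stdGr_neg n hn] at hp'
    exact AddSubgroup.mem_bot.mpr ((Submodule.mem_bot k).mp hp')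
  have ha : (Groth.Agent.Lib.Seat86.GrConv.convIdeal
      (GrSyz.irrel (GrSyz.stdGr k (Fin (r + 1))))).toIdeal =
      Ideal.span (⋃ n ∈ Set.Ioi (0 : ℤ),
        ((Groth.Agent.Lib.Seat86.GrConv.addGr (GrSyz.stdGr k (Fin (r + 1))) n :
          AddSubgroup (MvPolynomial (Fin (r + 1)) k)) : Set (MvPolynomial (Fin (r + 1)) k))) := by
    change Ideal.span {p : MvPolynomial (Fin (r + 1)) k |
      ∃ n : ℤ, 0 < n ∧ p ∈ GrSyz.stdGr k (Fin (r + 1)) n} = _
    congr 1
    ext p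
    constructor
    · rintro ⟨n, hn, hp⟩
      exact Set.mem_iUnion₂.mpr ⟨n, hn, hp⟩
    · intro hp
      obtain ⟨n, hn, hp⟩ := Set.mem_iUnion₂.mp hp
      exact ⟨n, hn, hp⟩
  have hX1 : ∀ l : Fin (r + 1), (MvPolynomial.X l : MvPolynomial (Fin (r + 1)) k) ∈
      GrSyz.stdGr k (Fin (r + 1)) 1 := by
    intro l
    have h := Groth.Agent.Helper13HB.stdGr_natCast (k := k) (σ := Fin (r + 1)) 1
    rw [Nat.cast_one] at h
    rw [h, MvPolynomial.mem_homogeneousSubmodule]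
    exact MvPolynomial.isHomogeneous_X k l
  have hhom : (Groth.Agent.Lib.Seat86.GrConv.convIdeal
      (GrSyz.irrel (GrSyz.stdGr k (Fin (r + 1))))).toIdeal =
      Ideal.span (((Groth.Agent.Lib.Seat86.GrConv.addGr (GrSyz.stdGr k (Fin (r + 1))) 1 :
          AddSubgroup (MvPolynomial (Fin (r + 1)) k)) : Set (MvPolynomial (Fin (r + 1)) k))) := by
    apply le_antisymm
    · rw [Groth.Agent.Lib.Seat86.GrConv.convIdeal_toIdeal,
        Groth.Agent.Helper13RegCount.irrel_eq_span_X k (r + 1), Ideal.span_le]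
      rintro _ ⟨l, rfl⟩
      exact Ideal.subset_span (hX1 l)
    · rw [Ideal.span_le]
      intro p hp
      have hp' : p ∈ GrSyz.stdGr k (Fin (r + 1)) 1 := hp
      exact Ideal.subset_span ⟨1, one_pos, hp'⟩
  have hx' : x ∈ Groth.Agent.Lib.Seat86.GrConv.addGr (GrSyz.stdGr k (Fin (r + 1))) 1 := hx
  have hKhom : (Submodule.torsionBy (MvPolynomial (Fin (r + 1)) k) M x).IsHomogeneous
      (Groth.Agent.Lib.Seat86.GrConv.addGr ℳ) := by
    intro j m hm
    rw [Submodule.mem_torsionBy_iff] at hm ⊢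
    have h := Groth.Agent.Lib.Helper29GrEss.decompose_smul_of_mem
      (Groth.Agent.Lib.Seat86.GrConv.addGr (GrSyz.stdGr k (Fin (r + 1))))
      (Groth.Agent.Lib.Seat86.GrConv.addGr ℳ) hx' m (j + 1)
    rw [hm, DirectSum.decompose_zero, add_sub_cancel_right] at h
    exact h.symm
  have : IsArtinian (MvPolynomial (Fin (r + 1)) k)
      ↥(Submodule.torsionBy (MvPolynomial (Fin (r + 1)) k) M x) :=
    (isFiniteLength_iff_isNoetherian_isArtinian.mp hq).2
  have hK : ∀ m : M, x • m = 0 → m ∈ GrLC.gam (Groth.Agent.Lib.Seat86.GrConv.convIdeal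
      (GrSyz.irrel (GrSyz.stdGr k (Fin (r + 1))))).toIdeal M := fun m hm =>
    Groth.Agent.Lib.Seat86.GrQReg.mem_gam_of_isArtinian hpos ha
      (Submodule.torsionBy (MvPolynomial (Fin (r + 1)) k) M x) hKhom m
      ((Submodule.mem_torsionBy_iff _ _).mpr hm)
  have hπg' : GrLC.IsGrHom (Groth.Agent.Lib.Seat86.GrConv.addGr ℳ)
      (Groth.Agent.Lib.Seat86.GrConv.addGr 𝒩) π := hπg
  have hmain := Groth.Agent.Lib.Seat97.GrCMReg.regular_iff hpos
    (Groth.Agent.Lib.Seat86.GrConv.convIdeal (GrSyz.irrel (GrSyz.stdGr k (Fin (r + 1))))) ha hhom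
    (ℳ := Groth.Agent.Lib.Seat86.GrConv.addGr ℳ) (𝒩 := Groth.Agent.Lib.Seat86.GrConv.addGr 𝒩)
    x hx' hK π hπ hπg' hker d
  -- translation of the two kinds of conditions
  have tM : ∀ (i : ℕ) (g : ℤ),
      Groth.Agent.Lib.Seat97.GrVan.Van (Groth.Agent.Lib.Seat86.GrConv.addGr ℳ)
        (Groth.Agent.Lib.Seat86.GrConv.convIdeal (GrSyz.irrel (GrSyz.stdGr k (Fin (r + 1))))) i g ↔
      E.Hcomp (GrSyz.irrel (GrSyz.stdGr k (Fin (r + 1)))) i g = ⊥ := by
    intro i g
    rw [Groth.Agent.Lib.Seat97.GrVan.van_iff_Hcomp _ i g (Groth.Agent.Lib.Seat86.GrConv.convRes E)]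
    constructor
    · intro h
      apply Groth.Agent.Lib.Seat86.GrConv.Hcomp_eq_bot_of_conv E _ i g
      intro z hz
      have hz' : z ∈ (Groth.Agent.Lib.Seat86.GrConv.convRes E).Hcomp
          (Groth.Agent.Lib.Seat86.GrConv.convIdeal (GrSyz.irrel (GrSyz.stdGr k (Fin (r + 1))))) i g :=
        hz
      rw [h] at hz'
      exact (Submodule.mem_bot _).mp hz'
    · intro h
      rw [eq_bot_iff]
      intro z hz
      exact (Submodule.mem_bot _).mpr
        (Groth.Agent.Lib.Seat86.GrConv.conv_eq_zero_of_Hcomp_eq_bot E _ i g h z hz)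
  have tN : ∀ (i : ℕ) (g : ℤ),
      Groth.Agent.Lib.Seat97.GrVan.Van (Groth.Agent.Lib.Seat86.GrConv.addGr 𝒩)
        (Groth.Agent.Lib.Seat86.GrConv.convIdeal (GrSyz.irrel (GrSyz.stdGr k (Fin (r + 1))))) i g ↔
      E'.Hcomp (GrSyz.irrel (GrSyz.stdGr k (Fin (r + 1)))) i g = ⊥ := by
    intro i g
    rw [Groth.Agent.Lib.Seat97.GrVan.van_iff_Hcomp _ i g (Groth.Agent.Lib.Seat86.GrConv.convRes E')]
    constructor
    · intro h
      apply Groth.Agent.Lib.Seat86.GrConv.Hcomp_eq_bot_of_conv E' _ i g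
      intro z hz
      have hz' : z ∈ (Groth.Agent.Lib.Seat86.GrConv.convRes E').Hcomp
          (Groth.Agent.Lib.Seat86.GrConv.convIdeal (GrSyz.irrel (GrSyz.stdGr k (Fin (r + 1))))) i g :=
        hz
      rw [h] at hz'
      exact (Submodule.mem_bot _).mp hz'
    · intro h
      rw [eq_bot_iff]
      intro z hz
      exact (Submodule.mem_bot _).mpr
        (Groth.Agent.Lib.Seat86.GrConv.conv_eq_zero_of_Hcomp_eq_bot E' _ i g h z hz)
  have bot_iff : ∀ {H : Type u} [AddCommGroup H] [Module (GrLC.deg0 (GrSyz.stdGr k (Fin (r + 1)))) H]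
      (P : Submodule (GrLC.deg0 (GrSyz.stdGr k (Fin (r + 1)))) H), P.toAddSubgroup = ⊥ ↔ P = ⊥ := by
    intro H _ _ P
    constructor
    · intro h
      rw [eq_bot_iff]
      intro z hz
      have hz' : z ∈ P.toAddSubgroup := hz
      rw [h] at hz'
      exact (Submodule.mem_bot _).mpr (AddSubgroup.mem_bot.mp hz')
    · intro h
      rw [h]
      rfl
  have e0M : GrLC.endDeg (E.Hgr (GrSyz.irrel (GrSyz.stdGr k (Fin (r + 1)))) 0) ≤
      ((d : WithTop ℤ) : WithBot (WithTop ℤ)) ↔ ∀ n : ℤ, d < n →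
      Groth.Agent.Lib.Seat97.GrVan.Van (Groth.Agent.Lib.Seat86.GrConv.addGr ℳ)
        (Groth.Agent.Lib.Seat86.GrConv.convIdeal (GrSyz.irrel (GrSyz.stdGr k (Fin (r + 1))))) 0 n := by
    rw [Groth.Agent.Lib.Seat97.GrCMReg.endDeg_le_iff]
    apply forall_congr'
    intro n
    apply imp_congr_right
    intro _
    rw [tM 0 n]
    exact bot_iff _
  have e0N : GrLC.endDeg (E'.Hgr (GrSyz.irrel (GrSyz.stdGr k (Fin (r + 1)))) 0) ≤
      ((d : WithTop ℤ) : WithBot (WithTop ℤ)) ↔ ∀ n : ℤ, d < n →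
      Groth.Agent.Lib.Seat97.GrVan.Van (Groth.Agent.Lib.Seat86.GrConv.addGr 𝒩)
        (Groth.Agent.Lib.Seat86.GrConv.convIdeal (GrSyz.irrel (GrSyz.stdGr k (Fin (r + 1))))) 0 n := by
    rw [Groth.Agent.Lib.Seat97.GrCMReg.endDeg_le_iff]
    apply forall_congr'
    intro n
    apply imp_congr_right
    intro _
    rw [tN 0 n]
    exact bot_iff _
  rw [e0M, e0N]
  simp only [← tM, ← tN]
  exact hmain

end Groth.Agent.S15420
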