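import Groth.Statements.S15456
import Groth.Agent.Lib.Seat72WeilFE
import Groth.Agent.S15454
import Groth.Agent.S15455

set_option autoImplicit false
set_option maxSynthPendingDepth 3
universe u v
open CategoryTheory AlgebraicGeometry
open WeilCoh

namespace Groth.Agent.S15456

/-- Let k₀ be a finite field with q elements, k an algebraically closed field containing k₀, H^* a Weil
cohomology theory, with coefficient field K of characteristic zero, on nonsingular connected
projective varieties over k, X a scheme of finite type over k₀ whose base change X̄ = X ×_{k₀} k is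
such a variety (as it is when X is nonsingular, projective and geometrically connected), and F =
Frob_{X,q} × id the k-endomorphism of X̄ induced by the q-Frobenius of X; let n = dim X̄ and E =
(Δ²) the self-intersection of the diagonal of X̄, which equals Σ_i (−1)^i dim_K H^i(X̄). Then Z(X,
1/(q^n t)) = ± q^{nE/2} t^E Z(X, t). Stated in the field K(t) of rational functions for Z(t) = P_1
P_3 ⋯ P_{2n−1} / (P_0 P_2 ⋯ P_{2n}), P_i(t) = det(Id − t F^* | H^i(X̄)) (the reverse of the
characteristic polynomial), which is the zeta function of X by its cohomological factorisation; E is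
written as the alternating sum of the dimensions, nE is even, and the sign is left unspecified as in
the published statement. The q-Frobenius of X is pinned as the endomorphism that is the identity on
points and the q-th power on sections, X̄ as a cartesian square over Spec k → Spec k₀, and F by its
compatibility with the projection to X. -/
theorem result (k₀ : Type u) [Field k₀] [Finite k₀] (k : Type u) [Field k] [IsAlgClosed k] [Algebra k₀ k]
    (K : Type v) [Field K] [CharZero K] (T : WeilCoh.Theory k K)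
    {X : Scheme.{u}} (f : X ⟶ Spec (CommRingCat.of k₀)) [LocallyOfFiniteType f] [QuasiCompact f]
    (FX : X ⟶ X) (hFb : FX.base = 𝟙 _) (hle : ∀ U : X.Opens, U ≤ FX ⁻¹ᵁ U)
    (hFapp : ∀ (U : X.Opens) (s : Γ(X, U)), (FX.appLE U U (hle U)).hom s = s ^ Nat.card k₀)
    (Xb : WeilCoh.Var k) (π : Xb.obj.left ⟶ X)
    (hπ : IsPullback π Xb.obj.hom f (Spec.map (CommRingCat.ofHom (algebraMap k₀ k))))
    (F : Xb ⟶ Xb) (hF : WeilCoh.sm F ≫ π = π ≫ FX) :
    ∃ ε : K, (ε = 1 ∨ ε = -1) ∧
      Polynomial.aeval ((RatFunc.X : RatFunc K)⁻¹ * RatFunc.C ((Nat.card k₀ : K) ^ WeilCoh.dim Xb.obj.left)⁻¹)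
          (∏ i ∈ Finset.range (WeilCoh.dim Xb.obj.left),
            (LinearMap.charpoly (T.pullDeg F ((2 * i + 1 : ℕ) : ℤ))).reverse) /
        Polynomial.aeval ((RatFunc.X : RatFunc K)⁻¹ * RatFunc.C ((Nat.card k₀ : K) ^ WeilCoh.dim Xb.obj.left)⁻¹)
          (∏ i ∈ Finset.range (WeilCoh.dim Xb.obj.left + 1),
            (LinearMap.charpoly (T.pullDeg F ((2 * i : ℕ) : ℤ))).reverse) =
      RatFunc.C ε * RatFunc.C (Nat.card k₀ : K) ^ ((WeilCoh.dim Xb.obj.left : ℤ) * (∑ i ∈ Finset.range (2 * WeilCoh.dim Xb.obj.left + 1), (-1 : ℤ) ^ i * (Module.finrank K ↥(T.gr Xb (i : ℤ)) : ℤ)) / 2) *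
        (RatFunc.X : RatFunc K) ^ (∑ i ∈ Finset.range (2 * WeilCoh.dim Xb.obj.left + 1), (-1 : ℤ) ^ i * (Module.finrank K ↥(T.gr Xb (i : ℤ)) : ℤ)) *
        (algebraMap (Polynomial K) (RatFunc K)
          (∏ i ∈ Finset.range (WeilCoh.dim Xb.obj.left),
            (LinearMap.charpoly (T.pullDeg F ((2 * i + 1 : ℕ) : ℤ))).reverse) /
         algebraMap (Polynomial K) (RatFunc K)
          (∏ i ∈ Finset.range (WeilCoh.dim Xb.obj.left + 1),
            (LinearMap.charpoly (T.pullDeg F ((2 * i : ℕ) : ℤ))).reverse)) := by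
  have hq : (Nat.card k₀ : K) ≠ 0 := Nat.cast_ne_zero.mpr Nat.card_pos.ne'
  have hB : ∀ j : ℤ, Module.finrank K ↥(T.gr Xb (2 * (WeilCoh.dim Xb.obj.left : ℤ) - j)) =
      Module.finrank K ↥(T.gr Xb j) := by
    intro j
    have hd := T.duality Xb (2 * (WeilCoh.dim Xb.obj.left : ℤ) - j) j (by ring)
    exact Module.finrank_of_isPerfPair (WeilCoh.pairing K (T.gr Xb (2 * (WeilCoh.dim Xb.obj.left : ℤ) - j))
      (T.gr Xb j) (T.tr Xb))
  have hmid : WeilCoh.dim Xb.obj.left % 2 = 1 →
      Even (Module.finrank K ↥(T.gr Xb ((WeilCoh.dim Xb.obj.left : ℕ) : ℤ))) := by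
    intro hodd
    have hd := T.duality Xb (WeilCoh.dim Xb.obj.left : ℤ) (WeilCoh.dim Xb.obj.left : ℤ) (by ring)
    refine Groth.Agent.Lib.Seat72.WeilFE.even_finrank_of_skew
      (WeilCoh.pairing K (T.gr Xb (WeilCoh.dim Xb.obj.left : ℤ)) (T.gr Xb (WeilCoh.dim Xb.obj.left : ℤ))
        (T.tr Xb)) ?_
    intro a b
    have h1 := T.gradedComm Xb _ _ (a : T.H Xb) (b : T.H Xb) a.2 b.2
    have h2 : (-1 : K) ^ ((WeilCoh.dim Xb.obj.left : ℤ).natAbs * (WeilCoh.dim Xb.obj.left : ℤ).natAbs) = -1 := by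
      rw [Int.natAbs_natCast]
      exact Odd.neg_one_pow (Nat.odd_iff.mpr hodd |>.mul (Nat.odd_iff.mpr hodd))
    rw [h2] at h1
    show T.tr Xb ((a : T.H Xb) * (b : T.H Xb)) = - T.tr Xb ((b : T.H Xb) * (a : T.H Xb))
    rw [h1, map_smul, smul_eq_mul, neg_one_mul]
  have hpar := Groth.Agent.Lib.Seat72.WeilFE.even_mul_euler (WeilCoh.dim Xb.obj.left)
    (fun j => Module.finrank K ↥(T.gr Xb j)) hB hmid
  exact Groth.Agent.Lib.Seat72.WeilFE.functional_equation (Nat.card k₀ : K) hq (WeilCoh.dim Xb.obj.left)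
    (fun j => Module.finrank K ↥(T.gr Xb j)) (fun j => LinearMap.charpoly (T.pullDeg F j))
    (fun j => LinearMap.det (T.pullDeg F j))
    (fun j => LinearMap.charpoly_monic _) (fun j => LinearMap.charpoly_natDegree _)
    (fun j => Groth.Agent.S15455.result k₀ k K T f FX hFb hle hFapp Xb π hπ F hF j)
    (fun j => by
      rw [Groth.Agent.S15454.result k₀ k K T f FX hFb hle hFapp Xb π hπ F hF j, pow_mul])
    hpar

end Groth.Agent.S15456
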