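import Groth.Statements.S15499
import Groth.Agent.Lib.Seat99HQLocFree

set_option autoImplicit false
open Polynomial LaurentPolynomial
open scoped TensorProduct
universe u
open CAlg

namespace Groth.Agent.S15499

/-- Let S = Spec R be a smooth connected affine complex variety, so that R is a finitely generated
smooth ℂ-algebra and an integral domain, and let F be a locally free sheaf of finite rank on the
projective line over S, presented by its two standard charts: a finitely generated projective
R[X]-module P on the affine line over S, a finitely generated projective R[X]-module P' on the chart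
at infinity, and an identification of their base changes to R[X, X⁻¹] that is additive, bijective
and semilinear over the R-algebra involution X ↦ X⁻¹. Then S is covered by basic open sets D(g_1),
…, D(g_n) such that F restricted to the affine line over each D(g_i) is free: the localisation of P
at g_i is a free module over the localisation of R[X] at g_i. -/
theorem result
    (R : Type u) [CommRing R] [IsDomain R] [Algebra ℂ R] [Algebra.FiniteType ℂ R]
    [Algebra.Smooth ℂ R]
    (P : Type u) [AddCommGroup P] [Module R[X] P] [Module.Finite R[X] P]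
    [Module.Projective R[X] P]
    (P' : Type u) [AddCommGroup P'] [Module R[X] P'] [Module.Finite R[X] P']
    [Module.Projective R[X] P']
    (e : R[T;T⁻¹] ⊗[R[X]] P ≃+ R[T;T⁻¹] ⊗[R[X]] P')
    (he : ∀ (a : R[T;T⁻¹]) (m : R[T;T⁻¹] ⊗[R[X]] P),
      e (a • m) = LaurentPolynomial.invert a • e m) :
    ∃ (n : ℕ) (g : Fin n → R), Ideal.span (Set.range g) = ⊤ ∧
      ∀ i, Module.Free (Localization.Away (Polynomial.C (g i) : R[X]))
        (LocalizedModule (Submonoid.powers (Polynomial.C (g i) : R[X])) P) := by
  let e' : (R[T;T⁻¹] ⊗[R[X]] P) →ₛₗ[Groth.Agent.Lib.Seat99.HQ.σL (A := R)] (R[T;T⁻¹] ⊗[R[X]] P') :=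
    { toFun := e
      map_add' := e.map_add
      map_smul' := he }
  have he' : Function.Bijective e' := e.bijective
  obtain ⟨a, e₀, he₀, ⟨ψ⟩⟩ := Groth.Agent.Lib.Seat99.HQ.extended_of_semilinear P P' e' he'
  have : Module.Projective R (LinearMap.range (Matrix.toLin' e₀)) :=
    Groth.Agent.Lib.Seat99.HQ.range_toLin'_projective e₀ he₀
  have : Module.Finite R (LinearMap.range (Matrix.toLin' e₀)) := Module.Finite.range _
  obtain ⟨n, g, hg, hfree⟩ :=
    Groth.Agent.Lib.Seat99.HQ.exists_cover_free (R := R) (LinearMap.range (Matrix.toLin' e₀))
  refine ⟨n, g, hg, fun i => ?_⟩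
  have := hfree i
  exact Groth.Agent.Lib.Seat99.HQ.free_localizedModule_of_extended
    (LinearMap.range (Matrix.toLin' e₀)) P ψ (g i)

end Groth.Agent.S15499
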