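import Groth.Statements.S15533
import Groth.Agent.Lib.Helper18OmLS1
import Groth.Agent.Lib.Seat72DerAlg

set_option autoImplicit false
set_option maxSynthPendingDepth 3
set_option linter.style.haveILetI false
universe u
open OmegaSh

namespace Groth.Agent.S15533

open CategoryTheory AlgebraicGeometry TopologicalSpace Opposite

open Groth.Agent.Helper18OmLS in
/-- on an affine open of a smooth `k`-scheme, a derivation over `k` kills the restriction of any
global function which is integral over `k`. -/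
theorem local_zero (k : Type u) [Field k] (X : Scheme.{u})
    (f : X ⟶ Spec (CommRingCat.of k)) [Smooth f] (F : X.Modules) (D : OmegaSh.Der f F)
    (s : Γ(X, ⊤)) (hs : ((Scheme.ΓSpecIso (CommRingCat.of k)).inv ≫ f.appTop).hom.IsIntegralElem s)
    (U : X.Opens) (hU : IsAffineOpen U) :
    D.app U (X.presheaf.map (homOfLE (le_top : U ≤ ⊤)).op s) = 0 := by
  have e : U ≤ f ⁻¹ᵁ ⊤ := le_top
  let φ : k →+* Γ(X, U) := ((Scheme.ΓSpecIso (CommRingCat.of k)).inv ≫ f.appLE ⊤ U e).hom
  have hsm : φ.Smooth := by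
    have h1 : (f.appLE ⊤ U e).hom.Smooth :=
      HasRingHomProperty.appLE (P := @Smooth) f inferInstance ⟨⊤, isAffineOpen_top _⟩ ⟨U, hU⟩ e
    have h2 : ((Scheme.ΓSpecIso (CommRingCat.of k)).inv).hom.Smooth :=
      RingHom.Smooth.of_bijective
        (ConcreteCategory.bijective_of_isIso (Scheme.ΓSpecIso (CommRingCat.of k)).inv)
    exact h2.comp h1
  have hφ : ∀ c : k, D.app U (φ c) = 0 := by
    intro c
    have h1 : φ c = X.presheaf.map (homOfLE e).op
        (f.app ⊤ ((Scheme.ΓSpecIso (CommRingCat.of k)).inv c)) := rfl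
    rw [h1, der_map D e]
    have h2 : D.app (f ⁻¹ᵁ ⊤) (f.app ⊤ ((Scheme.ΓSpecIso (CommRingCat.of k)).inv c)) = 0 :=
      D.d_app (X := op ⊤) _
    rw [h2, map_zero]
  refine Groth.Agent.Lib.Seat72.DerAlg.der_eq_zero_of_smooth φ hsm (D.app U)
    (fun a b => der_mul D a b) hφ _ ?_
  obtain ⟨q, hq, hq0⟩ := hs
  refine ⟨q, hq, ?_⟩
  have := congrArg (X.presheaf.map (homOfLE (le_top : U ≤ ⊤)).op).hom hq0
  rw [Polynomial.hom_eval₂, map_zero] at this
  exact this

open Groth.Agent.Helper18OmLS in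
open CategoryTheory AlgebraicGeometry in
/-- For a field k and a smooth proper k-scheme X with structure morphism f, the derivation d : O_X →
Ω_{X/k} of f vanishes on global functions: d(s) = 0 in Γ(X, Ω_{X/k}) for every s ∈ Γ(X, O_X). -/
theorem result (k : Type u) [Field k] (X : Scheme.{u})
    (f : X ⟶ Spec (CommRingCat.of k)) [IsProper f] [Smooth f] (s : Γ(X, ⊤)) :
    (OmegaSh.dOmega f).app ⊤ s = 0 := by
  have hs : ((Scheme.ΓSpecIso (CommRingCat.of k)).inv ≫ f.appTop).hom.IsIntegralElem s := by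
    have : ((Scheme.ΓSpecIso (CommRingCat.of k)).inv ≫ f.appTop).hom.IsIntegral := by
      apply RingHom.isIntegral_respectsIso.2
        (e := (Scheme.ΓSpecIso _).symm.commRingCatIsoToRingEquiv)
      exact isIntegral_appTop_of_universallyClosed f
    exact this s
  refine TopCat.Sheaf.eq_of_locally_eq' (abSh (Omega.sheaf f))
    (fun U : X.affineOpens => U.1) ⊤ (fun U => homOfLE le_top) ?_ _ _ ?_
  · intro x _
    obtain ⟨_, ⟨U, hU, rfl⟩, hxU, -⟩ :=
      X.isBasis_affineOpens.exists_subset_of_mem_open (Set.mem_univ x) isOpen_univ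
    exact Opens.mem_iSup.2 ⟨⟨U, hU⟩, hxU⟩
  · rintro ⟨U, hU⟩
    change (Omega.sheaf f).presheaf.map (homOfLE le_top).op ((OmegaSh.dOmega f).app ⊤ s) =
      (Omega.sheaf f).presheaf.map (homOfLE le_top).op 0
    rw [map_zero, ← der_map (OmegaSh.dOmega f) le_top s]
    exact local_zero k X f _ (OmegaSh.dOmega f) s hs U hU

end Groth.Agent.S15533
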