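import Groth.Statements.S1558
import Groth.Agent.Lib.Helper18Ann2
import Groth.Agent.Lib.Seat93ZeroDim
import Groth.Agent.Lib.Seat93EulerPow
import Groth.Agent.Lib.Seat35EulerIso

set_option autoImplicit false
universe u
open CategoryTheory CategoryTheory.Limits AlgebraicGeometry
open Variety

namespace Groth.Agent.S1558

/-- On a proper scheme over a field, if F is coherent with support of dimension at most zero and E is
finite locally free of rank n, then χ(X, F ⊗ E) = n · χ(X, F). -/
theorem result (k : Type u) [Field k] (X : Scheme.{u}) [X.Over (Spec (CommRingCat.of k))] [IsProper (X ↘ (Spec (CommRingCat.of k)))]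
    (F : X.Modules) (hF : Coh.IsCoh F) (hsupp : topologicalKrullDim (CohB1.support F) ≤ 0)
    (n : ℕ) (E : X.Modules) (hE : FlatMod.IsFinLocFreeOfRank n E) :
    Curv2.euler k X (CohB1.tensorMod F E) = n * Curv2.euler k X F := by
  haveI : F.IsQuasicoherent := hF.1
  haveI : IsLocallyNoetherian X :=
    LocallyOfFiniteType.isLocallyNoetherian (X ↘ Spec (CommRingCat.of k))
  haveI : CompactSpace X :=
    QuasiCompact.compactSpace_of_compactSpace (X ↘ Spec (CommRingCat.of k))
  haveI : IsNoetherian X := {}
  -- the support is closed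
  obtain ⟨J, -, -, -, hJ⟩ := Groth.Agent.Helper18Ann.main_S9377 F hF.2
  have hZcl : IsClosed (CohB1.support F) := by
    rw [← hJ]
    exact J.support.isClosed
  -- and finite discrete
  haveI : Finite ↥(CohB1.support F) :=
    Groth.Agent.Lib.Seat93.ZeroDim.finite_of_dim_le_zero _ hsupp
  haveI : T1Space ↥(CohB1.support F) :=
    Groth.Agent.Lib.Seat93.ZeroDim.t1Space_of_dim_le_zero _ hsupp
  -- enumerate the points of the support
  obtain ⟨m, ⟨e⟩⟩ := Finite.exists_equiv_fin ↥(CohB1.support F)
  let p : Fin m → X := fun i => (e.symm i).1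
  have hp : Function.Injective p := fun i j hij => e.symm.injective (Subtype.ext hij)
  have hcl : ∀ i, IsClosed ({p i} : Set X) := by
    intro i
    have h1 : IsClosed ({e.symm i} : Set ↥(CohB1.support F)) := isClosed_singleton
    have h2 := hZcl.isClosedEmbedding_subtypeVal.isClosedMap _ h1
    simpa using h2
  have hvan : ∀ y, y ∉ Set.range p → Subsingleton (F.presheaf.stalk y) := by
    intro y hy
    by_contra h
    exact hy ⟨e ⟨y, h⟩, by simp [p]⟩
  obtain ⟨θ⟩ := Groth.Agent.Lib.Seat93.EulerPow.nonempty_tensor_iso_pow p hp hcl F E n hE hvan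
  have h1 : Curv2.euler k X (CohB1.tensorMod F E) =
      Curv2.euler k X (Groth.Agent.Lib.Seat93.SkyDecomp.pow n F) := by
    unfold Curv2.euler
    refine finsum_congr fun i => ?_
    rw [Groth.Agent.Lib.Seat35.EulerIso.finrank_HH_eq k X θ i]
  rw [h1]
  exact Groth.Agent.Lib.Seat93.EulerPow.euler_pow k X n F

end Groth.Agent.S1558
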