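import Groth.Statements.S15595
import Groth.Agent.Lib.Seat42RegBaseChange

set_option autoImplicit false
universe u
open TensorProduct
attribute [local instance] RingHom.ker_isPrime
open CAlg

namespace Groth.Agent.S15595

open Groth.Agent.Lib.Seat42.RegBaseChange IsLocalRing

section aux

variable (k K A : Type u) [Field k] [Field K] [Algebra k K] [CommRing A] [Algebra k A]

/-- `K ⊗[k] A` is flat over `A` (acting on the right factor). -/
theorem flat_right :
    letI := Algebra.TensorProduct.rightAlgebra (R := k) (A := K) (B := A)
    Module.Flat A (K ⊗[k] A) := by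
  let := Algebra.TensorProduct.rightAlgebra (R := k) (A := K) (B := A)
  let e0 := Algebra.TensorProduct.comm k K A
  let e : (K ⊗[k] A) ≃ₗ[A] (A ⊗[k] K) :=
    { e0.toLinearEquiv with
      map_smul' := fun a x => by
        change e0 (algebraMap A (K ⊗[k] A) a * x) = a • e0 x
        rw [map_mul]
        have : e0 (algebraMap A (K ⊗[k] A) a) = a ⊗ₜ[k] (1 : K) := by
          change e0 ((1 : K) ⊗ₜ[k] a) = _
          simp [e0]
        rw [this, Algebra.smul_def]
        rfl }
  exact Module.Flat.of_linearEquiv e

end aux

/-- Let k ⊆ K be a field extension and A a Noetherian local k-algebra with residue field k, recorded by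
a k-algebra map π : A → k whose kernel is the maximal ideal. Let π_K : K ⊗_k A → K be the induced
K-algebra map, m' its kernel, and A' the localization of K ⊗_k A at m'. Assume A' is Noetherian.
Then A is a regular local ring if and only if A' is a regular local ring. -/
theorem result (k K A : Type u) [Field k] [Field K]
    [Algebra k K] [CommRing A] [Algebra k A] [IsLocalRing A] [IsNoetherianRing A]
    (π : A →ₐ[k] k) (hπ : RingHom.ker π = IsLocalRing.maximalIdeal A)
    [IsNoetherianRing (Localization.AtPrime (RingHom.ker
      ((Algebra.TensorProduct.rid k K K).toAlgHom.comp (Algebra.TensorProduct.map (AlgHom.id K K) π))))] :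
    IsRegularLocalRing A ↔ IsRegularLocalRing (Localization.AtPrime (RingHom.ker
      ((Algebra.TensorProduct.rid k K K).toAlgHom.comp (Algebra.TensorProduct.map (AlgHom.id K K) π)))) := by
  set ψ := (Algebra.TensorProduct.rid k K K).toAlgHom.comp
    (Algebra.TensorProduct.map (AlgHom.id K K) π) with hψ
  set n := RingHom.ker ψ with hn
  let algAB := Algebra.TensorProduct.rightAlgebra (R := k) (A := K) (B := A)
  have hflatAB : Module.Flat A (K ⊗[k] A) := flat_right k K A
  have : IsScalarTower A (K ⊗[k] A) (Localization.AtPrime n) := inferInstance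
  have : Module.Flat (K ⊗[k] A) (Localization.AtPrime n) :=
    IsLocalization.flat _ n.primeCompl
  have : Module.Flat A (Localization.AtPrime n) := Module.Flat.trans A (K ⊗[k] A) _
  -- `𝔪_A (K ⊗ A) = n`
  have hπs : Function.Surjective π := fun c => ⟨algebraMap k A c, by simp⟩
  have hker : (maximalIdeal A).map (algebraMap A (K ⊗[k] A)) = n := by
    have h1 : n = RingHom.ker (Algebra.TensorProduct.map (AlgHom.id k K) π) := by
      ext x
      simp only [hn, hψ, RingHom.mem_ker]
      change (Algebra.TensorProduct.rid k K K) _ = 0 ↔ _
      rw [EmbeddingLike.map_eq_zero_iff]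
      rfl
    rw [h1, Algebra.TensorProduct.lTensor_ker π hπs, ← hπ]
    rfl
  have hmap : (maximalIdeal A).map (algebraMap A (Localization.AtPrime n)) =
      maximalIdeal (Localization.AtPrime n) := by
    rw [IsScalarTower.algebraMap_eq A (K ⊗[k] A) (Localization.AtPrime n), ← Ideal.map_map, hker]
    exact Localization.AtPrime.map_eq_maximalIdeal
  exact isRegularLocalRing_iff hmap

end Groth.Agent.S15595
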