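import Groth.Statements.S15698
import Groth.Agent.Lib.Seat73SymInv
-- import your own Groth.Agent.* helpers here

set_option autoImplicit false
universe u
open InvFld

namespace Groth.Agent.S15698

/-- Let k be a characteristic-zero field; for each faithful finite-dimensional linear representation V
of the symmetric group S_n over k, the field of invariants k(V)^{S_n} is stably pure over k. Stated
with V = k^m: G is a finite group of k-algebra automorphisms of k(x_1, ..., x_m), each sending every
variable to a k-linear combination of the variables, isomorphic as an abstract group to the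
symmetric group on n letters; then for some r the rational function field in r variables over the
fixed field of G is generated over k by finitely many algebraically independent elements. -/
theorem result (k : Type u) [Field k] [CharZero k] (n m : ℕ)
    (G : Subgroup (InvFld.Fld (Fin m) k ≃ₐ[k] InvFld.Fld (Fin m) k)) [Finite G] (e : G ≃* Equiv.Perm (Fin n))
    (hG : ∀ σ ∈ G, ∀ i : Fin m, σ (InvFld.X i) ∈ Submodule.span k (Set.range fun j : Fin m => (InvFld.X j : InvFld.Fld (Fin m) k))) :
    ∃ (r N : ℕ) (t : Fin N → InvFld.Fld (Fin r) (IntermediateField.fixedField G)),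
      AlgebraicIndependent k t ∧ IntermediateField.adjoin k (Set.range t) = ⊤ := by

  have key : ∀ (a : G →* (InvFld.Fld (Fin m) k ≃ₐ[k] InvFld.Fld (Fin m) k))
      (b : G →* (InvFld.Fld (Fin n) k ≃ₐ[k] InvFld.Fld (Fin n) k))
      (G' : Subgroup (InvFld.Fld (Fin m) k ≃ₐ[k] InvFld.Fld (Fin m) k)),
      Function.Injective a → Function.Injective b →
      (∀ g i, a g (InvFld.X i) ∈
        Submodule.span k (Set.range fun j : Fin m => (InvFld.X j : InvFld.Fld (Fin m) k))) →
      (∀ g i, b g (InvFld.X i) ∈
        Submodule.span k (Set.range fun j : Fin n => (InvFld.X j : InvFld.Fld (Fin n) k))) →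
      a.range = G' →
      b.range = (Groth.Agent.Lib.Seat73.SymInv.permAut (k := k) (n := n)).range →
      ∃ (r N : ℕ) (t : Fin N → InvFld.Fld (Fin r) (IntermediateField.fixedField G')),
        AlgebraicIndependent k t ∧ IntermediateField.adjoin k (Set.range t) = ⊤ := by
    intro a b G' ha hb hla hlb h1 h2
    subst h1
    obtain ⟨φ⟩ := Groth.Agent.Lib.Seat73.StableEquiv.stable_equiv a b ha hb hla hlb
    have hF : IntermediateField.adjoin k
        (Set.range (Groth.Agent.Lib.Seat73.SymInv.esym (k := k) (n := n))) =
        IntermediateField.fixedField b.range := by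
      rw [h2, Groth.Agent.Lib.Seat73.SymInv.fixedField_permAut_range]
    have hh := Groth.Agent.Lib.Seat73.SymInv.pure_of_adjoin (k := k)
      (A := InvFld.Fld (Fin n) k) (r := n)
      (IntermediateField.fixedField b.range) (Groth.Agent.Lib.Seat73.SymInv.esym (k := k) (n := n))
      (Groth.Agent.Lib.Seat73.SymInv.algebraicIndependent_esym (k := k) (n := n)) hF m
    obtain ⟨N, t, ht⟩ := hh
    have ht1 := ht.1
    have ht2 := ht.2
    have h34 := Groth.Agent.Lib.Seat73.SymInv.transport φ.symm t ht1 ht2
    exact ⟨n, N, φ.symm ∘ t, h34.1, h34.2⟩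
  refine key G.subtype (Groth.Agent.Lib.Seat73.SymInv.permAut.comp e.toMonoidHom) G
    G.subtype_injective ?_ ?_ ?_ (Subgroup.range_subtype G) ?_
  · exact Groth.Agent.Lib.Seat73.SymInv.permAut_injective.comp e.injective
  · intro g i
    exact hG g g.2 i
  · intro g i
    change Groth.Agent.Lib.Seat73.SymInv.permAut (e g) (InvFld.X i) ∈ _
    rw [Groth.Agent.Lib.Seat73.SymInv.permAut_X]
    exact Submodule.subset_span ⟨_, rfl⟩
  · ext x
    constructor
    · rintro ⟨g, rfl⟩
      exact ⟨e g, rfl⟩
    · rintro ⟨π, rfl⟩
      exact ⟨e.symm π, by simp⟩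

end Groth.Agent.S15698
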