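import Groth.Statements.S15754
import Groth.Agent.Lib.Seat99HQLaurentSeries

set_option autoImplicit false
universe u
open TensorProduct
open CAlg

namespace Groth.Agent.S15754

/-- For an arbitrary commutative ring R, non-isomorphic finitely generated projective R-modules cannot
become isomorphic over the Laurent series ring R((t)): for an R-algebra L that is R-isomorphic to
R((t)), if L ⊗_R M ≅ L ⊗_R N as L-modules then M ≅ N. (L is R((t)) up to an R-algebra isomorphism;
it is kept abstract only so that the L-module structure on L ⊗_R M elaborates.) -/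
theorem result (R : Type u) [CommRing R]
    (L : Type u) [CommRing L] [Algebra R L] (eL : L ≃ₐ[R] LaurentSeries R)
    (M N : Type u) [AddCommGroup M] [Module R M] [Module.Finite R M] [Module.Projective R M]
    [AddCommGroup N] [Module R N] [Module.Finite R N] [Module.Projective R N]
    (e : L ⊗[R] M ≃ₗ[L] L ⊗[R] N) :
    Nonempty (M ≃ₗ[R] N) := by
  refine Groth.Agent.Lib.Seat99.HQ.nonempty_linearEquiv_of_matrix_descent (L := R) (L' := L) ?_
    M N ⟨e⟩
  intro a b E E' hE hE' X Y hYX hXY
  have hmap : ∀ (k : ℕ) (q : Matrix (Fin k) (Fin k) R),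
      (q.map (algebraMap R L)).map eL = q.map (HahnSeries.C : R →+* LaurentSeries R) := by
    intro k q
    refine Matrix.ext fun i j => ?_
    simp only [Matrix.map_apply, AlgEquiv.commutes]
    rw [HahnSeries.algebraMap_apply', ← PowerSeries.C_eq_algebraMap, HahnSeries.ofPowerSeries_C]
  refine Groth.Agent.Lib.Seat99.HQ.laurentSeries_matrix E E' hE hE' (X.map eL) (Y.map eL) ?_ ?_
  · rw [← hmap, ← hYX, Matrix.map_mul]
  · rw [← hmap, ← hXY, Matrix.map_mul]

end Groth.Agent.S15754
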