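import Groth.Statements.S15768
import Groth.Agent.Lib.Seat67HensIdem
import Groth.Agent.Lib.Seat67PSIdem
import Groth.Agent.Lib.Helper26PairHzUnique

set_option autoImplicit false
universe u
open Polynomial
open CAlg

namespace Groth.Agent.S15768

open Groth.Agent.Lib.Seat67.HensIdem Groth.Agent.Lib.Seat67.PSIdem in
theorem aux (R : Type u) [CommRing R]
    (B : Type u) [CommRing B] [Algebra R[X] B] (hB : Hens2.IsPairHenselization R[X] (Ideal.span {(X : R[X])}) B) :
    ∃ ψ : B →+* PowerSeries R,
      ψ.comp (algebraMap R[X] B) = Polynomial.coeToPowerSeries.ringHom ∧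
      (algebraMap R[X] B X) ∈ (⊥ : Ideal B).jacobson ∧
      ∀ (M : ℕ) (b : B), ψ b = 0 → ∃ b₁, b = (algebraMap R[X] B X) ^ M * b₁ := by
  have hmapX : (Ideal.span {(X : R[X])}).map (algebraMap R[X] B) =
      Ideal.span {algebraMap R[X] B X} := by
    rw [Ideal.map_span, Set.image_singleton]
  have hle : (Ideal.span {(X : R[X])}).map (Polynomial.coeToPowerSeries.ringHom (R := R)) ≤
      Ideal.span {(PowerSeries.X : PowerSeries R)} := by
    rw [Ideal.map_span, Set.image_singleton, Polynomial.coeToPowerSeries.ringHom_apply,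
      Polynomial.coe_X]
  obtain ⟨ψ, hψ, -⟩ := hB.2 (PowerSeries R) (Ideal.span {(PowerSeries.X : PowerSeries R)})
    Polynomial.coeToPowerSeries.ringHom inferInstance hle
  have hψ' : ∀ p : R[X], ψ (algebraMap R[X] B p) = (p : PowerSeries R) := fun p => by
    have := congrArg (fun k : R[X] →+* PowerSeries R => k p) hψ
    simpa using this
  refine ⟨ψ, hψ, ?_, ?_⟩
  · have := hB.1.jac
    rw [hmapX] at this
    exact this (Ideal.subset_span (Set.mem_singleton _))
  · intro M b hb
    obtain ⟨pbar, hp⟩ := (Groth.Agent.Lib.Helper26.PairHz.quotientMap_pow_bijective hB M).2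
      (Ideal.Quotient.mk _ b)
    obtain ⟨p, rfl⟩ := Ideal.Quotient.mk_surjective pbar
    rw [Ideal.quotientMap_mk, Ideal.Quotient.eq, Ideal.span_singleton_pow, Ideal.map_span,
      Set.image_singleton, Ideal.mem_span_singleton] at hp
    obtain ⟨b₁, hb₁⟩ := hp
    -- b = β p - x^M b₁
    have hb' : b = algebraMap R[X] B p - algebraMap R[X] B (X ^ M) * b₁ := by
      rw [← hb₁]; ring
    have h0 : (p : PowerSeries R) = PowerSeries.X ^ M * ψ b₁ := by
      have := congrArg ψ hb'
      rw [hb, map_sub, map_mul, hψ', hψ', Polynomial.coe_pow, Polynomial.coe_X] at this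
      linear_combination -this
    have hdvd : (X : R[X]) ^ M ∣ p := by
      rw [Polynomial.X_pow_dvd_iff]
      intro d hd
      rw [← Polynomial.coeff_coe, h0, PowerSeries.coeff_X_pow_mul', if_neg (by omega)]
    obtain ⟨p', rfl⟩ := hdvd
    refine ⟨algebraMap R[X] B p' - b₁, ?_⟩
    rw [hb', map_mul, map_pow]; ring

/-- For any ring R and a henselization B of R[t] along (t), every idempotent of B[1/t] comes from a
unique idempotent of R under R → R[t] → B → B[1/t]. -/
theorem result (R : Type u) [CommRing R]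
    (B : Type u) [CommRing B] [Algebra R[X] B] (hB : Hens2.IsPairHenselization R[X] (Ideal.span {(X : R[X])}) B)
    (e : Localization.Away (algebraMap R[X] B X)) (he : IsIdempotentElem e) :
    ∃! r : R, IsIdempotentElem r ∧
      algebraMap B (Localization.Away (algebraMap R[X] B X)) (algebraMap R[X] B (Polynomial.C r)) = e := by
  obtain ⟨ψ, hψ, hxJ, hker⟩ := aux R B hB
  have hψ' : ∀ p : R[X], ψ (algebraMap R[X] B p) = (p : PowerSeries R) := fun p => by
    have := congrArg (fun k : R[X] →+* PowerSeries R => k p) hψ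
    simpa using this
  have hτ : IsUnit (algebraMap B (Localization.Away (algebraMap R[X] B X)) (algebraMap R[X] B X)) :=
    IsLocalization.Away.algebraMap_isUnit (algebraMap R[X] B X)
  -- existence
  obtain ⟨b, n, hb, heb⟩ := Groth.Agent.Lib.Seat67.HensIdem.exists_rep (algebraMap R[X] B X) e he
  have hc : (ψ b) ^ 2 = PowerSeries.X ^ n * ψ b := by
    rw [← map_pow, hb, map_mul, map_pow, hψ', Polynomial.coe_X]
  obtain ⟨r, hr, hcr⟩ := Groth.Agent.Lib.Seat67.PSIdem.exists_idem_of_sq_eq n (ψ b) hc
  have hCr : (algebraMap R[X] B (C r)) * (algebraMap R[X] B (C r)) = algebraMap R[X] B (C r) := by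
    rw [← map_mul, ← C_mul, hr.eq]
  have hre : algebraMap B (Localization.Away (algebraMap R[X] B X)) (algebraMap R[X] B (C r)) = e := by
    -- b' = x^n β(C r)
    have hb'2 : ((algebraMap R[X] B X) ^ n * algebraMap R[X] B (C r)) ^ 2 =
        (algebraMap R[X] B X) ^ n * ((algebraMap R[X] B X) ^ n * algebraMap R[X] B (C r)) := by
      linear_combination ((algebraMap R[X] B X) ^ n * (algebraMap R[X] B X) ^ n) * hCr
    obtain ⟨h', hh'⟩ := hker (n + 1) (b - (algebraMap R[X] B X) ^ n * algebraMap R[X] B (C r)) (by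
      rw [map_sub, map_mul, map_pow, hψ', hψ', Polynomial.coe_X, Polynomial.coe_C, hcr,
        sub_self])
    have hz := Groth.Agent.Lib.Seat67.HensIdem.pow_mul_sub_eq_zero_of_roots hxJ n (n + 1) le_rfl
      ((algebraMap R[X] B X) ^ n * algebraMap R[X] B (C r)) b h' hb'2 hb hh'
    have := congrArg (algebraMap B (Localization.Away (algebraMap R[X] B X))) hz
    rw [map_mul, map_pow, map_zero, (hτ.pow (2 * n)).mul_right_eq_zero, map_sub, sub_eq_zero,
      ← heb, map_mul, map_pow] at this
    have h2 := (hτ.pow n).mul_left_injective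
      (this.trans (mul_comm _ _))
    exact h2.symm
  refine ⟨r, ⟨hr, hre⟩, ?_⟩
  rintro r' ⟨hr', hr'e⟩
  -- injectivity on idempotents of R
  have key : ∀ g : R, algebraMap B (Localization.Away (algebraMap R[X] B X))
      (algebraMap R[X] B (C g)) = 0 → g = 0 := by
    intro g hg
    obtain ⟨⟨_, k, rfl⟩, hk⟩ := (IsLocalization.map_eq_zero_iff
      (Submonoid.powers (algebraMap R[X] B X))
      (Localization.Away (algebraMap R[X] B X)) _).mp hg
    simp only at hk
    have := congrArg ψ hk
    rw [map_mul, map_pow, hψ', hψ', Polynomial.coe_X, Polynomial.coe_C, map_zero] at this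
    have h3 := congrArg (PowerSeries.coeff k) this
    rw [PowerSeries.coeff_X_pow_mul', if_pos le_rfl, Nat.sub_self, map_zero,
      PowerSeries.coeff_zero_eq_constantCoeff_apply, PowerSeries.constantCoeff_C] at h3
    exact h3
  have h1 : r' * (1 - r) = 0 := by
    apply key
    rw [C_mul, map_mul, map_mul, C_sub, map_sub, map_sub, C_1, map_one, map_one, hr'e,
      hre, mul_sub, mul_one, he.eq, sub_self]
  have h2 : r * (1 - r') = 0 := by
    apply key
    rw [C_mul, map_mul, map_mul, C_sub, map_sub, map_sub, C_1, map_one, map_one, hr'e,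
      hre, mul_sub, mul_one, he.eq, sub_self]
  have h1' : r' = r' * r := by linear_combination h1
  have h2' : r = r * r' := by linear_combination h2
  rw [h1', mul_comm, ← h2']

end Groth.Agent.S15768
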