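import Groth.Statements.S15774
import Groth.Agent.Lib.Seat67HensIdem

set_option autoImplicit false
universe u
open CAlg

namespace Groth.Agent.S15774

/-- The instance A[1/t] → Â[1/t]: if (A, tA) is a Henselian pair and the t-power torsion of A is
bounded, then every idempotent of Â[1/t] (Â the t-adic completion) comes from a unique idempotent of
A[1/t]. -/
theorem result (A : Type u) [CommRing A] (t : A) [HenselianRing A (Ideal.span {t})]
    (hbd : ∃ N : ℕ, ∀ a : A, (∃ m : ℕ, t ^ m * a = 0) → t ^ N * a = 0)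
    (e : Localization.Away (algebraMap A (AdicCompletion (Ideal.span {t}) A) t)) (he : IsIdempotentElem e) :
    ∃! e₀ : Localization.Away t, IsIdempotentElem e₀ ∧ Localization.awayMap (algebraMap A (AdicCompletion (Ideal.span {t}) A)) t e₀ = e := by
  open Groth.Agent.Lib.Seat67.HensIdem in
  have htJ : t ∈ (⊥ : Ideal A).jacobson :=
    HenselianRing.jac (I := Ideal.span {t}) (Ideal.subset_span (Set.mem_singleton t))
  obtain ⟨e₀, he₀, hmap⟩ := Groth.Agent.Lib.Seat67.HensIdem.exists_idem_lift t e he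
  refine ⟨e₀, ⟨he₀, hmap⟩, ?_⟩
  rintro e₁ ⟨he₁, hmap₁⟩
  have key : ∀ g₁ g₂ : Localization.Away t, IsIdempotentElem g₁ → IsIdempotentElem g₂ →
      Localization.awayMap (algebraMap A (AdicCompletion (Ideal.span {t}) A)) t g₁ =
        Localization.awayMap (algebraMap A (AdicCompletion (Ideal.span {t}) A)) t g₂ →
      g₁ * (1 - g₂) = 0 := by
    intro g₁ g₂ h₁ h₂ h
    apply Groth.Agent.Lib.Seat67.HensIdem.idem_eq_zero_of_awayMap_eq_zero t htJ _
      (h₁.mul h₂.one_sub)
    rw [map_mul, map_sub, map_one, h, mul_sub, mul_one,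
      (h₂.map (Localization.awayMap (algebraMap A (AdicCompletion (Ideal.span {t}) A)) t)).eq,
      sub_self]
  have h1 := key e₁ e₀ he₁ he₀ (hmap₁.trans hmap.symm)
  have h2 := key e₀ e₁ he₀ he₁ (hmap.trans hmap₁.symm)
  have h1' : e₁ = e₁ * e₀ := by linear_combination h1
  have h2' : e₀ = e₀ * e₁ := by linear_combination h2
  rw [h1', mul_comm, ← h2']

end Groth.Agent.S15774
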