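import Groth.Statements.S15791
import Groth.Agent.Lib.Seat73Length
-- import your own Groth.Agent.* helpers here

set_option autoImplicit false
universe u v
open WildQuot

namespace Groth.Agent.S15791

/-- Let `A` be a regular local ring of Krull dimension `n` with maximal ideal `m`, let a finite group
`G` of order `g` act on `A` by ring automorphisms, and let `u_1, …, u_n` be an admissible regular
system of parameters: for every choice `σ_1, …, σ_n ∈ G`, the elements `σ_1 u_1, …, σ_n u_n`
generate `m`. With `x_i = ∏_{σ ∈ G} σ u_i` the norms, the length of `A / (x_1, …, x_n)` is at most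
`g ^ n`. (The published statement is for a complete regular local ring containing a `G`-fixed field
of representatives and asserts that the length equals `g ^ n`; this row states the upper bound for
any regular local ring.) -/
theorem result
    (A : Type u) [CommRing A] [IsRegularLocalRing A]
    (G : Type v) [Group G] [Fintype G] [MulSemiringAction G A]
    (n : ℕ) (hn : ringKrullDim A = n) (u : Fin n → A)
    (hu : ∀ τ : Fin n → G,
      Ideal.span (Set.range fun i => τ i • u i) = IsLocalRing.maximalIdeal A) :
    Module.length A (A ⧸ Ideal.span (Set.range fun i => ∏ σ : G, σ • u i)) ≤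
      (Fintype.card G ^ n : ℕ) := by
  have key := Groth.Agent.Lib.Seat73.Length.length_quot_span_prod_le (A := A) G n ⊥
    (fun i σ => σ • u i)
  have e0 : ∀ J : Ideal A, (⊥ : Ideal A) ⊔ J = J := fun J => bot_sup_eq J
  rw [Groth.Agent.Lib.Seat73.Length.length_congr (e0 _)] at key
  refine key.trans ?_
  have hterm : ∀ τ : Fin n → G,
      Module.length A (A ⧸ ((⊥ : Ideal A) ⊔ Ideal.span (Set.range fun i => τ i • u i))) = 1 := by
    intro τ
    rw [Groth.Agent.Lib.Seat73.Length.length_congr ((e0 _).trans (hu τ))]
    have : IsSimpleModule A (A ⧸ IsLocalRing.maximalIdeal A) :=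
      isSimpleModule_iff_quot_maximal.mpr
        ⟨_, IsLocalRing.maximalIdeal.isMaximal A, ⟨LinearEquiv.refl _ _⟩⟩
    exact Module.length_eq_one A _
  rw [Finset.sum_congr rfl (fun τ _ => hterm τ)]
  simp
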