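import Groth.Statements.S15793
import Groth.Agent.Lib.Seat73RegSys
-- import your own Groth.Agent.* helpers here

set_option autoImplicit false
universe u v w
open WildQuot

namespace Groth.Agent.S15793

/-- Let `A` be a complete regular local ring of Krull dimension at least `2` and prime characteristic
`p`, with maximal ideal `m`; let `k` be a field with a ring map `k → A` whose composite with `A →
A/m` is onto (a field of representatives); let `G` be a group of order `p` acting on `A` by ring
automorphisms that fix the image of `k`, ramified precisely at the origin: for every prime `P ≠ m`,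
the inertia subgroup of `P` (the elements of `G` fixing every element of `A` modulo `P`) is trivial.
Then no element of `m` outside `m ^ 2` is fixed by every element of `G`; in particular the action is
not linear in any regular system of parameters. -/
theorem result
    (p : ℕ) [Fact p.Prime] (A : Type u) [CommRing A] [IsRegularLocalRing A] [CharP A p]
    [IsAdicComplete (IsLocalRing.maximalIdeal A) A] (hdim : 2 ≤ ringKrullDim A)
    (k : Type v) [Field k] [Algebra k A]
    (hk : Function.Surjective (IsLocalRing.residue A ∘ algebraMap k A))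
    (G : Type w) [Group G] [Finite G] [MulSemiringAction G A] (hcard : Nat.card G = p)
    (hGk : ∀ (σ : G) (c : k), σ • algebraMap k A c = algebraMap k A c)
    (hram : ∀ P : Ideal A, P.IsPrime → P ≠ IsLocalRing.maximalIdeal A → P.inertia G = ⊥)
    (v : A) (hv : v ∈ IsLocalRing.maximalIdeal A) (hv2 : v ∉ IsLocalRing.maximalIdeal A ^ 2) :
    ∃ σ : G, σ • v ≠ v := by
  classical
  by_contra hcon
  push Not at hcon
  have hp : p.Prime := Fact.out
  have hnt : Nontrivial G := by
    rw [← Finite.one_lt_card_iff_nontrivial, hcard]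
    exact hp.one_lt
  obtain ⟨σ, hσ⟩ := exists_ne (1 : G)
  let σr : A →+* A := MulSemiringAction.toRingHom G A σ
  have hσr : ∀ a, σr a = σ • a := fun a => rfl
  obtain ⟨s, hvs, hspan, hscard⟩ :=
    Groth.Agent.Lib.Seat73.RegSys.exists_gens_of_notMem_sq v hv hv2
  have hfix : ∀ a : A, ∃ c : A, σr c = c ∧ a - c ∈ IsLocalRing.maximalIdeal A := by
    intro a
    obtain ⟨c, hc⟩ := hk (IsLocalRing.residue A a)
    refine ⟨algebraMap k A c, hGk σ c, ?_⟩
    rw [← Ideal.Quotient.eq_zero_iff_mem, map_sub, sub_eq_zero]
    exact hc.symm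
  set t : Finset A := (s.erase v).image (fun w => σ • w - w) with ht
  have hJ : ∀ a, σ • a - a ∈ Ideal.span (t : Set A) := by
    intro a
    have h1 := Groth.Agent.Lib.Seat73.RegSys.sub_mem_span_image σr hfix (s : Set A) hspan a
    refine (Ideal.span_le.mpr ?_) h1
    rintro _ ⟨w, hw, rfl⟩
    by_cases hwv : w = v
    · subst hwv
      simp only [hσr, hcon σ, sub_self, SetLike.mem_coe, Submodule.zero_mem]
    · refine Ideal.subset_span ?_
      rw [ht, Finset.coe_image]
      exact ⟨w, Finset.mem_erase.mpr ⟨hwv, hw⟩, rfl⟩
  have hmem_m : ∀ w ∈ IsLocalRing.maximalIdeal A, σ • w ∈ IsLocalRing.maximalIdeal A := by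
    intro w hw
    rw [IsLocalRing.mem_maximalIdeal, mem_nonunits_iff] at hw ⊢
    intro hu
    apply hw
    have : w = σ⁻¹ • (σ • w) := by rw [inv_smul_smul]
    rw [this]
    exact hu.map (MulSemiringAction.toRingHom G A σ⁻¹)
  have hJm : Ideal.span (t : Set A) ≤ IsLocalRing.maximalIdeal A := by
    rw [Ideal.span_le]
    intro x hx
    rw [ht, Finset.coe_image] at hx
    obtain ⟨w, hw, rfl⟩ := hx
    have hwm : w ∈ IsLocalRing.maximalIdeal A := by
      rw [← hspan]
      exact Ideal.subset_span (Finset.mem_of_mem_erase hw)
    exact Ideal.sub_mem _ (hmem_m w hwm) hwm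
  obtain ⟨P, hPmin, hPm⟩ := Ideal.exists_minimalPrimes_le hJm
  have hP : P.IsPrime := hPmin.1.1
  have hht : P.height ≤ t.card := Ideal.height_le_card_of_mem_minimalPrimes_span_finset hPmin
  have hPne : P ≠ IsLocalRing.maximalIdeal A := by
    rintro rfl
    have h1 : ((IsLocalRing.maximalIdeal A).height : WithBot ℕ∞) = ringKrullDim A :=
      IsLocalRing.maximalIdeal_height_eq_ringKrullDim
    have h2 : ((IsLocalRing.maximalIdeal A).spanFinrank : WithBot ℕ∞) = ringKrullDim A :=
      IsRegularLocalRing.spanFinrank_maximalIdeal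
    have h3 : (IsLocalRing.maximalIdeal A).spanFinrank =
        Module.finrank (IsLocalRing.ResidueField A) (IsLocalRing.CotangentSpace A) :=
      IsLocalRing.spanFinrank_maximalIdeal_eq_finrank_cotangentSpace A
    set n := Module.finrank (IsLocalRing.ResidueField A) (IsLocalRing.CotangentSpace A) with hn
    rw [h3] at h2
    have h4 : (IsLocalRing.maximalIdeal A).height = (n : ℕ∞) := by
      have := h1.trans h2.symm
      exact_mod_cast this
    have h5 : 2 ≤ n := by
      rw [← h2] at hdim
      exact_mod_cast hdim
    have h6 : t.card ≤ n - 1 := by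
      refine Finset.card_image_le.trans ?_
      rw [Finset.card_erase_of_mem hvs]
      omega
    rw [h4] at hht
    have : (n : ℕ∞) ≤ ((n - 1 : ℕ) : ℕ∞) := hht.trans (by exact_mod_cast h6)
    have : n ≤ n - 1 := by exact_mod_cast this
    omega
  have hin := hram P hP hPne
  have hσP : σ ∈ P.inertia G := fun a => hPmin.1.2 (hJ a)
  rw [hin] at hσP
  exact hσ (Subgroup.mem_bot.mp hσP)

end Groth.Agent.S15793
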