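import Groth.Statements.S15794
import Groth.Agent.Lib.Seat73WildFin
import Groth.Agent.Lib.Helper5RLR

set_option autoImplicit false
universe u v w
open WildQuot

namespace Groth.Agent.S15794

/-- Let `A` be a complete regular local ring of Krull dimension at least `2` and prime characteristic
`p`, with maximal ideal `m`; let `k` be a field with a ring map `k → A` whose composite with `A →
A/m` is onto; let `G` be a group of order `p` acting on `A` by ring automorphisms fixing the image
of `k` and ramified precisely at the origin (for every prime `P ≠ m`, the inertia subgroup of `P`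
(the elements of `G` fixing every element modulo `P`) is trivial). Then `A` is not a flat module
over the ring of invariants `A^G`. (The published statement also asserts that `A^G ⊂ A` is local and
finite of degree `p` with trivial residue field extension; this row omits those clauses.) -/
theorem result
    (p : ℕ) [Fact p.Prime] (A : Type u) [CommRing A] [IsRegularLocalRing A] [CharP A p]
    [IsAdicComplete (IsLocalRing.maximalIdeal A) A] (hdim : 2 ≤ ringKrullDim A)
    (k : Type v) [Field k] [Algebra k A]
    (hk : Function.Surjective (IsLocalRing.residue A ∘ algebraMap k A))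
    (G : Type w) [Group G] [Finite G] [MulSemiringAction G A] (hcard : Nat.card G = p)
    (hGk : ∀ (σ : G) (c : k), σ • algebraMap k A c = algebraMap k A c)
    (hram : ∀ P : Ideal A, P.IsPrime → P ≠ IsLocalRing.maximalIdeal A → P.inertia G = ⊥) :
    ¬ Module.Flat (FixedPoints.subring A G) A := by
  classical
  intro hflat
  have _ft : Fintype G := Fintype.ofFinite G
  have hp : p.Prime := Fact.out
  have hG : IsPGroup p G := IsPGroup.of_card (n := 1) (by rw [hcard, pow_one])
  have hdom : IsDomain A := Groth.Agent.Lib.Helper5.isDomain_of_isRegularLocalRing A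
  have hfin := Groth.Agent.Lib.Seat73.WildFin.finite_fixedPoints p A k hk G hG hGk
  have hnoeth := Groth.Agent.Lib.Seat73.WildFin.isNoetherianRing_fixedPoints p A k hk G hG hGk
  have hloc : IsLocalRing (FixedPoints.subring A G) :=
    Groth.Agent.Lib.Seat73.WildFin.isLocalRing_fixedPoints
  have hfree : Module.Free (FixedPoints.subring A G) A := Module.free_of_flat_of_isLocalRing
  have hmht : (2 : ℕ∞) ≤ (IsLocalRing.maximalIdeal A).height := by
    have h1 := IsLocalRing.maximalIdeal_height_eq_ringKrullDim (R := A)
    rw [← h1] at hdim
    have h2 : ((2 : ℕ∞) : WithBot ℕ∞) ≤ (((IsLocalRing.maximalIdeal A).height : ℕ∞) : WithBot ℕ∞) :=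
      hdim
    exact WithBot.coe_le_coe.mp h2
  have hht : 1 < (IsLocalRing.maximalIdeal A).height :=
    lt_of_lt_of_le (by norm_num) hmht
  have hin : ∀ P : Ideal A, P.IsPrime → P ≠ IsLocalRing.maximalIdeal A → ∀ σ : G, σ ≠ 1 →
      ∃ a : A, σ • a - a ∉ P := by
    intro P hP hPm σ hσ
    by_contra hall
    push Not at hall
    have hσI : σ ∈ P.inertia G := hall
    rw [hram P hP hPm, Subgroup.mem_bot] at hσI
    exact hσ hσI
  have hbotne : (⊥ : Ideal A) ≠ IsLocalRing.maximalIdeal A := by
    intro h
    rw [← h, Ideal.height_bot] at hht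
    exact absurd hht (by norm_num)
  have hfaith : ∀ σ : G, (∀ a : A, σ • a = a) → σ = 1 := by
    intro σ hσa
    by_contra hσ
    obtain ⟨a, ha⟩ := hin ⊥ Ideal.isPrime_bot hbotne σ hσ
    apply ha
    rw [hσa a, sub_self]
    exact zero_mem _
  have hres : ∀ (σ : G) (a : A), σ • a - a ∈ IsLocalRing.maximalIdeal A :=
    Groth.Agent.Lib.Seat73.WildFin.smul_sub_mem_maximalIdeal hk hGk
  have hnt : ∃ g : G, g ≠ 1 := by
    have hnontriv : Nontrivial G := by
      rw [← Finite.one_lt_card_iff_nontrivial, hcard]
      exact hp.one_lt
    exact exists_ne 1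
  exact Groth.Agent.Lib.Seat73.PurityFree.false_of_free
    (Module.Free.chooseBasis (FixedPoints.subring A G) A) hfaith hres hnt hht hin

end Groth.Agent.S15794
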