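import Groth.Statements.S15797
import Groth.Agent.Lib.Seat73SopReg
import Groth.Agent.Lib.Seat73CotRep
-- import your own Groth.Agent.* helpers here

set_option autoImplicit false
universe u v
open WildQuot

namespace Groth.Agent.S15797

/-- Let `A` be a regular local ring of Krull dimension `n` with maximal ideal `m` generated by `u_1, …,
u_n`, let a finite group `G` of order `g` act on `A` by ring automorphisms, and suppose `u` is
weakly admissible: for every choice `σ_1, …, σ_n ∈ G` the radical of `(σ_1 u_1, …, σ_n u_n)`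
contains `m`. With `x_i = ∏_{σ ∈ G} σ u_i` the norms, the length of `A / (x_1, …, x_n)` is at least
`g ^ n` (so the finite flat map from `k[[x_1, …, x_n]]` has degree at least `g ^ n`). (The published
statement is for a complete regular local ring containing a `G`-fixed field of representatives; this
row does not assume those.) -/
theorem result
    (A : Type u) [CommRing A] [IsRegularLocalRing A]
    (G : Type v) [Group G] [Fintype G] [MulSemiringAction G A]
    (n : ℕ) (hn : ringKrullDim A = n) (u : Fin n → A)
    (hu : Ideal.span (Set.range u) = IsLocalRing.maximalIdeal A)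
    (hwa : ∀ τ : Fin n → G,
      IsLocalRing.maximalIdeal A ≤ (Ideal.span (Set.range fun i => τ i • u i)).radical) :
    ((Fintype.card G ^ n : ℕ) : ℕ∞) ≤
      Module.length A (A ⧸ Ideal.span (Set.range fun i => ∏ σ : G, σ • u i)) := by
  classical
  open IsLocalRing Groth.Agent.Lib.Seat73 Groth.Agent.Lib.Seat73.Length
    Groth.Agent.Lib.Seat73.SopReg in
  haveI hCM : LocCoh.IsCohenMacaulayLocalRing A :=
    Groth.Agent.Lib.Helper5.isCohenMacaulayLocalRing_of_isRegularLocalRing A
  set f : Fin n → G → A := fun i σ => σ • u i with hf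
  have hum : ∀ i, u i ∈ maximalIdeal A := fun i => hu ▸ Ideal.subset_span ⟨i, rfl⟩
  have hfm : ∀ i σ, f i σ ∈ maximalIdeal A := fun i σ => CotRep.smul_mem_maximalIdeal σ (hum i)
  -- all mixed systems are primary to the maximal ideal
  have hprim : ∀ m : Fin n → Option G, maximalIdeal A ≤
      (Ideal.ofList ([] : List A) ⊔ Ideal.span (Set.range (mixedVal f m))).radical := by
    intro m
    rw [Ideal.radical_eq_sInf]
    refine le_sInf ?_
    rintro P ⟨hP, hPprime⟩
    have hex : ∀ i, ∃ σ : G, σ • u i ∈ P := by
      intro i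
      have hx : mixedVal f m i ∈ P :=
        hP (Ideal.mem_sup_right (Ideal.subset_span ⟨i, rfl⟩))
      rcases hmi : m i with _ | σ
      · have hx' : ∏ σ : G, σ • u i ∈ P := by simpa [mixedVal, hmi, hf] using hx
        obtain ⟨σ, -, hσ⟩ := (hPprime.prod_mem_iff).mp hx'
        exact ⟨σ, hσ⟩
      · exact ⟨σ, by simpa [mixedVal, hmi, hf] using hx⟩
    choose τ hτ using hex
    refine (hwa τ).trans ?_
    exact hPprime.radical_le_iff.mpr (Ideal.span_le.mpr (by rintro _ ⟨i, rfl⟩; exact hτ i))
  have hreg : RegHyp n (Ideal.ofList ([] : List A)) f :=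
    regHyp_of_mixed_primary n hn n [] f (by simp) (by simp) hfm hprim
  have hbot : Ideal.ofList ([] : List A) = ⊥ := Ideal.ofList_nil
  rw [hbot] at hreg
  have key := length_quot_span_prod_eq n ⊥ f hreg
  have e0 : ∀ J : Ideal A, (⊥ : Ideal A) ⊔ J = J := fun J => bot_sup_eq J
  rw [length_congr (e0 _)] at key
  rw [key]
  have hterm : ∀ τ : Fin n → G, (1 : ℕ∞) ≤
      Module.length A (A ⧸ ((⊥ : Ideal A) ⊔ Ideal.span (Set.range fun i => f i (τ i)))) := by
    intro τ
    rw [Order.one_le_iff_pos, Module.length_pos_iff, Submodule.Quotient.nontrivial_iff]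
    intro htop
    have hle : (⊥ : Ideal A) ⊔ Ideal.span (Set.range fun i => f i (τ i)) ≤ maximalIdeal A := by
      rw [bot_sup_eq, Ideal.span_le]
      rintro _ ⟨i, rfl⟩
      exact hfm i (τ i)
    rw [htop] at hle
    exact (IsLocalRing.maximalIdeal.isMaximal A).ne_top (top_le_iff.mp hle)
  calc ((Fintype.card G ^ n : ℕ) : ℕ∞) = ∑ _τ : Fin n → G, (1 : ℕ∞) := by simp
    _ ≤ _ := Finset.sum_le_sum fun τ _ => hterm τ

end Groth.Agent.S15797
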