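import Groth.Statements.S15798
import Groth.Agent.Lib.Seat73WildFin
import Groth.Agent.Lib.Seat73FixedComplete
import Groth.Agent.Lib.Seat73RegFinFree
import Groth.Agent.Lib.Helper28Catenary
import Groth.Agent.Lib.Helper5RLR
import Groth.Agent.Lib.Helper5IntDim
import Groth.Agent.S15794

set_option autoImplicit false
universe u v w
open WildQuot

namespace Groth.Agent.S15798

/-- Let `A` be a complete regular local ring of Krull dimension at least `2` and prime characteristic
`p`, with maximal ideal `m`; let `k` be a field with a ring map `k → A` whose composite with `A →
A/m` is onto; let `G` be a group of order `p` acting on `A` by ring automorphisms fixing the image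
of `k` and ramified precisely at the origin (for every prime `P ≠ m`, the inertia subgroup of `P`
(the elements of `G` fixing every element modulo `P`) is trivial). Then the invariant ring `A^G` is
Noetherian, `A` is a finite `A^G`-module, `A^G` is an integrally closed domain of the same Krull
dimension as `A`, `A^G` is complete and separated for the adic topology of `m ∩ A^G`, and `A^G` is
not a regular local ring. (The published statement also asserts that `A^G` has depth `2`, that the
extension has degree `p`, and that the singular locus of `Spec A^G` is the closed point; this row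
omits those clauses.) -/
theorem result
    (p : ℕ) [Fact p.Prime] (A : Type u) [CommRing A] [IsRegularLocalRing A] [CharP A p]
    [IsAdicComplete (IsLocalRing.maximalIdeal A) A] (hdim : 2 ≤ ringKrullDim A)
    (k : Type v) [Field k] [Algebra k A]
    (hk : Function.Surjective (IsLocalRing.residue A ∘ algebraMap k A))
    (G : Type w) [Group G] [Finite G] [MulSemiringAction G A] (hcard : Nat.card G = p)
    (hGk : ∀ (σ : G) (c : k), σ • algebraMap k A c = algebraMap k A c)
    (hram : ∀ P : Ideal A, P.IsPrime → P ≠ IsLocalRing.maximalIdeal A → P.inertia G = ⊥) :
    IsNoetherianRing (FixedPoints.subring A G) ∧ Module.Finite (FixedPoints.subring A G) A ∧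
      IsIntegrallyClosed (FixedPoints.subring A G) ∧
      ringKrullDim (FixedPoints.subring A G) = ringKrullDim A ∧
      IsAdicComplete (Ideal.comap (FixedPoints.subring A G).subtype (IsLocalRing.maximalIdeal A))
        (FixedPoints.subring A G) ∧
      ¬ IsRegularLocalRing (FixedPoints.subring A G) := by
  classical
  have _ft : Fintype G := Fintype.ofFinite G
  have hG : IsPGroup p G := IsPGroup.of_card (n := 1) (by rw [hcard, pow_one])
  have hdom : IsDomain A := Groth.Agent.Lib.Helper5.isDomain_of_isRegularLocalRing A
  have hic : IsIntegrallyClosed A :=
    Groth.Agent.Lib.Helper28.isIntegrallyClosed_of_isRegularLocalRing A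
  have hfin := Groth.Agent.Lib.Seat73.WildFin.finite_fixedPoints p A k hk G hG hGk
  have hnoeth := Groth.Agent.Lib.Seat73.WildFin.isNoetherianRing_fixedPoints p A k hk G hG hGk
  have hinj : Function.Injective (algebraMap (FixedPoints.subring A G) A) := Subtype.val_injective
  refine ⟨hnoeth, hfin, Groth.Agent.Lib.Seat73.FixedComplete.isIntegrallyClosed_fixedPoints, ?_,
    Groth.Agent.Lib.Seat73.FixedComplete.isAdicComplete_fixedPoints hfin hnoeth, ?_⟩
  · exact (Groth.Agent.Lib.Helper5.ringKrullDim_eq_of_isIntegral_of_injective
      (FixedPoints.subring A G) A hinj).symm
  · intro hreg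
    have hfree : Module.Free (FixedPoints.subring A G) A :=
      Groth.Agent.Lib.Seat73.RegFinFree.free_of_finite_injective hinj
    have hflat : Module.Flat (FixedPoints.subring A G) A := inferInstance
    exact Groth.Agent.S15794.result p A hdim k hk G hcard hGk hram hflat

end Groth.Agent.S15798
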