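import Groth.Statements.S15804
import Groth.Agent.Lib.Seat73PurityFree
import Groth.Agent.Lib.Seat73CMFree

set_option autoImplicit false
universe u v w
open WildQuot

namespace Groth.Agent.S15804

/-- Let `R` be a regular local ring and `A` a normal local domain, finite over `R` (with `R → A`
injective) and with the same residue field; let a finite group `H` act faithfully on `A` by
`R`-algebra automorphisms with ring of invariants exactly `R` (so `Frac(A)/Frac(R)` is Galois with
group `H`); assume `A` has Krull dimension `2`, `H` has order `p ^ 2` for a prime `p`, and `Γ ≤ H`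
is a subgroup of order `p` whose intersection with the inertia subgroup of every non-maximal prime
of `A` is trivial (the action of `Γ` is ramified precisely at the origin). Then every nontrivial
inertia subgroup of a height-one prime of `A` has order `p`, and `H` is commutative with every
element satisfying `h ^ p = 1`, i.e. elementary abelian of order `p ^ 2`. (The published statement
is for `A` a complete regular local ring with an action ramified precisely at the origin, `R =
k[[x_1, …, x_n]]` a norm subring and `H` the Galois group of `Frac(A)/Frac(R)`, when that extension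
is Galois; this row assumes only the hypotheses listed above.) -/
theorem result
    (p : ℕ) [Fact p.Prime] (R : Type u) [CommRing R] [IsRegularLocalRing R]
    (A : Type v) [CommRing A] [IsDomain A] [IsIntegrallyClosed A] [IsLocalRing A]
    [Algebra R A] [Module.Finite R A] (hinj : Function.Injective (algebraMap R A))
    (hres : Function.Surjective (IsLocalRing.residue A ∘ algebraMap R A))
    (H : Type w) [Group H] [Finite H] [MulSemiringAction H A] [SMulCommClass H R A] [FaithfulSMul H A]
    (hfix : ∀ a : A, (∀ h : H, h • a = a) → a ∈ Set.range (algebraMap R A))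
    (hdim : ringKrullDim A = 2) (hcard : Nat.card H = p ^ 2)
    (Γ : Subgroup H) (hΓ : Nat.card Γ = p)
    (hram : ∀ P : Ideal A, P.IsPrime → P ≠ IsLocalRing.maximalIdeal A → P.inertia H ⊓ Γ = ⊥) :
    (∀ P : Ideal A, P.IsPrime → P.height = 1 → P.inertia H ≠ ⊥ → Nat.card (P.inertia H) = p) ∧
      (∀ g h : H, g * h = h * g) ∧ ∀ h : H, h ^ p = 1 := by
  classical
  have _ft : Fintype H := Fintype.ofFinite H
  have hp : p.Prime := Fact.out
  have hN : IsNoetherianRing A :=
    isNoetherian_of_tower R (isNoetherian_of_isNoetherianRing_of_finite R A)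
  have hmht : (IsLocalRing.maximalIdeal A).height = 2 := by
    have h1 := IsLocalRing.maximalIdeal_height_eq_ringKrullDim (R := A)
    rw [hdim] at h1
    have h2 : (((IsLocalRing.maximalIdeal A).height : ℕ∞) : WithBot ℕ∞) = ((2 : ℕ∞) : WithBot ℕ∞) := h1
    exact WithBot.coe_injective h2
  have hmc : IsMulCommutative H := IsPGroup.isMulCommutative_of_card_eq_prime_sq hcard
  have hcomm : ∀ g h : H, g * h = h * g := fun g h => hmc.is_comm.comm g h
  have hΓne : Γ ≠ ⊥ := by
    intro h
    rw [← Subgroup.card_eq_one, hΓ] at h
    exact hp.one_lt.ne' h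
  refine ⟨?_, hcomm, ?_⟩
  · intro P hP hPht hI
    have hPm : P ≠ IsLocalRing.maximalIdeal A := by
      intro h
      rw [h, hmht] at hPht
      exact absurd hPht (by norm_num)
    have hIΓ := hram P hP hPm
    have hdvd : Nat.card (P.inertia H) ∣ p ^ 2 := by
      rw [← hcard]
      exact Subgroup.card_subgroup_dvd_card _
    obtain ⟨k, hk, hcardk⟩ := (Nat.dvd_prime_pow hp).mp hdvd
    interval_cases k
    · rw [pow_zero] at hcardk
      exact absurd (Subgroup.card_eq_one.mp hcardk) hI
    · rw [hcardk, pow_one]
    · have htop : P.inertia H = ⊤ := Subgroup.eq_top_of_card_eq _ (by rw [hcardk, hcard])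
      rw [htop, top_inf_eq] at hIΓ
      exact absurd hIΓ hΓne
  · by_contra hcon
    push Not at hcon
    obtain ⟨h₀, hh₀⟩ := hcon
    -- the subgroup of elements killed by `p`
    let K₀ : Subgroup H :=
      { carrier := {x | x ^ p = 1}
        mul_mem' := by
          intro x y hx hy
          change (x * y) ^ p = 1
          rw [Commute.mul_pow (show Commute x y from hcomm x y) p, (hx : x ^ p = 1), (hy : y ^ p = 1), one_mul]
        one_mem' := one_pow p
        inv_mem' := by
          intro x hx
          change (x⁻¹) ^ p = 1
          rw [inv_pow, (hx : x ^ p = 1), inv_one] }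
    have hΓK : Γ ≤ K₀ := by
      intro γ hγ
      change γ ^ p = 1
      have h1 := pow_card_eq_one' (G := Γ) (x := ⟨γ, hγ⟩)
      rw [hΓ] at h1
      exact congrArg Subtype.val h1
    have hK₀card : Nat.card K₀ = p := by
      have hdvd : Nat.card K₀ ∣ p ^ 2 := by
        rw [← hcard]
        exact Subgroup.card_subgroup_dvd_card _
      obtain ⟨k, hk, hcardk⟩ := (Nat.dvd_prime_pow hp).mp hdvd
      interval_cases k
      · exfalso
        have h1 := Subgroup.card_dvd_of_le hΓK
        rw [hΓ, hcardk, pow_zero] at h1
        exact hp.one_lt.ne' (Nat.dvd_one.mp h1)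
      · rw [hcardk, pow_one]
      · exfalso
        have htop : K₀ = ⊤ := Subgroup.eq_top_of_card_eq _ (by rw [hcardk, hcard])
        have : h₀ ∈ K₀ := by rw [htop]; trivial
        exact hh₀ this
    have hΓeq : Γ = K₀ := Subgroup.eq_of_le_of_card_ge hΓK (by rw [hK₀card, hΓ])
    -- all inertia subgroups away from the closed point are trivial
    have hin : ∀ P : Ideal A, P.IsPrime → P ≠ IsLocalRing.maximalIdeal A → ∀ σ : H, σ ≠ 1 →
        ∃ a : A, σ • a - a ∉ P := by
      intro P hP hPm σ hσ
      by_contra hall
      push Not at hall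
      have hσI : σ ∈ P.inertia H := hall
      have hIΓ := hram P hP hPm
      by_cases hσp : σ ^ p = 1
      · have hσΓ : σ ∈ Γ := by rw [hΓeq]; exact hσp
        have : σ ∈ P.inertia H ⊓ Γ := ⟨hσI, hσΓ⟩
        rw [hIΓ, Subgroup.mem_bot] at this
        exact hσ this
      · have h1 : σ ^ p ∈ P.inertia H := pow_mem hσI p
        have h2 : σ ^ p ∈ Γ := by
          rw [hΓeq]
          change (σ ^ p) ^ p = 1
          rw [← pow_mul, ← sq, ← hcard]
          exact pow_card_eq_one'
        have : σ ^ p ∈ P.inertia H ⊓ Γ := ⟨h1, h2⟩
        rw [hIΓ, Subgroup.mem_bot] at this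
        exact hσp this
    -- freeness
    have hfree : Module.Free R A := Groth.Agent.Lib.Seat73.CMFree.free_of_normal_dim_two hinj hdim
    let e : R ≃+* FixedPoints.subring A H :=
      RingEquiv.ofBijective
        ((algebraMap R A).codRestrict (FixedPoints.subring A H)
          (fun r h => smul_algebraMap h r))
        ⟨fun r s hrs => hinj (congrArg Subtype.val hrs), fun s => by
          obtain ⟨r, hr⟩ := hfix s.1 s.2
          exact ⟨r, Subtype.ext hr⟩⟩
    let b := (Module.Free.chooseBasis R A).mapCoeffs e (fun c x => by
      change ((e c : FixedPoints.subring A H) : A) * x = c • x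
      rw [Algebra.smul_def]
      rfl)
    have hfaith : ∀ σ : H, (∀ a : A, σ • a = a) → σ = 1 := by
      intro σ hσa
      exact eq_of_smul_eq_smul (fun a : A => by rw [hσa a, one_smul])
    have hres' : ∀ (σ : H) (a : A), σ • a - a ∈ IsLocalRing.maximalIdeal A := by
      intro σ a
      obtain ⟨r, hr⟩ := hres (IsLocalRing.residue A a)
      have hmem : a - algebraMap R A r ∈ IsLocalRing.maximalIdeal A := by
        rw [← IsLocalRing.residue_eq_zero_iff, map_sub, sub_eq_zero]
        exact hr.symm
      have h1 := Groth.Agent.Lib.Seat73.PurityFree.smul_mem_maximalIdeal σ hmem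
      have h2 : σ • a - a = σ • (a - algebraMap R A r) - (a - algebraMap R A r) := by
        rw [smul_sub, smul_algebraMap]
        ring
      rw [h2]
      exact sub_mem h1 hmem
    have hnt : ∃ g : H, g ≠ 1 := ⟨h₀, fun h => hh₀ (by rw [h, one_pow])⟩
    have hht : 1 < (IsLocalRing.maximalIdeal A).height := by
      rw [hmht]
      norm_num
    exact Groth.Agent.Lib.Seat73.PurityFree.false_of_free b hfaith hres' hnt hht hin

end Groth.Agent.S15804
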