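import Groth.Statements.S15810
import Groth.Agent.Lib.Seat73ASOrth
import Groth.Agent.Lib.Seat73PsUFD
import Groth.Agent.Lib.Helper5RLR
-- import your own Groth.Agent.* helpers here

set_option autoImplicit false
universe u
open WildQuot

namespace Groth.Agent.S15810

open MvPolynomial in
/-- Let `k` be a field of characteristic `p > 0`, `n ≥ 2`, `R = k[[x_1, …, x_n]]`, `a_1, …, a_n ∈ R`
with zero constant term and pairwise coprime, `μ ∈ R` nonzero and coprime to each `a_i`, `A = R[u_1,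
…, u_n] / (u_i ^ p - (μ a_i) ^ (p-1) u_i - x_i : i = 1..n)`, and `σ_1, …, σ_n` the `R`-algebra
automorphisms of `A` with `σ_i u_j = u_j + δ_{ij} μ a_i` (they generate an elementary abelian group
`H` of order `p ^ n`). For a nonzero vector `s ∈ (ℤ/p)^n` let `H_s = {ν : Σ ν_i s_i = 0}`, `α =
∏_{s_i ≠ 0} a_i`, `α_i = ∏_{j ≠ i, s_j ≠ 0} a_j`, `z_s = Σ_{s_i ≠ 0} s_i α_i u_i` and `f_s(T) = T ^
p - (μ α) ^ (p-1) T - Σ_{s_i ≠ 0} s_i α_i ^ p x_i`. Then an element of `A` is fixed by `∏_i σ_i ^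
{ν_i}` for every `ν ∈ H_s` if and only if it is a polynomial over `R` in `z_s`, and the kernel of
`R[T] → A`, `T ↦ z_s`, is generated by `f_s`: the ring of invariants of `H_s` is `R[T]/(f_s)`, in
particular free of rank `p` over `R`. -/
theorem result
    (p : ℕ) [Fact p.Prime] (k : Type u) [Field k] [CharP k p] (n : ℕ) (hn : 2 ≤ n)
    (a : Fin n → MvPowerSeries (Fin n) k) (μ : MvPowerSeries (Fin n) k)
    (ham : ∀ i, MvPowerSeries.constantCoeff (a i) = 0) (hcop : ∀ i j, i ≠ j → IsRelPrime (a i) (a j))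
    (hμ : μ ≠ 0) (hμa : ∀ i, IsRelPrime μ (a i))
    (s : Fin n → ZMod p) (hs : s ≠ 0) :
    let R := MvPowerSeries (Fin n) k
    let I : Ideal (MvPolynomial (Fin n) R) :=
      Ideal.span (Set.range fun i : Fin n =>
        X i ^ p - C ((μ * a i) ^ (p - 1)) * X i - C (MvPowerSeries.X i))
    let A := MvPolynomial (Fin n) R ⧸ I
    let u : Fin n → A := fun i => Ideal.Quotient.mk I (X i)
    let c : Fin n → R := fun i => algebraMap k R (ZMod.castHom (dvd_refl p) k (s i))
    let α : R := ∏ i ∈ Finset.univ.filter (fun i => s i ≠ 0), a i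
    let αi : Fin n → R := fun i => ∏ j ∈ (Finset.univ.filter (fun j => s j ≠ 0)).erase i, a j
    let z : A := ∑ i ∈ Finset.univ.filter (fun i => s i ≠ 0), algebraMap R A (c i * αi i) * u i
    let f : Polynomial R := Polynomial.X ^ p - Polynomial.C ((μ * α) ^ (p - 1)) * Polynomial.X
      - Polynomial.C (∑ i ∈ Finset.univ.filter (fun i => s i ≠ 0), c i * αi i ^ p * MvPowerSeries.X i)
    ∀ σ : Fin n → (A ≃ₐ[R] A),
      (∀ i j, σ i (u j) = u j + (if i = j then algebraMap R A (μ * a i) else 0)) →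
      (∀ t : A, (∀ ν : Fin n → ZMod p, ∑ i, ν i * s i = 0 →
          (List.ofFn (fun i : Fin n => σ i ^ (ν i).val)).prod t = t) ↔
        t ∈ (Polynomial.aeval z : Polynomial R →ₐ[R] A).range) ∧
      RingHom.ker (Polynomial.aeval z : Polynomial R →ₐ[R] A) = Ideal.span {f} := by
  intro R I A u c α αi z f σ hσ
  open Groth.Agent.Lib.Seat73.ArtinSchreier Groth.Agent.Lib.Seat73.ASAut
    Groth.Agent.Lib.Seat73.ASMinor Groth.Agent.Lib.Seat73.ASOrth in
  have hp : 2 ≤ p := (Fact.out : p.Prime).two_le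
  have _dom : IsDomain (MvPowerSeries (Fin n) k) := NoZeroDivisors.to_isDomain _
  have _char : CharP (MvPowerSeries (Fin n) k) p :=
    charP_of_injective_algebraMap (MvPowerSeries.C_injective (σ := Fin n) (R := k)) p
  have _ufm : UniqueFactorizationMonoid (MvPowerSeries (Fin n) k) :=
    Groth.Agent.Lib.Seat73.PsUFD.ufm_mvPowerSeries k n
  have ha : ∀ i, a i ∈ IsLocalRing.maximalIdeal (MvPowerSeries (Fin n) k) := fun i =>
    (mem_maximalIdeal_iff_constantCoeff k n (a i)).2 (ham i)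
  have hb : ∀ i, μ * a i ∈ IsLocalRing.maximalIdeal (MvPowerSeries (Fin n) k) := fun i =>
    Ideal.mul_mem_left _ _ (ha i)
  have hx := X_mem_maximalIdeal k n
  have hspan := maximalIdeal_le_span_X k n
  have _reg := isRegularLocalRing p n (fun i => μ * a i) MvPowerSeries.X hp hb hx hspan
    (le_ringKrullDim_mvPowerSeries k n)
  have _domA : IsDomain (AM p n a MvPowerSeries.X μ) :=
    Groth.Agent.Lib.Helper5.isDomain_of_isRegularLocalRing
      (MvPolynomial (Fin n) (MvPowerSeries (Fin n) k) ⧸ I)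
  -- all `a i ≠ 0`
  have ha0 : ∀ i, a i ≠ 0 := by
    intro i h0
    obtain ⟨j, hj⟩ : ∃ j : Fin n, j ≠ i := by
      by_cases h : i = ⟨0, by omega⟩
      · exact ⟨⟨1, by omega⟩, by rw [h]; simp [Fin.ext_iff]⟩
      · exact ⟨⟨0, by omega⟩, fun h' => h h'.symm⟩
    have h1 := hcop i j hj.symm
    rw [h0, isRelPrime_zero_left] at h1
    exact (IsLocalRing.mem_maximalIdeal _).mp (ha j) h1
  have hb0 : ∀ i, μ * a i ≠ 0 := fun i => mul_ne_zero hμ (ha0 i)
  have hc : ∀ i, c i = cc p n s i := by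
    intro i
    exact DFunLike.congr_fun (RingHom.ext_zmod
      ((algebraMap k (MvPowerSeries (Fin n) k)).comp (ZMod.castHom (dvd_refl p) k))
      (zeta (R := MvPowerSeries (Fin n) k) p)) (s i)
  have hz : z = zs p n a MvPowerSeries.X μ s := by
    refine Finset.sum_congr rfl fun i _ => ?_
    rw [hc i]
    rfl
  have hf : f = fs p n a MvPowerSeries.X μ s := by
    change Polynomial.X ^ p - Polynomial.C ((μ * α) ^ (p - 1)) * Polynomial.X -
      Polynomial.C (∑ i ∈ Finset.univ.filter (fun i => s i ≠ 0),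
        c i * αi i ^ p * MvPowerSeries.X i) = _
    rw [fs]
    congr 2
    refine Finset.sum_congr rfl fun i _ => ?_
    rw [hc i]
    rfl
  rw [hz, hf]
  exact orth_main p n a MvPowerSeries.X μ s hb0 hcop hμa hs σ hσ

end Groth.Agent.S15810
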