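import Groth.Statements.S15812
import Groth.Agent.Lib.Seat73TwoFactor
import Groth.Agent.Lib.Seat73IndepSub
import Groth.Agent.Lib.Seat12RegUFD
import Groth.Agent.Lib.Helper5RLR

set_option autoImplicit false
universe u v w
open WildQuot

namespace Groth.Agent.S15812

/-- Let `R` be a regular local ring and `A` a normal local domain, finite over `R` (with `R → A`
injective) and with the same residue field; let a finite group `H` act faithfully on `A` by
`R`-algebra automorphisms with ring of invariants exactly `R` (so `Frac(A)/Frac(R)` is Galois with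
group `H`); assume `H` is commutative of order `p ^ n` (`p` prime) and let `G_1, …, G_n ≤ H` be
subgroups of order `p` generating `H`, each the inertia subgroup of some height-one prime of `A`,
such that every nontrivial inertia subgroup of a height-one prime of `A` is one of the `G_i`. Put
`G_i^⊥ =` the subgroup generated by the `G_j` with `j ≠ i`, and assume each invariant ring
`A^{G_i^⊥}` is a free `R`-module (the published statement asks them to be Cohen–Macaulay, which for
a finite algebra over the regular local ring `R` is the same). Then the subalgebras `A^{G_1^⊥}, …,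
A^{G_n^⊥}` generate `A` over `R`. (The published conclusion is that the product map `A^{G_1^⊥} ⊗_R ⋯
⊗_R A^{G_n^⊥} → A` is an isomorphism; as each factor is then free of rank `p` and `A` has rank `p ^
n` over `R`, that is equivalent to the generation statement given here. The published statement is
for `A` a complete regular local ring with an action ramified precisely at the origin, `R = k[[x_1,
…, x_n]]` a norm subring and `H` the Galois group of `Frac(A)/Frac(R)`, when that extension is
Galois; this row assumes only the hypotheses listed above.) -/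
theorem result
    (p : ℕ) [Fact p.Prime] (R : Type u) [CommRing R] [IsRegularLocalRing R]
    (A : Type v) [CommRing A] [IsDomain A] [IsIntegrallyClosed A] [IsLocalRing A]
    [Algebra R A] [Module.Finite R A] (hinj : Function.Injective (algebraMap R A))
    (hres : Function.Surjective (IsLocalRing.residue A ∘ algebraMap R A))
    (H : Type w) [Group H] [Finite H] [MulSemiringAction H A] [SMulCommClass H R A] [FaithfulSMul H A]
    (hfix : ∀ a : A, (∀ h : H, h • a = a) → a ∈ Set.range (algebraMap R A))
    (hcomm : ∀ g h : H, g * h = h * g)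
    (n : ℕ) (hcard : Nat.card H = p ^ n) (Gi : Fin n → Subgroup H)
    (hGi : ∀ i, Nat.card (Gi i) = p) (hsup : (⨆ i, Gi i) = ⊤)
    (hinert : ∀ i, ∃ P : Ideal A, P.IsPrime ∧ P.height = 1 ∧ P.inertia H = Gi i)
    (hMR3 : ∀ P : Ideal A, P.IsPrime → P.height = 1 → P.inertia H ≠ ⊥ → ∃ i, P.inertia H = Gi i)
    (hMR4 : ∀ i, Module.Free R
      (FixedPoints.subalgebra R A ↥(⨆ j ∈ (Finset.univ.erase i : Finset (Fin n)), Gi j : Subgroup H))) :
    (⨆ i, FixedPoints.subalgebra R A ↥(⨆ j ∈ (Finset.univ.erase i : Finset (Fin n)), Gi j : Subgroup H)) = ⊤ := by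
  classical
  have hRdom : IsDomain R := Groth.Agent.Lib.Helper5.isDomain_of_isRegularLocalRing R
  have hRufd : UniqueFactorizationMonoid R :=
    Groth.Agent.Lib.Seat12.RegUFD.ufd_of_isRegularLocalRing R
  have hNoeth : IsNoetherian R A := isNoetherian_of_isNoetherianRing_of_finite R A
  have hANoeth : IsNoetherianRing A := isNoetherian_of_tower R hNoeth
  have hint : Algebra.IsIntegral R A := Algebra.IsIntegral.of_finite R A
  -- the induction
  have claim : ∀ S : Finset (Fin n),
      Module.Free R (FixedPoints.subalgebra R A ↥(⨆ j ∈ Sᶜ, Gi j : Subgroup H)) ∧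
      FixedPoints.subalgebra R A ↥(⨆ j ∈ Sᶜ, Gi j : Subgroup H) =
        ⨆ i ∈ S, FixedPoints.subalgebra R A
          ↥(⨆ j ∈ (Finset.univ.erase i : Finset (Fin n)), Gi j : Subgroup H) := by
    intro S
    induction S using Finset.induction_on with
    | empty =>
      have htop : (⨆ j ∈ (∅ : Finset (Fin n))ᶜ, Gi j : Subgroup H) = ⊤ := by
        rw [Finset.compl_empty, ← hsup]
        simp
      have hbot : FixedPoints.subalgebra R A ↥(⨆ j ∈ (∅ : Finset (Fin n))ᶜ, Gi j : Subgroup H) = ⊥ := by
        rw [eq_bot_iff]
        intro x hx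
        rw [Algebra.mem_bot]
        apply hfix
        intro h
        exact hx ⟨h, by rw [htop]; exact Subgroup.mem_top _⟩
      refine ⟨?_, ?_⟩
      · rw [hbot]
        exact Module.Free.of_equiv (Algebra.botEquivOfInjective hinj).symm.toLinearEquiv
      · rw [hbot]
        simp
    | insert i S hi ih =>
      obtain ⟨hfree, heq⟩ := ih
      have hUV : (⨆ j ∈ Sᶜ, Gi j : Subgroup H) ⊔
          (⨆ j ∈ (Finset.univ.erase i : Finset (Fin n)), Gi j : Subgroup H) = ⊤ := by
        rw [eq_top_iff, ← hsup]
        refine iSup_le fun j => ?_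
        by_cases hji : j = i
        · subst hji
          exact le_sup_of_le_left (le_biSup Gi (Finset.mem_compl.mpr hi))
        · exact le_sup_of_le_right
            (le_biSup Gi (Finset.mem_erase.mpr ⟨hji, Finset.mem_univ _⟩))
      have hfin : Module.Finite R (FixedPoints.subalgebra R A ↥(⨆ j ∈ Sᶜ, Gi j : Subgroup H)) :=
        Module.Finite.of_injective
          (FixedPoints.subalgebra R A ↥(⨆ j ∈ Sᶜ, Gi j : Subgroup H)).val.toLinearMap
          Subtype.val_injective
      have hfin' : Module.Finite R (FixedPoints.subalgebra R A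
          ↥(⨆ j ∈ (Finset.univ.erase i : Finset (Fin n)), Gi j : Subgroup H)) :=
        Module.Finite.of_injective
          (FixedPoints.subalgebra R A
            ↥(⨆ j ∈ (Finset.univ.erase i : Finset (Fin n)), Gi j : Subgroup H)).val.toLinearMap
          Subtype.val_injective
      have hfree' := hMR4 i
      have hin : ∀ P : Ideal A, P.IsPrime → P.height = 1 →
          P.inertia H ≤ (⨆ j ∈ Sᶜ, Gi j : Subgroup H) ∨
          P.inertia H ≤ (⨆ j ∈ (Finset.univ.erase i : Finset (Fin n)), Gi j : Subgroup H) := by
        intro P hP hht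
        by_cases hbot : P.inertia H = ⊥
        · left
          rw [hbot]
          exact bot_le
        · obtain ⟨j, hj⟩ := hMR3 P hP hht hbot
          rw [hj]
          by_cases hji : j = i
          · subst hji
            exact Or.inl (le_biSup Gi (Finset.mem_compl.mpr hi))
          · exact Or.inr (le_biSup Gi (Finset.mem_erase.mpr ⟨hji, Finset.mem_univ _⟩))
      obtain ⟨h1, h2⟩ := Groth.Agent.Lib.Seat73.TwoFactor.two_factor hinj hfix hcomm
        (⨆ j ∈ Sᶜ, Gi j : Subgroup H)
        (⨆ j ∈ (Finset.univ.erase i : Finset (Fin n)), Gi j : Subgroup H) hUV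
        (Module.Free.chooseBasis R _) (Module.Free.chooseBasis R _) hin
      have hK := Groth.Agent.Lib.Seat73.IndepSub.biSup_compl_insert Gi hcomm p hcard hGi hsup S i hi
      rw [hK]
      refine ⟨h2, ?_⟩
      rw [h1, heq, Finset.iSup_insert, sup_comm]
  -- conclude with `S = univ`
  obtain ⟨-, h⟩ := claim Finset.univ
  have hbot : (⨆ j ∈ (Finset.univ : Finset (Fin n))ᶜ, Gi j : Subgroup H) = ⊥ := by
    rw [Finset.compl_univ]
    simp
  have htop : FixedPoints.subalgebra R A ↥(⨆ j ∈ (Finset.univ : Finset (Fin n))ᶜ, Gi j : Subgroup H)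
      = ⊤ := by
    rw [eq_top_iff]
    intro x _ k
    have hk : (k : H) = 1 := Subgroup.mem_bot.mp (hbot.le k.2)
    show (k : H) • x = x
    rw [hk, one_smul]
  rw [← htop, h]
  simp

end Groth.Agent.S15812
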