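import Groth.Statements.S15939
import Mathlib
-- import your own Groth.Agent.* helpers here

set_option autoImplicit false
universe u
open CAlg

namespace Groth.Agent.S15939

section aux

open Polynomial

variable {κ A : Type u} [Field κ] [CommRing A] [Algebra κ A]

theorem adjoin_eq_top (h : IsSimpleOrder (Subalgebra κ A)) {x : A}
    (hx : x ∉ (⊥ : Subalgebra κ A)) : Algebra.adjoin κ {x} = ⊤ := by
  rcases eq_bot_or_eq_top (Algebra.adjoin κ {x}) with h1 | h1
  · exact absurd (h1 ▸ Algebra.self_mem_adjoin_singleton κ x) hx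
  · exact h1

theorem nontrivial_of (h : IsSimpleOrder (Subalgebra κ A)) : Nontrivial A := by
  by_contra hn
  rw [not_nontrivial_iff_subsingleton] at hn
  have : (⊥ : Subalgebra κ A) = ⊤ := by
    ext x
    simp only [Algebra.mem_top, iff_true]
    rw [Subsingleton.elim x 1]
    exact one_mem _
  exact bot_ne_top this

theorem exists_not_mem_bot (h : IsSimpleOrder (Subalgebra κ A)) :
    ∃ x : A, x ∉ (⊥ : Subalgebra κ A) := by
  by_contra hn
  push Not at hn
  have : (⊥ : Subalgebra κ A) = ⊤ := by
    ext x
    simp only [Algebra.mem_top, iff_true]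
    exact hn x
  exact bot_ne_top this

theorem range_eq_top_of_mem (h : IsSimpleOrder (Subalgebra κ A)) {B : Type u} [CommRing B]
    [Algebra κ B] (f : B →ₐ[κ] A) {x : A} (hx : x ∉ (⊥ : Subalgebra κ A)) (hxf : x ∈ f.range) :
    Function.Surjective f := by
  have h1 : Algebra.adjoin κ {x} ≤ f.range := Algebra.adjoin_le (by simpa using hxf)
  rw [adjoin_eq_top h hx] at h1
  intro y
  have : y ∈ f.range := h1 Algebra.mem_top
  simpa using this

theorem isIntegral_of (h : IsSimpleOrder (Subalgebra κ A)) (x : A) : IsIntegral κ x := by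
  by_cases hx : x ∈ (⊥ : Subalgebra κ A)
  · obtain ⟨c, rfl⟩ := Algebra.mem_bot.mp hx
    exact isIntegral_algebraMap
  by_cases hx2 : x ^ 2 ∈ (⊥ : Subalgebra κ A)
  · obtain ⟨c, hc⟩ := Algebra.mem_bot.mp hx2
    refine ⟨X ^ 2 - C c, monic_X_pow_sub_C c (by norm_num), ?_⟩
    simp [← hc]
  · have h1 := adjoin_eq_top h hx2
    have h2 : x ∈ Algebra.adjoin κ {x ^ 2} := h1 ▸ Algebra.mem_top
    rw [Algebra.adjoin_singleton_eq_range_aeval] at h2
    obtain ⟨g, hg⟩ := h2
    have hg' : aeval x (expand κ 2 g - X) = 0 := by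
      rw [map_sub, expand_aeval, aeval_X]
      have : (aeval (x ^ 2)) g = x := hg
      rw [this, sub_self]
    have hne : expand κ 2 g - X ≠ 0 := by
      intro h0
      have := congrArg (fun q => coeff q 1) h0
      simp only [coeff_sub, coeff_X_one, coeff_zero] at this
      rw [coeff_expand (by norm_num)] at this
      norm_num at this
    have halg : IsAlgebraic κ x := ⟨_, hne, hg'⟩
    exact halg.isIntegral

theorem finite_of (h : IsSimpleOrder (Subalgebra κ A)) : Module.Finite κ A := by
  obtain ⟨x, hx⟩ := exists_not_mem_bot h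
  have h1 := (isIntegral_of h x).fg_adjoin_singleton
  rw [adjoin_eq_top h hx, Algebra.top_toSubmodule] at h1
  exact Module.finite_def.mpr h1

theorem algebraMap_inj (h : IsSimpleOrder (Subalgebra κ A)) :
    Function.Injective (algebraMap κ A) := by
  haveI := nontrivial_of h
  exact (algebraMap κ A).injective

/-- Case of a nonzero square-zero element. -/
theorem dual_case (h : IsSimpleOrder (Subalgebra κ A)) (ε : A) (hε : ε ^ 2 = 0) (hε0 : ε ≠ 0) :
    Nonempty (A ≃ₐ[κ] DualNumber κ) := by
  have hinj := algebraMap_inj h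
  have hεbot : ε ∉ (⊥ : Subalgebra κ A) := by
    intro hmem
    obtain ⟨c, rfl⟩ := Algebra.mem_bot.mp hmem
    rw [← map_pow, map_eq_zero_iff _ hinj] at hε
    have : c = 0 := by simpa using hε
    exact hε0 (by rw [this, map_zero])
  let f : DualNumber κ →ₐ[κ] A :=
    DualNumber.lift ⟨(Algebra.ofId κ A, ε), by rw [← sq]; exact hε, fun a => Commute.all _ _⟩
  have hfε : f DualNumber.eps = ε := DualNumber.lift_apply_eps _
  have hsurj : Function.Surjective f :=
    range_eq_top_of_mem h f hεbot ⟨DualNumber.eps, hfε⟩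
  have hinjf : Function.Injective f := by
    rw [injective_iff_map_eq_zero]
    intro z hz
    have hz' : algebraMap κ A z.fst + algebraMap κ A z.snd * ε = 0 := by
      have := DualNumber.lift_apply_apply (R := κ) (A := κ) (B := A)
        ⟨(Algebra.ofId κ A, ε), by rw [← sq]; exact hε, fun a => Commute.all _ _⟩ z
      rw [← hz]
      exact this.symm
    by_cases hb : z.snd = 0
    · rw [hb, map_zero, zero_mul, add_zero, map_eq_zero_iff _ hinj] at hz'
      exact TrivSqZeroExt.ext hz' hb
    · exfalso
      apply hεbot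
      rw [Algebra.mem_bot]
      refine ⟨-(z.fst / z.snd), ?_⟩
      have h3 : algebraMap κ A z.snd * ε = algebraMap κ A (-(z.fst)) := by
        rw [map_neg]
        exact eq_neg_of_add_eq_zero_right hz'
      have h4 : algebraMap κ A (z.snd)⁻¹ * (algebraMap κ A z.snd * ε) = ε := by
        rw [← mul_assoc, ← map_mul, inv_mul_cancel₀ hb, map_one, one_mul]
      rw [← h4, h3, ← map_mul]
      congr 1
      field_simp
  exact ⟨(AlgEquiv.ofBijective f ⟨hinjf, hsurj⟩).symm⟩

/-- The algebra map `κ × κ → A` attached to an idempotent. -/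
def prodHom (e : A) (he : e * e = e) : (κ × κ) →ₐ[κ] A where
  toFun p := algebraMap κ A p.1 * e + algebraMap κ A p.2 * (1 - e)
  map_one' := by simp
  map_mul' p q := by
    simp only [Prod.fst_mul, Prod.snd_mul, map_mul]
    linear_combination
      (-(algebraMap κ A p.1 - algebraMap κ A p.2) * (algebraMap κ A q.1 - algebraMap κ A q.2)) * he
  map_zero' := by simp
  map_add' p q := by
    simp only [Prod.fst_add, Prod.snd_add, map_add]
    ring
  commutes' r := by
    simp only [Algebra.algebraMap_eq_smul_one, Prod.smul_fst, Prod.smul_snd, Prod.fst_one,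
      Prod.snd_one, smul_eq_mul, mul_one]
    rw [← Algebra.algebraMap_eq_smul_one]
    ring

/-- Case of a nontrivial idempotent. -/
theorem prod_case (h : IsSimpleOrder (Subalgebra κ A)) (e : A) (he : e * e = e) (he0 : e ≠ 0)
    (he1 : e ≠ 1) : Nonempty (A ≃ₐ[κ] (κ × κ)) := by
  have hinj := algebraMap_inj h
  have hebot : e ∉ (⊥ : Subalgebra κ A) := by
    intro hmem
    obtain ⟨c, rfl⟩ := Algebra.mem_bot.mp hmem
    rw [← map_mul] at he
    have hc : c * c = c := hinj he
    have : c = 0 ∨ c = 1 := by
      have : c * (c - 1) = 0 := by linear_combination hc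
      rcases mul_eq_zero.mp this with h0 | h1
      · exact Or.inl h0
      · exact Or.inr (sub_eq_zero.mp h1)
    rcases this with rfl | rfl
    · exact he0 (map_zero _)
    · exact he1 (map_one _)
  have hfe : prodHom (κ := κ) e he (1, 0) = e := by
    simp [prodHom]
  have hsurj : Function.Surjective (prodHom (κ := κ) e he) :=
    range_eq_top_of_mem h _ hebot ⟨(1, 0), hfe⟩
  have hinjf : Function.Injective (prodHom (κ := κ) e he) := by
    rw [injective_iff_map_eq_zero]
    rintro ⟨a, b⟩ hz
    have hz' : algebraMap κ A a * e + algebraMap κ A b * (1 - e) = 0 := hz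
    have h1 : algebraMap κ A a * e = 0 := by
      have := congrArg (fun t => t * e) hz'
      simp only [zero_mul] at this
      linear_combination this + (algebraMap κ A b - algebraMap κ A a) * he
    have h2 : algebraMap κ A b * (1 - e) = 0 := by
      rw [h1, zero_add] at hz'
      exact hz'
    have ha : a = 0 := by
      by_contra ha
      apply he0
      have : algebraMap κ A a⁻¹ * (algebraMap κ A a * e) = e := by
        rw [← mul_assoc, ← map_mul, inv_mul_cancel₀ ha, map_one, one_mul]
      rw [← this, h1, mul_zero]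
    have hb : b = 0 := by
      by_contra hb
      apply he1
      have : algebraMap κ A b⁻¹ * (algebraMap κ A b * (1 - e)) = 1 - e := by
        rw [← mul_assoc, ← map_mul, inv_mul_cancel₀ hb, map_one, one_mul]
      rw [h2, mul_zero] at this
      exact (sub_eq_zero.mp this.symm).symm
    rw [ha, hb]
    rfl
  exact ⟨(AlgEquiv.ofBijective _ ⟨hinjf, hsurj⟩).symm⟩

/-- In the remaining case `A` is a field. -/
theorem isField_case (h : IsSimpleOrder (Subalgebra κ A)) (hred : ∀ x : A, x ^ 2 = 0 → x = 0)
    (hid : ∀ e : A, e * e = e → e = 0 ∨ e = 1) : IsField A := by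
  haveI := nontrivial_of h
  haveI := finite_of h
  haveI : IsArtinianRing A := IsArtinianRing.of_finite κ A
  haveI : IsReduced A := (isReduced_iff_pow_one_lt 2 (by norm_num)).mpr hred
  refine ⟨exists_pair_ne A, mul_comm, ?_⟩
  intro a ha
  obtain ⟨n, b, hb⟩ := IsArtinian.exists_pow_succ_smul_dvd a (1 : A)
  simp only [smul_eq_mul, mul_one, Nat.succ_eq_add_one] at hb
  -- hb : a ^ (n+1) * b = a ^ n
  have hk : ∀ k : ℕ, a ^ (n + k) * b ^ k = a ^ n := by
    intro k
    induction k with
    | zero => simp
    | succ k ih =>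
      calc a ^ (n + (k + 1)) * b ^ (k + 1) = (a ^ (n + 1) * b) * (a ^ k * b ^ k) := by ring
        _ = a ^ n * (a ^ k * b ^ k) := by rw [hb]
        _ = a ^ (n + k) * b ^ k := by ring
        _ = a ^ n := ih
  have hn := hk n
  set e := (a * b) ^ n with he_def
  have hee : e * e = e := by
    calc e * e = (a ^ (n + n) * b ^ n) * b ^ n := by rw [he_def]; ring
      _ = a ^ n * b ^ n := by rw [hn]
      _ = e := by rw [he_def]; ring
  rcases hid e hee with h0 | h1
  · exfalso
    apply ha
    have : a ^ n = 0 := by
      calc a ^ n = a ^ (n + n) * b ^ n := hn.symm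
        _ = a ^ n * e := by rw [he_def]; ring
        _ = 0 := by rw [h0, mul_zero]
    exact (show IsNilpotent a from ⟨n, this⟩).eq_zero
  · by_cases hn0 : n = 0
    · subst hn0
      simp only [zero_add, pow_one, pow_zero] at hb
      exact ⟨b, hb⟩
    · obtain ⟨m, rfl⟩ := Nat.exists_eq_succ_of_ne_zero hn0
      refine ⟨b * (a * b) ^ m, ?_⟩
      rw [← h1, he_def]
      simp only [Nat.succ_eq_add_one]
      ring

end aux

section fieldcase

open Polynomial

variable {κ A : Type u} [Field κ] [Field A] [Algebra κ A]

theorem insep_case (h : IsSimpleOrder (Subalgebra κ A)) (hsep : ¬ Algebra.IsSeparable κ A) :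
    ∃ (p : ℕ) (a : κ), p.Prime ∧ CharP κ p ∧ (∀ b : κ, b ^ p ≠ a) ∧
      Nonempty (A ≃ₐ[κ] AdjoinRoot (X ^ p - C a)) := by
  haveI := finite_of h
  haveI : Algebra.IsAlgebraic κ A := Algebra.IsAlgebraic.of_finite κ A
  have hS : separableClosure κ A = ⊥ := by
    rcases eq_bot_or_eq_top (separableClosure κ A).toSubalgebra with h1 | h1
    · apply IntermediateField.toSubalgebra_injective
      rw [h1, IntermediateField.bot_toSubalgebra]
    · exfalso
      apply hsep
      rw [← separableClosure.eq_top_iff]
      apply IntermediateField.toSubalgebra_injective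
      rw [h1, IntermediateField.top_toSubalgebra]
  haveI hpi : IsPurelyInseparable κ A := separableClosure.eq_bot_iff.mp hS
  obtain ⟨x, hx⟩ := exists_not_mem_bot h
  have hxr : x ∉ (algebraMap κ A).range := by
    intro hmem
    apply hx
    obtain ⟨c, hc⟩ := hmem
    exact Algebra.mem_bot.mpr ⟨c, hc⟩
  obtain ⟨q, hq⟩ := ExpChar.exists κ
  have hex := IsPurelyInseparable.pow_mem κ q x
  classical
  let n := Nat.find hex
  have hn : x ^ q ^ n ∈ (algebraMap κ A).range := Nat.find_spec hex
  have hn0 : n ≠ 0 := by
    intro h0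
    rw [h0, pow_zero, pow_one] at hn
    exact hxr hn
  obtain ⟨m, hm⟩ := Nat.exists_eq_succ_of_ne_zero hn0
  have hmin : x ^ q ^ m ∉ (algebraMap κ A).range := Nat.find_min hex (by omega)
  cases hq with
  | zero =>
    exfalso
    rw [one_pow, pow_one] at hn
    exact hxr hn
  | prime hp =>
    rename_i hchar
    set y := x ^ q ^ m with hy
    have hyq : y ^ q ∈ (algebraMap κ A).range := by
      rw [hy, ← pow_mul, ← pow_succ, ← Nat.succ_eq_add_one, ← hm]
      exact hn
    obtain ⟨a, ha⟩ := hyq
    have hybot : y ∉ (⊥ : Subalgebra κ A) := by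
      intro hmem
      obtain ⟨c, hc⟩ := Algebra.mem_bot.mp hmem
      exact hmin ⟨c, hc⟩
    haveI : Fact q.Prime := ⟨hp⟩
    haveI : CharP A q := charP_of_injective_algebraMap (algebraMap κ A).injective q
    have hnp : ∀ b : κ, b ^ q ≠ a := by
      intro b hb
      apply hmin
      have : (y - algebraMap κ A b) ^ q = 0 := by
        rw [sub_pow_char, ← map_pow, hb, ha, sub_self]
      have h0 : y - algebraMap κ A b = 0 := pow_eq_zero_iff (hp.ne_zero) |>.mp this
      exact ⟨b, (sub_eq_zero.mp h0).symm⟩
    have hirr : Irreducible (X ^ q - C a) := X_pow_sub_C_irreducible_of_prime hp hnp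
    haveI : Fact (Irreducible (X ^ q - C a)) := ⟨hirr⟩
    have hroot : eval₂ (↑(Algebra.ofId κ A) : κ →+* A) y (X ^ q - C a) = 0 := by
      simp only [eval₂_sub, eval₂_pow, eval₂_X, eval₂_C]
      rw [← ha]
      simp [Algebra.ofId_apply]
    let f : AdjoinRoot (X ^ q - C a) →ₐ[κ] A :=
      AdjoinRoot.liftAlgHom (X ^ q - C a) (Algebra.ofId κ A) y hroot
    have hfy : f (AdjoinRoot.root _) = y := by
      simp [f]
    have hsurj : Function.Surjective f := range_eq_top_of_mem h f hybot ⟨_, hfy⟩
    have hinjf : Function.Injective f := f.toRingHom.injective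
    exact ⟨q, a, hp, hchar, hnp, ⟨(AlgEquiv.ofBijective f ⟨hinjf, hsurj⟩).symm⟩⟩

end fieldcase

open Polynomial in
/-- Let κ be a field and A a commutative κ-algebra whose only κ-subalgebras are the image of κ and A
itself, these two being different. Then A is finite-dimensional over κ, and A is isomorphic as a
κ-algebra to the dual numbers over κ, or to κ × κ, or A is a field which is either separable over κ
or isomorphic to κ[X]/(X^p - a) with p the (positive) characteristic of κ and a an element of κ that
is not a p-th power. (The published statement also records that these four cases exclude one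
another; that part is not restated.) -/
theorem result (κ A : Type u) [Field κ] [CommRing A] [Algebra κ A]
    (h : IsSimpleOrder (Subalgebra κ A)) :
    FiniteDimensional κ A ∧
    (Nonempty (A ≃ₐ[κ] DualNumber κ) ∨ Nonempty (A ≃ₐ[κ] (κ × κ)) ∨
      (IsField A ∧ (Algebra.IsSeparable κ A ∨
        ∃ (p : ℕ) (a : κ), p.Prime ∧ CharP κ p ∧ (∀ b : κ, b ^ p ≠ a) ∧
          Nonempty (A ≃ₐ[κ] AdjoinRoot (X ^ p - C a))))) := by
  refine ⟨finite_of h, ?_⟩
  by_cases hred : ∀ x : A, x ^ 2 = 0 → x = 0
  · by_cases hid : ∀ e : A, e * e = e → e = 0 ∨ e = 1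
    · right; right
      have hF := isField_case h hred hid
      refine ⟨hF, ?_⟩
      by_cases hsep : Algebra.IsSeparable κ A
      · exact Or.inl hsep
      · right
        letI : Field A := hF.toField
        exact insep_case h hsep
    · push Not at hid
      obtain ⟨e, he, he0, he1⟩ := hid
      right; left
      exact prod_case h e he he0 he1
  · push Not at hred
    obtain ⟨ε, hε, hε0⟩ := hred
    left
    exact dual_case h ε hε hε0

end Groth.Agent.S15939
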