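import Groth.Statements.S15940
import Groth.Agent.Lib.Seat74SemiNorm

set_option autoImplicit false
universe u
open HTop

namespace Groth.Agent.S15940

open CategoryTheory AlgebraicGeometry in
/-- Let ν : X' → X be a seminormalization of the scheme X, that is, a universal homeomorphism inducing
isomorphisms on all residue fields which is initial among such morphisms with target X. If X is
seminormal then ν is an isomorphism. (The published statement is the equivalence: ν is an
isomorphism if and only if X is seminormal; the other direction rests on the source of a
seminormalization being seminormal, which the predicate used here does not record, and is not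
restated.) -/
theorem result {X' X : Scheme.{u}} (ν : X' ⟶ X)
    (hν : HTop.IsSeminormalization ν) (hX : HTop.IsSeminormal X) : IsIso ν := by
  obtain ⟨⟨hUH, hRFI⟩, hinit⟩ := hν
  obtain ⟨s, hs⟩ := Groth.Agent.Lib.Seat74.SemiNorm.exists_section ν hUH hRFI
    ((Groth.Agent.S7420.result X).1.mp hX)
  obtain ⟨h, -, huniq⟩ := hinit X' ν hUH hRFI
  have h1 : ν ≫ s = h := huniq (ν ≫ s)
    (show (ν ≫ s) ≫ ν = ν by rw [Category.assoc, hs, Category.comp_id])
  have h2 : 𝟙 X' = h := huniq (𝟙 X') (show 𝟙 X' ≫ ν = ν from Category.id_comp ν)
  exact ⟨s, h1.trans h2.symm, hs⟩

end Groth.Agent.S15940
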