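import Groth.Statements.S15942
import Groth.Agent.Lib.Seat74NeronMP2

set_option autoImplicit false
universe u
open Neron

namespace Groth.Agent.S15942

open CategoryTheory AlgebraicGeometry in
/-- Let S be a Dedekind scheme (integral, Noetherian, separated, of dimension one, with regular local
rings), K its function field with generic point η : Spec K → S, and G → S a smooth separated
S-scheme. Suppose that for every closed point p of S the base change G_p = G ×_S Spec O_{S,p} is a
Néron lft-model of its generic fibre over Spec O_{S,p}: for every smooth scheme Y over Spec O_{S,p},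
restricting to generic fibres is a bijection from morphisms Y → G_p over Spec O_{S,p} onto morphisms
of generic fibres over K. Then G is a Néron lft-model of its generic fibre over S: for every smooth
S-scheme Y, restriction along η is a bijection from S-morphisms Y → G onto K-morphisms Y_η → G_η.
(The published statement is for a smooth separated group scheme; the group structure plays no part
in the property or in its proof and is not assumed here.) -/
theorem result
    {S : Scheme.{u}} [IsIntegral S] [IsNoetherian S] [S.IsSeparated]
    (hreg : ∀ s : S, IsRegularLocalRing (S.presheaf.stalk s)) (hdim : topologicalKrullDim S = 1)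
    (G : Over S) [Smooth G.hom] [IsSeparated G.hom]
    (hloc : ∀ p : S, IsClosed ({p} : Set S) →
      ∀ Y : Over (Spec (S.presheaf.stalk p)), Smooth Y.hom →
        Function.Bijective (fun g : Y ⟶ (Over.pullback (S.fromSpecStalk p)).obj G =>
          (Over.pullback (Spec.map (S.presheaf.stalkSpecializes (genericPoint_specializes p)))).map g)) :
    ∀ Y : Over S, Smooth Y.hom →
      Function.Bijective (fun g : Y ⟶ G => (Over.pullback (S.fromSpecStalk (genericPoint S))).map g) := by
  intro Y hY
  classical
  have hYsm : Smooth Y.hom := hY
  have hYN : IsLocallyNoetherian Y.left := LocallyOfFiniteType.isLocallyNoetherian Y.hom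
  have hflatgen : ∀ s : S, Flat (S.fromSpecStalk s) :=
    fun s => Groth.Agent.Lib.Seat74.NeronMP.flat_fromSpecStalk S s
  -- the generic point
  have hdom : IsDominant (S.fromSpecStalk (genericPoint S)) := by
    rw [isDominant_iff, DenseRange, dense_iff_closure_eq, Scheme.range_fromSpecStalk]
    apply Set.eq_univ_of_univ_subset
    rw [← (genericPoint_spec S).def]
    apply closure_mono
    rintro x (rfl : x = genericPoint S)
    exact specializes_rfl
  have hsdom : IsSchemeTheoreticallyDominant (S.fromSpecStalk (genericPoint S)) :=
    IsSchemeTheoreticallyDominant.of_isDominant _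
  have hWN : IsLocallyNoetherian (Limits.pullback Y.hom (S.fromSpecStalk (genericPoint S))) :=
    LocallyOfFiniteType.isLocallyNoetherian
      (Limits.pullback.snd Y.hom (S.fromSpecStalk (genericPoint S)))
  rw [Groth.Agent.Lib.Seat74.NeronMP2.bijective_iff_extPropAlong]
  refine Groth.Agent.Lib.Seat74.NeronMP2.extPropAlong_of_flat_local Y.hom G.hom
    (Groth.Agent.Lib.Seat74.NeronMP2.flatDominant_pullback_fst Y.hom _) ?_ ?_
  · -- the generic fibre is stable under generization
    rw [Scheme.Pullback.range_fst, Scheme.range_fromSpecStalk]
    apply StableUnderGeneralization.preimage _ Y.hom.continuous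
    intro x x' hx'x hx
    exact hx'x.trans hx
  · intro k hk y₀
    -- a closed point in the closure of the image of `y₀`
    obtain ⟨p, hp, hpcl⟩ := (isClosed_closure (s := {Y.hom y₀})).exists_closed_singleton
      ⟨Y.hom y₀, subset_closure rfl⟩
    have hsp : Y.hom y₀ ⤳ p := specializes_iff_mem_closure.mpr hp
    have := hflatgen p
    set yp := Limits.pullback.snd Y.hom (S.fromSpecStalk p) with hyp
    set πp := Limits.pullback.fst Y.hom (S.fromSpecStalk p) with hπp
    set ιp := Spec.map (S.presheaf.stalkSpecializes (genericPoint_specializes p)) with hιp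
    have hιp' : ιp ≫ S.fromSpecStalk p = S.fromSpecStalk (genericPoint S) :=
      Scheme.SpecMap_stalkSpecializes_fromSpecStalk _
    have hcondp : πp ≫ Y.hom = yp ≫ S.fromSpecStalk p := Limits.pullback.condition
    have hbij := hloc p hpcl (Over.mk yp) (inferInstanceAs (Smooth yp))
    rw [Groth.Agent.Lib.Seat74.NeronMP2.bijective_iff_extPropAlong] at hbij
    have hext : Groth.Agent.Lib.Seat74.NeronMP2.ExtPropAlong (Limits.pullback.fst yp ιp)
        (yp ≫ S.fromSpecStalk p) G.hom :=
      Groth.Agent.Lib.Seat74.NeronMP2.extPropAlong_of_baseChange (S.fromSpecStalk p) _ yp G.hom hbij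
    have hθcond : (Limits.pullback.fst yp ιp ≫ πp) ≫ Y.hom =
        Limits.pullback.snd yp ιp ≫ S.fromSpecStalk (genericPoint S) := by
      rw [Category.assoc, hcondp, Limits.pullback.condition_assoc, hιp']
    set θ := Limits.pullback.lift (Limits.pullback.fst yp ιp ≫ πp) (Limits.pullback.snd yp ιp)
      hθcond with hθ
    obtain ⟨fp, ⟨hfp1, hfp2⟩, -⟩ := hext (θ ≫ k) (by
      rw [Category.assoc, hk, ← Category.assoc, hθ, Limits.pullback.lift_fst, Category.assoc,
        hcondp])
    refine ⟨_, πp, inferInstance, fp, ?_, ?_, ?_⟩
    · rw [hπp, Scheme.Pullback.range_fst, Scheme.range_fromSpecStalk]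
      exact hsp
    · rw [hfp1, hcondp]
    · intro Z a b hab
      have hc : a ≫ yp = (b ≫ Limits.pullback.snd Y.hom (S.fromSpecStalk (genericPoint S))) ≫ ιp := by
        rw [← cancel_mono (S.fromSpecStalk p), Category.assoc, ← hcondp, ← Category.assoc, hab,
          Category.assoc, Category.assoc, Category.assoc, hιp', Limits.pullback.condition]
      have hlθ : Limits.pullback.lift a
          (b ≫ Limits.pullback.snd Y.hom (S.fromSpecStalk (genericPoint S))) hc ≫ θ = b := by
        apply Limits.pullback.hom_ext
        · rw [Category.assoc, hθ, Limits.pullback.lift_fst, Limits.pullback.lift_fst_assoc, hab]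
        · rw [Category.assoc, hθ, Limits.pullback.lift_snd, Limits.pullback.lift_snd]
      calc a ≫ fp = (Limits.pullback.lift a
            (b ≫ Limits.pullback.snd Y.hom (S.fromSpecStalk (genericPoint S))) hc ≫
              Limits.pullback.fst yp ιp) ≫ fp := by rw [Limits.pullback.lift_fst]
        _ = b ≫ k := by rw [Category.assoc, hfp2, ← Category.assoc, hlθ]

end Groth.Agent.S15942
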