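import Groth.Statements.S15963
import Groth.Agent.Lib.Seat74SemiNorm4

set_option autoImplicit false
universe u
open HTop

namespace Groth.Agent.S15963

open CategoryTheory AlgebraicGeometry in
/-- Let S be a reduced Noetherian scheme, π : S̃ → S its normalisation (S̃ has integrally closed local
domains, π is integral and an isomorphism over a dense open subset of S with dense preimage), ν : X'
→ S a seminormalization of S (X' seminormal, ν a universal homeomorphism with residue-field
isomorphisms, initial among such) and g : S̃ → X' a morphism with g followed by ν equal to π. Then ν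
and g are scheme-theoretically dominant (the structure sheaf maps injectively into the direct
image), and if π is finite then so are ν and g. -/
theorem result {S Sn X' : Scheme.{u}}
    [IsNoetherian S] [IsReduced S]
    (π : Sn ⟶ S) [IsIntegralHom π] (hn : Pi1.IsNormalScheme Sn)
    (hbir : ∃ U : S.Opens, Dense (U : Set S) ∧ Dense ((π ⁻¹ᵁ U : Sn.Opens) : Set Sn) ∧ IsIso (π ∣_ U))
    (ν : X' ⟶ S) (hν : HTop.IsSeminormalization ν) (hX' : HTop.IsSeminormal X')
    (g : Sn ⟶ X') (hg : g ≫ ν = π) :
    (IsSchemeTheoreticallyDominant ν ∧ IsSchemeTheoreticallyDominant g) ∧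
      (IsFinite π → IsFinite ν ∧ IsFinite g) := by
  obtain ⟨⟨hUH, hRFI⟩, -⟩ := hν
  obtain ⟨hint, hinj, hsurj⟩ := (Groth.Agent.S0415.result ν).mp hUH
  have hXred : IsReduced X' := (Groth.Agent.S7421.result).2 X' hX'
  -- `π` is dominant
  have hπdom : IsDominant π := by
    obtain ⟨U, hU, -, hiso⟩ := hbir
    constructor
    refine hU.mono ?_
    intro u hu
    have hs : Function.Surjective (π ∣_ U) := (π ∣_ U).surjective
    obtain ⟨y, hy⟩ := hs ⟨u, hu⟩
    refine ⟨y.1, ?_⟩
    have h1 : ((π ∣_ U) y).1 = u := congrArg Subtype.val hy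
    exact (morphismRestrict_base_coe π U y).symm.trans h1
  have hgdom : IsDominant g := by
    have : IsDominant (g ≫ ν) := by rw [hg]; exact hπdom
    exact Groth.Agent.Lib.Seat74.SemiNorm.isDominant_of_comp g ν hUH
  have hνdom : IsSchemeTheoreticallyDominant ν := IsSchemeTheoreticallyDominant.of_isDominant ν
  have hgstd : IsSchemeTheoreticallyDominant g := IsSchemeTheoreticallyDominant.of_isDominant g
  refine ⟨⟨hνdom, hgstd⟩, fun hfin => ?_⟩
  have hgfin : IsFinite g := by
    have : IsFinite (g ≫ ν) := by rw [hg]; exact hfin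
    exact IsFinite.of_comp g ν
  refine ⟨?_, hgfin⟩
  refine { toIsAffineHom := inferInstance, finite_app := fun U hU => ?_ }
  have : IsNoetherianRing Γ(S, U) := IsLocallyNoetherian.component_noetherian ⟨U, hU⟩
  apply Groth.Agent.Lib.Seat74.SemiNorm.finite_of_comp_of_injective (ν.app U).hom
    (g.app (ν ⁻¹ᵁ U)).hom (g.app_injective (ν ⁻¹ᵁ U))
  have h1 : (π.app U).hom.Finite := π.finite_app U hU
  subst hg
  rw [Scheme.Hom.comp_app] at h1
  exact h1

end Groth.Agent.S15963
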