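import Groth.Statements.S15981
import Groth.Agent.Lib.Seat96K0Len

set_option autoImplicit false
universe u
open IntSh

namespace Groth.Agent.S15981

section Aux

open CategoryTheory CategoryTheory.Limits AlgebraicGeometry TopologicalSpace
open Groth.Agent.Lib.Seat96.K0Len Groth.Agent.Lib.Seat96.K0Dev Groth.Agent.Lib.Seat21.Dev

variable {X : Scheme.{u}}

/-- a point with zero-dimensional local ring has no proper generization -/
theorem eq_of_dim_zero {t y : X} (ht : ringKrullDim (X.presheaf.stalk t) = 0)
    (hty : t ∈ closure ({y} : Set X)) : y = t := by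
  rw [ringKrullDim_stalk_eq_coheight] at ht
  have h0 : Order.coheight t = 0 := by exact_mod_cast ht
  have hmax : IsMax t := Order.coheight_eq_zero.1 h0
  have hs : y ⤳ t := specializes_iff_mem_closure.2 hty
  have hle : t ≤ y := Scheme.le_iff_specializes.2 hs
  have hs' : t ⤳ y := Scheme.le_iff_specializes.1 (hmax hle)
  exact (hs.antisymm hs').eq

theorem one_le_dim_of_mem_closure {x y : X} (hy : ringKrullDim (X.presheaf.stalk y) ≠ 0)
    (hx : x ∈ closure ({y} : Set X)) : (1 : WithBot ℕ∞) ≤ ringKrullDim (X.presheaf.stalk x) := by
  rw [ringKrullDim_stalk_eq_coheight] at hy ⊢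
  have hle : x ≤ y := Scheme.le_iff_specializes.2 (specializes_iff_mem_closure.2 hx)
  have h1 : Order.coheight y ≤ Order.coheight x := Order.coheight_anti hle
  have h2 : Order.coheight y ≠ 0 := fun h => hy (by rw [h]; rfl)
  have h3 : 1 ≤ Order.coheight y := Order.one_le_iff_ne_zero.2 h2
  exact_mod_cast h3.trans h1

/-- a Noetherian scheme has finitely many points with zero-dimensional local ring -/
theorem finite_dim_zero [IsNoetherian X] : {x : X | ringKrullDim (X.presheaf.stalk x) = 0}.Finite := by
  have hfin := TopologicalSpace.NoetherianSpace.finite_irreducibleComponents (α := X)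
  refine Set.Finite.of_finite_image (f := fun x => closure ({x} : Set X)) (hfin.subset ?_) ?_
  · rintro _ ⟨t, ht, rfl⟩
    rw [irreducibleComponents_eq_maximals_closed]
    refine ⟨⟨isClosed_closure, isIrreducible_singleton.closure⟩, ?_⟩
    rintro Z ⟨hZc, hZi⟩ hle
    obtain ⟨y, hy⟩ := QuasiSober.sober hZi hZc
    have hty : t ∈ closure ({y} : Set X) := by
      rw [hy.def]
      exact hle (subset_closure rfl)
    have := eq_of_dim_zero ht hty
    subst this
    change Z ⊆ closure ({y} : Set X)
    rw [hy.def]
  · intro a _ b _ hab
    exact (inseparable_iff_closure_eq.2 hab).eq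

end Aux

open CategoryTheory CategoryTheory.Limits AlgebraicGeometry in
/-- Let X be a reduced Noetherian scheme and η_i the generic points of its irreducible components (the
points with zero-dimensional local ring). Sending the class of a coherent O_X-module F to the family
of lengths of its stalks F_{η_i} over O_{X,η_i} is a well defined homomorphism rk from the
Grothendieck group of coherent O_X-modules to the group of integer-valued functions on the η_i;
every such rk is surjective and its kernel is the subgroup generated by the classes of coherent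
modules whose support contains no η_i (the first step of the coniveau filtration), so that rk
identifies the zeroth graded piece of that filtration with the free abelian group on the irreducible
components. -/
theorem result
    {X : Scheme.{u}} [IsNoetherian X] [IsReduced X] :
    (∃ rk : SGA6.Kcoh X →+ ({x : X // ringKrullDim (X.presheaf.stalk x) = 0} → ℤ),
        ∀ F : X.Modules, Coh.IsCoh F →
          rk (KZero.clSub (fun M : X.Modules => Coh.IsCoh M) F) =
            fun x => ((Module.length (X.presheaf.stalk x.1) (F.presheaf.stalk x.1)).toNat : ℤ)) ∧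
    ∀ rk : SGA6.Kcoh X →+ ({x : X // ringKrullDim (X.presheaf.stalk x) = 0} → ℤ),
      (∀ F : X.Modules, Coh.IsCoh F →
          rk (KZero.clSub (fun M : X.Modules => Coh.IsCoh M) F) =
            fun x => ((Module.length (X.presheaf.stalk x.1) (F.presheaf.stalk x.1)).toNat : ℤ)) →
        Function.Surjective rk ∧
          rk.ker = AddSubgroup.closure {c : SGA6.Kcoh X | ∃ F : X.Modules, Coh.IsCoh F ∧
            (∀ x ∈ CohB1.support F, (1 : WithBot ℕ∞) ≤ ringKrullDim (X.presheaf.stalk x)) ∧
            c = KZero.clSub (fun M : X.Modules => Coh.IsCoh M) F} := by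
  classical
  have hT : ∀ t : X, ringKrullDim (X.presheaf.stalk t) = 0 → ∀ y ∈ (Set.univ : Set X),
      t ∈ closure ({y} : Set X) → y = t := fun t ht y _ hty => eq_of_dim_zero ht hty
  -- finiteness of the lengths
  have hfin : ∀ F : X.Modules, Coh.IsCoh F → ∀ t : X, ringKrullDim (X.presheaf.stalk t) = 0 →
      Module.length (X.presheaf.stalk t) (F.presheaf.stalk t) ≠ ⊤ := by
    intro F hF t ht
    obtain ⟨c, h1, -, -⟩ := Groth.Agent.Lib.Seat96.K0Len.main
      (fun x : X => ringKrullDim (X.presheaf.stalk x) = 0) Set.univ isClosed_univ hT ⊤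
      (fun _ _ _ => AddSubgroup.mem_top _) F hF (Set.subset_univ _)
    rw [h1 t ht]
    exact ENat.natCast_ne_top _
  -- lengths of the structure sheaves of closures of points
  have hlenO : ∀ (t : X) (x : {x : X // ringKrullDim (X.presheaf.stalk x) = 0}),
      Module.length (X.presheaf.stalk x.1) ((Cyc.closureStructureSheaf t).presheaf.stalk x.1) =
        if x.1 = t then 1 else 0 := by
    intro t x
    split_ifs with hxt
    · rw [hxt]
      exact Groth.Agent.Lib.Seat96.K0Len.length_of_rankOne
        (Groth.Agent.Lib.Seat96.K0Len.rankOne_closureStructureSheaf t)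
    · rw [Groth.Agent.Lib.Seat96.K0Len.length_eq_zero_iff,
        Groth.Agent.Lib.Seat96.K0Len.support_closureStructureSheaf]
      intro hmem
      exact hxt (eq_of_dim_zero x.2 hmem).symm
  constructor
  · -- existence
    let f : Subtype (fun M : X.Modules => Coh.IsCoh M) →
        ({x : X // ringKrullDim (X.presheaf.stalk x) = 0} → ℤ) :=
      fun M x => ((Module.length (X.presheaf.stalk x.1) (M.1.presheaf.stalk x.1)).toNat : ℤ)
    have hφ : KZero.relSub (fun M : X.Modules => Coh.IsCoh M) ≤ (FreeAbelianGroup.lift f).ker := by
      unfold KZero.relSub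
      rw [AddSubgroup.closure_le]
      rintro _ ⟨S, h₁, h₂, h₃, hS, rfl⟩
      rw [SetLike.mem_coe, AddMonoidHom.mem_ker, map_sub, map_sub, FreeAbelianGroup.lift_apply_of,
        FreeAbelianGroup.lift_apply_of, FreeAbelianGroup.lift_apply_of]
      funext x
      simp only [Pi.sub_apply, Pi.zero_apply, f]
      rw [Groth.Agent.Lib.Seat96.K0Len.length_shortExact S hS x.1,
        ENat.toNat_add (hfin _ h₁ _ x.2) (hfin _ h₃ _ x.2)]
      push_cast
      ring
    refine ⟨QuotientAddGroup.lift _ (FreeAbelianGroup.lift f) hφ, fun F hF => ?_⟩
    rw [Groth.Agent.Lib.Seat96.K0Dev.clSub_of _ F hF, QuotientAddGroup.lift_mk,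
      FreeAbelianGroup.lift_apply_of]
  · intro rk hrk
    have hrkO : ∀ (t : X) (x : {x : X // ringKrullDim (X.presheaf.stalk x) = 0}),
        rk (Groth.Agent.Lib.Seat96.K0Len.clO t) x = if x.1 = t then 1 else 0 := by
      intro t x
      have := congrFun (hrk _ (Groth.Agent.Lib.Seat96.K0Len.isCoh_closureStructureSheaf t)) x
      rw [this, hlenO t x]
      split_ifs <;> simp
    constructor
    · -- surjectivity
      intro φ
      have hTfin := finite_dim_zero (X := X)
      refine ⟨∑ t ∈ hTfin.toFinset, (if h : ringKrullDim (X.presheaf.stalk t) = 0 then φ ⟨t, h⟩ else 0) •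
        Groth.Agent.Lib.Seat96.K0Len.clO t, ?_⟩
      funext x
      rw [map_sum, Finset.sum_apply, Finset.sum_eq_single x.1]
      · rw [map_zsmul, Pi.smul_apply, hrkO, if_pos rfl, dif_pos x.2, smul_eq_mul, mul_one]
      · intro t _ htx
        rw [map_zsmul, Pi.smul_apply, hrkO, if_neg (Ne.symm htx), smul_zero]
      · intro hx
        exact absurd (hTfin.mem_toFinset.2 x.2) hx
    · -- the kernel
      set H : AddSubgroup (SGA6.Kcoh X) := AddSubgroup.closure {c : SGA6.Kcoh X | ∃ F : X.Modules, Coh.IsCoh F ∧
            (∀ x ∈ CohB1.support F, (1 : WithBot ℕ∞) ≤ ringKrullDim (X.presheaf.stalk x)) ∧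
            c = KZero.clSub (fun M : X.Modules => Coh.IsCoh M) F} with hH
      apply le_antisymm
      · -- classes in the kernel are in `H`
        have key : ∀ z : SGA6.Kcoh X, ∃ c : X →₀ ℤ,
            (∀ t : {x : X // ringKrullDim (X.presheaf.stalk x) = 0}, rk z t = c t.1) ∧
            (∀ t : X, ¬ ringKrullDim (X.presheaf.stalk t) = 0 → c t = 0) ∧
            z - c.sum (fun t k => k • Groth.Agent.Lib.Seat96.K0Len.clO t) ∈ H := by
          intro z
          obtain ⟨z, rfl⟩ := QuotientAddGroup.mk_surjective z
          induction z using FreeAbelianGroup.induction_on with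
          | zero =>
            refine ⟨0, fun t => ?_, fun _ _ => rfl, ?_⟩
            · rw [QuotientAddGroup.mk_zero, map_zero]
              rfl
            · rw [Finsupp.sum_zero_index, sub_zero, QuotientAddGroup.mk_zero]
              exact H.zero_mem
          | of M =>
            obtain ⟨M, hM⟩ := M
            rw [← Groth.Agent.Lib.Seat96.K0Dev.clSub_of _ M hM]
            obtain ⟨c, h1, h2, h3⟩ := Groth.Agent.Lib.Seat96.K0Len.main
              (fun x : X => ringKrullDim (X.presheaf.stalk x) = 0) Set.univ isClosed_univ hT H
              (fun y _ hy => AddSubgroup.subset_closure ⟨Cyc.closureStructureSheaf y,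
                Groth.Agent.Lib.Seat96.K0Len.isCoh_closureStructureSheaf y, fun x hx =>
                  one_le_dim_of_mem_closure hy
                    ((Groth.Agent.Lib.Seat96.K0Len.support_closureStructureSheaf y) ▸ hx), rfl⟩)
              M hM (Set.subset_univ _)
            refine ⟨c.mapRange (fun k : ℕ => (k : ℤ)) Nat.cast_zero, fun t => ?_, fun t ht => ?_, ?_⟩
            · have := congrFun (hrk M hM) t
              rw [this, Finsupp.mapRange_apply, h1 t.1 t.2, ENat.toNat_natCast]
            · rw [Finsupp.mapRange_apply, h2 t ht, Nat.cast_zero]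
            · rw [Finsupp.sum_mapRange_index
                (h := fun t (k : ℤ) => k • Groth.Agent.Lib.Seat96.K0Len.clO t) (fun t => zero_smul _ _)]
              simp only [natCast_zsmul]
              exact h3
          | neg M ih =>
            obtain ⟨c, h1, h2, h3⟩ := ih
            refine ⟨-c, fun t => ?_, fun t ht => ?_, ?_⟩
            · rw [QuotientAddGroup.mk_neg, map_neg, Pi.neg_apply, h1 t, Finsupp.neg_apply]
            · rw [Finsupp.neg_apply, h2 t ht, neg_zero]
            · rw [QuotientAddGroup.mk_neg, Finsupp.sum_neg_index
                (h := fun t (k : ℤ) => k • Groth.Agent.Lib.Seat96.K0Len.clO t) (fun t => zero_smul _ _)]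
              simp only [neg_smul, Finsupp.sum_neg]
              have := H.neg_mem h3
              rwa [neg_sub'] at this
          | add x y hx hy =>
            obtain ⟨c₁, h11, h12, h13⟩ := hx
            obtain ⟨c₂, h21, h22, h23⟩ := hy
            refine ⟨c₁ + c₂, fun t => ?_, fun t ht => ?_, ?_⟩
            · rw [QuotientAddGroup.mk_add, map_add, Pi.add_apply, h11 t, h21 t, Finsupp.add_apply]
            · rw [Finsupp.add_apply, h12 t ht, h22 t ht, add_zero]
            · rw [QuotientAddGroup.mk_add, Finsupp.sum_add_index'
                (h := fun t k => k • Groth.Agent.Lib.Seat96.K0Len.clO t) (fun t => zero_smul _ _)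
                (fun t k k' => add_smul _ _ _)]
              have := H.add_mem h13 h23
              convert this using 1
              abel
        intro z hz
        rw [AddMonoidHom.mem_ker] at hz
        obtain ⟨c, h1, h2, h3⟩ := key z
        have hc : c = 0 := by
          ext t
          by_cases ht : ringKrullDim (X.presheaf.stalk t) = 0
          · have := h1 ⟨t, ht⟩
            rw [hz] at this
            exact this.symm
          · exact h2 t ht
        rw [hc, Finsupp.sum_zero_index, sub_zero] at h3
        exact h3
      · rw [AddSubgroup.closure_le]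
        rintro _ ⟨F, hF, hdim, rfl⟩
        rw [SetLike.mem_coe, AddMonoidHom.mem_ker, hrk F hF]
        funext x
        have hx : x.1 ∉ CohB1.support F := by
          intro hmem
          have := hdim x.1 hmem
          rw [x.2] at this
          exact absurd this (by decide)
        rw [(Groth.Agent.Lib.Seat96.K0Len.length_eq_zero_iff F x.1).2 hx]
        rfl

end Groth.Agent.S15981
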