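import Groth.Statements.S15993
import Mathlib.AlgebraicGeometry.Morphisms.FlatDescent
import Mathlib.AlgebraicGeometry.Morphisms.SchemeTheoreticallyDominant
-- import your own Groth.Agent.* helpers here

set_option autoImplicit false
open CategoryTheory AlgebraicGeometry
universe u
open EtHull

namespace Groth.Agent.S15993

/-- A schematically dense open with quasi-compact inclusion has scheme-theoretically dominant
inclusion. -/
theorem isSchemeTheoreticallyDominant_ι {X : Scheme.{u}} (V : X.Opens) [QuasiCompact V.ι]
    (hV : CInt.IsSchematicallyDense V) : IsSchemeTheoreticallyDominant V.ι := by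
  rw [isSchemeTheoreticallyDominant_iff]
  refine Scheme.IdealSheafData.ext ?_
  funext W
  rw [Scheme.Hom.ker_apply]
  simp only [Scheme.IdealSheafData.ideal_bot, Pi.bot_apply]
  rw [← RingHom.injective_iff_ker_eq_bot]
  rw [Scheme.Opens.ι_app]
  have key : ∀ (O : X.Opens) (h : O ≤ W.1), O = W.1 ⊓ V →
      Function.Injective (X.presheaf.map (homOfLE h).op) := by
    rintro O h rfl
    exact hV W.1
  apply key
  ext x
  simp only [Scheme.Hom.coe_image, Scheme.Hom.coe_preimage, Set.mem_image, Set.mem_preimage,
    SetLike.mem_coe, TopologicalSpace.Opens.coe_inf, Set.mem_inter_iff]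
  constructor
  · rintro ⟨y, hy, rfl⟩
    exact ⟨hy, y.2⟩
  · rintro ⟨h1, h2⟩
    exact ⟨⟨x, h2⟩, h1, rfl⟩

open CategoryTheory.Limits MorphismProperty in
/-- Let f : X → S be a morphism of schemes which is faithfully flat (flat and surjective), quasi-compact
and separated, and schematically birational in the following sense: there are schematically dense
opens U of S and V of X, with the inclusion V → X quasi-compact, such that f maps V into U and the
induced morphism V → U is an isomorphism. Then f is an isomorphism. (The source states this for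
algebraic spaces and puts no quasi-compactness condition on the dense opens. Its proof base-changes
along f and uses that the inverse image of V in X ×_S X is again schematically dense, which holds
when V → X is quasi-compact, for instance when X is locally Noetherian, and fails in general: over
the Boolean ring of eventually constant sequences of elements of the field with two elements, the
spectrum of the ring of eventually two-periodic sequences is faithfully flat and affine, and it is
an isomorphism above the open set of principal points, which is schematically dense on both sides,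
yet it is not an isomorphism, the point at infinity being doubled. So V is taken retrocompact in X
here, and X, S are schemes.) -/
theorem result {X S : Scheme.{u}} (f : X ⟶ S)
    [Flat f] [Surjective f] [QuasiCompact f] [IsSeparated f]
    (U : S.Opens) (V : X.Opens) [QuasiCompact V.ι]
    (hU : CInt.IsSchematicallyDense U) (hV : CInt.IsSchematicallyDense V)
    (hle : V ≤ f ⁻¹ᵁ U) (hiso : IsIso (f.resLE U V hle)) : IsIso f := by
  have hj : IsSchemeTheoreticallyDominant V.ι := isSchemeTheoreticallyDominant_ι V hV
  -- the two projections of the fibre square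
  let p₁ := pullback.fst f f
  let p₂ := pullback.snd f f
  let q₁ := pullback.fst p₁ V.ι
  let q₂ := pullback.fst (q₁ ≫ p₂) V.ι
  have hq₁ : IsSchemeTheoreticallyDominant q₁ := inferInstance
  have hq₂ : IsSchemeTheoreticallyDominant q₂ := inferInstance
  have hk : IsSchemeTheoreticallyDominant (q₂ ≫ q₁) := inferInstance
  -- the two maps to V agree
  let a₁ : pullback (q₁ ≫ p₂) V.ι ⟶ (V : Scheme.{u}) := q₂ ≫ pullback.snd p₁ V.ι
  let a₂ : pullback (q₁ ≫ p₂) V.ι ⟶ (V : Scheme.{u}) := pullback.snd (q₁ ≫ p₂) V.ι
  have e₁ : a₁ ≫ V.ι = (q₂ ≫ q₁) ≫ p₁ := by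
    simp only [a₁, q₁, Category.assoc]
    rw [pullback.condition]
  have e₂ : a₂ ≫ V.ι = (q₂ ≫ q₁) ≫ p₂ := by
    simp only [a₂, q₂, Category.assoc]
    exact pullback.condition.symm
  have hmono : Mono (V.ι ≫ f) := by
    have : V.ι ≫ f = f.resLE U V hle ≫ U.ι := (Scheme.Hom.resLE_comp_ι f hle).symm
    rw [this]
    infer_instance
  have ea : a₁ = a₂ := by
    rw [← cancel_mono (V.ι ≫ f), ← Category.assoc, ← Category.assoc, e₁, e₂, Category.assoc,
      Category.assoc]
    rw [show p₁ ≫ f = p₂ ≫ f from pullback.condition]
    simp only [Category.assoc]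
  have ek : (q₂ ≫ q₁) ≫ p₁ = (q₂ ≫ q₁) ≫ p₂ := by rw [← e₁, ← e₂, ea]
  -- the diagonal is scheme-theoretically dominant
  have hfac : q₂ ≫ q₁ = ((q₂ ≫ q₁) ≫ p₁) ≫ pullback.diagonal f := by
    apply pullback.hom_ext
    · simp only [Category.assoc, pullback.diagonal_fst, Category.comp_id, p₁]
    · rw [Category.assoc ((q₂ ≫ q₁) ≫ p₁), pullback.diagonal_snd, Category.comp_id, ek]
  have hΔker : (pullback.diagonal f).ker = ⊥ := by
    rw [← le_bot_iff, ← hk.ker_eq_bot, hfac]
    exact Scheme.Hom.le_ker_comp _ _
  have hΔ : IsIso (pullback.diagonal f) := by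
    have h1 : IsIso (pullback.diagonal f).imageι :=
      (Scheme.isIso_subschemeι_iff_eq_bot _).mpr hΔker
    rw [← (pullback.diagonal f).toImage_imageι]
    infer_instance
  have hp₁ : IsIso p₁ := by
    have : IsIso (pullback.diagonal f ≫ p₁) := by
      rw [pullback.diagonal_fst]; infer_instance
    exact IsIso.of_isIso_comp_left (pullback.diagonal f) p₁
  exact of_pullback_fst_of_descendsAlong (P := isomorphisms Scheme.{u})
    (Q := @Surjective ⊓ @Flat ⊓ @QuasiCompact) (f := f) (g := f)
    ⟨⟨inferInstance, inferInstance⟩, inferInstance⟩ hp₁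

end Groth.Agent.S15993
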