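import Groth.Statements.S15995
-- import your own Groth.Agent.* helpers here

set_option autoImplicit false
open CategoryTheory AlgebraicGeometry
universe u
open FrobSch

namespace Groth.Agent.S15995

open CategoryTheory.Limits in
/-- If the relative Frobenius of `f` is an isomorphism then the Frobenius square of `f` is cartesian. -/
theorem isPullback_of_isIso_relFrob {X S : Scheme.{u}} (f : X ⟶ S) (p : ℕ) [Fact p.Prime]
    [FrobSch.IsCharP S p] [FrobSch.IsCharP X p] (h : IsIso (FrobSch.relFrob f p)) :
    IsPullback (FrobSch.frob X p) f f (FrobSch.frob S p) := by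
  haveI := h
  exact IsPullback.of_iso_pullback ⟨FrobSch.frob_comp p f⟩ (asIso (FrobSch.relFrob f p))
    (FrobSch.relFrob_fst f p) (FrobSch.relFrob_snd f p)

open CategoryTheory.Limits in
/-- If the Frobenius square of `f` is cartesian then the relative Frobenius of `f` is an
isomorphism. -/
theorem isIso_relFrob_of_isPullback {X S : Scheme.{u}} (f : X ⟶ S) (p : ℕ) [Fact p.Prime]
    [FrobSch.IsCharP S p] [FrobSch.IsCharP X p]
    (h : IsPullback (FrobSch.frob X p) f f (FrobSch.frob S p)) :
    IsIso (FrobSch.relFrob f p) := by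
  have e : FrobSch.relFrob f p = h.isoPullback.hom := by
    apply pullback.hom_ext
    · rw [FrobSch.relFrob_fst, IsPullback.isoPullback_hom_fst]
    · rw [FrobSch.relFrob_snd, IsPullback.isoPullback_hom_snd]
  rw [e]
  infer_instance

open CategoryTheory.Limits in
/-- Relative perfectness is stable under base change. -/
theorem isPullback_frob_snd {Y T S : Scheme.{u}} (r : Y ⟶ S) (f : T ⟶ S) (p : ℕ) [Fact p.Prime]
    [FrobSch.IsCharP S p] [FrobSch.IsCharP T p] [FrobSch.IsCharP Y p]
    [FrobSch.IsCharP (pullback r f) p]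
    (h : IsPullback (FrobSch.frob Y p) r r (FrobSch.frob S p)) :
    IsPullback (FrobSch.frob (pullback r f) p) (pullback.snd r f) (pullback.snd r f)
      (FrobSch.frob T p) := by
  have hP : IsPullback (pullback.fst r f) (pullback.snd r f) r f := IsPullback.of_hasPullback r f
  -- the big square, pasted the other way round
  have hbig : IsPullback (pullback.fst r f ≫ FrobSch.frob Y p) (pullback.snd r f) r
      (f ≫ FrobSch.frob S p) := hP.paste_horiz h
  have e1 : pullback.fst r f ≫ FrobSch.frob Y p =
      FrobSch.frob (pullback r f) p ≫ pullback.fst r f := (FrobSch.frob_comp p _).symm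
  have e2 : f ≫ FrobSch.frob S p = FrobSch.frob T p ≫ f := (FrobSch.frob_comp p _).symm
  rw [e1, e2] at hbig
  exact IsPullback.of_right hbig (FrobSch.frob_comp p _) hP

/-- Coperfection commutes with base restriction. Let S and T be schemes of characteristic p and f : T →
S a relatively perfect morphism (its relative Frobenius T → T^(p/S) is an isomorphism). Let g : X →
T and let c : X → X' be a T-morphism to a relatively perfect T-scheme π : X' → T which is a
coperfection of X over T: for every relatively perfect T-scheme Y, every T-morphism X → Y factors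
uniquely through c. Then X' with structure map π ≫ f is relatively perfect over S and c is a
coperfection of X over S: every S-morphism from X to a relatively perfect S-scheme factors uniquely
through c. (The source works with algebraic spaces; schemes here.) -/
theorem result (p : ℕ) [Fact p.Prime] {X X' T S : Scheme.{u}}
    [FrobSch.IsCharP S p] [FrobSch.IsCharP T p] (f : T ⟶ S) (hf : IsIso (FrobSch.relFrob f p))
    (g : X ⟶ T) (π : X' ⟶ T) (hπ : IsIso (FrobSch.relFrob π p)) (c : X ⟶ X') (hc : c ≫ π = g)
    (huniv : ∀ (Y : Scheme.{u}) (q : Y ⟶ T), IsIso (FrobSch.relFrob q p) →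
      ∀ k : X ⟶ Y, k ≫ q = g → ∃! h : X' ⟶ Y, h ≫ q = π ∧ c ≫ h = k) :
    IsIso (FrobSch.relFrob (π ≫ f) p) ∧
      ∀ (Y : Scheme.{u}) (r : Y ⟶ S), IsIso (FrobSch.relFrob r p) →
        ∀ k : X ⟶ Y, k ≫ r = g ≫ f → ∃! h : X' ⟶ Y, h ≫ r = π ≫ f ∧ c ≫ h = k := by
  haveI : FrobSch.IsCharP X' p := FrobSch.IsCharP.of_hom π p
  have hf' := isPullback_of_isIso_relFrob f p hf
  have hπ' := isPullback_of_isIso_relFrob π p hπ
  refine ⟨isIso_relFrob_of_isPullback (π ≫ f) p (hπ'.paste_vert hf'), ?_⟩
  intro Y r hr k hk
  haveI : FrobSch.IsCharP Y p := FrobSch.IsCharP.of_hom r p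
  haveI : FrobSch.IsCharP (Limits.pullback r f) p :=
    FrobSch.IsCharP.of_hom (Limits.pullback.snd r f) p
  have hr' := isPullback_of_isIso_relFrob r p hr
  have hsnd : IsIso (FrobSch.relFrob (Limits.pullback.snd r f) p) :=
    isIso_relFrob_of_isPullback _ p (isPullback_frob_snd r f p hr')
  obtain ⟨h', ⟨h'1, h'2⟩, h'uniq⟩ :=
    huniv (Limits.pullback r f) (Limits.pullback.snd r f) hsnd (Limits.pullback.lift k g hk)
      (Limits.pullback.lift_snd _ _ _)
  refine ⟨h' ≫ Limits.pullback.fst r f, ⟨?_, ?_⟩, ?_⟩
  · rw [Category.assoc, Limits.pullback.condition, ← Category.assoc, h'1]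
  · rw [← Category.assoc, h'2, Limits.pullback.lift_fst]
  · rintro h2 ⟨h21, h22⟩
    have key : Limits.pullback.lift h2 π h21 = h' := by
      apply h'uniq
      refine ⟨Limits.pullback.lift_snd _ _ _, ?_⟩
      apply Limits.pullback.hom_ext
      · rw [Category.assoc, Limits.pullback.lift_fst, Limits.pullback.lift_fst, h22]
      · rw [Category.assoc, Limits.pullback.lift_snd, Limits.pullback.lift_snd, hc]
    rw [← key, Limits.pullback.lift_fst]

end Groth.Agent.S15995
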