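import Groth.Statements.S16000
import Groth.Agent.Lib.Seat75TensorPi
import Groth.Agent.Lib.Seat75PerfStage
import Groth.Agent.Lib.Seat75PerfPure
-- import your own Groth.Agent.* helpers here

set_option autoImplicit false
universe u
open FrobAlg

namespace Groth.Agent.S16000

open Groth.Agent.Lib.Seat75.PerfStage Groth.Agent.Lib.Seat75.PerfPure
  Groth.Agent.Lib.Seat75.TensorPi in
/-- The Frobenius twist of `R` is the first stage. -/
noncomputable def twistEquiv (p : ℕ) [Fact p.Prime] (R : Type u) [CommRing R] [CharP R p] :
    FrobAlg.Twist p R ≃ₗ[R] Stage p R 1 where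
  toFun t := toStage p R 1 ((FrobAlg.toTwist p R).symm t)
  map_add' a b := by rw [map_add, map_add]
  map_smul' s t := by
    rw [RingHom.id_apply, smul_stage, Algebra.smul_def, FrobAlg.algebraMap_twist, map_mul, map_mul,
      RingEquiv.symm_apply_apply, pow_one]
  invFun y := FrobAlg.toTwist p R ((toStage p R 1).symm y)
  left_inv t := by simp
  right_inv y := by simp

open TensorProduct in
open Groth.Agent.Lib.Seat75.PerfStage Groth.Agent.Lib.Seat75.PerfPure
  Groth.Agent.Lib.Seat75.TensorPi in
/-- Let p be a prime, R a commutative ring of characteristic p such that R is a projective R-module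
through its absolute Frobenius, and A a commutative R-algebra of characteristic p, with Frobenius
twists A^{p^i/R} = R ⊗_{F^i,R} A, relative Frobenius maps A^{p^{i+1}/R} → A^{p^i/R} and
preperfection A^{p^∞/R} = lim_i A^{p^i/R} ⊆ Π_i A^{p^i/R}. Let R' be the direct-limit perfection
colim(R → R → ⋯) of R along Frobenius, an R-module through the canonical map R → R'. Then the
natural map R' ⊗_R A^{p^∞/R} → Π_i (R' ⊗_R A^{p^i/R}), r ⊗ x ↦ (r ⊗ x_i)_i, is injective; in
particular the base-change map R' ⊗_R lim_i A^{p^i/R} → lim_i (R' ⊗_R A^{p^i/R}) is injective. (The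
published statement identifies the target limit with the preperfection of A ⊗_R R' over R'; that
identification is not part of this row.) -/
theorem result
    (p : ℕ) [Fact p.Prime] (R : Type u) [CommRing R] [CharP R p]
    (A : Type u) [CommRing A] [Algebra R A] [CharP A p]
    [Module.Projective R (FrobAlg.Twist p R)] :
    letI : Algebra R (PerfectClosure R p) := (PerfectClosure.of R p).toAlgebra
    Function.Injective
      (LinearMap.pi fun i : ℕ =>
        LinearMap.lTensor (PerfectClosure R p)
          (((Pi.evalAlgHom R (fun k => W4c1imperftorsors.Twist p R A k) i).comp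
            (W4c1imperftorsors.prePerf p R A).val).toLinearMap) :
        PerfectClosure R p ⊗[R] ↥(W4c1imperftorsors.prePerf p R A) →ₗ[R]
          (Π i : ℕ, PerfectClosure R p ⊗[R] W4c1imperftorsors.Twist p R A i)) := by
  letI : Algebra R (PerfectClosure R p) := algebraPC p R
  haveI : Module.Projective R (Stage p R 1) := Module.Projective.of_equiv (twistEquiv p R)
  have hproj : ∀ k, Module.Projective R (Stage p R k) := projective_stage p R
  change Function.Injective
      (LinearMap.pi fun i : ℕ =>
        LinearMap.lTensor (PerfectClosure R p)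
          (((Pi.evalAlgHom R (fun k => W4c1imperftorsors.Twist p R A k) i).comp
            (W4c1imperftorsors.prePerf p R A).val).toLinearMap) :
        PerfectClosure R p ⊗[R] ↥(W4c1imperftorsors.prePerf p R A) →ₗ[R]
          (Π i : ℕ, PerfectClosure R p ⊗[R] W4c1imperftorsors.Twist p R A i))
  rw [injective_iff_map_eq_zero]
  intro x hx
  refine jointly_injective_of_exists (PerfectClosure R p)
    (fun i : ℕ => ((Pi.evalAlgHom R (fun k => W4c1imperftorsors.Twist p R A k) i).comp
            (W4c1imperftorsors.prePerf p R A).val).toLinearMap) ?_ ?_ x ?_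
  · intro y hy
    exact Subtype.ext (funext fun i => hy i)
  · intro x
    obtain ⟨n, hn⟩ := exists_mem_range_rTensor p R _ x
    exact ⟨Stage p R n, inferInstance, inferInstance, hproj n, incl p R n, hn,
      fun i => rTensor_incl_injective p R hproj n _⟩
  · intro i
    exact congrFun hx i

end Groth.Agent.S16000
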