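import Groth.Statements.S16050
import Groth.Agent.Lib.Seat67PsKaehler
import Groth.Agent.Lib.Seat67PsDepth
import Groth.Agent.Lib.Seat67ExtPres

set_option autoImplicit false
universe u
open CategoryTheory
open LCI

namespace Groth.Agent.S16050

/-- Let k be an algebraically closed field of characteristic p > 0, P = k[[x, y, z]] the power series
ring in three variables, f a non-unit of P defining an isolated singularity — some power of the
maximal ideal of P is contained in (f) + J, where J is the ideal generated by the values D(f) of all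
k-derivations D of P (the Jacobian ideal (f_x, f_y, f_z)) — and R₀ = P/(f). Then Ext²_{R₀}(Ω_{R₀/k},
R₀) = 0 and Ext¹_{R₀}(Ω_{R₀/k}, R₀) is isomorphic as an R₀-module to R₀/J R₀, the Tjurina algebra
(existence of an R₀-linear isomorphism only; the source obtains it from the boundary map of the
dualized conormal sequence). The source states this for the normal form of a rational double point;
the hypotheses used are those given here. Here Ω is the module of Kähler differentials of the
k-algebra R₀. (The lemma also identifies first-order deformations of R₀ with this Ext¹ group; that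
identification is quoted there from another work and is not part of this row.) -/
theorem result (k : Type u) [Field k] [IsAlgClosed k]
    (p : ℕ) [Fact p.Prime] [CharP k p]
    (f : MvPowerSeries (Fin 3) k) (hf : f ∈ IsLocalRing.maximalIdeal (MvPowerSeries (Fin 3) k))
    (hiso : ∃ N : ℕ, IsLocalRing.maximalIdeal (MvPowerSeries (Fin 3) k) ^ N ≤
      Ideal.span {f} ⊔ Ideal.span {g | ∃ D : Derivation k (MvPowerSeries (Fin 3) k) (MvPowerSeries (Fin 3) k), g = D f}) :
    Subsingleton (Abelian.Ext
        (ModuleCat.of (MvPowerSeries (Fin 3) k ⧸ Ideal.span {f})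
          (KaehlerDifferential k (MvPowerSeries (Fin 3) k ⧸ Ideal.span {f})))
        (ModuleCat.of (MvPowerSeries (Fin 3) k ⧸ Ideal.span {f}) (MvPowerSeries (Fin 3) k ⧸ Ideal.span {f})) 2) ∧
      Nonempty (Abelian.Ext
        (ModuleCat.of (MvPowerSeries (Fin 3) k ⧸ Ideal.span {f})
          (KaehlerDifferential k (MvPowerSeries (Fin 3) k ⧸ Ideal.span {f})))
        (ModuleCat.of (MvPowerSeries (Fin 3) k ⧸ Ideal.span {f}) (MvPowerSeries (Fin 3) k ⧸ Ideal.span {f})) 1 ≃ₗ[MvPowerSeries (Fin 3) k ⧸ Ideal.span {f}]
        ((MvPowerSeries (Fin 3) k ⧸ Ideal.span {f}) ⧸ Ideal.map (Ideal.Quotient.mk (Ideal.span {f}))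
          (Ideal.span {g | ∃ D : Derivation k (MvPowerSeries (Fin 3) k) (MvPowerSeries (Fin 3) k), g = D f}))) := by
  classical
  open Groth.Agent.Lib.Seat67.PsKaehler in
  have : PerfectRing k p := inferInstance
  obtain ⟨N, hN⟩ := hiso
  rw [jacobian_eq p f] at hN
  -- `f ≠ 0`
  have hXm : (MvPowerSeries.X 0 : MvPowerSeries (Fin 3) k) ∈
      IsLocalRing.maximalIdeal (MvPowerSeries (Fin 3) k) := by
    rw [IsLocalRing.mem_maximalIdeal, mem_nonunits_iff, MvPowerSeries.isUnit_iff_constantCoeff]
    simp
  have hf0 : f ≠ 0 := by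
    rintro rfl
    have h1 : (MvPowerSeries.X 0 : MvPowerSeries (Fin 3) k) ^ N ∈
        IsLocalRing.maximalIdeal (MvPowerSeries (Fin 3) k) ^ N := Ideal.pow_mem_pow hXm N
    have h2 := hN h1
    simp only [map_zero, Set.range_const, Ideal.span_singleton_eq_bot.mpr, sup_idem,
      Ideal.mem_bot] at h2
    have hX0 : (MvPowerSeries.X 0 : MvPowerSeries (Fin 3) k) ≠ 0 := by
      intro h
      have := congrArg (MvPowerSeries.coeff (Finsupp.single (0 : Fin 3) 1)) h
      simp [MvPowerSeries.coeff_X] at this
    exact hX0 (pow_eq_zero_iff (M₀ := MvPowerSeries (Fin 3) k) (n := N) (by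
      rintro rfl
      simp at h2) |>.mp h2)
  obtain ⟨a, ham, hareg⟩ := Groth.Agent.Lib.Seat67.PsDepth.exists_regular_quotient k 3
    (by norm_num) f hf0 hf
  -- injectivity of `c ↦ c • grad f`
  have hinj : ∀ c : Q f, c • grad f = 0 → c = 0 := by
    intro c hc
    have hci : ∀ i, c * Ideal.Quotient.mk (Ideal.span {f}) (MvPowerSeries.pderiv k i f) = 0 := by
      intro i
      have := congrFun hc i
      exact this
    have h1 : a ^ N ∈ IsLocalRing.maximalIdeal (MvPowerSeries (Fin 3) k) ^ N :=
      Ideal.pow_mem_pow ham N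
    obtain ⟨u, hu, w, hw, huw⟩ := Submodule.mem_sup.mp (hN h1)
    have hw' : w ∈ Submodule.span (MvPowerSeries (Fin 3) k)
        (Set.range fun i => MvPowerSeries.pderiv k i f) := hw
    rw [Submodule.mem_span_range_iff_exists_fun] at hw'
    obtain ⟨b, hb⟩ := hw'
    have h2 : c * (Ideal.Quotient.mk (Ideal.span {f}) a) ^ N = 0 := by
      rw [← map_pow, ← huw, map_add, Ideal.Quotient.eq_zero_iff_mem.mpr hu, zero_add, ← hb,
        map_sum, Finset.mul_sum]
      apply Finset.sum_eq_zero
      intro i _
      rw [smul_eq_mul, map_mul, mul_left_comm, hci i, mul_zero]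
    have h3 := hareg.pow N
    apply h3
    change (Ideal.Quotient.mk (Ideal.span {f}) a) ^ N • c = (Ideal.Quotient.mk (Ideal.span {f}) a) ^ N • 0
    rw [smul_eq_mul, smul_eq_mul, mul_zero, mul_comm]
    exact h2
  have key := Groth.Agent.Lib.Seat67.ExtPres.ext_of_presentation (R := Q f)
    (M := KaehlerDifferential k (Q f)) (grad f) (phi f) (phi_surjective p f) (ker_phi p f) hinj
  refine ⟨key.1, ?_⟩
  obtain ⟨e⟩ := key.2
  have hJ : Ideal.map (Ideal.Quotient.mk (Ideal.span {f}))
      (Ideal.span {g | ∃ D : Derivation k (MvPowerSeries (Fin 3) k) (MvPowerSeries (Fin 3) k),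
        g = D f}) = Ideal.span (Set.range (grad f)) := by
    rw [jacobian_eq p f, Ideal.map_span, ← Set.range_comp]
    rfl
  rw [hJ]
  exact ⟨e⟩

end Groth.Agent.S16050
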