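import Groth.Statements.S16081
import Groth.Agent.S16080

set_option autoImplicit false
universe u
open CategoryTheory CategoryTheory.Limits AlgebraicGeometry TopologicalSpace
open SDiv

namespace Groth.Agent.S16081

open RefHull Groth.Agent.Lib.Seat55.ReflHull

/-- Let X be an integral locally Noetherian scheme and F, G coherent O_X-modules with G reflexive. Then
the sheaf Hom 𝓗om_{O_X}(F, G) is reflexive: its canonical map into its reflexive hull is an
isomorphism. -/
theorem result (X : Scheme.{u}) [IsIntegral X] [IsLocallyNoetherian X] (F G : X.Modules)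
    (hF : Coh.IsCoh F) (hG : Coh.IsCoh G) (hGr : RefHull.IsReflexive G) :
    RefHull.IsReflexive (RefHull.homSh F G) := by
  have hH : Coh.IsCoh (homSh F G) := Groth.Agent.Lib.Seat75.HomCoh.isCoh_homSh F G hF hG
  have hGx : ∀ x : X, RefHull.IsReflexiveAt G x :=
    ((Groth.Agent.S16080.result X G hG).out 0 1).mp hGr
  refine ((Groth.Agent.S16080.result X (homSh F G) hH).out 0 1).mpr (fun x => ?_)
  have hFx := finite_stalk_of_isCoh F hF x
  have hGfx := finite_stalk_of_isCoh G hG x
  have hGrx : Module.IsReflexive (X.presheaf.stalk x) (G.presheaf.stalk x) := hGx x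
  have hrefl := Groth.Agent.S6875.result (X.presheaf.stalk x) (F.presheaf.stalk x)
    (G.presheaf.stalk x)
  let e : (homSh F G).presheaf.stalk x ≃ₗ[X.presheaf.stalk x]
      (F.presheaf.stalk x →ₗ[X.presheaf.stalk x] G.presheaf.stalk x) :=
    LinearEquiv.ofBijective (evalStalk F G x)
      (Groth.Agent.S16485.result X F G (isFP_of_isCoh F hF) x)
  exact Module.equiv e.symm

end Groth.Agent.S16081
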