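import Groth.Statements.S16082
import Mathlib.AlgebraicGeometry.FunctionField
-- import your own Groth.Agent.* helpers here

set_option autoImplicit false
universe u
open CategoryTheory CategoryTheory.Limits AlgebraicGeometry TopologicalSpace
open SDiv

namespace Groth.Agent.S16082

/-- Let X be an integral scheme and F, G quasi-coherent O_X-modules with F of finite presentation and G
torsion free (every stalk G_x is a torsion-free module over the domain O_{X,x}). Then every stalk of
the sheaf Hom 𝓗om_{O_X}(F, G) is torsion free as well. -/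
theorem result (X : Scheme.{u}) [IsIntegral X] (F G : X.Modules) (hF : Coh.IsQCoh F)
    (hFp : CohB1.IsFP F) (hG : Coh.IsQCoh G) (hGt : TorSh.IsTorsionFree G) :
    TorSh.IsTorsionFree (RefHull.homSh F G) := by
  intro x
  refine ⟨fun a ha => ?_⟩
  rw [isSMulRegular_iff_right_eq_zero_of_smul]
  intro m hm
  have ha0 : a ≠ 0 := ha.ne_zero
  -- representatives
  obtain ⟨Ua, hxa, r, rfl⟩ := TopCat.Presheaf.exists_germ_eq X.presheaf a
  obtain ⟨Um, hxm, f, rfl⟩ := TopCat.Presheaf.exists_germ_eq (RefHull.homSh F G).presheaf m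
  -- restrict both to the intersection
  set W : X.Opens := Ua ⊓ Um with hW
  have hxW : x ∈ W := ⟨hxa, hxm⟩
  set r' : Γ(X, W) := X.presheaf.map (homOfLE (inf_le_left : W ≤ Ua)).op r with hr'
  set f' : Γ(RefHull.homSh F G, W) :=
    (RefHull.homSh F G).presheaf.map (homOfLE (inf_le_right : W ≤ Um)).op f with hf'
  have e1 : X.presheaf.germ Ua x hxa r = X.presheaf.germ W x hxW r' :=
    (TopCat.Presheaf.germ_res_apply X.presheaf (homOfLE (inf_le_left : W ≤ Ua)) x hxW r).symm
  have e2 : (RefHull.homSh F G).presheaf.germ Um x hxm f =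
      (RefHull.homSh F G).presheaf.germ W x hxW f' :=
    (TopCat.Presheaf.germ_res_apply (RefHull.homSh F G).presheaf
      (homOfLE (inf_le_right : W ≤ Um)) x hxW f).symm
  rw [e1] at ha0
  rw [e1, e2, ← Mero.germ_smul] at hm
  rw [e2]
  have hm' : (RefHull.homSh F G).presheaf.germ W x hxW (r' • f') =
      (RefHull.homSh F G).presheaf.germ W x hxW 0 := by rw [hm, map_zero]
  obtain ⟨W', hxW', iU, iV, e⟩ :=
    TopCat.Presheaf.germ_eq (RefHull.homSh F G).presheaf x hxW hxW _ _ hm'
  -- the restriction of f' to W' vanishes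
  have hzero : (RefHull.homSh F G).presheaf.map iU.op f' = 0 := by
    refine Subtype.ext (funext fun y => ?_)
    have ey : X.presheaf.germ W y.1 (iU.le y.2) r' • f'.1 ⟨y.1, iU.le y.2⟩ = 0 :=
      congrArg (fun s : Γ(RefHull.homSh F G, W') => s.1 y) e
    change f'.1 ⟨y.1, iU.le y.2⟩ = 0
    -- the germ of r' at y is nonzero
    have hry : X.presheaf.germ W y.1 (iU.le y.2) r' ≠ 0 := by
      intro h0
      apply ha0
      have : r' = 0 := by
        apply germ_injective_of_isIntegral X y.1 (iU.le y.2)
        rw [h0, map_zero]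
      rw [this, map_zero]
    have := hGt y.1
    refine LinearMap.ext fun v => ?_
    have ev := congrArg (fun φ : RefHull.StalkHom F G y.1 => φ v) ey
    simp only [LinearMap.smul_apply, LinearMap.zero_apply] at ev
    rcases smul_eq_zero.mp ev with h | h
    · exact absurd h hry
    · exact h
  rw [← TopCat.Presheaf.germ_res_apply (RefHull.homSh F G).presheaf iU x hxW' f', hzero, map_zero]

end Groth.Agent.S16082
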