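import Groth.Statements.S16083
import Groth.Agent.Lib.Seat75Lattice
import Groth.Agent.Lib.Seat75OrdCompare
import Groth.Agent.Lib.Seat77HomFP
import Groth.Agent.Lib.Seat77LocGen
import Groth.Agent.Lib.Helper23FinPres

set_option autoImplicit false
universe u
open CategoryTheory CategoryTheory.Limits AlgebraicGeometry TopologicalSpace
open SDiv

namespace Groth.Agent.S16083

set_option linter.style.haveILetI false

open Groth.Agent.Lib.Seat75.HomExt Groth.Agent.Lib.Seat75.Lattice Groth.Agent.Lib.Seat75.OrdCompare
  Groth.Agent.Lib.Seat75.DualFrame Groth.Agent.Lib.Seat75.SecOrd RefHull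

/-- Suppose X is a normal scheme that is integral and locally Noetherian, write η for its generic point,
let F and G be coherent O_X-modules, and let T : G_η → F_η be an O_{X,η}-linear map of generic
stalks. Then T extends to a morphism G ⟶ F^** — there is a morphism ψ whose stalk map at η is T
followed by the stalk map at η of the canonical map F ⟶ F^** — if and only if for every point x with
dim O_{X,x} = 1 the map T sends the image of G_x in G_η into the image of F_x in F_η. -/
theorem result (X : Scheme.{u}) [IsIntegral X] [IsLocallyNoetherian X]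
    (hX : Pi1.IsNormalScheme X) (F G : X.Modules) (hF : Coh.IsCoh F) (hG : Coh.IsCoh G)
    (T : ↑(G.presheaf.stalk (genericPoint ↥X)) →ₗ[↑(X.presheaf.stalk (genericPoint ↥X))]
      ↑(F.presheaf.stalk (genericPoint ↥X))) :
    (∃ ψ : G ⟶ RefHull.ddual F, RefHull.stalkMapₗ ψ (genericPoint ↥X) =
        (RefHull.stalkMapₗ (RefHull.bidualMap F) (genericPoint ↥X)).comp T) ↔
      ∀ x : ↥X, ringKrullDim ↑(X.presheaf.stalk x) = 1 →
        Set.MapsTo ⇑T
          (Set.range ⇑(G.presheaf.stalkSpecializes ((genericPoint_spec ↥X).specializes (Set.mem_univ x))).hom)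
          (Set.range ⇑(F.presheaf.stalkSpecializes ((genericPoint_spec ↥X).specializes (Set.mem_univ x))).hom) := by
  constructor
  · rintro ⟨ψ, hψ⟩ x hdim
    rintro _ ⟨v, rfl⟩
    have hx : Order.coheight x = 1 := by
      rw [ringKrullDim_stalk_eq_coheight] at hdim
      exact_mod_cast hdim
    haveI := isDiscreteValuationRing_stalk hX x hx
    haveI : F.IsQuasicoherent := hF.1
    haveI : SheafOfModules.IsFiniteType (R := X.ringCatSheaf) F := hF.2
    have hFP : CohB1.IsFP F :=
      Groth.Agent.Lib.Helper23.FinType.isFinitePresentation_of_isFiniteType F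
    -- finiteness of the stalk
    obtain ⟨U₁, hxU₁, ι₁, hfin, s, hs⟩ :=
      Groth.Agent.Lib.Seat77.LocGen.exists_local_generators F hF.2 x
    haveI := hfin
    haveI : Module.Finite (X.presheaf.stalk x) (F.presheaf.stalk x) :=
      ⟨⟨(Set.finite_range fun i => F.presheaf.germ U₁ x hxU₁ (s i)).toFinset, by
        rw [Set.Finite.coe_toFinset]; exact hs x hxU₁⟩⟩
    set w := T (G.presheaf.stalkSpecializes (hη x) v) with hw
    -- coordinates
    obtain ⟨n, l, hl⟩ := exists_coords (R := X.presheaf.stalk x) (K := X.functionField)
      (M := F.presheaf.stalk x) (V := F.presheaf.stalk (genericPoint X))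
      (IsFractionRing.injective (X.presheaf.stalk x) X.functionField)
      (F.presheaf.stalkSpecializes (hη x)).hom
      (fun r m => stalkSpecializes_smul F (hη x) r m)
      (fun w' => exists_smul_eq_spec F x w')
    -- the linear forms as germs of sections of the dual
    have hθ : ∀ i, ∃ θ : (dual F).presheaf.stalk x,
        evalStalk F (Coh.structureModule X) x θ =
          (LinearMap.toSpanSingleton (X.presheaf.stalk x) _ (oneGerm x)).comp (l i) :=
      fun i => Groth.Agent.Lib.Seat77.HomFP.evalStalk_surjective F (Coh.structureModule X) hFP x _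
    choose θ hθ using hθ
    let E := genEquiv (oneGerm (genericPoint X)) (bijective_smul_oneGerm (genericPoint X))
    let Λ : Fin n → (F.presheaf.stalk (genericPoint X) →ₗ[X.functionField] X.functionField) :=
      fun i => E.symm.toLinearMap.comp
        (evalStalk F (Coh.structureModule X) (genericPoint X)
          ((dual F).presheaf.stalkSpecializes (hη x) (θ i)))
    have hE : ∀ c : X.presheaf.stalk x,
        E.symm ((Coh.structureModule X).presheaf.stalkSpecializes (hη x) (c • oneGerm x)) =
          algebraMap (X.presheaf.stalk x) X.functionField c := by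
      intro c
      rw [stalkSpecializes_smul, spec_oneGerm]
      exact genEquiv_symm_smul _ _ _
    have hmem := hl Λ (fun i m => by
      change E.symm (evalStalk F (Coh.structureModule X) (genericPoint X)
        ((dual F).presheaf.stalkSpecializes (hη x) (θ i)) (F.presheaf.stalkSpecializes (hη x) m)) = _
      rw [← evalStalk_specializes, hθ]
      exact hE (l i m)) w (fun i => by
      obtain ⟨c, hc⟩ := (bijective_smul_oneGerm x).2
        (evalStalk (dual F) (Coh.structureModule X) x (stalkMapₗ ψ x v) (θ i))
      refine ⟨c, ?_⟩
      have hc' : c • oneGerm x =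
        evalStalk (dual F) (Coh.structureModule X) x (stalkMapₗ ψ x v) (θ i) := hc
      rw [← hE c, hc', evalStalk_specializes, spec_stalkMapₗ, hψ, LinearMap.comp_apply,
        evalStalk_bidualMap, bidualAt_apply]
      rfl)
    obtain ⟨f, hf⟩ := hmem
    exact ⟨f, hf⟩
  · intro h
    have hT : MapsCodimOne F G T := by
      intro y hy v
      have hdim : ringKrullDim (X.presheaf.stalk y) = 1 := by
        rw [ringKrullDim_stalk_eq_coheight, hy]; rfl
      obtain ⟨f, hf⟩ := h y hdim ⟨v, rfl⟩
      exact ⟨f, hf.symm⟩
    exact ⟨extend hX hT, stalkMapₗ_extend hX hT⟩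

end Groth.Agent.S16083
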