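import Groth.Statements.S16084
import Groth.Agent.Lib.Seat75Hartogs
import Groth.Agent.Lib.Seat75Ref1Frame

set_option autoImplicit false
universe u
open CategoryTheory CategoryTheory.Limits AlgebraicGeometry TopologicalSpace
open SDiv

namespace Groth.Agent.S16084

open Groth.Agent.Lib.Seat75.Hartogs Groth.Agent.Lib.Seat75.Ref1Frame Groth.Agent.Lib.Seat75.SecOrd
  Groth.Agent.Lib.Seat75.DualFrame Groth.Agent.Lib.Helper6

/-- Let X be an integral locally Noetherian normal scheme, F a rank one coherent reflexive O_X-module
and s a nonzero global section of F. Let Z be the set of points x at which multiplication by the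
germ of s, O_{X,x} → F_x, fails to be bijective (the complement of the open where s generates F).
Then every irreducible component of Z has codimension 1 in X: at each point z of Z to which no other
point of Z specializes, the local ring O_{X,z} has dimension 1. -/
theorem result (X : Scheme.{u}) [IsIntegral X] [IsLocallyNoetherian X]
    (hX : Pi1.IsNormalScheme X) (F : X.Modules) (hF : RefHull.IsRef1 F) (s : Γ(F, ⊤)) (hs : s ≠ 0) (z : ↥X)
    (hz : ¬ Function.Bijective fun a : ↑(X.presheaf.stalk z) => a • F.presheaf.germ ⊤ z trivial s)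
    (hmax : ∀ y : ↥X, ¬ Function.Bijective (fun a : ↑(X.presheaf.stalk y) => a • F.presheaf.germ ⊤ y trivial s) →
      y ⤳ z → y = z) :
    ringKrullDim ↑(X.presheaf.stalk z) = 1 := by
  by_contra hdim
  apply hz
  obtain ⟨-, hrefl, hgi⟩ := hF
  set η := genericPoint X with hη
  have hsp : ∀ x : X, η ⤳ x := fun x => (genericPoint_spec X).specializes (Set.mem_univ x)
  -- germs of `s` and specialization
  have hgerm : ∀ (x y : X) (h : y ⤳ x), F.presheaf.stalkSpecializes h (F.presheaf.germ ⊤ x trivial s) =
      F.presheaf.germ ⊤ y trivial s := fun x y h =>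
    ConcreteCategory.congr_hom (TopCat.Presheaf.germ_stalkSpecializes F.presheaf (U := ⊤) trivial h) s
  -- the germ of `s` at the generic point is nonzero
  have hsη : F.presheaf.germ ⊤ η trivial s ≠ 0 := by
    intro h0
    have h0' : F.presheaf.germ ⊤ η trivial s = F.presheaf.germ ⊤ η trivial 0 := by
      rw [h0, map_zero]
    obtain ⟨W, hηW, hWU, hres⟩ := exists_res_eq_of_germ_eq F (W := ⊤) η trivial s 0 h0'
    exact hs (eq_zero_of_res_eq_zero F hrefl hWU ⟨_, hηW⟩ s (hres.trans (map_zero _)))
  -- `s` generates the generic stalk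
  obtain ⟨W₀, a, hηW₀, ha⟩ := exists_gen_generic F hgi
  have haη := bijective_smul_germ_of_isGen F ha η hηW₀
  have hbijη : Function.Bijective
      (fun c : X.presheaf.stalk η => c • F.presheaf.germ ⊤ η trivial s) := by
    obtain ⟨c, hc⟩ := haη.2 (F.presheaf.germ ⊤ η trivial s)
    have hc' : c • F.presheaf.germ W₀ η hηW₀ a = F.presheaf.germ ⊤ η trivial s := hc
    have hc0 : c ≠ 0 := by
      rintro rfl
      rw [zero_smul] at hc'
      exact hsη hc'.symm
    constructor
    · intro u v huv
      have huv' : u • F.presheaf.germ ⊤ η trivial s = v • F.presheaf.germ ⊤ η trivial s := huv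
      rw [← hc', smul_smul, smul_smul] at huv'
      exact mul_right_cancel₀ hc0 (haη.1 huv')
    · intro m
      obtain ⟨d, hd⟩ := haη.2 m
      have hd' : d • F.presheaf.germ W₀ η hηW₀ a = m := hd
      refine ⟨d * c⁻¹, ?_⟩
      change (d * c⁻¹) • F.presheaf.germ ⊤ η trivial s = m
      rw [← hc', smul_smul, mul_assoc, inv_mul_cancel₀ hc0, mul_one, hd']
  have hinjO : ∀ x : X, Function.Injective (algebraMap (X.presheaf.stalk x) X.functionField) :=
    fun x => IsFractionRing.injective _ _
  constructor
  · -- injectivity
    intro u v huv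
    have huv' : u • F.presheaf.germ ⊤ z trivial s = v • F.presheaf.germ ⊤ z trivial s := huv
    have h1 := congrArg (F.presheaf.stalkSpecializes (hsp z)) huv'
    rw [stalkSpecializes_smul, stalkSpecializes_smul, hgerm] at h1
    exact hinjO z (hbijη.1 h1)
  · -- surjectivity, by the local Hartogs lemma
    intro m
    obtain ⟨κ, hκ⟩ := hbijη.2 (F.presheaf.stalkSpecializes (hsp z) m)
    have hκ' : κ • F.presheaf.germ ⊤ η trivial s = F.presheaf.stalkSpecializes (hsp z) m := hκ
    have hmem : (κ : X.functionField) ∈
        Set.range (algebraMap (X.presheaf.stalk z) X.functionField) := by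
      apply local_hartogs hX z κ
      intro y hyz hy1
      have hyne : y ≠ z := by
        rintro rfl
        apply hdim
        rw [ringKrullDim_stalk_eq_coheight, hy1]
        rfl
      have hbijy : Function.Bijective
          (fun a : X.presheaf.stalk y => a • F.presheaf.germ ⊤ y trivial s) := by
        by_contra hnb
        exact hyne (hmax y hnb hyz)
      obtain ⟨c, hc⟩ := hbijy.2 (F.presheaf.stalkSpecializes hyz m)
      have hc' : c • F.presheaf.germ ⊤ y trivial s = F.presheaf.stalkSpecializes hyz m := hc
      refine ⟨c, ?_⟩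
      apply hbijη.1
      change algebraMap (X.presheaf.stalk y) X.functionField c • F.presheaf.germ ⊤ η trivial s =
        κ • F.presheaf.germ ⊤ η trivial s
      rw [hκ']
      have h2 := congrArg (F.presheaf.stalkSpecializes (hsp y)) hc'
      rw [stalkSpecializes_smul, hgerm] at h2
      have h3 : F.presheaf.stalkSpecializes (hsp y) (F.presheaf.stalkSpecializes hyz m) =
          F.presheaf.stalkSpecializes (hsp z) m :=
        ConcreteCategory.congr_hom (TopCat.Presheaf.stalkSpecializes_comp F.presheaf (hsp y) hyz) m
      rw [h3] at h2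
      exact h2
    obtain ⟨c, hc⟩ := hmem
    refine ⟨c, ?_⟩
    apply stalkSpecializes_injective F hrefl z (hsp z)
    change F.presheaf.stalkSpecializes (hsp z) (c • F.presheaf.germ ⊤ z trivial s) = _
    rw [stalkSpecializes_smul, hgerm, ← hκ', ← hc]
    rfl

end Groth.Agent.S16084
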