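import Groth.Statements.S16107
import Groth.Agent.Lib.Seat75HilbertUniv
import Groth.Agent.Lib.Helper25CoactAlg

set_option autoImplicit false
universe u v w
open LunaSt

namespace Groth.Agent.S16107

open TensorProduct HopfRep
open Groth.Agent.Lib.Helper25 Groth.Agent.Lib.Seat75.HilbertUniv

section Aux
variable (k : Type u) [Field k] (H : Type v) [CommRing H] [HopfAlgebra k H]
  (A : Type w) [CommRing A] [Algebra k A]

/-- The induced coaction `id ⊗ Δ` on `A ⊗ H`, as an algebra map. -/
noncomputable def indCoactHom : A ⊗[k] H →ₐ[k] (A ⊗[k] H) ⊗[k] H :=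
  ((Algebra.TensorProduct.assoc k k k A H H).symm : A ⊗[k] (H ⊗[k] H) →ₐ[k] (A ⊗[k] H) ⊗[k] H).comp
    (Algebra.TensorProduct.map (AlgHom.id k A) (Bialgebra.comulAlgHom k H))

theorem indCoactHom_toLinearMap :
    (indCoactHom k H A).toLinearMap = Hoch.Ind.coactAux k H A := by
  apply TensorProduct.ext'
  intro a h
  rw [Hoch.Ind.coactAux_tmul]
  simp only [indCoactHom, AlgHom.toLinearMap_apply, AlgHom.comp_apply,
    Algebra.TensorProduct.map_tmul, AlgHom.id_apply, Bialgebra.comulAlgHom_apply]
  rfl

/-- The induced comodule structure on the plain tensor product `A ⊗ H`. -/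
@[reducible] noncomputable def indComod : Comod k H (A ⊗[k] H) where
  coact := Hoch.Ind.coactAux k H A
  coassoc := (Hoch.Ind.comod k H A).coassoc
  counit_comp := (Hoch.Ind.comod k H A).counit_comp

theorem indComod_isCoactAlg :
    @GLin.IsCoactAlg k _ H _ _ (A ⊗[k] H) _ _ (indComod k H A) := by
  letI := indComod k H A
  constructor
  · change Hoch.Ind.coactAux k H A 1 = 1
    rw [← indCoactHom_toLinearMap]
    exact map_one (indCoactHom k H A)
  · intro f g
    change Hoch.Ind.coactAux k H A (f * g) = Hoch.Ind.coactAux k H A f * Hoch.Ind.coactAux k H A g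
    rw [← indCoactHom_toLinearMap]
    exact map_mul (indCoactHom k H A) f g

end Aux

section Syn
variable (k : Type u) [Field k] (H : Type v) [CommRing H] [HopfAlgebra k H]
  (A : Type w) [CommRing A] [Algebra k A]

/-- A synonym of `A ⊗ H` carrying the induced comodule structure `id ⊗ Δ` and (below) the
`A`-algebra structure through the coaction of `A`. -/
def D : Type (max w v) := A ⊗[k] H

noncomputable instance : CommRing (D k H A) := inferInstanceAs (CommRing (A ⊗[k] H))
noncomputable instance : Algebra k (D k H A) := inferInstanceAs (Algebra k (A ⊗[k] H))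
noncomputable instance : Comod k H (D k H A) := indComod k H A
instance : GLin.IsCoactAlg k H (D k H A) := indComod_isCoactAlg k H A

/-- The identity `A ⊗ H → D`, as an algebra map. -/
noncomputable def toD : A ⊗[k] H →ₐ[k] D k H A := AlgHom.id k (A ⊗[k] H)

theorem coact_toD (x : A ⊗[k] H) :
    Comod.coact (k := k) (A := H) (toD k H A x) = Hoch.Ind.coactAux k H A x := rfl

variable [Comod k H A] [GLin.IsCoactAlg k H A]

noncomputable instance algAD : Algebra A (D k H A) :=
  ((toD k H A).comp (GLin.coactAlgHom k H A)).toRingHom.toAlgebra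

theorem algebraMap_AD (a : A) :
    algebraMap A (D k H A) a = toD k H A (Comod.coact (k := k) (A := H) a) := rfl

instance : IsScalarTower k A (D k H A) :=
  IsScalarTower.of_algebraMap_eq (fun c =>
    (((toD k H A).comp (GLin.coactAlgHom k H A)).commutes c).symm)

theorem isComodHom_toAlgHom :
    Hoch.IsComodHom H (IsScalarTower.toAlgHom k A (D k H A)).toLinearMap := by
  apply LinearMap.ext
  intro a
  change Hoch.Ind.coactAux k H A (Comod.coact (k := k) (A := H) a) =
    (Comod.coact (k := k) (A := H)).rTensor H (Comod.coact (k := k) (A := H) a)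
  rw [coassoc_apply]
  rfl

omit [Comod k H A] [GLin.IsCoactAlg k H A] in
theorem tmul_one_mem_invariants (a : A) :
    toD k H A (a ⊗ₜ[k] (1 : H)) ∈ GLin.invariants k H (D k H A) := by
  rw [GLin.mem_invariants_iff, coact_toD, Hoch.Ind.coactAux_tmul, Bialgebra.comul_one]
  rfl

/-- `id ⊗ ε : D → A`. -/
noncomputable def retr : D k H A →ₐ[k] A :=
  (Algebra.TensorProduct.rid k k A).toAlgHom.comp
    (Algebra.TensorProduct.map (AlgHom.id k A) (Bialgebra.counitAlgHom k H))

omit [Comod k H A] [GLin.IsCoactAlg k H A] in
theorem retr_toD_tmul (a : A) (h : H) :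
    retr k H A (toD k H A (a ⊗ₜ[k] h)) = CoalgebraStruct.counit (R := k) h • a := by
  change (Algebra.TensorProduct.rid k k A)
    (Algebra.TensorProduct.map (AlgHom.id k A) (Bialgebra.counitAlgHom k H) (a ⊗ₜ[k] h)) = _
  rw [Algebra.TensorProduct.map_tmul, Algebra.TensorProduct.rid_tmul]
  rfl

theorem retr_algebraMap (a : A) : retr k H A (algebraMap A (D k H A) a) = a := by
  rw [algebraMap_AD]
  have h := counit_apply (k := k) (A := H) a
  have h2 : ∀ x : A ⊗[k] H, retr k H A (toD k H A x) =
      TensorProduct.rid k A ((CoalgebraStruct.counit (R := k) (A := H)).lTensor A x) := by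
    intro x
    induction x using TensorProduct.induction_on with
    | zero => simp
    | add x y hx hy => simp only [map_add, hx, hy]
    | tmul a h => simp [retr_toD_tmul]
  rw [h2, h]
  simp

end Syn

section FT
variable (k : Type u) [Field k] (H : Type v) [CommRing H] [HopfAlgebra k H]
  (A : Type w) [CommRing A] [Algebra k A] [Comod k H A] [GLin.IsCoactAlg k H A]

theorem finiteType_D [Algebra.FiniteType k H] : Algebra.FiniteType A (D k H A) := by
  classical
  obtain ⟨t, ht⟩ := (Algebra.FiniteType.out : (⊤ : Subalgebra k H).FG)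
  let incR : H →ₐ[k] D k H A :=
    (toD k H A).comp (Algebra.TensorProduct.includeRight : H →ₐ[k] A ⊗[k] H)
  refine ⟨⟨t.image incR, ?_⟩⟩
  set B : Subalgebra A (D k H A) := Algebra.adjoin A ((t.image incR : Finset (D k H A)) : Set (D k H A))
    with hB
  have h1 : ∀ h : H, incR h ∈ B := by
    intro h
    have hh : h ∈ Algebra.adjoin k (t : Set H) := by rw [ht]; trivial
    have h2 : incR h ∈ (Algebra.adjoin k (t : Set H)).map incR := ⟨h, hh, rfl⟩
    rw [AlgHom.map_adjoin] at h2
    have h3 : Algebra.adjoin k (incR '' (t : Set H)) ≤ B.restrictScalars k := by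
      apply Algebra.adjoin_le
      rintro _ ⟨x, hx, rfl⟩
      change incR x ∈ B
      rw [hB]
      apply Algebra.subset_adjoin
      rw [Finset.coe_image]
      exact ⟨x, hx, rfl⟩
    exact h3 h2
  have h3 : ∀ x : A ⊗[k] H, toD k H A (mulAntipode k H A
      ((Comod.coact (k := k) (A := H)).rTensor H x)) ∈ B := by
    intro x
    induction x using TensorProduct.induction_on with
    | zero => simp
    | add x y hx hy => simp only [map_add]; exact B.add_mem hx hy
    | tmul a h =>
      rw [LinearMap.rTensor_tmul, mulAntipode_tmul, map_mul]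
      apply B.mul_mem
      · rw [← algebraMap_AD]
        exact B.algebraMap_mem a
      · exact h1 (HopfAlgebra.antipode k h)
  have h4 : ∀ a : A, toD k H A (a ⊗ₜ[k] (1 : H)) ∈ B := by
    intro a
    rw [← mulAntipode_rTensor_coact (k := k) (A := H) a]
    exact h3 _
  rw [eq_top_iff]
  rintro x -
  change A ⊗[k] H at x
  change toD k H A x ∈ B
  induction x using TensorProduct.induction_on with
  | zero => simp
  | add x y hx hy => simp only [map_add]; exact B.add_mem hx hy
  | tmul a h =>
    have : (a ⊗ₜ[k] h : A ⊗[k] H) = (a ⊗ₜ[k] (1 : H)) * ((1 : A) ⊗ₜ[k] h) := by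
      rw [Algebra.TensorProduct.tmul_mul_tmul, mul_one, one_mul]
    rw [this, map_mul]
    exact B.mul_mem (h4 a) (h1 h)

end FT

/-- Let k be a field and H a commutative Hopf algebra of finite type over k all of whose
finite-dimensional comodules are semisimple (a linearly reductive affine group G = Spec H of finite
type). Let A be a Noetherian commutative k-algebra with a coaction of H that is an algebra map (an
action of G on Spec A). Then A is of finite type as an algebra over its subring of invariants A^G.
(The published statement is that a good moduli space with affine diagonal of a Noetherian algebraic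
stack is of finite type; this row is its case [Spec A/G] → Spec A^G.) -/
theorem result
    (k : Type u) [Field k] (H : Type v) [CommRing H] [HopfAlgebra k H] [Algebra.FiniteType k H]
    (hG : HopfRep.IsLinearlyReductive k H)
    (A : Type w) [CommRing A] [Algebra k A] [IsNoetherianRing A]
    [HopfRep.Comod k H A] [GLin.IsCoactAlg k H A] :
    Algebra.FiniteType ↥(GLin.invariants k H A) A := by
  classical
  haveI := finiteType_D k H A
  obtain ⟨s, hs⟩ := exists_finset_invariants_eq_adjoin_univ (k := k) (H := H) (A₀ := A)
    (R := D k H A) hG (isComodHom_toAlgHom k H A)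
  refine ⟨⟨s.image (retr k H A), ?_⟩⟩
  rw [eq_top_iff]
  intro a _
  have h1 : toD k H A (a ⊗ₜ[k] (1 : H)) ∈ GLin.invariants k H (D k H A) :=
    tmul_one_mem_invariants k H A a
  rw [hs] at h1
  have h2 : retr k H A (toD k H A (a ⊗ₜ[k] (1 : H))) ∈
      (Algebra.adjoin k (⇑(algebraMap A (D k H A)) '' ↑(GLin.invariants k H A) ∪ ↑s)).map
        (retr k H A) := ⟨_, h1, rfl⟩
  rw [retr_toD_tmul, Bialgebra.counit_one, one_smul, AlgHom.map_adjoin] at h2
  set B : Subalgebra (GLin.invariants k H A) A :=
    Algebra.adjoin (GLin.invariants k H A) ((s.image (retr k H A) : Finset A) : Set A) with hB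
  have h3 : Algebra.adjoin k (⇑(retr k H A) ''
      (⇑(algebraMap A (D k H A)) '' ↑(GLin.invariants k H A) ∪ ↑s)) ≤ B.restrictScalars k := by
    apply Algebra.adjoin_le
    rintro _ ⟨y, (⟨b, hb, rfl⟩ | hy), rfl⟩
    · rw [retr_algebraMap]
      exact B.algebraMap_mem ⟨b, hb⟩
    · change retr k H A y ∈ B
      rw [hB]
      apply Algebra.subset_adjoin
      rw [Finset.coe_image]
      exact ⟨y, hy, rfl⟩
  exact h3 h2

end Groth.Agent.S16107
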