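import Groth.Statements.S16113
import Groth.Agent.Lib.Seat24UnitsFGScheme

set_option autoImplicit false
universe u
open CategoryTheory MonoidalCategory CartesianMonoidalCategory MonObj GrpObj AlgebraicGeometry CategoryTheory.Limits
open AlgGrp

namespace Groth.Agent.S16113

/-- Over an algebraically closed field k, let X be an irreducible variety (an integral separated
k-scheme of finite type) and R = Γ(X, O_X). Then the quotient of the unit group R^× by the subgroup
k^× of nonzero constants is a free abelian group of finite rank: for some n there is a surjective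
group homomorphism from R^× onto ℤⁿ (written multiplicatively) whose kernel is exactly the image of
k^× under the structure map k → R. -/
theorem result (k : Type u) [Field k] [IsAlgClosed k]
    (X : Over (Spec (CommRingCat.of k))) [IsIntegral X.left] [IsSeparated X.hom] [LocallyOfFiniteType X.hom] [QuasiCompact X.hom] :
    ∃ (n : ℕ) (v : (Γ(X.left, ⊤))ˣ →* Multiplicative (Fin n → ℤ)), Function.Surjective v ∧
      v.ker = (Units.map (((Scheme.ΓSpecIso (CommRingCat.of k)).inv ≫ X.hom.appTop).hom : k →* Γ(X.left, ⊤))).range := by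
  classical
  -- a nonempty affine open
  obtain ⟨x⟩ : Nonempty X.left := inferInstance
  obtain ⟨_, ⟨U, hU, rfl⟩, hxU, -⟩ := (X.left.isBasis_affineOpens).exists_subset_of_mem_open
    (Set.mem_univ x) isOpen_univ
  have : Nonempty U := ⟨⟨x, hxU⟩⟩
  obtain ⟨n₀, φ, hφ⟩ := Groth.Agent.Lib.Seat24.UnitsFGScheme.exists_hom_of_affineOpen X.hom U hU
  set res := (X.left.presheaf.map (homOfLE (le_top : U ≤ ⊤)).op).hom with hres
  have hresinj : Function.Injective res := map_injective_of_isIntegral X.left (homOfLE le_top)
  set ck : k →+* Γ(X.left, ⊤) :=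
    ((Scheme.ΓSpecIso (CommRingCat.of k)).inv ≫ X.hom.appTop).hom with hck
  set C : Subgroup (Γ(X.left, ⊤))ˣ := (Units.map (ck : k →* Γ(X.left, ⊤))).range with hC
  -- key: a unit whose restriction to `U` is integral over `k` is a constant
  have key : ∀ u : (Γ(X.left, ⊤))ˣ, (res.comp ck).IsIntegralElem (res (u : Γ(X.left, ⊤))) →
      u ∈ C := by
    intro u hu
    let _ : Algebra k Γ(X.left, U) := (res.comp ck).toAlgebra
    have hu' : IsIntegral k (res (u : Γ(X.left, ⊤))) := hu
    have hirr := minpoly.irreducible hu'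
    have hdeg := IsAlgClosed.degree_eq_one_of_irreducible k hirr
    obtain ⟨c, hc⟩ := minpoly.mem_range_of_degree_eq_one k _ hdeg
    have hc' : ck c = (u : Γ(X.left, ⊤)) := hresinj hc
    have hc0 : c ≠ 0 := by
      rintro rfl
      rw [map_zero] at hc'
      exact u.ne_zero hc'.symm
    exact ⟨Units.mk0 c hc0, Units.ext hc'⟩
  have hker : φ.ker ≤ C := fun u hu => key u (hφ u hu)
  have hfg : Group.FG ((Γ(X.left, ⊤))ˣ ⧸ C) :=
    Groth.Agent.Lib.Seat24.UnitsFG.fg_quotient_of_ker_le φ C hker
  refine Groth.Agent.Lib.Seat24.UnitsFG.exists_hom_ker_eq C hfg (fun g m hm hgm => key g ?_)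
  obtain ⟨c, hc⟩ := hgm
  have hc' : ck (c : k) = (g : Γ(X.left, ⊤)) ^ m := by
    have := congrArg Units.val hc
    simpa using this
  refine ⟨Polynomial.X ^ m - Polynomial.C (c : k), Polynomial.monic_X_pow_sub_C _ hm.ne', ?_⟩
  simp only [Polynomial.eval₂_sub, Polynomial.eval₂_pow, Polynomial.eval₂_X, Polynomial.eval₂_C,
    RingHom.comp_apply, hc', map_pow, sub_self]

end Groth.Agent.S16113
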