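import Groth.Statements.S16131
import Mathlib
import Groth.Agent.Lib.Helper25OrbitLC
import Groth.Agent.Lib.Helper4VarDim9
import Groth.Agent.Lib.Helper12ClosureImage

set_option autoImplicit false
set_option linter.style.haveILetI false
universe u
open CategoryTheory MonoidalCategory CartesianMonoidalCategory MonObj GrpObj AlgebraicGeometry CategoryTheory.Limits
open AlgGrp

namespace Groth.Agent.S16131

open Groth.Agent.Lib.Helper4.VarDim

/-- Over an algebraically closed field k, let G be an algebraic group (a smooth k-group scheme of finite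
type, not necessarily connected) acting on a variety X (a reduced separated k-scheme of finite
type), and let x be a k-point of X with orbit G · x (the image of the orbit map). Then the boundary
cl(G · x) ∖ G · x has strictly smaller Krull dimension than G · x (both with the subspace topology
from X); so the orbit closure is the union of the orbit and of orbits of smaller dimension. -/
theorem result (k : Type u) [Field k] [IsAlgClosed k]
    (G X : Over (Spec (CommRingCat.of k))) [GrpObj G] [Smooth G.hom] [QuasiCompact G.hom]
    [IsReduced X.left] [IsSeparated X.hom] [LocallyOfFiniteType X.hom] [QuasiCompact X.hom]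
    (a : AlgGrp.Action G X) (x : 𝟙_ (Over (Spec (CommRingCat.of k))) ⟶ X) :
    topologicalKrullDim ↥(closure (Set.range (a.orbitMap x).left.base) \ Set.range (a.orbitMap x).left.base) <
      topologicalKrullDim ↥(Set.range (a.orbitMap x).left.base) := by
  letI : X.left.Over (Spec (CommRingCat.of k)) := ⟨X.hom⟩
  haveI : LocallyOfFiniteType (X.left ↘ Spec (CommRingCat.of k)) := ‹LocallyOfFiniteType X.hom›
  haveI : CompactSpace X.left := QuasiCompact.compactSpace_of_compactSpace X.hom
  haveI hGlft : LocallyOfFiniteType G.hom := inferInstance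
  have hlc : IsLocallyClosed (Set.range (a.orbitMap x).left.base) :=
    Groth.Agent.Lib.Helper25.OrbitLC.isLocallyClosed_range_orbitMap k G X a x
  have hBcl : IsClosed (closure (Set.range (a.orbitMap x).left.base) \
      Set.range (a.orbitMap x).left.base) := by
    have := hlc.isOpen_coborder
    rw [coborder] at this
    exact isOpen_compl_iff.mp this
  haveI hqc : QuasiCompact (a.orbitMap x).left := by
    have : QuasiCompact ((a.orbitMap x).left ≫ X.hom) := by rw [Over.w]; infer_instance
    exact QuasiCompact.of_comp (a.orbitMap x).left X.hom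
  obtain ⟨N, hN⟩ := exists_trdegNat_le k X.left
  rw [topologicalKrullDim_eq_iSup_trdegNat_of_isLocallyClosed k X.left _ hBcl.isLocallyClosed,
    topologicalKrullDim_eq_iSup_trdegNat_of_isLocallyClosed k X.left _ hlc]
  -- a point of the orbit of maximal transcendence degree
  have hbdd : BddAbove (Set.range fun s : Set.range (a.orbitMap x).left.base =>
      trdegNat k X.left s) := ⟨N, by rintro _ ⟨s, rfl⟩; exact hN s⟩
  have hne : (Set.range fun s : Set.range (a.orbitMap x).left.base =>
      trdegNat k X.left s).Nonempty := by
    obtain ⟨g⟩ : Nonempty G.left := by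
      have h0 : Nonempty (Spec (CommRingCat.of k)) := inferInstance
      obtain ⟨p⟩ := h0
      exact ⟨(η[G]).left.base p⟩
    exact ⟨_, ⟨⟨(a.orbitMap x).left.base g, g, rfl⟩, rfl⟩⟩
  obtain ⟨⟨s₀, hs₀⟩, hM⟩ := Nat.sSup_mem hne hbdd
  have hmax : ∀ s : Set.range (a.orbitMap x).left.base,
      trdegNat k X.left s ≤ trdegNat k X.left s₀ := fun s => by
    have hM' : trdegNat k X.left s₀ = sSup (Set.range fun s : Set.range (a.orbitMap x).left.base =>
      trdegNat k X.left s) := hM
    rw [hM']
    exact le_csSup hbdd ⟨s, rfl⟩
  have hRHS : ((trdegNat k X.left s₀ : ℕ) : WithBot ℕ∞) ≤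
      ⨆ t : Set.range (a.orbitMap x).left.base, ((trdegNat k X.left t : ℕ) : WithBot ℕ∞) :=
    le_iSup (fun t : Set.range (a.orbitMap x).left.base =>
      ((trdegNat k X.left t : ℕ) : WithBot ℕ∞)) ⟨s₀, hs₀⟩
  refine lt_of_lt_of_le ?_ hRHS
  have hlt : ∀ t : ↥(closure (Set.range (a.orbitMap x).left.base) \
      Set.range (a.orbitMap x).left.base), trdegNat k X.left t < trdegNat k X.left s₀ := by
    rintro ⟨t, ht1, ht2⟩
    obtain ⟨g, hg⟩ := Groth.Agent.Lib.Helper12.exists_specializes_of_mem_closure_range
      (a.orbitMap x).left t ht1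
    have hne' : (a.orbitMap x).left.base g ≠ t := fun h => ht2 ⟨g, h⟩
    exact (trdegNat_lt_of_specializes k X.left _ _ hg hne').trans_le
      (hmax ⟨(a.orbitMap x).left.base g, g, rfl⟩)
  rcases Nat.eq_zero_or_pos (trdegNat k X.left s₀) with h0 | hpos
  · have : IsEmpty ↥(closure (Set.range (a.orbitMap x).left.base) \
        Set.range (a.orbitMap x).left.base) := ⟨fun t => by have := hlt t; omega⟩
    rw [iSup_of_empty]
    exact WithBot.bot_lt_coe _
  · refine lt_of_le_of_lt (iSup_le fun t => ?_)
      (show (((trdegNat k X.left s₀ - 1 : ℕ) : ℕ∞) : WithBot ℕ∞) <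
        ((trdegNat k X.left s₀ : ℕ) : WithBot ℕ∞) by
        exact_mod_cast Nat.sub_lt hpos one_pos)
    have := hlt t
    exact_mod_cast Nat.le_sub_one_of_lt this

end Groth.Agent.S16131
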