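import Groth.Statements.S16133
import Groth.Agent.S1133
import Groth.Agent.Lib.Helper12Torsor
import Groth.Agent.Lib.Helper12AffineDescent
import Groth.Agent.Lib.Helper12Reduced
import Groth.Agent.Lib.Seat33GrpdRedCl
import Groth.Agent.Lib.Seat51AssocBundle

set_option autoImplicit false
universe u
open CategoryTheory MonoidalCategory CartesianMonoidalCategory MonObj GrpObj AlgebraicGeometry CategoryTheory.Limits
open AlgGrp

namespace Groth.Agent.S16133

set_option backward.isDefEq.respectTransparency.types false in
theorem pullback_fst_of {P : MorphismProperty Scheme.{u}} [P.IsStableUnderBaseChange]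
    {A B C : Scheme.{u}} (f : A ⟶ C) (g : B ⟶ C) (h : P g) : P (pullback.fst f g) :=
  MorphismProperty.pullback_fst _ _ h
open Groth.Agent.Lib.Seat51.AssocBundle in
/-- the descended object sits in a cartesian square over the torsor -/
theorem isPullback_q₀ {S : Scheme.{u}} {G X Y F : Over S} [GrpObj G]
    (a : AlgGrp.Action G X) (b : AlgGrp.Action G F) (φ : X ⟶ Y)
    (hcart : IsPullback a.act (snd G X) φ φ)
    (U : Over Y.left) (e : (Desc.toDD φ.left).obj U ≅ dd a b φ hcart) :
    IsPullback (fst X F).left (q₀ a b φ hcart U e) φ.left U.hom := by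
  refine IsPullback.of_iso (IsPullback.of_hasPullback φ.left U.hom)
    (e₁ := ⟨ehom a b φ hcart U e, einv a b φ hcart U e, ehom_einv a b φ hcart U e,
      einv_ehom a b φ hcart U e⟩) (Iso.refl _) (Iso.refl _) (Iso.refl _) ?_ ?_ ?_ ?_
  · show pullback.fst φ.left U.hom ≫ 𝟙 _ = ehom a b φ hcart U e ≫ (fst X F).left
    rw [Category.comp_id, ehom_fst]
  · show pullback.snd φ.left U.hom ≫ 𝟙 _ = ehom a b φ hcart U e ≫ q₀ a b φ hcart U e
    unfold q₀
    rw [Category.comp_id, ← Category.assoc, ehom_einv, Category.id_comp]
  · simp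
  · simp


/-- Over an algebraically closed field k, let G be an algebraic group (a smooth k-group scheme of finite
type), f : X → Y a principal G-bundle between varieties (X, Y reduced separated k-schemes of finite
type; σ the action on X; f flat and surjective with the square σ, p₂, f, f cartesian), and Z an
affine variety with an action τ of G. Then the associated fibre bundle X ×^G Z → Y exists: there are
a variety W (reduced, separated, of finite type over k), a morphism φ : X × Z → W which is invariant
for the diagonal action g · (x, z) = (g · x, g · z), and a morphism ψ : W → Y such that the square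
formed by p₁ : X × Z → X, φ, f and ψ is cartesian. (The published statement covers every
G-quasi-projective Z; affine G-varieties are G-quasi-projective, and only that case is stated here.) -/
theorem result (k : Type u) [Field k] [IsAlgClosed k]
    (G X Y Z : Over (Spec (CommRingCat.of k))) [GrpObj G] [Smooth G.hom] [QuasiCompact G.hom]
    [IsReduced X.left] [IsSeparated X.hom] [LocallyOfFiniteType X.hom] [QuasiCompact X.hom]
    [IsReduced Y.left] [IsSeparated Y.hom] [LocallyOfFiniteType Y.hom] [QuasiCompact Y.hom]
    [IsReduced Z.left] [IsAffine Z.left] [LocallyOfFiniteType Z.hom]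
    (a : AlgGrp.Action G X) (f : X ⟶ Y) [Flat f.left] [Surjective f.left]
    (hsq : IsPullback a.act.left (snd G X).left f.left f.left) (b : AlgGrp.Action G Z) :
    ∃ (W : Over (Spec (CommRingCat.of k))) (φ : X ⊗ Z ⟶ W) (ψ : W ⟶ Y),
      IsReduced W.left ∧ IsSeparated W.hom ∧ LocallyOfFiniteType W.hom ∧ QuasiCompact W.hom ∧
      lift ((G ◁ fst X Z) ≫ a.act) ((G ◁ snd X Z) ≫ b.act) ≫ φ = snd G (X ⊗ Z) ≫ φ ∧
      IsPullback (fst X Z).left φ.left f.left ψ.left := by
  have hw : a.act ≫ f = snd G X ≫ f := Over.OverMorphism.ext hsq.w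
  have hcart : IsPullback a.act (snd G X) f f := IsPullback.of_map (Over.forget _) hw hsq
  have hqc : QuasiCompact f.left := by
    have : QuasiCompact (f.left ≫ Y.hom) := by rw [Over.w f]; infer_instance
    exact QuasiCompact.of_comp f.left Y.hom
  have haffZ : IsAffineHom Z.hom := inferInstance
  have haffD : IsAffineHom (Groth.Agent.Lib.Seat51.AssocBundle.dd a b f hcart).obj.hom :=
    Groth.Agent.Lib.Seat51.AssocBundle.isAffineHom_dd a b f hcart
  obtain ⟨U, ⟨e⟩⟩ := Groth.Agent.S1133.result f.left
    (Groth.Agent.Lib.Seat51.AssocBundle.dd a b f hcart)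
  have hpb := isPullback_q₀ a b f hcart U e
  have hQ : (@Surjective ⊓ @Flat ⊓ @QuasiCompact : MorphismProperty Scheme.{u}) f.left :=
    ⟨⟨inferInstance, inferInstance⟩, hqc⟩
  have hfstaff : IsAffineHom (fst X Z).left := by
    show IsAffineHom (pullback.fst X.hom Z.hom)
    exact pullback_fst_of (P := @IsAffineHom) _ _ haffZ
  have hUaff : IsAffineHom U.hom :=
    Groth.Agent.Lib.Helper12.descendsAlong_isAffineHom.of_isPullback hpb hQ hfstaff
  have hfstlft : LocallyOfFiniteType (fst X Z).left := by
    show LocallyOfFiniteType (pullback.fst X.hom Z.hom)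
    exact pullback_fst_of (P := @LocallyOfFiniteType) _ _ inferInstance
  have hUlft : LocallyOfFiniteType U.hom :=
    MorphismProperty.of_isPullback_of_descendsAlong (P := @LocallyOfFiniteType)
      (Q := (@Surjective ⊓ @Flat ⊓ @QuasiCompact : MorphismProperty Scheme.{u})) hpb hQ hfstlft
  have hqflat : Flat (Groth.Agent.Lib.Seat51.AssocBundle.q₀ a b f hcart U e) :=
    MorphismProperty.of_isPullback (P := @Flat) hpb inferInstance
  have hqsurj : Surjective (Groth.Agent.Lib.Seat51.AssocBundle.q₀ a b f hcart U e) :=
    MorphismProperty.of_isPullback (P := @Surjective) hpb inferInstance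
  have hperf : PerfectField k := inferInstance
  have hredXZ : IsReduced (X ⊗ Z).left := by
    show IsReduced (pullback X.hom Z.hom)
    exact Groth.Agent.Lib.Seat33.GrpdRedCl.isReduced_pullback_of_perfectField (k := k) (Iso.refl _)
      X.hom Z.hom
  have hredU : IsReduced U.left :=
    Groth.Agent.Lib.Helper12.Reduced.isReduced_of_flat_of_surjective
      (Groth.Agent.Lib.Seat51.AssocBundle.q₀ a b f hcart U e)
  refine ⟨Over.mk (U.hom ≫ Y.hom), Groth.Agent.Lib.Seat51.AssocBundle.qmap a b f hcart U e,
    Over.homMk U.hom rfl, hredU, ?_, ?_, ?_, ?_, hpb⟩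
  · show IsSeparated (U.hom ≫ Y.hom)
    infer_instance
  · show LocallyOfFiniteType (U.hom ≫ Y.hom)
    infer_instance
  · show QuasiCompact (U.hom ≫ Y.hom)
    infer_instance
  · exact (Groth.Agent.Lib.Seat51.AssocBundle.isPullback_qmap a b f hcart U e).w

end Groth.Agent.S16133
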