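import Groth.Statements.S16153
import Groth.Agent.Lib.Seat77SpinRat

set_option autoImplicit false
universe u
open SpinRat

namespace Groth.Agent.S16153

open MvPolynomial in
/-- In the bigraded polynomial ring k[x0, x1, y0, y1] of the quadric surface (variables X 0, X 1, X 2, X
3 in this order), over a field k of characteristic zero, let iota exchange x_i with y_i, let l = x0
y1 - x1 y0 be the diagonal, h1 = x0 (y1 - y0) + y0 (x1 - x0), h2 = x1 (y0 - y1) + y1 (x0 - x1), h3 =
x0 y1 + x1 y0, h = h1 + h2 + h3, h13 = h1 - h3, h23 = h2 - h3, and let c = x0 x1 (x0 - x1) y0 y1 (y0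
- y1) be the product of the six rulings through the three diagonal points (1:0)x(1:0), (0:1)x(0:1),
(1:1)x(1:1). Let I be the space of forms of bidegree (3,3) whose restriction to the diagonal is
divisible by (x0 x1 (x0 - x1))^2, that is, the bidegree-(3,3) forms through the length-six subscheme
of the diagonal doubled at those three points. Then the iota-invariant forms in I are exactly the
span of c, l^2 h, l^2 h13, l^2 h23; the iota-anti-invariant forms in I are exactly the span of l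
h^2, l h h13, l h h23, l h13^2, l h23^2, l h13 h23; and these ten forms are linearly independent.
(The source works over the complex numbers and writes the two eigenspaces as direct sums of the
displayed pieces; the six-line form c is read as the product of the two cubic factors.) -/
theorem result
    (k : Type u) [Field k] [CharZero k]
    (l h1 h2 h3 h h13 h23 c : MvPolynomial (Fin 4) k)
    (hl : l = X 0 * X 3 - X 1 * X 2)
    (hh1 : h1 = X 0 * (X 3 - X 2) + X 2 * (X 1 - X 0))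
    (hh2 : h2 = X 1 * (X 2 - X 3) + X 3 * (X 0 - X 1))
    (hh3 : h3 = X 0 * X 3 + X 1 * X 2)
    (hh : h = h1 + h2 + h3) (hh13 : h13 = h1 - h3) (hh23 : h23 = h2 - h3)
    (hc : c = X 0 * X 1 * (X 0 - X 1) * (X 2 * X 3 * (X 2 - X 3)))
    (I : Submodule k (MvPolynomial (Fin 4) k))
    (hI : ∀ f, f ∈ I ↔
      (f.IsWeightedHomogeneous (![1, 1, 0, 0] : Fin 4 → ℕ) 3 ∧
       f.IsWeightedHomogeneous (![0, 0, 1, 1] : Fin 4 → ℕ) 3 ∧
       (X 0 * X 1 * (X 0 - X 1)) ^ 2 ∣ rename (![0, 1, 0, 1] : Fin 4 → Fin 2) f)) :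
    (∀ f, (f ∈ I ∧ rename (![2, 3, 0, 1] : Fin 4 → Fin 4) f = f) ↔
        f ∈ Submodule.span k ({c, l ^ 2 * h, l ^ 2 * h13, l ^ 2 * h23} : Set (MvPolynomial (Fin 4) k))) ∧
    (∀ f, (f ∈ I ∧ rename (![2, 3, 0, 1] : Fin 4 → Fin 4) f = -f) ↔
        f ∈ Submodule.span k ({l * h ^ 2, l * h * h13, l * h * h23, l * h13 ^ 2, l * h23 ^ 2, l * h13 * h23} :
          Set (MvPolynomial (Fin 4) k))) ∧
    LinearIndependent k
      ![c, l ^ 2 * h, l ^ 2 * h13, l ^ 2 * h23, l * h ^ 2, l * h * h13, l * h * h23, l * h13 ^ 2, l * h23 ^ 2,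
        l * h13 * h23] := by
  classical
  obtain rfl : l = Groth.Agent.Lib.Seat77.SpinRat.l k := hl
  obtain rfl : h1 = Groth.Agent.Lib.Seat77.SpinRat.h1 k := hh1
  obtain rfl : h2 = Groth.Agent.Lib.Seat77.SpinRat.h2 k := hh2
  obtain rfl : h3 = Groth.Agent.Lib.Seat77.SpinRat.h3 k := hh3
  obtain rfl : h = Groth.Agent.Lib.Seat77.SpinRat.h k := hh
  obtain rfl : h13 = Groth.Agent.Lib.Seat77.SpinRat.h13 k := hh13
  obtain rfl : h23 = Groth.Agent.Lib.Seat77.SpinRat.h23 k := hh23
  obtain rfl : c = Groth.Agent.Lib.Seat77.SpinRat.c k := hc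
  -- membership of `l * a * b` and `l^2 * a`
  have hlab : ∀ a b : MvPolynomial (Fin 4) k,
      a.IsWeightedHomogeneous Groth.Agent.Lib.Seat77.SpinRat.w1 1 →
      a.IsWeightedHomogeneous Groth.Agent.Lib.Seat77.SpinRat.w2 1 →
      b.IsWeightedHomogeneous Groth.Agent.Lib.Seat77.SpinRat.w1 1 →
      b.IsWeightedHomogeneous Groth.Agent.Lib.Seat77.SpinRat.w2 1 →
      Groth.Agent.Lib.Seat77.SpinRat.l k * a * b ∈ I := by
    intro a b ha1 ha2 hb1 hb2
    rw [hI]
    refine ⟨Groth.Agent.Lib.Seat77.SpinRat.lxy_w Groth.Agent.Lib.Seat77.SpinRat.l_w1 ha1 hb1,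
      Groth.Agent.Lib.Seat77.SpinRat.lxy_w Groth.Agent.Lib.Seat77.SpinRat.l_w2 ha2 hb2, ?_⟩
    have : rename (![0, 1, 0, 1] : Fin 4 → Fin 2) (Groth.Agent.Lib.Seat77.SpinRat.l k * a * b) = 0 := by
      rw [map_mul, map_mul]
      have := Groth.Agent.Lib.Seat77.SpinRat.Δ_l (k := k)
      rw [show rename (![0, 1, 0, 1] : Fin 4 → Fin 2) (Groth.Agent.Lib.Seat77.SpinRat.l k) = 0 from this]
      ring
    rw [this]
    exact dvd_zero _
  have hcI : Groth.Agent.Lib.Seat77.SpinRat.c k ∈ I := by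
    rw [hI]
    refine ⟨Groth.Agent.Lib.Seat77.SpinRat.c_w1, Groth.Agent.Lib.Seat77.SpinRat.c_w2, ?_⟩
    have := Groth.Agent.Lib.Seat77.SpinRat.Δ_c (k := k)
    rw [show rename (![0, 1, 0, 1] : Fin 4 → Fin 2) (Groth.Agent.Lib.Seat77.SpinRat.c k) = _ from this]
  have hιmul : ∀ a b : MvPolynomial (Fin 4) k, rename (![2, 3, 0, 1] : Fin 4 → Fin 4) (a * b) =
      rename (![2, 3, 0, 1] : Fin 4 → Fin 4) a * rename (![2, 3, 0, 1] : Fin 4 → Fin 4) b :=
    fun a b => map_mul _ a b
  have ιl : rename (![2, 3, 0, 1] : Fin 4 → Fin 4) (Groth.Agent.Lib.Seat77.SpinRat.l k) =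
      -Groth.Agent.Lib.Seat77.SpinRat.l k := Groth.Agent.Lib.Seat77.SpinRat.ι_l
  have ιh : rename (![2, 3, 0, 1] : Fin 4 → Fin 4) (Groth.Agent.Lib.Seat77.SpinRat.h k) =
      Groth.Agent.Lib.Seat77.SpinRat.h k := Groth.Agent.Lib.Seat77.SpinRat.ι_h
  have ιh13 : rename (![2, 3, 0, 1] : Fin 4 → Fin 4) (Groth.Agent.Lib.Seat77.SpinRat.h13 k) =
      Groth.Agent.Lib.Seat77.SpinRat.h13 k := Groth.Agent.Lib.Seat77.SpinRat.ι_h13
  have ιh23 : rename (![2, 3, 0, 1] : Fin 4 → Fin 4) (Groth.Agent.Lib.Seat77.SpinRat.h23 k) =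
      Groth.Agent.Lib.Seat77.SpinRat.h23 k := Groth.Agent.Lib.Seat77.SpinRat.ι_h23
  have ιc : rename (![2, 3, 0, 1] : Fin 4 → Fin 4) (Groth.Agent.Lib.Seat77.SpinRat.c k) =
      Groth.Agent.Lib.Seat77.SpinRat.c k := Groth.Agent.Lib.Seat77.SpinRat.ι_c
  -- decomposition data for an element of `I`
  have hdata : ∀ f ∈ I, f = ∑ i : Fin 4, ∑ j : Fin 4,
      coeff (Groth.Agent.Lib.Seat77.SpinRat.mexp i j) f • Groth.Agent.Lib.Seat77.SpinRat.mono k i j := by
    intro f hf
    rw [hI] at hf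
    exact Groth.Agent.Lib.Seat77.SpinRat.decomp hf.1 hf.2.1
  refine ⟨fun f => ⟨?_, ?_⟩, fun f => ⟨?_, ?_⟩, ?_⟩
  · -- invariant forms in `I` lie in the span
    rintro ⟨hfI, hfι⟩
    have hdec := hdata f hfI
    have hsym : ∀ i j, coeff (Groth.Agent.Lib.Seat77.SpinRat.mexp i j) f =
        coeff (Groth.Agent.Lib.Seat77.SpinRat.mexp j i) f := by
      intro i j
      have := Groth.Agent.Lib.Seat77.SpinRat.coeff_ι f i j
      rwa [show Groth.Agent.Lib.Seat77.SpinRat.ι k f = f from hfι] at this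
    have hdiv : (X 0 * X 1 * (X 0 - X 1)) ^ 2 ∣ Groth.Agent.Lib.Seat77.SpinRat.Δ k (∑ i : Fin 4, ∑ j : Fin 4,
        coeff (Groth.Agent.Lib.Seat77.SpinRat.mexp i j) f • Groth.Agent.Lib.Seat77.SpinRat.mono k i j) := by
      rw [← hdec]
      exact ((hI f).mp hfI).2.2
    obtain ⟨e, r0, r6, r1, r5, r2, r3, r4⟩ := Groth.Agent.Lib.Seat77.SpinRat.diag_relations
      (fun i j => coeff (Groth.Agent.Lib.Seat77.SpinRat.mexp i j) f) hdiv
    have key := hdec.trans (Groth.Agent.Lib.Seat77.SpinRat.inv_case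
      (fun i j => coeff (Groth.Agent.Lib.Seat77.SpinRat.mexp i j) f) hsym e r0 r6 r1 r5 r2 r3 r4)
    rw [key]
    refine Submodule.add_mem _ (Submodule.add_mem _ (Submodule.add_mem _ ?_ ?_) ?_) ?_ <;>
      exact Submodule.smul_mem _ _ (Submodule.subset_span (by simp))
  · -- the span consists of invariant forms in `I`
    intro hf
    have hle : Submodule.span k ({Groth.Agent.Lib.Seat77.SpinRat.c k,
        Groth.Agent.Lib.Seat77.SpinRat.l k ^ 2 * Groth.Agent.Lib.Seat77.SpinRat.h k,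
        Groth.Agent.Lib.Seat77.SpinRat.l k ^ 2 * Groth.Agent.Lib.Seat77.SpinRat.h13 k,
        Groth.Agent.Lib.Seat77.SpinRat.l k ^ 2 * Groth.Agent.Lib.Seat77.SpinRat.h23 k} :
          Set (MvPolynomial (Fin 4) k)) ≤
        I ⊓ LinearMap.eqLocus (Groth.Agent.Lib.Seat77.SpinRat.ι k).toLinearMap LinearMap.id := by
      rw [Submodule.span_le]
      rintro g (rfl | rfl | rfl | rfl)
      · exact ⟨hcI, ιc⟩
      · refine ⟨?_, ?_⟩
        · rw [sq]
          exact hlab _ _ Groth.Agent.Lib.Seat77.SpinRat.l_w1 Groth.Agent.Lib.Seat77.SpinRat.l_w2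
            Groth.Agent.Lib.Seat77.SpinRat.h_w1 Groth.Agent.Lib.Seat77.SpinRat.h_w2
        · show rename _ _ = _
          rw [hιmul, map_pow, ιl, ιh]
          simp only [LinearMap.id_coe, id_eq, LinearMap.neg_apply]
          try ring
      · refine ⟨?_, ?_⟩
        · rw [sq]
          exact hlab _ _ Groth.Agent.Lib.Seat77.SpinRat.l_w1 Groth.Agent.Lib.Seat77.SpinRat.l_w2
            Groth.Agent.Lib.Seat77.SpinRat.h13_w1 Groth.Agent.Lib.Seat77.SpinRat.h13_w2
        · show rename _ _ = _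
          rw [hιmul, map_pow, ιl, ιh13]
          simp only [LinearMap.id_coe, id_eq, LinearMap.neg_apply]
          try ring
      · refine ⟨?_, ?_⟩
        · rw [sq]
          exact hlab _ _ Groth.Agent.Lib.Seat77.SpinRat.l_w1 Groth.Agent.Lib.Seat77.SpinRat.l_w2
            Groth.Agent.Lib.Seat77.SpinRat.h23_w1 Groth.Agent.Lib.Seat77.SpinRat.h23_w2
        · show rename _ _ = _
          rw [hιmul, map_pow, ιl, ιh23]
          simp only [LinearMap.id_coe, id_eq, LinearMap.neg_apply]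
          try ring
    exact hle hf
  · -- anti-invariant forms in `I` lie in the span
    rintro ⟨hfI, hfι⟩
    have hdec := hdata f hfI
    have hanti : ∀ i j, coeff (Groth.Agent.Lib.Seat77.SpinRat.mexp i j) f =
        -coeff (Groth.Agent.Lib.Seat77.SpinRat.mexp j i) f := by
      intro i j
      have := Groth.Agent.Lib.Seat77.SpinRat.coeff_ι f j i
      rw [show Groth.Agent.Lib.Seat77.SpinRat.ι k f = -f from hfι, coeff_neg] at this
      rw [← this]
    have key := hdec.trans (Groth.Agent.Lib.Seat77.SpinRat.anti_case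
      (fun i j => coeff (Groth.Agent.Lib.Seat77.SpinRat.mexp i j) f) hanti)
    rw [key]
    refine Submodule.add_mem _ (Submodule.add_mem _ (Submodule.add_mem _ (Submodule.add_mem _
      (Submodule.add_mem _ ?_ ?_) ?_) ?_) ?_) ?_ <;>
      exact Submodule.smul_mem _ _ (Submodule.subset_span (by simp))
  · -- the span consists of anti-invariant forms in `I`
    intro hf
    have hle : Submodule.span k ({Groth.Agent.Lib.Seat77.SpinRat.l k * Groth.Agent.Lib.Seat77.SpinRat.h k ^ 2,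
        Groth.Agent.Lib.Seat77.SpinRat.l k * Groth.Agent.Lib.Seat77.SpinRat.h k * Groth.Agent.Lib.Seat77.SpinRat.h13 k,
        Groth.Agent.Lib.Seat77.SpinRat.l k * Groth.Agent.Lib.Seat77.SpinRat.h k * Groth.Agent.Lib.Seat77.SpinRat.h23 k,
        Groth.Agent.Lib.Seat77.SpinRat.l k * Groth.Agent.Lib.Seat77.SpinRat.h13 k ^ 2,
        Groth.Agent.Lib.Seat77.SpinRat.l k * Groth.Agent.Lib.Seat77.SpinRat.h23 k ^ 2,
        Groth.Agent.Lib.Seat77.SpinRat.l k * Groth.Agent.Lib.Seat77.SpinRat.h13 k * Groth.Agent.Lib.Seat77.SpinRat.h23 k} :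
          Set (MvPolynomial (Fin 4) k)) ≤
        I ⊓ LinearMap.eqLocus (Groth.Agent.Lib.Seat77.SpinRat.ι k).toLinearMap (-LinearMap.id) := by
      rw [Submodule.span_le]
      rintro g (rfl | rfl | rfl | rfl | rfl | rfl)
      · refine ⟨?_, ?_⟩
        · rw [sq, ← mul_assoc]
          exact hlab _ _ Groth.Agent.Lib.Seat77.SpinRat.h_w1 Groth.Agent.Lib.Seat77.SpinRat.h_w2
            Groth.Agent.Lib.Seat77.SpinRat.h_w1 Groth.Agent.Lib.Seat77.SpinRat.h_w2
        · show rename _ _ = -_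
          rw [hιmul, map_pow, ιl, ιh]
          simp only [LinearMap.id_coe, id_eq, LinearMap.neg_apply]
          try ring
      · refine ⟨?_, ?_⟩
        · exact hlab _ _ Groth.Agent.Lib.Seat77.SpinRat.h_w1 Groth.Agent.Lib.Seat77.SpinRat.h_w2
            Groth.Agent.Lib.Seat77.SpinRat.h13_w1 Groth.Agent.Lib.Seat77.SpinRat.h13_w2
        · show rename _ _ = -_
          rw [hιmul, hιmul, ιl, ιh, ιh13]
          simp only [LinearMap.id_coe, id_eq, LinearMap.neg_apply]
          try ring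
      · refine ⟨?_, ?_⟩
        · exact hlab _ _ Groth.Agent.Lib.Seat77.SpinRat.h_w1 Groth.Agent.Lib.Seat77.SpinRat.h_w2
            Groth.Agent.Lib.Seat77.SpinRat.h23_w1 Groth.Agent.Lib.Seat77.SpinRat.h23_w2
        · show rename _ _ = -_
          rw [hιmul, hιmul, ιl, ιh, ιh23]
          simp only [LinearMap.id_coe, id_eq, LinearMap.neg_apply]
          try ring
      · refine ⟨?_, ?_⟩
        · rw [sq, ← mul_assoc]
          exact hlab _ _ Groth.Agent.Lib.Seat77.SpinRat.h13_w1 Groth.Agent.Lib.Seat77.SpinRat.h13_w2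
            Groth.Agent.Lib.Seat77.SpinRat.h13_w1 Groth.Agent.Lib.Seat77.SpinRat.h13_w2
        · show rename _ _ = -_
          rw [hιmul, map_pow, ιl, ιh13]
          simp only [LinearMap.id_coe, id_eq, LinearMap.neg_apply]
          try ring
      · refine ⟨?_, ?_⟩
        · rw [sq, ← mul_assoc]
          exact hlab _ _ Groth.Agent.Lib.Seat77.SpinRat.h23_w1 Groth.Agent.Lib.Seat77.SpinRat.h23_w2
            Groth.Agent.Lib.Seat77.SpinRat.h23_w1 Groth.Agent.Lib.Seat77.SpinRat.h23_w2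
        · show rename _ _ = -_
          rw [hιmul, map_pow, ιl, ιh23]
          simp only [LinearMap.id_coe, id_eq, LinearMap.neg_apply]
          try ring
      · refine ⟨?_, ?_⟩
        · exact hlab _ _ Groth.Agent.Lib.Seat77.SpinRat.h13_w1 Groth.Agent.Lib.Seat77.SpinRat.h13_w2
            Groth.Agent.Lib.Seat77.SpinRat.h23_w1 Groth.Agent.Lib.Seat77.SpinRat.h23_w2
        · show rename _ _ = -_
          rw [hιmul, hιmul, ιl, ιh13, ιh23]
          simp only [LinearMap.id_coe, id_eq, LinearMap.neg_apply]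
          try ring
    have := hle hf
    refine ⟨this.1, ?_⟩
    have h2 := this.2
    simp only [SetLike.mem_coe, LinearMap.mem_eqLocus, AlgHom.toLinearMap_apply, LinearMap.neg_apply,
      LinearMap.id_coe, id_eq] at h2
    exact h2
  · -- linear independence
    rw [Fintype.linearIndependent_iff]
    intro t ht
    apply Groth.Agent.Lib.Seat77.SpinRat.eq_zero_of_sum_eq_zero t
    simp [Fin.sum_univ_succ] at ht
    linear_combination (exp := 1) ht

end Groth.Agent.S16153
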