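import Groth.Statements.S16162
-- import your own Groth.Agent.* helpers here

set_option autoImplicit false
open CategoryTheory MonoidalCategory CartesianMonoidalCategory MonObj GrpObj AlgebraicGeometry
universe u
open MadRed

namespace Groth.Agent.S16162

/-- Let S be a scheme, G a group scheme over S, and X an S-scheme with an action of G making X → S a
principal G-bundle (a torsor in the representable fppf sense: X → S surjective, flat and locally of
finite presentation, and G ×_S X → X ×_S X, (g, x) ↦ (g·x, x), an isomorphism). Let P be a closed
subset of X stable under the action: the action map sends into P every point of G ×_S X whose second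
projection lies in P. Then the image of P in S is closed, and P is the full preimage of its image.
(The source works with varieties over the complex numbers and an affine algebraic group; the
assertion holds over any base. Its second assertion, that P → image is again a principal bundle for
the induced reduced structures, then comes from base change and is not part of this row.) -/
theorem result {S : Scheme.{u}}
    {G X : Over S} [GrpObj G] (a : AlgGrp.Action G X) (ha : RedSub.IsTorsor a)
    (P : Set X.left) (hP : IsClosed P)
    (hstab : ∀ w : (G ⊗ X).left, (snd G X).left.base w ∈ P → a.act.left.base w ∈ P) :
    IsClosed (X.hom.base '' P) ∧ X.hom.base ⁻¹' (X.hom.base '' P) = P := by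
  obtain ⟨hsurj, hflat, hfp, hiso⟩ := ha
  have hpre : X.hom.base ⁻¹' (X.hom.base '' P) = P := by
    apply Set.Subset.antisymm
    · rintro x ⟨p, hp, hpx⟩
      -- a point of X ×_S X over (x, p)
      obtain ⟨z, hz1, hz2⟩ := Scheme.Pullback.exists_preimage_pullback
        (f := X.hom) (g := X.hom) x p hpx.symm
      have e1 : (fst X X).left = Limits.pullback.fst X.hom X.hom := Over.fst_left
      have e2 : (snd X X).left = Limits.pullback.snd X.hom X.hom := Over.snd_left
      let z' : (X ⊗ X).left := z
      let w : (G ⊗ X).left := (inv (lift a.act (snd G X))).left.base z'
      have h1 : (snd G X).left.base w = p := by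
        have : inv (lift a.act (snd G X)) ≫ snd G X = snd X X := by
          rw [IsIso.inv_comp_eq, lift_snd]
        have h := congrArg (fun f => f.left.base z') this
        simp only [Over.comp_left, Scheme.Hom.comp_base] at h
        rw [e2] at h
        exact h.trans hz2
      have h2 : a.act.left.base w = x := by
        have : inv (lift a.act (snd G X)) ≫ a.act = fst X X := by
          rw [IsIso.inv_comp_eq, lift_fst]
        have h := congrArg (fun f => f.left.base z') this
        simp only [Over.comp_left, Scheme.Hom.comp_base] at h
        rw [e1] at h
        exact h.trans hz1
      rw [← h2]
      exact hstab w (h1 ▸ hp)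
    · exact Set.subset_preimage_image _ _
  refine ⟨?_, hpre⟩
  have hopen : IsOpenMap X.hom.base := X.hom.isOpenMap
  have hq : Topology.IsQuotientMap X.hom.base :=
    hopen.isQuotientMap X.hom.continuous hsurj.surj
  rw [← hq.isClosed_preimage, hpre]
  exact hP

end Groth.Agent.S16162
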