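import Groth.Statements.S16212
import Groth.Agent.Lib.Seat72FixSmooth
import Groth.Agent.S13206

set_option autoImplicit false
set_option linter.style.haveILetI false
universe u v
open CategoryTheory AlgebraicGeometry
open AlgGrp

namespace Groth.Agent.S16212

/-- Let S be a scheme, X an S-scheme that is smooth, separated and of finite presentation over S, and G
a finite group whose order is invertible on S (a unit among the global functions of S) acting on X
by S-automorphisms. Then the scheme of G-fixed points of X, namely any S-scheme Z with an S-morphism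
ι to X that is itself fixed by every element of G (ι followed by the automorphism of each g equals
ι) and such that an S-morphism T → X is fixed by every element of G exactly when it factors through
ι, and then uniquely, is a closed subscheme of X (ι is a closed immersion) which is smooth and of
finite presentation over S (smooth, quasi-compact and quasi-separated). The published statement
assumes X only smooth and of finite presentation over S; this row also assumes X separated over S. -/
theorem result (S : Scheme.{u})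
    (X : Over S) [Smooth X.hom] [QuasiCompact X.hom] [IsSeparated X.hom]
    (G : Type v) [Group G] [Finite G] (ρ : G →* Aut X)
    (hG : IsUnit (Nat.card G : Γ(S, ⊤)))
    (Z : Over S) (ι : Z ⟶ X) (hι : ∀ g : G, ι ≫ (ρ g).hom = ι)
    (hZ : ∀ (T : Over S) (t : T ⟶ X), (∀ g : G, t ≫ (ρ g).hom = t) ↔ ∃! t' : T ⟶ Z, t' ≫ ι = t) :
    IsClosedImmersion ι.left ∧ Smooth Z.hom ∧ QuasiCompact Z.hom ∧ QuasiSeparated Z.hom := by
  classical
  let ρ₁ : G →* Aut X.left := ((Over.forget S).mapAut X).comp ρ
  have hρ₁ : ∀ g : G, (ρ₁ g).hom = (ρ g).hom.left := fun g => rfl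
  let H : Subgroup (Aut X.left) := ρ₁.range
  haveI : Finite H := Finite.of_surjective ρ₁.rangeRestrict ρ₁.rangeRestrict_surjective
  have hHρ : ∀ h : H, (H.subtype h).hom ≫ X.hom = X.hom := by
    rintro ⟨_, g, rfl⟩
    exact Over.w (ρ g).hom
  have hcard : IsUnit ((Nat.card H : ℕ) : Γ(S, ⊤)) := by
    obtain ⟨k, hk⟩ := Subgroup.card_dvd_of_surjective ρ₁.rangeRestrict
      ρ₁.rangeRestrict_surjective
    rw [hk, Nat.cast_mul] at hG
    exact isUnit_of_mul_isUnit_left hG
  have hfixH : ∀ {T : Scheme.{u}} (t : T ⟶ X.left),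
      (∀ g : G, t ≫ (ρ g).hom.left = t) → ∀ h : H, t ≫ (H.subtype h).hom = t := by
    intro T t ht
    rintro ⟨_, g, rfl⟩
    exact ht g
  have hfixG : ∀ {T : Scheme.{u}} (t : T ⟶ X.left),
      (∀ h : H, t ≫ (H.subtype h).hom = t) → ∀ g : G, t ≫ (ρ g).hom.left = t := by
    intro T t ht g
    exact ht ⟨ρ₁ g, g, rfl⟩
  obtain ⟨Z', i, hi, hifix, hiuniv⟩ := Groth.Agent.S13206.result X.hom H H.subtype hHρ
  haveI := hi
  have hιl : ∀ g : G, ι.left ≫ (ρ g).hom.left = ι.left := fun g =>
    congrArg CommaMorphism.left (hι g)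
  -- the comparison maps
  obtain ⟨a, ha, -⟩ := hiuniv Z.left ι.left (hfixH ι.left hιl)
  let T : Over S := Over.mk (i ≫ X.hom)
  let t : T ⟶ X := Over.homMk i rfl
  have ht : ∀ g : G, t ≫ (ρ g).hom = t := by
    intro g
    ext
    exact hfixG i hifix g
  obtain ⟨t', ht', -⟩ := (hZ T t).1 ht
  let b : Z' ⟶ Z.left := t'.left
  have hb : b ≫ ι.left = i := congrArg CommaMorphism.left ht'
  have hbw : b ≫ Z.hom = i ≫ X.hom := Over.w t'
  have hιw : ι.left ≫ X.hom = Z.hom := Over.w ι
  have hab : a ≫ b = 𝟙 Z.left := by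
    obtain ⟨u₀, -, hu₀⟩ := (hZ Z ι).1 hι
    have hw : (a ≫ b) ≫ Z.hom = Z.hom := by
      rw [Category.assoc, hbw, ← Category.assoc, ha, hιw]
    let ab : Z ⟶ Z := Over.homMk (a ≫ b) hw
    have h1 : ab ≫ ι = ι := by
      ext
      show (a ≫ b) ≫ ι.left = ι.left
      rw [Category.assoc, hb, ha]
    have h2 : 𝟙 Z ≫ ι = ι := Category.id_comp _
    have h3 : ab = 𝟙 Z := (hu₀ ab h1).trans (hu₀ (𝟙 Z) h2).symm
    exact congrArg CommaMorphism.left h3
  have hba : b ≫ a = 𝟙 Z' := by
    rw [← cancel_mono i, Category.assoc, ha, hb, Category.id_comp]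
  haveI : IsIso a := ⟨b, hab, hba⟩
  have hcl : IsClosedImmersion ι.left := by
    rw [← ha]
    infer_instance
  haveI := hcl
  have hsm : Smooth (i ≫ X.hom) :=
    Groth.Agent.Lib.Seat72.FixSmooth.smooth_fixed X.hom H.subtype hHρ hcard i hifix
      (fun T t ht => (hiuniv T t ht).exists)
  have hZhom : Z.hom = a ≫ (i ≫ X.hom) := by
    rw [← Category.assoc, ha, hιw]
  have hZhom' : Z.hom = ι.left ≫ X.hom := hιw.symm
  refine ⟨hcl, ?_, ?_, ?_⟩
  · rw [hZhom]
    haveI := hsm
    infer_instance
  · rw [hZhom']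
    infer_instance
  · rw [hZhom']
    haveI : IsSeparated (ι.left ≫ X.hom) := inferInstance
    infer_instance

end Groth.Agent.S16212
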