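import Groth.Statements.S16219
import Groth.Agent.Lib.Seat85HomColim

set_option autoImplicit false
universe u
open Lim

namespace Groth.Agent.S16219

open AlgebraicGeometry CategoryTheory Limits

section
variable {ι : Type u} (A C : Type u) [CommRing A] [CommRing C] [Algebra A C]
  (S : ι → Subalgebra A C)

/-- Index category: the subalgebras in the family. -/
abbrev Idx := {T : Subalgebra A C // ∃ i, S i = T}

variable {A C S}

/-- The diagram of the subalgebras. -/
noncomputable def ringDiagram : Idx A C S ⥤ CommRingCat.{u} where
  obj j := CommRingCat.of j.1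
  map {j k} f := CommRingCat.ofHom (Subalgebra.inclusion (leOfHom f)).toRingHom
  map_id j := by
    ext x
    rfl
  map_comp f g := by
    ext x
    rfl

/-- The cocone with point `C`. -/
noncomputable def ringCocone : Cocone (ringDiagram (A := A) (C := C) (S := S)) where
  pt := CommRingCat.of C
  ι :=
    { app := fun j => CommRingCat.ofHom (algebraMap j.1 C)
      naturality := by
        intro j k f
        ext x
        rfl }

variable (hdir : Directed (· ≤ ·) S) (hcov : ∀ c : C, ∃ i, c ∈ S i)

include hdir in
lemma isDirected_idx : IsDirected (Idx A C S) (· ≤ ·) :=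
  ⟨by
    rintro ⟨_, i, rfl⟩ ⟨_, j, rfl⟩
    obtain ⟨k, hik, hjk⟩ := hdir i j
    exact ⟨⟨S k, k, rfl⟩, hik, hjk⟩⟩

include hcov in
lemma nonempty_idx : Nonempty (Idx A C S) := by
  obtain ⟨i, -⟩ := hcov 0
  exact ⟨⟨S i, i, rfl⟩⟩

include hdir hcov in
lemma isFiltered_idx : IsFiltered (Idx A C S) := by
  have := isDirected_idx hdir
  have := nonempty_idx hcov
  exact isFiltered_of_directed_le_nonempty _

include hdir hcov in
/-- `C` is the colimit of the subalgebras. -/
noncomputable def ringIsColimit : IsColimit (ringCocone (A := A) (C := C) (S := S)) := by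
  have := isFiltered_idx hdir hcov
  have : ReflectsColimitsOfShape (Idx A C S) (forget CommRingCat.{u}) :=
    reflectsColimitsOfShape_of_reflectsIsomorphisms
  refine isColimitOfReflects (forget CommRingCat.{u}) ?_
  refine Types.FilteredColimit.isColimitOf' _ _ ?_ ?_
  · intro a
    change C at a
    obtain ⟨i, hi⟩ := hcov a
    exact ⟨⟨S i, i, rfl⟩, ⟨a, hi⟩, rfl⟩
  · intro i x y h
    exact ⟨i, 𝟙 i, congrArg _ (Subtype.ext h)⟩

end

lemma isSchemeTheoreticallyDominant_Spec_map {R T : CommRingCat.{u}} (φ : R ⟶ T)
    (h : Function.Injective φ.hom) : IsSchemeTheoreticallyDominant (Spec.map φ) := by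
  rw [isSchemeTheoreticallyDominant_iff]
  refine Scheme.IdealSheafData.ext_of_isAffine ?_
  rw [Scheme.Hom.ker_apply]
  have e : (Spec.map φ).appTop = (Scheme.ΓSpecIso R).hom ≫ φ ≫ (Scheme.ΓSpecIso T).inv := by
    rw [Scheme.ΓSpecIso_inv_naturality]
    simp
  have hinj : Function.Injective (Spec.map φ).appTop.hom := by
    rw [e]
    simp only [CommRingCat.hom_comp, RingHom.coe_comp]
    refine (Function.Injective.comp ?_ h).comp ?_
    · exact (ConcreteCategory.bijective_of_isIso _).1
    · exact (ConcreteCategory.bijective_of_isIso _).1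
  exact (RingHom.injective_iff_ker_eq_bot _).mp hinj


open AlgebraicGeometry CategoryTheory in
/-- Let A be a commutative ring, X a scheme of finite type over Spec A (quasi-compact and locally of
finite type), C an A-algebra that is an integral domain and the union of a directed family of
A-subalgebras C_i, and g : Spec C → X an A-morphism. Then for some index i there is an A-morphism
Spec C_i → X whose composite with the morphism Spec C → Spec C_i induced by the inclusion is g. The
published statement asserts that the map from the colimit of the sets of A-morphisms Spec C_i → X to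
the set of A-morphisms Spec C → X is bijective; this row states only that it is surjective
(injectivity holds for every filtered colimit of A-algebras). -/
theorem result
    {ι : Type u} (A C : Type u) [CommRing A] [CommRing C] [Algebra A C] [IsDomain C]
    (S : ι → Subalgebra A C) (hdir : Directed (· ≤ ·) S) (hcov : ∀ c : C, ∃ i, c ∈ S i)
    (X : Scheme.{u}) (f : X ⟶ Spec (CommRingCat.of A))
    [LocallyOfFiniteType f] [QuasiCompact f]
    (g : Spec (CommRingCat.of C) ⟶ X)
    (hg : g ≫ f = Spec.map (CommRingCat.ofHom (algebraMap A C))) :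
    ∃ (i : ι) (g' : Spec (CommRingCat.of (S i)) ⟶ X),
      g' ≫ f = Spec.map (CommRingCat.ofHom (algebraMap A (S i))) ∧
      Spec.map (CommRingCat.ofHom (S i).val.toRingHom) ≫ g' = g := by
  have hfilt := isFiltered_idx hdir hcov
  let D : (Idx A C S)ᵒᵖ ⥤ Scheme.{u} := (ringDiagram (A := A) (C := C) (S := S)).op ⋙ Scheme.Spec
  let c : Cone D := Scheme.Spec.mapCone (ringCocone (A := A) (C := C) (S := S)).op
  let hc : IsLimit c := isLimitOfPreserves Scheme.Spec (ringIsColimit hdir hcov).op
  let t : D ⟶ (Functor.const _).obj (Spec (CommRingCat.of A)) :=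
    { app := fun j => Spec.map (CommRingCat.ofHom (algebraMap A j.unop.1))
      naturality := by
        intro j k a
        show Spec.map (CommRingCat.ofHom (Subalgebra.inclusion (leOfHom a.unop)).toRingHom) ≫
          Spec.map (CommRingCat.ofHom (algebraMap A k.unop.1)) =
          Spec.map (CommRingCat.ofHom (algebraMap A j.unop.1)) ≫ 𝟙 _
        rw [Category.comp_id, ← Spec.map_comp]
        rfl }
  have h1 : ∀ {i j : (Idx A C S)ᵒᵖ} (a : i ⟶ j), IsAffineHom (D.map a) := by
    intro i j a
    show IsAffineHom (Spec.map _)
    infer_instance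
  have h2 : ∀ {i j : (Idx A C S)ᵒᵖ} (a : i ⟶ j), IsSchemeTheoreticallyDominant (D.map a) := by
    intro i j a
    refine isSchemeTheoreticallyDominant_Spec_map _ ?_
    exact Subalgebra.inclusion_injective _
  have h3 : ∀ i, CompactSpace (D.obj i) := by
    intro i
    show CompactSpace (Spec _)
    infer_instance
  have h4 : ∀ i, QuasiSeparatedSpace (D.obj i) := by
    intro i
    show QuasiSeparatedSpace (Spec _)
    infer_instance
  obtain ⟨j, g', hg1, hg2⟩ :=
    Groth.Agent.Lib.Seat85.HomColim.exists_π_app_comp_eq_of_locallyOfFiniteType D t f c hc g (by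
      ext j : 2
      show Spec.map (CommRingCat.ofHom (algebraMap j.unop.1 C)) ≫
        Spec.map (CommRingCat.ofHom (algebraMap A j.unop.1)) = g ≫ f
      rw [hg, ← Spec.map_comp]
      rfl)
  obtain ⟨⟨_, i, rfl⟩⟩ := j
  exact ⟨i, g', hg2, hg1⟩

end Groth.Agent.S16219
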