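import Groth.Statements.S1622
import Groth.Agent.Lib.Seat70BlowUpReg
import Groth.Agent.Lib.Seat82BlowUpCover
import Groth.Agent.S2348

set_option autoImplicit false
universe u
open CategoryTheory CategoryTheory.Limits AlgebraicGeometry
open Resolve

namespace Groth.Agent.S1622

theorem isRegularLocalRing_stalk_spec (B : Type u) [CommRing B] (y : PrimeSpectrum B)
    (h : IsRegularLocalRing (Localization.AtPrime y.asIdeal)) :
    IsRegularLocalRing ((Spec (CommRingCat.of B)).presheaf.stalk y) := by
  have e := IsLocalization.algEquiv y.asIdeal.primeCompl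
    ((Spec.structureSheaf B).presheaf.stalk y) (Localization.AtPrime y.asIdeal)
  exact IsRegularLocalRing.of_ringEquiv (R' := (Spec.structureSheaf B).presheaf.stalk y)
    e.symm.toRingEquiv

/-- Let A be a regular local ring of dimension two and b : X → Spec A a blowing up of Spec A in the
maximal ideal (characterised by its universal property). Then X is irreducible and all of its local
rings are regular. -/
theorem result (A : Type u) [CommRing A] [IsRegularLocalRing A] (hA : ringKrullDim A = 2)
    (X : Scheme.{u}) (b : X ⟶ Spec (CommRingCat.of A)) (hb : BlowUp.IsBlowUp b (Curv2.idealSheaf A (IsLocalRing.maximalIdeal A))) :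
    IrreducibleSpace X ∧ ∀ x : X, IsRegularLocalRing (X.presheaf.stalk x) := by
  have hdom : IsDomain A := Groth.Agent.Lib.Helper5.isDomain_of_isRegularLocalRing A
  -- the maximal ideal is nonzero
  have hm : IsLocalRing.maximalIdeal A ≠ ⊥ := by
    intro h0
    have hf : IsField A := IsLocalRing.isField_iff_maximalIdeal_eq.mpr h0
    have := ringKrullDim_eq_zero_of_isField hf
    rw [hA] at this
    exact absurd this (by norm_num)
  have hI : Curv2.idealSheaf A (IsLocalRing.maximalIdeal A) ≠ ⊥ := by
    intro h0
    apply hm
    have h1 : (Scheme.IdealSheafData.equivOfIsAffine (X := Spec (CommRingCat.of A))).symm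
        ((IsLocalRing.maximalIdeal A).map (Scheme.ΓSpecIso (CommRingCat.of A)).inv.hom) =
        (Scheme.IdealSheafData.equivOfIsAffine (X := Spec (CommRingCat.of A))).symm ⊥ := by
      rw [Scheme.IdealSheafData.equivOfIsAffine_symm_apply]
      refine Eq.trans h0 ?_
      exact (map_zero (Scheme.IdealSheafData.equivOfIsAffine (X := Spec (CommRingCat.of A))).symm).symm
    have h2 := (Scheme.IdealSheafData.equivOfIsAffine (X := Spec (CommRingCat.of A))).symm.injective h1
    have hinj : Function.Injective (Scheme.ΓSpecIso (CommRingCat.of A)).inv.hom :=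
      (ConcreteCategory.bijective_of_isIso (Scheme.ΓSpecIso (CommRingCat.of A)).inv).1
    exact (Ideal.map_eq_bot_iff_of_injective hinj).mp h2
  obtain ⟨hint, -, -⟩ := Groth.Agent.S2348.result _ hI b hb
  refine ⟨inferInstance, fun x => ?_⟩
  obtain ⟨a, ha, hx⟩ := Groth.Agent.Lib.Seat82.BlowUpCover.exists_mem_chartLocus hb x
  let U := Groth.Agent.Lib.Seat82.BlowUpCover.chartLocus b (IsLocalRing.maximalIdeal A) a
  let e := Groth.Agent.Lib.Seat82.BlowUpCover.chartIso hb a ha
  let x' : U.toScheme := ⟨x, hx⟩
  -- stalk of `X` at `x` is the stalk of the chart at the corresponding prime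
  have e1 : X.presheaf.stalk (U.ι x') ≅ U.toScheme.presheaf.stalk x' := asIso (U.ι.stalkMap x')
  have e2 : (Spec (CommRingCat.of (BlowUp.affineAlgebra A (IsLocalRing.maximalIdeal A) a))).presheaf.stalk
      (e.hom x') ≅ U.toScheme.presheaf.stalk x' := asIso (e.hom.stalkMap x')
  have hreg : IsRegularLocalRing
      ((Spec (CommRingCat.of (BlowUp.affineAlgebra A (IsLocalRing.maximalIdeal A) a))).presheaf.stalk
        (e.hom x')) := by
    let y : PrimeSpectrum (BlowUp.affineAlgebra A (IsLocalRing.maximalIdeal A) a) := e.hom x'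
    exact isRegularLocalRing_stalk_spec _ y
      (Groth.Agent.Lib.Seat70.BlowUpReg.isRegularLocalRing_atPrime_affineAlgebra A hA a ha y.asIdeal)
  have h3 : IsRegularLocalRing (U.toScheme.presheaf.stalk x') :=
    IsRegularLocalRing.of_ringEquiv e2.commRingCatIsoToRingEquiv
  exact IsRegularLocalRing.of_ringEquiv e1.symm.commRingCatIsoToRingEquiv

end Groth.Agent.S1622
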