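import Groth.Statements.S16223
import Groth.Agent.Lib.Seat78ExtPFDesc

set_option autoImplicit false
set_option backward.isDefEq.respectTransparency false
set_option backward.isDefEq.respectTransparency.types false
set_option backward.defeqAttrib.useBackward true
open CategoryTheory Opposite
universe u
open CAlg

namespace Groth.Agent.S16223

open TensorProduct in
/-- In a faithfully flat algebra, an element with `s ⊗ 1 = 1 ⊗ s` comes from the base. -/
theorem mem_range_algebraMap_of_tmul_eq (R S : Type u) [CommRing R] [CommRing S] [Algebra R S]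
    [Module.FaithfullyFlat R S] (s : S)
    (h : s ⊗ₜ[R] (1 : S) = (1 : S) ⊗ₜ[R] s) : ∃ r : R, algebraMap R S r = s := by
  set N : Submodule R S := LinearMap.range (Algebra.linearMap R S) with hN
  have h1 : (TensorProduct.mk R S (S ⧸ N) 1) (N.mkQ s) = 0 := by
    have e1 : (TensorProduct.mk R S (S ⧸ N) 1) (N.mkQ s) =
        (N.mkQ.lTensor S) ((1 : S) ⊗ₜ[R] s) := by simp
    rw [e1, ← h, LinearMap.lTensor_tmul]
    have : N.mkQ (1 : S) = 0 := by
      rw [Submodule.mkQ_apply, Submodule.Quotient.mk_eq_zero]
      exact ⟨1, by simp⟩
    rw [this, TensorProduct.tmul_zero]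
  have h2 := Module.FaithfullyFlat.tensorProduct_mk_injective (A := R) (B := S) (S ⧸ N)
    (h1.trans (map_zero _).symm)
  rw [Submodule.mkQ_apply, Submodule.Quotient.mk_eq_zero] at h2
  obtain ⟨r, hr⟩ := h2
  exact ⟨r, hr⟩

theorem truncMap_injective (p : ℕ) [Fact p.Prime] (n : ℕ) {R R' : Type u} [CommRing R] [CommRing R']
    (f : R →+* R') (hf : Function.Injective f) : Function.Injective (WittGrp.truncMap p n f) := by
  intro x y h
  apply TruncatedWittVector.ext
  intro i
  apply hf
  have := congrArg (fun z => TruncatedWittVector.coeff i z) h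
  simpa only [WittGrp.coeff_truncMap] using this

open TensorProduct in
theorem truncMap_equalizer (p : ℕ) [Fact p.Prime] (n : ℕ) (R R' : Type u) [CommRing R] [CommRing R']
    [Algebra R R'] [Module.FaithfullyFlat R R'] (b : TruncatedWittVector p n R')
    (h : WittGrp.truncMap p n (Algebra.TensorProduct.includeLeftRingHom : R' →+* R' ⊗[R] R') b =
      WittGrp.truncMap p n ((Algebra.TensorProduct.includeRight : R' →ₐ[R] R' ⊗[R] R') : R' →+* R' ⊗[R] R') b) :
    ∃ a : TruncatedWittVector p n R, WittGrp.truncMap p n (algebraMap R R') a = b := by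
  have h1 : ∀ i : Fin n, ∃ r : R, algebraMap R R' r = b.coeff i := by
    intro i
    apply mem_range_algebraMap_of_tmul_eq
    have := congrArg (fun z => TruncatedWittVector.coeff i z) h
    simp only [WittGrp.coeff_truncMap] at this
    exact this
  choose a ha using h1
  refine ⟨TruncatedWittVector.mk p a, ?_⟩
  apply TruncatedWittVector.ext
  intro i
  rw [WittGrp.coeff_truncMap, TruncatedWittVector.coeff_mk, ha]


open TensorProduct in
theorem result_aux (p : ℕ) [Fact p.Prime] (n : ℕ)
    (R R' : Type u) [CommRing R] [CommRing R'] [Algebra R R'] [Module.FaithfullyFlat R R']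
    (hp : IsNilpotent (p : R))
    (M N : ModuleCat.{u} (TruncatedWittVector p n R))
    [Module.Finite (TruncatedWittVector p n R) M] [Module.Projective (TruncatedWittVector p n R) M]
    [Module.Finite (TruncatedWittVector p n R) N] [Module.Projective (TruncatedWittVector p n R) N] :
    Function.Bijective (fun φ : M ⟶ N =>
      ((W4c3truncdispsmooth.wittModPF.{u} p n).toDescentData (fun _ : PUnit.{u + 1} => (CommRingCat.ofHom (algebraMap R R')).op)).map φ) := by
  have hN : Module.Flat (TruncatedWittVector p n R) N := inferInstance
  have hρ₀ : Function.Injective (WittGrp.truncMap p n (algebraMap R R')) :=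
    truncMap_injective p n _ (FaithfulSMul.algebraMap_injective R R')
  have hex := truncMap_equalizer p n R R'
  have h₁ : (CommRingCat.ofHom (Algebra.TensorProduct.includeLeftRingHom : R' →+* R' ⊗[R] R')).op ≫
      (CommRingCat.ofHom (algebraMap R R')).op = (CommRingCat.ofHom (algebraMap R (R' ⊗[R] R'))).op := by
    rw [← op_comp, ← CommRingCat.ofHom_comp]
    congr 2
  have h₂ : (CommRingCat.ofHom ((Algebra.TensorProduct.includeRight : R' →ₐ[R] R' ⊗[R] R') : R' →+* R' ⊗[R] R')).op ≫
      (CommRingCat.ofHom (algebraMap R R')).op = (CommRingCat.ofHom (algebraMap R (R' ⊗[R] R'))).op := by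
    rw [← op_comp, ← CommRingCat.ofHom_comp]
    congr 2
    ext r
    simp
  exact Groth.Agent.Lib.Seat78.ExtPFDesc.bijective_map_of_flat' (ι := PUnit.{u + 1})
    ((unopUnop CommRingCat.{u}) ⋙ W4c3truncdispsmooth.wittTrunc p n)
    (S := op (CommRingCat.of R)) (X := op (CommRingCat.of R')) (Y := op (CommRingCat.of (R' ⊗[R] R')))
    (CommRingCat.ofHom (algebraMap R R')).op
    (CommRingCat.ofHom (Algebra.TensorProduct.includeLeftRingHom : R' →+* R' ⊗[R] R')).op
    (CommRingCat.ofHom ((Algebra.TensorProduct.includeRight : R' →ₐ[R] R' ⊗[R] R') : R' →+* R' ⊗[R] R')).op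
    (CommRingCat.ofHom (algebraMap R (R' ⊗[R] R'))).op
    h₁ h₂ (W4c3truncdispsmooth.wittModPF.{u} p n) rfl M N N HEq.rfl hN hρ₀ hex

/-- Let p be a prime, n a natural number, and R → R' a faithfully flat homomorphism of commutative rings
in which p is nilpotent; write W_n for truncated Witt vectors of length n. A descent datum of
W_n(R')-modules relative to R → R' is a W_n(R')-module M' with, for every ring T and every pair of
maps R' ⇉ T agreeing on R, an isomorphism between the two base changes of M' to W_n(T), natural in T
and satisfying the cocycle condition (equivalently an isomorphism over W_n(R' ⊗_R R') with the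
cocycle condition over W_n(R' ⊗_R R' ⊗_R R')); base change W_n(R') ⊗_{W_n(R)} M of a W_n(R)-module M
carries the canonical such datum. Then for finitely generated projective W_n(R)-modules M and N, the
map sending a W_n(R)-linear map M → N to the induced morphism of canonical descent data is bijective
(the functor to descent data is fully faithful on such modules). -/
theorem result (p : ℕ) [Fact p.Prime] (n : ℕ)
    (R R' : Type u) [CommRing R] [CommRing R'] [Algebra R R'] [Module.FaithfullyFlat R R']
    (hp : IsNilpotent (p : R))
    (M N : ModuleCat.{u} (TruncatedWittVector p n R))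
    [Module.Finite (TruncatedWittVector p n R) M] [Module.Projective (TruncatedWittVector p n R) M]
    [Module.Finite (TruncatedWittVector p n R) N] [Module.Projective (TruncatedWittVector p n R) N] :
    Function.Bijective (fun φ : M ⟶ N =>
      ((W4c3truncdispsmooth.wittModPF.{u} p n).toDescentData (fun _ : PUnit.{u + 1} => (CommRingCat.ofHom (algebraMap R R')).op)).map φ) := by
  exact result_aux p n R R' hp M N

end Groth.Agent.S16223
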