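import Groth.Statements.S1623
import Groth.Agent.S0010
import Groth.Agent.Lib.Helper5HilbertRLR
import Groth.Agent.Lib.Seat70BlowUpTwoCharts
-- import your own Groth.Agent.* helpers here

set_option autoImplicit false
universe u
open CategoryTheory CategoryTheory.Limits AlgebraicGeometry
open Resolve

namespace Groth.Agent.S1623

/-- Let A be a regular local ring of dimension two and b : X → Spec A a blowing up in the maximal ideal.
For every quasi-coherent O_X-module F and every p ≥ 2, H^p(X, F) = 0. -/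
theorem result (A : Type u) [CommRing A] [IsRegularLocalRing A] (hA : ringKrullDim A = 2)
    (X : Scheme.{u}) (b : X ⟶ Spec (CommRingCat.of A)) (hb : BlowUp.IsBlowUp b (Curv2.idealSheaf A (IsLocalRing.maximalIdeal A)))
    (F : X.Modules) (hF : Coh.IsQCoh F) (p : ℕ) (hp : 2 ≤ p) : Subsingleton (Coh.HH X F p) := by
  haveI : Coh.IsQCoh F := hF
  have hA' : ringKrullDim A = ((2 : ℕ) : WithBot ℕ∞) := by rw [hA]; rfl
  obtain ⟨z, hz⟩ := Groth.Agent.Lib.Helper5.HilbertRLR.exists_regular_system hA'
  have hfg : (IsLocalRing.maximalIdeal A).FG := by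
    rw [← hz]
    exact ⟨(Set.finite_range _).toFinset, by rw [Set.Finite.coe_toFinset]⟩
  have hsep : IsSeparated (terminal.from X) :=
    Groth.Agent.Lib.Seat70.BlowUpTwoCharts.isSeparated_of_isBlowUp hb hfg
  refine Groth.Agent.S0010.result X 2
    (fun i => Groth.Agent.Lib.Seat82.BlowUpCover.chartLocus b (IsLocalRing.maximalIdeal A) (z i : A))
    ?_ ?_ ?_ F p hp
  · intro i
    exact Groth.Agent.Lib.Seat70.BlowUpTwoCharts.isAffineOpen_chartLocus hb _ (z i).2
  · rw [eq_top_iff]
    intro x _
    obtain ⟨a, ⟨i, rfl⟩, hx⟩ :=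
      Groth.Agent.Lib.Seat70.BlowUpTwoCharts.exists_mem_chartLocus_of_span hb _ hz x
    exact TopologicalSpace.Opens.mem_iSup.mpr ⟨i, hx⟩
  · intro V W hV hW
    exact hV.inf hW

end Groth.Agent.S1623
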