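import Groth.Statements.S16232
import Groth.Agent.Lib.Seat73TameG
import Groth.Agent.Lib.Seat73TameH

set_option autoImplicit false
universe u v
open VanCyc

namespace Groth.Agent.S16232

/-- Let R be a strictly Henselian discrete valuation ring (Henselian, with separably closed residue
field), K its fraction field, Ω a separable closure of K and G the group of K-algebra automorphisms
of Ω; let r ≥ 1 be an integer invertible in the residue field of R, ϖ a uniformizer of R and ρ an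
r-th root of ϖ in Ω, so that the fundamental character χ : G → μ_r(Ω) is σ ↦ σ(ρ)/ρ. Then every
homomorphism φ of the abstract group G into an abelian group M with rM = 0 factors uniquely through
χ: there is exactly one homomorphism u : μ_r(Ω) → M with φ(σ) = u(χ(σ)) for every σ in G.
(Homomorphisms are written as maps respecting the group laws; χ(σ) is the root of unity ζ with ζρ =
σ(ρ).) -/
theorem result
    (R : Type u) [CommRing R] [IsDomain R] [IsDiscreteValuationRing R] [HenselianLocalRing R]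
    [IsSepClosed (IsLocalRing.ResidueField R)]
    (K : Type u) [Field K] [Algebra R K] [IsFractionRing R K]
    (Ω : Type u) [Field Ω] [Algebra K Ω] [IsSepClosure K Ω]
    (r : ℕ) [NeZero r] (hr : IsUnit (r : IsLocalRing.ResidueField R))
    (ϖ : R) (hϖ : Irreducible ϖ) (ρ : Ω) (hρ : ρ ^ r = algebraMap K Ω (algebraMap R K ϖ))
    (M : Type v) [AddCommGroup M] (hM : ∀ x : M, r • x = 0)
    (φ : (Ω ≃ₐ[K] Ω) → M) (hφ : ∀ σ τ : Ω ≃ₐ[K] Ω, φ (σ * τ) = φ σ + φ τ) :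
    ∃! u : ↥(rootsOfUnity r Ω) → M, (∀ ζ ξ : ↥(rootsOfUnity r Ω), u (ζ * ξ) = u ζ + u ξ) ∧
      ∀ (σ : Ω ≃ₐ[K] Ω) (ζ : ↥(rootsOfUnity r Ω)), ((ζ : Ωˣ) : Ω) * ρ = σ ρ → φ σ = u ζ := by
  classical
  letI : Algebra R Ω := ((algebraMap K Ω).comp (algebraMap R K)).toAlgebra
  haveI : IsScalarTower R K Ω := IsScalarTower.of_algebraMap_eq fun _ => rfl
  haveI : Algebra.IsSeparable K Ω := IsSepClosure.separable
  have hW1 := Groth.Agent.Lib.Seat73.TameH.algebraMap_mem_W (R := R) (K := K) (Ω := Ω)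
  have hI := Groth.Agent.Lib.Seat73.TameH.inertia (R := R) (K := K) (Ω := Ω)
  obtain ⟨q, hq⟩ := ExpChar.exists (IsLocalRing.ResidueField R)
  haveI := Groth.Agent.Lib.Seat73.TameH.expChar_W (R := R) (K := K) (Ω := Ω) q
  have hqn := Groth.Agent.Lib.Seat73.TameH.exists_eq_pow_mul (R := R) (K := K) (Ω := Ω) q
  have hr0 : r ≠ 0 := NeZero.ne r
  have hrk : (r : IsLocalRing.ResidueField R) ≠ 0 := hr.ne_zero
  have hrW : (Groth.Agent.Lib.Seat73.TameH.W R K Ω).valuation (r : Ω) = 1 :=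
    Groth.Agent.Lib.Seat73.TameB.val_natCast _ hW1 hrk
  have hqr : q.Coprime r := Groth.Agent.Lib.Seat73.TameH.coprime_of_cast_ne_zero q hrk
  have hρ' : ρ ^ r = algebraMap R Ω ϖ := hρ
  -- basic properties of `φ`
  have hφ1 : φ 1 = 0 := by
    have h := hφ 1 1
    rw [mul_one] at h
    exact left_eq_add.mp h
  have hφpow : ∀ (τ : Ω ≃ₐ[K] Ω) (n : ℕ), φ (τ ^ n) = n • φ τ := by
    intro τ n
    induction n with
    | zero => simp [hφ1]
    | succ n ih => rw [pow_succ, hφ, ih, succ_nsmul]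
  have hφinv : ∀ σ : Ω ≃ₐ[K] Ω, φ σ⁻¹ = - φ σ := by
    intro σ
    have h := hφ σ⁻¹ σ
    rw [inv_mul_cancel, hφ1] at h
    exact eq_neg_of_add_eq_zero_left h.symm
  -- the kernel of the fundamental character is killed by `φ`
  have hker : ∀ σ : Ω ≃ₐ[K] Ω, σ ρ = ρ → φ σ = 0 := by
    intro σ hσ
    obtain ⟨τ, π'', h⟩ := Groth.Agent.Lib.Seat73.TameG.exists_pow_mul_pow
      (Groth.Agent.Lib.Seat73.TameH.W R K Ω) hW1 hI hϖ hr0 hrW hρ' σ hσ q hqn hqr
    rw [h, hφ, hφpow, hφpow, hM, hM, add_zero]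
  have hwd : ∀ σ σ' : Ω ≃ₐ[K] Ω, σ ρ = σ' ρ → φ σ = φ σ' := by
    intro σ σ' h
    have h1 : (σ'⁻¹ * σ) ρ = ρ := by
      rw [AlgEquiv.mul_apply, h]
      exact σ'.symm_apply_apply ρ
    have h2 := hker _ h1
    rw [hφ, hφinv] at h2
    rw [← sub_eq_zero, sub_eq_neg_add]
    exact h2
  -- roots of unity lie in `K`
  have hμ : ∀ (ζ : ↥(rootsOfUnity r Ω)) (σ : Ω ≃ₐ[K] Ω), σ ((ζ : Ωˣ) : Ω) = ((ζ : Ωˣ) : Ω) := by
    intro ζ σ
    have hζ : (((ζ : Ωˣ) : Ω)) ^ r = 1 := by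
      have := ζ.2
      rw [mem_rootsOfUnity] at this
      rw [← Units.val_pow_eq_pow_val, this, Units.val_one]
    obtain ⟨k, hk⟩ := Groth.Agent.Lib.Seat73.TameB.root_of_unity_mem
      (Groth.Agent.Lib.Seat73.TameH.W R K Ω) hI hr0 hrW hζ
    rw [← hk, AlgEquiv.commutes]
  have hex : ∀ ζ : ↥(rootsOfUnity r Ω), ∃ σ : Ω ≃ₐ[K] Ω, σ ρ = ((ζ : Ωˣ) : Ω) * ρ := by
    intro ζ
    have hζ : (((ζ : Ωˣ) : Ω)) ^ r = 1 := by
      have := ζ.2
      rw [mem_rootsOfUnity] at this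
      rw [← Units.val_pow_eq_pow_val, this, Units.val_one]
    refine Groth.Agent.Lib.Seat73.TameG.exists_conj (K := K) hϖ hr0 hρ' ?_
    rw [mul_pow, hζ, one_mul, hρ']
  choose s hs using hex
  refine ⟨fun ζ => φ (s ζ), ⟨?_, ?_⟩, ?_⟩
  · intro ζ ξ
    rw [← hφ]
    apply hwd
    rw [hs, AlgEquiv.mul_apply, hs, map_mul, hμ, hs]
    push_cast
    ring
  · intro σ ζ h
    apply hwd
    rw [hs, h]
  · rintro u' ⟨-, hu'⟩
    funext ζ
    exact (hu' (s ζ) ζ (hs ζ).symm).symm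

end Groth.Agent.S16232
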