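import Groth.Statements.S16240
import Groth.Agent.Lib.Seat63Syzygy

set_option autoImplicit false
universe u
open CategoryTheory CategoryTheory.Limits AlgebraicGeometry
open Coh

namespace Groth.Agent.S16240

/-- Let X be a Noetherian scheme all of whose local rings are regular, of (topological Krull) dimension
at most m, and let S be an exact sequence of O_X-modules G ⟶ E_m ⟶ ⋯ ⟶ E_1 ⟶ F with m + 2 terms (G
in position 0, F in position m + 1), injective at the first map and surjective at the last, in which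
F is coherent and E_1, …, E_m are finite locally free. Then G is finite locally free. (The source
asks for p + 1 vector bundles with p ≥ dim X − 1, i.e. at least dim X of them, and finite dimension;
here m bounds the dimension.) -/
theorem result (X : Scheme.{u}) [IsNoetherian X]
    (hreg : ∀ x : X, IsRegularLocalRing (X.presheaf.stalk x)) (m : ℕ)
    (hdim : topologicalKrullDim ↥X ≤ (m : WithBot ℕ∞))
    (S : ComposableArrows X.Modules (m + 1)) (hS : S.Exact)
    (hmono : Mono (S.map' 0 1 (Nat.zero_le 1) (Nat.le_add_left 1 m)))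
    (hepi : Epi (S.map' m (m + 1) (Nat.le_succ m) (le_refl (m + 1))))
    (hE : ∀ i : Fin m, FlatMod.IsFinLocFree (S.obj ⟨i.1 + 1, Nat.succ_lt_succ (Nat.lt_succ_of_lt i.2)⟩))
    (hF : Coh.IsCoh (S.obj (Fin.last (m + 1)))) :
    FlatMod.IsFinLocFree (S.obj 0) := by
  classical
  open Groth.Agent.Lib.Seat63.CohThick Groth.Agent.Lib.Seat63.RegPerf
    Groth.Agent.Lib.Seat63.Syzygy in
  cases m with
  | zero =>
    -- `G ≅ F`, and every stalk is projective since the local rings have dimension `0`
    have h1 : Mono (S.map' 0 1 (Nat.zero_le 1) (Nat.le_add_left 1 0)) := hmono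
    have h2 : Epi (S.map' 0 1 (Nat.zero_le 1) (Nat.le_add_left 1 0)) := hepi
    have h3 : IsIso (S.map' 0 1 (Nat.zero_le 1) (Nat.le_add_left 1 0)) :=
      isIso_of_mono_of_epi _
    have hG : Coh.IsCoh (S.obj 0) :=
      isCoh_of_iso (asIso (S.map' 0 1 (Nat.zero_le 1) (Nat.le_add_left 1 0))).symm hF
    refine isFinLocFree_of_projective_stalks _ hG (fun x => ?_)
    have := pdLT_stalk_of_regular X hreg 0 hdim (S.obj 0) x
    exact (inferInstance : Projective (stalkMod (S.obj 0) x))
  | succ j =>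
    have hflf : ∀ (i : ℕ) (hi : i ≤ j), FlatMod.IsFinLocFree (S.δ₀.obj' i) := fun i hi =>
      hE ⟨i, by omega⟩
    have hpdF : ∀ x : X, HasProjectiveDimensionLT (stalkMod (S.δ₀.obj' (j + 1)) x) (0 + j + 2) :=
      fun x => by
        have h := pdLT_stalk_of_regular X hreg (j + 1) hdim (S.δ₀.obj' (j + 1)) x
        have e : 0 + j + 2 = j + 1 + 1 := by omega
        rw [e]
        exact h
    have hK : ∀ x : X, Projective (stalkMod (kernel (S.δ₀.map' 0 1)) x) := fun x => by
      have := pdLT_stalk_kernel x j 0 S.δ₀ hS.δ₀ hepi hflf (hpdF x)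
      exact (inferInstance : Projective (stalkMod (kernel (S.δ₀.map' 0 1)) x))
    -- `S.obj 0 ≅ ker (S.obj 1 ⟶ S.obj 2)`
    have hw : S.map' 0 1 ≫ S.map' 1 2 = 0 := hS.toIsComplex.zero 0
    have hm : Mono (S.map' 0 1) := hmono
    let κ : S.obj 0 ⟶ kernel (S.map' 1 2) := kernel.lift (S.map' 1 2) (S.map' 0 1) hw
    have hκ1 : Mono κ := @mono_of_mono_fac _ _ _ _ _ (kernel.ι _) κ (S.map' 0 1) hm
      (kernel.lift_ι _ _ hw)
    have hκ2 : Epi κ := (ShortComplex.exact_iff_epi_kernel_lift _).1 (hS.exact 0)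
    have hκ : IsIso κ := isIso_of_mono_of_epi κ
    let e : S.obj 0 ≅ kernel (S.map' 1 2) := asIso κ
    -- coherence
    have hcoh1 : Coh.IsCoh (S.obj' 1) := isCoh_of_isFinLocFree _ (hE ⟨0, by omega⟩)
    have hcoh2 : Coh.IsCoh (S.obj' 2) := by
      by_cases hj : j = 0
      · subst hj
        exact hF
      · exact isCoh_of_isFinLocFree _ (hE ⟨1, by omega⟩)
    have hKcoh : Coh.IsCoh (kernel (S.map' 1 2)) := isCoh_kernel _ hcoh1 hcoh2
    have hK' : FlatMod.IsFinLocFree (kernel (S.map' 1 2)) :=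
      isFinLocFree_of_projective_stalks _ hKcoh hK
    intro x
    obtain ⟨U, n, hxU, ⟨i⟩⟩ := hK' x
    exact ⟨U, n, hxU, ⟨(Scheme.Modules.restrictFunctor U.ι).mapIso e ≪≫ i⟩⟩

end Groth.Agent.S16240
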