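import Mathlib
import Groth.Prelude
import Groth.Statements.S16290
import Groth.Agent.Lib.Seat90NodeQE
import Groth.Agent.Lib.Seat90NodeFib

set_option autoImplicit false
set_option linter.style.haveILetI false
universe u
open CategoryTheory CategoryTheory.Limits AlgebraicGeometry
open Curves

namespace Groth.Agent.S16290

/-- Let f : T → S be a morphism of schemes, locally of finite type, t ∈ T a point with image s such that
f is flat at t and O_{S,s} is Noetherian. Suppose t is a node of the fibre T_s with residue field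
κ(s), taken in the form: t is a closed point of T_s and the completion of O_{T_s,t} is isomorphic,
compatibly with κ(s), to κ(s)[[u,v]]/(q) for a binary quadratic form q = a u^2 + b uv + c v^2 over
κ(s) with b^2 - 4ac ≠ 0 (q need not split). Then there are a binary quadratic form Q = a u^2 + b uv
+ c v^2 over the completion Â of O_{S,s} whose discriminant b^2 - 4ac is a unit of Â, an element h
of the maximal ideal of Â, and an isomorphism of the completion of O_{T,t} with Â[[u,v]]/(Q - h)
compatible with the maps from O_{S,s}. (The published statement assumes f is a nodal relative curve,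
i.e. flat, of finite presentation and of relative dimension one with nodal geometric fibres, over a
Noetherian base; here only f locally of finite type and flat at t with O_{S,s} Noetherian is
assumed, and the node is taken in completed form, which is what the argument uses.) -/
theorem result {T S : Scheme.{u}} (f : T ⟶ S) [LocallyOfFiniteType f] (t : T)
    [IsNoetherianRing (S.presheaf.stalk (f t))] (hfl : (f.stalkMap t).hom.Flat)
    (ht : letI : (f.fiber (f t)).Over (Spec (CommRingCat.of (S.residueField (f t)))) := ⟨f.fiberToSpecResidueField (f t)⟩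
      letI := Curv2.stalkAlgebra (S.residueField (f t)) (f.fiber (f t)) (f.asFiber t)
      IsClosed ({f.asFiber t} : Set (f.fiber (f t))) ∧
        ∃ a b c : S.residueField (f t), b ^ 2 - 4 * a * c ≠ 0 ∧
          ∃ e : Curv2.cpl ((f.fiber (f t)).presheaf.stalk (f.asFiber t)) ≃+*
              (MvPowerSeries (Fin 2) (S.residueField (f t)) ⧸ Ideal.span
                {(MvPowerSeries.C a * MvPowerSeries.X 0 ^ 2 + MvPowerSeries.C b * MvPowerSeries.X 0 * MvPowerSeries.X 1 +
                  MvPowerSeries.C c * MvPowerSeries.X 1 ^ 2 : MvPowerSeries (Fin 2) (S.residueField (f t)))}),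
            ∀ r : S.residueField (f t),
              e (algebraMap ((f.fiber (f t)).presheaf.stalk (f.asFiber t)) _
                  (algebraMap (S.residueField (f t)) ((f.fiber (f t)).presheaf.stalk (f.asFiber t)) r)) =
                Ideal.Quotient.mk _ (MvPowerSeries.C r)) :
    ∃ a b c : Curv2.cpl (S.presheaf.stalk (f t)), IsUnit (b ^ 2 - 4 * a * c) ∧
      ∃ h ∈ IsLocalRing.maximalIdeal (Curv2.cpl (S.presheaf.stalk (f t))),
        ∃ e : Curv2.cpl (T.presheaf.stalk t) ≃+*
            (MvPowerSeries (Fin 2) (Curv2.cpl (S.presheaf.stalk (f t))) ⧸ Ideal.span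
              {(MvPowerSeries.C a * MvPowerSeries.X 0 ^ 2 + MvPowerSeries.C b * MvPowerSeries.X 0 * MvPowerSeries.X 1 +
                MvPowerSeries.C c * MvPowerSeries.X 1 ^ 2 - MvPowerSeries.C h : MvPowerSeries (Fin 2) (Curv2.cpl (S.presheaf.stalk (f t))))}),
          ∀ r : S.presheaf.stalk (f t),
            e (algebraMap (T.presheaf.stalk t) (Curv2.cpl (T.presheaf.stalk t)) ((f.stalkMap t).hom r)) =
              Ideal.Quotient.mk _ (MvPowerSeries.C (algebraMap (S.presheaf.stalk (f t)) (Curv2.cpl (S.presheaf.stalk (f t))) r)) := by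
  classical
  obtain ⟨-, a, b, c, hne, e, he⟩ := ht
  obtain ⟨qa, rfl⟩ := IsLocalRing.residue_surjective a
  obtain ⟨qb, rfl⟩ := IsLocalRing.residue_surjective b
  obtain ⟨qc, rfl⟩ := IsLocalRing.residue_surjective c
  have hdisc : IsUnit (qb ^ 2 - 4 * qa * qc) := by
    rw [← IsLocalRing.residue_ne_zero_iff_isUnit, map_sub, map_pow, map_mul, map_mul, map_ofNat]
    exact hne
  letI alg : Algebra (S.presheaf.stalk (f t)) (T.presheaf.stalk t) :=
    (f.stalkMap t).hom.toAlgebra
  haveI hloc : IsLocalHom (algebraMap (S.presheaf.stalk (f t)) (T.presheaf.stalk t)) :=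
    inferInstanceAs (IsLocalHom (f.stalkMap t).hom)
  haveI hflat : Module.Flat (S.presheaf.stalk (f t)) (T.presheaf.stalk t) := hfl
  haveI hnoeth : IsNoetherianRing (T.presheaf.stalk t) := by
    haveI : Algebra.EssFiniteType (S.presheaf.stalk (f t)) (T.presheaf.stalk t) :=
      LocallyOfFiniteType.stalkMap f t
    exact Algebra.EssFiniteType.isNoetherianRing (S.presheaf.stalk (f t)) (T.presheaf.stalk t)
  obtain ⟨θ, hθ⟩ := Groth.Agent.Lib.Seat90.NodeFib.exists_stalk_fiber_equiv f t (f.asFiber t)
    (f.fiberι_asFiber t)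
  have hmax : (IsLocalRing.maximalIdeal ((f.fiber (f t)).presheaf.stalk (f.asFiber t))).map
      (θ : _ →+* _) =
      (IsLocalRing.maximalIdeal (T.presheaf.stalk t)).map
        (Ideal.Quotient.mk (Groth.Agent.Lib.Helper5.FiberStalk.fibIdeal f t)) := by
    rw [IsLocalRing.map_maximalIdeal_of_surjective _ Ideal.Quotient.mk_surjective]
    exact IsLocalRing.map_ringEquiv_maximalIdeal θ
  let e₀ := (Groth.Agent.Lib.Seat90.NodeBridge.complEquiv _ _ θ hmax).symm.trans e
  have he₀ : ∀ a : S.presheaf.stalk (f t),
      e₀ (algebraMap (T.presheaf.stalk t ⧸ Groth.Agent.Lib.Helper5.FiberStalk.fibIdeal f t) _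
        (Ideal.Quotient.mk _ ((f.stalkMap t).hom a))) =
      Ideal.Quotient.mk _ (MvPowerSeries.C (IsLocalRing.residue _ a)) := by
    intro a
    have h1 := hθ ((Scheme.ΓSpecIso (S.residueField (f t))).inv.hom (IsLocalRing.residue _ a))
    have h2 : (Scheme.ΓSpecIso (S.residueField (f t))).hom.hom
        ((Scheme.ΓSpecIso (S.residueField (f t))).inv.hom (IsLocalRing.residue _ a)) =
        IsLocalRing.residue _ a := by
      simp
    rw [h2, Groth.Agent.Lib.Seat90.NodeFib.toQ_residue] at h1
    have h3 := he (IsLocalRing.residue _ a)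
    change e ((Groth.Agent.Lib.Seat90.NodeBridge.complEquiv _ _ θ hmax).symm _) = _
    rw [← h1, ← Groth.Agent.Lib.Seat90.NodeBridge.complEquiv_algebraMap _ _ θ hmax,
      RingEquiv.symm_apply_apply]
    exact h3
  obtain ⟨h, hh, E, hE⟩ := Groth.Agent.Lib.Seat90.NodeQ.coreQ
    (S.presheaf.stalk (f t)) (T.presheaf.stalk t) qa qb qc hdisc e₀ he₀
  refine ⟨algebraMap _ _ qa, algebraMap _ _ qb, algebraMap _ _ qc, ?_, h, hh, E, hE⟩
  have h4 := hdisc.map (algebraMap (S.presheaf.stalk (f t))
    (Curv2.cpl (S.presheaf.stalk (f t))))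
  rw [map_sub, map_pow, map_mul, map_mul, map_ofNat] at h4
  exact h4

end Groth.Agent.S16290
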