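import Groth.Statements.S16347
import Groth.Agent.Lib.Seat77CubicLines
import Groth.Agent.Lib.Seat77CubicC
-- import your own Groth.Agent.* helpers here

set_option autoImplicit false
universe u
open Cubic

namespace Groth.Agent.S16347

open Module in
/-- a plane containing `a ≠ 0` is spanned by `a` and a vector outside the line `K a`. -/
theorem exists_vector {K : Type u} [Field K] {V : Type*} [AddCommGroup V] [Module K V]
    [FiniteDimensional K V] (a : V) (U : Submodule K V) (_haU : a ∈ U) (hU : finrank K U = 2) :
    ∃ x ∈ U, x ∉ Submodule.span K {a} := by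
  by_contra hcon
  push Not at hcon
  have hle : U ≤ Submodule.span K {a} := fun x hx => hcon x hx
  have h1 := Submodule.finrank_mono hle
  have h2 : finrank K (Submodule.span K {a}) ≤ 1 := by
    have := finrank_span_le_card (R := K) ({a} : Set V)
    simpa using this
  omega


/-- Let K be an algebraically closed field of characteristic zero and S = V(F) ⊂ P^3_K a cubic surface,
F a homogeneous cubic in four variables which is irreducible and not a cone (there is no nonzero
vector v with Σ_i v_i ∂F/∂x_i = 0). If a is a singular point of S (a nonzero vector with F(a) = 0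
and every ∂F/∂x_i(a) = 0), then at most six lines through a lie on S; here a line through a on S is
a 2-dimensional subspace of K^4 containing a on which F vanishes identically. -/
theorem result (K : Type u) [Field K] [IsAlgClosed K] [CharZero K]
    (F : MvPolynomial (Fin 4) K) (hF : F.IsHomogeneous 3) (hirr : Irreducible F)
    (hcone : ¬ ∃ v : Fin 4 → K, v ≠ 0 ∧ ∑ i : Fin 4, v i • MvPolynomial.pderiv i F = 0)
    (a : Fin 4 → K) (ha : a ≠ 0) (hFa : MvPolynomial.eval a F = 0)
    (hsing : ∀ i : Fin 4, MvPolynomial.eval a (MvPolynomial.pderiv i F) = 0) :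
    {U : Submodule K (Fin 4 → K) | a ∈ U ∧ Module.finrank K ↥U = 2 ∧ ∀ u ∈ U, MvPolynomial.eval u F = 0}.encard ≤ 6 := by
  classical
  by_contra hcon
  rw [not_le] at hcon
  set S := {U : Submodule K (Fin 4 → K) | a ∈ U ∧ Module.finrank K ↥U = 2 ∧
    ∀ u ∈ U, MvPolynomial.eval u F = 0} with hS
  have h7 : ((7 : ℕ) : ℕ∞) ≤ S.encard := by
    have : ((6 : ℕ) : ℕ∞) + 1 ≤ S.encard := Order.add_one_le_of_lt hcon
    exact_mod_cast this
  obtain ⟨T, hTS, hT⟩ := Set.exists_subset_encard_eq h7
  have hfin : T.Finite := Set.finite_of_encard_eq_coe hT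
  have hcard : hfin.toFinset.card = 7 := by
    have := hfin.encard_eq_coe_toFinset_card
    rw [hT] at this
    exact_mod_cast this.symm
  let e : hfin.toFinset ≃ Fin 7 := Finset.equivFinOfCardEq hcard
  let U : Fin 7 → Submodule K (Fin 4 → K) := fun i => (e.symm i).1
  have hUinj : Function.Injective U := fun i j hij => e.symm.injective (Subtype.ext hij)
  have hUS : ∀ i, U i ∈ S := fun i => hTS (hfin.mem_toFinset.1 (e.symm i).2)
  have hxex : ∀ i, ∃ x ∈ U i, x ∉ Submodule.span K {a} :=
    fun i => exists_vector a (U i) (hUS i).1 (hUS i).2.1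
  choose x hxU hxa using hxex
  -- `U i` is spanned by `a` and `x i`
  have hind : ∀ i (s t : K), s • a + t • x i = 0 → s = 0 ∧ t = 0 := by
    intro i s t hst
    have ht : t = 0 := by
      by_contra ht0
      apply hxa i
      rw [Submodule.mem_span_singleton]
      refine ⟨-(t⁻¹ * s), ?_⟩
      have h1 : t • x i = -(s • a) := eq_neg_of_add_eq_zero_right hst
      calc -(t⁻¹ * s) • a = t⁻¹ • (-(s • a)) := by rw [neg_smul, mul_smul, smul_neg]
        _ = t⁻¹ • (t • x i) := by rw [h1]
        _ = x i := by rw [smul_smul, inv_mul_cancel₀ ht0, one_smul]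
    refine ⟨?_, ht⟩
    rw [ht, zero_smul, add_zero] at hst
    exact (smul_eq_zero.1 hst).resolve_right ha
  have hspan : ∀ i, Submodule.span K {a, x i} = U i := by
    intro i
    apply Submodule.eq_of_le_of_finrank_eq
    · rw [Submodule.span_le]
      rintro z (rfl | rfl)
      · exact (hUS i).1
      · exact hxU i
    · rw [Groth.Agent.Lib.Seat77.Cubic.finrank_span_pair (hind i), (hUS i).2.1]
  apply Groth.Agent.Lib.Seat77.CubicLines.no_seven_lines F hF hirr hcone a ha hFa hsing x
  · intro i j hij r s t hrst
    have ht : t = 0 := by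
      by_contra ht0
      -- then `x j ∈ U i`, hence `U j ≤ U i`
      have hxj : x j ∈ U i := by
        rw [← hspan i, Submodule.mem_span_pair]
        refine ⟨-(t⁻¹ * r), -(t⁻¹ * s), ?_⟩
        have h1 : t • x j = -(r • a + s • x i) := eq_neg_of_add_eq_zero_right hrst
        calc -(t⁻¹ * r) • a + -(t⁻¹ * s) • x i = t⁻¹ • (-(r • a + s • x i)) := by
              rw [neg_smul, neg_smul, mul_smul, mul_smul, smul_neg, smul_add]
              abel
          _ = t⁻¹ • (t • x j) := by rw [h1]
          _ = x j := by rw [smul_smul, inv_mul_cancel₀ ht0, one_smul]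
      have hle : U j ≤ U i := by
        rw [← hspan j, Submodule.span_le]
        rintro z (rfl | rfl)
        · exact (hUS i).1
        · exact hxj
      have heq : U j = U i :=
        Submodule.eq_of_le_of_finrank_eq hle (by rw [(hUS i).2.1, (hUS j).2.1])
      exact hij (hUinj heq).symm
    refine ⟨?_, ht⟩
    rw [ht, zero_smul, add_zero] at hrst
    exact (hind i r s hrst).2
  · intro i σ τ
    apply (hUS i).2.2
    exact (U i).add_mem ((U i).smul_mem σ (hUS i).1) ((U i).smul_mem τ (hxU i))


end Groth.Agent.S16347
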