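import Groth.Statements.S16352
import Groth.Agent.Lib.Seat77CubicA
import Groth.Agent.Lib.Seat77CubicB
import Groth.Agent.Lib.Seat77CubicC
import Mathlib

set_option autoImplicit false
universe u
open Cubic

namespace Groth.Agent.S16352

open MvPolynomial Module Groth.Agent.Lib.Seat77.Cubic

/-- solving a linear equation in two unknowns -/
theorem exists_mu {K : Type*} [Field K] {α β t₁ t₂ : K} (h : α * t₁ + β * t₂ = 0)
    (hne : ¬ (α = 0 ∧ β = 0)) : ∃ μ : K, t₁ = μ * β ∧ t₂ = -(μ * α) := by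
  by_cases hα : α = 0
  · have hβ : β ≠ 0 := fun hβ => hne ⟨hα, hβ⟩
    rw [hα, zero_mul, zero_add] at h
    have ht₂ : t₂ = 0 := (mul_eq_zero.mp h).resolve_left hβ
    refine ⟨t₁ / β, ?_, ?_⟩
    · field_simp
    · rw [hα, ht₂]; ring
  · refine ⟨-t₂ / α, ?_, ?_⟩
    · have : t₁ = -(β * t₂) / α := by
        field_simp
        linear_combination h
      rw [this]; ring
    · field_simp

/-- Let K be an algebraically closed field of characteristic zero and S = V(F) ⊂ P^3_K a cubic surface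
which is irreducible and not a cone (no nonzero vector v has Σ_i v_i ∂F/∂x_i = 0). Let a be a smooth
point of S which is not a T-point: with ℓ = Σ_i ∂F/∂x_i(a) · x_i the (nonzero) linear form of the
tangent plane T_a S, F is not congruent modulo ℓ to a product of three linear forms (i.e. T_a S ∩ S
is not set-theoretically a union of lines). Let P = Σ_i a_i ∂F/∂x_i be the first polar of a. Then
V(P) ∩ T_a S is a union of at most two lines through a, and every line through a lying on S lies in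
V(P) ∩ T_a S; lines are 2-dimensional subspaces of K^4 and T_a S is the 3-dimensional subspace where
ℓ vanishes. -/
theorem result (K : Type u) [Field K] [IsAlgClosed K] [CharZero K]
    (F : MvPolynomial (Fin 4) K) (hF : F.IsHomogeneous 3) (hirr : Irreducible F)
    (hcone : ¬ ∃ v : Fin 4 → K, v ≠ 0 ∧ ∑ i : Fin 4, v i • MvPolynomial.pderiv i F = 0)
    (a : Fin 4 → K) (ha : a ≠ 0) (hFa : MvPolynomial.eval a F = 0)
    (hsm : ∃ i : Fin 4, MvPolynomial.eval a (MvPolynomial.pderiv i F) ≠ 0)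
    (ℓ : MvPolynomial (Fin 4) K)
    (hℓ : ℓ = ∑ i : Fin 4, MvPolynomial.C (MvPolynomial.eval a (MvPolynomial.pderiv i F)) * MvPolynomial.X i)
    (hT : ¬ ∃ L₁ L₂ L₃ : MvPolynomial (Fin 4) K, L₁.IsHomogeneous 1 ∧ L₂.IsHomogeneous 1 ∧ L₃.IsHomogeneous 1 ∧
      F - L₁ * L₂ * L₃ ∈ Ideal.span {ℓ})
    (P : MvPolynomial (Fin 4) K) (hP : P = ∑ i : Fin 4, a i • MvPolynomial.pderiv i F)
    (H : Submodule K (Fin 4 → K)) (hH : ∀ x : Fin 4 → K, x ∈ H ↔ MvPolynomial.eval x ℓ = 0) :
    (∃ U₁ U₂ : Submodule K (Fin 4 → K), Module.finrank K ↥U₁ = 2 ∧ Module.finrank K ↥U₂ = 2 ∧ a ∈ U₁ ∧ a ∈ U₂ ∧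
        U₁ ≤ H ∧ U₂ ≤ H ∧ {x : Fin 4 → K | x ∈ H ∧ MvPolynomial.eval x P = 0} = (U₁ : Set (Fin 4 → K)) ∪ (U₂ : Set (Fin 4 → K))) ∧
      ∀ U : Submodule K (Fin 4 → K), a ∈ U → Module.finrank K ↥U = 2 → (∀ u ∈ U, MvPolynomial.eval u F = 0) →
        U ≤ H ∧ ∀ u ∈ U, MvPolynomial.eval u P = 0 := by
  classical
  have h2 : (2 : K) ≠ 0 := two_ne_zero
  have hevalℓ : ∀ x : Fin 4 → K, eval x ℓ = ∑ i, eval a (pderiv i F) * x i := by
    intro x
    rw [hℓ]
    simp only [map_sum, map_mul, eval_C, eval_X]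
  have hlam : ∀ x : Fin 4 → K, eval x ℓ = D x a F := by
    intro x
    rw [hevalℓ]
    exact Finset.sum_congr rfl fun i _ => mul_comm _ _
  have hPol : ∀ x : Fin 4 → K, eval x P = D a x F := by
    intro x
    rw [hP]
    simp only [map_sum, smul_eval, D]
  -- Taylor expansions through `a`
  have hT1 : ∀ (x : Fin 4 → K) (σ τ : K), eval (σ • a + τ • x) F =
      σ ^ 2 * τ * eval x ℓ + σ * τ ^ 2 * eval x P + τ ^ 3 * eval x F := by
    intro x σ τ
    rw [taylor F hF a x σ τ, hFa, hlam, hPol]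
    ring
  have hP1 : ∀ (x : Fin 4 → K) (σ τ : K), eval (σ • a + τ • x) P =
      2 * σ * τ * eval x ℓ + τ ^ 2 * eval x P := by
    intro x σ τ
    rw [hPol, polar_line F hF a x σ τ, hFa, hlam, hPol]
    ring
  -- `a ∈ H`
  have hla : eval a ℓ = 0 := by
    have e1 := hT1 a 1 1
    have h3 : (1 : K) • a + (1 : K) • a = (2 : K) • a + (0 : K) • a := by
      ext i
      simp only [Pi.add_apply, Pi.smul_apply, smul_eq_mul]
      ring
    rw [h3, hT1 a 2 0] at e1
    have h4 : eval a P = eval a ℓ := by rw [hlam, hPol]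
    rw [h4, hFa] at e1
    have h5 : 2 * eval a ℓ = 0 := by linear_combination -e1
    exact (mul_eq_zero.mp h5).resolve_left h2
  have haH : a ∈ H := (hH a).mpr hla
  refine ⟨?_, ?_⟩
  swap
  · -- lines through `a` on the surface
    intro U haU _ hFU
    have key : ∀ u ∈ U, eval u ℓ = 0 ∧ eval u P = 0 := by
      intro u hu
      have e1 := hT1 u 1 1
      rw [hFU _ (U.add_mem (U.smul_mem 1 haU) (U.smul_mem 1 hu)), hFU u hu] at e1
      have e2 := hT1 u (-1) 1
      rw [hFU _ (U.add_mem (U.smul_mem (-1) haU) (U.smul_mem 1 hu)), hFU u hu] at e2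
      have hl : 2 * eval u ℓ = 0 := by linear_combination -e1 - e2
      have hl' : eval u ℓ = 0 := (mul_eq_zero.mp hl).resolve_left h2
      exact ⟨hl', by linear_combination -e1 - hl'⟩
    exact ⟨fun u hu => (hH u).mpr (key u hu).1, fun u hu => (key u hu).2⟩
  -- dimension of `H`
  let lam : (Fin 4 → K) →ₗ[K] K := ∑ i, eval a (pderiv i F) • LinearMap.proj i
  have hlam' : ∀ x, lam x = eval x ℓ := by
    intro x
    rw [hevalℓ]
    simp [lam]
  have hHker : H = LinearMap.ker lam := by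
    ext x
    rw [hH, LinearMap.mem_ker, hlam']
  have hH3 : finrank K H = 3 := by
    obtain ⟨m, hm⟩ := hsm
    have hsurj : Function.Surjective lam := by
      intro t
      refine ⟨Pi.single m (t / eval a (pderiv m F)), ?_⟩
      rw [hlam', hevalℓ]
      simp only [Pi.single_apply, mul_ite, mul_zero, Finset.sum_ite_eq', Finset.mem_univ, if_true]
      field_simp
    have h1 := LinearMap.finrank_range_add_finrank_ker lam
    rw [LinearMap.range_eq_top.mpr hsurj, finrank_top, Module.finrank_self,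
      Module.finrank_fin_fun] at h1
    rw [hHker]
    omega
  obtain ⟨w₁, w₂, T₀, T₁, T₂, hw₁, hw₂, hT₁a, hT₂a, h11, h12, h21, h22, hdec⟩ :=
    exists_adapted H hH3 a haH ha
  have hy : ∀ t₁ t₂ : K, eval (t₁ • w₁ + t₂ • w₂) ℓ = 0 := fun t₁ t₂ =>
    (hH _).mp (H.add_mem (H.smul_mem _ hw₁) (H.smul_mem _ hw₂))
  -- the binary quadratic form
  set b₀ : K := eval w₁ P with hb₀
  set b₂ : K := eval w₂ P with hb₂
  set b₁ : K := eval (w₁ + w₂) P - eval w₁ P - eval w₂ P with hb₁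
  have hq : ∀ t₁ t₂ : K, eval (t₁ • w₁ + t₂ • w₂) P =
      b₀ * t₁ ^ 2 + b₁ * t₁ * t₂ + b₂ * t₂ ^ 2 := by
    intro t₁ t₂
    rw [hb₀, hb₁, hb₂, hPol, hPol, hPol, hPol, polar_plane F hF a w₁ w₂ t₁ t₂]
    ring
  have hPH : ∀ σ t₁ t₂ : K, eval (σ • a + t₁ • w₁ + t₂ • w₂) P =
      b₀ * t₁ ^ 2 + b₁ * t₁ * t₂ + b₂ * t₂ ^ 2 := by
    intro σ t₁ t₂
    have e := hP1 (t₁ • w₁ + t₂ • w₂) σ 1
    rw [one_smul, hy, hq] at e
    rw [add_assoc, e]
    ring
  by_cases hb : b₀ = 0 ∧ b₁ = 0 ∧ b₂ = 0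
  · -- the polar vanishes on `H`: then `a` is a T-point
    exfalso
    obtain ⟨hb0, hb1, hb2⟩ := hb
    have hPy : ∀ t₁ t₂ : K, eval (t₁ • w₁ + t₂ • w₂) P = 0 := by
      intro t₁ t₂
      rw [hq, hb0, hb1, hb2]
      ring
    have hFH : ∀ σ t₁ t₂ : K, eval (σ • a + t₁ • w₁ + t₂ • w₂) F =
        eval (t₁ • w₁ + t₂ • w₂) F := by
      intro σ t₁ t₂
      have e := hT1 (t₁ • w₁ + t₂ • w₂) σ 1
      rw [one_smul, hy, hPy] at e
      rw [add_assoc, e]
      ring
    have hcub : ∀ t₁ t₂ : K, eval (t₁ • w₁ + t₂ • w₂) F =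
        eval w₁ F * t₁ ^ 3 + D w₂ w₁ F * t₁ ^ 2 * t₂ + D w₁ w₂ F * t₁ * t₂ ^ 2 +
          eval w₂ F * t₂ ^ 3 := by
      intro t₁ t₂
      rw [taylor F hF w₁ w₂ t₁ t₂]
      ring
    obtain ⟨α₁, β₁, α₂, β₂, α₃, β₃, hfac⟩ :=
      binary_cubic_factor (eval w₁ F) (D w₂ w₁ F) (D w₁ w₂ F) (eval w₂ F)
    let L : K → K → MvPolynomial (Fin 4) K := fun α β => linPoly (α • T₁ + β • T₂)
    have hL : ∀ (α β : K) (x : Fin 4 → K), eval x (L α β) = α * T₁ x + β * T₂ x := by
      intro α β x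
      simp [L, eval_linPoly]
    apply hT
    refine ⟨L α₁ β₁, L α₂ β₂, L α₃ β₃, linPoly_isHomogeneous _, linPoly_isHomogeneous _,
      linPoly_isHomogeneous _, ?_⟩
    rw [hℓ]
    obtain ⟨m, hm⟩ := hsm
    haveI : Infinite K := inferInstance
    apply mem_span_of_vanishes (fun i => eval a (pderiv i F)) m hm
    intro x hx
    have hxH : x ∈ H := by
      rw [hH, hevalℓ]
      exact hx
    have hx' := hdec x hxH
    have hFx : eval x F = eval (T₁ x • w₁ + T₂ x • w₂) F := by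
      conv_lhs => rw [hx']
      exact hFH _ _ _
    rw [map_sub, map_mul, map_mul, hL, hL, hL, hFx, hcub, hfac]
    ring
  · -- the polar is a nonzero binary quadratic form on `H / a`
    obtain ⟨α₁, β₁, α₂, β₂, hfac⟩ := binary_quadratic_factor b₀ b₁ b₂
    have hne : ∀ α β α' β' : K, (∀ t₁ t₂ : K, b₀ * t₁ ^ 2 + b₁ * t₁ * t₂ + b₂ * t₂ ^ 2 =
        (α * t₁ + β * t₂) * (α' * t₁ + β' * t₂)) → ¬ (α = 0 ∧ β = 0) := by
      rintro α β α' β' hf ⟨h1, h2'⟩
      apply hb
      have e10 := hf 1 0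
      have e01 := hf 0 1
      have e11 := hf 1 1
      rw [h1, h2'] at e10 e01 e11
      refine ⟨by linear_combination e10, ?_, by linear_combination e01⟩
      linear_combination e11 - e10 - e01
    have hne₁ : ¬ (α₁ = 0 ∧ β₁ = 0) := hne α₁ β₁ α₂ β₂ hfac
    have hne₂ : ¬ (α₂ = 0 ∧ β₂ = 0) := hne α₂ β₂ α₁ β₁ (fun t₁ t₂ => by rw [hfac]; ring)
    -- the two lines
    have hline : ∀ α β : K, ¬ (α = 0 ∧ β = 0) →
        finrank K (Submodule.span K ({a, β • w₁ - α • w₂} : Set (Fin 4 → K))) = 2 ∧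
        a ∈ Submodule.span K ({a, β • w₁ - α • w₂} : Set (Fin 4 → K)) ∧
        Submodule.span K ({a, β • w₁ - α • w₂} : Set (Fin 4 → K)) ≤ H := by
      intro α β hαβ
      refine ⟨?_, Submodule.subset_span (Set.mem_insert _ _), ?_⟩
      · apply finrank_span_pair
        intro s t hst
        have e1 := congrArg T₁ hst
        have e2 := congrArg T₂ hst
        simp only [map_add, map_smul, map_sub, smul_eq_mul, hT₁a, hT₂a, h11, h12, h21, h22,
          map_zero] at e1 e2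
        have ht : t = 0 := by
          by_contra ht
          apply hαβ
          constructor
          · have : t * α = 0 := by linear_combination -e2
            exact (mul_eq_zero.mp this).resolve_left ht
          · have : t * β = 0 := by linear_combination e1
            exact (mul_eq_zero.mp this).resolve_left ht
        rw [ht, zero_smul, add_zero] at hst
        exact ⟨(smul_eq_zero.mp hst).resolve_right ha, ht⟩
      · apply Submodule.span_le.mpr
        rintro z (rfl | rfl)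
        · exact haH
        · exact H.sub_mem (H.smul_mem _ hw₁) (H.smul_mem _ hw₂)
    obtain ⟨hU₁f, hU₁a, hU₁H⟩ := hline α₁ β₁ hne₁
    obtain ⟨hU₂f, hU₂a, hU₂H⟩ := hline α₂ β₂ hne₂
    refine ⟨_, _, hU₁f, hU₂f, hU₁a, hU₂a, hU₁H, hU₂H, ?_⟩
    -- points of the line `span {a, β w₁ - α w₂}`
    have hmemline : ∀ (α β : K) (x : Fin 4 → K),
        x ∈ Submodule.span K ({a, β • w₁ - α • w₂} : Set (Fin 4 → K)) →
          ∃ s t : K, x = s • a + (t * β) • w₁ + (-(t * α)) • w₂ := by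
      intro α β x hx
      obtain ⟨s, t, rfl⟩ := Submodule.mem_span_pair.mp hx
      refine ⟨s, t, ?_⟩
      ext j
      simp only [Pi.add_apply, Pi.smul_apply, Pi.sub_apply, smul_eq_mul]
      ring
    ext x
    simp only [Set.mem_ofPred_eq, Set.mem_union, SetLike.mem_coe]
    constructor
    · rintro ⟨hxH, hPx⟩
      have hx' := hdec x hxH
      have e : eval x P = (α₁ * T₁ x + β₁ * T₂ x) * (α₂ * T₁ x + β₂ * T₂ x) := by
        conv_lhs => rw [hx']
        rw [hPH, hfac]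
      rw [hPx] at e
      rcases mul_eq_zero.mp e.symm with h0 | h0
      · left
        obtain ⟨μ, hμ1, hμ2⟩ := exists_mu h0 hne₁
        rw [Submodule.mem_span_pair]
        refine ⟨T₀ x, μ, ?_⟩
        conv_rhs => rw [hx', hμ1, hμ2]
        ext j
        simp only [Pi.add_apply, Pi.smul_apply, Pi.sub_apply, smul_eq_mul]
        ring
      · right
        obtain ⟨μ, hμ1, hμ2⟩ := exists_mu h0 hne₂
        rw [Submodule.mem_span_pair]
        refine ⟨T₀ x, μ, ?_⟩
        conv_rhs => rw [hx', hμ1, hμ2]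
        ext j
        simp only [Pi.add_apply, Pi.smul_apply, Pi.sub_apply, smul_eq_mul]
        ring
    · rintro (hx | hx)
      · refine ⟨hU₁H hx, ?_⟩
        obtain ⟨s, t, rfl⟩ := hmemline α₁ β₁ x hx
        rw [hPH, hfac]
        ring
      · refine ⟨hU₂H hx, ?_⟩
        obtain ⟨s, t, rfl⟩ := hmemline α₂ β₂ x hx
        rw [hPH, hfac]
        ring

end Groth.Agent.S16352
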