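import Groth.Statements.S16394
import Groth.Agent.Lib.Seat77KerIdeal

set_option autoImplicit false
universe u
open CategoryTheory MonoidalCategory CartesianMonoidalCategory MonObj GrpObj AlgebraicGeometry
open AbVar

namespace Groth.Agent.S16394

/-- (b₁) ⇒ (c₁): let k be a finite field and X, A abelian varieties over k (proper, geometrically
integral commutative group schemes over k). Suppose the common kernel of all homomorphisms X → A is
trivial: every T-valued point of X over k that is sent to the unit by every homomorphism X → A is
the unit point (this is condition (b₁) for the trivial subgroup). Then there are finitely many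
homomorphisms ψ_1, …, ψ_n : X → A which are jointly monomorphic on T-valued points — two T-valued
points of X with the same image under every ψ_i are equal — so that (ψ_i) is an injective
homomorphism X → A^n. The published statement restricts X and A to abelian varieties whose Frobenius
is killed by a fixed polynomial; this row has no such restriction. -/
theorem result
    (k : Type u) [Field k] [Finite k] (X A : Over (Spec (CommRingCat.of k))) [GrpObj X] [IsCommMonObj X] [IsProper X.hom] [GeometricallyIntegral X.hom]
    [GrpObj A] [IsCommMonObj A] [IsProper A.hom] [GeometricallyIntegral A.hom]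
    (hsep : ∀ (T : Over (Spec (CommRingCat.of k))) (x : T ⟶ X), (∀ f : EndAV.Hom X A, x ≫ f.toHom = 1) → x = 1) :
    ∃ (n : ℕ) (ψ : Fin n → EndAV.Hom X A), ∀ (T : Over (Spec (CommRingCat.of k))) (x y : T ⟶ X),
      (∀ i, x ≫ (ψ i).toHom = y ≫ (ψ i).toHom) → x = y := by
  classical
  open Groth.Agent.Lib.Seat77.KerIdeal in
  have hsepA : IsSeparated A.hom := inferInstance
  have : IsLocallyNoetherian X.left := LocallyOfFiniteType.isLocallyNoetherian X.hom
  have : CompactSpace X.left := QuasiCompact.compactSpace_of_compactSpace X.hom
  have : IsNoetherian X.left := { }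
  have hwf := wellFoundedGT_idealSheafData X.left
  let I : EndAV.Hom X A → X.left.IdealSheafData := fun f => kerIdeal f.toHom
  obtain ⟨t, hts, ht⟩ := CompleteLattice.WellFoundedGT.isSupFiniteCompact _ (Set.range I)
  have ht' : ∀ J ∈ t, ∃ f : EndAV.Hom X A, I f = J := fun J hJ => hts hJ
  choose! g hg using ht'
  -- the finite family
  let t' : Finset (EndAV.Hom X A) := t.image g
  refine ⟨t'.card, fun i => (t'.equivFin.symm i).1, ?_⟩
  -- the key property of the family
  have hkey : ∀ (T : Over (Spec (CommRingCat.of k))) (z : T ⟶ X),
      (∀ i : Fin t'.card, z ≫ ((t'.equivFin.symm i).1).toHom = 1) → sSup (Set.range I) ≤ z.left.ker := by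
    intro T z hz
    rw [ht]
    refine Finset.sup_le fun J hJ => ?_
    have hmem : g J ∈ t' := Finset.mem_image_of_mem g hJ
    have := hz (t'.equivFin ⟨g J, hmem⟩)
    rw [Equiv.symm_apply_apply] at this
    rw [comp_eq_one_iff] at this
    change J ≤ _
    rw [← hg J hJ]
    exact this
  -- the common kernel is trivial
  let Z := (sSup (Set.range I)).subscheme
  let jj := (sSup (Set.range I)).subschemeι
  let Zo : Over (Spec (CommRingCat.of k)) := Over.mk (jj ≫ X.hom)
  let jo : Zo ⟶ X := Over.homMk jj rfl
  have hj1 : jo = 1 := by
    apply hsep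
    intro f
    rw [comp_eq_one_iff]
    change kerIdeal f.toHom ≤ jj.ker
    rw [Scheme.IdealSheafData.ker_subschemeι]
    exact le_sSup ⟨f, rfl⟩
  intro T x y hxy
  have hz : ∀ i : Fin t'.card, (x * y⁻¹) ≫ ((t'.equivFin.symm i).1).toHom = 1 := by
    intro i
    rw [MonObj.mul_comp, GrpObj.inv_comp, hxy i, mul_inv_cancel]
  have hle := hkey T (x * y⁻¹) hz
  have hle' : jj.ker ≤ (x * y⁻¹).left.ker := by
    rw [Scheme.IdealSheafData.ker_subschemeι]; exact hle
  let w : T.left ⟶ Z := IsClosedImmersion.lift jj (x * y⁻¹).left hle'
  have hw : w ≫ jj = (x * y⁻¹).left := IsClosedImmersion.lift_fac _ _ _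
  let wo : T ⟶ Zo := Over.homMk w (by
    change w ≫ jj ≫ X.hom = T.hom
    rw [← Category.assoc, hw, Over.w])
  have h1 : x * y⁻¹ = wo ≫ jo := by
    apply Over.OverMorphism.ext
    rw [Over.comp_left]
    exact hw.symm
  rw [hj1, MonObj.comp_one] at h1
  exact mul_inv_eq_one.mp h1

end Groth.Agent.S16394
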