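import Groth.Statements.S16417
import Groth.Agent.Lib.Seat77DieuLin

set_option autoImplicit false
universe u v w
open Dieud

namespace Groth.Agent.S16417

/-- For a prime p and a perfect field k of characteristic p, write W = W(k) for the ring of Witt vectors
and σ for its Frobenius; let M and N be free W-modules of finite rank, each with additive maps F
(σ-semilinear) and V (with V(σ(a)m) = aV(m)) satisfying FV = VF = p, and H = Hom_W(M, N); write VM ⊆
M and VN ⊆ N for the images of V. (a) A W-linear h : M → N maps VM into VN if and only if h(V m) =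
V(h'(m)) for all m for some W-linear h' : M → N (so the maps with this property form H ∩ V·H). (b)
The natural map from H to the W-linear maps VM → N/VN has image exactly the maps vanishing on pM =
V(FM): every such map is induced by some h ∈ H. (c) The W-length of H/(H ∩ V·H) is r₂ s₁, where r₂
is the length of N/VN and s₁ = rank M − length(M/VM) is the length of VM/pM. (The published
statement is for the Cartier modules of two p-divisible formal groups over k, every slope of the
first below every slope of the second, and phrases (b), (c) as an isomorphism of H/(H ∩ VH) with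
Hom_k(VM/pM, N/VN); only the structure listed is used, so connectedness and the slope condition are
not assumed.) -/
theorem result
    (p : ℕ) [Fact p.Prime] (k : Type u) [Field k] [CharP k p] [PerfectRing k p]
    (M : Type v) [AddCommGroup M] [Module (WittVector p k) M]
    [Module.Free (WittVector p k) M] [Module.Finite (WittVector p k) M]
    (N : Type w) [AddCommGroup N] [Module (WittVector p k) N]
    [Module.Free (WittVector p k) N] [Module.Finite (WittVector p k) N]
    (FM VM : M →+ M) (FN VN : N →+ N)
    (hFM : ∀ (a : WittVector p k) (m : M), FM (a • m) = WittVector.frobenius a • FM m)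
    (hVM : ∀ (a : WittVector p k) (m : M), VM (WittVector.frobenius a • m) = a • VM m)
    (hFVM : ∀ m : M, FM (VM m) = (p : WittVector p k) • m)
    (hVFM : ∀ m : M, VM (FM m) = (p : WittVector p k) • m)
    (hFN : ∀ (a : WittVector p k) (n : N), FN (a • n) = WittVector.frobenius a • FN n)
    (hVN : ∀ (a : WittVector p k) (n : N), VN (WittVector.frobenius a • n) = a • VN n)
    (hFVN : ∀ n : N, FN (VN n) = (p : WittVector p k) • n)
    (hVFN : ∀ n : N, VN (FN n) = (p : WittVector p k) • n)
    (r₂ s₁ : ℕ)
    (hr₂ : Module.length (WittVector p k) (N ⧸ Submodule.span (WittVector p k) (Set.range VN)) = r₂)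
    (hs₁ : (Module.finrank (WittVector p k) M : ℕ∞) =
      Module.length (WittVector p k) (M ⧸ Submodule.span (WittVector p k) (Set.range VM)) + s₁) :
    (∀ h : M →ₗ[WittVector p k] N,
      (∀ m : M, h (VM m) ∈ Submodule.span (WittVector p k) (Set.range VN)) ↔
        ∃ h' : M →ₗ[WittVector p k] N, ∀ m : M, h (VM m) = VN (h' m)) ∧
    (∀ g : Submodule.span (WittVector p k) (Set.range VM) →ₗ[WittVector p k]
        N ⧸ Submodule.span (WittVector p k) (Set.range VN),
      (∀ m : M, g ⟨VM (FM m), Submodule.subset_span ⟨FM m, rfl⟩⟩ = 0) →
      ∃ h : M →ₗ[WittVector p k] N, ∀ x : Submodule.span (WittVector p k) (Set.range VM),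
        (Submodule.span (WittVector p k) (Set.range VN)).mkQ (h x) = g x) ∧
    Module.length (WittVector p k) ((M →ₗ[WittVector p k] N) ⧸
      ⨅ m : M, (Submodule.span (WittVector p k) (Set.range VN)).comap
        (LinearMap.applyₗ (VM m) : (M →ₗ[WittVector p k] N) →ₗ[WittVector p k] N)) = (r₂ * s₁ : ℕ) := by
  classical
  have hπ : Irreducible (p : WittVector p k) := WittVector.irreducible p
  have hπ0 : (p : WittVector p k) ≠ 0 := hπ.ne_zero
  have hσ : Function.Surjective (WittVector.frobenius : WittVector p k → WittVector p k) :=
    (WittVector.frobenius_bijective p k).surjective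
  -- ranges of V are submodules
  have hrangeN : ∀ x : N, x ∈ Submodule.span (WittVector p k) (Set.range VN) → ∃ n, VN n = x := by
    intro x hx
    induction hx using Submodule.span_induction with
    | mem x hx => exact hx
    | zero => exact ⟨0, map_zero _⟩
    | add x y _ _ hx hy =>
      obtain ⟨a, rfl⟩ := hx
      obtain ⟨b, rfl⟩ := hy
      exact ⟨a + b, map_add _ _ _⟩
    | smul a x _ hx =>
      obtain ⟨n, rfl⟩ := hx
      exact ⟨WittVector.frobenius a • n, hVN a n⟩
  have hrangeM : ∀ x : M, x ∈ Submodule.span (WittVector p k) (Set.range VM) → ∃ m, VM m = x := by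
    intro x hx
    induction hx using Submodule.span_induction with
    | mem x hx => exact hx
    | zero => exact ⟨0, map_zero _⟩
    | add x y _ _ hx hy =>
      obtain ⟨a, rfl⟩ := hx
      obtain ⟨b, rfl⟩ := hy
      exact ⟨a + b, map_add _ _ _⟩
    | smul a x _ hx =>
      obtain ⟨n, rfl⟩ := hx
      exact ⟨WittVector.frobenius a • n, hVM a n⟩
  have hVNinj : Function.Injective VN := by
    rw [injective_iff_map_eq_zero]
    intro n hn
    have h1 : (p : WittVector p k) • n = 0 := by rw [← hFVN, hn, map_zero]
    exact (smul_eq_zero.mp h1).resolve_left hπ0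
  have hπM : ∀ m : M, (p : WittVector p k) • m ∈ Submodule.span (WittVector p k) (Set.range VM) :=
    fun m => Submodule.subset_span ⟨FM m, hVFM m⟩
  have hπN : ∀ n : N, (p : WittVector p k) • n ∈ Submodule.span (WittVector p k) (Set.range VN) :=
    fun n => Submodule.subset_span ⟨FN n, hVFN n⟩
  refine ⟨?_, ?_, ?_⟩
  · -- (a)
    intro h
    constructor
    · intro hh
      choose f hf using fun m => hrangeN _ (hh m)
      refine ⟨{ toFun := f, map_add' := ?_, map_smul' := ?_ }, fun m => (hf m).symm⟩
      · intro x y
        apply hVNinj
        rw [map_add, hf, hf, hf, map_add, map_add]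
      · intro a x
        obtain ⟨b, rfl⟩ := hσ a
        apply hVNinj
        rw [RingHom.id_apply, hf, hVM, map_smul, hVN, hf]
    · rintro ⟨h', hh'⟩ m
      rw [hh']
      exact Submodule.subset_span ⟨_, rfl⟩
  · -- (b)
    intro g hg
    refine Groth.Agent.Lib.Seat77.DieuLin.exists_lift (p : WittVector p k) hπ _ hπM _ g ?_
    intro m
    have : (⟨(p : WittVector p k) • m, hπM m⟩ :
        Submodule.span (WittVector p k) (Set.range VM)) =
        ⟨VM (FM m), Submodule.subset_span ⟨FM m, rfl⟩⟩ := Subtype.ext (hVFM m).symm
    rw [this]
    exact hg m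
  · -- (c)
    refine Groth.Agent.Lib.Seat77.DieuLin.length_hom_quotient (p : WittVector p k) hπ _ hπM _ hπN
      _ ?_ r₂ s₁ hr₂ hs₁
    intro h
    rw [Submodule.mem_iInf]
    constructor
    · intro hh x hx
      obtain ⟨m, rfl⟩ := hrangeM x hx
      exact hh m
    · intro hh m
      exact hh _ (Submodule.subset_span ⟨m, rfl⟩)

end Groth.Agent.S16417
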