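import Groth.Statements.S16438
import Groth.Agent.Lib.Seat77ShSub
import Mathlib

set_option autoImplicit false
universe u
open EGA4loc

namespace Groth.Agent.S16438

open IsLocalRing Groth.Agent.Lib.Seat77.ShSub

open IsLocalRing in
/-- Let A be a Noetherian local ring with maximal ideal m, S a strict henselization of A, and D an
A-subalgebra of S which is a local ring dominated by S (the inclusion is local), essentially of
finite type over A, and such that m D is the maximal ideal of D. Then D is an essentially etale
local A-algebra: A-isomorphic to the localization of an etale A-algebra at a prime over m. (The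
published statement also assumes the total ring of fractions of D finitely generated over that of A;
for D essentially of finite type over A and dominated by S this is automatic, D then lying in a
local etale subextension of S, so that hypothesis is omitted here.) -/
theorem result
    (A S : Type u) [CommRing A] [IsLocalRing A] [IsNoetherianRing A]
    [CommRing S] [IsLocalRing S] [Algebra A S] [IsLocalHom (algebraMap A S)]
    [Hensel.IsStrictHenselization A S] (D : Subalgebra A S) [IsLocalRing D]
    [IsLocalHom (algebraMap D S)] [Algebra.EssFiniteType A D]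
    (hm : Ideal.map (algebraMap A D) (maximalIdeal A) = maximalIdeal D) :
    EGA4loc.IsEssentiallyEtale A D := by
  classical
  have hS : Hensel.IsStrictHenselization A S := inferInstance
  -- (a) `A → D` is local
  haveI hloc : IsLocalHom (algebraMap A D) := by
    constructor
    intro a ha
    have h1 : IsUnit (algebraMap D S (algebraMap A D a)) := ha.map _
    rw [← IsScalarTower.algebraMap_apply] at h1
    exact isUnit_of_map_unit (algebraMap A S) a h1
  -- (b) residue field extension is separable
  haveI : Algebra.IsSeparable (ResidueField A) (ResidueField S) := hS.isSepClosure.separable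
  haveI : Algebra.IsSeparable (ResidueField A) (ResidueField D) :=
    Algebra.isSeparable_tower_bot_of_isSeparable (ResidueField A) (ResidueField D)
      (ResidueField S)
  -- (c) `D` is formally unramified over `A`
  haveI hunr : Algebra.FormallyUnramified A D := Algebra.FormallyUnramified.of_map_maximalIdeal hm
  -- (d) `D` is the localization of a finite type subalgebra at a prime
  let D₀ : Subalgebra A D := Algebra.EssFiniteType.subalgebra A D
  let q₀ : Ideal D₀ := (maximalIdeal D).comap (algebraMap D₀ D)
  haveI : q₀.IsPrime := Ideal.comap_isPrime _ _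
  have hM : Algebra.EssFiniteType.submonoid A D = q₀.primeCompl := by
    ext t
    change IsUnit (algebraMap D₀ D t) ↔ ¬ (algebraMap D₀ D t ∈ maximalIdeal D)
    rw [mem_maximalIdeal, mem_nonunits_iff, not_not]
  haveI hlocD : IsLocalization.AtPrime D q₀ := by
    change IsLocalization q₀.primeCompl D
    rw [← hM]
    infer_instance
  -- (e) unramified at `q₀`
  let eD : D ≃ₐ[A] Localization.AtPrime q₀ :=
    (IsLocalization.algEquiv q₀.primeCompl D (Localization.AtPrime q₀)).restrictScalars A
  haveI : Algebra.IsUnramifiedAt A q₀ := Algebra.FormallyUnramified.of_equiv eD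
  -- (f) standard étale surjection
  obtain ⟨f, hf, P, φ, hφ⟩ :=
    Algebra.IsUnramifiedAt.exists_hasStandardEtaleSurjectionOn (R := A) q₀
  -- (g) the map to `D`
  have hfu : ∀ y : Submonoid.powers f, IsUnit ((IsScalarTower.toAlgHom A D₀ D) y) := by
    rintro ⟨y, n, rfl⟩
    change IsUnit (algebraMap D₀ D (f ^ n))
    rw [map_pow]
    apply IsUnit.pow
    by_contra h
    exact hf h
  let lf : Localization.Away f →ₐ[A] D := IsLocalization.liftAlgHom hfu
  have hlf : ∀ x : D₀, lf (algebraMap D₀ (Localization.Away f) x) = algebraMap D₀ D x := by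
    intro x
    change IsLocalization.lift hfu (algebraMap D₀ (Localization.Away f) x) = _
    rw [IsLocalization.lift_eq]
    rfl
  let χ : P.Ring →ₐ[A] D := lf.comp φ
  -- (h) the localization
  let q' : Ideal P.Ring := (maximalIdeal D).comap χ.toRingHom
  haveI : q'.IsPrime := Ideal.comap_isPrime _ _
  have hχu : ∀ y : q'.primeCompl, IsUnit (χ y) := by
    rintro ⟨y, hy⟩
    by_contra h
    exact hy h
  let g₁ : Localization.AtPrime q' →ₐ[A] D := IsLocalization.liftAlgHom hχu
  have hg₁ : ∀ p : P.Ring, g₁ (algebraMap P.Ring (Localization.AtPrime q') p) = χ p := by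
    intro p
    change IsLocalization.lift hχu (algebraMap P.Ring (Localization.AtPrime q') p) = _
    rw [IsLocalization.lift_eq]
    rfl
  have hg₁surj : Function.Surjective g₁ := by
    intro d
    obtain ⟨⟨d₀, t⟩, hdt⟩ := IsLocalization.surj q₀.primeCompl d
    obtain ⟨p₁, hp₁⟩ := hφ (algebraMap D₀ (Localization.Away f) d₀)
    obtain ⟨p₂, hp₂⟩ := hφ (algebraMap D₀ (Localization.Away f) t)
    have h1 : χ p₁ = algebraMap D₀ D d₀ := by
      change lf (φ p₁) = _
      rw [hp₁, hlf]
    have h2 : χ p₂ = algebraMap D₀ D t := by
      change lf (φ p₂) = _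
      rw [hp₂, hlf]
    have htu : IsUnit (algebraMap D₀ D t) := IsLocalization.map_units D t
    have hp₂' : p₂ ∈ q'.primeCompl := by
      intro h
      have : χ p₂ ∈ maximalIdeal D := h
      rw [h2] at this
      exact this htu
    refine ⟨IsLocalization.mk' (Localization.AtPrime q') p₁ ⟨p₂, hp₂'⟩, ?_⟩
    apply htu.mul_right_cancel
    rw [hdt, ← h2, ← hg₁ p₂, ← map_mul]
    have : IsLocalization.mk' (Localization.AtPrime q') p₁ ⟨p₂, hp₂'⟩ *
        algebraMap P.Ring (Localization.AtPrime q') p₂ =
        algebraMap P.Ring (Localization.AtPrime q') p₁ :=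
      IsLocalization.mk'_spec (Localization.AtPrime q') p₁ ⟨p₂, hp₂'⟩
    rw [this, hg₁, h1]
  -- (i) essentially étale
  have hq' : q'.comap (algebraMap A P.Ring) = maximalIdeal A := by
    ext a
    change χ (algebraMap A P.Ring a) ∈ maximalIdeal D ↔ _
    rw [χ.commutes]
    change (algebraMap A D a) ∈ nonunits D ↔ a ∈ nonunits A
    exact map_mem_nonunits_iff (algebraMap A D) a
  have hL' : EGA4loc.IsEssentiallyEtale A (Localization.AtPrime q') :=
    ⟨P.Ring, inferInstance, inferInstance, q', inferInstance, inferInstance, hq',
      ⟨AlgEquiv.refl⟩⟩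
  -- (j) the map to `S`
  let g : Localization.AtPrime q' →ₐ[A] S := D.val.comp g₁
  haveI : IsLocalHom g.toRingHom := by
    constructor
    intro a ha
    obtain ⟨p, s, rfl⟩ := IsLocalization.exists_mk'_eq q'.primeCompl a
    have h1 : IsUnit (g₁ (IsLocalization.mk' (Localization.AtPrime q') p s)) :=
      isUnit_of_map_unit (algebraMap D S) _ ha
    have h2 : g₁ (IsLocalization.mk' (Localization.AtPrime q') p s) * χ s = χ p := by
      rw [← hg₁ s, ← map_mul, IsLocalization.mk'_spec, hg₁]
    have h3 : IsUnit (χ p) := by
      rw [← h2]
      exact h1.mul (hχu s)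
    have h4 : p ∈ q'.primeCompl := by
      intro h
      exact h h3
    exact (IsLocalization.AtPrime.isUnit_mk'_iff (Localization.AtPrime q') q' p s).mpr h4
  -- (k) injectivity
  have hginj : Function.Injective g :=
    injective_of_algHom_strictHenselization A S (Localization.AtPrime q') hL' g
  have hg₁inj : Function.Injective g₁ := by
    intro x y hxy
    apply hginj
    change (g₁ x : S) = (g₁ y : S)
    rw [hxy]
  exact isEssentiallyEtale_of_algEquiv (AlgEquiv.ofBijective g₁ ⟨hg₁inj, hg₁surj⟩).symm hL'

end Groth.Agent.S16438
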