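import Groth.Statements.S16441
import Groth.Agent.Lib.Seat77TotFracMap
import Groth.Agent.Lib.Seat77ShSub
import Mathlib

set_option autoImplicit false
universe u
open EGA4loc

namespace Groth.Agent.S16441

open IsLocalRing Groth.Agent.Lib.Helper3.Sh Groth.Agent.Lib.Seat77.TotFracEt
  Groth.Agent.Lib.Seat77.TotFrac Groth.Agent.Lib.Seat77.ShSub

section

variable (A S : Type u) [CommRing A] [IsLocalRing A] [IsReduced A]
  (hmin : (minimalPrimes A).Finite) [CommRing S] [Algebra A S]

include hmin in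
/-- (⇐) -/
theorem fg_of_le (D E : Subalgebra A S) (hDE : D ≤ E) (hE : EGA4loc.IsEssentiallyEtale A E) :
    ∃ t : Finset (FractionRing D), ∀ x : FractionRing D, ∃ a ∈ nonZeroDivisors A,
      algebraMap A (FractionRing D) a * x ∈ Algebra.adjoin A (t : Set (FractionRing D)) := by
  classical
  haveI : IsArtinianRing (FractionRing A) := isArtinianRing_fractionRing A hmin _
  haveI := krullDimLE_zero_fractionRing A hmin (FractionRing A)
  haveI := finite_B A E hmin hE
  let ι : D →ₐ[A] E := Subalgebra.inclusion hDE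
  have hι : Function.Injective ι := Subalgebra.inclusion_injective hDE
  haveI : IsNoetherian (FractionRing A) (B A E) :=
    isNoetherian_of_isNoetherianRing_of_finite (FractionRing A) (B A E)
  haveI : Module.Finite (FractionRing A) (B A D) :=
    Module.Finite.of_injective (Bmap A ι).toLinearMap (Bmap_injective A ι hι)
  haveI : Algebra.IsIntegral (FractionRing A) (B A D) := Algebra.IsIntegral.of_finite _ _
  have hMA : MA A D ≤ nonZeroDivisors D := by
    rintro _ ⟨a, ha, rfl⟩
    have h1 : algebraMap A E a ∈ nonZeroDivisors E :=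
      MA_le_nonZeroDivisors A E hmin hE ⟨a, ha, rfl⟩
    rw [mem_nonZeroDivisors_iff_right] at h1 ⊢
    intro z hz
    apply hι
    rw [map_zero]
    apply h1
    rw [← ι.commutes, ← map_mul, hz, map_zero]
  haveI := isFractionRing_B_of_isIntegral A D hMA
  let e : B A D ≃ₐ[D] FractionRing D :=
    IsLocalization.algEquiv (nonZeroDivisors D) (B A D) (FractionRing D)
  let eA : B A D →ₗ[A] FractionRing D := (e.restrictScalars A).toLinearMap
  obtain ⟨t, ht⟩ := exists_finset_B_of_finite A D
  refine ⟨t.image e, fun x => ?_⟩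
  obtain ⟨a, ha, hax⟩ := ht (e.symm x)
  refine ⟨a, ha, ?_⟩
  have h1 := Submodule.apply_mem_span_image_of_mem_span eA hax
  have h2 : eA (a • e.symm x) = algebraMap A (FractionRing D) a * x := by
    rw [map_smul, Algebra.smul_def]
    congr 1
    exact e.apply_symm_apply x
  rw [h2] at h1
  rw [Finset.coe_image]
  exact Algebra.span_le_adjoin A _ h1

end

section

variable {A : Type u} [CommRing A] {D : Type u} [CommRing D] [Algebra A D]

/-- clearing denominators in `A[t]` -/
theorem exists_pow_mul_mem (t : Finset (FractionRing D))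
    (nd : FractionRing D → D × nonZeroDivisors D)
    (hnd : ∀ τ, τ * algebraMap D (FractionRing D) (nd τ).2 = algebraMap D (FractionRing D) (nd τ).1)
    (D₁ : Subalgebra A D) (h1 : ∀ τ ∈ t, (nd τ).1 ∈ D₁) (h2 : ∀ τ ∈ t, ((nd τ).2 : D) ∈ D₁)
    (z : FractionRing D) (hz : z ∈ Algebra.adjoin A (t : Set (FractionRing D))) :
    ∃ N : ℕ, ∃ w ∈ D₁, algebraMap D (FractionRing D) ((∏ τ ∈ t, ((nd τ).2 : D)) ^ N) * z =
      algebraMap D (FractionRing D) w := by
  classical
  set s : D := ∏ τ ∈ t, ((nd τ).2 : D) with hs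
  have hsD₁ : s ∈ D₁ := Subalgebra.prod_mem _ h2
  induction hz using Algebra.adjoin_induction with
  | mem τ hτ =>
    have hτ' : τ ∈ t := hτ
    refine ⟨1, (∏ τ' ∈ t.erase τ, ((nd τ').2 : D)) * (nd τ).1, ?_, ?_⟩
    · exact D₁.mul_mem (Subalgebra.prod_mem _ fun τ' hτ' => h2 τ' (Finset.mem_of_mem_erase hτ'))
        (h1 τ hτ')
    · rw [pow_one, hs, ← Finset.mul_prod_erase t _ hτ', map_mul, map_mul, ← hnd τ]
      ring
  | algebraMap r =>
    refine ⟨0, algebraMap A D r, D₁.algebraMap_mem r, ?_⟩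
    rw [pow_zero, map_one, one_mul]
    exact IsScalarTower.algebraMap_apply A D (FractionRing D) r
  | add x y _ _ hx hy =>
    obtain ⟨N₁, w₁, hw₁, e₁⟩ := hx
    obtain ⟨N₂, w₂, hw₂, e₂⟩ := hy
    refine ⟨N₁ + N₂, s ^ N₂ * w₁ + s ^ N₁ * w₂, ?_, ?_⟩
    · exact D₁.add_mem (D₁.mul_mem (D₁.pow_mem hsD₁ _) hw₁) (D₁.mul_mem (D₁.pow_mem hsD₁ _) hw₂)
    · rw [map_add, map_mul, map_mul, ← e₁, ← e₂, pow_add, map_mul, map_pow, map_pow]
      ring
  | mul x y _ _ hx hy =>
    obtain ⟨N₁, w₁, hw₁, e₁⟩ := hx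
    obtain ⟨N₂, w₂, hw₂, e₂⟩ := hy
    refine ⟨N₁ + N₂, w₁ * w₂, D₁.mul_mem hw₁ hw₂, ?_⟩
    rw [map_mul, ← e₁, ← e₂, pow_add, map_mul]
    ring

end

section

variable {R : Type u} [CommRing R] [IsLocalRing R] {Ω : Type u} [Field Ω] [Algebra R Ω]
  [Algebra (ResidueField R) Ω] [IsScalarTower R (ResidueField R) Ω]

theorem exists_stage_finset (F : Finset (Rsh R Ω)) :
    ∃ i : Idx R Ω, ∀ z ∈ F, ∃ x : i.L, ofL i x = z := by
  classical
  obtain ⟨i, x', hx'⟩ := exists_ofL_fin (R := R) (Ω := Ω)
    (fun k : Fin F.card => ((F.equivFin.symm k : F) : Rsh R Ω))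
  refine ⟨i, fun z hz => ⟨x' (F.equivFin ⟨z, hz⟩), ?_⟩⟩
  rw [hx', Equiv.symm_apply_apply]

/-- divisibility descends along the faithfully flat stage maps -/
theorem exists_ofL_eq_of_mul_eq [IsSepClosure (ResidueField R) Ω] (i : Idx R Ω) (f₀ w₀ : i.L)
    (x : Rsh R Ω) (hf : ofL i f₀ ∈ nonZeroDivisors (Rsh R Ω)) (h : ofL i f₀ * x = ofL i w₀) :
    ∃ w₁ : i.L, x = ofL i w₁ := by
  letI := (ofL (R := R) (Ω := Ω) i).toAlgebra
  haveI : IsLocalHom (algebraMap i.L (Rsh R Ω)) := inferInstanceAs (IsLocalHom (ofL i))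
  haveI : Module.Flat i.L (Rsh R Ω) := flat_over_L i
  haveI : Module.FaithfullyFlat i.L (Rsh R Ω) := Module.FaithfullyFlat.of_flat_of_isLocalHom
  have h1 : w₀ ∈ ((Ideal.span {f₀}).map (algebraMap i.L (Rsh R Ω))).comap
      (algebraMap i.L (Rsh R Ω)) := by
    rw [Ideal.mem_comap]
    change ofL i w₀ ∈ _
    rw [← h]
    exact Ideal.mul_mem_right _ _ (Ideal.mem_map_of_mem _ (Ideal.mem_span_singleton_self f₀))
  rw [Ideal.comap_map_eq_self_of_faithfullyFlat, Ideal.mem_span_singleton'] at h1
  obtain ⟨w₁, hw₁⟩ := h1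
  refine ⟨w₁, ?_⟩
  have h2 : ofL i f₀ * (x - ofL i w₁) = 0 := by
    rw [mul_sub, h, ← hw₁, map_mul]
    ring
  have h3 := (mem_nonZeroDivisors_iff.mp hf).1 _ h2
  exact sub_eq_zero.mp h3

end

/-- Let A be a reduced local ring with finitely many minimal prime ideals, S a strict henselization of
A, and D an A-subalgebra of S which is a local ring dominated by S (local inclusion). Then the total
ring of fractions K_D of D is finitely generated over that of A — there is a finite subset t of K_D
such that every element of K_D, multiplied by (the image of) some non-zero-divisor of A, is a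
polynomial expression in t with coefficients from A — if and only if D is contained in some
A-subalgebra E of S which is a local ring and an essentially etale local A-algebra (a localization
of an etale A-algebra at a prime over the maximal ideal). -/
theorem result
    (A S : Type u) [CommRing A] [IsLocalRing A] [IsReduced A] (hmin : (minimalPrimes A).Finite)
    [CommRing S] [IsLocalRing S] [Algebra A S] [IsLocalHom (algebraMap A S)]
    [Hensel.IsStrictHenselization A S] (D : Subalgebra A S) [IsLocalRing D]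
    [IsLocalHom (algebraMap D S)] :
    (∃ t : Finset (FractionRing D), ∀ x : FractionRing D, ∃ a ∈ nonZeroDivisors A,
        algebraMap A (FractionRing D) a * x ∈ Algebra.adjoin A (t : Set (FractionRing D))) ↔
      ∃ E : Subalgebra A S, D ≤ E ∧ ∃ _ : IsLocalRing E, EGA4loc.IsEssentiallyEtale A E := by
  classical
  constructor
  swap
  · rintro ⟨E, hDE, _, hE⟩
    exact fg_of_le A S hmin D E hDE hE
  rintro ⟨t, ht⟩
  let Ω := SeparableClosure (ResidueField A)
  letI : Algebra A Ω := ((algebraMap (ResidueField A) Ω).comp (residue A)).toAlgebra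
  haveI : IsScalarTower A (ResidueField A) Ω := IsScalarTower.of_algebraMap_eq (fun _ => rfl)
  obtain ⟨e⟩ := nonempty_algEquiv (R := A) (Ω := Ω) S
  let ψ : ∀ i : Idx A Ω, i.L →ₐ[A] S := fun i => (e.symm : Rsh A Ω →ₐ[A] S).comp (ofLₐ i)
  have hψ : ∀ i x, ψ i x = e.symm (ofL i x) := fun i x => rfl
  have heψ : ∀ i x, e (ψ i x) = ofL i x := fun i x => e.apply_symm_apply _
  haveI := krullDimLE_zero_fractionRing A hmin (FractionRing A)
  -- integrality of `B A D`
  haveI : Algebra.IsIntegral (FractionRing A) (B A D) := by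
    refine isIntegral_B_of_forall A D.val Subtype.val_injective (fun d => ?_)
    obtain ⟨i, x, hx⟩ := exists_ofL (e (d : S))
    refine ⟨i.L, inferInstance, inferInstance, ψ i, x, ?_, ?_⟩
    · haveI := finite_B A i.L hmin i.isEssentiallyEtale
      exact Algebra.IsIntegral.of_finite _ _
    · rw [hψ, hx, e.symm_apply_apply]
      rfl
  haveI : Module.Flat A S := Module.Flat.of_linearEquiv e.toLinearEquiv
  -- numerators and denominators
  choose nd hnd using fun τ : FractionRing D =>
    IsLocalization.surj (nonZeroDivisors D) (S := FractionRing D) τ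
  let F : Finset (Rsh A Ω) := t.image (fun τ => e (((nd τ).1 : D) : S)) ∪
    t.image (fun τ => e ((((nd τ).2 : D)) : S))
  obtain ⟨i, hi⟩ := exists_stage_finset (R := A) (Ω := Ω) F
  let E : Subalgebra A S := (ψ i).range
  have hψinj : Function.Injective (ψ i) := fun x y h => ofL_injective i (e.symm.injective h)
  have hψunit : ∀ x : i.L, IsUnit (ψ i x) → IsUnit x := by
    intro x hx
    have h1 : IsUnit (e (ψ i x)) := hx.map e
    rw [heψ] at h1
    exact isUnit_ofL_iff.mp h1
  let eE : i.L ≃ₐ[A] E := AlgEquiv.ofInjective (ψ i) hψinj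
  have hmemE : ∀ z : S, (∃ x : i.L, ofL i x = e z) → z ∈ E := by
    rintro z ⟨x, hx⟩
    refine ⟨x, ?_⟩
    change ψ i x = z
    rw [hψ, hx, e.symm_apply_apply]
  -- the subalgebra generated by numerators and denominators
  let D₁ : Subalgebra A D := E.comap D.val
  have h1 : ∀ τ ∈ t, (nd τ).1 ∈ D₁ := by
    intro τ hτ
    apply hmemE
    apply hi
    exact Finset.mem_union_left _ (Finset.mem_image_of_mem _ hτ)
  have h2 : ∀ τ ∈ t, ((nd τ).2 : D) ∈ D₁ := by
    intro τ hτ
    apply hmemE
    apply hi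
    exact Finset.mem_union_right _ (Finset.mem_image_of_mem _ hτ)
  set s : D := ∏ τ ∈ t, ((nd τ).2 : D) with hs
  have hsD₁ : s ∈ D₁ := Subalgebra.prod_mem _ h2
  have hsnzd : s ∈ nonZeroDivisors D := prod_mem fun τ _ => (nd τ).2.2
  -- `s` is a non-zero-divisor in `S`
  have hsS : (s : S) ∈ nonZeroDivisors S := by
    obtain ⟨u, a₀, ha₀, hu⟩ := exists_mul_eq_algebraMap A D hsnzd
    have h3 : algebraMap A S a₀ ∈ nonZeroDivisors S := algebraMap_mem_nonZeroDivisors_of_flat ha₀
    have h4 : (s : S) * (u : S) = algebraMap A S a₀ := by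
      have := congrArg (fun z : D => (z : S)) hu
      simpa using this
    rw [mem_nonZeroDivisors_iff_right] at h3 ⊢
    intro z hz
    apply h3
    rw [← h4, ← mul_assoc, hz, zero_mul]
  refine ⟨E, ?_, ?_⟩
  · intro x hx
    obtain ⟨a, ha, hax⟩ := ht (algebraMap D (FractionRing D) ⟨x, hx⟩)
    obtain ⟨N, w, hw, hNw⟩ := exists_pow_mul_mem t nd hnd D₁ h1 h2 _ hax
    -- the equation in `D`
    have h5 : s ^ N * (algebraMap A D a * ⟨x, hx⟩) = w := by
      apply IsFractionRing.injective D (FractionRing D)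
      rw [← hNw, map_mul, map_mul, ← IsScalarTower.algebraMap_apply A D (FractionRing D)]
    -- in `S`
    have h6 : ((s : S) ^ N * algebraMap A S a) * x = (w : S) := by
      have := congrArg (fun z : D => (z : S)) h5
      simp only [Subalgebra.coe_mul, Subalgebra.coe_pow, Subalgebra.coe_algebraMap] at this
      rw [mul_assoc]
      exact this
    have hf_nzd : (s : S) ^ N * algebraMap A S a ∈ nonZeroDivisors S :=
      mul_mem (pow_mem hsS N) (algebraMap_mem_nonZeroDivisors_of_flat ha)
    have hfE : (s : S) ^ N * algebraMap A S a ∈ E :=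
      E.mul_mem (E.pow_mem hsD₁ N) (E.algebraMap_mem a)
    obtain ⟨f₀, hf₀⟩ := hfE
    obtain ⟨w₀, hw₀⟩ := (hw : (w : S) ∈ E)
    have hf₀' : ofL i f₀ = e ((s : S) ^ N * algebraMap A S a) := by
      rw [← heψ]
      exact congrArg e hf₀
    have hw₀' : ofL i w₀ = e (w : S) := by
      rw [← heψ]
      exact congrArg e hw₀
    have h7 : ofL i f₀ ∈ nonZeroDivisors (Rsh A Ω) := by
      rw [hf₀', mem_nonZeroDivisors_iff_right]
      intro z hz
      have : e.symm z * ((s : S) ^ N * algebraMap A S a) = 0 := by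
        apply e.injective
        rw [map_mul, e.apply_symm_apply, hz, map_zero]
      have := (mem_nonZeroDivisors_iff_right.mp hf_nzd) _ this
      rw [← e.apply_symm_apply z, this, map_zero]
    have h8 : ofL i f₀ * e x = ofL i w₀ := by
      rw [hf₀', hw₀', ← map_mul, h6]
    obtain ⟨w₁, hw₁⟩ := exists_ofL_eq_of_mul_eq i f₀ w₀ (e x) h7 h8
    refine ⟨w₁, ?_⟩
    change ψ i w₁ = x
    rw [hψ, ← hw₁, e.symm_apply_apply]
  · haveI : IsLocalRing E := eE.toRingEquiv.isLocalRing
    exact ⟨inferInstance, isEssentiallyEtale_of_algEquiv eE.symm i.isEssentiallyEtale⟩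

end Groth.Agent.S16441
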