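import Groth.Statements.S16442
import Groth.Agent.Lib.Helper3ShN
import Mathlib

set_option autoImplicit false
universe u
open EGA4loc

namespace Groth.Agent.S16442

open IsLocalRing Groth.Agent.Lib.Helper3.Sh

/-- transport of "essentially étale" along an algebra isomorphism -/
theorem isEssentiallyEtale_of_algEquiv {A B B' : Type u} [CommRing A] [IsLocalRing A]
    [CommRing B] [Algebra A B] [CommRing B'] [Algebra A B'] (e : B' ≃ₐ[A] B)
    (h : EGA4loc.IsEssentiallyEtale A B) : EGA4loc.IsEssentiallyEtale A B' := by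
  obtain ⟨C, i1, i2, q, i3, h1, h2, ⟨e'⟩⟩ := h
  exact ⟨C, i1, i2, q, i3, h1, h2, ⟨e.trans e'⟩⟩

/-- Let A be a reduced local ring with finitely many minimal prime ideals, S a strict henselization of
A, and D an A-subalgebra of S which is a local ring dominated by S (local inclusion) and essentially
of finite type over A. Then D is contained in some A-subalgebra E of S which is a local ring and an
essentially etale local A-algebra. -/
theorem result
    (A S : Type u) [CommRing A] [IsLocalRing A] [IsReduced A] (hmin : (minimalPrimes A).Finite)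
    [CommRing S] [IsLocalRing S] [Algebra A S] [IsLocalHom (algebraMap A S)]
    [Hensel.IsStrictHenselization A S] (D : Subalgebra A S) [IsLocalRing D]
    [IsLocalHom (algebraMap D S)] [Algebra.EssFiniteType A D] :
    ∃ E : Subalgebra A S, D ≤ E ∧ ∃ _ : IsLocalRing E, EGA4loc.IsEssentiallyEtale A E := by
  classical
  let Ω := SeparableClosure (ResidueField A)
  letI : Algebra A Ω := ((algebraMap (ResidueField A) Ω).comp (residue A)).toAlgebra
  haveI : IsScalarTower A (ResidueField A) Ω := IsScalarTower.of_algebraMap_eq (fun _ => rfl)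
  obtain ⟨e⟩ := nonempty_algEquiv (R := A) (Ω := Ω) S
  obtain ⟨σ, hσ⟩ := (Algebra.essFiniteType_iff A D).mp inferInstance
  obtain ⟨i, x', hx'⟩ :=
    exists_ofL_fin (R := A) (Ω := Ω) (fun k : Fin σ.card => e ((σ.equivFin.symm k : D) : S))
  -- the stage `i.L` embeds into `S`
  let ψ : i.L →ₐ[A] S := (e.symm : Rsh A Ω →ₐ[A] S).comp (ofLₐ i)
  have hψ_apply : ∀ x, ψ x = e.symm (ofL i x) := fun x => rfl
  have hinj_ofL : Function.Injective (ofL (R := A) (Ω := Ω) i) := by
    letI := (ofL (R := A) (Ω := Ω) i).toAlgebra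
    haveI : IsLocalHom (algebraMap i.L (Rsh A Ω)) := inferInstanceAs (IsLocalHom (ofL i))
    haveI : Module.Flat i.L (Rsh A Ω) := flat_over_L i
    haveI : Module.FaithfullyFlat i.L (Rsh A Ω) := Module.FaithfullyFlat.of_flat_of_isLocalHom
    exact FaithfulSMul.algebraMap_injective i.L (Rsh A Ω)
  have hψinj : Function.Injective ψ := fun x y h => hinj_ofL (e.symm.injective h)
  have hψunit : ∀ x : i.L, IsUnit (ψ x) → IsUnit x := by
    intro x hx
    have h1 : IsUnit (e (ψ x)) := hx.map e
    rw [hψ_apply, AlgEquiv.apply_symm_apply] at h1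
    exact isUnit_ofL_iff.mp h1
  let E : Subalgebra A S := ψ.range
  let eE : i.L ≃ₐ[A] E := AlgEquiv.ofInjective ψ hψinj
  -- generators lie in `E`
  have hgen : ∀ d ∈ σ, (d : S) ∈ E := by
    intro d hd
    refine ⟨x' (σ.equivFin ⟨d, hd⟩), ?_⟩
    change ψ _ = _
    rw [hψ_apply, hx', Equiv.symm_apply_apply, AlgEquiv.symm_apply_apply]
  have hadj : ∀ t ∈ Algebra.adjoin A (σ : Set D), (t : S) ∈ E := by
    intro t ht
    have h1 : Algebra.adjoin A (σ : Set D) ≤ E.comap D.val := by
      apply Algebra.adjoin_le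
      intro d hd
      exact hgen d hd
    exact h1 ht
  refine ⟨E, ?_, ?_⟩
  · intro d hd
    obtain ⟨t, ht, htu, hdt⟩ := hσ ⟨d, hd⟩
    obtain ⟨y, hy⟩ := hadj t ht
    obtain ⟨z, hz⟩ := hadj _ hdt
    have htS : IsUnit (t : S) := htu.map D.val
    have hyu : IsUnit y := hψunit y (by rw [show ψ y = (t : S) from hy]; exact htS)
    obtain ⟨y', hy'⟩ := hyu.exists_right_inv
    refine ⟨z * y', ?_⟩
    change ψ (z * y') = d
    rw [map_mul, show ψ z = ((⟨d, hd⟩ * t : D) : S) from hz]
    have h2 : (t : S) * ψ y' = 1 := by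
      rw [← show ψ y = (t : S) from hy, ← map_mul, hy', map_one]
    push_cast
    rw [mul_assoc, h2, mul_one]
  · haveI : IsLocalRing E := eE.toRingEquiv.isLocalRing
    exact ⟨inferInstance, isEssentiallyEtale_of_algEquiv eE.symm i.isEssentiallyEtale⟩

end Groth.Agent.S16442
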