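import Groth.Statements.S16443
import Groth.Agent.Lib.Seat77TotFracEt2
import Mathlib

set_option autoImplicit false
universe u
open EGA4loc

namespace Groth.Agent.S16443

open Groth.Agent.Lib.Seat77.TotFracEt

/-- Let A be a reduced local ring with finitely many minimal prime ideals, E a local ring which is an
essentially etale local A-algebra with local structure map, K_E the total ring of fractions of E,
and L an A-subalgebra of K_E containing an inverse of the image of every non-zero-divisor of A (so L
is an intermediate ring between the total rings of fractions of A and of E). Then the preimage D of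
L in E is (the underlying set of) an A-subalgebra of E which is a local ring with local inclusion
into E — its maximal ideal lies under that of E — and L is the total ring of fractions of D in the
sense that every element of L is the image of an element of D times the inverse of the image of a
non-zero-divisor of A. -/
theorem result
    (A E : Type u) [CommRing A] [IsLocalRing A] [IsReduced A] (hmin : (minimalPrimes A).Finite)
    [CommRing E] [IsLocalRing E] [Algebra A E] [IsLocalHom (algebraMap A E)]
    (hE : EGA4loc.IsEssentiallyEtale A E) (L : Subalgebra A (FractionRing E))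
    (hL : ∀ s ∈ nonZeroDivisors A, ∃ y ∈ L, algebraMap A (FractionRing E) s * y = 1) :
    ∃ D : Subalgebra A E, (D : Set E) = (algebraMap E (FractionRing E)) ⁻¹' (L : Set (FractionRing E)) ∧
      ∃ _ : IsLocalRing D, IsLocalHom (algebraMap D E) ∧
        ∀ l ∈ L, ∃ d ∈ D, ∃ s ∈ nonZeroDivisors A, ∃ y ∈ L,
          algebraMap A (FractionRing E) s * y = 1 ∧ l = algebraMap E (FractionRing E) d * y := by
  classical
  let D : Subalgebra A E := L.comap (IsScalarTower.toAlgHom A E (FractionRing E))
  have hD : ∀ x : E, x ∈ D ↔ algebraMap E (FractionRing E) x ∈ L := fun x => Iff.rfl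
  have hloc : IsLocalHom (algebraMap D E) := by
    constructor
    intro x hx
    have hxL : algebraMap E (FractionRing E) (x : E) ∈ L := (hD x).mp x.2
    have hu : IsUnit (algebraMap E (FractionRing E) (x : E)) :=
      IsUnit.map (algebraMap E (FractionRing E)) hx
    obtain ⟨y, hyL, hxy⟩ := exists_inv_mem A E hmin hE L hL hxL hu
    obtain ⟨x', hx'⟩ := hx.exists_right_inv
    have hx'' : algebraMap D E x * x' = 1 := hx'
    have hy : y = algebraMap E (FractionRing E) x' := by
      have h1 : algebraMap E (FractionRing E) (x : E) * algebraMap E (FractionRing E) x' = 1 := by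
        rw [← map_mul]
        have : (x : E) * x' = 1 := hx''
        rw [this, map_one]
      exact hu.mul_left_cancel (hxy.trans h1.symm)
    have hx'D : x' ∈ D := by
      rw [hD, ← hy]
      exact hyL
    refine IsUnit.of_mul_eq_one (⟨x', hx'D⟩ : D) ?_
    apply Subtype.ext
    exact hx''
  refine ⟨D, rfl, ?_⟩
  haveI := hloc
  refine ⟨RingHom.domain_isLocalRing (algebraMap D E), hloc, ?_⟩
  intro l hl
  haveI := isLocalization_fractionRing A E hmin hE
  obtain ⟨⟨e₀, m⟩, hm⟩ := IsLocalization.surj (MA A E) l
  obtain ⟨a, ha, ham⟩ := m.2
  obtain ⟨y, hyL, hay⟩ := hL a ha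
  have hma : algebraMap E (FractionRing E) (m : E) = algebraMap A (FractionRing E) a := by
    rw [← ham]
    exact (IsScalarTower.algebraMap_apply A E (FractionRing E) a).symm
  have he₀ : algebraMap E (FractionRing E) e₀ = a • l := by
    rw [← hm, hma, Algebra.smul_def, mul_comm]
  refine ⟨e₀, ?_, a, ha, y, hyL, hay, ?_⟩
  · rw [hD, he₀]
    exact L.smul_mem hl a
  · rw [he₀, Algebra.smul_def, mul_comm (algebraMap A (FractionRing E) a) l, mul_assoc, hay,
      mul_one]

end Groth.Agent.S16443
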