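import Groth.Statements.S16444
import Groth.Agent.Lib.Seat77FinEtHens
import Groth.Agent.Lib.Helper24LocEt
import Mathlib

set_option autoImplicit false
universe u
open scoped TensorProduct
open Hensel

namespace Groth.Agent.S16444

open IsLocalRing Groth.Agent.Lib.Seat77.FinEtHens Groth.Agent.Lib.Helper3.EssEt

theorem henselianLocalRing_of_isAdicComplete (A : Type u) [CommRing A] [IsLocalRing A]
    [IsAdicComplete (maximalIdeal A) A] : HenselianLocalRing A := by
  haveI : HenselianRing A (maximalIdeal A) := inferInstance
  refine ⟨fun f hf a₀ h1 h2 => ?_⟩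
  exact HenselianRing.is_henselian f hf a₀ h1 (h2.map _)

open IsLocalRing in
/-- Let A be a complete Noetherian local ring and R → A a local homomorphism from a henselian Noetherian
local ring R inducing a bijection on residue fields. Then every local ring E which is an essentially
etale local A-algebra with local structure map is A-isomorphic to A ⊗_R S for some local ring S
which is a finite etale R-algebra (its residue field is then that of E). (The published statement
takes R to be a coefficient ring of A, that is a field or an image of a complete p-ring with the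
same residue field; its proof uses only that R is henselian with the same residue field as A, which
is the hypothesis made here.) -/
theorem result
    (R A E : Type u) [CommRing R] [HenselianLocalRing R] [IsNoetherianRing R]
    [CommRing A] [IsLocalRing A] [IsNoetherianRing A] [IsAdicComplete (maximalIdeal A) A]
    [Algebra R A] [IsLocalHom (algebraMap R A)]
    (hres : Function.Bijective (ResidueField.map (algebraMap R A)))
    [CommRing E] [IsLocalRing E] [Algebra A E] [IsLocalHom (algebraMap A E)]
    (hE : EGA4loc.IsEssentiallyEtale A E) :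
    ∃ (S : Type u) (_ : CommRing S) (_ : IsLocalRing S) (_ : Algebra R S),
      Module.Finite R S ∧ Algebra.Etale R S ∧ Nonempty (E ≃ₐ[A] A ⊗[R] S) := by
  classical
  haveI : HenselianLocalRing A := henselianLocalRing_of_isAdicComplete A
  -- `E` is finite over `A`, hence henselian
  haveI hEfin : Module.Finite A E := finite_of_isEssentiallyEtale_henselian A E hE
  haveI : Algebra.IsIntegral A E := Algebra.IsIntegral.of_finite A E
  haveI : HenselianLocalRing E := Groth.Agent.Lib.Helper3.HenselInt.henselian_of_isIntegral A E
  haveI := essFiniteType_of_isEssentiallyEtale A E hE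
  haveI := formallyEtale_of_isEssentiallyEtale A E hE
  -- `R`-algebra structure on `E`
  letI : Algebra R E := ((algebraMap A E).comp (algebraMap R A)).toAlgebra
  haveI : IsScalarTower R A E := IsScalarTower.of_algebraMap_eq (fun _ => rfl)
  haveI : IsLocalHom (algebraMap R E) :=
    RingHom.isLocalHom_comp (algebraMap A E) (algebraMap R A)
  -- residue field extension over `k_R`
  haveI : Module.Finite (ResidueField A) (ResidueField E) := inferInstance
  haveI : Algebra.IsSeparable (ResidueField A) (ResidueField E) := inferInstance
  have hsurjRA : Function.Surjective (algebraMap (ResidueField R) (ResidueField A)) := hres.2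
  haveI : Module.Finite (ResidueField R) (ResidueField A) :=
    Module.Finite.of_surjective (Algebra.linearMap (ResidueField R) (ResidueField A)) hsurjRA
  haveI : Module.Finite (ResidueField R) (ResidueField E) :=
    Module.Finite.trans (ResidueField A) (ResidueField E)
  haveI : Algebra.IsSeparable (ResidueField R) (ResidueField A) := by
    constructor
    intro x
    obtain ⟨y, rfl⟩ := hsurjRA x
    exact isSeparable_algebraMap y
  haveI : Algebra.IsSeparable (ResidueField R) (ResidueField E) :=
    Algebra.IsSeparable.trans (ResidueField R) (ResidueField A) (ResidueField E)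
  obtain ⟨S, _, _, _, _, hfin, het, ⟨ε⟩⟩ :=
    Groth.Agent.Lib.Helper24LocEt.exists_local_finite_etale R (ResidueField E)
  -- lift `S → E`
  have hS : EGA4loc.IsEssentiallyEtale R S := isEssentiallyEtale_of_etale_local R S
  have hcompat : (ε : ResidueField S →+* ResidueField E).comp
      (ResidueField.map (algebraMap R S)) = ResidueField.map (algebraMap R E) := by
    ext x
    exact ε.commutes x
  obtain ⟨ψ', ⟨-, hψc, hψr⟩, -⟩ := existsUnique_lift R S hS E (algebraMap R E)
    (ε : ResidueField S →+* ResidueField E) hcompat
  let ψ : S →ₐ[R] E := { ψ' with commutes' := fun a => congrArg (fun f => f a) hψc }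
  have hψ : ∀ s : S, residue E (ψ s) = ε (residue S s) := hψr
  let Φ : A ⊗[R] S →ₐ[A] E := Algebra.TensorProduct.productLeftAlgHom (Algebra.ofId A E) ψ
  have hΦ : ∀ s : S, Φ (1 ⊗ₜ[R] s) = ψ s := by
    intro s
    simp [Φ]
  -- `A ⊗ S` is local
  haveI : Nontrivial (A ⊗[R] S) := RingHom.domain_nontrivial Φ.toRingHom
  haveI := Algebra.EssFiniteType.of_finiteType R S  
  have hmS : (maximalIdeal R).map (algebraMap R S) = maximalIdeal S :=
    Algebra.FormallyUnramified.map_maximalIdeal
  obtain ⟨hTloc, hTmax⟩ := isLocalRing_tensor R A S hres.2 hmS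
  haveI : IsLocalRing (A ⊗[R] S) := hTloc
  have hmT : maximalIdeal (A ⊗[R] S) = (maximalIdeal A).map (algebraMap A (A ⊗[R] S)) :=
    hTmax _ (maximalIdeal.isMaximal _)
  haveI : IsLocalHom (algebraMap A (A ⊗[R] S)) :=
    ((local_hom_TFAE (algebraMap A (A ⊗[R] S))).out 0 2 rfl rfl).mpr hmT.ge
  haveI : Module.Finite A (A ⊗[R] S) := inferInstance
  haveI : Algebra.IsIntegral A (A ⊗[R] S) := Algebra.IsIntegral.of_finite A _
  haveI : HenselianLocalRing (A ⊗[R] S) :=
    Groth.Agent.Lib.Helper3.HenselInt.henselian_of_isIntegral A (A ⊗[R] S)
  haveI : Algebra.Etale A (A ⊗[R] S) := inferInstance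
  have hT : EGA4loc.IsEssentiallyEtale A (A ⊗[R] S) := isEssentiallyEtale_of_etale_local A _
  -- `Φ` is local
  haveI : IsLocalHom Φ.toRingHom := by
    constructor
    intro t ht
    by_contra hnt
    have h1 : t ∈ maximalIdeal (A ⊗[R] S) := hnt
    rw [hmT] at h1
    have h2 : Φ t ∈ (maximalIdeal A).map (algebraMap A E) := by
      have := Ideal.mem_map_of_mem Φ.toRingHom h1
      rw [Ideal.map_map] at this
      have hc : Φ.toRingHom.comp (algebraMap A (A ⊗[R] S)) = algebraMap A E := by
        ext a
        exact Φ.commutes a
      rw [hc] at this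
      exact this
    have h3 : (maximalIdeal A).map (algebraMap A E) ≤ maximalIdeal E :=
      ((local_hom_TFAE (algebraMap A E)).out 0 2 rfl rfl).mp inferInstance
    exact (h3 h2) ht
  -- residue map of `Φ` is bijective
  have hΦres : Function.Bijective (ResidueField.map Φ.toRingHom) := by
    refine ⟨RingHom.injective _, ?_⟩
    intro y
    obtain ⟨z, rfl⟩ := ε.surjective y
    obtain ⟨s, rfl⟩ := residue_surjective z
    refine ⟨residue _ (1 ⊗ₜ[R] s), ?_⟩
    rw [ResidueField.map_residue]
    change residue E (Φ (1 ⊗ₜ[R] s)) = _
    rw [hΦ, hψ]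
  have hbij := bijective_of_residue_bijective A (A ⊗[R] S) E hT hE Φ hΦres
  exact ⟨S, inferInstance, inferInstance, inferInstance, hfin, het,
    ⟨(AlgEquiv.ofBijective Φ hbij).symm⟩⟩

end Groth.Agent.S16444
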