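import Groth.Statements.S16454
import Groth.Agent.Lib.Seat77NilFlat

set_option autoImplicit false
universe u
open TensorProduct
open EGA43

namespace Groth.Agent.S16454

/-- Let A be a commutative ring, I a nilpotent ideal of A and M an A-module, and form the associated
graded ring G = ⊕ₙ Iⁿ/Iⁿ⁺¹ and the associated graded G-module gr_I(M) = ⊕ₙ IⁿM/Iⁿ⁺¹M. Assume that
M/IM is flat over A/I and that the canonical homomorphism (M/IM) ⊗ G → gr_I(M), [x] ⊗ [a] ↦ [a·x],
is injective: degree by degree, whenever elements a_i ∈ Iⁿ and x_i ∈ M satisfy Σ_i [a_i]·[x_i] = 0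
in gr_I(M) (that is Σ a_i x_i ∈ Iⁿ⁺¹M), the element Σ_i [a_i] ⊗ [x_i] of (Iⁿ/Iⁿ⁺¹) ⊗ (M/IM) is zero.
Then M is a flat A-module. (The published lemma is stated for any finite decreasing multiplicative
filtration A = J₀ ⊇ J₁ ⊇ … ⊇ J_N₊₁ = 0 of A with M filtered by the submodules JₙM; this row is its
case Jₙ = Iⁿ.) -/
theorem result (A : Type u) [CommRing A] (I : Ideal A)
    (hI : IsNilpotent I) (M : Type u) [AddCommGroup M] [Module A M]
    (hflat : Module.Flat (A ⧸ I) (M ⧸ (I • (⊤ : Submodule A M))))
    (hinj : ∀ (n k : ℕ) (a : Fin k → ↥((FiltBl.IdealFiltration.adic I).F n))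
      (x : Fin k → ↥((Rees.powFilt I M).N 0)),
      (∑ i, (AssocGr.inDeg (FiltBl.IdealFiltration.adic I) n (a i) :
          AssocGr.GrRing (FiltBl.IdealFiltration.adic I)) •
        (AssocGr.inDegM (Rees.powFilt I M) 0 (x i) : AssocGr.GrMod (Rees.powFilt I M))) = 0 →
      (∑ i, (AssocGr.inDeg (FiltBl.IdealFiltration.adic I) n (a i)) ⊗ₜ[A]
          (Submodule.Quotient.mk (x i : M)) :
        ↥(AssocGr.gr (FiltBl.IdealFiltration.adic I) n) ⊗[A] (M ⧸ (I • (⊤ : Submodule A M)))) = 0) :
    Module.Flat A M := by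
  classical
  open Groth.Agent.Lib.Seat77.NilFlat Groth.Agent.Lib.Helper5 in
  refine flat_of_nilpotent I hI ?_ ?_
  · -- H1
    obtain ⟨N, hN⟩ := hI
    have h := lTensor_subtype_injective_of_gr (M := M) I
      (fun n => (FiltBl.IdealFiltration.adic I).F n) N (by
        change I ^ N = ⊥
        rw [hN, Ideal.zero_eq_bot])
      (fun n => (FiltBl.IdealFiltration.adic I).antitone (Nat.le_succ n))
      (fun n => by
        change I * I ^ n ≤ I ^ (n + 1)
        rw [pow_succ'])
      (G := fun n => ↥(AssocGr.gr (FiltBl.IdealFiltration.adic I) n))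
      (fun n => AssocGr.inDeg (FiltBl.IdealFiltration.adic I) n)
      (fun n => AssocGr.inDeg_surjective _ n)
      (fun n a => AssocGr.inDeg_eq_zero_iff _ n a)
      (by
        intro n k a x hsum
        have hx0 : ∀ i, x i ∈ (Rees.powFilt I M).N 0 := by
          intro i
          change x i ∈ I ^ 0 • (⊤ : Submodule A M)
          rw [pow_zero, Ideal.one_eq_top, Submodule.top_smul]
          trivial
        refine hinj n k a (fun i => ⟨x i, hx0 i⟩) ?_
        simp_rw [AssocGr.inDeg_smul_inDegM]
        rw [← AddSubmonoidClass.coe_finsetSum, ← map_sum, ZeroMemClass.coe_eq_zero,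
          AssocGr.inDegM_eq_zero_iff]
        rw [Submodule.coe_sum]
        change ∑ i, (a i : A) • x i ∈ _
        rw [hsum]
        exact Submodule.zero_mem _) 1
    have hI1 : (FiltBl.IdealFiltration.adic I).F 1 = I := by
      change I ^ 1 = I
      rw [pow_one]
    have : ∀ J' : Ideal A, J' = I → Function.Injective (J'.subtype.lTensor M) →
        Function.Injective (I.subtype.lTensor M) := by
      rintro _ rfl h
      exact h
    exact this _ hI1 h
  · -- H2
    apply lTensor_restrictScalars_subtype_injective_of_flat_baseChange I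
    exact Module.Flat.of_linearEquiv
      ((TensorProduct.quotTensorEquivQuotSMul M I).extendScalarsOfSurjective
        Ideal.Quotient.mk_surjective)

end Groth.Agent.S16454
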