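import Groth.Statements.S1647
import Groth.Agent.Lib.Seat64CMGG
import Groth.Agent.S12453
import Groth.Agent.Lib.Seat98PicCalc
import Groth.Agent.Lib.Helper23TensorQCoh
import Groth.Agent.Lib.Seat54PnFinite

set_option autoImplicit false
universe u
open CategoryTheory CategoryTheory.Limits AlgebraicGeometry
open Variety

namespace Groth.Agent.S1647

/-- Let F be a coherent module on P^n_k which is m-regular. Then F(m) = F ⊗ O(m) is globally generated. -/
theorem result (k : Type u) [Field k] (n : ℕ) (F : (CohB1.ProjSpace n k).Modules) (hF : Coh.IsCoh F) (m : ℤ)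
    (h : Curv2.IsMRegular k n F m) : Curv2.IsGloballyGenerated (CohB1.tensorMod F (Twist.twistProjSpace n k m)) := by
  haveI : F.IsQuasicoherent := hF.1
  haveI : SheafOfModules.IsFiniteType (R := (CohB1.ProjSpace n k).ringCatSheaf) F := hF.2
  have hO := Groth.Agent.Lib.Seat54.PnFinite.isCoh_twistProjSpace n k m
  haveI : (Twist.twistProjSpace n k m).IsQuasicoherent := hO.1
  haveI : SheafOfModules.IsFiniteType (R := (CohB1.ProjSpace n k).ringCatSheaf)
    (Twist.twistProjSpace n k m) := hO.2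
  haveI hq : (CohB1.tensorMod F (Twist.twistProjSpace n k m)).IsQuasicoherent :=
    Groth.Agent.Lib.Helper23.TensorQCoh.isQuasicoherent_tensorMod F _
  haveI hf : SheafOfModules.IsFiniteType (R := (CohB1.ProjSpace n k).ringCatSheaf)
      (CohB1.tensorMod F (Twist.twistProjSpace n k m)) :=
    Groth.Agent.Lib.Helper23.TensorQCoh.isFiniteType_tensorMod F _
  have hcov : (⨆ f : CohB1.polyGrading n k 1, Proj.basicOpen (CohB1.polyGrading n k)
      (f : MvPolynomial (Fin (n + 1)) k)) = ⊤ := by
    rw [eq_top_iff, ← Groth.Agent.Lib.Helper27PnChart.iSup_basicOpen_X n k]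
    refine iSup_le fun j => ?_
    exact le_iSup (fun f : CohB1.polyGrading n k 1 => Proj.basicOpen (CohB1.polyGrading n k)
      (f : MvPolynomial (Fin (n + 1)) k)) ⟨MvPolynomial.X j, Groth.Agent.Lib.Helper27PnChart.X_mem_one n k j⟩
  have hmul : ∀ a b : ℤ, Nonempty (CohB1.tensorMod (Twist.twistProjSpace n k a)
      (Twist.twistProjSpace n k b) ≅ Twist.twistProjSpace n k (a + b)) := fun a b =>
    (Groth.Agent.S12453.result (CohB1.polyGrading n k) hcov).2.1 a b
  have hall := Groth.Agent.Lib.Seat64.CMReg.regular_ge n k F m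
    (Groth.Agent.Lib.Seat64.CMReg.regular_all_of_le n k F m h)
  have hG : ∀ (z t : ℕ), 1 ≤ t → t ≤ n → Subsingleton (Coh.HH (CohB1.ProjSpace n k)
      (CohB1.tensorMod (CohB1.tensorMod F (Twist.twistProjSpace n k m))
        (Twist.twistProjSpace n k ((z : ℤ) - (t : ℤ)))) t) := by
    intro z t ht1 _
    obtain ⟨e'⟩ := hmul m ((z : ℤ) - (t : ℤ))
    let φ : CohB1.tensorMod (CohB1.tensorMod F (Twist.twistProjSpace n k m))
        (Twist.twistProjSpace n k ((z : ℤ) - (t : ℤ))) ≅
        CohB1.tensorMod F (Twist.twistProjSpace n k (m + ((z : ℤ) - (t : ℤ)))) :=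
      Groth.Agent.Lib.Seat98.PicCalc.tAssoc _ _ _ ≪≫
        Groth.Agent.Lib.Seat98.PicCalc.tIso (Iso.refl F) e'
    exact Groth.Agent.Lib.Seat64.TwistSES.subsingleton_HH_of_iso φ t
      (hall t (m + ((z : ℤ) - (t : ℤ))) ht1 (by omega))
  simp only [Groth.Agent.Lib.Seat54.PnVanish.twist_eq_tilde] at hG
  exact @Groth.Agent.Lib.Seat64.CMGG.isGloballyGenerated_of_P n k _
    (CohB1.tensorMod F (Twist.twistProjSpace n k m)) hq hf
    (fun e => Groth.Agent.Lib.Seat64.CMMult.P_nat n k
      (CohB1.tensorMod F (Twist.twistProjSpace n k m)) hG e)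

end Groth.Agent.S1647
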