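import Groth.Statements.S16482
-- import your own Groth.Agent.* helpers here

set_option autoImplicit false
open CategoryTheory CategoryTheory.Limits AlgebraicGeometry
universe u
open FrobSch

namespace Groth.Agent.S16482

theorem pow_p_injective (p : ℕ) [Fact p.Prime] (R : Type u) [CommRing R] [IsReduced R]
    (hp : (p : R) = 0) (x y : R) (h : x ^ p = y ^ p) : x = y := by
  rcases subsingleton_or_nontrivial R with hR | hR
  · exact Subsingleton.elim _ _
  · have : CharP R p := (CharP.charP_iff_prime_eq_zero Fact.out).2 hp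
    have h2 : (x - y) ^ p = 0 := by rw [sub_pow_char, h, sub_self]
    exact sub_eq_zero.mp (IsReduced.eq_zero _ ⟨p, h2⟩)

theorem eq_of_frob_comp_eq (p : ℕ) [Fact p.Prime] {Y Z : Scheme.{u}} [FrobSch.IsCharP Y p]
    [IsReduced Y] (g₁ g₂ : Y ⟶ Z) (h : FrobSch.frob Y p ≫ g₁ = FrobSch.frob Y p ≫ g₂) :
    g₁ = g₂ := by
  have hbase : g₁.base = g₂.base := by
    have := congrArg (fun f : Y ⟶ Z => f.base) h
    simpa using this
  refine Scheme.Hom.ext hbase (fun U => ?_)
  have hU := Scheme.Hom.congr_app h U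
  have hV : g₁ ⁻¹ᵁ U = g₂ ⁻¹ᵁ U := congrArg (fun f => (TopologicalSpace.Opens.map f).obj U) hbase
  have hz : ∀ z : Γ(Z, U), (g₁.app U z) ^ p =
      Y.presheaf.map (eqToHom hV).op ((g₂.app U z) ^ p) := by
    intro z
    exact congrArg (fun φ => φ.hom z) hU
  ext z
  apply pow_p_injective p _ (FrobSch.natCast_eq_zero_app Y p _)
  change (Y.presheaf.map (eqToHom hV.symm).op (g₁.app U z)) ^ p = (g₂.app U z) ^ p
  rw [← map_pow, hz z]
  change (Y.presheaf.map (eqToHom hV).op ≫ Y.presheaf.map (eqToHom hV.symm).op) _ = _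
  rw [← Functor.map_comp, ← op_comp, eqToHom_trans, eqToHom_refl, op_id, CategoryTheory.Functor.map_id]
  rfl


/-- Let p be a prime and S a reduced scheme on which p = 0 whose absolute Frobenius is flat; let Y be a
reduced S-scheme with structure map a, Z an S-scheme with structure map b, and g₁, g₂ : Y ⟶ Z two
S-morphisms. For i = 1, 2 let h_i : Y ⟶ Z^(p) be the relative Frobenius F_{Y/S} : Y ⟶ Y^(p) followed
by the base change Y^(p) ⟶ Z^(p) of g_i along the absolute Frobenius of S. If h₁ = h₂, then g₁ = g₂.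
(The published statement works over the reduced special fibre of a flat formal scheme of finite type
over the Witt vectors of a perfect field; only reducedness of S and flatness of its absolute
Frobenius are kept here.) -/
theorem result (p : ℕ) [Fact p.Prime]
    {Y Z S : Scheme.{u}} [FrobSch.IsCharP S p] [IsReduced S] [Flat (FrobSch.frob S p)]
    [IsReduced Y] (a : Y ⟶ S) (b : Z ⟶ S) (g₁ g₂ : Y ⟶ Z) (hg₁ : g₁ ≫ b = a) (hg₂ : g₂ ≫ b = a)
    (h : FrobSch.relFrob a p ≫ pullback.map a (FrobSch.frob S p) b (FrobSch.frob S p) g₁ (𝟙 S) (𝟙 S)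
        ((Category.comp_id a).trans hg₁.symm) ((Category.comp_id _).trans (Category.id_comp _).symm) =
      FrobSch.relFrob a p ≫ pullback.map a (FrobSch.frob S p) b (FrobSch.frob S p) g₂ (𝟙 S) (𝟙 S)
        ((Category.comp_id a).trans hg₂.symm) ((Category.comp_id _).trans (Category.id_comp _).symm)) :
    g₁ = g₂ := by
  have : FrobSch.IsCharP Y p := FrobSch.IsCharP.of_hom a p
  apply eq_of_frob_comp_eq p
  have h' := congrArg (· ≫ pullback.fst b (FrobSch.frob S p)) h
  simp only [Category.assoc, pullback.map, pullback.lift_fst] at h'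
  simpa using h'

end Groth.Agent.S16482
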