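import Groth.Statements.S16487
import Groth.Agent.Lib.Seat75HomCoh
import Groth.Agent.Lib.Seat26PPFin

set_option autoImplicit false
universe u
open CategoryTheory CategoryTheory.Limits AlgebraicGeometry TopologicalSpace Opposite
open Nrm16

namespace Groth.Agent.S16487

/-- Let f : X ⟶ S be a morphism locally of finite presentation, n a natural number, F a quasi-coherent
O_X-module of finite presentation and G a quasi-coherent O_X-module. Then the sheaf Hom
𝓗om_{O_X}(P^n_{X/S}(F), G) out of the sheaf of principal parts of order n of F with its left
O_X-module structure — which is the sheaf 𝒟iff^n_{X/S}(F, G) of differential operators of order at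
most n from F to G, carrying the O_X-module structure (aD)(t) = a·D(t) — is a quasi-coherent
O_X-module. (The published statement asserts quasi-coherence for either of the two O_X-module
structures of the sheaf of differential operators; this row states it for the structure induced by
the left structure of the principal parts.) -/
theorem result {X S : Scheme.{u}} (f : X ⟶ S) [LocallyOfFinitePresentation f] (n : ℕ)
    (F G : X.Modules) (hF : CohB1.IsFP F) (hG : Coh.IsQCoh G) :
    Coh.IsQCoh (RefHull.homSh (PrinPart.PMod f n F) G) := by
  have hP : CohB1.IsFP (PrinPart.PMod f n F) :=
    Groth.Agent.Lib.Seat26.PPFin.isFP_PMod f n F hF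
  have : SheafOfModules.IsFinitePresentation (R := X.ringCatSheaf) (PrinPart.PMod f n F) := hP
  have : (PrinPart.PMod f n F).IsQuasicoherent :=
    Groth.Agent.Helper18Strict.isQCoh_of_isFP _ hP
  have : G.IsQuasicoherent := hG
  exact Groth.Agent.Lib.Seat75.HomCoh.isQuasicoherent_homSh (PrinPart.PMod f n F) G

end Groth.Agent.S16487
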