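import Groth.Statements.S16488
import Groth.Agent.S16080
import Groth.Agent.S0563
import Groth.Agent.Lib.Seat55ReflFree

set_option autoImplicit false
universe u
open CategoryTheory CategoryTheory.Limits AlgebraicGeometry TopologicalSpace
open VBPn

namespace Groth.Agent.S16488

open RefHull Groth.Agent.Lib.Seat55.ReflHull

/-- Let X be an integral locally Noetherian scheme all of whose local rings are regular, and F a
coherent O_X-module which is reflexive, i.e. the canonical map F → F^** is an isomorphism. Then the
singularity set of F (the set of points at which the stalk of F is not free) has codimension at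
least 3: for every point x such that F_x is not a free O_{X,x}-module, the local ring O_{X,x} has
dimension at least 3. The published statement is for reflexive coherent analytic sheaves on a
complex manifold; this row is its statement for coherent sheaves on a regular integral locally
Noetherian scheme, where the same argument (a reflexive sheaf is locally a second syzygy sheaf)
applies. -/
theorem result (X : Scheme.{u}) [IsIntegral X] [IsLocallyNoetherian X]
    (hreg : ∀ x : X, IsRegularLocalRing (X.presheaf.stalk x)) (F : X.Modules) (hF : Coh.IsCoh F)
    (hrefl : RefHull.IsReflexive F) (x : X) (hx : ¬ Module.Free (X.presheaf.stalk x) (F.presheaf.stalk x)) :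
    (3 : WithBot ℕ∞) ≤ ringKrullDim (X.presheaf.stalk x) := by
  by_contra hnot
  apply hx
  have hr := hreg x
  have hfx := finite_stalk_of_isCoh F hF x
  have h12 : RefHull.IsReflexive F ↔ ∀ x : ↥X, RefHull.IsReflexiveAt F x :=
    (Groth.Agent.S16080.result X F hF).out 0 1
  have hrx : Module.IsReflexive (X.presheaf.stalk x) (F.presheaf.stalk x) :=
    h12.mp hrefl x
  have hd : ringKrullDim (X.presheaf.stalk x) = Order.coheight x :=
    ringKrullDim_stalk_eq_coheight x
  rw [hd] at hnot
  have hco : ¬ (3 : ℕ∞) ≤ Order.coheight x := by
    intro h3
    have h3' : ((3 : ℕ∞) : WithBot ℕ∞) ≤ ((Order.coheight x : ℕ∞) : WithBot ℕ∞) :=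
      WithBot.coe_le_coe.mpr h3
    exact hnot h3'
  obtain ⟨d, hd'⟩ : ∃ d : ℕ, Order.coheight x = d :=
    ENat.ne_top_iff_exists.1 (fun h => by rw [h] at hco; simp at hco) |>.imp (fun _ h => h.symm)
  have hd2 : d ≤ 2 := by
    rw [hd'] at hco
    by_contra hd2
    exact hco (by exact_mod_cast (by omega : 3 ≤ d))
  have hdd : ringKrullDim (X.presheaf.stalk x) = d := by rw [hd, hd']; rfl
  have hproj : Module.Projective (X.presheaf.stalk x) (F.presheaf.stalk x) :=
    Groth.Agent.Lib.Seat55.ReflFree.projective_of_isReflexive
      (fun N _ _ => by
        have := Groth.Agent.S0563.result (X.presheaf.stalk x) d hdd N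
        exact hasProjectiveDimensionLT_of_ge _ (d + 1) 3 (by omega))
      (F.presheaf.stalk x)
  exact Module.free_of_flat_of_isLocalRing

end Groth.Agent.S16488
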