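import Groth.Statements.S16489
import Groth.Agent.S16080
import Groth.Agent.Lib.Seat55ReflNormal

set_option autoImplicit false
universe u
open CategoryTheory CategoryTheory.Limits AlgebraicGeometry TopologicalSpace
open VBPn

namespace Groth.Agent.S16489

open RefHull Groth.Agent.Lib.Seat55.ReflHull Groth.Agent.Lib.Seat55.ReflNormal
  Groth.Agent.Lib.Helper20.ZClosLib

/-- Let X be an integral locally Noetherian scheme all of whose local rings are regular, and F a
coherent O_X-module. Call F normal when for all open subsets V ⊆ U of X such that every point of U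
not in V has local ring O_{X,x} of dimension at least 2, the restriction map F(U) → F(V) is
bijective. Then F is reflexive (the canonical map F → F^** is an isomorphism) if and only if F is
torsion-free (each stalk F_x is a torsion-free O_{X,x}-module) and normal. The published statement
is for coherent analytic sheaves on a complex manifold, a sheaf being called normal when for every
open U and every analytic subset A ⊆ U of codimension at least 2 the restriction F(U) → F(U ∖ A) is
bijective; this row is its statement for coherent sheaves on a regular integral locally Noetherian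
scheme, with normality phrased through open subsets V ⊆ U whose complement in U consists of points
with local ring of dimension at least 2, where the same argument applies. -/
theorem result (X : Scheme.{u}) [IsIntegral X] [IsLocallyNoetherian X]
    (hreg : ∀ x : X, IsRegularLocalRing (X.presheaf.stalk x)) (F : X.Modules) (hF : Coh.IsCoh F) :
    RefHull.IsReflexive F ↔
      TorSh.IsTorsionFree F ∧
      (∀ (U V : X.Opens) (hVU : V ≤ U), (∀ x : X, x ∈ U → x ∉ V → (2 : WithBot ℕ∞) ≤ ringKrullDim (X.presheaf.stalk x)) →
        Function.Bijective (F.presheaf.map (homOfLE hVU).op)) := by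
  have hF1 := hF.1
  have hF2 := hF.2
  have hZ : StableUnderSpecialization (ZClos.dimGe X 2) := stableUnderSpecialization_dimGe 2
  have h12 : RefHull.IsReflexive F ↔ ∀ x : ↥X, RefHull.IsReflexiveAt F x :=
    (Groth.Agent.S16080.result X F hF).out 0 1
  have hdepthO : ∀ x : X, x ∈ ZClos.dimGe X 2 →
      (2 : ℕ∞) ≤ LocCoh.depth (X.presheaf.stalk x) (X.presheaf.stalk x) := by
    intro x hx
    have := hreg x
    exact two_le_depth_of_isRegularLocalRing _ hx
  constructor
  · intro hrefl
    have hst := h12.mp hrefl
    refine ⟨fun x => ?_, ?_⟩
    · haveI : Module.IsReflexive (X.presheaf.stalk x) (F.presheaf.stalk x) := hst x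
      exact isTorsionFree_of_isReflexive _ _
    · have hdepth : ∀ x : X, x ∈ ZClos.dimGe X 2 →
          (2 : ℕ∞) ≤ LocCoh.depth (X.presheaf.stalk x) (F.presheaf.stalk x) := by
        intro x hx
        have h2 := two_le_depth_stalk_ddual F hF x (hdepthO x hx)
        have : IsIso (bidualMap F) := hrefl
        let el : F.presheaf.stalk x ≃ₗ[X.presheaf.stalk x] (ddual F).presheaf.stalk x :=
          LinearEquiv.ofBijective (stalkMapₗ (bidualMap F) x)
            (Groth.Agent.Lib.Seat75.HomExt.stalkMapₗ_bijective (bidualMap F) x)
        unfold LocCoh.depth at h2 ⊢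
        rw [Groth.Agent.Lib.Helper28.idealDepth_congr el]
        exact h2
      have hcl : ∀ x : X, ZClos.IsZClosedAt (ZClos.dimGe X 2) F x := fun x =>
        (isZClosedAt_iff_depth_ge_two (ZClos.dimGe X 2) F hZ x).mpr
          (fun x' _ hx' => hdepth x' hx')
      intro U V hVU hdim
      exact closedOn_of_forall_isZClosedAt_of_open (ZClos.dimGe X 2) F hZ U (fun x _ => hcl x)
        V hVU (fun x hx => hdim x hx.1 hx.2)
  · rintro ⟨htf, hnorm⟩
    apply h12.mpr
    have hcl : ZClos.IsZClosed (ZClos.dimGe X 2) F :=
      isZClosed_of_forall_closedOn (ZClos.dimGe X 2) F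
        (fun W O hO hOZ => hnorm W O hO (fun x hxW hxO => hOZ ⟨hxW, hxO⟩))
    intro x
    apply Groth.Agent.Lib.Seat55.ReflSch.isReflexive_stalk_of_flat_or_depth F
    intro y
    by_cases hy : y ∈ ZClos.dimGe X 2
    · right
      exact (isZClosedAt_iff_depth_ge_two (ZClos.dimGe X 2) F hZ y).mp
        (isZClosedAt_of_isZClosed (ZClos.dimGe X 2) F hcl y) y specializes_rfl hy
    · left
      have hdim : ringKrullDim (X.presheaf.stalk y) ≤ 1 := le_one_of_not_two_le _ hy
      have := hreg y
      have := finite_stalk_of_isCoh F hF y
      have := htf y
      have : Module.Free (X.presheaf.stalk y) (F.presheaf.stalk y) :=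
        free_of_isTorsionFree_of_isRegularLocalRing _ hdim _
      change Module.Flat (X.presheaf.stalk y) (F.presheaf.stalk y)
      infer_instance

end Groth.Agent.S16489
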