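import Groth.Statements.S16490
import Groth.Agent.S16080
import Groth.Agent.Lib.Seat55ReflNormal2

set_option autoImplicit false
universe u
open CategoryTheory CategoryTheory.Limits AlgebraicGeometry TopologicalSpace
open VBPn

namespace Groth.Agent.S16490

open RefHull Groth.Agent.Lib.Seat55.ReflHull Groth.Agent.Lib.Seat55.ReflNormal
  Groth.Agent.Lib.Helper20.ZClosLib Groth.Agent.Lib.Helper4.NormDelta Groth.Agent.Lib.Helper23.StalkLin

/-- Let X be an integral locally Noetherian scheme all of whose local rings are regular, and let 0 → F →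
E → Q → 0 be a short exact sequence of coherent O_X-modules in which E is reflexive (the canonical
map E → E^** is an isomorphism) and Q is torsion-free (every stalk Q_x is a torsion-free
O_{X,x}-module). Then F is normal: for all open subsets V ⊆ U of X such that every point of U not in
V has local ring of dimension at least 2, the restriction map F(U) → F(V) is bijective. The
published statement is for coherent analytic sheaves on a complex manifold, a sheaf being called
normal when for every open U and every analytic subset A ⊆ U of codimension at least 2 the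
restriction F(U) → F(U ∖ A) is bijective; this row is its statement for coherent sheaves on a
regular integral locally Noetherian scheme, with normality phrased through open subsets V ⊆ U whose
complement in U consists of points with local ring of dimension at least 2, where the same argument
applies. -/
theorem result (X : Scheme.{u}) [IsIntegral X] [IsLocallyNoetherian X]
    (hreg : ∀ x : X, IsRegularLocalRing (X.presheaf.stalk x)) (S : ShortComplex X.Modules) (hS : S.ShortExact)
    (hF : Coh.IsCoh S.X₁) (hE : Coh.IsCoh S.X₂) (hQ : Coh.IsCoh S.X₃)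
    (hErefl : RefHull.IsReflexive S.X₂) (hQtf : TorSh.IsTorsionFree S.X₃) :
    (∀ (U V : X.Opens) (hVU : V ≤ U), (∀ x : X, x ∈ U → x ∉ V → (2 : WithBot ℕ∞) ≤ ringKrullDim (X.presheaf.stalk x)) →
        Function.Bijective (S.X₁.presheaf.map (homOfLE hVU).op)) := by
  have hF1 := hF.1
  have hF2 := hF.2
  have hZ : StableUnderSpecialization (ZClos.dimGe X 2) := stableUnderSpecialization_dimGe 2
  have hdepthO : ∀ x : X, x ∈ ZClos.dimGe X 2 →
      (2 : ℕ∞) ≤ LocCoh.depth (X.presheaf.stalk x) (X.presheaf.stalk x) := by
    intro x hx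
    have := hreg x
    exact two_le_depth_of_isRegularLocalRing _ hx
  have hdepthE : ∀ x : X, x ∈ ZClos.dimGe X 2 →
      (2 : ℕ∞) ≤ LocCoh.depth (X.presheaf.stalk x) (S.X₂.presheaf.stalk x) := by
    intro x hx
    have h2 := two_le_depth_stalk_ddual S.X₂ hE x (hdepthO x hx)
    have : IsIso (bidualMap S.X₂) := hErefl
    let el : S.X₂.presheaf.stalk x ≃ₗ[X.presheaf.stalk x] (ddual S.X₂).presheaf.stalk x :=
      LinearEquiv.ofBijective (stalkMapₗ (bidualMap S.X₂) x)
        (Groth.Agent.Lib.Seat75.HomExt.stalkMapₗ_bijective (bidualMap S.X₂) x)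
    unfold LocCoh.depth at h2 ⊢
    rw [Groth.Agent.Lib.Helper28.idealDepth_congr el]
    exact h2
  have hdepth : ∀ x : X, x ∈ ZClos.dimGe X 2 →
      (2 : ℕ∞) ≤ LocCoh.depth (X.presheaf.stalk x) (S.X₁.presheaf.stalk x) := by
    intro x hx
    have := hreg x
    have := finite_stalk_of_isCoh S.X₁ hF x
    have := finite_stalk_of_isCoh S.X₂ hE x
    have := finite_stalk_of_isCoh S.X₃ hQ x
    have := hQtf x
    have := hS.mono_f
    have := hS.epi_g
    have h1 : (1 : WithBot ℕ∞) ≤ ringKrullDim (X.presheaf.stalk x) :=
      le_trans (by decide) (show (2 : WithBot ℕ∞) ≤ ringKrullDim (X.presheaf.stalk x) from hx)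
    exact two_le_depth_of_exact (X.presheaf.stalk x) h1 (stalkLin S.f x) (stalkLin S.g x)
      (stalkLin_injective S.f x) (stalkLin_surjective S.g x) (stalkLin_exact S hS x)
      (hdepthE x hx)
  have hcl : ∀ x : X, ZClos.IsZClosedAt (ZClos.dimGe X 2) S.X₁ x := fun x =>
    (isZClosedAt_iff_depth_ge_two (ZClos.dimGe X 2) S.X₁ hZ x).mpr
      (fun x' _ hx' => hdepth x' hx')
  intro U V hVU hdim
  exact closedOn_of_forall_isZClosedAt_of_open (ZClos.dimGe X 2) S.X₁ hZ U (fun x _ => hcl x)
    V hVU (fun x hx => hdim x hx.1 hx.2)

end Groth.Agent.S16490
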