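import Groth.Statements.S16543
import Groth.Agent.Lib.Seat78DispRigid
import Groth.Agent.Lib.Seat78DispStep
import Groth.Agent.Lib.Seat78DispBase

set_option autoImplicit false
universe u v
open Disp

namespace Groth.Agent.S16543

/-- Let p be a prime, S a commutative ring in which p is nilpotent, f : S → R a surjective homomorphism
of commutative rings whose kernel is a nilpotent ideal, and (P, Q, F, V⁻¹), (P', Q', F', V'⁻¹) two
displays over S, i.e. 3n-displays whose operators V# satisfy the nilpotence condition. Let (P_R,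
Q_R, F_R, V_R⁻¹) and (P'_R, Q'_R, F'_R, V'_R⁻¹) be their base changes along f, the 3n-display
structures on W(R) ⊗_{W(S)} P and W(R) ⊗_{W(S)} P' characterised by Q_R = ker(P_R → R ⊗_S P/Q),
F_R(w ⊗ x) = σ(w) ⊗ F x, V_R⁻¹(w ⊗ y) = σ(w) ⊗ V⁻¹ y for y ∈ Q and V_R⁻¹(V(w) ⊗ x) = w ⊗ F x (and
likewise for P'). Then the natural map ψ ↦ id ⊗ ψ from homomorphisms of 3n-displays P → P' to
homomorphisms P_R → P'_R is injective, and its cokernel is a p-torsion group: for every homomorphism
χ of the base-changed 3n-displays there are n and a homomorphism ψ over S with id ⊗ ψ = p^n·χ. -/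
theorem result (p : ℕ) [Fact p.Prime]
    (S R : Type u) [CommRing S] [CommRing R] (hp : IsNilpotent (p : S))
    (f : S →+* R) (hf : Function.Surjective f) (hker : IsNilpotent (RingHom.ker f))
    (P P' : Type v) [AddCommGroup P] [Module (WittVector p S) P] [AddCommGroup P'] [Module (WittVector p S) P']
    (D : W4c1extbt610.Display3n p S P) (D' : W4c1extbt610.Display3n p S P')
    (hD : Dieu.IsDisplay D) (hD' : Dieu.IsDisplay D')
    (DR : W4c1extbt610.Display3n p R (Dieu.BC (WittVector.map f : WittVector p S →+* WittVector p R) P)) (hDR : Dieu.IsDispBaseChange f D DR)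
    (DR' : W4c1extbt610.Display3n p R (Dieu.BC (WittVector.map f : WittVector p S →+* WittVector p R) P')) (hDR' : Dieu.IsDispBaseChange f D' DR') :
    (∀ ψ χ : P →ₗ[WittVector p S] P', W4c1extbt610.IsHom D D' ψ → W4c1extbt610.IsHom D D' χ →
        Dieu.BC.map (WittVector.map f : WittVector p S →+* WittVector p R) ψ = Dieu.BC.map (WittVector.map f : WittVector p S →+* WittVector p R) χ → ψ = χ) ∧
      ∀ χ : Dieu.BC (WittVector.map f : WittVector p S →+* WittVector p R) P →ₗ[WittVector p R] Dieu.BC (WittVector.map f : WittVector p S →+* WittVector p R) P', W4c1extbt610.IsHom DR DR' χ →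
        ∃ (n : ℕ) (ψ : P →ₗ[WittVector p S] P'), W4c1extbt610.IsHom D D' ψ ∧
          Dieu.BC.map (WittVector.map f : WittVector p S →+* WittVector p R) ψ = ((p : WittVector p R) ^ n) • χ := by
  have hD0 := hD
  have hfinP' := D'.finite
  have hprojP' := D'.projective
  -- the nilpotent ideal `𝔪 = ker f + (p)`
  have hp𝔪 : (p : S) ∈ RingHom.ker f ⊔ Ideal.span {(p : S)} :=
    Ideal.mem_sup_right (Ideal.mem_span_singleton_self _)
  have h𝔪 : IsNilpotent (RingHom.ker f ⊔ Ideal.span {(p : S)}) := by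
    obtain ⟨n, hn⟩ := hker
    obtain ⟨m, hm⟩ := hp
    refine ⟨n + m, ?_⟩
    rw [Ideal.zero_eq_bot, eq_bot_iff]
    refine Ideal.sup_pow_add_le_pow_sup_pow.trans ?_
    rw [hn, Ideal.span_singleton_pow, hm, Ideal.zero_eq_bot, Ideal.span_singleton_eq_bot.2 rfl,
      sup_bot_eq]
  have hkerφ : RingHom.ker (WittVector.map f : WittVector p S →+* WittVector p R) =
      Groth.Agent.Lib.Seat78.WittSqZero.wIdeal (RingHom.ker f) :=
    Groth.Agent.Lib.Seat78.WittSqZero.ker_map_eq f
  constructor
  · intro ψ χ hψ hχ h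
    have hα := Groth.Agent.Lib.Seat78.DispBase.IsHom.sub hψ hχ
    have h0 : Dieu.BC.map (WittVector.map f : WittVector p S →+* WittVector p R) (ψ - χ) = 0 := by
      apply Dieu.BC.ext
      intro x
      rw [Dieu.BC.map_tmul, LinearMap.zero_apply, LinearMap.sub_apply, sub_eq_add_neg,
        Dieu.BC.tmul_add, Dieu.BC.tmul_neg, add_neg_eq_zero]
      have h1 := LinearMap.congr_fun h (Dieu.BC.tmul _ 1 x)
      rwa [Dieu.BC.map_tmul, Dieu.BC.map_tmul] at h1
    have h1 := (Groth.Agent.Lib.Seat78.DispBase.map_eq_zero_iff f (ψ - χ)).1 h0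
    rw [hkerφ] at h1
    have h2 := Groth.Agent.Lib.Seat78.DispRigid.hom_eq_zero
      (RingHom.ker f ⊔ Ideal.span {(p : S)}) (RingHom.ker f) le_sup_left hp𝔪 h𝔪 D D' hD0
      (ψ - χ) hα h1
    exact sub_eq_zero.1 h2
  · intro χ hχ
    obtain ⟨ψ₀, hψ₀, hmap₀⟩ := Groth.Agent.Lib.Seat78.DispBase.exists_lift_isHomMod f hf D D'
      DR hDR DR' hDR' χ hχ
    obtain ⟨Vs, hVs, hnil⟩ := hD
    have key : ∀ k : ℕ, ∃ ψ : P →ₗ[WittVector p S] P',
        Groth.Agent.Lib.Seat78.DispLin.IsHomMod D D'
          (Groth.Agent.Lib.Seat78.WittSqZero.wIdeal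
            ((RingHom.ker f ⊔ Ideal.span {(p : S)}) ^ k * RingHom.ker f)) ψ ∧
        Dieu.BC.map (WittVector.map f : WittVector p S →+* WittVector p R) ψ =
          ((p : WittVector p R) ^ k) • χ := by
      intro k
      induction k with
      | zero =>
        refine ⟨ψ₀, ?_, ?_⟩
        · rw [pow_zero, one_mul, ← hkerφ]
          exact hψ₀
        · rw [pow_zero, one_smul]
          exact hmap₀
      | succ k ih =>
        obtain ⟨ψ, hψ, hmap⟩ := ih
        obtain ⟨ψ', hψ', hdiff⟩ := Groth.Agent.Lib.Seat78.DispStep.step_lift hp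
          (Groth.Agent.Lib.Seat78.DispRigid.shiftPair_chain
            (RingHom.ker f ⊔ Ideal.span {(p : S)}) (RingHom.ker f) le_sup_left hp𝔪 k)
          D D' Vs hVs hnil ψ hψ
        refine ⟨ψ', hψ', ?_⟩
        have hle1 : (RingHom.ker f ⊔ Ideal.span {(p : S)}) ^ k * RingHom.ker f ≤ RingHom.ker f :=
          Ideal.mul_le_right
        have hle : (Groth.Agent.Lib.Seat78.WittSqZero.wIdeal
            ((RingHom.ker f ⊔ Ideal.span {(p : S)}) ^ k * RingHom.ker f) :
              Ideal (WittVector p S)) • (⊤ : Submodule (WittVector p S) P') ≤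
            RingHom.ker (WittVector.map f : WittVector p S →+* WittVector p R) •
              (⊤ : Submodule (WittVector p S) P') := by
          rw [hkerφ]
          exact Submodule.smul_mono (Groth.Agent.Lib.Seat78.WittSqZero.wIdeal_mono hle1) le_rfl
        rw [Groth.Agent.Lib.Seat78.DispBase.map_eq_smul_of_sub_mem f (p : WittVector p S) ψ ψ'
          (fun x => hle (hdiff x)), hmap, map_natCast, pow_succ', mul_smul]
    obtain ⟨N, hN⟩ := h𝔪
    obtain ⟨ψ, hψ, hmap⟩ := key N
    rw [hN, Ideal.zero_eq_bot, Ideal.bot_mul, Groth.Agent.Lib.Seat78.WittSqZero.wIdeal_bot] at hψ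
    exact ⟨N, ψ, Groth.Agent.Lib.Seat78.DispLin.isHom_of_isHomMod_bot D D' ψ hψ, hmap⟩

end Groth.Agent.S16543
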