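import Groth.Statements.S16544
import Groth.Agent.Lib.Seat78DispRigid

set_option autoImplicit false
universe u v
open Disp

namespace Groth.Agent.S16544

/-- Let p be a prime and S a commutative ring in which p is nilpotent and whose nilradical (the ideal of
nilpotent elements) is a nilpotent ideal; let (P, Q, F, V⁻¹) and (P', Q', F', V'⁻¹) be displays over
S, i.e. 3n-displays whose operators V# satisfy the nilpotence condition. Then the group of
homomorphisms of displays from P to P' has no p-torsion: a W(S)-linear ψ : P → P' which is a
homomorphism of 3n-displays and satisfies p·ψ = 0 is zero. (The published statement says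
torsion-free; primes other than p are units in S, and the published proof treats the prime p.) -/
theorem result (p : ℕ) [Fact p.Prime]
    (S : Type u) [CommRing S] (hp : IsNilpotent (p : S)) (hn : IsNilpotent (nilradical S))
    (P P' : Type v) [AddCommGroup P] [Module (WittVector p S) P] [AddCommGroup P'] [Module (WittVector p S) P']
    (D : W4c1extbt610.Display3n p S P) (D' : W4c1extbt610.Display3n p S P')
    (hD : Dieu.IsDisplay D) (hD' : Dieu.IsDisplay D')
    (ψ : P →ₗ[WittVector p S] P') (hψ : W4c1extbt610.IsHom D D' ψ)
    (h : (p : WittVector p S) • ψ = 0) : ψ = 0 := by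
  have hpn : (p : S) ∈ nilradical S := mem_nilradical.2 hp
  refine Groth.Agent.Lib.Seat78.DispRigid.hom_eq_zero (nilradical S) (nilradical S) le_rfl hpn hn
    D D' hD ψ hψ fun x => ?_
  have := D'.finite
  have := D'.projective
  refine Groth.Agent.Lib.Seat78.DispRigid.mem_wIdeal_nilradical_smul_top hp (ψ x) ?_
  have h1 := LinearMap.congr_fun h x
  rwa [LinearMap.smul_apply, LinearMap.zero_apply] at h1

end Groth.Agent.S16544
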