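import Groth.Statements.S16547
import Groth.Agent.Lib.Seat78InvRam
import Groth.Agent.Lib.Seat78EakinNagata

set_option autoImplicit false
universe u
open CAlg

namespace Groth.Agent.S16547

set_option linter.style.haveILetI false

/-- The invariant ring of a local ring is local. -/
theorem isLocalRing_of_isInvariant {A B G : Type*} [CommRing A] [IsLocalRing A]
    [CommRing B] [Algebra B A] [FaithfulSMul B A]
    [Group G] [MulSemiringAction G A] [SMulCommClass G B A]
    [Algebra.IsInvariant B A G] : IsLocalRing B := by
  have hinj : Function.Injective (algebraMap B A) := FaithfulSMul.algebraMap_injective B A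
  haveI : Nontrivial B := ⟨⟨0, 1, fun h => by
    have := congrArg (algebraMap B A) h
    rw [map_zero, map_one] at this
    exact zero_ne_one this⟩⟩
  have key : ∀ x : B, IsUnit (algebraMap B A x) → IsUnit x := by
    intro x hx
    obtain ⟨u, hu⟩ := hx
    have hinv : ∀ g : G, g • ((u⁻¹ : Aˣ) : A) = ((u⁻¹ : Aˣ) : A) := by
      intro g
      have h1 : g • (u : A) = (u : A) := by rw [hu]; exact smul_algebraMap g x
      have h2 : g • ((u⁻¹ : Aˣ) : A) * (u : A) = 1 := by
        rw [← h1, ← smul_mul', Units.inv_mul, smul_one]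
      have h3 : ((u⁻¹ : Aˣ) : A) * (u : A) = 1 := Units.inv_mul u
      calc g • ((u⁻¹ : Aˣ) : A) = g • ((u⁻¹ : Aˣ) : A) * ((u : A) * ((u⁻¹ : Aˣ) : A)) := by
            rw [Units.mul_inv, mul_one]
        _ = (g • ((u⁻¹ : Aˣ) : A) * (u : A)) * ((u⁻¹ : Aˣ) : A) := by ring
        _ = ((u⁻¹ : Aˣ) : A) := by rw [h2, one_mul]
    obtain ⟨y, hy⟩ := Algebra.IsInvariant.isInvariant (A := B) (G := G) _ hinv
    refine IsUnit.of_mul_eq_one y (hinj ?_)
    rw [map_mul, hy, map_one, ← hu, Units.mul_inv]
  refine IsLocalRing.of_nonunits_add ?_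
  intro a b ha hb
  have ha' : algebraMap B A a ∈ nonunits A := fun h => ha (key a h)
  have hb' : algebraMap B A b ∈ nonunits A := fun h => hb (key b h)
  have hab := IsLocalRing.nonunits_add ha' hb'
  intro h
  apply hab
  rw [← map_add]
  exact h.map (algebraMap B A)

/-- If `B` is a Noetherian local ring, `b₀` a non-zero-divisor and `B ⧸ (b₀)` is regular, then
`B` is regular. -/
theorem isRegularLocalRing_of_quotient_span_singleton {B : Type*} [CommRing B] [IsLocalRing B]
    [IsNoetherianRing B] (b₀ : B) (hb₀ : b₀ ∈ nonZeroDivisors B)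
    (hreg : IsRegularLocalRing (B ⧸ Ideal.span {b₀})) : IsRegularLocalRing B := by
  classical
  set q : Ideal B := Ideal.span {b₀} with hq
  haveI : IsLocalHom (Ideal.Quotient.mk q) :=
    IsLocalHom.of_surjective _ Ideal.Quotient.mk_surjective
  have hfg : (IsLocalRing.maximalIdeal (B ⧸ q)).FG := IsNoetherian.noetherian _
  obtain ⟨s, hscard, hsspan⟩ := Submodule.FG.exists_span_finset_card_eq_spanFinrank hfg
  let lift : (B ⧸ q) → B := Function.surjInv Ideal.Quotient.mk_surjective
  have hlift : ∀ x, Ideal.Quotient.mk q (lift x) = x := Function.surjInv_eq _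
  set s' : Finset B := s.image lift with hs'
  set J : Ideal B := Ideal.span (insert b₀ (s' : Set B)) with hJ
  have hqJ : q ≤ J := by
    rw [hq, Ideal.span_le]
    intro x hx
    rw [Set.mem_singleton_iff] at hx
    exact Ideal.subset_span (hx ▸ Set.mem_insert _ _)
  have hmap : J.map (Ideal.Quotient.mk q) = IsLocalRing.maximalIdeal (B ⧸ q) := by
    rw [hJ, Ideal.map_span, Set.image_insert_eq]
    have h0 : Ideal.Quotient.mk q b₀ = 0 :=
      Ideal.Quotient.eq_zero_iff_mem.mpr (Ideal.mem_span_singleton_self b₀)
    have himg : (Ideal.Quotient.mk q) '' (s' : Set B) = (s : Set (B ⧸ q)) := by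
      rw [hs', Finset.coe_image, ← Set.image_comp]
      have : (Ideal.Quotient.mk q) ∘ lift = id := funext hlift
      rw [this, Set.image_id]
    rw [h0, himg]
    have : Ideal.span (insert (0 : B ⧸ q) (s : Set (B ⧸ q))) = Ideal.span (s : Set (B ⧸ q)) := by
      apply le_antisymm
      · rw [Ideal.span_le]
        intro x hx
        rcases hx with rfl | hx
        · exact Ideal.zero_mem _
        · exact Ideal.subset_span hx
      · exact Ideal.span_mono (Set.subset_insert _ _)
    rw [this]
    exact hsspan
  have hJmax : J = IsLocalRing.maximalIdeal B := by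
    have h1 : (J.map (Ideal.Quotient.mk q)).comap (Ideal.Quotient.mk q) = J := by
      rw [Ideal.comap_map_of_surjective _ Ideal.Quotient.mk_surjective, ← RingHom.ker_eq_comap_bot,
        Ideal.mk_ker, sup_eq_left.mpr hqJ]
    rw [← h1, hmap, IsLocalRing.maximalIdeal_comap]
  apply IsRegularLocalRing.of_spanFinrank_maximalIdeal_le
  have hdim := ringKrullDim_quotient_succ_le_of_nonZeroDivisor hb₀
  have hk : ((IsLocalRing.maximalIdeal (B ⧸ q)).spanFinrank : WithBot ℕ∞) =
      ringKrullDim (B ⧸ q) := hreg.spanFinrank_maximalIdeal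
  have hle : (IsLocalRing.maximalIdeal B).spanFinrank ≤
      (IsLocalRing.maximalIdeal (B ⧸ q)).spanFinrank + 1 := by
    rw [← hJmax, hJ]
    refine (Submodule.spanFinrank_span_le_ncard_of_finite
      ((Finset.finite_toSet s').insert b₀)).trans ?_
    refine (Set.ncard_insert_le _ _).trans ?_
    rw [Set.ncard_coe_finset, ← hscard]
    exact Nat.succ_le_succ Finset.card_image_le
  calc ((IsLocalRing.maximalIdeal B).spanFinrank : WithBot ℕ∞)
      ≤ (((IsLocalRing.maximalIdeal (B ⧸ q)).spanFinrank + 1 : ℕ) : WithBot ℕ∞) := by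
        exact_mod_cast hle
    _ = ringKrullDim (B ⧸ q) + 1 := by rw [← hk]; push_cast; rfl
    _ ≤ ringKrullDim B := hdim

/-- Let A be a Noetherian factorial local domain and G a finite group acting faithfully on A by ring
automorphisms; let B be a ring with an injective ring map to A whose image is exactly the ring of
invariants of G, and assume A is a finite B-module. Let q be a prime ideal of B of height one and p
a prime ideal of A lying over q such that the extension of residue fields of the local rings B_q and
A_p is trivial (every element of A is congruent modulo p to some c⁻¹b with b, c in B, c outside q).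
Then q is a principal ideal; and if moreover B/q is a regular local ring, then B is a regular local
ring. -/
theorem result
    {A B G : Type u} [CommRing A] [IsDomain A] [IsNoetherianRing A] [IsLocalRing A]
    [UniqueFactorizationMonoid A]
    [CommRing B] [Algebra B A] [FaithfulSMul B A] [Module.Finite B A]
    [Group G] [Finite G] [MulSemiringAction G A] [FaithfulSMul G A] [SMulCommClass G B A]
    [Algebra.IsInvariant B A G]
    (q : Ideal B) [q.IsPrime] (hq : q.height = 1) (p : Ideal A) [p.IsPrime] [p.LiesOver q]
    (hres : ∀ a : A, ∃ b c : B, c ∉ q ∧ algebraMap B A c * a - algebraMap B A b ∈ p) :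
    Submodule.IsPrincipal q ∧ (IsRegularLocalRing (B ⧸ q) → IsRegularLocalRing B) := by
  obtain ⟨b₀, hb₀⟩ := Groth.Agent.Lib.Seat78.InvRam.exists_eq_span_singleton (G := G) q hq p hres
  refine ⟨⟨⟨b₀, hb₀⟩⟩, fun hreg => ?_⟩
  haveI : IsNoetherianRing B := Groth.Agent.Lib.Seat78.EakinNagata.isNoetherianRing_of_finite A
  haveI : IsLocalRing B := isLocalRing_of_isInvariant (A := A) (B := B) (G := G)
  haveI : IsDomain B := IsDomain.of_faithfulSMul B A
  have hne : b₀ ≠ 0 := by
    rintro rfl
    have : q = ⊥ := by rw [hb₀]; simp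
    exact Ideal.ne_bot_of_height_eq_one hq this
  subst hb₀
  exact isRegularLocalRing_of_quotient_span_singleton b₀ (mem_nonZeroDivisors_of_ne_zero hne) hreg

end Groth.Agent.S16547
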