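import Groth.Statements.S16551
import Groth.Agent.Lib.Seat35GoingDown
import Groth.Agent.Lib.Seat35MaxIrr

set_option autoImplicit false
universe u
open CategoryTheory CategoryTheory.Limits AlgebraicGeometry
open Models

namespace Groth.Agent.S16551

/-- Let R be a discrete valuation ring, W and Z integral normal schemes which are flat, of finite type
and of dimension 2 over Spec R, and ψ : W -> Z a finite surjective R-morphism. Let z be a closed
point of Z lying in the special fibre, w a point of W with ψ(w) = z, and Δ an irreducible component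
of the special fibre of Z with z ∈ Δ. Then some irreducible component Γ of the special fibre of W
contains w and satisfies ψ(Γ) = Δ. (The published statement asks W and Z only to be normal; they are
taken integral as well here.) -/
theorem result
    (R : Type u) [CommRing R] [IsDomain R] [IsDiscreteValuationRing R]
    (W Z : Over (Spec (CommRingCat.of R))) [IsIntegral W.left] [IsIntegral Z.left]
    (hWn : Pi1.IsNormalScheme W.left) (hZn : Pi1.IsNormalScheme Z.left)
    [Flat W.hom] [LocallyOfFiniteType W.hom] [QuasiCompact W.hom]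
    [Flat Z.hom] [LocallyOfFiniteType Z.hom] [QuasiCompact Z.hom]
    (hdW : topologicalKrullDim W.left = 2) (hdZ : topologicalKrullDim Z.left = 2)
    (ψ : W ⟶ Z) [IsFinite ψ.left] [Surjective ψ.left]
    (z : Z.left) (hzc : IsClosed ({z} : Set Z.left)) (hz : z ∈ Models.specialFibreSet R Z)
    (w : W.left) (hw : ψ.left.base w = z)
    (Δ : Set Z.left) (hΔ : Δ ∈ Models.fibreComponents R Z) (hzΔ : z ∈ Δ) :
    ∃ Γ ∈ Models.fibreComponents R W, w ∈ Γ ∧ ψ.left.base '' Γ = Δ := by
  -- `W` is a Noetherian topological space
  have hLN : IsLocallyNoetherian W.left := LocallyOfFiniteType.isLocallyNoetherian W.hom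
  have hC : CompactSpace W.left := QuasiCompact.compactSpace_of_compactSpace W.hom
  have hN : IsNoetherian W.left := {}
  have hNS : TopologicalSpace.NoetherianSpace W.left := inferInstance
  -- going-down
  have hgen : GeneralizingMap ψ.left :=
    Groth.Agent.Lib.Seat35.GoingDown.generalizingMap_of_isFinite ψ.left (fun q => (hZn q).2)
  have hcl : IsClosedMap ψ.left := ψ.left.isClosedMap
  have hpre : Models.specialFibreSet R W = ψ.left ⁻¹' Models.specialFibreSet R Z := by
    ext x
    simp only [Models.specialFibreSet, Set.mem_preimage]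
    rw [← Over.w ψ, Scheme.Hom.comp_apply]
  subst hw
  have hΔ' : Maximal (fun S : Set Z.left => IsIrreducible S ∧ S ⊆ Models.specialFibreSet R Z) Δ :=
    hΔ
  obtain ⟨Γ, ⟨hΓ, hwΓ⟩, hΓΔ⟩ := Groth.Agent.Lib.Seat35.MaxIrr.exists_maximal_image_eq
    (ψ.left : W.left → Z.left) ψ.left.continuous hcl hgen (Models.isClosed_specialFibreSet R Z) w
    hΔ' hzΔ
  refine ⟨Γ, ?_, hwΓ, hΓΔ⟩
  change Maximal (fun S : Set W.left => IsIrreducible S ∧ S ⊆ Models.specialFibreSet R W) Γ
  rw [hpre]
  exact hΓ

end Groth.Agent.S16551
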