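import Groth.Statements.S16602
import Groth.Agent.Lib.Seat78LGAz

set_option autoImplicit false
universe u v w
open Brauer

namespace Groth.Agent.S16602

/-- a retract of a module with only trivial idempotent endomorphisms is zero or everything -/
lemma aux {A : Type*} [Ring A] {P Q : Type*} [AddCommGroup P] [Module A P] [AddCommGroup Q]
    [Module A Q] [Nontrivial Q] (φ : P →ₗ[A] Q) (ψ : Q →ₗ[A] P) (h : φ ∘ₗ ψ = LinearMap.id)
    (hP : ∀ e : Module.End A P, IsIdempotentElem e → e = 0 ∨ e = 1) : Nonempty (P ≃ₗ[A] Q) := by
  have hφψ : ∀ y, φ (ψ y) = y := fun y => by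
    have := congrArg (fun f => f y) h
    simpa using this
  have hidem : IsIdempotentElem (ψ ∘ₗ φ : Module.End A P) := by
    refine LinearMap.ext fun x => ?_
    show ψ (φ (ψ (φ x))) = ψ (φ x)
    rw [hφψ]
  rcases hP _ hidem with h0 | h1
  · exfalso
    obtain ⟨y, hy⟩ := exists_ne (0 : Q)
    apply hy
    have h2 : ψ (φ (ψ y)) = 0 := by
      have := congrArg (fun f => f (ψ y)) h0
      simpa using this
    rw [hφψ] at h2
    rw [← hφψ y, h2, map_zero]
  · have hψφ : ∀ x, ψ (φ x) = x := fun x => by
      have := congrArg (fun f => f x) h1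
      simpa using this
    exact ⟨LinearEquiv.ofLinearMap φ ψ h (LinearMap.ext hψφ)⟩

/-- Let R be an LG-ring with Spec R connected and A an Azumaya R-algebra. Then any two indecomposable
finitely generated projective left A-modules are isomorphic (a module is indecomposable when it is
non-zero and the only idempotents of its endomorphism ring are 0 and 1). (This extends the semilocal
case.) -/
theorem result {R : Type u} [CommRing R]
    (hR : LGRing.IsLGRing R) [ConnectedSpace (PrimeSpectrum R)] {A : Type v} [Ring A] [Algebra R A] [IsAzumaya R A]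
    (P Q : Type w) [AddCommGroup P] [Module A P] [Module.Finite A P] [Module.Projective A P] [Nontrivial P]
    [AddCommGroup Q] [Module A Q] [Module.Finite A Q] [Module.Projective A Q] [Nontrivial Q]
    (hP : ∀ e : Module.End A P, IsIdempotentElem e → e = 0 ∨ e = 1)
    (hQ : ∀ e : Module.End A Q, IsIdempotentElem e → e = 0 ∨ e = 1) : Nonempty (P ≃ₗ[A] Q) := by
  let _ : Module R P := Module.compHom P (algebraMap R A)
  let _ : Module R Q := Module.compHom Q (algebraMap R A)
  have : IsScalarTower R A P := ⟨fun r a x => by
    show (r • a) • x = (algebraMap R A r) • (a • x)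
    rw [Algebra.smul_def, mul_smul]⟩
  have : IsScalarTower R A Q := ⟨fun r a x => by
    show (r • a) • x = (algebraMap R A r) • (a • x)
    rw [Algebra.smul_def, mul_smul]⟩
  have : Module.Finite R P := Module.Finite.trans A P
  have : Module.Finite R Q := Module.Finite.trans A Q
  have : Module.Projective R P := Groth.Agent.Lib.Seat78.LGAz.projective_of_tower R A P
  have : Module.Projective R Q := Groth.Agent.Lib.Seat78.LGAz.projective_of_tower R A Q
  have : Module.FinitePresentation R P := Module.finitePresentation_of_projective R P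
  have : Module.FinitePresentation R Q := Module.finitePresentation_of_projective R Q
  have hcP : ∀ p q : PrimeSpectrum R, Module.rankAtStalk P p = Module.rankAtStalk P q :=
    fun p q => (Module.isLocallyConstant_rankAtStalk (R := R) (M := P)).apply_eq_of_preconnectedSpace p q
  have hcQ : ∀ p q : PrimeSpectrum R, Module.rankAtStalk Q p = Module.rankAtStalk Q q :=
    fun p q => (Module.isLocallyConstant_rankAtStalk (R := R) (M := Q)).apply_eq_of_preconnectedSpace p q
  obtain ⟨p₀⟩ : Nonempty (PrimeSpectrum R) := inferInstance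
  rcases le_total (Module.rankAtStalk Q p₀) (Module.rankAtStalk P p₀) with hle | hle
  · obtain ⟨φ, ψ, hφψ⟩ := Groth.Agent.Lib.Seat78.LGAz.exists_retraction hR (A := A) (M := P) (N := Q)
      (fun p => by rw [hcQ p p₀, hcP p p₀]; exact hle)
    exact aux φ ψ hφψ hP
  · obtain ⟨φ, ψ, hφψ⟩ := Groth.Agent.Lib.Seat78.LGAz.exists_retraction hR (A := A) (M := Q) (N := P)
      (fun p => by rw [hcQ p p₀, hcP p p₀]; exact hle)
    obtain ⟨e⟩ := aux φ ψ hφψ hQ
    exact ⟨e.symm⟩

end Groth.Agent.S16602
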