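import Groth.Statements.S16607
import Groth.Agent.Lib.Seat78GT

set_option autoImplicit false
universe u v
open Brauer

namespace Groth.Agent.S16607

/-- Let R be an LG-ring, A and B Azumaya R-algebras and n ≥ 1. If Mₙ(A) ≅ Mₙ(B) as R-algebras then A ≅ B
as R-algebras (cancellation of Azumaya algebras). -/
theorem result {R : Type u} [CommRing R]
    (hR : LGRing.IsLGRing R) (A B : Type v) [Ring A] [Algebra R A] [IsAzumaya R A] [Ring B] [Algebra R B]
    [IsAzumaya R B] (n : ℕ) (hn : 0 < n)
    (e : Matrix (Fin n) (Fin n) A ≃ₐ[R] Matrix (Fin n) (Fin n) B) : Nonempty (A ≃ₐ[R] B) := by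
  open scoped TensorProduct in
  have : Nonempty (Fin n) := ⟨⟨0, hn⟩⟩
  have : FaithfulSMul R (Fin n → R) := inferInstance
  let m : Module.End R (Fin n → R) ≃ₐ[R] Matrix (Fin n) (Fin n) R := LinearMap.toMatrixAlgEquiv'
  let eA : A ⊗[R] Module.End R (Fin n → R) ≃ₐ[R] Matrix (Fin n) (Fin n) A :=
    (Algebra.TensorProduct.congr (AlgEquiv.refl (R := R) (A₁ := A)) m).trans
      (matrixEquivTensor (Fin n) R A).symm
  let eB : A ⊗[R] Module.End R (Fin n → R) ≃ₐ[R] B ⊗[R] Module.End R (Fin n → R) :=
    (eA.trans e).trans ((matrixEquivTensor (Fin n) R B).trans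
      (Algebra.TensorProduct.congr (AlgEquiv.refl (R := R) (A₁ := B)) m.symm))
  have : IsAzumaya R (Module.End R (Fin n → R)) := Groth.Agent.S19589.result R (Fin n → R)
  have : Module.Flat R (Module.End R (Fin n → R)) := inferInstance
  have : Module.Flat R A := inferInstance
  have : Module.Flat R B := inferInstance
  have hdeg : ∀ p : PrimeSpectrum R, Module.rankAtStalk A p = Module.rankAtStalk B p := by
    intro p
    have h3 := congrFun (Module.rankAtStalk_eq_of_equiv eB.toLinearEquiv) p
    rw [Module.rankAtStalk_tensorProduct, Module.rankAtStalk_tensorProduct, Pi.mul_apply,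
      Pi.mul_apply] at h3
    have hpos : 0 < Module.rankAtStalk (Module.End R (Fin n → R)) p :=
      Groth.Agent.Lib.Seat78.GT.rankAtStalk_pos_of_faithful _ p
    exact Nat.eq_of_mul_eq_mul_right hpos h3
  exact Groth.Agent.Lib.Seat78.GT.nonempty_algEquiv_of_tensor_end hR A B hdeg
    (Fin n → R) (Fin n → R) eB

end Groth.Agent.S16607
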