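import Groth.Statements.S16611
import Groth.Agent.Lib.Seat23TorusMono

set_option autoImplicit false
open CategoryTheory MonoidalCategory CartesianMonoidalCategory MonObj GrpObj AlgebraicGeometry
universe u
open SGA3x

namespace Groth.Agent.S16611

/-- Over an arbitrary scheme S, a monomorphism f : T ⟶ T' of S-tori with the same rank function (at
every point of S the geometric fibres of T and T' are split tori of the same rank) is an
isomorphism. -/
theorem result {S : Scheme.{u}} {T T' : Over S} [GrpObj T] [GrpObj T']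
    (hT : Red.IsTorus T) (hT' : Red.IsTorus T') (f : T ⟶ T') [IsMonHom f] [Mono f]
    (hrk : ∀ s : ↥S, ∃ r : ℕ, Red.IsSplitTorusWith (Fin r → ℤ) (Red.geomFibre s T) ∧
      Red.IsSplitTorusWith (Fin r → ℤ) (Red.geomFibre s T')) : IsIso f := by
  have hG : TwC.Locally S TwC.Topology.fpqc (fun S' g => ∃ (M : Type) (_ : AddCommGroup M),
      Nonempty (Grp.mk (Red.bc g T) ≅ Grp.mk (Red.DS S' M))) := by
    obtain ⟨S', g, hfl, hsj, hqc, hloc⟩ := hT
    refine ⟨S', g, hfl, hsj, hqc, fun s' => ?_⟩
    obtain ⟨U, hs', r, hr⟩ := hloc s'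
    exact ⟨U, hs', (Fin r → ℤ), inferInstance, hr⟩
  have hH : SGA3x.IsMultTypeFT T' := by
    obtain ⟨S', g, hfl, hsj, hqc, hloc⟩ := hT'
    refine ⟨S', g, hfl, hsj, hqc, fun s' => ?_⟩
    obtain ⟨U, hs', r, hr⟩ := hloc s'
    exact ⟨U, hs', (Fin r → ℤ), inferInstance, Module.Finite.iff_addGroup_fg.mp inferInstance, hr⟩
  refine Groth.Agent.Lib.Seat23.TorusMono.isIso_of_forall_geomFibre hG hH f fun s => ?_
  obtain ⟨r, ⟨eA⟩, ⟨eB⟩⟩ := hrk s
  have hsub : ∀ x y : (Spec (CommRingCat.of (AlgebraicClosure (S.residueField s))) : Scheme.{u}),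
      x = y := by
    intro x y
    exact Subsingleton.elim (α := PrimeSpectrum (AlgebraicClosure (S.residueField s))) x y
  have hmono : Mono ((Over.pullback (Red.geomPt s)).map f) := inferInstance
  have hhom : IsMonHom ((Over.pullback (Red.geomPt s)).map f) := inferInstance
  exact Groth.Agent.Lib.Seat23.TorusMono.isIso_of_mono_split hsub r eA eB
    ((Over.pullback (Red.geomPt s)).map f)

end Groth.Agent.S16611
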