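import Groth.Statements.S16619
import Groth.Agent.Lib.Seat78CornerAz

set_option autoImplicit false
open scoped TensorProduct
universe u
open Brauer

namespace Groth.Agent.S16619

/-- Let R be a connected commutative ring. Then every class of the Brauer group of R is represented by
an Azumaya algebra B with idemp(B) = {0, 1}: for every Azumaya R-algebra A there are such a B and
faithfully projective R-modules P, Q with A ⊗_R End_R(P) ≅ B ⊗_R End_R(Q) as R-algebras. -/
theorem result {R : Type u} [CommRing R]
    [ConnectedSpace (PrimeSpectrum R)] (A : Type u) [Ring A] [Algebra R A] [IsAzumaya R A] :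
    ∃ (B : Type u) (_ : Ring B) (_ : Algebra R B) (_ : IsAzumaya R B) (P Q : Type u) (_ : AddCommGroup P)
      (_ : Module R P) (_ : AddCommGroup Q) (_ : Module R Q),
      (∀ b : B, IsIdempotentElem b → b = 0 ∨ b = 1) ∧ Module.Finite R P ∧ Module.Projective R P ∧
      FaithfulSMul R P ∧ Module.Finite R Q ∧ Module.Projective R Q ∧ FaithfulSMul R Q ∧
      Nonempty (A ⊗[R] Module.End R P ≃ₐ[R] B ⊗[R] Module.End R Q) := by
  have hne : Nonempty (PrimeSpectrum R) := ConnectedSpace.toNonempty
  have hR : Nontrivial R := (PrimeSpectrum.nonempty_iff_nontrivial).mp hne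
  have hA : Nontrivial A := by
    by_contra hcon
    rw [not_nontrivial_iff_subsingleton] at hcon
    have : (1 : R) = 0 := FaithfulSMul.eq_of_smul_eq_smul (α := A)
      (fun a => Subsingleton.elim _ _)
    exact one_ne_zero this
  obtain ⟨B, hB1, hB2, c, hnt, htriv⟩ :=
    Groth.Agent.Lib.Seat78.CornerAz.exists_corner_trivial_idem (R := R) A
  have : Module.Projective R B := Groth.Agent.Lib.Seat78.CornerAz.projective_of_cornerData c
  have : Module.Finite R B := Groth.Agent.Lib.Seat78.CornerAz.finite_of_cornerData c
  have : FaithfulSMul R B := Groth.Agent.Lib.Seat78.CornerAz.faithfulSMul_of_nontrivial (R := R) B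
  have hAz : IsAzumaya R B := Groth.Agent.Lib.Seat78.CornerAz.isAzumaya_of_cornerData c
  have : Module.Projective R (Groth.Agent.Lib.Seat78.CornerAz.leftIdeal c) :=
    Groth.Agent.Lib.Seat78.CornerAz.projective_leftIdeal c
  have : Module.Finite R (Groth.Agent.Lib.Seat78.CornerAz.leftIdeal c) :=
    Groth.Agent.Lib.Seat78.CornerAz.finite_leftIdeal c
  have : Nontrivial (Groth.Agent.Lib.Seat78.CornerAz.leftIdeal c) :=
    Groth.Agent.Lib.Seat78.CornerAz.nontrivial_leftIdeal c
  have : FaithfulSMul R (Groth.Agent.Lib.Seat78.CornerAz.leftIdeal c) :=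
    Groth.Agent.Lib.Seat78.CornerAz.faithfulSMul_of_nontrivial (R := R) (Groth.Agent.Lib.Seat78.CornerAz.leftIdeal c)
  exact ⟨B, hB1, hB2, hAz, B, Groth.Agent.Lib.Seat78.CornerAz.leftIdeal c, inferInstance,
    inferInstance, inferInstance, inferInstance, htriv, inferInstance, inferInstance,
    inferInstance, inferInstance, inferInstance, inferInstance,
    Groth.Agent.Lib.Seat78.CornerAz.nonempty_algEquiv_tensor_end c⟩

end Groth.Agent.S16619
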