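import Groth.Statements.S16627
import Groth.Agent.Lib.Seat64TwistSES
import Groth.Agent.Lib.Helper27PnChart
import Groth.Agent.S12453
import Groth.Agent.Lib.Seat98PicCalc
import Groth.Agent.Lib.Seat68ProjVanish

set_option autoImplicit false
universe u
open Variety

namespace Groth.Agent.S16627

open AlgebraicGeometry CategoryTheory CategoryTheory.Limits in
/-- Let k be a field, F a coherent module on projective n-space P^n_k which is m-regular, and ι : F ⊗
O(-1) → F a monomorphism of O-modules (such as multiplication by a linear form that is a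
nonzerodivisor on F, i.e. a hyperplane avoiding the associated points of F). Then the cokernel of ι
— the restriction of F to the hyperplane, as a module on P^n_k — is again m-regular. (Stated for an
arbitrary monomorphism F(-1) → F and an arbitrary ground field.) -/
theorem result (k : Type u) [Field k] (n : ℕ)
    (F : (CohB1.ProjSpace n k).Modules) (hF : Coh.IsCoh F) (m : ℤ) (hreg : Curv2.IsMRegular k n F m)
    (ι : CohB1.tensorMod F (Twist.twistProjSpace n k (-1)) ⟶ F) [Mono ι] :
    Curv2.IsMRegular k n (cokernel ι) m := by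
  intro i hi1 hin
  have hcov : (⨆ f : CohB1.polyGrading n k 1, Proj.basicOpen (CohB1.polyGrading n k)
      (f : MvPolynomial (Fin (n + 1)) k)) = ⊤ := by
    rw [eq_top_iff, ← Groth.Agent.Lib.Helper27PnChart.iSup_basicOpen_X n k]
    refine iSup_le fun j => ?_
    exact le_iSup (fun f : CohB1.polyGrading n k 1 => Proj.basicOpen (CohB1.polyGrading n k)
      (f : MvPolynomial (Fin (n + 1)) k)) ⟨MvPolynomial.X j, Groth.Agent.Lib.Helper27PnChart.X_mem_one n k j⟩
  have hinv : ∀ d : ℤ, PicF.IsInvertible (Twist.twistProjSpace n k d) := fun d =>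
    (Groth.Agent.S12453.result (CohB1.polyGrading n k) hcov).1 d
  have hmul : ∀ a b : ℤ, Nonempty (CohB1.tensorMod (Twist.twistProjSpace n k a)
      (Twist.twistProjSpace n k b) ≅ Twist.twistProjSpace n k (a + b)) := fun a b =>
    (Groth.Agent.S12453.result (CohB1.polyGrading n k) hcov).2.1 a b
  let S : ShortComplex (CohB1.ProjSpace n k).Modules :=
    ShortComplex.mk ι (cokernel.π ι) (cokernel.condition ι)
  have hS : S.ShortExact :=
    { exact := ShortComplex.exact_cokernel ι
      mono_f := inferInstanceAs (Mono ι)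
      epi_g := inferInstanceAs (Epi (cokernel.π ι)) }
  have hS' := Groth.Agent.Lib.Seat64.TwistSES.shortExact_twSC S hS
    (Twist.twistProjSpace n k (m - i)) (hinv _)
  have h2 : Subsingleton (Coh.HH (CohB1.ProjSpace n k)
      (Groth.Agent.Lib.Seat64.TwistSES.twSC S (Twist.twistProjSpace n k (m - i))).X₂ i) :=
    hreg i hi1 hin
  have h1 : Subsingleton (Coh.HH (CohB1.ProjSpace n k)
      (Groth.Agent.Lib.Seat64.TwistSES.twSC S (Twist.twistProjSpace n k (m - i))).X₁ (i + 1)) := by
    obtain ⟨e⟩ := hmul (-1) (m - i)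
    have hd : (-1 : ℤ) + (m - i) = m - ((i + 1 : ℕ) : ℤ) := by push_cast; ring
    let φ : CohB1.tensorMod (CohB1.tensorMod F (Twist.twistProjSpace n k (-1)))
        (Twist.twistProjSpace n k (m - i)) ≅
        CohB1.tensorMod F (Twist.twistProjSpace n k (m - ((i + 1 : ℕ) : ℤ))) :=
      Groth.Agent.Lib.Seat98.PicCalc.tAssoc _ _ _ ≪≫
        Groth.Agent.Lib.Seat98.PicCalc.tIso (Iso.refl F) (e ≪≫ eqToIso (by rw [hd]))
    refine Groth.Agent.Lib.Seat64.TwistSES.subsingleton_HH_of_iso φ (i + 1) ?_
    by_cases h : i + 1 ≤ n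
    · exact hreg (i + 1) (by omega) h
    · haveI : F.IsQuasicoherent := hF.1
      haveI : (Twist.twistProjSpace n k (m - ((i + 1 : ℕ) : ℤ))).IsQuasicoherent :=
        Groth.Agent.Lib.Helper20.WeakAss.isQuasicoherent_of_isInvertible _ (hinv _)
      haveI : Coh.IsQCoh (CohB1.tensorMod F (Twist.twistProjSpace n k (m - ((i + 1 : ℕ) : ℤ)))) :=
        Groth.Agent.Lib.Helper23.TensorQCoh.isQuasicoherent_tensorMod _ _
      exact Groth.Agent.Lib.Seat68.ProjVanish.HH_subsingleton n k (𝟙 (CohB1.ProjSpace n k)) _ (i + 1)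
        (by omega)
  exact Groth.Agent.Lib.Seat64.TwistSES.subsingleton_HH_right _ hS' i h2 h1

end Groth.Agent.S16627
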