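import Groth.Statements.S16651
import Groth.Agent.Lib.Seat37CliffEvenRank
import Groth.Agent.Lib.Seat37CliffSetupEven
import Groth.Agent.Lib.Seat37CliffEvenAz
import Groth.Agent.Lib.Seat37CliffRank

set_option autoImplicit false
universe u v
open scoped TensorProduct
open QuadZ

namespace Groth.Agent.S16651

/-- For a free module over an affine base, let Q be a non-degenerate quadratic form (polar form a
perfect pairing) on a free module V of even rank 2m ≥ 2 over a commutative ring A. Then fppf-locally
on A the Clifford algebra C(V,Q) is a matrix algebra of size 2^m and its even part a product of two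
matrix algebras of size 2^(m-1) (there is a faithfully flat finitely presented A-algebra A'
realising both), the centre of C(V,Q) is A, the map V → C(V,Q) is injective onto a direct summand,
and the even part is the centralizer in C(V,Q) of its own centre. -/
theorem result (A : Type u) [CommRing A] (V : Type u)
    [AddCommGroup V] [Module A V] [Module.Free A V] [Module.Finite A V] (m : ℕ) (hm : 1 ≤ m)
    (hV : Module.finrank A V = 2 * m) (Q : QuadraticForm A V) (hQ : Function.Bijective (QuadraticMap.polarBilin Q)) :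
    (∃ (A' : Type u) (_ : CommRing A') (_ : Algebra A A'), Module.FaithfullyFlat A A' ∧ Algebra.FinitePresentation A A' ∧
        Nonempty ((A' ⊗[A] CliffordAlgebra Q) ≃ₐ[A'] Matrix (Fin (2 ^ m)) (Fin (2 ^ m)) A') ∧
        Nonempty ((A' ⊗[A] ↥(CliffordAlgebra.even Q)) ≃ₐ[A']
          (Matrix (Fin (2 ^ (m - 1))) (Fin (2 ^ (m - 1))) A' × Matrix (Fin (2 ^ (m - 1))) (Fin (2 ^ (m - 1))) A'))) ∧
    Subalgebra.center A (CliffordAlgebra Q) = ⊥ ∧
    (Function.Injective (CliffordAlgebra.ι Q) ∧
      ∃ W : Submodule A (CliffordAlgebra Q), IsCompl (LinearMap.range (CliffordAlgebra.ι Q)) W) ∧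
    Subalgebra.centralizer A
        ((CliffordAlgebra.even Q).val '' (Subalgebra.center A ↥(CliffordAlgebra.even Q) : Set ↥(CliffordAlgebra.even Q))) =
      CliffordAlgebra.even Q := by
  classical
  have hA : Nontrivial A := by
    by_contra h
    rw [not_nontrivial_iff_subsingleton] at h
    have h1 : Module.finrank A V = 1 := Module.finrank_subsingleton
    omega
  let b : Module.Basis (Fin (2 * m)) A V := Module.finBasisOfFinrankEq A V hV
  obtain ⟨A', iA, iAlg, hff, hfp, ⟨φ⟩⟩ :=
    Groth.Agent.Lib.Seat37.CliffSetupEven.exists_split_even m b Q hQ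
  obtain ⟨k, rfl⟩ : ∃ k, m = k + 1 := ⟨m - 1, by omega⟩
  refine ⟨⟨A', iA, iAlg, hff, hfp,
    Groth.Agent.Lib.Seat37.CliffEvenRank.nonempty_bc_matrix A' Q (k + 1) φ, ?_⟩, ?_,
    ⟨Groth.Agent.Lib.Seat37.CliffRank.ι_injective Q,
      Groth.Agent.Lib.Seat37.CliffRank.exists_isCompl_range_ι Q⟩, ?_⟩
  · have h := Groth.Agent.Lib.Seat37.CliffEvenRank.nonempty_bc_even A' Q k φ
    rw [Nat.add_sub_cancel]
    exact h
  · have := Groth.Agent.Lib.Seat37.CliffEvenAz.isAzumaya_clifford (k + 1) b Q hQ
    exact Groth.Agent.Lib.Seat37.CliffEvenRank.center_eq_bot_of_isAzumaya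
      (Groth.Agent.Lib.Seat37.CliffRank.scalarPart Q)
      (Groth.Agent.Lib.Seat37.CliffRank.scalarPart_one Q)
  · apply le_antisymm
    · intro u hu
      rw [Subalgebra.mem_centralizer_iff] at hu
      refine Groth.Agent.Lib.Seat37.CliffEvenRank.mem_even_of_commute A' Q (k + 1) φ b u
        (fun x hx => ?_)
      have hxc : (⟨x, hx.1⟩ : ↥(CliffordAlgebra.even Q)) ∈
          Subalgebra.center A ↥(CliffordAlgebra.even Q) := by
        rw [Subalgebra.mem_center_iff]
        intro y
        apply Subtype.ext
        exact (hx.2 y y.2).symm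
      exact (hu x ⟨⟨x, hx.1⟩, hxc, rfl⟩).symm
    · intro x hx
      rw [Subalgebra.mem_centralizer_iff]
      rintro _ ⟨c, hc, rfl⟩
      rw [SetLike.mem_coe, Subalgebra.mem_center_iff] at hc
      have := congrArg Subtype.val (hc ⟨x, hx⟩)
      exact this.symm

end Groth.Agent.S16651
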