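import Groth.Statements.S16699
import Mathlib
import Groth.Agent.Lib.Seat59LocQBC
import Groth.Agent.Lib.Seat83PshFp
import Groth.Agent.Lib.Helper17AlgStRep

set_option autoImplicit false
universe u
open AlgSt AlgSt.IsWellNighAffine

namespace Groth.Agent.S16699

open CategoryTheory AlgebraicGeometry in
/-- An algebraic stack affine over a well-nigh affine algebraic stack is well-nigh affine. -/
theorem result (S : Scheme.{u}) (𝒳 𝒳' : AlgSt.Cat S)
    (h𝒳 : AlgSt.IsAlgStack Scheme.fppfPrecoverage 𝒳) (h𝒳' : AlgSt.IsAlgStack Scheme.fppfPrecoverage 𝒳')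
    (hw : AlgSt.IsWellNighAffine 𝒳) (f : 𝒳' ⥤ᵇ 𝒳) (hf : AlgSt.RepByAlgSpWith AlgSp.IsAffineMor f) :
    AlgSt.IsWellNighAffine 𝒳' := by
  obtain ⟨U, x, hU, hx⟩ := hw
  obtain ⟨F, e, he, hm⟩ := hf U x
  obtain ⟨W, i, fst, hpb, hW⟩ := hm hU (𝟙 _)
  have hiso : IsIso fst := hpb.isIso_fst_of_isIso
  have h1 : FibCat.IsEquivOver (AlgSt.ofSpMap fst) :=
    Groth.Agent.Lib.Seat83.PshFp.isEquivOver_ofPshMap_of_iso
      ((sheafToPresheaf _ _).mapIso (asIso fst))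
  have hE : FibCat.IsEquivOver (BasedFunctor.comp (AlgSt.ofOverCat W)
      (BasedFunctor.comp (AlgSt.ofSpMap fst) e)) :=
    Groth.Agent.Lib.Helper17.IsEquivOver.comp _ _
      (Groth.Agent.Lib.Helper15DiagRepSp.isEquivOver_ofOverCat W)
      (Groth.Agent.Lib.Helper17.IsEquivOver.comp _ _ h1 he)
  refine ⟨W, BasedFunctor.comp (BasedFunctor.comp (AlgSt.ofOverCat W)
      (BasedFunctor.comp (AlgSt.ofSpMap fst) e)) (FibCat.fpSnd x f), hW, ?_⟩
  exact Groth.Agent.Lib.Seat59.LocQBC.repByAlgSpWith_equiv_comp _ _ hE _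
    (Groth.Agent.Lib.Helper17.repByAlgSpWith_fpSnd _ x f hx)

end Groth.Agent.S16699
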