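import Groth.Statements.S16705
import Groth.Agent.Lib.Seat58QuotStFun

set_option autoImplicit false
universe u
open AlgSt

namespace Groth.Agent.S16705

section Aux

open CategoryTheory MonoidalCategory CartesianMonoidalCategory AlgebraicGeometry Opposite
open Groth.Agent.Lib.Helper17 Groth.Agent.Lib.Helper15PshFib Groth.Agent.Lib.Seat58.QuotStFun

variable {S : Scheme.{u}} {G : Over S} [GrpObj G] {X Y : Over S} {aX : AlgGrp.Action G X}

/-- the canonical representation of `h_Z` by `Z` -/
def repYon (Z : Over S) : ((AlgSp.yon S).obj Z).obj.RepresentableBy Z where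
  homEquiv := Equiv.ulift.symm
  homEquiv_comp _ _ := rfl

/-- the morphism `X ⟶ Z` attached to a functor from `[X/G]` to a sheaf represented by `Z` is invariant -/
theorem isInvariant_of_functor {N : AlgSp.Sp S} {Z : Over S} (e : N.obj.RepresentableBy Z)
    (φ : AlgSt.QuotSt Scheme.fppfPrecoverage G aX ⥤ᵇ AlgSt.ofSp N) :
    GIT.IsInvariant aX (e.homEquiv.symm (secOf φ (𝟙 X))) := by
  unfold GIT.IsInvariant
  apply e.homEquiv.injective
  rw [e.homEquiv_comp, e.homEquiv_comp, Equiv.apply_symm_apply, ← secOf_comp, ← secOf_comp,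
    Category.comp_id, Category.comp_id]
  have := secOf_act' φ (𝟙 (G ⊗ X))
  rwa [Category.id_comp, Category.id_comp] at this

end Aux

open CategoryTheory AlgebraicGeometry in
/-- Categorical case, schemes as test category: for the quotient stack `[X/G]` of an action of a group
scheme `G` affine, flat and locally of finite presentation over `S`, the morphism `π : [X/G] → Y`
induced by a morphism of schemes `f : X → Y` is a categorical moduli space in schemes if and only if
`f` is a categorical quotient in schemes. (The uniform variants and other test categories are not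
stated.) -/
theorem result (S : Scheme.{u}) (G : Over S) [GrpObj G]
    [IsAffineHom G.hom] [Flat G.hom] [LocallyOfFinitePresentation G.hom]
    (X Y : Over S) (aX : AlgGrp.Action G X) (f : X ⟶ Y)
    (π : AlgSt.QuotSt Scheme.fppfPrecoverage G aX ⥤ᵇ AlgSt.ofSch Y)
    (hπ : Nonempty (BasedFunctor.comp (AlgSt.quotMap Scheme.fppfPrecoverage G aX) π ≅
      AlgSt.ofSpMap ((AlgSp.yon S).map f))) :
    AlgSt.IsCatModuliSch π ↔ GIT.IsCatQuot aX f := by
  have hfinv : GIT.IsInvariant aX f := by
    have h := isInvariant_of_functor (repYon Y) π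
    have h2 : (repYon Y).homEquiv.symm (Groth.Agent.Lib.Seat58.QuotStFun.secOf π (𝟙 X)) = f := by
      rw [Groth.Agent.Lib.Seat58.QuotStFun.secOf_of_iso f π hπ]
      exact Category.id_comp f
    rwa [h2] at h
  constructor
  · rintro ⟨-, hN⟩
    refine ⟨hfinv, ?_⟩
    intro Z ψ hψ
    have hψ' : (AlgSp.yon S).map aX.act ≫ (AlgSp.yon S).map ψ =
        (AlgSp.yon S).map (CartesianMonoidalCategory.snd G X) ≫ (AlgSp.yon S).map ψ := by
      rw [← Functor.map_comp, ← Functor.map_comp]
      exact congrArg _ hψ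
    let Φ := Groth.Agent.S14978.desc ((AlgSp.yon S).map ψ) hψ'
    have hΦ : (repYon Z).homEquiv.symm (Groth.Agent.Lib.Seat58.QuotStFun.secOf Φ (𝟙 X)) = ψ := by
      have h1 : Groth.Agent.Lib.Seat58.QuotStFun.secOf Φ (𝟙 X) = ⟨𝟙 X ≫ ψ⟩ :=
        (Groth.Agent.S14978.pshSec_desc _ hψ' _).trans
          (Groth.Agent.S14978.sec_quotMap _ hψ' ⟨X, ⟨𝟙 X⟩⟩)
      rw [h1]
      exact Category.id_comp ψ
    have hrep : ((AlgSp.yon S).obj Z).obj.IsRepresentable := (repYon Z).isRepresentable
    have hex := hN ((AlgSp.yon S).obj Z) hrep Φ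
    have hiff := fun g => Groth.Agent.Lib.Seat58.QuotStFun.nonempty_iso_iff (repYon Z) f π hπ Φ g
    simp only [hiff, hΦ] at hex
    exact (Equiv.existsUnique_congr_right
      (Groth.Agent.Lib.Seat58.QuotStFun.sheafHomEquiv (N := (AlgSp.yon S).obj Z) (Y := Y)
        (repYon Z)) (q := fun χ => f ≫ χ = ψ)).mp hex
  · rintro ⟨-, hQ⟩
    refine ⟨(repYon Y).isRepresentable, ?_⟩
    intro N hNrep φ
    obtain ⟨Z, ⟨e⟩⟩ := hNrep.has_representation
    have hex := hQ Z _ (isInvariant_of_functor e φ)
    have hiff := fun g => Groth.Agent.Lib.Seat58.QuotStFun.nonempty_iso_iff e f π hπ φ g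
    simp only [hiff]
    exact (Equiv.existsUnique_congr_right
      (Groth.Agent.Lib.Seat58.QuotStFun.sheafHomEquiv (N := N) (Y := Y) e)
      (q := fun χ => f ≫ χ = e.homEquiv.symm (Groth.Agent.Lib.Seat58.QuotStFun.secOf φ (𝟙 X)))).mpr hex

end Groth.Agent.S16705
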