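import Groth.Statements.S16721
import Groth.Agent.Lib.Seat58QuotStGeomPt

set_option autoImplicit false
universe u
open CategoryTheory MonoidalCategory CartesianMonoidalCategory AlgebraicGeometry
open AlgSt

namespace Groth.Agent.S16721

section Aux

open Opposite
open Groth.Agent.Lib.Helper17 Groth.Agent.Lib.Helper15PshFib Groth.Agent.Lib.Seat58.QuotStFun
open Groth.Agent.Lib.Seat58.QuotStGeomPt

variable {S : Scheme.{u}} {G : Over S} [GrpObj G] {X Y : Over S} {aX : AlgGrp.Action G X}
  {N : AlgSp.Sp S}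

/-- the map of sheaves `h_X ⟶ N` attached to a functor from `[X/G]` -/
noncomputable def mapOf (φ : AlgSt.QuotSt Scheme.fppfPrecoverage G aX ⥤ᵇ AlgSt.ofSp N) :
    (AlgSp.yon S).obj X ⟶ N :=
  ⟨{ app := fun T => ↾fun x => secOf φ x.down
     naturality := fun T T' g => by
       ext x
       exact secOf_comp φ g.unop x.down }⟩

theorem mapOf_app (φ : AlgSt.QuotSt Scheme.fppfPrecoverage G aX ⥤ᵇ AlgSt.ofSp N) {T : Over S}
    (x : T ⟶ X) : (mapOf φ).hom.app (op T) ⟨x⟩ = secOf φ x := rfl

theorem mapOf_inv (φ : AlgSt.QuotSt Scheme.fppfPrecoverage G aX ⥤ᵇ AlgSt.ofSp N) :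
    (AlgSp.yon S).map aX.act ≫ mapOf φ = (AlgSp.yon S).map (snd G X) ≫ mapOf φ := by
  apply Sheaf.hom_ext
  apply NatTrans.ext
  funext T
  ext u
  obtain ⟨u⟩ := u
  exact secOf_act' φ u

theorem nonempty_iso_iff_mapOf (f : X ⟶ Y)
    (π : AlgSt.QuotSt Scheme.fppfPrecoverage G aX ⥤ᵇ AlgSt.ofSch Y)
    (hπ : Nonempty (BasedFunctor.comp (AlgSt.quotMap Scheme.fppfPrecoverage G aX) π ≅
      AlgSt.ofSpMap ((AlgSp.yon S).map f)))
    (φ : AlgSt.QuotSt Scheme.fppfPrecoverage G aX ⥤ᵇ AlgSt.ofSp N)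
    (g : (AlgSp.yon S).obj Y ⟶ N) :
    Nonempty (BasedFunctor.comp π (AlgSt.ofSpMap g) ≅ φ) ↔ (AlgSp.yon S).map f ≫ g = mapOf φ := by
  have key : ∀ {T : Over S} (x : T ⟶ X),
      secOf (BasedFunctor.comp π (AlgSt.ofSpMap g)) x =
        ((AlgSp.yon S).map f ≫ g).hom.app (op T) ⟨x⟩ := by
    intro T x
    rw [secOf_comp_ofSpMap, secOf_of_iso f π hπ]
    rfl
  constructor
  · rintro ⟨α⟩
    apply Sheaf.hom_ext
    apply NatTrans.ext
    funext T
    ext x
    obtain ⟨x⟩ := x
    have h1 : secOf (BasedFunctor.comp π (AlgSt.ofSpMap g)) x = secOf φ x :=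
      pshSec_eq_of_hom α.hom _
    rw [key] at h1
    exact h1
  · intro h
    have : BasedFunctor.comp π (AlgSt.ofSpMap g) = φ := by
      apply eq_of_secOf_eq
      intro T x
      rw [key, h]
      rfl
    exact ⟨eqToIso this⟩

end Aux

/-- Let `S` be a scheme, `G` a group scheme over `S` whose structure morphism is affine, flat and
locally of finite presentation, acting on a scheme `X` over `S`, and `f : X ⟶ Y` a `G`-invariant
morphism of schemes over `S`. Assume (i) for every algebraically closed field `Ω` and every `t :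
Spec Ω ⟶ S`, every `Ω`-point of `Y` over `t` is the image of an `Ω`-point of `X`, and two `Ω`-points
of `X` over `t` with the same image in `Y` are translates of one another by an `Ω`-point of `G` (the
geometric fibres of `f` are the orbits of geometric points); (ii) `f` is a categorical quotient in
the category of algebraic spaces over `S`: every `G`-invariant map of fppf sheaves `h_X ⟶ N` to an
algebraic space `N` factors uniquely through `h_Y`. Then the functor `[X/G] ⟶ Y` over `(Sch/S)`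
induced by `f` (the one whose composite with `X ⟶ [X/G]` is the functor of `f`) is a coarse moduli
space: `h_Y` is an algebraic space, every functor from `[X/G]` to an algebraic space factors
uniquely through it, and for every algebraically closed `Ω` it is a bijection from isomorphism
classes of objects of `[X/G]` over `Spec Ω` onto `Y(Spec Ω)`. Here `[X/G]` is the fppf quotient
stack described by `G`-torsors that are schemes with an equivariant map to `X`. Of the source's
hypothesis that `f` is a geometric quotient only the condition (i) on geometric points enters, and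
only (i) is assumed. (The published setting has an affine base scheme; this row allows any base
scheme.) -/
theorem result (S : Scheme.{u}) (G : Over S) [GrpObj G]
    [IsAffineHom G.hom] [Flat G.hom] [LocallyOfFinitePresentation G.hom]
    (X Y : Over S) (aX : AlgGrp.Action G X) (f : X ⟶ Y)
    (hinv : aX.act ≫ f = snd G X ≫ f)
    (horb : ∀ (Ω : Type u) [Field Ω] [IsAlgClosed Ω] (t : Spec (CommRingCat.of Ω) ⟶ S),
      (∀ y : Over.mk t ⟶ Y, ∃ x : Over.mk t ⟶ X, x ≫ f = y) ∧
      (∀ x x' : Over.mk t ⟶ X, x ≫ f = x' ≫ f → ∃ g : Over.mk t ⟶ G, lift g x' ≫ aX.act = x))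
    (hcat : ∀ (N : AlgSp.Space S) (ψ : (AlgSp.yon S).obj X ⟶ N.obj),
      (AlgSp.yon S).map aX.act ≫ ψ = (AlgSp.yon S).map (snd G X) ≫ ψ →
        ∃! χ : (AlgSp.yon S).obj Y ⟶ N.obj, (AlgSp.yon S).map f ≫ χ = ψ)
    (π : AlgSt.QuotSt Scheme.fppfPrecoverage G aX ⥤ᵇ AlgSt.ofSch Y)
    (hπ : Nonempty (BasedFunctor.comp (AlgSt.quotMap Scheme.fppfPrecoverage G aX) π ≅
      AlgSt.ofSpMap ((AlgSp.yon S).map f))) :
    AlgSt.IsCoarseModuli π := by
  refine ⟨⟨AlgSp.IsAlgSpace.yon_obj Y, ?_⟩, ?_⟩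
  · intro N hN φ
    have hex := hcat ⟨N, hN⟩ (mapOf φ) (mapOf_inv φ)
    have hiff := fun g => nonempty_iso_iff_mapOf f π hπ φ g
    simp only [hiff]
    exact hex
  · intro Ω _ _ t
    constructor
    · intro m
      obtain ⟨x₀, hx₀⟩ := (horb Ω t).1 m.down
      refine ⟨Groth.Agent.Lib.Seat58.QuotStGeomPt.fibPt (aX := aX) x₀, ?_⟩
      rw [Groth.Agent.Lib.Seat58.QuotStGeomPt.fibSec_quotMap,
        Groth.Agent.Lib.Seat58.QuotStFun.secOf_of_iso f π hπ, hx₀]
      rfl
    · intro x y hxy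
      obtain ⟨a, ⟨ea⟩⟩ := Groth.Agent.Lib.Seat58.QuotStGeomPt.exists_fiberIso_quotMap t x
      obtain ⟨b, ⟨eb⟩⟩ := Groth.Agent.Lib.Seat58.QuotStGeomPt.exists_fiberIso_quotMap t y
      have h1 := Groth.Agent.Lib.Seat58.QuotStGeomPt.fibSec_eq_of_hom π ea.hom
      have h2 := Groth.Agent.Lib.Seat58.QuotStGeomPt.fibSec_eq_of_hom π eb.hom
      rw [Groth.Agent.Lib.Seat58.QuotStGeomPt.fibSec_quotMap,
        Groth.Agent.Lib.Seat58.QuotStFun.secOf_of_iso f π hπ] at h1 h2
      have h3 : a ≫ f = b ≫ f := congrArg ULift.down (h1.trans (hxy.trans h2.symm))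
      obtain ⟨g, hg⟩ := (horb Ω t).2 a b h3
      obtain ⟨e⟩ := Groth.Agent.Lib.Seat58.QuotStGeomPt.nonempty_fiberIso_quotMap (aX := aX) a b g hg
      exact ⟨ea.symm ≪≫ e ≪≫ eb⟩

end Groth.Agent.S16721
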