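import Groth.Statements.S1676
import Groth.Agent.Lib.Seat18RegSec
import Groth.Agent.Lib.Seat18SecChartSch

set_option autoImplicit false
universe u
open CategoryTheory CategoryTheory.Limits AlgebraicGeometry TopologicalSpace
open SDiv

namespace Groth.Agent.S1676

/-- For a section that is a closed immersion, e.g. when f is separated: let f : X ⟶ S be a smooth
morphism and σ : S ⟶ X a section of f which is a closed immersion. Then σ is a regular closed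
immersion. -/
theorem result {X S : Scheme.{u}} (f : X ⟶ S) [Smooth f] (σ : S ⟶ X)
    (hσ : σ ≫ f = 𝟙 S) [IsClosedImmersion σ] : Mor2.IsRegularClosedImmersion σ := by
  classical
  refine ⟨inferInstance, fun z => ?_⟩
  have hfi : ∀ w : S, f.base (σ.base w) = w := fun w => by
    have := congr($(hσ).base w)
    simpa using this
  obtain ⟨U₀, hU₀, hyU₀, -⟩ :=
    exists_isAffineOpen_mem_and_subset (X := S) (x := z) (U := ⊤) trivial
  obtain ⟨V₀, hV₀, hxV₀, hV₀U₀⟩ := exists_isAffineOpen_mem_and_subset (X := X) (x := σ.base z)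
    (U := f ⁻¹ᵁ U₀) (by change f.base (σ.base z) ∈ U₀; rwa [hfi])
  obtain ⟨a, ha, hya⟩ := hU₀.exists_basicOpen_le (V := σ ⁻¹ᵁ V₀) ⟨z, hxV₀⟩ hyU₀
  have hU₁ : IsAffineOpen (S.basicOpen a) := hU₀.basicOpen a
  have hV₁ : IsAffineOpen (X.basicOpen (f.appLE U₀ V₀ hV₀U₀ a)) := hV₀.basicOpen _
  have hV₁eq := Scheme.basicOpen_appLE f V₀ U₀ hV₀U₀ a
  generalize S.basicOpen a = U₁ at *
  generalize X.basicOpen (f.appLE U₀ V₀ hV₀U₀ a) = V₁ at *
  have e₁ : V₁ ≤ f ⁻¹ᵁ U₁ := hV₁eq ▸ inf_le_right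
  have e₂ : U₁ ≤ σ ⁻¹ᵁ V₁ := by
    intro u hu
    rw [hV₁eq]
    exact ⟨ha hu, by change f.base (σ.base u) ∈ U₁; rwa [hfi]⟩
  have e₃ : σ ⁻¹ᵁ V₁ ≤ U₁ := by
    intro u hu
    have h1 : f.base (σ.base u) ∈ U₁ := e₁ hu
    rwa [hfi] at h1
  have hxV₁ : σ.base z ∈ V₁ := e₂ hya
  let φ : Γ(S, U₁) →+* Γ(X, V₁) := (f.appLE U₁ V₁ e₁).hom
  let τ : Γ(X, V₁) →+* Γ(S, U₁) := (σ.appLE V₁ U₁ e₂).hom
  have hτφ : ∀ r, τ (φ r) = r := by
    intro r
    have h1 : f.appLE U₁ V₁ e₁ ≫ σ.appLE V₁ U₁ e₂ = 𝟙 _ := by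
      rw [Scheme.Hom.appLE_comp_appLE]
      exact Groth.Agent.Lib.Seat18.SecChartSch.appLE_eq_id_of_eq_id _ hσ _ _
    exact congr($h1 r)
  letI : Algebra Γ(S, U₁) Γ(X, V₁) := φ.toAlgebra
  haveI : Algebra.FinitePresentation Γ(S, U₁) Γ(X, V₁) := f.finitePresentation_appLE hU₁ hV₁ e₁
  have hsm : σ.base z ∈ f.smoothLocus := by
    rw [Scheme.Hom.smoothLocus_eq_top]; trivial
  haveI : Algebra.IsSmoothAt Γ(S, U₁) (hV₁.primeIdealOf ⟨σ.base z, hxV₁⟩).asIdeal :=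
    (formallySmooth_stalkMap_iff U₁ hU₁ V₁ hV₁ e₁ hxV₁).mp hsm
  have hkerq : RingHom.ker τ ≤ (hV₁.primeIdealOf ⟨σ.base z, hxV₁⟩).asIdeal := by
    intro r hr
    by_contra hrq
    have h1 : σ.base z ∈ X.basicOpen r :=
      (Groth.Agent.Lib.Seat18.SecChartSch.mem_basicOpen_iff_notMem_primeIdealOf hV₁ _ hxV₁ r).mpr hrq
    have h2 : S.basicOpen (τ r) = U₁ ⊓ σ ⁻¹ᵁ (X.basicOpen r) :=
      Scheme.basicOpen_appLE σ U₁ V₁ e₂ r
    have h3 : z ∈ S.basicOpen (τ r) := by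
      rw [h2]; exact ⟨hya, h1⟩
    rw [RingHom.mem_ker.mp hr, Scheme.basicOpen_zero] at h3
    exact h3
  obtain ⟨h₀, hh₀q, H⟩ :=
    Groth.Agent.Lib.Seat18.RegSec.exists_regular_generators_of_section Γ(S, U₁) τ hτφ
      (hV₁.primeIdealOf ⟨σ.base z, hxV₁⟩).asIdeal hkerq
  have hxh₀ : σ.base z ∈ X.basicOpen h₀ :=
    (Groth.Agent.Lib.Seat18.SecChartSch.mem_basicOpen_iff_notMem_primeIdealOf hV₁ _ hxV₁ h₀).mpr hh₀q
  refine ⟨X.basicOpen h₀, hV₁.basicOpen h₀, hxh₀, ?_⟩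
  haveI := hV₁.isLocalization_basicOpen h₀
  obtain ⟨rs, hreg, hmap⟩ := H Γ(X, X.basicOpen h₀)
  refine ⟨rs, hreg, ?_⟩
  rw [← hmap]
  have hk1 := σ.ker.map_ideal_basicOpen ⟨V₁, hV₁⟩ h₀
  have hk2 : σ.ker.ideal ⟨V₁, hV₁⟩ = RingHom.ker τ := by
    rw [Scheme.Hom.ker_apply]
    have h4 : τ = (S.presheaf.map (homOfLE e₂).op).hom.comp (σ.app V₁).hom := by
      rw [← CommRingCat.hom_comp]
      rfl
    have hinj : Function.Injective (S.presheaf.map (homOfLE e₂).op).hom := by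
      have h5 : S.presheaf.map (homOfLE e₂).op ≫ S.presheaf.map (homOfLE e₃).op = 𝟙 _ := by
        rw [← Functor.map_comp]
        exact S.presheaf.map_id _
      intro x y hxy
      have h6 := congrArg (S.presheaf.map (homOfLE e₃).op).hom hxy
      have h7 : ∀ w, (S.presheaf.map (homOfLE e₃).op).hom ((S.presheaf.map (homOfLE e₂).op).hom w) = w :=
        fun w => congr($h5 w)
      rwa [h7, h7] at h6
    rw [h4, RingHom.ker_comp_of_injective _ hinj]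
  rw [← hk2]
  exact hk1.symm

end Groth.Agent.S1676
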