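import Groth.Statements.S1678
import Groth.Agent.Lib.Seat40KindUpSmooth

set_option autoImplicit false
universe u
open CategoryTheory CategoryTheory.Limits AlgebraicGeometry TopologicalSpace
open SDiv

namespace Groth.Agent.S1678

/-- Let X ⟶ S be smooth and let i : Y ⟶ X and j : Y ⟶ S be closed immersions with i ≫ (X ⟶ S) = j. If j
is a regular closed immersion then so is i. -/
theorem result {X Y S : Scheme.{u}} (p : X ⟶ S) [Smooth p] (i : Y ⟶ X) (j : Y ⟶ S)
    [IsClosedImmersion i] [IsClosedImmersion j] (h : i ≫ p = j) (hj : Mor2.IsRegularClosedImmersion j) :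
    Mor2.IsRegularClosedImmersion i := by
  subst h
  rw [Groth.Agent.Lib.Seat40.KindUpSmooth.isRegularClosedImmersion_iff] at hj ⊢
  exact Groth.Agent.Lib.Seat40.KindUpSmooth.regularImmersion_of_comp_up
    Groth.Agent.Lib.Seat40.KindUp.kindUp_regular p i hj

end Groth.Agent.S1678
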