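import Groth.Statements.S1684
import Groth.Agent.S1570
import Groth.Agent.Lib.Seat8Div

set_option autoImplicit false
universe u
open CategoryTheory CategoryTheory.Limits AlgebraicGeometry TopologicalSpace
open SDiv

namespace Groth.Agent.S1684

/-- Let X be a locally Noetherian scheme and 𝓘 a quasi-coherent ideal sheaf whose closed subscheme D is
integral, of codimension 1 in X (the local ring of X at the generic point of D has dimension 1), and
such that the local ring of X at every point of D is a unique factorisation domain. Then 𝓘 is the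
ideal sheaf of an effective Cartier divisor. -/
theorem result (X : Scheme.{u}) [IsLocallyNoetherian X] (𝓘 : X.IdealSheafData)
    [IsIntegral 𝓘.subscheme]
    (hcodim : ringKrullDim (X.presheaf.stalk (𝓘.subschemeι (genericPoint ↥𝓘.subscheme))) = 1)
    (hufd : ∀ x : ↥X, x ∈ 𝓘.support → IsDomain (X.presheaf.stalk x) ∧ UniqueFactorizationMonoid (X.presheaf.stalk x)) :
    BlowUp.IsEffCartierIdeal 𝓘 := by
  classical
  apply Groth.Agent.S1570.result X 𝓘
  intro x hx U hxU
  obtain ⟨hdom, hufd'⟩ := hufd x hx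
  have hU : IsAffineOpen U.1 := U.2
  have hAN : IsNoetherianRing Γ(X, U.1) := IsLocallyNoetherian.component_noetherian U
  -- the ideal of `𝓘` on `U` is prime
  obtain ⟨z, hz⟩ : x ∈ Set.range 𝓘.subschemeι := by
    rw [Scheme.IdealSheafData.range_subschemeι]; exact hx
  have hzU : z ∈ 𝓘.subschemeι ⁻¹ᵁ U.1 := by
    change 𝓘.subschemeι z ∈ U.1
    rw [hz]; exact hxU
  have hne : Nonempty (𝓘.subschemeι ⁻¹ᵁ U.1 : 𝓘.subscheme.Opens) := ⟨⟨z, hzU⟩⟩
  have hdomD : IsDomain Γ(𝓘.subscheme, 𝓘.subschemeι ⁻¹ᵁ U.1) := IsIntegral.component_integral _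
  have hprime : (𝓘.ideal U).IsPrime := by
    rw [← Scheme.IdealSheafData.ker_subschemeι_app 𝓘 U]
    exact RingHom.ker_isPrime _
  -- the generic point of the subscheme lies over `U`, and its prime is the ideal of `𝓘`
  have hηU : genericPoint ↥𝓘.subscheme ∈ 𝓘.subschemeι ⁻¹ᵁ U.1 :=
    ((genericPoint_spec ↥𝓘.subscheme).mem_open_set_iff (𝓘.subschemeι ⁻¹ᵁ U.1).2).2 ⟨z, trivial, hzU⟩
  have hξU : 𝓘.subschemeι (genericPoint ↥𝓘.subscheme) ∈ U.1 := hηU
  have hξsupp : 𝓘.subschemeι (genericPoint ↥𝓘.subscheme) ∈ 𝓘.support := by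
    have : 𝓘.subschemeι (genericPoint ↥𝓘.subscheme) ∈ Set.range 𝓘.subschemeι := ⟨_, rfl⟩
    rw [Scheme.IdealSheafData.range_subschemeι] at this
    exact this
  have hle : 𝓘.ideal U ≤ (hU.primeIdealOf ⟨_, hξU⟩).asIdeal :=
    (Groth.Agent.Lib.Seat8.Div.mem_support_iff_le_primeIdealOf 𝓘 U _ hξU).1 hξsupp
  have hge : (hU.primeIdealOf ⟨_, hξU⟩).asIdeal ≤ 𝓘.ideal U := by
    obtain ⟨y, hyU, hy⟩ := Groth.Agent.Lib.Seat8.Div.exists_point_of_prime U (𝓘.ideal U)
    have hysupp : y ∈ 𝓘.support := by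
      rw [Groth.Agent.Lib.Seat8.Div.mem_support_iff_le_primeIdealOf 𝓘 U y hyU, hy]
    obtain ⟨z', hz'⟩ : y ∈ Set.range 𝓘.subschemeι := by
      rw [Scheme.IdealSheafData.range_subschemeι]; exact hysupp
    have hspec : 𝓘.subschemeι (genericPoint ↥𝓘.subscheme) ⤳ y := by
      rw [← hz']
      exact (genericPoint_specializes z').map 𝓘.subschemeι.continuous
    have := Groth.Agent.Lib.Seat8.Div.primeIdealOf_le_of_specializes U _ y hξU hyU hspec
    rwa [hy] at this
  have hPeq : (hU.primeIdealOf ⟨_, hξU⟩).asIdeal = 𝓘.ideal U := le_antisymm hge hle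
  -- the height of the ideal is one
  have hheight : (𝓘.ideal U).height = 1 := by
    let _ : Algebra Γ(X, U.1) (X.presheaf.stalk (𝓘.subschemeι (genericPoint ↥𝓘.subscheme))) :=
      TopCat.Presheaf.algebra_section_stalk X.presheaf
        (⟨𝓘.subschemeι (genericPoint ↥𝓘.subscheme), hξU⟩ : U.1)
    have hlocξ : IsLocalization.AtPrime
        (X.presheaf.stalk (𝓘.subschemeι (genericPoint ↥𝓘.subscheme)))
        (hU.primeIdealOf ⟨_, hξU⟩).asIdeal := hU.isLocalization_stalk ⟨_, hξU⟩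
    have h1 := IsLocalization.AtPrime.ringKrullDim_eq_height
      (hU.primeIdealOf ⟨_, hξU⟩).asIdeal
      (X.presheaf.stalk (𝓘.subschemeι (genericPoint ↥𝓘.subscheme)))
    rw [hcodim, hPeq] at h1
    exact_mod_cast h1.symm
  -- pass to the local ring at `x`
  let _ : Algebra Γ(X, U.1) (X.presheaf.stalk x) :=
    TopCat.Presheaf.algebra_section_stalk X.presheaf (⟨x, hxU⟩ : U.1)
  have hloc : IsLocalization.AtPrime (X.presheaf.stalk x) (hU.primeIdealOf ⟨x, hxU⟩).asIdeal :=
    hU.isLocalization_stalk ⟨x, hxU⟩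
  have hdisj : Disjoint ((hU.primeIdealOf ⟨x, hxU⟩).asIdeal.primeCompl : Set Γ(X, U.1))
      (𝓘.ideal U : Set Γ(X, U.1)) := by
    rw [Set.disjoint_left]
    intro a ha ha'
    exact ha ((Groth.Agent.Lib.Seat8.Div.mem_support_iff_le_primeIdealOf 𝓘 U x hxU).1 hx ha')
  have hprimeS : ((𝓘.ideal U).map (algebraMap Γ(X, U.1) (X.presheaf.stalk x))).IsPrime :=
    IsLocalization.isPrime_of_isPrime_disjoint
      (hU.primeIdealOf ⟨x, hxU⟩).asIdeal.primeCompl _ _ hprime hdisj
  have hheightS : ((𝓘.ideal U).map (algebraMap Γ(X, U.1) (X.presheaf.stalk x))).height = 1 := by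
    rw [IsLocalization.height_map_of_disjoint
      (hU.primeIdealOf ⟨x, hxU⟩).asIdeal.primeCompl _ hdisj, hheight]
  obtain ⟨g, hg⟩ := UniqueFactorizationMonoid.isPrincipal_of_height_eq_one hheightS
  have hne : (𝓘.ideal U).map (algebraMap Γ(X, U.1) (X.presheaf.stalk x)) ≠ ⊥ :=
    Ideal.ne_bot_of_height_eq_one hheightS
  refine ⟨g, ?_, hg⟩
  apply mem_nonZeroDivisors_of_ne_zero
  rintro rfl
  apply hne
  rw [hg]
  simp

end Groth.Agent.S1684
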