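import Groth.Statements.S16877
-- import your own Groth.Agent.* helpers here

set_option autoImplicit false
universe u
open CategoryTheory AlgebraicGeometry Opposite
open Gerb

namespace Groth.Agent.S16877

section Aux

universe v w

theorem elt_sec_transport {C : Type u} [Category.{v} C] (P : Cᵒᵖ ⥤ Type w) {a b : Stk.EltObj P} (g : a ⟶ b)
    {V U : C} (f : V ⟶ U) (ha : a.base = V) (hb : b.base = U)
    (hfac : g.hom = eqToHom ha ≫ f ≫ eqToHom hb.symm) :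
    P.map f.op (P.map (eqToHom hb.symm).op b.sec) = P.map (eqToHom ha.symm).op a.sec := by
  obtain ⟨V', s⟩ := a
  obtain ⟨U', t⟩ := b
  dsimp at ha hb
  subst ha hb
  have h1 : P.map g.hom.op t = s := g.map_sec
  simp only [eqToHom_refl, Category.id_comp, Category.comp_id] at hfac
  subst hfac
  simp [h1]

theorem elt_exists_hom {C : Type u} [Category.{v} C] (P : Cᵒᵖ ⥤ Type w) (a b : Stk.EltObj P)
    {U : C} (ha : a.base = U) (hb : b.base = U)
    (heq : P.map (eqToHom ha.symm).op a.sec = P.map (eqToHom hb.symm).op b.sec) :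
    ∃ β : a ⟶ b, β.hom = eqToHom (ha.trans hb.symm) := by
  obtain ⟨V', s⟩ := a
  obtain ⟨U', t⟩ := b
  dsimp at ha hb
  subst ha
  subst hb
  simp only [eqToHom_refl, op_id, Functor.map_id_apply] at heq
  exact ⟨⟨𝟙 _, by simp [heq]⟩, rfl⟩

theorem map_eqToHom_trans {C : Type u} [Category.{v} C] (P : Cᵒᵖ ⥤ Type w) {A B D : C} (h1 : A = B) (h2 : B = D)
    (s : P.obj (op D)) :
    P.map (eqToHom h1).op (P.map (eqToHom h2).op s) = P.map (eqToHom (h1.trans h2)).op s := by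
  subst h1 h2
  simp

variable {S : Scheme.{u}} {𝒳 : AlgSt.Cat S} {X : AlgSp.Space S} (π : 𝒳 ⥤ᵇ AlgSt.ofSp X.obj)

/-- The section of `X` over the base object of `x` given by `π x`. -/
def secAt (x : 𝒳.obj) : X.obj.obj.obj (op (𝒳.p.obj x)) :=
  X.obj.obj.map (eqToHom (π.w_obj x).symm).op (π.obj x).sec

theorem secAt_lift {x y : 𝒳.obj} (φ : x ⟶ y) {V U : Over S} (f : V ⟶ U)
    (hx : 𝒳.p.obj x = V) (hy : 𝒳.p.obj y = U) (hφ : 𝒳.p.IsHomLift f φ) :
    X.obj.obj.map f.op (X.obj.obj.map (eqToHom hy.symm).op (secAt π y)) =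
      X.obj.obj.map (eqToHom hx.symm).op (secAt π x) := by
  subst hx hy
  have hπφ : (AlgSt.ofSp X.obj).p.IsHomLift f (π.map φ) :=
    BasedFunctor.preserves_isHomLift π f φ
  have hfac := IsHomLift.fac' (AlgSt.ofSp X.obj).p f (π.map φ)
  have := elt_sec_transport X.obj.obj (π.map φ) f (π.w_obj x) (π.w_obj y) hfac
  simp only [secAt, eqToHom_refl, op_id, Functor.map_id_apply] at this ⊢
  exact this

/-- value of the comparison map on an object of the fibre over `U`. -/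
def cApp (U : Over S) (a : 𝒳.p.Fiber U) : X.obj.obj.obj (op U) :=
  X.obj.obj.map (eqToHom a.2.symm).op (secAt π a.1)

theorem cApp_rel (U : Over S) (a b : 𝒳.p.Fiber U) (h : Gerb.IsoRel 𝒳 U a b) : cApp π U a = cApp π U b := by
  obtain ⟨φ⟩ := h
  have := secAt_lift π φ.1 (𝟙 U) a.2 b.2 φ.2
  simp only [op_id, Functor.map_id_apply] at this
  exact this.symm

theorem cApp_pull [FibCat.IsFibGrpd 𝒳.p] {U V : Over S} (f : V ⟶ U) (a : 𝒳.p.Fiber U) :
    cApp π V (Gerb.pullFib 𝒳 f a) = X.obj.obj.map f.op (cApp π U a) := by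
  obtain ⟨xa, ha⟩ := a
  subst ha
  have h1 := Gerb.pullHom_isHomLift 𝒳 xa (f ≫ eqToHom (rfl : 𝒳.p.obj xa = 𝒳.p.obj xa).symm)
  simp only [eqToHom_refl, Category.comp_id] at h1
  have := secAt_lift π (Gerb.pullHom 𝒳 xa (f ≫ eqToHom (rfl : 𝒳.p.obj xa = 𝒳.p.obj xa).symm)) f
    (Gerb.pull_over 𝒳 xa _) rfl (by simpa using h1)
  simp only [cApp, Gerb.pullFib]
  exact this.symm

/-- the comparison map of presheaves. -/
noncomputable def cMap [FibCat.IsFibGrpd 𝒳.p] : Gerb.isoClPsh 𝒳 ⟶ X.obj.obj where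
  app U := ↾(Quot.lift (cApp π U.unop) (cApp_rel π U.unop))
  naturality U V f := by
    ext a
    obtain ⟨a⟩ := a
    exact cApp_pull π f.unop a

theorem cMap_app_mk [FibCat.IsFibGrpd 𝒳.p] (U : Over S) (a : 𝒳.p.Fiber U) :
    (cMap π).app (op U) (Quot.mk _ a) = cApp π U a := rfl

theorem isoCl_map_mk [FibCat.IsFibGrpd 𝒳.p] {U V : Over S} (f : V ⟶ U) (a : 𝒳.p.Fiber U) :
    (Gerb.isoClPsh 𝒳).map f.op (Quot.mk _ a) = Quot.mk _ (Gerb.pullFib 𝒳 f a) := rfl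

/-- the class of the source of any lift is the restriction of the class. -/
theorem isoCl_map_eq_of_lift [FibCat.IsFibGrpd 𝒳.p] {U V : Over S} (f : V ⟶ U) (a : 𝒳.p.Fiber U)
    (b : 𝒳.p.Fiber V) (ψ : b.1 ⟶ a.1) (hψ : 𝒳.p.IsHomLift f ψ) :
    (Gerb.isoClPsh 𝒳).map f.op (Quot.mk _ a) = Quot.mk _ b := by
  rw [isoCl_map_mk]
  obtain ⟨xa, ha⟩ := a
  obtain ⟨xb, hb⟩ := b
  subst ha
  have hψ' : 𝒳.p.IsHomLift (f ≫ eqToHom (rfl : 𝒳.p.obj xa = 𝒳.p.obj xa).symm) ψ := by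
    simpa using hψ
  obtain ⟨χ, hχ, -⟩ := Gerb.exists_hom_pull 𝒳 xa (f ≫ eqToHom (rfl : 𝒳.p.obj xa = 𝒳.p.obj xa).symm) ψ hψ'
  exact (Quot.sound ⟨⟨χ, hχ⟩⟩).symm

theorem locSurj [FibCat.IsFibGrpd 𝒳.p]
    (hobj : Gerb.LocSurjObj (QuotSh.J Scheme.fppfPrecoverage S) π) :
    Presheaf.IsLocallySurjective (QuotSh.J Scheme.fppfPrecoverage S) (cMap π) := by
  constructor
  intro U s
  obtain ⟨R, hR, h⟩ := hobj (⟨U, s⟩ : Stk.EltObj X.obj.obj)
  refine (QuotSh.J Scheme.fppfPrecoverage S).superset_covering ?_ hR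
  intro V f hf
  obtain ⟨x, g, hg⟩ := h f hf
  have hbase : (π.obj x).base = V :=
    @IsHomLift.domain_eq _ _ _ _ (AlgSt.ofSp X.obj).p _ _ _ _ f g hg
  have hx : 𝒳.p.obj x = V := (π.w_obj x).symm.trans hbase
  refine ⟨Quot.mk _ ⟨x, hx⟩, ?_⟩
  have hfac := @IsHomLift.fac' _ _ _ _ (AlgSt.ofSp X.obj).p _ _ _ _ f g hg
  have := elt_sec_transport X.obj.obj g f hbase rfl hfac
  simp only [eqToHom_refl, op_id, Functor.map_id_apply] at this
  change cApp π V ⟨x, hx⟩ = _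
  simp only [cApp, secAt]
  rw [this]
  subst hx
  simp only [eqToHom_refl, op_id, Functor.map_id_apply]
  rfl

theorem locInj [FibCat.IsFibGrpd 𝒳.p]
    (hhom : Gerb.LocSurjHom (QuotSh.J Scheme.fppfPrecoverage S) π) :
    Presheaf.IsLocallyInjective (QuotSh.J Scheme.fppfPrecoverage S) (cMap π) := by
  constructor
  intro U a b hab
  obtain ⟨U⟩ := U
  obtain ⟨a⟩ := a
  obtain ⟨b⟩ := b
  obtain ⟨xa, ha⟩ := a
  obtain ⟨xb, hb⟩ := b
  dsimp at ha hb
  subst ha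
  change cApp π _ _ = cApp π _ _ at hab
  simp only [cApp, secAt] at hab
  have hab' : X.obj.obj.map (eqToHom (π.w_obj xa).symm).op (π.obj xa).sec =
      X.obj.obj.map (eqToHom ((π.w_obj xb).trans hb).symm).op (π.obj xb).sec := by
    have e1 := map_eqToHom_trans X.obj.obj (rfl : 𝒳.p.obj xa = 𝒳.p.obj xa) (π.w_obj xa).symm (π.obj xa).sec
    have e2 := map_eqToHom_trans X.obj.obj hb.symm (π.w_obj xb).symm (π.obj xb).sec
    exact e1.symm.trans (hab.trans e2)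
  obtain ⟨β, hβ⟩ := elt_exists_hom X.obj.obj (π.obj xa) (π.obj xb)
    (π.w_obj xa) ((π.w_obj xb).trans hb) hab'
  have hβlift : (AlgSt.ofSp X.obj).p.IsHomLift (𝟙 (𝒳.p.obj xa)) β := by
    refine IsHomLift.of_fac' (AlgSt.ofSp X.obj).p _ _ (π.w_obj xa) ((π.w_obj xb).trans hb) ?_
    change β.hom = _
    rw [hβ]
    simp only [Category.id_comp]
    exact (eqToHom_trans _ _).symm
  obtain ⟨R, hR, h⟩ := hhom xa xb β hβlift
  refine (QuotSh.J Scheme.fppfPrecoverage S).superset_covering ?_ hR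
  intro V f hf
  obtain ⟨x₀, φ, ψ, hφ, hψ, -⟩ := h f hf
  have hx₀ : 𝒳.p.obj x₀ = V := @IsHomLift.domain_eq _ _ _ _ 𝒳.p _ _ _ _ f φ hφ
  change (Gerb.isoClPsh 𝒳).map f.op (Quot.mk _ ⟨xa, rfl⟩) = (Gerb.isoClPsh 𝒳).map f.op (Quot.mk _ ⟨xb, hb⟩)
  rw [isoCl_map_eq_of_lift f ⟨xa, rfl⟩ ⟨x₀, hx₀⟩ φ hφ, isoCl_map_eq_of_lift f ⟨xb, hb⟩ ⟨x₀, hx₀⟩ ψ hψ]

end Aux

/-- If π : 𝒳 → X makes the algebraic stack 𝒳 a gerbe over the algebraic space X, then X is the fppf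
sheafification of the presheaf of isomorphism classes of objects of 𝒳: the map of presheaves sending
the class of an object x to the section π(x) of X is locally surjective and locally injective.
(Consequently the space over which a gerbe lives is determined by the gerbe.) -/
theorem result
    (S : Scheme.{u}) (𝒳 : AlgSt.Cat S) (h𝒳 : AlgSt.IsAlgStack Scheme.fppfPrecoverage 𝒳)
    [FibCat.IsFibGrpd 𝒳.p]
    (X : AlgSp.Space S) (π : 𝒳 ⥤ᵇ AlgSt.ofSp X.obj)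
    (hπ : Gerb.IsGerbeOver (QuotSh.J Scheme.fppfPrecoverage S) π) :
    ∃ c : Gerb.isoClPsh 𝒳 ⟶ X.obj.obj,
      (∀ x : 𝒳.obj, c.app (op (𝒳.p.obj x)) (Quot.mk _ (Gerb.fib x)) =
          X.obj.obj.map (eqToHom (π.w_obj x).symm).op (π.obj x).sec) ∧
      Presheaf.IsLocallySurjective (QuotSh.J Scheme.fppfPrecoverage S) c ∧
      Presheaf.IsLocallyInjective (QuotSh.J Scheme.fppfPrecoverage S) c := by
  classical
  refine ⟨cMap π, ?_, locSurj π hπ.1, locInj π hπ.2⟩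
  intro x
  change cApp π _ ⟨x, rfl⟩ = _
  simp only [cApp, secAt, eqToHom_refl, op_id, Functor.map_id_apply]

end Groth.Agent.S16877
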