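import Groth.Statements.S1688
import Groth.Agent.Lib.Helper2LocFree
import Groth.Agent.Lib.Helper23FinPres
import Groth.Agent.Lib.Helper10CurveFlat
import Groth.Agent.Lib.Helper28Catenary

set_option autoImplicit false
universe u
open CategoryTheory CategoryTheory.Limits AlgebraicGeometry TopologicalSpace
open SDiv

namespace Groth.Agent.S1688

/-- Let X be a locally Noetherian integral scheme of dimension at most 1 all of whose local rings are
regular, and F a coherent module on X. Then F is torsion free (every stalk is a torsion-free module
over the local ring) if and only if F is finite locally free. -/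
theorem result (X : Scheme.{u}) [IsIntegral X] [IsLocallyNoetherian X] (hreg : ∀ x : ↥X, IsRegularLocalRing (X.presheaf.stalk x))
    (hdim : topologicalKrullDim ↥X ≤ 1) (F : X.Modules) (hF : Coh.IsCoh F) :
    (∀ x : ↥X, NoZeroSMulDivisors (X.presheaf.stalk x) (F.presheaf.stalk x)) ↔ FlatMod.IsFinLocFree F := by
  have hqc : F.IsQuasicoherent := hF.1
  have hft : SheafOfModules.IsFiniteType (R := X.ringCatSheaf) F := hF.2
  constructor
  · intro h x
    have hfp : SheafOfModules.IsFinitePresentation (R := X.ringCatSheaf) F :=
      Groth.Agent.Lib.Helper23.FinType.isFinitePresentation_of_isFiniteType F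
    have hflat : FlatMod.IsFlatAt F x := by
      unfold FlatMod.IsFlatAt
      have hr := hreg x
      have hic : IsIntegrallyClosed (X.presheaf.stalk x) :=
        Groth.Agent.Lib.Helper28.isIntegrallyClosed_of_isRegularLocalRing _
      have hdd : IsDedekindDomain (X.presheaf.stalk x) :=
        Groth.Agent.Lib.Helper10.CurveFlat.isDedekindDomain_stalk X hdim x hic
      have := h x
      have htf : Module.IsTorsionFree (X.presheaf.stalk x) (F.presheaf.stalk x) := inferInstance
      infer_instance
    obtain ⟨D, m, hxD, hiso⟩ :=
      Groth.Agent.Lib.Helper2.LocFree.exists_restrict_iso_freeMod_of_isFlatAt F x hflat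
    exact ⟨D, m, hxD, hiso⟩
  · intro h x
    have hflat := Groth.Agent.Lib.Helper2.LocFree.isFlat_of_isFinLocFree F h x
    unfold FlatMod.IsFlatAt at hflat
    have htf : Module.IsTorsionFree (X.presheaf.stalk x) (F.presheaf.stalk x) := inferInstance
    exact ⟨fun {c m} hcm => smul_eq_zero.1 hcm⟩

end Groth.Agent.S1688
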