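import Groth.Statements.S1689
import Groth.Agent.S0563
import Groth.Agent.Lib.Helper2LocFree
import Groth.Agent.Lib.Helper2FibreCrit2
import Groth.Agent.Lib.Helper23FinPres
import Groth.Agent.Lib.Helper10CurveFlat
import Groth.Agent.Lib.Seat55ReflFree

set_option autoImplicit false
universe u
open CategoryTheory CategoryTheory.Limits AlgebraicGeometry TopologicalSpace
open SDiv

namespace Groth.Agent.S1689

/-- Let X be a locally Noetherian scheme of dimension at most 2 all of whose local rings are regular,
and F a coherent module on X. Then F is reflexive (every stalk is a reflexive module over the local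
ring) if and only if F is finite locally free. -/
theorem result (X : Scheme.{u}) [IsLocallyNoetherian X]
    (hreg : ∀ x : ↥X, IsRegularLocalRing (X.presheaf.stalk x)) (hdim : topologicalKrullDim ↥X ≤ 2) (F : X.Modules)
    (hF : Coh.IsCoh F) : (∀ x : ↥X, Module.IsReflexive (X.presheaf.stalk x) (F.presheaf.stalk x)) ↔ FlatMod.IsFinLocFree F := by
  have hqc : F.IsQuasicoherent := hF.1
  have hft : SheafOfModules.IsFiniteType (R := X.ringCatSheaf) F := hF.2
  have hfin : ∀ x : X, Module.Finite (X.presheaf.stalk x) (F.presheaf.stalk x) := fun x =>
    Groth.Agent.Lib.Helper2.FibreCrit.finite_stalk F x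
  constructor
  · intro h x
    have hfp : SheafOfModules.IsFinitePresentation (R := X.ringCatSheaf) F :=
      Groth.Agent.Lib.Helper23.FinType.isFinitePresentation_of_isFiniteType F
    have hflat : FlatMod.IsFlatAt F x := by
      unfold FlatMod.IsFlatAt
      have hr := hreg x
      have hfx := hfin x
      have hrx := h x
      have hco : Order.coheight x ≤ 2 :=
        Groth.Agent.Lib.Helper10.CurveFlat.coheight_le_of_topologicalKrullDim_le X 2
          (by exact_mod_cast hdim) x
      have hd : ringKrullDim (X.presheaf.stalk x) = Order.coheight x :=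
        ringKrullDim_stalk_eq_coheight x
      obtain ⟨d, hd'⟩ : ∃ d : ℕ, Order.coheight x = d :=
        ENat.ne_top_iff_exists.1 (fun h => by rw [h] at hco; simp at hco) |>.imp (fun _ h => h.symm)
      have hd2 : d ≤ 2 := by rw [hd'] at hco; exact_mod_cast hco
      have hdd : ringKrullDim (X.presheaf.stalk x) = d := by rw [hd, hd']; rfl
      have hproj : Module.Projective (X.presheaf.stalk x) (F.presheaf.stalk x) :=
        Groth.Agent.Lib.Seat55.ReflFree.projective_of_isReflexive
          (fun N _ _ => by
            have := Groth.Agent.S0563.result (X.presheaf.stalk x) d hdd N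
            exact hasProjectiveDimensionLT_of_ge _ (d + 1) 3 (by omega))
          (F.presheaf.stalk x)
      infer_instance
    obtain ⟨D, m, hxD, hiso⟩ :=
      Groth.Agent.Lib.Helper2.LocFree.exists_restrict_iso_freeMod_of_isFlatAt F x hflat
    exact ⟨D, m, hxD, hiso⟩
  · intro h x
    have hflat := Groth.Agent.Lib.Helper2.LocFree.isFlat_of_isFinLocFree F h x
    unfold FlatMod.IsFlatAt at hflat
    have hfx := hfin x
    have hr := hreg x
    have hfree : Module.Free (X.presheaf.stalk x) (F.presheaf.stalk x) :=
      Module.free_of_flat_of_isLocalRing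
    infer_instance

end Groth.Agent.S1689
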