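import Groth.Statements.S1690
import Groth.Agent.Lib.Seat55ReflBigOpen

set_option autoImplicit false
universe u
open CategoryTheory CategoryTheory.Limits AlgebraicGeometry TopologicalSpace
open SDiv

namespace Groth.Agent.S1690

open Groth.Agent.Lib.Seat55.ReflBigOpen

/-- (1) if and only if (3): let X be an integral locally Noetherian normal scheme and F a coherent
module. Then F is reflexive (stalkwise) if and only if there is an open subscheme j : U ⟶ X such
that every point outside U has local ring of dimension at least 2, the restriction of F to U is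
finite locally free, and the canonical map F ⟶ j_* j^* F is an isomorphism. -/
theorem result (X : Scheme.{u}) [IsIntegral X] [IsLocallyNoetherian X] (hX : Pi1.IsNormalScheme X)
    (F : X.Modules) (hF : Coh.IsCoh F) :
    (∀ x : ↥X, Module.IsReflexive (X.presheaf.stalk x) (F.presheaf.stalk x)) ↔
      ∃ U : X.Opens, (∀ x : ↥X, x ∉ U → (2 : WithBot ℕ∞) ≤ ringKrullDim (X.presheaf.stalk x)) ∧
        FlatMod.IsFinLocFree (F.restrict U.ι) ∧ IsIso ((Scheme.Modules.restrictAdjunction U.ι).unit.app F) := by
  have hqc : F.IsQuasicoherent := hF.1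
  have hft : SheafOfModules.IsFiniteType (R := X.ringCatSheaf) F := hF.2
  have hfin : ∀ x : X, Module.Finite (X.presheaf.stalk x) (F.presheaf.stalk x) := fun x =>
    Groth.Agent.Lib.Helper2.FibreCrit.finite_stalk F x
  constructor
  · intro h
    have hfp : SheafOfModules.IsFinitePresentation (R := X.ringCatSheaf) F :=
      Groth.Agent.Lib.Helper23.FinType.isFinitePresentation_of_isFiniteType F
    have hdimU : ∀ x : X, x ∉ freeLocus F → (2 : WithBot ℕ∞) ≤ ringKrullDim (X.presheaf.stalk x) := by
      intro x hx
      by_contra hnot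
      apply hx
      have hfx := hfin x
      have hrx := h x
      have hdom : IsDomain (X.presheaf.stalk x) := (hX x).1
      have hic : IsIntegrallyClosed (X.presheaf.stalk x) := (hX x).2
      have hd : ringKrullDim (X.presheaf.stalk x) = Order.coheight x :=
        ringKrullDim_stalk_eq_coheight x
      rw [hd] at hnot
      have hco : ¬ (2 : ℕ∞) ≤ Order.coheight x := by
        intro h2
        have h2' : ((2 : ℕ∞) : WithBot ℕ∞) ≤ ((Order.coheight x : ℕ∞) : WithBot ℕ∞) :=
          WithBot.coe_le_coe.mpr h2
        exact hnot h2'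
      obtain ⟨d, hd'⟩ : ∃ d : ℕ, Order.coheight x = d :=
        ENat.ne_top_iff_exists.1 (fun h => by rw [h] at hco; simp at hco) |>.imp (fun _ h => h.symm)
      have hd1 : d ≤ 1 := by
        rw [hd'] at hco
        by_contra hd1
        exact hco (by exact_mod_cast (by omega : 2 ≤ d))
      have hdd : ringKrullDim (X.presheaf.stalk x) = d := by rw [hd, hd']; rfl
      have hreg : IsRegularLocalRing (X.presheaf.stalk x) :=
        Groth.Agent.Lib.Helper28.isRegularLocalRing_of_isIntegrallyClosed_of_dim_le_one
          (by rw [hdd]; exact_mod_cast hd1)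
      have hproj : Module.Projective (X.presheaf.stalk x) (F.presheaf.stalk x) :=
        Groth.Agent.Lib.Seat55.ReflFree.projective_of_isReflexive
          (fun N _ _ => by
            have := Groth.Agent.S0563.result (X.presheaf.stalk x) d hdd N
            exact hasProjectiveDimensionLT_of_ge _ (d + 1) 3 (by omega))
          (F.presheaf.stalk x)
      have hflat : FlatMod.IsFlatAt F x := by
        unfold FlatMod.IsFlatAt
        infer_instance
      obtain ⟨D, m, hxD, hiso⟩ :=
        Groth.Agent.Lib.Helper2.LocFree.exists_restrict_iso_freeMod_of_isFlatAt F x hflat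
      exact (mem_freeLocus_iff F x).mpr ⟨D, m, hxD, hiso⟩
    refine ⟨freeLocus F, hdimU, isFinLocFree_restrict_freeLocus F, ?_⟩
    apply isIso_unit_of_two_le_depth
    intro x hx
    have hfx := hfin x
    have hrx := h x
    have hdom : IsDomain (X.presheaf.stalk x) := (hX x).1
    have hic : IsIntegrallyClosed (X.presheaf.stalk x) := (hX x).2
    have h2 : (2 : ℕ∞) ≤ LocCoh.depth (X.presheaf.stalk x) (X.presheaf.stalk x) :=
      Groth.Agent.Lib.Helper28.two_le_depth_of_isIntegrallyClosed_of_two_le_dim (hdimU x hx)
    exact Groth.Agent.Lib.Helper28.two_le_idealDepth_of_isReflexive _ (F.presheaf.stalk x) h2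
  · rintro ⟨U, -, hlf, hiso⟩ x
    apply Groth.Agent.Lib.Seat55.ReflSch.isReflexive_stalk_of_flat_or_depth F
    intro y
    by_cases hy : y ∈ U
    · exact Or.inl (isFlatAt_of_isFinLocFree_restrict U F hlf y hy)
    · exact Or.inr (two_le_depth_of_isIso_unit U F hiso y hy)

end Groth.Agent.S1690
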