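import Groth.Statements.S16955
import Mathlib
import Groth.Agent.Lib.Helper23SectCmpLib
import Groth.Agent.Lib.Seat81ResLE3
import Groth.Agent.Lib.Seat81ResLE4
import Groth.Agent.Lib.Seat81ResAux
import Groth.Agent.Lib.Seat81LocExact
import Groth.Agent.Lib.Seat81LocZero
-- import your own Groth.Agent.* helpers here

set_option autoImplicit false
universe u
open CohCmp

namespace Groth.Agent.S16955

open AlgebraicGeometry CategoryTheory Scheme.Modules Opposite Limits TopologicalSpace Abelian in
open Groth.Agent.Lib.Helper23.SectCmpLib Groth.Agent.Lib.Seat81.ResLE Groth.Agent.Lib.Seat81.LocExact in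
theorem extδ_map_g {U : Scheme.{u}} {S : ShortComplex (CohTop.Ab U)} (hS : S.ShortExact) (p : ℕ)
    (z : Sheaf.H S.X₂ p) : CohCmp.extδ hS p (Sheaf.H.map S.g p z) = 0 := by
  change (z.comp (Ext.mk₀ S.g) (add_zero p)).comp hS.extClass rfl = 0
  rw [Ext.comp_assoc_of_second_deg_zero, hS.comp_extClass, Ext.comp_zero]

open AlgebraicGeometry CategoryTheory Scheme.Modules Opposite Limits TopologicalSpace Abelian in
theorem result_zero
    {X Y : Scheme.{u}} (f : X ⟶ Y) [HasInjectiveResolutions X.Modules]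
    {Δ : RDer.DerivedLES (pushforward f)} (E : CohCmp.SectCmp f Δ) (F : X.Modules)
    (V : Y.Opens) (x : Coh.HHon X F (f ⁻¹ᵁ V) 0) (hx : E.ε V F 0 x = 0) : x = 0 := by
  obtain ⟨s, rfl⟩ := (CohPull.sectH0 F (f ⁻¹ᵁ V)).surjective x
  rw [E.zero V F s] at hx
  have hs : s = 0 := by
    let τ := (pushforward f).toRightDerivedZero.app F
    have : IsIso τ := inferInstance
    have h1 : (inv τ).app V (τ.app V s) = s :=
      congrArg (fun φ : (pushforward f).obj F ⟶ (pushforward f).obj F => φ.app V s) (IsIso.hom_inv_id τ)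
    rw [hx, map_zero] at h1
    exact h1.symm
  rw [hs, map_zero]

open AlgebraicGeometry CategoryTheory Scheme.Modules in
/-- The comparison map is locally injective. Let f : X → Y be a morphism of schemes, F an O_X-module and
p a natural number; R^p f_* F is the p-th right derived functor of direct image on O-modules and ε_V
: H^p(f⁻¹V, F|_{f⁻¹V}) → Γ(V, R^p f_* F) the pinned comparison maps (the structure SectCmp, taken as
a hypothesis). If a class x over f⁻¹V satisfies ε_V(x) = 0, then every point y of V has an open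
neighbourhood W ⊆ V such that the restriction of x to H^p(f⁻¹W, F|_{f⁻¹W}) vanishes. -/
theorem result
    {X Y : Scheme.{u}} (f : X ⟶ Y) [HasInjectiveResolutions X.Modules]
    {Δ : RDer.DerivedLES (pushforward f)} (E : CohCmp.SectCmp f Δ) (F : X.Modules) (p : ℕ)
    (V : Y.Opens) (x : Coh.HHon X F (f ⁻¹ᵁ V) p) (hx : E.ε V F p x = 0) (y : Y) (hy : y ∈ V) :
    ∃ (W : Y.Opens) (hWV : W ≤ V), y ∈ W ∧ CohPull.resLE F (f.preimage_mono hWV) p x = 0 := by
  have := Groth.Agent.S0484.result (Opens.grothendieckTopology X) X.ringCatSheaf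
  have : EnoughInjectives X.Modules := inferInstanceAs (EnoughInjectives (SheafOfModules.{u} X.ringCatSheaf))
  induction p generalizing F V with
  | zero =>
    refine ⟨V, le_rfl, hy, ?_⟩
    rw [result_zero f E F V x hx, map_zero]
  | succ p ih =>
    let S : ShortComplex X.Modules :=
      ShortComplex.mk (Injective.ι F) (Limits.cokernel.π (Injective.ι F)) (Limits.cokernel.condition _)
    have hS : S.ShortExact :=
      { exact := ShortComplex.exact_cokernel _
        mono_f := inferInstanceAs (Mono (Injective.ι F))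
        epi_g := inferInstanceAs (Epi (Limits.cokernel.π (Injective.ι F))) }
    have hA := Groth.Agent.Lib.Helper23.SectCmpLib.toAbOn_shortExact (f ⁻¹ᵁ V) S hS
    have hinj : Injective S.X₂ := inferInstanceAs (Injective (Injective.under F))
    have hsub : Subsingleton (Coh.HHon X S.X₂ (f ⁻¹ᵁ V) (p + 1)) :=
      Groth.Agent.Lib.Seat81.ResLE.subsingleton_HHon_of_injective S.X₂ _ p
    obtain ⟨x', hx'⟩ := Abelian.Ext.covariant_sequence_exact₁ _ hA x (hsub.elim _ _) rfl
    have hx'' : CohCmp.extδ hA p x' = x := hx'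
    have hδ : (Δ.δ S hS p (p + 1) rfl).app V (E.ε V S.X₃ p x') = 0 := by
      rw [← E.delta V S hS hA p x', hx'']; exact hx
    have key : ∃ (W : Y.Opens) (hWV : W ≤ V), y ∈ W ∧ ∃ z : Coh.HHon X S.X₂ (f ⁻¹ᵁ W) p,
        CohPull.resLE S.X₃ (f.preimage_mono hWV) p x' =
          CohPull.mapH ((restrictFunctor (f ⁻¹ᵁ W).ι).map S.g) p z := by
      cases p with
      | zero => exact Groth.Agent.Lib.Seat81.LocZero.key_zero f E S hS V x' hδ y hy
      | succ p' =>
        have hε := Groth.Agent.Lib.Seat81.LocZero.key_succ f E S hS p' V x' hδ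
        obtain ⟨W, hWV, hyW, hres⟩ := ih S.X₃ V x' hε hy
        exact ⟨W, hWV, hyW, 0, by rw [hres, map_zero]⟩
    obtain ⟨W, hWV, hyW, z, hz⟩ := key
    refine ⟨W, hWV, hyW, ?_⟩
    have hA' := Groth.Agent.Lib.Helper23.SectCmpLib.toAbOn_shortExact (f ⁻¹ᵁ W) S hS
    rw [← hx'', Groth.Agent.Lib.Seat81.ResLE.resLE_extδ (f.preimage_mono hWV) S hA hA' p x', hz]
    exact extδ_map_g hA' p z

end Groth.Agent.S16955
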