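import Groth.Statements.S16980
import Mathlib

set_option autoImplicit false
universe u
open CAlg

namespace Groth.Agent.S16980

section Aux
open MvPolynomial TensorProduct

variable {S : Type*} [CommRing S]

/-- `X 0 * X 1 - C τ` is a non-zero-divisor. -/
theorem f_regular (τ : S) (g : MvPolynomial (Fin 2) S)
    (h : (X 0 * X 1 - C τ) * g = 0) : g = 0 := by
  classical
  nontriviality S
  set m : MonomialOrder (Fin 2) := MonomialOrder.lex
  have hXY : (X 0 * X 1 : MvPolynomial (Fin 2) S) =
      monomial (Finsupp.single 0 1 + Finsupp.single 1 1) 1 := by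
    rw [X, X, monomial_mul, one_mul]
  have hmon : m.Monic (X 0 * X 1 - C τ : MvPolynomial (Fin 2) S) := by
    have h1 : m.Monic (X 0 * X 1 : MvPolynomial (Fin 2) S) := by
      rw [hXY]; exact MonomialOrder.monic_monomial_one
    rw [sub_eq_add_neg, ← C_neg]
    apply h1.add_of_lt
    rw [MonomialOrder.degree_C, hXY, MonomialOrder.degree_monomial, if_neg one_ne_zero, map_zero,
      ← m.bot_eq_zero, bot_lt_iff_ne_bot, m.bot_eq_zero, ne_eq, EmbeddingLike.map_eq_zero_iff]
    intro h0
    have := DFunLike.congr_fun h0 0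
    simp at this
  have := MonomialOrder.leadingCoeff_mul_of_left_mem_nonZeroDivisors (m := m)
    (f := (X 0 * X 1 - C τ : MvPolynomial (Fin 2) S)) (g := g) (by rw [hmon.leadingCoeff_eq_one]; exact one_mem _)
  rw [h, MonomialOrder.leadingCoeff_zero, hmon.leadingCoeff_eq_one, one_mul] at this
  exact MonomialOrder.leadingCoeff_eq_zero_iff.mp this.symm

/-- `X 0 ∣ X 1 * q → X 0 ∣ q` -/
theorem X0_dvd_of_dvd_X1_mul (q : MvPolynomial (Fin 2) S) (h : (X 0 : MvPolynomial (Fin 2) S) ∣ X 1 * q) :
    (X 0 : MvPolynomial (Fin 2) S) ∣ q := by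
  classical
  rw [X_dvd_iff_modMonomial_eq_zero] at h ⊢
  have key : (X 1 * q).modMonomial (Finsupp.single (0 : Fin 2) 1) =
      X 1 * (q.modMonomial (Finsupp.single (0 : Fin 2) 1)) := by
    ext d
    rw [coeff_X_mul']
    by_cases hd : Finsupp.single (0 : Fin 2) 1 ≤ d
    · rw [coeff_modMonomial_of_le _ hd]
      split_ifs with h1
      · rw [coeff_modMonomial_of_le]
        intro i
        by_cases hi : i = 0
        · subst hi
          have := hd 0
          simp only [Finsupp.single_eq_same] at this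
          simp [Finsupp.tsub_apply, this]
        · rw [Finsupp.tsub_apply, Finsupp.single_apply, if_neg (Ne.symm hi)]
          exact Nat.zero_le _
      · rfl
    · rw [coeff_modMonomial_of_not_le _ hd, coeff_X_mul']
      split_ifs with h1
      · rw [coeff_modMonomial_of_not_le]
        intro hle
        apply hd
        intro i
        have := hle i
        by_cases hi : i = 0
        · subst hi
          simpa [Finsupp.tsub_apply] using this
        · rw [Finsupp.single_apply, if_neg (Ne.symm hi)]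
          exact Nat.zero_le _
      · rfl
  rw [key] at h
  have : (X 1 : MvPolynomial (Fin 2) S) * (q.modMonomial (Finsupp.single (0 : Fin 2) 1)) = X 1 * 0 := by
    rw [h, mul_zero]
  exact X_mul_cancel_left_iff.mp this

theorem mem_span_of_mul_mem (τ : S) (p : MvPolynomial (Fin 2) S)
    (h0 : X 0 * p ∈ Ideal.span {(X 0 * X 1 - C τ : MvPolynomial (Fin 2) S)})
    (h1 : X 1 * p ∈ Ideal.span {(X 0 * X 1 - C τ : MvPolynomial (Fin 2) S)}) :
    p ∈ Ideal.span {(X 0 * X 1 - C τ : MvPolynomial (Fin 2) S)} := by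
  rw [Ideal.mem_span_singleton'] at h0 h1 ⊢
  obtain ⟨q, hq⟩ := h0
  obtain ⟨q', hq'⟩ := h1
  -- f * (X 0 * q' - X 1 * q) = 0
  have h2 : (X 0 * X 1 - C τ) * (X 0 * q' - X 1 * q) = 0 := by
    have : X 0 * (q' * (X 0 * X 1 - C τ)) = X 1 * (q * (X 0 * X 1 - C τ)) := by
      rw [hq, hq']; ring
    linear_combination this
  have h3 := f_regular τ _ h2
  have h4 : (X 0 : MvPolynomial (Fin 2) S) ∣ X 1 * q := ⟨q', by linear_combination -h3⟩
  obtain ⟨q'', rfl⟩ := X0_dvd_of_dvd_X1_mul q h4
  refine ⟨q'', ?_⟩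
  have : (X 0 : MvPolynomial (Fin 2) S) * (q'' * (X 0 * X 1 - C τ)) = X 0 * p := by
    rw [← hq]; ring
  exact X_mul_cancel_left_iff.mp this



variable (A : Type u) [CommRing A] (J : Type u) [AddCommGroup J] [Module A J] [Module Aᵐᵒᵖ J]
    [IsCentralScalar A J]
    (B' : Type u) [CommRing B'] [Algebra (TrivSqZeroExt A J) B'] [Algebra A B']
    [IsScalarTower A (TrivSqZeroExt A J) B']

local notation "A'" => TrivSqZeroExt A J

/-- the image of `j ∈ J` in `B'` -/
noncomputable def jj (j : J) : B' := algebraMap A' B' (TrivSqZeroExt.inr j)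

omit [IsScalarTower A (TrivSqZeroExt A J) B'] [Algebra A B'] in
lemma jj_mul_jj (j j' : J) : jj A J B' j * jj A J B' j' = 0 := by
  rw [jj, jj, ← map_mul, TrivSqZeroExt.inr_mul_inr, map_zero]

lemma jj_smul (r : A) (j : J) : jj A J B' (r • j) = algebraMap A B' r * jj A J B' j := by
  rw [jj, jj, TrivSqZeroExt.inr_smul, ← Algebra.smul_def]
  exact map_smul (IsScalarTower.toAlgHom A A' B') r _

/-- the ring hom `A' → B'`, `a + j ↦ a + (1 + c) j` -/
noncomputable def g0 (c : B') : A' →ₐ[A] B' :=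
  TrivSqZeroExt.lift (Algebra.ofId A B')
    ({ toFun := fun j => (1 + c) * jj A J B' j
       map_add' := fun j j' => by simp only [jj, TrivSqZeroExt.inr_add, map_add, mul_add]
       map_smul' := fun r j => by
        simp only [RingHom.id_apply, jj_smul, Algebra.smul_def]; ring } : J →ₗ[A] B')
    (fun j j' => by
      change (1 + c) * jj A J B' j * ((1 + c) * jj A J B' j') = 0
      have := jj_mul_jj A J B' j j'
      linear_combination (1 + c) * (1 + c) * this)
    (fun r j => by
      change (1 + c) * jj A J B' (r • j) = algebraMap A B' r * ((1 + c) * jj A J B' j)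
      rw [jj_smul]; ring)
    (fun r j => by
      change (1 + c) * jj A J B' (MulOpposite.op r • j) = ((1 + c) * jj A J B' j) * algebraMap A B' r
      rw [op_smul_eq_smul, jj_smul]; ring)

lemma g0_inl (c : B') (a : A) : g0 A J B' c (TrivSqZeroExt.inl a) = algebraMap A B' a := by
  rw [g0, TrivSqZeroExt.lift_apply_inl]; rfl

lemma g0_inr (c : B') (j : J) : g0 A J B' c (TrivSqZeroExt.inr j) = (1 + c) * jj A J B' j := by
  rw [g0, TrivSqZeroExt.lift_apply_inr]; rfl

lemma algebraMap_inl (a : A) : algebraMap A' B' (TrivSqZeroExt.inl a) = algebraMap A B' a := by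
  rw [IsScalarTower.algebraMap_apply A A' B', TrivSqZeroExt.algebraMap_eq_inl]

lemma g0_apply (c : B') (a' : A') :
    g0 A J B' c a' = algebraMap A' B' a' + c * jj A J B' a'.snd := by
  conv_lhs => rw [← TrivSqZeroExt.inl_fst_add_inr_snd_eq a']
  conv_rhs => rw [← TrivSqZeroExt.inl_fst_add_inr_snd_eq a']
  rw [map_add, map_add, g0_inl, g0_inr, algebraMap_inl]
  simp only [jj, TrivSqZeroExt.snd_add, TrivSqZeroExt.snd_inl, TrivSqZeroExt.snd_inr, zero_add]
  ring

/-- the square-zero ideal of `B'` generated by `J` -/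
noncomputable def II : Ideal B' := Ideal.map (algebraMap A' B') (TrivSqZeroExt.kerIdeal A J)

omit [IsScalarTower A (TrivSqZeroExt A J) B'] [Algebra A B'] in
lemma jj_mem (j : J) : jj A J B' j ∈ II A J B' := by
  apply Ideal.mem_map_of_mem
  rw [TrivSqZeroExt.mem_kerIdeal_iff_inr, TrivSqZeroExt.snd_inr]

omit [IsScalarTower A (TrivSqZeroExt A J) B'] [Algebra A B'] in
lemma II_sq : II A J B' ^ 2 = ⊥ := by
  rw [II, ← Ideal.map_pow, TrivSqZeroExt.kerIdeal_sq, Ideal.map_bot]

omit [IsScalarTower A (TrivSqZeroExt A J) B'] [Algebra A B'] in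
lemma II_mul {a b : B'} (ha : a ∈ II A J B') (hb : b ∈ II A J B') : a * b = 0 := by
  have : a * b ∈ II A J B' ^ 2 := by rw [pow_two]; exact Ideal.mul_mem_mul ha hb
  rwa [II_sq, Ideal.mem_bot] at this

omit [IsScalarTower A (TrivSqZeroExt A J) B'] [Algebra A B'] in
/-- induction principle for the ideal `II` -/
lemma II_induction {P : B' → Prop} (hj : ∀ j : J, P (jj A J B' j)) (h0 : P 0)
    (hadd : ∀ a b, P a → P b → P (a + b)) (hmul : ∀ (b : B') (a : B'), a ∈ II A J B' → P a → P (b * a))
    {i : B'} (hi : i ∈ II A J B') : P i := by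
  have key : ∀ i ∈ II A J B', i ∈ II A J B' ∧ P i := by
    intro i hi
    rw [II, Ideal.map] at hi
    refine Submodule.span_induction ?_ ?_ ?_ ?_ hi
    · rintro _ ⟨a', ha', rfl⟩
      rw [SetLike.mem_coe, TrivSqZeroExt.mem_kerIdeal_iff_inr] at ha'
      rw [ha']
      exact ⟨jj_mem A J B' _, hj _⟩
    · exact ⟨Ideal.zero_mem _, h0⟩
    · rintro a b - - ⟨ha, ha'⟩ ⟨hb, hb'⟩
      exact ⟨Ideal.add_mem _ ha hb, hadd _ _ ha' hb'⟩
    · rintro b a - ⟨ha, ha'⟩
      exact ⟨Ideal.mul_mem_left _ _ ha, hmul b a ha ha'⟩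
  exact (key i hi).2

variable (τ : TrivSqZeroExt A J) (x y : B')
    (hsurj : Function.Surjective
      (MvPolynomial.aeval ![x, y] : MvPolynomial (Fin 2) (TrivSqZeroExt A J) →ₐ[TrivSqZeroExt A J] B'))
    (hker : RingHom.ker
      (MvPolynomial.aeval ![x, y] : MvPolynomial (Fin 2) (TrivSqZeroExt A J) →ₐ[TrivSqZeroExt A J] B') =
      Ideal.span {MvPolynomial.X 0 * MvPolynomial.X 1 - MvPolynomial.C τ})

include hker in
omit [IsScalarTower A (TrivSqZeroExt A J) B'] [Algebra A B'] in
lemma xy_eq : x * y = algebraMap A' B' τ := by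
  have : (MvPolynomial.X 0 * MvPolynomial.X 1 - MvPolynomial.C τ : MvPolynomial (Fin 2) A') ∈
      RingHom.ker (MvPolynomial.aeval ![x, y] : MvPolynomial (Fin 2) A' →ₐ[A'] B') := by
    rw [hker]; exact Ideal.subset_span rfl
  rw [RingHom.mem_ker, map_sub, map_mul, aeval_X, aeval_X, aeval_C] at this
  simpa [sub_eq_zero] using this

/-- the lift to the polynomial ring: `X ↦ x + c₁ jτ`, `Y ↦ y + c₂ jτ`, `a + j ↦ a + (1 + c) j`. -/
noncomputable def Gt (c c₁ c₂ : B') : MvPolynomial (Fin 2) A' →+* B' :=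
  MvPolynomial.eval₂Hom (g0 A J B' c : A' →+* B')
    ![x + c₁ * jj A J B' τ.snd, y + c₂ * jj A J B' τ.snd]

include hker in
lemma Gt_ker (c c₁ c₂ : B') (hc : c = x * c₂ + y * c₁) :
    RingHom.ker (MvPolynomial.aeval ![x, y] : MvPolynomial (Fin 2) A' →ₐ[A'] B').toRingHom ≤
      RingHom.ker (Gt A J B' τ x y c c₁ c₂) := by
  change RingHom.ker (MvPolynomial.aeval ![x, y] : MvPolynomial (Fin 2) A' →ₐ[A'] B') ≤ _
  rw [hker, Ideal.span_le, Set.singleton_subset_iff, SetLike.mem_coe, RingHom.mem_ker]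
  simp only [Gt, map_sub, map_mul, MvPolynomial.coe_eval₂Hom, MvPolynomial.eval₂_X,
    MvPolynomial.eval₂_C, Matrix.cons_val_zero, Matrix.cons_val_one]
  have h1 := xy_eq A J B' τ x y hker
  have h2 := g0_apply A J B' c τ
  have h3 := jj_mul_jj A J B' τ.snd τ.snd
  change _ - g0 A J B' c τ = 0
  rw [h2, hc]
  linear_combination h1 + c₁ * c₂ * h3

include hsurj hker in
/-- the perturbed endomorphism `g` of `B'` -/
lemma exists_g (c c₁ c₂ : B') (hc : c = x * c₂ + y * c₁) :
    ∃ g : B' →ₐ[A] B', (∀ b, g b - b ∈ II A J B') ∧ (∀ i ∈ II A J B', g i = (1 + c) * i) := by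
  let π : MvPolynomial (Fin 2) (TrivSqZeroExt A J) →+* B' :=
    (MvPolynomial.aeval ![x, y] : MvPolynomial (Fin 2) (TrivSqZeroExt A J) →ₐ[TrivSqZeroExt A J] B').toRingHom
  have hπ : Function.Surjective π := hsurj
  let g' : B' →+* B' := RingHom.liftOfSurjective π hπ
    ⟨Gt A J B' τ x y c c₁ c₂, Gt_ker A J B' τ x y hker c c₁ c₂ hc⟩
  have hg' : ∀ p, g' (π p) = Gt A J B' τ x y c c₁ c₂ p := fun p =>
    RingHom.liftOfSurjective_comp_apply π hπ _ p
  have hπC : ∀ a', π (MvPolynomial.C a') = algebraMap A' B' a' := fun a' => by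
    change MvPolynomial.aeval ![x, y] (MvPolynomial.C a') = _
    rw [MvPolynomial.aeval_C]
  have hπX0 : π (MvPolynomial.X 0) = x := by
    change MvPolynomial.aeval ![x, y] (MvPolynomial.X 0) = _
    rw [MvPolynomial.aeval_X]; rfl
  have hπX1 : π (MvPolynomial.X 1) = y := by
    change MvPolynomial.aeval ![x, y] (MvPolynomial.X 1) = _
    rw [MvPolynomial.aeval_X]; rfl
  have hGC : ∀ a', Gt A J B' τ x y c c₁ c₂ (MvPolynomial.C a') = g0 A J B' c a' := fun a' => by
    simp only [Gt, MvPolynomial.coe_eval₂Hom, MvPolynomial.eval₂_C]; rfl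
  have hGX0 : Gt A J B' τ x y c c₁ c₂ (MvPolynomial.X 0) = x + c₁ * jj A J B' τ.snd := by
    simp only [Gt, MvPolynomial.coe_eval₂Hom, MvPolynomial.eval₂_X, Matrix.cons_val_zero]
  have hGX1 : Gt A J B' τ x y c c₁ c₂ (MvPolynomial.X 1) = y + c₂ * jj A J B' τ.snd := by
    simp only [Gt, MvPolynomial.coe_eval₂Hom, MvPolynomial.eval₂_X, Matrix.cons_val_one, Matrix.cons_val_zero]
  -- congruence mod II
  have hcong : ∀ b, g' b - b ∈ II A J B' := by
    intro b
    obtain ⟨p, rfl⟩ := hπ b
    rw [hg']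
    have : (Ideal.Quotient.mk (II A J B')).comp (Gt A J B' τ x y c c₁ c₂) =
        (Ideal.Quotient.mk (II A J B')).comp π := by
      apply MvPolynomial.ringHom_ext
      · intro a'
        rw [RingHom.comp_apply, RingHom.comp_apply, hGC, hπC, g0_apply, Ideal.Quotient.eq,
          add_sub_cancel_left]
        exact Ideal.mul_mem_left _ _ (jj_mem A J B' _)
      · intro i
        fin_cases i
        · change (Ideal.Quotient.mk _) (Gt A J B' τ x y c c₁ c₂ (MvPolynomial.X 0)) =
            (Ideal.Quotient.mk _) (π (MvPolynomial.X 0))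
          rw [hGX0, hπX0, Ideal.Quotient.eq, add_sub_cancel_left]
          exact Ideal.mul_mem_left _ _ (jj_mem A J B' _)
        · change (Ideal.Quotient.mk _) (Gt A J B' τ x y c c₁ c₂ (MvPolynomial.X 1)) =
            (Ideal.Quotient.mk _) (π (MvPolynomial.X 1))
          rw [hGX1, hπX1, Ideal.Quotient.eq, add_sub_cancel_left]
          exact Ideal.mul_mem_left _ _ (jj_mem A J B' _)
    have := congrArg (fun φ => φ p) this
    simp only [RingHom.comp_apply] at this
    exact Ideal.Quotient.eq.mp this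
  have hgj : ∀ j : J, g' (jj A J B' j) = (1 + c) * jj A J B' j := by
    intro j
    have : jj A J B' j = π (MvPolynomial.C (TrivSqZeroExt.inr j)) := by rw [hπC]; rfl
    rw [this, hg', hGC, g0_inr, ← this]
  have hgI : ∀ i ∈ II A J B', g' i = (1 + c) * i := by
    intro i hi
    refine II_induction A J B' (P := fun i => g' i = (1 + c) * i) hgj ?_ ?_ ?_ hi
    · rw [map_zero, mul_zero]
    · intro a b ha hb
      rw [map_add, ha, hb, mul_add]
    · intro b a ha hPa
      rw [map_mul, hPa]
      have h1 : (g' b - b) * a = 0 := II_mul A J B' (hcong b) ha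
      linear_combination (1 + c) * h1
  refine ⟨{ g' with commutes' := fun a => ?_ }, hcong, hgI⟩
  change g' (algebraMap A B' a) = algebraMap A B' a
  have : algebraMap A B' a = π (MvPolynomial.C (TrivSqZeroExt.inl a)) := by
    rw [hπC, algebraMap_inl]
  rw [this, hg', hGC, g0_inl, ← this]

include hsurj hker in
lemma mul_eq_zero_of_tmul (c c₁ c₂ : B') (hc : c = x * c₂ + y * c₁)
    (u : B') (hu : u ∈ II A J B')
    (h : (1 : B' ⧸ II A J B') ⊗ₜ[B'] KaehlerDifferential.D A B' u = 0) : c * u = 0 := by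
  obtain ⟨g, hg1, hg2⟩ := exists_g A J B' τ x y hsurj hker c c₁ c₂ hc
  have e : (Ideal.Quotient.mkₐ A (II A J B')).comp g =
      IsScalarTower.toAlgHom A B' (B' ⧸ II A J B') := by
    ext b
    change Ideal.Quotient.mk (II A J B') (g b) = Ideal.Quotient.mk (II A J B') b
    exact Ideal.Quotient.eq.mpr (hg1 b)
  let Dg : Derivation A B' (II A J B') :=
    derivationToSquareZeroOfLift (II A J B') (II_sq A J B') g e
  let L : Ω[B'⁄A] →ₗ[B'] (II A J B') := Dg.liftKaehlerDifferential
  have hω : KaehlerDifferential.D A B' u ∈ (II A J B') • (⊤ : Submodule B' (Ω[B'⁄A])) := by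
    have := congrArg (TensorProduct.quotTensorEquivQuotSMul (Ω[B'⁄A]) (II A J B')) h
    rw [map_zero, TensorProduct.quotTensorEquivQuotSMul_mk_one_tmul] at this
    exact (Submodule.Quotient.mk_eq_zero _).mp this
  have hL : ∀ ω ∈ (II A J B') • (⊤ : Submodule B' (Ω[B'⁄A])), L ω = 0 := by
    intro ω hω
    refine Submodule.smul_induction_on hω ?_ ?_
    · intro r hr n _
      rw [map_smul]
      ext
      exact II_mul A J B' hr (L n).2
    · intro a b ha hb
      rw [map_add, ha, hb, add_zero]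
  have h1 := hL _ hω
  rw [Derivation.liftKaehlerDifferential_comp_D] at h1
  have h2 : ((Dg u : II A J B') : B') = g u - u :=
    derivationToSquareZeroOfLift_apply (II A J B') (II_sq A J B') g e u
  rw [h1, hg2 u hu] at h2
  have h3 : ((0 : II A J B') : B') = 0 := rfl
  rw [h3] at h2
  linear_combination -h2


end Aux


/-- Let A be a commutative ring, J an A-module, A′ = A ⊕ εJ the trivial square-zero extension of A by J,
and τ any element of A′. Let B′ be the A′-algebra A′[x,y]/(xy − τ), presented by two generators x, y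
with the evaluation map from the polynomial ring in two variables over A′ surjective and with kernel
generated by XY − τ. Let I ⊆ B′ be the ideal generated by the square-zero ideal J of A′, so that B =
B′/I is A[x,y]/(xy − t) with t the A-component of τ. Then the first map of the conormal sequence of
B′ → B relative to A, namely I → B ⊗_{B′} Ω_{B′/A}, i ↦ 1 ⊗ di, is injective (so the sequence 0 → I
→ B ⊗_{B′} Ω_{B′/A} → Ω_{B/A} → 0 is exact on the left as well; this is the local computation at a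
node for first-order deformations of nodal curves). -/
theorem result
    (A : Type u) [CommRing A] (J : Type u) [AddCommGroup J] [Module A J] [Module Aᵐᵒᵖ J]
    [IsCentralScalar A J] (τ : TrivSqZeroExt A J)
    (B' : Type u) [CommRing B'] [Algebra (TrivSqZeroExt A J) B'] [Algebra A B']
    [IsScalarTower A (TrivSqZeroExt A J) B'] (x y : B')
    (hsurj : Function.Surjective
      (MvPolynomial.aeval ![x, y] : MvPolynomial (Fin 2) (TrivSqZeroExt A J) →ₐ[TrivSqZeroExt A J] B'))
    (hker : RingHom.ker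
      (MvPolynomial.aeval ![x, y] : MvPolynomial (Fin 2) (TrivSqZeroExt A J) →ₐ[TrivSqZeroExt A J] B') =
      Ideal.span {MvPolynomial.X 0 * MvPolynomial.X 1 - MvPolynomial.C τ}) :
    Function.Injective (KaehlerDifferential.kerToTensor A B'
      (B' ⧸ Ideal.map (algebraMap (TrivSqZeroExt A J) B') (TrivSqZeroExt.kerIdeal A J))) := by
  rw [injective_iff_map_eq_zero]
  rintro ⟨u, hu⟩ h
  have hu' : u ∈ II A J B' := by
    rw [RingHom.mem_ker, Ideal.Quotient.algebraMap_eq, Ideal.Quotient.eq_zero_iff_mem] at hu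
    exact hu
  rw [KaehlerDifferential.kerToTensor_apply] at h
  have hx : x * u = 0 := mul_eq_zero_of_tmul A J B' τ x y hsurj hker x 0 1 (by ring) u hu' h
  have hy : y * u = 0 := mul_eq_zero_of_tmul A J B' τ x y hsurj hker y 1 0 (by ring) u hu' h
  obtain ⟨p, rfl⟩ := hsurj u
  have h0 : MvPolynomial.X 0 * p ∈ Ideal.span
      {(MvPolynomial.X 0 * MvPolynomial.X 1 - MvPolynomial.C τ : MvPolynomial (Fin 2) (TrivSqZeroExt A J))} := by
    rw [← hker, RingHom.mem_ker, map_mul, MvPolynomial.aeval_X]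
    exact hx
  have h1 : MvPolynomial.X 1 * p ∈ Ideal.span
      {(MvPolynomial.X 0 * MvPolynomial.X 1 - MvPolynomial.C τ : MvPolynomial (Fin 2) (TrivSqZeroExt A J))} := by
    rw [← hker, RingHom.mem_ker, map_mul, MvPolynomial.aeval_X]
    exact hy
  have h2 := mem_span_of_mul_mem τ p h0 h1
  rw [← hker, RingHom.mem_ker] at h2
  exact Subtype.ext h2

end Groth.Agent.S16980
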