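import Groth.Statements.S16986
import Groth.Agent.Lib.Seat37QuadDisc
import Groth.Agent.Lib.Seat37QuadNonSm

set_option autoImplicit false
universe u
open CategoryTheory AlgebraicGeometry
open QuadGrp

namespace Groth.Agent.S16986

/-- Let Q be a quadratic form on R^n, n ≥ 1, over a commutative ring R, non-degenerate in the sense that
its polar form is a perfect pairing when n is even and its half-discriminant (in the standard basis)
is a unit when n is odd, and let G be a group scheme over Spec R which is the orthogonal group of Q
(its A-valued points are the isometries of the base change Q_A, naturally in the R-algebra A). Then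
G is smooth over Spec R if and only if n is even or 2 is a unit in R. (The published statement is
for a line-bundle-valued form on a vector bundle over an arbitrary scheme; the case of a free module
over an affine base with trivialised values is stated.) -/
theorem result (R : Type u) [CommRing R] (n : ℕ) (hn : 1 ≤ n)
    (Q : QuadraticForm R (Fin n → R))
    (hQ : QuadGrp.IsNondeg (Pi.basisFun R (Fin n)) (LinearEquiv.refl R R) Q)
    (G : Over (Spec (CommRingCat.of R))) [GrpObj G] (D : QuadGrp.OrthRep Q G) :
    AlgebraicGeometry.Smooth G.hom ↔ (Even n ∨ IsUnit (2 : R)) := by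
  have hS : ∀ (A : Type u) [CommRing A] [Algebra R A]
      (g : (TensorProduct R A (Fin n → R)) ≃ₗ[A] (TensorProduct R A (Fin n → R))),
      g ∈ orth Q A ↔
        (Groth.Agent.S17014.Aux.HD.cc (algebraMap R A ∘
            coeffs (Pi.basisFun R (Fin n)) (LinearEquiv.refl R R) Q)
            (Groth.Agent.Lib.Seat37.QuadBridge.mat A g) =
          algebraMap R A ∘ coeffs (Pi.basisFun R (Fin n)) (LinearEquiv.refl R R) Q ∧
        (false = true → (Groth.Agent.Lib.Seat37.QuadBridge.mat A g).det = 1)) := by
    intro A _ _ g
    rw [Groth.Agent.Lib.Seat37.QuadBridge.mem_orth_iff]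
    exact ⟨fun h => ⟨h, fun h' => absurd h' (by simp)⟩, fun h => h.1⟩
  rw [Groth.Agent.Lib.Seat37.QuadBridge.smooth_iff false Q (fun A _ _ => orth Q A) hS D]
  constructor
  · intro hsm
    by_contra hcon
    rw [not_or] at hcon
    obtain ⟨m, rfl⟩ := Nat.not_even_iff_odd.mp hcon.1
    exact Groth.Agent.Lib.Seat37.QuadNonSm.not_formallySmooth_O m _ (hQ.2 ⟨m, rfl⟩) hcon.2
      hsm.formallySmooth
  · intro h
    have hdisc := Groth.Agent.Lib.Seat37.QuadDisc.isUnit_det_PM Q hQ h
    exact ⟨Groth.Agent.Lib.Seat37.QuadRel.formallySmooth_O _ hdisc, inferInstance⟩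

end Groth.Agent.S16986
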