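import Groth.Statements.S16987
import Groth.Agent.Lib.Seat37QuadDisc
import Groth.Agent.Lib.Seat37QuadSO

set_option autoImplicit false
universe u
open CategoryTheory AlgebraicGeometry
open QuadGrp

namespace Groth.Agent.S16987

/-- Let Q be a quadratic form on R^n, n ≥ 1, over a commutative ring R, non-degenerate (perfect polar
pairing for even n, unit half-discriminant in the standard basis for odd n), and let G be a group
scheme over Spec R which is the naive special orthogonal group of Q (its A-valued points are the
isometries of Q_A of determinant one, naturally in A). If n is odd or 2 is a unit in R, then G is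
smooth over Spec R. (The published statement also asserts the converse, that smoothness forces n odd
or 2 a unit; the converse fails over any base of characteristic 2: there every isometry of a
non-degenerate form of even rank has determinant one, so the naive group is the whole orthogonal
group, which is smooth — for instance the split form x₀x₁ over the field with two elements. Only the
implication the published proof establishes is stated. The published statement is for a
line-bundle-valued form on a vector bundle over an arbitrary scheme; the free affine case is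
stated.) -/
theorem result (R : Type u) [CommRing R] (n : ℕ) (hn : 1 ≤ n)
    (Q : QuadraticForm R (Fin n → R))
    (hQ : QuadGrp.IsNondeg (Pi.basisFun R (Fin n)) (LinearEquiv.refl R R) Q)
    (G : Over (Spec (CommRingCat.of R))) [GrpObj G] (D : QuadGrp.SOrth'Rep Q G)
    (h : Odd n ∨ IsUnit (2 : R)) :
    AlgebraicGeometry.Smooth G.hom := by
  have hS : ∀ (A : Type u) [CommRing A] [Algebra R A]
      (g : (TensorProduct R A (Fin n → R)) ≃ₗ[A] (TensorProduct R A (Fin n → R))),
      g ∈ sorth' Q A ↔
        (Groth.Agent.S17014.Aux.HD.cc (algebraMap R A ∘
            coeffs (Pi.basisFun R (Fin n)) (LinearEquiv.refl R R) Q)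
            (Groth.Agent.Lib.Seat37.QuadBridge.mat A g) =
          algebraMap R A ∘ coeffs (Pi.basisFun R (Fin n)) (LinearEquiv.refl R R) Q ∧
        (true = true → (Groth.Agent.Lib.Seat37.QuadBridge.mat A g).det = 1)) := by
    intro A _ _ g
    rw [Groth.Agent.Lib.Seat37.QuadBridge.mem_sorth'_iff]
    exact ⟨fun h => ⟨h.1, fun _ => h.2⟩, fun h => ⟨h.1, h.2 rfl⟩⟩
  rw [Groth.Agent.Lib.Seat37.QuadBridge.smooth_iff true Q (fun A _ _ => sorth' Q A) hS D]
  by_cases hodd : Odd n
  · obtain ⟨m, rfl⟩ := hodd
    exact ⟨Groth.Agent.Lib.Seat37.QuadSO.formallySmooth_SO_odd m _ (hQ.2 ⟨m, rfl⟩), inferInstance⟩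
  · have h2 : IsUnit (2 : R) := h.resolve_left hodd
    have hdisc := Groth.Agent.Lib.Seat37.QuadDisc.isUnit_det_PM Q hQ (Or.inr h2)
    exact ⟨Groth.Agent.Lib.Seat37.QuadRel.formallySmooth_SO_of_two _ hdisc h2, inferInstance⟩

end Groth.Agent.S16987
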