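import Groth.Statements.S16989
import Groth.Agent.Lib.Seat37CliffDicksonConn
import Groth.Agent.Lib.Seat37CliffSetupEven

set_option autoImplicit false
universe u v
open QuadGrp

namespace Groth.Agent.S16989

/-- Over a commutative ring with connected prime spectrum, for a quadratic form Q on a finite free
module of even rank 2m ≥ 2 whose polar form is a perfect pairing, an isometry of Q which does not
satisfy the Dickson condition has determinant −1. (The published statement is the identity of
homomorphisms to μ₂ expressing the determinant on the orthogonal group as the composite of the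
Dickson invariant with the map from the constant group ℤ/2 sending 1 to −1. Over a disconnected base
an isometry may satisfy the Dickson condition on one component only, so connectedness of the base is
needed for this points-level form.) -/
theorem result {R : Type u} [CommRing R] (hc : ConnectedSpace (PrimeSpectrum R))
    {M : Type v} [AddCommGroup M] [Module R M] [Module.Free R M] [Module.Finite R M]
    (m : ℕ) (hm : 1 ≤ m) (hM : Module.finrank R M = 2 * m) (Q : QuadraticForm R M) (hQ : QuadGrp.IsRegular Q)
    (g : M ≃ₗ[R] M) (hg : g ∈ QuadGrp.O Q) (hD : ¬ QuadGrp.IsDicksonTrivial Q g hg) :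
    LinearEquiv.det g = -1 := by
  rcases subsingleton_or_nontrivial R with hsub | hnt
  · exfalso
    have h1 : Module.finrank R M = 1 := by
      rw [Module.finrank, rank_subsingleton]
      simp
    omega
  have b : Module.Basis (Fin (2 * m)) R M := Module.finBasisOfFinrankEq R M hM
  obtain ⟨A, iA, iAlg, hff, hfp, ⟨φ⟩⟩ :=
    Groth.Agent.Lib.Seat37.CliffSetupEven.exists_split_even m b Q hQ
  have h1 := Groth.Agent.Lib.Seat37.CliffDicksonConn.det_eq_neg_one A Q m φ hc hm b g hg hD
  apply Units.ext
  rw [LinearEquiv.coe_det, h1, Units.val_neg, Units.val_one]

end Groth.Agent.S16989
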