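import Groth.Statements.S16990
import Groth.Agent.Lib.Seat37CliffDicksonTwo
import Groth.Agent.Lib.Seat37CliffSetupEven
import Groth.Agent.S16988

set_option autoImplicit false
universe u v
open QuadGrp

namespace Groth.Agent.S16990

/-- Comparison with SO′: over a commutative ring in which 2 is invertible, for a quadratic form Q on a
finite free module of even rank 2m ≥ 2 whose polar form is a perfect pairing, the isometries
satisfying the Dickson condition are exactly the isometries of determinant one. -/
theorem result {R : Type u} [CommRing R] [Invertible (2 : R)]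
    {M : Type v} [AddCommGroup M] [Module R M] [Module.Free R M] [Module.Finite R M]
    (m : ℕ) (hm : 1 ≤ m) (hM : Module.finrank R M = 2 * m) (Q : QuadraticForm R M) (hQ : QuadGrp.IsRegular Q) :
    QuadGrp.SOeven Q = QuadGrp.SO' Q := by
  apply le_antisymm
  · exact Groth.Agent.S16988.result m hm hM Q hQ
  · rcases subsingleton_or_nontrivial R with hsub | hnt
    · exfalso
      have h1 : Module.finrank R M = 1 := by
        rw [Module.finrank, rank_subsingleton]
        simp
      omega
    have b : Module.Basis (Fin (2 * m)) R M := Module.finBasisOfFinrankEq R M hM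
    rintro g ⟨hgO, hgdet⟩
    obtain ⟨A, iA, iAlg, hff, hfp, ⟨φ⟩⟩ :=
      Groth.Agent.Lib.Seat37.CliffSetupEven.exists_split_even m b Q hQ
    have hdet : LinearMap.det (g : M →ₗ[R] M) = 1 := by
      have h1 : LinearEquiv.det g = 1 := hgdet
      rw [← LinearEquiv.coe_det, h1, Units.val_one]
    exact ⟨hgO, Groth.Agent.Lib.Seat37.CliffDicksonTwo.dickson_of_det_one A Q m φ hm g hgO hdet⟩

end Groth.Agent.S16990
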