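import Groth.Statements.S16998
import Groth.Agent.Lib.Seat37CliffSetup
import Groth.Agent.Lib.Seat37CliffCenter

set_option autoImplicit false
universe u
open scoped TensorProduct
open QuadGrp

namespace Groth.Agent.S16998

/-- Let Q be a quadratic form on a free module M with a basis indexed by Fin (2m+1) over a commutative
ring R, whose half-discriminant in that basis is a unit. Then (a) fppf-locally on R the even
Clifford algebra is a matrix algebra of size 2^m (some faithfully flat finitely presented R-algebra
R′ realises it); (b) the even central elements of the Clifford algebra C(Q) are the scalars; (c) the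
multiplication map from (centre of C(Q)) ⊗ (even part) to C(Q) is bijective; (d) M → C(Q) is
injective onto a direct summand. (The published statement, for a vector bundle over a scheme, also
says that the odd part of the centre is an invertible module squaring to the structure sheaf and
that C(Q) is locally free of rank 2^(2m+1); the first of these is stated separately over a local
base.) -/
theorem result {R : Type u} [CommRing R] {M : Type u} [AddCommGroup M] [Module R M]
    (m : ℕ) (b : Module.Basis (Fin (2 * m + 1)) R M) (Q : QuadraticForm R M)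
    (hQ : QuadGrp.IsSemiregular b (LinearEquiv.refl R R) Q) :
    (∃ (R' : Type u) (_ : CommRing R') (_ : Algebra R R'), Module.FaithfullyFlat R R' ∧ Algebra.FinitePresentation R R' ∧
        Nonempty ((R' ⊗[R] ↥(CliffordAlgebra.even Q)) ≃ₐ[R'] Matrix (Fin (2 ^ m)) (Fin (2 ^ m)) R')) ∧
    (∀ z ∈ Subalgebra.center R (CliffordAlgebra Q), z ∈ CliffordAlgebra.evenOdd Q 0 →
        z ∈ (algebraMap R (CliffordAlgebra Q)).range) ∧
    Function.Bijective (TensorProduct.lift
        (((LinearMap.mul R (CliffordAlgebra Q)).comp (Subalgebra.center R (CliffordAlgebra Q)).val.toLinearMap).compl₂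
          (CliffordAlgebra.even Q).val.toLinearMap)) ∧
    (Function.Injective (CliffordAlgebra.ι Q) ∧
      ∃ W : Submodule R (CliffordAlgebra Q), IsCompl (LinearMap.range (CliffordAlgebra.ι Q)) W) := by
  have hfree : Module.Free R M := Module.Free.of_basis b
  obtain ⟨A, iA, iAlg, hff, hfp, ⟨φ⟩⟩ := Groth.Agent.Lib.Seat37.CliffSetup.exists_split m b Q hQ
  have hb : ∀ c : CliffordAlgebra Q, c ∈ Subalgebra.center R (CliffordAlgebra Q) →
      c ∈ CliffordAlgebra.evenOdd Q 0 → c ∈ (algebraMap R (CliffordAlgebra Q)).range :=
    fun c hc hc0 => Groth.Agent.Lib.Seat37.CliffDescent.even_central_scalar A Q m φ c hc hc0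
  refine ⟨⟨A, iA, iAlg, hff, hfp,
    Groth.Agent.Lib.Seat37.CliffDescent.nonempty_even_matrix A Q m φ⟩, hb, ?_,
    Groth.Agent.Lib.Seat37.CliffRank.ι_injective Q,
    Groth.Agent.Lib.Seat37.CliffRank.exists_isCompl_range_ι Q⟩
  obtain ⟨N, z, w, hz, hw, hsum⟩ :=
    Groth.Agent.Lib.Seat37.CliffDescent.exists_odd_central_pairs A Q m φ b
  exact Groth.Agent.Lib.Seat37.CliffCenter.center_mul_even_bijective Q hb z w hz hw hsum

end Groth.Agent.S16998
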