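import Groth.Statements.S16999
import Groth.Agent.Lib.Seat37CliffSetup
import Groth.Agent.Lib.Seat37CliffLocal

set_option autoImplicit false
universe u v
open QuadGrp

namespace Groth.Agent.S16999

/-- Centre over a local base: over a local ring R, let Q be a quadratic form on a free module M with a
basis indexed by Fin (2m+1) whose half-discriminant in that basis is a unit. Then the centre of the
Clifford algebra C(Q) is generated by the square root of a unit: there is a central unit z, odd for
the ℤ/2-grading, with z² a scalar, such that 1, z are linearly independent and span the centre. (The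
published statement: the centre is a ℤ/2-graded locally free module of rank 2 with degree-0 part the
structure sheaf and degree-1 part an invertible sheaf squaring to it; over a local base this is the
form stated.) -/
theorem result {R : Type u} [CommRing R] [IsLocalRing R]
    {M : Type v} [AddCommGroup M] [Module R M]
    (m : ℕ) (b : Module.Basis (Fin (2 * m + 1)) R M) (Q : QuadraticForm R M)
    (hQ : QuadGrp.IsSemiregular b (LinearEquiv.refl R R) Q) :
    ∃ z : CliffordAlgebra Q, z ∈ Subalgebra.center R (CliffordAlgebra Q) ∧ z ∈ CliffordAlgebra.evenOdd Q 1 ∧ IsUnit z ∧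
      z * z ∈ (algebraMap R (CliffordAlgebra Q)).range ∧ LinearIndependent R ![(1 : CliffordAlgebra Q), z] ∧
      Subalgebra.toSubmodule (Subalgebra.center R (CliffordAlgebra Q)) = Submodule.span R {1, z} := by
  have hfree : Module.Free R M := Module.Free.of_basis b
  obtain ⟨A, iA, iAlg, hff, hfp, ⟨φ⟩⟩ := Groth.Agent.Lib.Seat37.CliffSetup.exists_split m b Q hQ
  have hb : Groth.Agent.Lib.Seat37.CliffLocal.EvenCentralScalar Q :=
    fun c hc hc0 => Groth.Agent.Lib.Seat37.CliffDescent.even_central_scalar A Q m φ c hc hc0
  obtain ⟨N, z, w, hz, hw, hsum⟩ :=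
    Groth.Agent.Lib.Seat37.CliffDescent.exists_odd_central_pairs A Q m φ b
  obtain ⟨U⟩ := Groth.Agent.Lib.Seat37.CliffLocal.exists_oddCentralUnit hb z w hz hw hsum
  exact ⟨U.ζ, U.ζ_central, U.ζ_odd, U.isUnit,
    Groth.Agent.Lib.Seat37.CliffLocal.sq_scalar U hb,
    Groth.Agent.Lib.Seat37.CliffLocal.linearIndependent U,
    Groth.Agent.Lib.Seat37.CliffLocal.center_eq_span U hb⟩

end Groth.Agent.S16999
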