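import Groth.Statements.S1700
import Groth.Agent.S1570
import Groth.Agent.Lib.Seat8NoEmb
import Groth.Agent.Lib.Seat8UFDPrincipal

set_option autoImplicit false
universe u
open CategoryTheory CategoryTheory.Limits AlgebraicGeometry TopologicalSpace
open SDiv

namespace Groth.Agent.S1700

/-- Let X be a Noetherian scheme and 𝓘 a quasi-coherent ideal sheaf with closed subscheme Z such that
(1) Z has no embedded points: every point of Z whose local ring has its maximal ideal associated is
a maximal point of Z; (2) every maximal point of Z has codimension 1 in X (the local ring of X there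
has dimension 1); (3) the local ring of X at every point of Z is a unique factorisation domain. Then
𝓘 is the ideal sheaf of an effective Cartier divisor. -/
theorem result (X : Scheme.{u}) [IsNoetherian X] (𝓘 : X.IdealSheafData)
    (h1 : ∀ z : ↥𝓘.subscheme, IsAssociatedPrime (IsLocalRing.maximalIdeal ↑(𝓘.subscheme.presheaf.stalk z)) ↑(𝓘.subscheme.presheaf.stalk z) → ∀ z' : ↥𝓘.subscheme, z' ⤳ z → z' = z)
    (h2 : ∀ z : ↥𝓘.subscheme, (∀ z' : ↥𝓘.subscheme, z' ⤳ z → z' = z) →
      ringKrullDim (X.presheaf.stalk (𝓘.subschemeι z)) = 1)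
    (h3 : ∀ x : ↥X, x ∈ 𝓘.support → IsDomain (X.presheaf.stalk x) ∧ UniqueFactorizationMonoid (X.presheaf.stalk x)) :
    BlowUp.IsEffCartierIdeal 𝓘 := by
  classical
  apply Groth.Agent.S1570.result X 𝓘
  intro x hx U hxU
  obtain ⟨hdom, hufd'⟩ := h3 x hx
  have key := Groth.Agent.Lib.Seat8.NoEmb.height_eq_one_of_isAssociatedPrime X 𝓘 h1 h2 x U hxU
  have hIne : (𝓘.ideal U).map (X.presheaf.germ U.1 x hxU).hom ≠ ⊥ := by
    intro h0
    rw [h0] at key
    have hbot : IsAssociatedPrime (⊥ : Ideal (X.presheaf.stalk x))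
        (X.presheaf.stalk x ⧸ (⊥ : Ideal (X.presheaf.stalk x))) := by
      refine ⟨Ideal.isPrime_bot, Ideal.Quotient.mk _ 1, ?_⟩
      have hcolon : (Submodule.colon (⊥ : Submodule (X.presheaf.stalk x)
          (X.presheaf.stalk x ⧸ (⊥ : Ideal (X.presheaf.stalk x))))
          {Ideal.Quotient.mk (⊥ : Ideal (X.presheaf.stalk x)) 1} : Ideal (X.presheaf.stalk x)) = ⊥ := by
        ext r
        rw [Submodule.mem_colon_singleton, Submodule.mem_bot]
        have e1 : r • (Ideal.Quotient.mk (⊥ : Ideal (X.presheaf.stalk x))) 1 =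
            Ideal.Quotient.mk (⊥ : Ideal (X.presheaf.stalk x)) (r * 1) := rfl
        rw [e1, Ideal.Quotient.eq_zero_iff_mem, mul_one]
      rw [hcolon]
      exact (Ideal.isPrime_bot.radical).symm
    have := key ⊥ hbot
    rw [Ideal.height_bot] at this
    exact zero_ne_one this
  obtain ⟨g, hg⟩ := Groth.Agent.Lib.Seat8.UFDPrincipal.isPrincipal_of_forall_height_eq_one _ hIne key
  refine ⟨g, ?_, hg⟩
  apply mem_nonZeroDivisors_of_ne_zero
  rintro rfl
  apply hIne
  rw [hg]
  simp

end Groth.Agent.S1700
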