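import Groth.Statements.S17000
import Groth.Agent.Lib.Seat37QuadBridgeS
import Groth.Agent.Lib.Seat37QuadSOEvenZ
-- import your own Groth.Agent.* helpers here

set_option autoImplicit false
open CategoryTheory AlgebraicGeometry
open QuadGrp

namespace Groth.Agent.S17000

/-- For m ≥ 1, a group scheme over Spec ℤ which is the naive special orthogonal group (kernel of the
determinant on the orthogonal group) of the standard split quadratic form in 2m variables is a
reduced scheme and is not flat over ℤ. (The published statement also identifies the complement of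
the Dickson special orthogonal group inside it with the non-identity component of the orthogonal
group in characteristic 2.) -/
theorem result (m : ℕ) (hm : 1 ≤ m)
    (G : Over (Spec (CommRingCat.of ℤ))) [GrpObj G] (D : QuadGrp.SOrth'Rep (QuadGrp.splitForm ℤ (2 * m)) G) :
    AlgebraicGeometry.IsReduced G.left ∧ ¬ AlgebraicGeometry.Flat G.hom := by
  obtain ⟨c⟩ := Groth.Agent.Lib.Seat37.QuadBridge.nonempty_iso true (QuadGrp.splitForm ℤ (2 * m))
    (fun A _ _ => sorth' (QuadGrp.splitForm ℤ (2 * m)) A)
    (Groth.Agent.Lib.Seat37.QuadBridgeS.hS_sorth' (QuadGrp.splitForm ℤ (2 * m))) D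
  have htab : Groth.Agent.Lib.Seat37.QuadBridge.tabQ (QuadGrp.splitForm ℤ (2 * m)) =
      Groth.Agent.Lib.Seat37.QuadSplitEven.bspE ℤ (2 * m) :=
    Groth.Agent.Lib.Seat37.QuadSplitEven.coeffs_splitForm_even ℤ m
  obtain ⟨hred, hnf⟩ := Groth.Agent.Lib.Seat37.QuadSOEvenZ.main m hm
  rw [← htab] at hred hnf
  exact ⟨Groth.Agent.Lib.Seat37.QuadBridgeS.isReduced_of_iso _ c hred,
    fun hflat => hnf (Groth.Agent.Lib.Seat37.QuadBridgeS.flat_of_iso _ c hflat)⟩

end Groth.Agent.S17000
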