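import Groth.Statements.S17009
import Groth.Agent.Lib.Seat37CliffEvenAz
import Groth.Agent.Lib.Seat37CliffPin
import Groth.Agent.Lib.Seat77AzInvA

set_option autoImplicit false
universe u v
open QuadGrp

namespace Groth.Agent.S17009

/-- For a quadratic form Q on a finite free module M of even rank 2m ≥ 2 over a commutative ring whose
polar form is a perfect pairing, every unit of the Clifford algebra normalising M is locally
homogeneous for the ℤ/2-grading (some idempotent e of the base has e u even and (1 − e) u odd), so
the naive Clifford group is contained in, hence equal to, the Clifford group of locally homogeneous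
normalising units. (False for degenerate forms: for the zero form on a rank-two module over the
field with two elements, 1 + v normalises the module and is not locally homogeneous.) -/
theorem result {R : Type u} [CommRing R] {M : Type v} [AddCommGroup M] [Module R M] [Module.Free R M] [Module.Finite R M]
    (m : ℕ) (hm : 1 ≤ m) (hM : Module.finrank R M = 2 * m) (Q : QuadraticForm R M) (hQ : QuadGrp.IsRegular Q) :
    QuadGrp.GPin' Q ≤ QuadGrp.LH Q := by
  rcases subsingleton_or_nontrivial R with hsub | hnt
  · exfalso
    have h1 : Module.finrank R M = 1 := by
      rw [Module.finrank, rank_subsingleton]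
      simp
    omega
  have b : Module.Basis (Fin (2 * m)) R M := Module.finBasisOfFinrankEq R M hM
  have hAz : IsAzumaya R (CliffordAlgebra Q) :=
    Groth.Agent.Lib.Seat37.CliffEvenAz.isAzumaya_clifford m b Q hQ
  intro u hu
  obtain ⟨hc0, -⟩ := Groth.Agent.Lib.Seat37.CliffPin.central_parts Q u hu
  obtain ⟨a, ha⟩ := Groth.Agent.Lib.Seat77.AzInvA.mem_range_algebraMap_of_central (R := R)
    ((↑u⁻¹ : CliffordAlgebra Q) * Groth.Agent.Lib.Seat37.CliffDescent.P0 Q (u : CliffordAlgebra Q))
    (fun x => (Subalgebra.mem_center_iff.mp hc0 x).symm)
  exact Groth.Agent.Lib.Seat37.CliffPin.isLocHomog_of_scalar Q u a ha.symm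

end Groth.Agent.S17009
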