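import Groth.Statements.S17007
import Groth.Agent.Lib.Seat37CliffDickson
import Groth.Agent.Lib.Seat37CliffReflect
import Groth.Agent.Lib.Seat37CliffAzumaya
import Groth.Agent.S16993
import Groth.Agent.S17009

set_option autoImplicit false
universe u v
open QuadGrp

namespace Groth.Agent.S17007

/-- Over a local ring, for a quadratic form Q on a finite free module of even rank 2m ≥ 2 whose polar
form is a perfect pairing, the isometries satisfying the Dickson condition form a subgroup of index
2 in the group of all isometries. (Points-level form, over a local base, of: the Dickson invariant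
from the orthogonal group onto the constant group ℤ/2 is surjective with kernel the special
orthogonal group.) -/
theorem result {R : Type u} [CommRing R] [IsLocalRing R]
    {M : Type v} [AddCommGroup M] [Module R M] [Module.Free R M] [Module.Finite R M]
    (m : ℕ) (hm : 1 ≤ m) (hM : Module.finrank R M = 2 * m) (Q : QuadraticForm R M) (hQ : QuadGrp.IsRegular Q) :
    ((QuadGrp.SOeven Q).subgroupOf (QuadGrp.O Q)).index = 2 := by
  have b : Module.Basis (Fin (2 * m)) R M := Module.finBasisOfFinrankEq R M hM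
  -- an odd unit normalising `M`
  obtain ⟨v, hv⟩ := Groth.Agent.Lib.Seat37.CliffReflect.exists_isUnit_value Q b (by omega) hQ
  obtain ⟨c, hc⟩ := hv.exists_left_inv
  set u₀ := Groth.Agent.Lib.Seat37.CliffReflect.ιUnit Q v c hc with hu₀
  set g₀ := Groth.Agent.Lib.Seat37.CliffReflect.negRefl Q v c hc with hg₀
  have hg₀O : g₀ ∈ QuadGrp.O Q := Groth.Agent.Lib.Seat37.CliffReflect.negRefl_mem_O Q v c hc
  have hconj₀ : ∀ x : M, (u₀ : CliffordAlgebra Q) * CliffordAlgebra.ι Q x * ↑u₀⁻¹ =
      CliffordAlgebra.ι Q (g₀ x) := Groth.Agent.Lib.Seat37.CliffReflect.ιUnit_conj Q v c hc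
  have hodd₀ : (u₀ : CliffordAlgebra Q) ∈ CliffordAlgebra.evenOdd Q 1 :=
    Groth.Agent.Lib.Seat37.CliffReflect.ιUnit_odd Q v c hc
  rw [Subgroup.index_eq_two_iff_exists_notMem_and]
  refine ⟨⟨g₀, hg₀O⟩, ?_, ?_⟩
  · rw [Subgroup.mem_subgroupOf]
    rintro ⟨hgO', hD⟩
    exact Groth.Agent.Lib.Seat37.CliffDickson.not_dickson_of_odd Q m b hQ u₀ g₀ hgO' hconj₀ hodd₀ hD
  · rintro ⟨g, hgO⟩
    rw [Subgroup.mem_subgroupOf, Subgroup.mem_subgroupOf]
    obtain ⟨u, huG, hconj⟩ := Groth.Agent.S16993.result m hm hM Q hQ g hgO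
    have hLH : u ∈ QuadGrp.LH Q := Groth.Agent.S17009.result m hm hM Q hQ huG
    obtain ⟨e, he, h0, h1⟩ := hLH
    rcases Groth.Agent.Lib.Seat37.CliffDickson.idem_local e he with rfl | rfl
    · -- `u` odd: `u * u₀` is even
      left
      rw [sub_zero, one_smul] at h1
      have hmulO : g * g₀ ∈ QuadGrp.O Q := (QuadGrp.O Q).mul_mem hgO hg₀O
      have hconj' : ∀ x : M, ((u * u₀ : (CliffordAlgebra Q)ˣ) : CliffordAlgebra Q) *
          CliffordAlgebra.ι Q x * ↑(u * u₀)⁻¹ = CliffordAlgebra.ι Q ((g * g₀) x) := by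
        intro x
        rw [mul_inv_rev, Units.val_mul, Units.val_mul, LinearEquiv.mul_apply, ← hconj, ← hconj₀]
        simp only [mul_assoc]
      have heven : ((u * u₀ : (CliffordAlgebra Q)ˣ) : CliffordAlgebra Q) ∈
          CliffordAlgebra.evenOdd Q 0 := by
        rw [Units.val_mul]
        have := Groth.Agent.Lib.Seat37.CliffGrade.evenOdd_mul_mem Q 1 1 _ _ h1 hodd₀
        rwa [show (1 : ZMod 2) + 1 = 0 from rfl] at this
      exact ⟨hmulO, Groth.Agent.Lib.Seat37.CliffDickson.dickson_of_even Q (u * u₀) (g * g₀) hmulO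
        hconj' heven⟩
    · right
      rw [one_smul] at h0
      exact ⟨hgO, Groth.Agent.Lib.Seat37.CliffDickson.dickson_of_even Q u g hgO hconj h0⟩

end Groth.Agent.S17007
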