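import Groth.Statements.S17008
import Groth.Agent.Lib.Seat37CliffDickson
import Groth.Agent.S16993
import Groth.Agent.S17009

set_option autoImplicit false
universe u v
open QuadGrp

namespace Groth.Agent.S17008

/-- Over a local ring, let Q be a quadratic form on a finite free module M of even rank 2m ≥ 2 whose
polar form is a perfect pairing. Then every isometry of Q satisfying the Dickson condition is
conjugation by a point of the even Clifford group: an even, locally homogeneous unit u of C(Q)
normalising M with u v u⁻¹ = g v for all v in M. (Points-level form over a local base of: the even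
Clifford group is a central extension of the special orthogonal group by the multiplicative group.) -/
theorem result {R : Type u} [CommRing R] [IsLocalRing R]
    {M : Type v} [AddCommGroup M] [Module R M] [Module.Free R M] [Module.Finite R M]
    (m : ℕ) (hm : 1 ≤ m) (hM : Module.finrank R M = 2 * m) (Q : QuadraticForm R M) (hQ : QuadGrp.IsRegular Q)
    (g : M ≃ₗ[R] M) (hg : g ∈ QuadGrp.SOeven Q) :
    ∃ u ∈ QuadGrp.GSpin Q, ∀ v : M,
      (u : CliffordAlgebra Q) * CliffordAlgebra.ι Q v * ↑u⁻¹ = CliffordAlgebra.ι Q (g v) := by
  obtain ⟨hgO, hD⟩ := hg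
  have b : Module.Basis (Fin (2 * m)) R M := Module.finBasisOfFinrankEq R M hM
  obtain ⟨u, huG, hconj⟩ := Groth.Agent.S16993.result m hm hM Q hQ g hgO
  have hLH : u ∈ QuadGrp.LH Q := Groth.Agent.S17009.result m hm hM Q hQ huG
  obtain ⟨e, he, h0, h1⟩ := hLH
  rcases Groth.Agent.Lib.Seat37.CliffDickson.idem_local e he with rfl | rfl
  · exfalso
    rw [sub_zero, one_smul] at h1
    exact Groth.Agent.Lib.Seat37.CliffDickson.not_dickson_of_odd Q m b hQ u g hgO hconj h1 hD
  · rw [one_smul] at h0
    refine ⟨u, ⟨⟨huG, ⟨1, IsIdempotentElem.one, by rwa [one_smul], ?_⟩⟩, h0⟩, hconj⟩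
    rw [sub_self, zero_smul]
    exact Submodule.zero_mem _

end Groth.Agent.S17008
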