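import Groth.Statements.S17080

set_option autoImplicit false
universe u
open CategoryTheory CategoryTheory.Limits AlgebraicGeometry
open MorSch

namespace Groth.Agent.S17080

section lifts

variable {S A B : Scheme.{u}} (k : A ⟶ B) [IsOpenImmersion k] (b : B ⟶ S)

/-- the morphism `(A, k ≫ b) ⟶ (B, b)` of `S`-schemes given by `k`. -/
noncomputable abbrev kO : Over.mk (k ≫ b) ⟶ Over.mk b := Over.homMk k rfl

instance : Mono (kO k b) := (Over.forget S).mono_of_mono_map (inferInstanceAs (Mono k))

/-- lifting a morphism of `S`-schemes along an open immersion containing its range. -/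
noncomputable def overLift {W : Over S} (ψ : W ⟶ Over.mk b)
    (h : Set.range ψ.left ⊆ Set.range k) : W ⟶ Over.mk (k ≫ b) :=
  Over.homMk (IsOpenImmersion.lift k ψ.left h) (by
    show IsOpenImmersion.lift k ψ.left h ≫ k ≫ b = W.hom
    rw [← Category.assoc, IsOpenImmersion.lift_fac]
    exact Over.w ψ)

theorem overLift_comp {W : Over S} (ψ : W ⟶ Over.mk b)
    (h : Set.range ψ.left ⊆ Set.range k) : overLift k b ψ h ≫ kO k b = ψ := by
  apply Over.OverMorphism.ext
  exact IsOpenImmersion.lift_fac _ _ _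

omit [IsOpenImmersion k] in
theorem range_comp_kO {W : Over S} (ψ : W ⟶ Over.mk (k ≫ b)) :
    Set.range (ψ ≫ kO k b).left ⊆ Set.range k := by
  rintro _ ⟨w, rfl⟩
  exact ⟨ψ.left w, rfl⟩

end lifts

section main

variable {X Y U S : Scheme.{u}} (gX : X ⟶ S) (gY : Y ⟶ S) (j : U ⟶ Y) [IsOpenImmersion j]
  (M : Over S) (e : (Flatn.morS gX gY).RepresentableBy M)

/-- `T ×_S X` as an `S`-scheme. -/
noncomputable abbrev PT (T : Over S) : Over S := (Over.map gX).obj ((Over.pullback gX).obj T)

/-- the map `T' ×_S X ⟶ T ×_S X` induced by `φ`. -/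
noncomputable abbrev Pmap {T T' : Over S} (φ : T' ⟶ T) : PT gX T' ⟶ PT gX T :=
  (Over.map gX).map ((Over.pullback gX).map φ)

theorem homEquiv_eq {T : Over S} (φ : T ⟶ M) :
    e.homEquiv φ = Pmap gX φ ≫ e.homEquiv (𝟙 M) := by
  have := e.homEquiv_comp φ (𝟙 M)
  rw [Category.comp_id] at this
  exact this

theorem Pmap_fst {T T' : Over S} (φ : T' ⟶ T) :
    (Pmap gX φ).left ≫ pullback.fst T.hom gX = pullback.fst T'.hom gX ≫ φ.left :=
  pullback.lift_fst _ _ _

theorem Pmap_snd {T T' : Over S} (φ : T' ⟶ T) :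
    (Pmap gX φ).left ≫ pullback.snd T.hom gX = pullback.snd T'.hom gX :=
  pullback.lift_snd _ _ _

theorem isPullback_Pmap {T T' : Over S} (φ : T' ⟶ T) :
    IsPullback (Pmap gX φ).left (pullback.fst T'.hom gX) (pullback.fst T.hom gX) φ.left := by
  refine IsPullback.of_right (h₁₂ := pullback.snd T.hom gX) (h₂₂ := T.hom) (v₁₃ := gX) ?_
    (Pmap_fst gX φ) (IsPullback.of_hasPullback T.hom gX).flip
  rw [Pmap_snd, Over.w φ]
  exact (IsPullback.of_hasPullback T'.hom gX).flip

/-- the points of `M` over which the universal morphism does not land in `U`. -/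
def badSet : Set M.left :=
  (pullback.fst M.hom gX) '' ((e.homEquiv (𝟙 M)).left ⁻¹' (Set.range j)ᶜ)

theorem isClosed_badSet [IsProper gX] : IsClosed (badSet gX gY j M e) := by
  apply (pullback.fst M.hom gX).isClosedMap
  apply IsClosed.preimage (e.homEquiv (𝟙 M)).left.continuous
  exact j.isOpenEmbedding.isOpen_range.isClosed_compl

/-- the open subset of `M` over which the universal morphism lands in `U`. -/
def M0 [IsProper gX] : M.left.Opens :=
  ⟨(badSet gX gY j M e)ᶜ, (isClosed_badSet gX gY j M e).isOpen_compl⟩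

theorem range_homEquiv_subset [IsProper gX] {T : Over S} (φ : T ⟶ M)
    (h : Set.range φ.left ⊆ (M0 gX gY j M e : Set M.left)) :
    Set.range (e.homEquiv φ).left ⊆ Set.range j := by
  rintro _ ⟨w, rfl⟩
  by_contra hn
  apply h ⟨pullback.fst T.hom gX w, rfl⟩
  refine ⟨(Pmap gX φ).left w, ?_, ?_⟩
  · show (e.homEquiv (𝟙 M)).left ((Pmap gX φ).left w) ∉ Set.range j
    rw [homEquiv_eq] at hn
    exact hn
  · rw [← Scheme.Hom.comp_apply, Pmap_fst, Scheme.Hom.comp_apply]

theorem range_subset_M0 [IsProper gX] {T : Over S} (φ : T ⟶ M)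
    (b' : PT gX T ⟶ Over.mk gY) (hb : e.homEquiv φ = b')
    (h : Set.range b'.left ⊆ Set.range j) :
    Set.range φ.left ⊆ (M0 gX gY j M e : Set M.left) := by
  rintro _ ⟨t, rfl⟩ ⟨m', hm', hm't⟩
  obtain ⟨w, hw1, -⟩ := Scheme.exists_preimage_of_isPullback (isPullback_Pmap gX φ) m' t hm't
  apply hm'
  have := h ⟨w, rfl⟩
  rw [← hb, homEquiv_eq] at this
  rw [← hw1]
  exact this

/-- the inclusion of the open `M₀` as a morphism of `S`-schemes. -/
noncomputable abbrev ιM [IsProper gX] :
    Over.mk ((M0 gX gY j M e).ι ≫ M.hom) ⟶ Over.mk M.hom :=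
  kO (M0 gX gY j M e).ι M.hom

noncomputable def toFun0 [IsProper gX] {T : Over S}
    (φ : T ⟶ Over.mk ((M0 gX gY j M e).ι ≫ M.hom)) : PT gX T ⟶ Over.mk (j ≫ gY) :=
  overLift j gY (e.homEquiv (φ ≫ ιM gX gY j M e))
    (range_homEquiv_subset gX gY j M e _ (by
      have := range_comp_kO (M0 gX gY j M e).ι M.hom φ
      rwa [Scheme.Opens.range_ι] at this))

theorem toFun0_comp [IsProper gX] {T : Over S}
    (φ : T ⟶ Over.mk ((M0 gX gY j M e).ι ≫ M.hom)) :
    toFun0 gX gY j M e φ ≫ kO j gY = e.homEquiv (φ ≫ ιM gX gY j M e) :=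
  overLift_comp j gY _ _

noncomputable def invFun0 [IsProper gX] {T : Over S} (b : PT gX T ⟶ Over.mk (j ≫ gY)) :
    T ⟶ Over.mk ((M0 gX gY j M e).ι ≫ M.hom) :=
  overLift (M0 gX gY j M e).ι M.hom (e.homEquiv.symm (b ≫ kO j gY)) (by
    rw [Scheme.Opens.range_ι]
    exact range_subset_M0 gX gY j M e _ (b ≫ kO j gY) (e.homEquiv.apply_symm_apply _)
      (range_comp_kO j gY b))

theorem invFun0_comp [IsProper gX] {T : Over S} (b : PT gX T ⟶ Over.mk (j ≫ gY)) :
    invFun0 gX gY j M e b ≫ ιM gX gY j M e = e.homEquiv.symm (b ≫ kO j gY) :=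
  overLift_comp _ _ _ _

/-- the representation of `Mor_S(X, U)` by the open subscheme `M₀`. -/
noncomputable def e0 [IsProper gX] :
    (Flatn.morS gX (j ≫ gY)).RepresentableBy
      (Over.mk ((M0 gX gY j M e).ι ≫ M.hom)) where
  homEquiv {T} :=
    { toFun := fun φ => toFun0 gX gY j M e φ
      invFun := fun b => invFun0 gX gY j M e b
      left_inv := fun φ => by
        apply (cancel_mono (ιM gX gY j M e)).mp
        exact (invFun0_comp gX gY j M e _).trans
          ((Equiv.symm_apply_eq _).mpr (toFun0_comp gX gY j M e φ))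
      right_inv := fun b => by
        apply (cancel_mono (kO j gY)).mp
        exact (toFun0_comp gX gY j M e _).trans
          ((congrArg e.homEquiv (invFun0_comp gX gY j M e b)).trans
            (e.homEquiv.apply_symm_apply _)) }
  homEquiv_comp {T T'} φ ψ := by
    apply (cancel_mono (kO j gY)).mp
    show toFun0 gX gY j M e (φ ≫ ψ) ≫ kO j gY = (Pmap gX φ ≫ toFun0 gX gY j M e ψ) ≫ kO j gY
    refine (toFun0_comp gX gY j M e (φ ≫ ψ)).trans ?_
    refine Eq.trans ?_ (Category.assoc _ _ _).symm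
    refine Eq.trans ?_ (congrArg (Pmap gX φ ≫ ·) (toFun0_comp gX gY j M e ψ)).symm
    exact (congrArg e.homEquiv (Category.assoc φ ψ _)).trans
      (e.homEquiv_comp φ (ψ ≫ ιM gX gY j M e))

end main

/-- Let gX : X → S be proper and flat, gY : Y → S separated and j : U → Y an open immersion, and suppose
the functor Mor_S(X, Y) — S-schemes T ↦ S-morphisms T ×_S X → Y — is represented by an S-scheme M
via e. Then there are an open subset M₀ of M and a representation e₀ of Mor_S(X, U) by the open
subscheme M₀ (viewed over S through M) which is compatible with e: for every S-morphism φ : T → M₀,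
the S-morphism T ×_S X → Y classified by φ followed by the inclusion M₀ → M is the S-morphism T ×_S
X → U classified by φ, followed by j. In particular the morphism Mor_S(X, U) → Mor_S(X, Y) induced
by j is an open immersion. (Published for X projective and flat and Y quasi-projective over a
locally Noetherian S, which is how M is known to exist there; representability is taken as a
hypothesis here.) -/
theorem result
    {X Y U S : Scheme.{u}} (gX : X ⟶ S) [IsProper gX] [Flat gX] (gY : Y ⟶ S) [IsSeparated gY]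
    (j : U ⟶ Y) [IsOpenImmersion j] (M : Over S) (e : (Flatn.morS gX gY).RepresentableBy M) :
    ∃ (M₀ : M.left.Opens)
      (e₀ : (Flatn.morS gX (j ≫ gY)).RepresentableBy (Over.mk (M₀.ι ≫ M.hom))),
      ∀ (T : Over S) (φ : T ⟶ Over.mk (M₀.ι ≫ M.hom)),
        (e.homEquiv (φ ≫ Over.homMk M₀.ι rfl) :
            (Over.map gX).obj ((Over.pullback gX).obj T) ⟶ Over.mk gY) =
          (e₀.homEquiv φ : (Over.map gX).obj ((Over.pullback gX).obj T) ⟶ Over.mk (j ≫ gY)) ≫
            (Over.homMk j rfl : Over.mk (j ≫ gY) ⟶ Over.mk gY) := by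
  refine ⟨M0 gX gY j M e, e0 gX gY j M e, fun T φ => ?_⟩
  exact (toFun0_comp gX gY j M e φ).symm

end Groth.Agent.S17080
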