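import Groth.Statements.S17081
import Groth.Agent.Lib.Seat82Hilb

set_option autoImplicit false
universe u
open CategoryTheory CategoryTheory.Limits AlgebraicGeometry
open MorSch

namespace Groth.Agent.S17081

open Groth.Agent.Lib.Seat82.Hilb Scheme.IdealSheafData

section aux

variable {X S S' : Scheme.{u}} (f : X ⟶ S) (h : S' ⟶ S)

/-- the `S`-scheme underlying an `S'`-scheme. -/
noncomputable abbrev down (T' : Over S') : Over S := Over.mk (T'.hom ≫ h)

/-- `X' ×_{S'} T' ≅ X ×_S T'`. -/
noncomputable def eIso (T' : Over S') :
    PicF.XT (pullback.snd f h) T' ≅ PicF.XT f (down h T') :=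
  pullbackLeftPullbackSndIso f h T'.hom

/-- the comparison `X' ×_{S'} H' ⟶ X ×_S H`. -/
noncomputable abbrev mMap (H : Over S) :
    PicF.XT (pullback.snd f h) (Over.mk (pullback.snd H.hom h)) ⟶ PicF.XT f H :=
  pullback.map (pullback.snd f h) (pullback.snd H.hom h) f H.hom (pullback.fst f h)
    (pullback.fst H.hom h) h pullback.condition.symm pullback.condition.symm

set_option backward.isDefEq.respectTransparency false in
theorem eIso_inv_proj (T' : Over S') :
    (eIso f h T').inv ≫ PicF.XTproj (pullback.snd f h) T' = PicF.XTproj f (down h T') := by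
  simp [eIso, PicF.XTproj]

set_option backward.isDefEq.respectTransparency false in
theorem key (H : Over S) (T' : Over S') (g : T' ⟶ Over.mk (pullback.snd H.hom h))
    (g₀ : down h T' ⟶ H) (hg : g₀.left = g.left ≫ pullback.fst H.hom h) :
    PicF.XTmap (pullback.snd f h) g ≫ mMap f h H = (eIso f h T').hom ≫ PicF.XTmap f g₀ := by
  apply pullback.hom_ext
  · simp [PicF.XTmap, eIso, mMap]
  · simp [PicF.XTmap, eIso, mMap, hg]

end aux

/-- Let S and S' be Noetherian schemes, h : S' → S and f : X → S morphisms, and (H, Z) a pair
representing the Hilbert functor of X over S on locally Noetherian S-schemes (H locally Noetherian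
over S; Z ⊆ X ×_S H closed, proper and flat over H; every closed subscheme of X ×_S T proper and
flat over a locally Noetherian S-scheme T is the pullback of Z along a unique S-morphism T → H),
with H locally of finite type over S. Write X' = X ×_S S' → S' and H' = H ×_S S' → S', and let Z' ⊆
X' ×_{S'} H' be the closed subscheme pulled back from Z along the morphism X' ×_{S'} H' → X ×_S H
induced by the projections X' → X and H' → H. Then (H', Z') represents the Hilbert functor of X'
over S'. (Published for X flat and projective over S, which is how (H, Z) is known to exist there;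
representability is taken as a hypothesis here; the hypothesis that H is locally of finite type over
S is added here (it holds for the Hilbert scheme of a flat projective scheme) so that H ×_S S' is
locally Noetherian.) -/
theorem result
    {X S S' : Scheme.{u}} [IsNoetherian S] [IsNoetherian S'] (f : X ⟶ S) (h : S' ⟶ S)
    (H : Over S) (Z : FGA.HilbSet f H) (hH : FGA.HilbRepresentedBy f H Z)
    [LocallyOfFiniteType H.hom]
    (Z' : FGA.HilbSet (pullback.snd f h) (Over.mk (pullback.snd H.hom h)))
    (hZ' : Z'.1 = Z.1.comap (pullback.map (pullback.snd f h) (pullback.snd H.hom h) f H.hom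
      (pullback.fst f h) (pullback.fst H.hom h) h pullback.condition.symm pullback.condition.symm)) :
    FGA.HilbRepresentedBy (pullback.snd f h) (Over.mk (pullback.snd H.hom h)) Z' := by
  obtain ⟨hHn, hHu⟩ := hH
  refine ⟨?_, ?_⟩
  · show IsLocallyNoetherian (pullback H.hom h)
    exact LocallyOfFiniteType.isLocallyNoetherian (pullback.snd H.hom h)
  · intro T' _ Y
    have hZ'' : Z'.1 = Z.1.comap (mMap f h H) := hZ'
    have : IsLocallyNoetherian (down h T').left := ‹IsLocallyNoetherian T'.left›
    have : IsProper (Y.1.subschemeι ≫ PicF.XTproj (pullback.snd f h) T') := Y.2.1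
    have : Flat (Y.1.subschemeι ≫ PicF.XTproj (pullback.snd f h) T') := Y.2.2
    let Y₀ : FGA.HilbSet f (down h T') :=
      ⟨Y.1.comap (eIso f h T').inv,
        isProper_comap_of_isIso (eIso f h T').inv Y.1 _ _ (eIso_inv_proj f h T'),
        flat_comap_of_isIso (eIso f h T').inv Y.1 _ _ (eIso_inv_proj f h T')⟩
    obtain ⟨g₀, hg₀, hg₀u⟩ := hHu (down h T') Y₀
    have hw : g₀.left ≫ H.hom = T'.hom ≫ h := Over.w g₀
    let g : T' ⟶ Over.mk (pullback.snd H.hom h) :=
      Over.homMk (pullback.lift g₀.left T'.hom hw) (pullback.lift_snd _ _ _)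
    have hgl : g₀.left = g.left ≫ pullback.fst H.hom h := (pullback.lift_fst _ _ _).symm
    refine ⟨g, ?_, ?_⟩
    · show FGA.hilbPull (pullback.snd f h) g Z'.1 = Y.1
      rw [hilbPull_eq_comap, hZ'', ← comap_comp, key f h H T' g g₀ hgl, comap_comp,
        ← hilbPull_eq_comap, hg₀]
      exact comap_inv_comap_hom (eIso f h T') Y.1
    · intro g' hg'
      have hw' : (g'.left ≫ pullback.fst H.hom h) ≫ H.hom = T'.hom ≫ h := by
        have := Over.w g'
        simp only [Over.mk_hom] at this
        rw [Category.assoc, pullback.condition, ← Category.assoc, this]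
      let g₀' : down h T' ⟶ H := Over.homMk (g'.left ≫ pullback.fst H.hom h) hw'
      have hgl' : g₀'.left = g'.left ≫ pullback.fst H.hom h := rfl
      have h1 : FGA.hilbPull f g₀' Z.1 = Y₀.1 := by
        show _ = Y.1.comap (eIso f h T').inv
        calc FGA.hilbPull f g₀' Z.1 = Z.1.comap (PicF.XTmap f g₀') := hilbPull_eq_comap ..
          _ = (Z.1.comap ((eIso f h T').hom ≫ PicF.XTmap f g₀')).comap (eIso f h T').inv := by
            rw [comap_comp]; exact (comap_hom_comap_inv (eIso f h T') _).symm
          _ = (Z.1.comap (PicF.XTmap (pullback.snd f h) g' ≫ mMap f h H)).comap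
                (eIso f h T').inv := by rw [key f h H T' g' g₀' hgl']
          _ = ((Z.1.comap (mMap f h H)).comap (PicF.XTmap (pullback.snd f h) g')).comap
                (eIso f h T').inv := by rw [comap_comp]
          _ = (FGA.hilbPull (pullback.snd f h) g' Z'.1).comap (eIso f h T').inv := by
            rw [hilbPull_eq_comap, hZ'']
          _ = Y.1.comap (eIso f h T').inv := by rw [hg']
      have h2 : g₀' = g₀ := hg₀u g₀' h1
      apply Over.OverMorphism.ext
      apply pullback.hom_ext
      · have : g'.left ≫ pullback.fst H.hom h = g₀.left := by rw [← hgl', h2]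
        rw [this]; exact (pullback.lift_fst _ _ _).symm
      · have := Over.w g'
        simp only [Over.mk_hom] at this
        rw [this]; exact (pullback.lift_snd _ _ _).symm

end Groth.Agent.S17081
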