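import Groth.Statements.S17088
-- import your own Groth.Agent.* helpers here

set_option autoImplicit false
universe u
open CategoryTheory CategoryTheory.Limits AlgebraicGeometry
open MorSch

namespace Groth.Agent.S17088

/-- the comparison map `W ×_S T ⟶ X ×_S T` is the base change of `ι`. -/
theorem isPullback_map {W X S : Scheme.{u}} (f : X ⟶ S) (ι : W ⟶ X) (T : Over S) :
    IsPullback (pullback.fst (ι ≫ f) T.hom)
      (pullback.map (ι ≫ f) T.hom f T.hom ι (𝟙 T.left) (𝟙 S)
          (Category.comp_id _) ((Category.comp_id _).trans (Category.id_comp _).symm))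
      ι (pullback.fst f T.hom) := by
  apply IsPullback.flip
  refine IsPullback.of_right (h₁₂ := pullback.snd f T.hom) (h₂₂ := f) (v₁₃ := T.hom) ?_ ?_
    (IsPullback.of_hasPullback f T.hom).flip
  · have h : pullback.map (ι ≫ f) T.hom f T.hom ι (𝟙 T.left) (𝟙 S)
        (Category.comp_id _) ((Category.comp_id _).trans (Category.id_comp _).symm) ≫
        pullback.snd f T.hom = pullback.snd (ι ≫ f) T.hom := by
      rw [pullback.map, pullback.lift_snd, Category.comp_id]
    rw [h]
    exact (IsPullback.of_hasPullback (ι ≫ f) T.hom).flip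
  · rw [pullback.map, pullback.lift_fst]

theorem isImmersion_map {W X S : Scheme.{u}} (f : X ⟶ S) (ι : W ⟶ X) [IsImmersion ι] (T : Over S) :
    IsImmersion (pullback.map (ι ≫ f) T.hom f T.hom ι (𝟙 T.left) (𝟙 S)
          (Category.comp_id _) ((Category.comp_id _).trans (Category.id_comp _).symm)) :=
  MorphismProperty.of_isPullback (P := @IsImmersion) (isPullback_map f ι T) inferInstance

theorem isClosedImmersion_comp {W X S : Scheme.{u}} (f : X ⟶ S) [IsSeparated f] (ι : W ⟶ X)
    [IsImmersion ι] (T : Over S) (V : FGA.HilbSet (ι ≫ f) T) :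
    IsClosedImmersion (V.1.subschemeι ≫ pullback.map (ι ≫ f) T.hom f T.hom ι (𝟙 T.left) (𝟙 S)
          (Category.comp_id _) ((Category.comp_id _).trans (Category.id_comp _).symm)) := by
  have := isImmersion_map f ι T
  set m := pullback.map (ι ≫ f) T.hom f T.hom ι (𝟙 T.left) (𝟙 S)
          (Category.comp_id _) ((Category.comp_id _).trans (Category.id_comp _).symm) with hm
  have hms : m ≫ pullback.snd f T.hom = pullback.snd (ι ≫ f) T.hom := by
    rw [hm, pullback.map, pullback.lift_snd, Category.comp_id]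
  have : IsProper ((V.1.subschemeι ≫ m) ≫ pullback.snd f T.hom) := by
    rw [Category.assoc, hms]
    exact V.2.1
  have : IsProper (V.1.subschemeι ≫ m) := IsProper.of_comp _ (pullback.snd f T.hom)
  have : IsImmersion (V.1.subschemeι ≫ m) := inferInstance
  apply IsClosedImmersion.of_isPreimmersion
  exact (Scheme.Hom.isClosedMap (V.1.subschemeι ≫ m)).isClosed_range

/-- Let f : X → S be a separated morphism, ι : W → X an immersion and T an S-scheme. For every closed
subscheme V of W ×_S T which is proper and flat over T — a T-point of the Hilbert functor of W over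
S — the composite V → W ×_S T → X ×_S T is a closed immersion, and the map sending V to the ideal
sheaf of this composite, from T-points of the Hilbert functor of W to ideal sheaves on X ×_S T, is
injective: an immersion induces a monomorphism of Hilbert functors. -/
theorem result
    {W X S : Scheme.{u}} (f : X ⟶ S) [IsSeparated f] (ι : W ⟶ X) [IsImmersion ι]
    (T : Over S) :
    (∀ V : FGA.HilbSet (ι ≫ f) T,
      IsClosedImmersion (V.1.subschemeι ≫ pullback.map (ι ≫ f) T.hom f T.hom ι (𝟙 T.left) (𝟙 S)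
          (Category.comp_id _) ((Category.comp_id _).trans (Category.id_comp _).symm))) ∧
    Function.Injective (fun V : FGA.HilbSet (ι ≫ f) T =>
      (V.1.subschemeι ≫ pullback.map (ι ≫ f) T.hom f T.hom ι (𝟙 T.left) (𝟙 S)
          (Category.comp_id _) ((Category.comp_id _).trans (Category.id_comp _).symm)).ker) := by
  refine ⟨fun V => isClosedImmersion_comp f ι T V, ?_⟩
  intro V₁ V₂ h
  have := isImmersion_map f ι T
  have h₁ := isClosedImmersion_comp f ι T V₁
  have h₂ := isClosedImmersion_comp f ι T V₂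
  set m := pullback.map (ι ≫ f) T.hom f T.hom ι (𝟙 T.left) (𝟙 S)
          (Category.comp_id _) ((Category.comp_id _).trans (Category.id_comp _).symm) with hm
  have h' : (V₁.1.subschemeι ≫ m).ker = (V₂.1.subschemeι ≫ m).ker := h
  let l₁₂ := IsClosedImmersion.lift (V₂.1.subschemeι ≫ m) (V₁.1.subschemeι ≫ m) h'.ge
  let l₂₁ := IsClosedImmersion.lift (V₁.1.subschemeι ≫ m) (V₂.1.subschemeι ≫ m) h'.le
  have e₁₂ : l₁₂ ≫ (V₂.1.subschemeι ≫ m) = V₁.1.subschemeι ≫ m := IsClosedImmersion.lift_fac _ _ _
  have e₂₁ : l₂₁ ≫ (V₁.1.subschemeι ≫ m) = V₂.1.subschemeι ≫ m := IsClosedImmersion.lift_fac _ _ _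
  have i₁ : l₁₂ ≫ l₂₁ = 𝟙 _ := by
    rw [← cancel_mono (V₁.1.subschemeι ≫ m), Category.assoc, e₂₁, e₁₂, Category.id_comp]
  have i₂ : l₂₁ ≫ l₁₂ = 𝟙 _ := by
    rw [← cancel_mono (V₂.1.subschemeι ≫ m), Category.assoc, e₁₂, e₂₁, Category.id_comp]
  have : IsIso l₁₂ := ⟨l₂₁, i₁, i₂⟩
  have e : l₁₂ ≫ V₂.1.subschemeι = V₁.1.subschemeι := by
    rw [← cancel_mono m, Category.assoc, e₁₂]
  apply Subtype.ext
  calc V₁.1 = V₁.1.subschemeι.ker := (Scheme.IdealSheafData.ker_subschemeι _).symm
    _ = (l₁₂ ≫ V₂.1.subschemeι).ker := by rw [e]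
    _ = V₂.1.subschemeι.ker := Scheme.Hom.ker_comp_of_isIso _ _
    _ = V₂.1 := Scheme.IdealSheafData.ker_subschemeι _

end Groth.Agent.S17088
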