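import Groth.Statements.S17082
import Groth.Agent.S17088
import Groth.Agent.Lib.Seat82Hilb
import Groth.Agent.Lib.Seat82HilbOpen

set_option autoImplicit false
universe u
open CategoryTheory CategoryTheory.Limits AlgebraicGeometry
open MorSch

namespace Groth.Agent.S17082

open Groth.Agent.Lib.Seat82.Hilb Groth.Agent.Lib.Seat82.HilbOpen Scheme.IdealSheafData

section aux

variable {X U S : Scheme.{u}} (f : X ⟶ S) (j : U ⟶ X) [IsOpenImmersion j] (H : Over S)
  (Z : FGA.HilbSet f H)

/-- the points of `H` over which `Z` is not contained in `U ×_S H`. -/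
def badSet : Set H.left :=
  (Z.1.subschemeι ≫ PicF.XTproj f H) '' (Z.1.subschemeι ⁻¹' (Set.range (mT f j H))ᶜ)

theorem isClosed_badSet : IsClosed (badSet f j H Z) := by
  have : IsProper (Z.1.subschemeι ≫ PicF.XTproj f H) := Z.2.1
  apply (Z.1.subschemeι ≫ PicF.XTproj f H).isClosedMap
  apply IsClosed.preimage Z.1.subschemeι.continuous
  exact (mT f j H).isOpenEmbedding.isOpen_range.isClosed_compl

/-- the open subset of `H` over which `Z` is contained in `U ×_S H`. -/
def H0 : H.left.Opens := ⟨(badSet f j H Z)ᶜ, (isClosed_badSet f j H Z).isOpen_compl⟩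

theorem mem_range_of_mem_H0 (z : Z.1.subscheme)
    (hz : (Z.1.subschemeι ≫ PicF.XTproj f H) z ∈ H0 f j H Z) :
    Z.1.subschemeι z ∈ Set.range (mT f j H) := by
  by_contra hn
  exact hz ⟨z, hn, rfl⟩

end aux

/-- Let f : X → S be a separated morphism, j : U → X an open immersion, and (H, Z) a pair representing
the Hilbert functor of X over S on locally Noetherian S-schemes (H locally Noetherian over S; Z ⊆ X
×_S H closed, proper and flat over H; every closed subscheme of X ×_S T proper and flat over a
locally Noetherian S-scheme T is the pullback of Z along a unique S-morphism T → H). Then there are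
an open subset H₀ of H and a closed subscheme Z₀ ⊆ U ×_S H₀, proper and flat over H₀, such that Z₀
is the pullback of Z along the morphism U ×_S H₀ → X ×_S H induced by j and the inclusion of H₀, and
(H₀, Z₀) represents the Hilbert functor of U over S. So the Hilbert scheme of U over S exists and is
an open subscheme of that of X. (Published for X projective and flat over a Noetherian S in the
representable case; this row assumes only X separated over S and takes the Hilbert scheme of X as
given.) -/
theorem result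
    {X U S : Scheme.{u}} (f : X ⟶ S) [IsSeparated f] (j : U ⟶ X) [IsOpenImmersion j]
    (H : Over S) (Z : FGA.HilbSet f H) (hH : FGA.HilbRepresentedBy f H Z) :
    ∃ (H₀ : H.left.Opens) (Z₀ : FGA.HilbSet (j ≫ f) (Over.mk (H₀.ι ≫ H.hom))),
      Z₀.1 = Z.1.comap (pullback.map (j ≫ f) (H₀.ι ≫ H.hom) f H.hom j H₀.ι (𝟙 S)
        (Category.comp_id _) (Category.comp_id _)) ∧
      FGA.HilbRepresentedBy (j ≫ f) (Over.mk (H₀.ι ≫ H.hom)) Z₀ := by
  obtain ⟨hHn, hHu⟩ := hH
  have hZp : IsProper (Z.1.subschemeι ≫ PicF.XTproj f H) := Z.2.1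
  have hZf : Flat (Z.1.subschemeι ≫ PicF.XTproj f H) := Z.2.2
  set V := H0 f j H Z with hVdef
  obtain ⟨e, he⟩ := exists_iso_pullback f j H Z.1 V (mem_range_of_mem_H0 f j H Z)
  have hp0 : IsProper ((Z.1.comap (m0 f j H V)).subschemeι ≫ PicF.XTproj (j ≫ f) (overOpen H V)) := by
    rw [he]; infer_instance
  have hf0 : Flat ((Z.1.comap (m0 f j H V)).subschemeι ≫ PicF.XTproj (j ≫ f) (overOpen H V)) := by
    rw [he]; infer_instance
  refine ⟨V, ⟨Z.1.comap (m0 f j H V), hp0, hf0⟩, rfl, ?_, ?_⟩
  · exact isLocallyNoetherian_of_isOpenImmersion V.ι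
  · intro T _ Y
    have hYp : IsProper (Y.1.subschemeι ≫ PicF.XTproj (j ≫ f) T) := Y.2.1
    have hYf : Flat (Y.1.subschemeι ≫ PicF.XTproj (j ≫ f) T) := Y.2.2
    have hci : IsClosedImmersion (Y.1.subschemeι ≫ mT f j T) :=
      Groth.Agent.S17088.isClosedImmersion_comp f j T Y
    -- the closed subscheme of `X_T` defined by `Y`
    let Yb : FGA.HilbSet f T := ⟨Y.1.map (mT f j T),
      isProper_map (mT f j T) Y.1 _ _ (mT_proj f j T),
      flat_map (mT f j T) Y.1 _ _ (mT_proj f j T)⟩
    obtain ⟨g, hg, hgu⟩ := hHu T Yb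
    have hg' : Z.1.comap (PicF.XTmap f g) = Y.1.map (mT f j T) := by
      rw [← hilbPull_eq_comap]; exact hg
    -- `g` factors through `V`
    have hrange : Set.range g.left ⊆ Set.range V.ι := by
      rintro _ ⟨t, rfl⟩
      rw [Scheme.Opens.range_ι]
      by_contra hbad
      have hbad' : g.left t ∈ badSet f j H Z := not_not.mp hbad
      obtain ⟨z, hz, hzt⟩ := hbad'
      obtain ⟨w, hw1, hw2⟩ := Scheme.exists_preimage_of_isPullback (isPullback_XTmap f g)
        (Z.1.subschemeι z) t (by rw [← Scheme.Hom.comp_apply]; exact hzt)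
      have hwsupp : w ∈ ((Z.1.comap (PicF.XTmap f g)).support : Set _) := by
        rw [support_comap]
        show PicF.XTmap f g w ∈ (Z.1.support : Set _)
        rw [hw1, ← range_subschemeι]
        exact ⟨z, rfl⟩
      rw [hg', support_map_of_isClosedImmersion] at hwsupp
      obtain ⟨y, rfl⟩ := hwsupp
      apply hz
      rw [← hw1, Scheme.Hom.comp_apply, ← Scheme.Hom.comp_apply (mT f j T), mT_naturality,
        Scheme.Hom.comp_apply]
      exact ⟨_, rfl⟩
    let g₀l : T.left ⟶ V.toScheme := IsOpenImmersion.lift V.ι g.left hrange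
    have hg₀l : g₀l ≫ V.ι = g.left := IsOpenImmersion.lift_fac _ _ _
    let g₀ : T ⟶ overOpen H V := Over.homMk g₀l (by
      show g₀l ≫ V.ι ≫ H.hom = T.hom
      rw [← Category.assoc, hg₀l]; exact Over.w g)
    have hg₀ : g₀ ≫ ιO H V = g := by
      apply Over.OverMorphism.ext
      exact hg₀l
    have hnat : ∀ g₁ : T ⟶ overOpen H V,
        PicF.XTmap (j ≫ f) g₁ ≫ m0 f j H V = mT f j T ≫ PicF.XTmap f (g₁ ≫ ιO H V) := by
      intro g₁
      rw [m0_eq, mT_naturality, ← Category.assoc]
      congr 1
      apply pullback.hom_ext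
      · rw [Category.assoc, XTmap_fst, XTmap_fst, XTmap_fst]
      · rw [Category.assoc, XTmap_proj, ← Category.assoc, XTmap_proj, XTmap_proj, Category.assoc]
        rfl
    refine ⟨g₀, ?_, ?_⟩
    · show FGA.hilbPull (j ≫ f) g₀ (Z.1.comap (m0 f j H V)) = Y.1
      rw [hilbPull_eq_comap, ← comap_comp, hnat g₀, hg₀, comap_comp, hg']
      exact comap_map_of_mono (mT f j T) Y.1
    · intro g₁ hg₁
      have hg₁' : (Z.1.comap (m0 f j H V)).comap (PicF.XTmap (j ≫ f) g₁) = Y.1 := by
        rw [← hilbPull_eq_comap]; exact hg₁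
      rw [← comap_comp, hnat g₁, comap_comp] at hg₁'
      -- support of the pullback of `Z` along `g₁ ≫ ι` lies in `U_T`
      have hsupp : ((Z.1.comap (PicF.XTmap f (g₁ ≫ ιO H V))).support : Set _) ⊆
          Set.range (mT f j T) := by
        intro w hw
        rw [support_comap] at hw
        have hw' : PicF.XTmap f (g₁ ≫ ιO H V) w ∈ (Z.1.support : Set _) := hw
        rw [← range_subschemeι] at hw'
        obtain ⟨z, hz⟩ := hw'
        have hzV : (Z.1.subschemeι ≫ PicF.XTproj f H) z ∈ V := by
          rw [Scheme.Hom.comp_apply, hz, ← Scheme.Hom.comp_apply, XTmap_proj,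
            Scheme.Hom.comp_apply]
          exact (g₁.left (PicF.XTproj f T w)).2
        obtain ⟨u, hu⟩ := mem_range_of_mem_H0 f j H Z z hzV
        rw [range_mT]
        refine ⟨pullback.fst (j ≫ f) H.hom u, ?_⟩
        show j (pullback.fst (j ≫ f) H.hom u) = pullback.fst f T.hom w
        rw [← XTmap_fst f (g₁ ≫ ιO H V), Scheme.Hom.comp_apply, ← hz, ← hu,
          ← Scheme.Hom.comp_apply, ← Scheme.Hom.comp_apply, mT_fst]
      have h1 : FGA.hilbPull f (g₁ ≫ ιO H V) Z.1 = Yb.1 := by
        rw [hilbPull_eq_comap]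
        show _ = Y.1.map (mT f j T)
        rw [← hg₁']
        exact (map_comap_of_support_subset (mT f j T) _ hsupp).symm
      have h2 : g₁ ≫ ιO H V = g := hgu _ h1
      apply Over.OverMorphism.ext
      rw [← cancel_mono V.ι]
      have h3 := congrArg (fun φ => φ.left) (h2.trans hg₀.symm)
      exact h3

end Groth.Agent.S17082
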