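import Groth.Statements.S17178
import Groth.Agent.Lib.Seat93DimOne
import Groth.Agent.Lib.Seat93PurePt

set_option autoImplicit false
universe u
open CategoryTheory CategoryTheory.Limits AlgebraicGeometry
open Curves

namespace Groth.Agent.S17178

open Groth.Agent.Lib.Seat93.DimOne Groth.Agent.Lib.Seat93.PurePt in
/-- Let k be an algebraically closed field and X a nodal curve over k: proper over k, reduced,
connected, every irreducible component of dimension one, with at-worst-nodal singularities. Let J be
a coherent O_X-module which is pure of dimension one (every nonzero coherent submodule has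
one-dimensional support), for instance a pure quotient with one-dimensional support of a rank-one
torsion-free sheaf. Let U be an open subset and f a function on U vanishing at every point of U
lying in the support Y of J. Then f acts as zero on J over U: for every x ∈ U the germ of f at x
annihilates the stalk J_x. In other words the ideal sheaf of the reduced subcurve Y annihilates J,
so J is an O_Y-module; this is the first assertion in the proof that every such quotient q : I → J
of a rank-one torsion-free I factors through the torsion-free restriction of I to Y, the remaining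
assertion (that the induced map is an isomorphism) not being part of this row. -/
theorem result
    (k : Type u) [Field k] [IsAlgClosed k] (X : Scheme.{u}) [X.Over (Spec (CommRingCat.of k))]
    [IsProper (X ↘ Spec (CommRingCat.of k))] [IsReduced X] [ConnectedSpace X]
    (hequi : ∀ Z ∈ irreducibleComponents (X : Type u), topologicalKrullDim Z = 1)
    (hX : Curv2.AtWorstNodal k X)
    (J : X.Modules) (hJc : Coh.IsCoh J) (hJp : ShStab.IsPure X J 1)
    (U : X.Opens) (f : X.presheaf.obj (Opposite.op U))
    (hf : ∀ x : X, x ∈ U → x ∈ CohB1.support J → x ∉ X.basicOpen f)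
    (x : X) (hx : x ∈ U) (t : J.presheaf.stalk x) :
    (X.presheaf.germ U x hx f) • t = 0 := by
  haveI : IsLocallyNoetherian X :=
    LocallyOfFiniteType.isLocallyNoetherian (X ↘ Spec (CommRingCat.of k))
  haveI : CompactSpace X :=
    QuasiCompact.compactSpace_of_compactSpace (X ↘ Spec (CommRingCat.of k))
  haveI : IsNoetherian X := {}
  haveI : J.IsQuasicoherent := hJc.1
  by_contra hne
  obtain ⟨V0, hxV0, s0, rfl⟩ := J.presheaf.exists_germ_eq t
  let V : X.Opens := V0 ⊓ U
  have hxV : x ∈ V := ⟨hxV0, hx⟩
  let s : Γ(J, V) := J.presheaf.map (homOfLE (inf_le_left : V ≤ V0)).op s0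
  let fV : Γ(X, V) := X.presheaf.map (homOfLE (inf_le_right : V ≤ U)).op f
  let u : Γ(J, V) := fV • s
  have hgu : ∀ (z : X) (hz : z ∈ V), J.presheaf.germ V z hz u =
      X.presheaf.germ U z hz.2 f • J.presheaf.germ V0 z hz.1 s0 := by
    intro z hz
    rw [Groth.Agent.Lib.Helper2.QCoh.germ_smul]
    congr 1
    · exact TopCat.Presheaf.germ_res_apply X.presheaf (homOfLE inf_le_right) z hz f
    · exact TopCat.Presheaf.germ_res_apply J.presheaf (homOfLE inf_le_left) z hz s0
  have hux : J.presheaf.germ V x hxV u ≠ 0 := by
    rw [hgu]; exact hne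
  -- the open set where `u` has zero germ
  let N : Set X := {z | ∃ hz : z ∈ V, J.presheaf.germ V z hz u = 0}
  have hNopen : IsOpen N := by
    rw [isOpen_iff_forall_mem_open]
    rintro z ⟨hz, hz0⟩
    have h0 : J.presheaf.germ V z hz u = J.presheaf.germ V z hz 0 := by rw [hz0, map_zero]
    obtain ⟨W, hzW, i₁, i₂, hW⟩ := J.presheaf.germ_eq z hz hz u 0 h0
    rw [map_zero] at hW
    refine ⟨W, ?_, W.isOpen, hzW⟩
    intro w hw
    refine ⟨i₁.le hw, ?_⟩
    rw [← TopCat.Presheaf.germ_res_apply J.presheaf i₁ w hw u, hW, map_zero]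
  let C : Set X := Nᶜ
  have hC : IsClosed C := hNopen.isClosed_compl
  have hclS : ∀ z ∈ (V : Set X) ∩ C, IsClosed ({z} : Set X) := by
    rintro z ⟨hzV, hzC⟩
    have hgz : J.presheaf.germ V z hzV u ≠ 0 := fun h => hzC ⟨hzV, h⟩
    apply isClosed_singleton_of_not_generic hequi
    intro hgen
    apply hgz
    have hzs : z ∈ CohB1.support J := by
      intro hsub
      exact hgz (Subsingleton.elim _ _)
    have hzb : z ∉ X.basicOpen f := hf z hzV.2 hzs
    rw [hgu, germ_eq_zero_of_generic z hgen U hzV.2 f hzb, zero_smul]
  have hfin := finite_of_forall_isClosed_singleton (V : Set X) C V.isOpen hC hclS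
  have hxS : x ∈ (V : Set X) ∩ C := ⟨hxV, fun h => hux h.2⟩
  have hxcl : IsClosed ({x} : Set X) := hclS x hxS
  -- remove the other points of the support of `u`
  let R : Set X := ((V : Set X) ∩ C) \ {x}
  have hRfin : R.Finite := hfin.subset Set.sdiff_subset
  have hRcl : IsClosed R := by
    have hR : R = ⋃ z ∈ R, ({z} : Set X) := by
      ext w; simp
    rw [hR]
    exact hRfin.isClosed_biUnion fun z hz => hclS z hz.1
  let V' : X.Opens := V ⊓ ⟨Rᶜ, hRcl.isOpen_compl⟩
  have hxV' : x ∈ V' := ⟨hxV, fun h => h.2 rfl⟩
  let u' : Γ(J, V') := J.presheaf.map (homOfLE (inf_le_left : V' ≤ V)).op u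
  have hu' : ∀ (z : X) (hz : z ∈ V'), z ≠ x → J.presheaf.germ V' z hz u' = 0 := by
    intro z hz hzx
    have h1 : J.presheaf.germ V' z hz u' = J.presheaf.germ V z hz.1 u :=
      TopCat.Presheaf.germ_res_apply J.presheaf (homOfLE inf_le_left) z hz u
    rw [h1]
    by_contra h
    exact hz.2 ⟨⟨hz.1, fun h0 => h h0.2⟩, hzx⟩
  have hzero := section_eq_zero_of_isPure J hJc hJp x hxcl V' hxV' u' hu'
  apply hux
  have h1 : J.presheaf.germ V' x hxV' u' = J.presheaf.germ V x hxV u :=
    TopCat.Presheaf.germ_res_apply J.presheaf (homOfLE inf_le_left) x hxV' u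
  rw [← h1, hzero, map_zero]

end Groth.Agent.S17178
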