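import Groth.Statements.S17181
import Groth.Agent.Lib.Seat82GeomIrr

set_option autoImplicit false
universe u
open CategoryTheory CategoryTheory.Limits AlgebraicGeometry
open FBase

namespace Groth.Agent.S17181

/-- Let k be a field, C an irreducible k-scheme which is geometrically irreducible over k, and f : X → C
a flat k-morphism locally of finite type with X irreducible. If the generic fibre of f is
geometrically irreducible over the residue field of the generic point of C, then X is geometrically
irreducible over k. (The published setting is a regular proper surface mapping onto a smooth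
projective geometrically irreducible curve with smooth projective geometrically irreducible generic
fibre; the printed argument uses only the hypotheses kept here.) -/
theorem result (k : Type u) [Field k]
    (X C : Scheme.{u}) [X.Over (Spec (CommRingCat.of k))] [C.Over (Spec (CommRingCat.of k))]
    (f : X ⟶ C) [f.IsOver (Spec (CommRingCat.of k))] [IrreducibleSpace X] [IrreducibleSpace C]
    [GeometricallyIrreducible (C ↘ Spec (CommRingCat.of k))] [Flat f] [LocallyOfFiniteType f]
    [GeometricallyIrreducible (f.fiberToSpecResidueField (genericPoint C))] :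
    GeometricallyIrreducible (X ↘ Spec (CommRingCat.of k)) := by
  refine ⟨geometrically_iff_of_isClosedUnderIsomorphisms.mpr fun K _ x ↦ ?_⟩
  have hover : f ≫ (C ↘ Spec (CommRingCat.of k)) = (X ↘ Spec (CommRingCat.of k)) :=
    CategoryTheory.comp_over f (Spec (CommRingCat.of k))
  -- the base change of `f` to `K`
  let fK : pullback (X ↘ Spec (CommRingCat.of k)) x ⟶ pullback (C ↘ Spec (CommRingCat.of k)) x :=
    pullback.map (X ↘ Spec (CommRingCat.of k)) x (C ↘ Spec (CommRingCat.of k)) x f (𝟙 _) (𝟙 _)
      (by rw [Category.comp_id, hover]) ((Category.comp_id _).trans (Category.id_comp _).symm)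
  have hsq : IsPullback (pullback.fst (X ↘ Spec (CommRingCat.of k)) x) fK f
      (pullback.fst (C ↘ Spec (CommRingCat.of k)) x) :=
    Groth.Agent.Lib.Seat82.GeomIrr.isPullback_fst_map _ f _ x hover
  have : Flat fK := MorphismProperty.of_isPullback (P := @Flat) hsq inferInstance
  have : IrreducibleSpace ↥(pullback (C ↘ Spec (CommRingCat.of k)) x) :=
    GeometricallyIrreducible.geometrically_irreducibleSpace (f := C ↘ Spec (CommRingCat.of k)) x _ _
      (IsPullback.of_hasPullback _ _)
  have hgen : (pullback.fst (C ↘ Spec (CommRingCat.of k)) x)
      (genericPoint ↥(pullback (C ↘ Spec (CommRingCat.of k)) x)) = genericPoint ↥C :=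
    Groth.Agent.Lib.Seat82.GeomIrr.map_genericPoint_of_flat _
  have : GeometricallyIrreducible (f.fiberToSpecResidueField
      ((pullback.fst (C ↘ Spec (CommRingCat.of k)) x)
        (genericPoint ↥(pullback (C ↘ Spec (CommRingCat.of k)) x)))) := by
    rw [hgen]; infer_instance
  have : IrreducibleSpace ↥(fK.fiber (genericPoint ↥(pullback (C ↘ Spec (CommRingCat.of k)) x))) :=
    GeometricallyIrreducible.geometrically_irreducibleSpace
      (f := f.fiberToSpecResidueField ((pullback.fst (C ↘ Spec (CommRingCat.of k)) x)
        (genericPoint ↥(pullback (C ↘ Spec (CommRingCat.of k)) x)))) _ _ _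
      (isPullback_fiberToSpecResidueField_of_isPullback hsq
        (genericPoint ↥(pullback (C ↘ Spec (CommRingCat.of k)) x)))
  exact Groth.Agent.Lib.Seat82.GeomIrr.irreducibleSpace_of_flat_of_fiber_genericPoint fK

end Groth.Agent.S17181
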