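import Groth.Statements.S1721
import Groth.Agent.Lib.Seat8DimFn3
import Groth.Agent.Lib.Seat8HasDual

set_option autoImplicit false
universe u
open CategoryTheory
attribute [local instance] HasDerivedCategory.standard
open Dual

namespace Groth.Agent.S1721

/-- A Noetherian ring admitting a dualizing complex is universally catenary. (Finiteness of the
dimension is a separate, earlier result.) -/
theorem result (A : Type u) [CommRing A] [IsNoetherianRing A] (ω : Dual.D A) (hω : Dual.IsDualizing A ω) : CAlg.IsUniversallyCatenary A := by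
  have hN := hω.isNoetherianRing
  refine ⟨hN, ?_⟩
  intro S _ _ hS
  obtain ⟨Ω, hΩ⟩ := Groth.Agent.Lib.Seat8.HasDual.hasDual_of_finiteType (A := A) (B := S) ⟨ω, hω⟩
  have hNS := hΩ.isNoetherianRing
  have hmono := Groth.Agent.Lib.Seat8.DimFn2.deg_strictMono Ω hΩ
  -- along a saturated chain the degree grows by exactly one at each step
  have hsat : ∀ s : LTSeries (PrimeSpectrum S),
      (∀ i : Fin s.length, s (Fin.castSucc i) ⋖ s (Fin.succ i)) →
      Groth.Agent.Lib.Seat8.DimFn.deg Ω hΩ s.last =
        Groth.Agent.Lib.Seat8.DimFn.deg Ω hΩ s.head + (s.length : ℤ) := by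
    intro s hs
    have h : ∀ i : Fin (s.length + 1), Groth.Agent.Lib.Seat8.DimFn.deg Ω hΩ (s i) =
        Groth.Agent.Lib.Seat8.DimFn.deg Ω hΩ (s 0) + ((i : ℕ) : ℤ) := by
      intro i
      induction i using Fin.induction with
      | zero => simp
      | succ i ih =>
        have := Groth.Agent.Lib.Seat8.DimFn.deg_covBy Ω hΩ _ _ (hs i)
        simp only [Fin.val_succ, Fin.val_castSucc] at ih ⊢
        push_cast
        omega
    have hl := h (Fin.last _)
    simp only [Fin.val_last] at hl
    exact hl
  refine ⟨fun p q _ => ⟨(Groth.Agent.Lib.Seat8.DimFn.deg Ω hΩ q -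
      Groth.Agent.Lib.Seat8.DimFn.deg Ω hΩ p).toNat, fun s hs1 hs2 => ?_⟩, ?_⟩
  · have := Groth.Agent.Lib.Seat8.DimFn3.add_length_le _ hmono s
    rw [hs1, hs2] at this
    omega
  · intro s t h1 h2 hs ht
    have e1 := hsat s hs
    have e2 := hsat t ht
    rw [h1, h2] at e1
    omega

end Groth.Agent.S1721
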