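import Groth.Statements.S17310
import Groth.Agent.Lib.Seat83GeomFib
import Groth.Agent.Lib.Helper3FibDimBC

set_option autoImplicit false
universe u
open CurvSt

namespace Groth.Agent.S17310

open CategoryTheory AlgebraicGeometry in
/-- Let X be a proper scheme of dimension at most 1 over a field k with structure morphism p, and Spec k
→ S a point of the base. The classifying object of X in the stack of curves over S lies in the open
substack of curves with geometrically reduced, connected fibres of dimension 1 — by definition:
every geometric fibre of h_X → h_{Spec k}, realised as a scheme over an algebraically closed field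
through a cartesian square of sheaves, is reduced, connected and of Krull dimension 1 — if and only
if X is geometrically reduced and geometrically connected over k and has Krull dimension 1. -/
theorem result (S : Scheme.{u}) (k : Type u) [Field k] (t : Spec (CommRingCat.of k) ⟶ S)
    (X : Scheme.{u}) (p : X ⟶ Spec (CommRingCat.of k)) [IsProper p] (hdim : topologicalKrullDim ↥X ≤ 1) :
    CurvSt.GeomFib (fun _ _ _ X' _ _ => IsReduced X' ∧ ConnectedSpace ↥X' ∧ topologicalKrullDim ↥X' = 1) ((CurvSt.toSpFam S 0).obj ⟨Over.mk t, X, p, Fin.elim0, fun i => i.elim0⟩) ↔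
      GeometricallyReduced p ∧ GeometricallyConnected p ∧ topologicalKrullDim ↥X = 1 := by
  rw [Groth.Agent.Lib.Seat83.GeomFib.geomFib_toSpFam_iff k t X p
    (fun _ _ _ X' _ => IsReduced X' ∧ ConnectedSpace ↥X' ∧ topologicalKrullDim ↥X' = 1)]
  constructor
  · intro h
    refine ⟨?_, ?_, ?_⟩
    · exact Groth.Agent.Lib.Seat83.GeomFib.geometricallyReduced_of_algClosed p
        (fun Ω _ _ t' X' q i₀ hsq => (h Ω t' X' q i₀ hsq).1)
    · exact Groth.Agent.Lib.Seat83.GeomFib.geometricallyConnected_of_algClosed p
        (fun Ω _ _ t' X' q i₀ hsq => (h Ω t' X' q i₀ hsq).2.1)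
    · let Ω := AlgebraicClosure k
      let j : Spec (CommRingCat.of Ω) ⟶ Spec (CommRingCat.of k) :=
        Spec.map (CommRingCat.ofHom (algebraMap k Ω))
      have hsq : IsPullback (CategoryTheory.Limits.pullback.fst p j) (CategoryTheory.Limits.pullback.snd p j) p j :=
        IsPullback.of_hasPullback p j
      rw [← Groth.Agent.Lib.Helper3.FibDimBC.topologicalKrullDim_eq_of_isPullback_field k Ω p _ _ hsq]
      exact (h Ω j _ _ _ hsq).2.2
  · rintro ⟨h1, h2, h3⟩ Ω _ _ t' X' q i₀ hsq
    refine ⟨h1.geometrically_isReduced t' i₀ q hsq, h2.geometrically_connectedSpace t' i₀ q hsq, ?_⟩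
    obtain ⟨φ, rfl⟩ := Spec.map_surjective t'
    letI : Algebra k Ω := φ.hom.toAlgebra
    rw [← h3]
    exact Groth.Agent.Lib.Helper3.FibDimBC.topologicalKrullDim_eq_of_isPullback_field k Ω p q i₀ hsq

end Groth.Agent.S17310
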