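import Groth.Statements.S17356
import Groth.Agent.Lib.Seat25AzInvB

set_option autoImplicit false
universe u v w
open scoped TensorProduct
open AzInv

namespace Groth.Agent.S17356

/-- Let `R` be a commutative ring with an involution `lam` whose fixed ring is exactly `S`, and let `A`
be an Azumaya `R`-algebra of degree `n ≥ 1`. Then `A` becomes a matrix algebra after base change
along an etale covering of `S` (and not merely of `R`): there are an etale faithfully flat
`S`-algebra `S'` and an `S'`-algebra isomorphism from `S' ⊗_S A` to the `n × n` matrices over `S'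
⊗_S R` that carries multiplication by `1 ⊗ r`, for `r` in `R`, to multiplication by the scalar
matrix `1 ⊗ r`. (The source states this for a good quotient of schemes by an involution; the row is
the affine case `Spec R → Spec S`.) -/
theorem result (S : Type u) (R : Type v) [CommRing S] [CommRing R] [Algebra S R]
    (lam : R ≃ₐ[S] R) (hlam : ∀ r, lam (lam r) = r) (hfix : RInv.IsFixedRing S R lam.toRingEquiv)
    (A : Type w) [Ring A] [Algebra S A] [Algebra R A] [IsScalarTower S R A]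
    (n : ℕ) (hn : 0 < n) (hA : AzInv.IsAzumayaDeg R A n) :
    ∃ (S' : Type u) (_ : CommRing S') (_ : Algebra S S') (_ : Algebra.Etale S S')
      (_ : Module.FaithfullyFlat S S') (f : S' ⊗[S] A ≃ₐ[S'] Matrix (Fin n) (Fin n) (S' ⊗[S] R)),
      ∀ (r : R) (x : S' ⊗[S] A),
        f (((1 : S') ⊗ₜ[S] algebraMap R A r) * x) = Matrix.scalar (Fin n) ((1 : S') ⊗ₜ[S] r) * f x := by
  classical
  obtain ⟨S', _, _, hE, hff, hMU⟩ :=
    Groth.Agent.Lib.Seat25.AzInvB.exists_cover_hasMatrixUnits S R lam hlam hfix A n hn hA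
  have hAz : IsAzumaya R A := hA.1
  have hAzC : IsAzumaya (R ⊗[S] S') ((R ⊗[S] S') ⊗[R] A) :=
    Groth.Agent.Lib.LeadAzumaya.isAzumaya_baseChange (R ⊗[S] S') A
  have hrank := Groth.Agent.Lib.Seat25.AzInvB.rankAtStalk_baseChange_eq R A n hA (R ⊗[S] S')
  have hMU' : Groth.Agent.Lib.Seat25.AzSH.HasMatrixUnits n ((R ⊗[S] S') ⊗[R] A) :=
    hMU.map ((Groth.Agent.Lib.Seat25.AzInvA.theta S R A S').symm :
      S' ⊗[S] A →+* (R ⊗[S] S') ⊗[R] A)
  obtain ⟨g⟩ := Groth.Agent.Lib.Seat25.AzInvA.nonempty_algEquiv_matrix_of_hasMatrixUnits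
    (R ⊗[S] S') ((R ⊗[S] S') ⊗[R] A) n hn hrank hMU'
  let cm : R ⊗[S] S' ≃ₐ[S] S' ⊗[S] R := Algebra.TensorProduct.comm S R S'
  let f₀ : S' ⊗[S] A ≃+* Matrix (Fin n) (Fin n) (S' ⊗[S] R) :=
    ((Groth.Agent.Lib.Seat25.AzInvA.theta S R A S').symm.trans g.symm.toRingEquiv).trans
      (cm.mapMatrix (m := Fin n)).toRingEquiv
  -- the value of `f₀` on "scalars"
  have key : ∀ (c : R ⊗[S] S') (x : S' ⊗[S] A),
      (Groth.Agent.Lib.Seat25.AzInvA.theta S R A S').symm x = c ⊗ₜ[R] (1 : A) →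
      f₀ x = Matrix.scalar (Fin n) (cm c) := by
    intro c x hx
    change (cm.mapMatrix (m := Fin n))
      (g.symm ((Groth.Agent.Lib.Seat25.AzInvA.theta S R A S').symm x)) = _
    rw [hx]
    have h1 : c ⊗ₜ[R] (1 : A) = algebraMap (R ⊗[S] S') ((R ⊗[S] S') ⊗[R] A) c := by
      rw [Algebra.TensorProduct.algebraMap_apply, Algebra.algebraMap_self, RingHom.id_apply]
    rw [h1, g.symm.commutes]
    ext i j
    simp [Matrix.algebraMap_matrix_apply, Matrix.scalar_apply, Matrix.diagonal_apply]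
    split_ifs <;> simp
  have hcomm : ∀ s : S', f₀ (algebraMap S' (S' ⊗[S] A) s) =
      algebraMap S' (Matrix (Fin n) (Fin n) (S' ⊗[S] R)) s := by
    intro s
    rw [key ((1 : R) ⊗ₜ[S] s) _ (by
      rw [Algebra.TensorProduct.algebraMap_apply, Algebra.algebraMap_self, RingHom.id_apply,
        Groth.Agent.Lib.Seat25.AzInvA.theta_symm_tmul])]
    ext i j
    simp [cm, Matrix.algebraMap_matrix_apply, Matrix.scalar_apply, Matrix.diagonal_apply]
  let f : S' ⊗[S] A ≃ₐ[S'] Matrix (Fin n) (Fin n) (S' ⊗[S] R) := AlgEquiv.ofRingEquiv hcomm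
  refine ⟨S', inferInstance, inferInstance, hE, hff, f, ?_⟩
  intro r x
  change f₀ (((1 : S') ⊗ₜ[S] algebraMap R A r) * x) = _ * f₀ x
  rw [map_mul]
  congr 1
  rw [key (r ⊗ₜ[S] (1 : S')) _ (by
    rw [Groth.Agent.Lib.Seat25.AzInvA.theta_symm_tmul, Algebra.algebraMap_eq_smul_one,
      ← TensorProduct.smul_tmul, TensorProduct.smul_tmul', smul_eq_mul, mul_one])]
  simp [cm]

end Groth.Agent.S17356
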