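import Groth.Statements.S17377
import Groth.Agent.Lib.Seat34WeilSplit

set_option autoImplicit false
universe u
open CategoryTheory CategoryTheory.Limits AlgebraicGeometry
open Variety

namespace Groth.Agent.S17377

/-- Let X and Y be integral normal schemes locally of finite type over a field k and f : Y → X a finite
étale k-morphism; let D ⊆ X be a closed subscheme which is an effective Cartier divisor and is
integral and normal as a scheme, and E ⊆ Y an integral closed subscheme mapping to D by a surjective
morphism g compatible with the inclusions whose residue-field extension at the generic point of E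
has degree 1 (so E is a prime divisor of Y over D with the same function field: D splits in Y at the
level of Weil divisors). Then g is an isomorphism and E is an effective Cartier divisor on Y; in
particular D is the image of the relative Cartier divisor E (D is c-split). (The source works with
projective, geometrically normal and geometrically integral X, Y of dimension at least 2 and
geometrically normal, geometrically integral D; those hypotheses only serve base change to extension
fields and are dropped here.) -/
theorem result (k : Type u) [Field k] (X Y : Scheme.{u})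
    [X.Over (Spec (CommRingCat.of k))] [Y.Over (Spec (CommRingCat.of k))]
    [LocallyOfFiniteType (X ↘ Spec (CommRingCat.of k))] [LocallyOfFiniteType (Y ↘ Spec (CommRingCat.of k))]
    [IsIntegral X] [IsIntegral Y] (hX : Pi1.IsNormalScheme X) (hY : Pi1.IsNormalScheme Y)
    (f : Y ⟶ X) (hf : f ≫ (X ↘ Spec (CommRingCat.of k)) = Y ↘ Spec (CommRingCat.of k)) [IsFinite f] [Etale f]
    (D : X.IdealSheafData) (hD : FGA.IsEffCartier D) [IsIntegral D.subscheme] (hDn : Pi1.IsNormalScheme D.subscheme)
    (E : Y.IdealSheafData) [IsIntegral E.subscheme]
    (g : (E.subscheme : Scheme.{u}) ⟶ D.subscheme) (hg : g ≫ D.subschemeι = E.subschemeι ≫ f)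
    (hsurj : Function.Surjective g.base) (hdeg : g.residueDegree (genericPoint E.subscheme) = 1) :
    IsIso g ∧ FGA.IsEffCartier E := by
  have hEfin : IsFinite (g ≫ D.subschemeι) := by
    rw [hg]
    infer_instance
  have hgfin : IsFinite g := IsFinite.of_comp g D.subschemeι
  have hgdom : IsDominant g := ⟨hsurj.denseRange⟩
  have hgen := Groth.Agent.Lib.Seat34.WeilSplit.bijective_stalkMap_of_residueDegree_eq_one g hdeg
  have hiso : IsIso g :=
    Groth.Agent.Lib.Seat34.WeilSplit.isIso_of_isIntegralHom_of_bijective hDn g hgen
  refine ⟨hiso, ?_⟩
  -- the section of the pulled-back divisor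
  let e : (E.subscheme : Scheme.{u}) ⟶ pullback f D.subschemeι :=
    pullback.lift E.subschemeι g hg.symm
  have he1 : e ≫ pullback.fst f D.subschemeι = E.subschemeι := pullback.lift_fst _ _ _
  have he2 : e ≫ pullback.snd f D.subschemeι = g := pullback.lift_snd _ _ _
  have hsec : (inv g ≫ e) ≫ pullback.snd f D.subschemeι = 𝟙 _ := by
    rw [Category.assoc, he2, IsIso.inv_hom_id]
  have hso : IsOpenImmersion (inv g ≫ e) :=
    Groth.Agent.Lib.Helper20.FinHom.isOpenImmersion_of_section _ _ hsec
  have heo : IsOpenImmersion e := by
    have : e = g ≫ (inv g ≫ e) := by rw [IsIso.hom_inv_id_assoc]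
    rw [this]
    infer_instance
  have hflat : Flat f := inferInstance
  intro y
  by_cases hy : y ∈ E.support
  · have hyr : y ∈ Set.range E.subschemeι := by
      rw [Scheme.IdealSheafData.range_subschemeι]
      exact hy
    obtain ⟨y', rfl⟩ := hyr
    have h1 : Groth.Agent.Lib.Seat48.EffCartier.EffAt (D.comap f) (E.subschemeι y') :=
      Groth.Agent.Lib.Seat48.EffCartier.EffAt.comap f D _ (hD _)
    exact Groth.Agent.Lib.Seat34.WeilSplit.effAt_of_isOpenImmersion E
      (pullback.fst f D.subschemeι) e he1 y' h1
  · exact Groth.Agent.Lib.Seat34.WeilSplit.effAt_of_notMem_support E y hy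

end Groth.Agent.S17377
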