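import Groth.Statements.S17391
import Groth.Agent.Lib.Seat82BlowUpSeparate

set_option autoImplicit false
universe u
open BlowUp

namespace Groth.Agent.S17391

open AlgebraicGeometry CategoryTheory Limits in
/-- Let X and Z be schemes, p : Z → X a morphism, U ⊆ V ⊆ X open subschemes, and f : Y → Z a
quasi-compact immersion whose composite with p lands in U. Let I₁ be a quasi-coherent ideal on X
whose support contains V ∖ U and is disjoint from U, and I₂ a quasi-coherent ideal whose support
lies in supp(I₁) ∖ V. Assume that the closed subscheme p⁻¹(V(I₁²)) ∩ Ȳ of Z, where Ȳ is the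
scheme-theoretic image of f, is contained in p⁻¹(V(I₂)) as a closed subscheme: the inverse image
ideal of I₂ on Z lies in the sum of the inverse image ideal of I₁² and the kernel ideal of f. Then
for every blowing up q : X' → X of X in I₁ + I₂, writing Z' = Z ×_X X' → X' and Y' = Y ×_Z Z' → Z'
for the base changes, the closure in Z' of the image of Y' is disjoint from the preimage in Z' of
the closure in X' of q⁻¹(V ∖ U). (The blowing up is an isomorphism over V, since the support of I₁ +
I₂ is that of I₂ and lies in X ∖ V; the point is that the closure of q⁻¹(V ∖ U) in X', which may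
reach over X ∖ V, still misses the closure of Y'.) -/
theorem result
    {X Y Z X' : Scheme.{u}} (p : Z ⟶ X) (U V : X.Opens) (hUV : U ≤ V)
    (f : Y ⟶ Z) [IsImmersion f] [QuasiCompact f] (hY : Set.range (fun y => p (f y)) ⊆ (U : Set X))
    (𝓘₁ 𝓘₂ : X.IdealSheafData)
    (h₁ : (V : Set X) \ (U : Set X) ⊆ (𝓘₁.support : Set X)) (h₁' : Disjoint (𝓘₁.support : Set X) (U : Set X))
    (h₂ : (𝓘₂.support : Set X) ⊆ (𝓘₁.support : Set X) \ (V : Set X))
    (hincl : 𝓘₂.comap p ≤ (𝓘₁ * 𝓘₁).comap p ⊔ f.ker)
    (q : X' ⟶ X) (hq : BlowUp.IsBlowUp q (𝓘₁ ⊔ 𝓘₂)) :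
    Disjoint (closure (Set.range (fun y => (pullback.snd f (pullback.fst p q)) y)))
      ((fun z => (pullback.snd p q) z) ⁻¹'
        closure ((fun x' => q x') ⁻¹' ((V : Set X) \ (U : Set X)))) := by
  open Groth.Agent.Lib.Seat82 Scheme.IdealSheafData in
  have hsq : 𝓘₁ * 𝓘₁ ≤ 𝓘₁ := by
    intro W
    rw [ideal_mul]
    exact Ideal.mul_le_right
  have hK : (𝓘₁ ⊔ 𝓘₂).comap p ≤ 𝓘₁.comap p ⊔ f.ker := by
    rw [comap_sup]
    exact sup_le le_sup_left
      (hincl.trans (sup_le ((comap_mono p hsq).trans le_sup_left) le_sup_right))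
  have hsupp : ((𝓘₁ ⊔ 𝓘₂).support : Set X) = (𝓘₁.support : Set X) ∩ (𝓘₂.support : Set X) := by
    rw [support_sup]; rfl
  have key := BlowUpSeparate.disjoint_of_separation q p (pullback.fst p q)
    (pullback.snd p q) pullback.condition 𝓘₁ (𝓘₁ ⊔ 𝓘₂) le_sup_left
    (fun x' => by
      obtain ⟨U', hx', t₀, -, ht₀⟩ := hq.1 x'
      exact ⟨U', hx', t₀, ht₀⟩)
    ((V : Set X) \ (U : Set X)) h₁
    (Set.disjoint_left.2 fun x hx hxa => by
      rw [hsupp] at hxa
      exact (h₂ hxa.2).2 hx.1)
    f.ker hK
    (Set.range (fun y => (pullback.snd f (pullback.fst p q)) y))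
    (by
      rintro _ ⟨y, rfl⟩
      have e1 : (pullback.fst p q) ((pullback.snd f (pullback.fst p q)) y) =
          f ((pullback.fst f (pullback.fst p q)) y) := by
        rw [← Scheme.Hom.comp_apply, ← Scheme.Hom.comp_apply, pullback.condition]
      constructor
      · intro hmem
        rw [← SetLike.mem_coe, hsupp] at hmem
        refine Set.disjoint_left.1 h₁' hmem.1 (hY ⟨(pullback.fst f (pullback.fst p q)) y, ?_⟩)
        exact congrArg (fun z => p z) e1.symm
      · rw [e1]
        exact f.range_subset_ker_support ⟨_, rfl⟩)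
  exact key.symm

end Groth.Agent.S17391
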