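import Groth.Statements.S17392
import Groth.Agent.Lib.Seat82AdmSeparate

set_option autoImplicit false
universe u
open BlowUp

namespace Groth.Agent.S17392

open AlgebraicGeometry CategoryTheory Limits in
/-- Let X₁ and X₂ be quasi-compact quasi-separated schemes, q : X₂ → X₁ a quasi-compact separated
morphism, V₁ ⊆ X₁ a quasi-compact open subscheme and U ⊆ q⁻¹(V₁) an open subscheme of X₂ on which q
restricts to an open immersion (so U is identified with an open of V₁). Let Z₁ ⊆ X₁ be a closed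
subset whose open complement is quasi-compact, put Y₁ = Z₁ ∩ V₁, and let Z₂ ⊆ X₂ be a closed subset
whose open complement is also quasi-compact, with q⁻¹(Y₁) ⊆ Z₂. Then there is a quasi-coherent ideal
E of finite type on X₁ with support contained in Z₁ ∖ V₁ (so that blowing up E is V₁-admissible)
such that, for every blowing up c : X₁' → X₁ of X₁ in E with base change q' : X₂' = X₂ ×_{X₁} X₁' →
X₁' and c₂ : X₂' → X₂, one has q'⁻¹(closure of c⁻¹(Y₁)) ∩ closure(c₂⁻¹(U)) ⊆ c₂⁻¹(Z₂) as subsets of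
X₂'. -/
theorem result
    {X₁ X₂ : Scheme.{u}} [CompactSpace X₁] [QuasiSeparatedSpace X₁] [CompactSpace X₂] [QuasiSeparatedSpace X₂]
    (q : X₂ ⟶ X₁) [QuasiCompact q] [IsSeparated q]
    (V₁ : X₁.Opens) (hV₁ : IsCompact (V₁ : Set X₁))
    (U : X₂.Opens) (hU : U ≤ q ⁻¹ᵁ V₁) [IsOpenImmersion (U.ι ≫ q)]
    (Z₁ : Set X₁) (hZ₁ : IsClosed Z₁) (hZ₁c : IsCompact Z₁ᶜ)
    (Z₂ : Set X₂) (hZ₂ : IsClosed Z₂) (hZ₂c : IsCompact Z₂ᶜ)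
    (hYZ : (fun x => q x) ⁻¹' (Z₁ ∩ (V₁ : Set X₁)) ⊆ Z₂) :
    ∃ 𝓔 : X₁.IdealSheafData, BlowUp.IsFiniteTypeIdeal 𝓔 ∧ (𝓔.support : Set X₁) ⊆ Z₁ \ (V₁ : Set X₁) ∧
      ∀ (X₁' : Scheme.{u}) (c : X₁' ⟶ X₁), BlowUp.IsBlowUp c 𝓔 →
        (fun z => (pullback.snd q c) z) ⁻¹' closure ((fun x => c x) ⁻¹' (Z₁ ∩ (V₁ : Set X₁))) ∩
            closure ((fun z => (pullback.fst q c) z) ⁻¹' (U : Set X₂)) ⊆
          (fun z => (pullback.fst q c) z) ⁻¹' Z₂ := by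
  open Groth.Agent.Lib.Seat82 Scheme.IdealSheafData in
  classical
  set W₂ : X₂.Opens := ⟨Z₂ᶜ, hZ₂.isOpen_compl⟩ with hW₂
  have hYZ' : ∀ w ∈ W₂, q w ∉ Z₁ ∩ (V₁ : Set X₁) := fun w hw hqw => hw (hYZ hqw)
  obtain ⟨𝓕, 𝓔, hFE, hEft, hFsupp, hEsupp, hcomap⟩ :=
    AdmSeparate.exists_separating_ideal q V₁ hV₁ Z₁ hZ₁ hZ₁c W₂ hZ₂c hYZ'
  refine ⟨𝓔, hEft, hEsupp, ?_⟩
  intro X₁' c hc
  set c₂ := pullback.fst q c with hc₂
  set q' := pullback.snd q c with hq'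
  set O : (pullback q c).Opens := c₂ ⁻¹ᵁ W₂ with hO
  have hsq : (c₂ ∣_ W₂) ≫ W₂.ι ≫ q = (O.ι ≫ q') ≫ c := by
    rw [← Category.assoc, morphismRestrict_ι, Category.assoc, Category.assoc, pullback.condition]
  have hpt : ∀ s : O.toScheme, W₂.ι ((c₂ ∣_ W₂) s) = c₂ (O.ι s) := by
    intro s
    rw [← Scheme.Hom.comp_apply, ← Scheme.Hom.comp_apply, morphismRestrict_ι]
  have hSg : ∀ s ∈ O.ι ⁻¹' (c₂ ⁻¹' (U : Set X₂)),
      (W₂.ι ≫ q) ((c₂ ∣_ W₂) s) ∉ 𝓔.support ∧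
        (c₂ ∣_ W₂) s ∈ (⊥ : W₂.toScheme.IdealSheafData).support := by
    intro s hs
    refine ⟨fun hmem => ?_, by rw [support_bot]; trivial⟩
    rw [Scheme.Hom.comp_apply, hpt] at hmem
    exact (hEsupp hmem).2 (hU hs)
  have hprin : ∀ x' : X₁', ∃ U' : X₁'.affineOpens, x' ∈ U'.1 ∧
      ∃ t₀ : Γ(X₁', U'.1), (𝓔.comap c).ideal U' = Ideal.span {t₀} := by
    intro x'
    obtain ⟨U', hx', t₀, -, ht₀⟩ := hc.1 x'
    exact ⟨U', hx', t₀, ht₀⟩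
  have key := BlowUpSeparate.disjoint_of_separation c (W₂.ι ≫ q) (c₂ ∣_ W₂) (O.ι ≫ q') hsq 𝓕 𝓔 hFE
    hprin (Z₁ ∩ (V₁ : Set X₁)) (fun x hx => by rw [hFsupp]; exact hx.1)
    (Set.disjoint_left.2 fun x hx hxE => (hEsupp hxE).2 hx.2)
    ⊥ (le_sup_of_le_left hcomap) (O.ι ⁻¹' (c₂ ⁻¹' (U : Set X₂))) hSg
  rintro z ⟨hz1, hz2⟩
  by_contra hzZ₂
  have hzO : z ∈ O := hzZ₂
  have h1 : (⟨z, hzO⟩ : O.toScheme) ∈
      (O.ι ≫ q') ⁻¹' closure (c ⁻¹' (Z₁ ∩ (V₁ : Set X₁))) := hz1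
  have h2 : (⟨z, hzO⟩ : O.toScheme) ∈ closure (O.ι ⁻¹' (c₂ ⁻¹' (U : Set X₂))) := by
    rw [← O.ι.isOpenEmbedding.isOpenMap.preimage_closure_eq_closure_preimage O.ι.continuous]
    exact hz2
  exact Set.disjoint_left.1 key h1 h2

end Groth.Agent.S17392
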