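import Groth.Statements.S17417
import Groth.Agent.Lib.Seat84ModStFib

set_option autoImplicit false
open CategoryTheory CategoryTheory.Limits AlgebraicGeometry
universe u
open ModSt

namespace Groth.Agent.S17417

/-- Let `f : X ⟶ S` be a morphism of schemes. The category over `(Sch/S)` of finitely presented modules
flat over the base (objects over `T`: a cartesian square `X_T` over `T` and a finitely presented
`T`-flat module on `X_T`; morphisms: cartesian comparison maps over morphisms of bases) is fibred in
groupoids. (The source states this for a morphism of finite presentation of algebraic spaces `X → B`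
over a base scheme and for modules whose support is moreover proper over the base; this row is the
case of schemes with base `S = B`, for the category without the support condition, and for any
morphism `f`.) -/
theorem result {X S : Scheme.{u}} (f : X ⟶ S) :
    FibCat.IsFibGrpd (ModSt.Coh f).p := by
  open Lib.Seat84.ModStFib in
  exact
  { exists_lift := fun {x V} g => by
      refine ⟨⟨liftObj x.obj g, isCohObj_liftObj x.obj x.property g⟩,
        ObjectProperty.homMk (X := ⟨liftObj x.obj g, isCohObj_liftObj x.obj x.property g⟩) (Y := x)
          (liftHom x.obj g), ?_⟩
      exact (Functor.IsHomLift.map (p := (ModSt.Coh f).p)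
        (ObjectProperty.homMk (X := ⟨liftObj x.obj g, isCohObj_liftObj x.obj x.property g⟩) (Y := x)
          (liftHom x.obj g)))
    isStronglyCartesian := fun {y x} φ =>
      { toIsHomLift := inferInstance
        universal_property' := by
          intro a' g φ' hlift
          have hφ' : φ'.hom.base = g ≫ φ.hom.base :=
            (IsHomLift.eq_of_isHomLift (ModSt.Coh f).p (g ≫ (ModSt.Coh f).p.map φ) φ').symm
          obtain ⟨χ, ⟨h1, h2⟩, huniq⟩ := existsUnique_lift φ.hom g φ'.hom hφ'
          refine ⟨ObjectProperty.homMk χ, ⟨?_, ?_⟩, ?_⟩
          · subst h1
            exact (Functor.IsHomLift.map (p := (ModSt.Coh f).p) (ObjectProperty.homMk χ))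
          · exact InducedCategory.Hom.ext h2
          · rintro χ' ⟨hl, h2'⟩
            have e1 : χ'.hom.base = g :=
              (IsHomLift.eq_of_isHomLift (ModSt.Coh f).p g χ').symm
            have e2 : χ'.hom ≫ φ.hom = φ'.hom := congrArg InducedCategory.Hom.hom h2'
            exact InducedCategory.Hom.ext (huniq χ'.hom ⟨e1, e2⟩) } }

end Groth.Agent.S17417
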