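import Groth.Statements.S17435
import Groth.Agent.Lib.Seat84DefoExt

set_option autoImplicit false
universe u
open CategoryTheory AlgebraicGeometry
open DefoSh

namespace Groth.Agent.S17435

/-- Let k be a field, X a locally Noetherian scheme over k and E a coherent O_X-module. There is a
bijection e between the isomorphism classes of deformations of E over the dual numbers k[ε]
(O_X-modules with a k[ε]-action, flat stalkwise, with reduction identified with E) and Ext¹(E, E)
such that, for every such deformation D with reduction π : D.sheaf → E and for the map i : E →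
D.sheaf with π ≫ i = ε (multiplication by ε), e sends the class of D to the extension class of the
short exact sequence 0 → E → D.sheaf → E → 0 formed by i and π; and e sends the class of the trivial
deformation E ⊕ εE to 0. The published statement takes X to be any scheme over k; this row assumes X
locally Noetherian, so that coherent means quasi-coherent of finite type. -/
theorem result (k : Type u) [Field k] (X : Scheme.{u})
    [X.Over (Spec (CommRingCat.of k))] [IsLocallyNoetherian X] (E : X.Modules) (hE : Coh.IsCoh E)
    [HasExt.{u} X.Modules] :
    ∃ e : DefoSh.FirstOrder k E ≃ Abelian.Ext E E 1,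
      e (DefoSh.Defo.trivDual k E).cl = 0 ∧
      ∀ (D : DefoSh.Defo E (ArtFun.Art.dual k k)) (i : E ⟶ D.sheaf)
        (hi : D.π ≫ i = D.act (DualNumber.eps : DualNumber k))
        (h0 : i ≫ D.π = 0) (hS : (ShortComplex.mk i D.π h0).ShortExact),
        e D.cl = hS.extClass := by
  let Ψ : DefoSh.FirstOrder k E → Abelian.Ext E E 1 :=
    Quotient.lift (fun D : DefoSh.Defo E (ArtFun.Art.dual k k) =>
      Groth.Agent.Lib.Seat84.DefoExt.extOf D)
      (fun D D' h => Nonempty.elim h (fun e => Groth.Agent.Lib.Seat84.DefoExt.extOf_iso e))
  have hΨ : ∀ D : DefoSh.Defo E (ArtFun.Art.dual k k),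
      Ψ D.cl = Groth.Agent.Lib.Seat84.DefoExt.extOf D := fun D => rfl
  have hbij : Function.Bijective Ψ := by
    constructor
    · intro a b
      induction a using Quotient.inductionOn with
      | h D =>
        induction b using Quotient.inductionOn with
        | h D' =>
          intro h
          exact Quotient.sound (Groth.Agent.Lib.Seat84.DefoExt.iso_of_extOf_eq h)
    · intro α
      obtain ⟨D, hD⟩ := Groth.Agent.Lib.Seat84.DefoExt.exists_defo_of_ext (k := k) α
      exact ⟨D.cl, hD⟩
  refine ⟨Equiv.ofBijective Ψ hbij, ?_, ?_⟩
  · exact Groth.Agent.Lib.Seat84.DefoExt.extOf_trivDual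
  · intro D i hi h0 hS
    exact Groth.Agent.Lib.Seat84.DefoExt.extOf_eq D i hi h0 hS

end Groth.Agent.S17435
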