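import Groth.Statements.S17440
import Groth.Agent.Lib.Seat84DefoLocTriv

set_option autoImplicit false
universe u
open CategoryTheory AlgebraicGeometry
open DefoSh

namespace Groth.Agent.S17440

/-- Let k be a field, X a scheme over k, E a finite locally free O_X-module and D a first-order
deformation of E, with reduction π : D.sheaf → E. Then D is locally trivial: every point of X has an
open neighbourhood U together with an isomorphism of O_U-modules between the restrictions to U of
D.sheaf and of E ⊕ εE which commutes with the actions of k[ε] and with the reductions to E. In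
particular the deformed module is again a vector bundle over the dual numbers. -/
theorem result (k : Type u) [Field k] (X : Scheme.{u})
    [X.Over (Spec (CommRingCat.of k))] (E : X.Modules) (hE : FlatMod.IsFinLocFree E)
    (D : DefoSh.Defo E (ArtFun.Art.dual k k)) (x : X) :
    ∃ (U : X.Opens) (e : D.sheaf.restrict U.ι ≅ (DefoSh.Defo.trivDual k E).sheaf.restrict U.ι), x ∈ U ∧
      e.hom ≫ (Scheme.Modules.restrictFunctor U.ι).map (DefoSh.Defo.trivDual k E).π =
        (Scheme.Modules.restrictFunctor U.ι).map D.π ∧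
      ∀ a : ArtFun.Art.dual k k, (Scheme.Modules.restrictFunctor U.ι).map (D.act a) ≫ e.hom =
        e.hom ≫ (Scheme.Modules.restrictFunctor U.ι).map ((DefoSh.Defo.trivDual k E).act a) := by
  obtain ⟨ι, hι⟩ := Lib.Seat84.DefoLocTriv.exists_ι D
  obtain ⟨U, s, r, hxU, hsp, hir, hsr, hB⟩ :=
    Lib.Seat84.DefoLocTriv.exists_local_splitting hE D ι hι x
  have hip : (Scheme.Modules.restrictFunctor U.ι).map ι ≫
      (Scheme.Modules.restrictFunctor U.ι).map D.π = 0 := by
    rw [← CategoryTheory.Functor.map_comp, Lib.Seat84.DefoExact.ι_π D ι hι,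
      Lib.Seat84.DefoLocTriv.restrict_map_zero]
  have h11 : (Scheme.Modules.restrictFunctor U.ι).map (Limits.biprod.inl : E ⟶ E ⊞ E) ≫
      (Scheme.Modules.restrictFunctor U.ι).map (Limits.biprod.fst : E ⊞ E ⟶ E) = 𝟙 _ := by
    rw [← CategoryTheory.Functor.map_comp, Limits.biprod.inl_fst, CategoryTheory.Functor.map_id]
  have h12 : (Scheme.Modules.restrictFunctor U.ι).map (Limits.biprod.inl : E ⟶ E ⊞ E) ≫
      (Scheme.Modules.restrictFunctor U.ι).map (Limits.biprod.snd : E ⊞ E ⟶ E) = 0 := by
    rw [← CategoryTheory.Functor.map_comp, Limits.biprod.inl_snd, Lib.Seat84.DefoLocTriv.restrict_map_zero]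
  have h21 : (Scheme.Modules.restrictFunctor U.ι).map (Limits.biprod.inr : E ⟶ E ⊞ E) ≫
      (Scheme.Modules.restrictFunctor U.ι).map (Limits.biprod.fst : E ⊞ E ⟶ E) = 0 := by
    rw [← CategoryTheory.Functor.map_comp, Limits.biprod.inr_fst, Lib.Seat84.DefoLocTriv.restrict_map_zero]
  have h22 : (Scheme.Modules.restrictFunctor U.ι).map (Limits.biprod.inr : E ⟶ E ⊞ E) ≫
      (Scheme.Modules.restrictFunctor U.ι).map (Limits.biprod.snd : E ⊞ E ⟶ E) = 𝟙 _ := by
    rw [← CategoryTheory.Functor.map_comp, Limits.biprod.inr_snd, CategoryTheory.Functor.map_id]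
  have htot : (Scheme.Modules.restrictFunctor U.ι).map (Limits.biprod.fst : E ⊞ E ⟶ E) ≫
        (Scheme.Modules.restrictFunctor U.ι).map (Limits.biprod.inl : E ⟶ E ⊞ E) +
      (Scheme.Modules.restrictFunctor U.ι).map (Limits.biprod.snd : E ⊞ E ⟶ E) ≫
        (Scheme.Modules.restrictFunctor U.ι).map (Limits.biprod.inr : E ⟶ E ⊞ E) = 𝟙 _ := by
    rw [← CategoryTheory.Functor.map_comp, ← CategoryTheory.Functor.map_comp, ← Lib.Seat84.DefoLocTriv.restrict_map_add,
      Limits.biprod.total, CategoryTheory.Functor.map_id]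
  let e : D.sheaf.restrict U.ι ≅ (E ⊞ E).restrict U.ι :=
    Lib.Seat84.DefoLocTriv.isoOfSplitting ((Scheme.Modules.restrictFunctor U.ι).map D.π)
      ((Scheme.Modules.restrictFunctor U.ι).map ι) s r _ _ _ _ h11 h12 h21 h22 htot hsp hir hsr hip hB
  have he : e.hom = (Scheme.Modules.restrictFunctor U.ι).map D.π ≫
        (Scheme.Modules.restrictFunctor U.ι).map (Limits.biprod.inl : E ⟶ E ⊞ E) +
      r ≫ (Scheme.Modules.restrictFunctor U.ι).map (Limits.biprod.inr : E ⟶ E ⊞ E) := rfl
  have hfst : e.hom ≫ (Scheme.Modules.restrictFunctor U.ι).map (Limits.biprod.fst : E ⊞ E ⟶ E) =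
      (Scheme.Modules.restrictFunctor U.ι).map D.π := by
    rw [he, Preadditive.add_comp, Category.assoc, Category.assoc, h11, h21, Category.comp_id,
      Limits.comp_zero, add_zero]
  have hi : (Scheme.Modules.restrictFunctor U.ι).map ι ≫ e.hom =
      (Scheme.Modules.restrictFunctor U.ι).map (Limits.biprod.inr : E ⟶ E ⊞ E) := by
    rw [he, Preadditive.comp_add, ← Category.assoc, hip, Limits.zero_comp, zero_add,
      ← Category.assoc, hir, Category.id_comp]
  refine ⟨U, e, hxU, hfst, fun a => ?_⟩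
  have hD : (D.act a : D.sheaf ⟶ D.sheaf) =
      (a : DualNumber k).fst • 𝟙 D.sheaf + ((a : DualNumber k).snd • 𝟙 D.sheaf) ≫ D.π ≫ ι := by
    rw [Lib.Seat84.DefoExact.act_eq D ι hι a, Linear.smul_comp, Category.id_comp]
  have hT : (DefoSh.dualAct k E a : E ⊞ E ⟶ E ⊞ E) =
      (a : DualNumber k).fst • 𝟙 (E ⊞ E) + ((a : DualNumber k).snd • 𝟙 (E ⊞ E)) ≫
        (Limits.biprod.fst : E ⊞ E ⟶ E) ≫ Limits.biprod.inr := by
    rw [Linear.smul_comp, Category.id_comp]
    exact DefoSh.dualAct_hom E a
  have key : (Scheme.Modules.restrictFunctor U.ι).map (D.act a) ≫ e.hom =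
      e.hom ≫ (Scheme.Modules.restrictFunctor U.ι).map (DefoSh.dualAct k E a : E ⊞ E ⟶ E ⊞ E) := by
    have hx := Lib.Seat84.DefoLocTriv.restrict_smul_comm (a : DualNumber k).fst U e.hom
    have hy := Lib.Seat84.DefoLocTriv.restrict_smul_comm (a : DualNumber k).snd U e.hom
    rw [hD, hT, Lib.Seat84.DefoLocTriv.restrict_map_add, Lib.Seat84.DefoLocTriv.restrict_map_add,
      CategoryTheory.Functor.map_comp, CategoryTheory.Functor.map_comp,
      CategoryTheory.Functor.map_comp, CategoryTheory.Functor.map_comp,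
      Preadditive.add_comp, Preadditive.comp_add, Category.assoc, Category.assoc, hi, hx]
    congr 1
    rw [← Category.assoc e.hom, ← hy, Category.assoc, ← Category.assoc e.hom, hfst]
  exact key

end Groth.Agent.S17440
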