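import Groth.Statements.S17476
import Groth.Agent.Lib.Seat84TildeHom

set_option autoImplicit false
universe u
open CategoryTheory AlgebraicGeometry Opposite
open Coh

namespace Groth.Agent.S17476

/-- Let R be a Noetherian ring, Z = Spec R, M a finitely generated R-module with associated
quasi-coherent sheaf M~ (so that Hom_R(M, R) = Hom_Z(M~, O_Z)), and Z₀ ⊆ Z an open subscheme. (1) If
the restriction of functions Γ(Z, O_Z) → Γ(Z₀, O_Z) is injective, then the restriction map Hom_Z(M~,
O_Z) → Hom_{Z₀}(M~|Z₀, O_{Z₀}) is injective. (2) If R is an integrally closed domain and the closed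
complement of Z₀ has codimension at least 2 (every prime ideal outside Z₀ has height at least 2),
then that restriction map is bijective. (The published first assertion assumes only that Z₀ is
dense; for R = k[x,y]/(x², xy), M = R and Z₀ the locus y ≠ 0, which is dense, multiplication by x is
a nonzero element of Hom_R(M, R) restricting to zero, so schematic density is what is needed and
what the printed argument uses. The published second assertion is for a normal irreducible affine
variety; any Noetherian integrally closed domain is allowed here.) -/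
theorem result (R : Type u) [CommRing R] [IsNoetherianRing R]
    (M : ModuleCat.{u} (CommRingCat.of R)) [Module.Finite R M] (U : (Spec (CommRingCat.of R)).Opens) :
    (Function.Injective ((Spec (CommRingCat.of R)).presheaf.map (homOfLE (le_top : U ≤ ⊤)).op) →
      Function.Injective (fun φ : AlgebraicGeometry.tilde M ⟶ Coh.structureModule (Spec (CommRingCat.of R)) =>
        (Scheme.Modules.restrictFunctor U.ι).map φ)) ∧
    (IsDomain R → IsIntegrallyClosed R → (∀ p : PrimeSpectrum R, p ∉ U → (2 : ℕ∞) ≤ p.asIdeal.height) →
      Function.Bijective (fun φ : AlgebraicGeometry.tilde M ⟶ Coh.structureModule (Spec (CommRingCat.of R)) =>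
        (Scheme.Modules.restrictFunctor U.ι).map φ)) := by
  -- the unit `O ⟶ j_* j^* O` is, on global sections, the restriction `Γ(Z, O) → Γ(U, O)`
  have hA : U.ι ''ᵁ U.ι ⁻¹ᵁ ⊤ ≤ U := by
    rw [Groth.Agent.Lib.Seat84.OpenRes.image_preimage_eq]; exact inf_le_left
  have hUA : U ≤ U.ι ''ᵁ U.ι ⁻¹ᵁ ⊤ := by
    rw [Groth.Agent.Lib.Seat84.OpenRes.image_preimage_eq]; exact le_inf le_rfl le_top
  have hcomp : ∀ s : Γ(Coh.structureModule (Spec (CommRingCat.of R)), ⊤),
      ((Scheme.Modules.restrictAdjunction U.ι).unit.app
        (Coh.structureModule (Spec (CommRingCat.of R)))).app ⊤ s =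
      (Coh.structureModule (Spec (CommRingCat.of R))).presheaf.map (homOfLE hA).op
        ((Spec (CommRingCat.of R)).presheaf.map (homOfLE (le_top : U ≤ ⊤)).op s) := by
    intro s
    change (Coh.structureModule (Spec (CommRingCat.of R))).presheaf.map _ s =
      (Coh.structureModule (Spec (CommRingCat.of R))).presheaf.map (homOfLE hA).op
        ((Coh.structureModule (Spec (CommRingCat.of R))).presheaf.map
          (homOfLE (le_top : U ≤ ⊤)).op s)
    rw [← ConcreteCategory.comp_apply, ← Functor.map_comp]
    rfl
  have hbijA : Function.Bijective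
      ((Coh.structureModule (Spec (CommRingCat.of R))).presheaf.map (homOfLE hA).op) :=
    Groth.Agent.Lib.Seat84.OpenRes.presheaf_map_bijective _ _ hUA
  constructor
  · intro hinj
    rw [Groth.Agent.Lib.Seat84.TildeHom.restrict_map_injective_iff]
    apply Groth.Agent.Lib.Seat84.TildeHom.comp_injective_of_injective_app_top
    intro s t hst
    rw [hcomp, hcomp] at hst
    exact hinj (hbijA.1 hst)
  · intro hdom hnorm hht
    have hbij := Groth.Agent.Lib.Seat84.TildeHom.bijective_res_of_height R U hht
    rw [Groth.Agent.Lib.Seat84.TildeHom.restrict_map_bijective_iff]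
    apply Groth.Agent.Lib.Seat84.TildeHom.comp_bijective_of_bijective_app_top
    constructor
    · intro s t hst
      rw [hcomp, hcomp] at hst
      exact hbij.1 (hbijA.1 hst)
    · intro y
      obtain ⟨z, rfl⟩ := hbijA.2 y
      obtain ⟨s, rfl⟩ := hbij.2 z
      exact ⟨s, hcomp s⟩

end Groth.Agent.S17476
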