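import Groth.Statements.S17499
import Groth.Agent.Lib.Seat84K0Fib

set_option autoImplicit false
universe u
open RelQuot

namespace Groth.Agent.S17499

open CategoryTheory CategoryTheory.Limits AlgebraicGeometry in
/-- Let k be an algebraically closed field of characteristic zero, X, Y and F schemes of finite type
over k, and f : X → Y a morphism over k which is a Zariski locally trivial fibration with fibre F:
every point of Y has an open neighbourhood U together with an isomorphism from f⁻¹(U) to U ×_k F
whose composite with the first projection is the restriction of f. Then in the Grothendieck ring of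
k-schemes of finite type the class of X equals [Y] · [F]. The published statement is for varieties;
it is stated here for schemes of finite type over k, which present the same ring. -/
theorem result
    (k : Type u) [Field k] [IsAlgClosed k] [CharZero k] {X Y F : Scheme.{u}}
    (pY : Y ⟶ Spec (CommRingCat.of k)) [LocallyOfFiniteType pY] [QuasiCompact pY]
    (pF : F ⟶ Spec (CommRingCat.of k)) [LocallyOfFiniteType pF] [QuasiCompact pF]
    (f : X ⟶ Y) [LocallyOfFiniteType f] [QuasiCompact f]
    (hf : ∀ y : Y, ∃ (U : Y.Opens) (e : (f ⁻¹ᵁ U).toScheme ≅ pullback (U.ι ≫ pY) pF),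
      y ∈ U ∧ e.hom ≫ pullback.fst (U.ι ≫ pY) pF = f ∣_ U) :
    K0Var.cl (f ≫ pY) = K0Var.cl pY * K0Var.cl pF := by
  classical
  have : CompactSpace Y := QuasiCompact.compactSpace_of_compactSpace pY
  choose U e hyU he using hf
  obtain ⟨t, ht⟩ := isCompact_univ.elim_finite_subcover (fun y => ((U y : Y.Opens) : Set Y))
    (fun y => (U y).isOpen) (fun y _ => Set.mem_iUnion.mpr ⟨y, hyU y⟩)
  refine Lib.Seat84.K0Fib.cl_of_cover pF t.card pY f (fun k => U (t.equivFin.symm k).1) ?_ ?_
  · intro y
    obtain ⟨y', hy't, hy'⟩ : ∃ y' ∈ t, y ∈ U y' := by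
      have := ht (Set.mem_univ y)
      simp only [Set.mem_iUnion, exists_prop] at this
      exact this
    refine ⟨t.equivFin ⟨y', hy't⟩, ?_⟩
    simpa using hy'
  · intro k
    exact Lib.Seat84.K0Fib.trivOver_of_iso pY pF f _ (e _) (he _)

end Groth.Agent.S17499
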