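import Groth.Statements.S17512
import Groth.Agent.Lib.Seat84Theta
-- import your own Groth.Agent.* helpers here

set_option autoImplicit false
universe u
open ThetaRep

namespace Groth.Agent.S17512

/-- For the group of k-points of a non-degenerate theta group with constant K, let k be an algebraically
closed field and Γ a group given with an injective homomorphism ι from kˣ onto the centre of Γ such
that K = Γ/ι(kˣ) is finite and commutative (all commutators lie in ι(kˣ)) of order prime to the
characteristic exponent of k — the group of k-points of a non-degenerate theta group 1 → G_m → G → K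
→ 1 with rank(K) prime to char(k). Subgroups of K correspond to subgroups H of Γ containing ι(kˣ);
such an H is totally isotropic for the commutator pairing exactly when it is commutative, and its
orthogonal corresponds to the centralizer of H. For a subgroup H ⊇ ι(kˣ) the following are
equivalent: (i) H is commutative and maximal among commutative subgroups of Γ; (ii) H is commutative
and [H : ι(kˣ)]² = [Γ : ι(kˣ)]; (iii) H is its own centralizer. (The published lemma is for an
arbitrary non-degenerate theta group scheme, where (iii) ⇔ (ii) ⇒ (i) always and (i) ⇒ (iii) needs k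
algebraically closed; this row is the case of the group of k-points with K constant.) -/
theorem result
    (k : Type u) [Field k] [IsAlgClosed k]
    (Γ : Type u) [Group Γ] (ι : kˣ →* Γ) (hι : Function.Injective ι)
    (hcent : ι.range = Subgroup.center Γ) (hcomm : commutator Γ ≤ ι.range)
    [Finite (Γ ⧸ ι.range)] (hcop : (Nat.card (Γ ⧸ ι.range)).Coprime (ringExpChar k))
    (H : Subgroup Γ) (hH : ι.range ≤ H) :
    List.TFAE [
      IsMulCommutative H ∧ ∀ H' : Subgroup Γ, IsMulCommutative H' → H ≤ H' → H' = H,
      IsMulCommutative H ∧ (ι.range.relIndex H) ^ 2 = ι.range.index,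
      H = Subgroup.centralizer (H : Set Γ)] := by
  haveI hN : ι.range.Normal := Groth.Agent.Lib.Seat84.Theta.normal_range hcent
  have key : ι.range.relIndex (Subgroup.centralizer (H : Set Γ)) = H.index :=
    Groth.Agent.Lib.Seat84.Theta.relIndex_centralizer_eq_index hι hcent hcomm hcop H hH
  have hidx : ι.range.relIndex H * H.index = ι.range.index := Subgroup.relIndex_mul_index hH
  have hHidx : H.index ≠ 0 := by
    intro h0
    rw [h0, mul_zero] at hidx
    exact Subgroup.index_ne_zero_of_finite hidx.symm
  have hrel : ι.range.relIndex H ≠ 0 := by
    intro h0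
    rw [h0, zero_mul] at hidx
    exact Subgroup.index_ne_zero_of_finite hidx.symm
  tfae_have 1 → 3 := by
    rintro ⟨hc, hmax⟩
    apply le_antisymm (Subgroup.le_centralizer_iff_isMulCommutative.2 hc)
    intro g hg
    -- H' = closure (H ∪ {g}) is commutative
    have hcl : IsMulCommutative (Subgroup.closure ((H : Set Γ) ∪ {g})) := by
      apply Subgroup.isMulCommutative_closure
      rintro x (hx | hx) y (hy | hy)
      · exact setLike_mul_comm hx hy
      · rw [Set.mem_singleton_iff] at hy
        subst hy
        exact ((Subgroup.mem_centralizer_iff.1 hg) x hx)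
      · rw [Set.mem_singleton_iff] at hx
        subst hx
        exact ((Subgroup.mem_centralizer_iff.1 hg) y hy).symm
      · rw [Set.mem_singleton_iff] at hx hy
        rw [hx, hy]
    have hle : H ≤ Subgroup.closure ((H : Set Γ) ∪ {g}) := fun x hx =>
      Subgroup.subset_closure (Or.inl hx)
    have := hmax _ hcl hle
    rw [← this]
    exact Subgroup.subset_closure (Or.inr rfl)
  tfae_have 3 → 1 := by
    intro h3
    have hc : IsMulCommutative H := Subgroup.le_centralizer_iff_isMulCommutative.1 h3.le
    refine ⟨hc, fun H' hc' hle => ?_⟩
    apply le_antisymm _ hle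
    intro x hx
    rw [h3, Subgroup.mem_centralizer_iff]
    intro h hh
    exact setLike_mul_comm (hle hh) hx
  tfae_have 3 → 2 := by
    intro h3
    refine ⟨Subgroup.le_centralizer_iff_isMulCommutative.1 h3.le, ?_⟩
    rw [← h3] at key
    rw [sq, ← hidx, key]
  tfae_have 2 → 3 := by
    rintro ⟨hc, hsq⟩
    have hle : H ≤ Subgroup.centralizer (H : Set Γ) :=
      Subgroup.le_centralizer_iff_isMulCommutative.2 hc
    apply le_antisymm hle
    rw [← Subgroup.relIndex_eq_one]
    have h1 : ι.range.relIndex H * H.relIndex (Subgroup.centralizer (H : Set Γ)) =
        ι.range.relIndex (Subgroup.centralizer (H : Set Γ)) :=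
      Subgroup.relIndex_mul_relIndex _ _ _ hH hle
    rw [key] at h1
    -- relIndex H * relIndex H = index = relIndex H * H.index
    have h2 : ι.range.relIndex H = H.index := by
      have : ι.range.relIndex H * ι.range.relIndex H = ι.range.relIndex H * H.index := by
        rw [hidx, ← sq, hsq]
      exact Nat.eq_of_mul_eq_mul_left (Nat.pos_of_ne_zero hrel) this
    rw [← h2] at h1
    have : ι.range.relIndex H * H.relIndex (Subgroup.centralizer (H : Set Γ)) =
        ι.range.relIndex H * 1 := by rw [h1, mul_one]
    exact Nat.eq_of_mul_eq_mul_left (Nat.pos_of_ne_zero hrel) this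
  tfae_finish

end Groth.Agent.S17512
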