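import Groth.Statements.S17517
import Groth.Agent.Lib.Seat84GITLattice

set_option autoImplicit false
universe u
open GIT

namespace Groth.Agent.S17517

/-- Let `E` be a finite-dimensional real inner product space and `L` a full lattice in `E` (a discrete
subgroup spanning `E`) on which the inner product is integer valued; let `F` and `G` be nonempty
finite sets of real linear functionals on `E` taking integer values on `L`, with `f_min v = min_{f ∈
F} f v` and `g_min v = min_{g ∈ G} g v`. If some vector `v` has `f_min v ≥ 0` and `g_min v > 0`,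
then on the set `C_F` of nonzero `v` with `f_min v ≥ 0` the function `v ↦ g_min v / ‖v‖` attains a
greatest value `M`, and there is exactly one lattice vector `v₀ ∈ C_F` with `g_min v₀ / ‖v₀‖ = M` of
which every lattice vector `v ∈ C_F` with `g_min v / ‖v‖ = M` is an integer multiple. -/
theorem result
    (E : Type u) [NormedAddCommGroup E] [InnerProductSpace ℝ E] [FiniteDimensional ℝ E]
    (L : Submodule ℤ E) [DiscreteTopology L] [IsZLattice ℝ L]
    (hint : ∀ x ∈ L, ∀ y ∈ L, ∃ n : ℤ, inner ℝ x y = (n : ℝ))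
    (F G : Finset (Module.Dual ℝ E)) (hF : F.Nonempty) (hG : G.Nonempty)
    (hFi : ∀ f ∈ F, ∀ x ∈ L, ∃ n : ℤ, f x = (n : ℝ)) (hGi : ∀ g ∈ G, ∀ x ∈ L, ∃ n : ℤ, g x = (n : ℝ))
    (hpos : ∃ v : E, 0 ≤ F.inf' hF (fun f => f v) ∧ 0 < G.inf' hG (fun g => g v)) :
    ∃ M : ℝ, IsGreatest ((fun v => G.inf' hG (fun g => g v) / ‖v‖) ''
        {v : E | v ≠ 0 ∧ 0 ≤ F.inf' hF (fun f => f v)}) M ∧
      ∃! v₀ : E, v₀ ∈ L ∧ v₀ ≠ 0 ∧ 0 ≤ F.inf' hF (fun f => f v₀) ∧
        G.inf' hG (fun g => g v₀) / ‖v₀‖ = M ∧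
        ∀ v ∈ L, v ≠ 0 → 0 ≤ F.inf' hF (fun f => f v) → G.inf' hG (fun g => g v) / ‖v‖ = M →
          ∃ n : ℤ, v = n • v₀ := by
  classical
  obtain ⟨u, hu, hFu, hGu, hmax⟩ := Lib.Seat84.GITLattice.exists_max F G hF hG hpos
  set M := G.inf' hG (fun g => g u) with hM
  have hMpos : 0 < M := hGu
  have hu0 : u ≠ 0 := by
    intro h
    rw [h, norm_zero] at hu
    exact zero_ne_one hu
  -- the minimal-norm point of the polyhedron
  have hvsF : ∀ f ∈ F, 0 ≤ f (M⁻¹ • u) := by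
    intro f hf
    rw [map_smul, smul_eq_mul]
    exact mul_nonneg (inv_nonneg.mpr hMpos.le)
      (le_trans hFu (Lib.Seat84.GITLattice.mn_le F hF hf u))
  have hvsG : ∀ g ∈ G, 1 ≤ g (M⁻¹ • u) := by
    intro g hg
    rw [map_smul, smul_eq_mul]
    have h1 : M ≤ g u := Lib.Seat84.GITLattice.mn_le G hG hg u
    calc (1 : ℝ) = M⁻¹ * M := (inv_mul_cancel₀ hMpos.ne').symm
      _ ≤ M⁻¹ * g u := mul_le_mul_of_nonneg_left h1 (inv_nonneg.mpr hMpos.le)
  have hvsmin : ∀ w : E, (∀ f ∈ F, 0 ≤ f w) → (∀ g ∈ G, 1 ≤ g w) → ‖M⁻¹ • u‖ ≤ ‖w‖ := by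
    intro w hwF hwG
    have h1 : 0 ≤ F.inf' hF (fun f => f w) := (Finset.le_inf'_iff hF _).mpr hwF
    have h2 : 1 ≤ G.inf' hG (fun g => g w) := (Finset.le_inf'_iff hG _).mpr hwG
    have h3 := hmax w h1
    rw [norm_smul, norm_inv, Real.norm_eq_abs, abs_of_pos hMpos, hu, mul_one,
      inv_le_iff_one_le_mul₀' hMpos]
    linarith
  obtain ⟨N, hN, hNL⟩ := Lib.Seat84.GITLattice.exists_nsmul_mem_of_minimal F G L hint hFi hGi
    (M⁻¹ • u) hvsF hvsG hvsmin
  have hray : ∃ t : ℝ, 0 < t ∧ t • u ∈ L := by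
    refine ⟨N * M⁻¹, ?_, ?_⟩
    · have : (0 : ℝ) < N := by exact_mod_cast Nat.pos_of_ne_zero hN
      positivity
    · rwa [mul_smul]
  obtain ⟨t₀, ht₀, ht₀L, hprim⟩ := Lib.Seat84.GITLattice.exists_primitive L hint u hu hray
  -- facts about points of the ray
  have hrayF : ∀ t : ℝ, 0 < t → 0 ≤ F.inf' hF (fun f => f (t • u)) := by
    intro t ht
    rw [Lib.Seat84.GITLattice.mn_smul F hF ht.le]
    exact mul_nonneg ht.le hFu
  have hrayG : ∀ t : ℝ, 0 < t → G.inf' hG (fun g => g (t • u)) / ‖t • u‖ = M := by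
    intro t ht
    rw [Lib.Seat84.GITLattice.mn_smul G hG ht.le, norm_smul, hu, mul_one, Real.norm_eq_abs,
      abs_of_pos ht, mul_comm, mul_div_assoc, div_self ht.ne', mul_one]
  have hray0 : ∀ t : ℝ, 0 < t → t • u ≠ 0 := fun t ht => smul_ne_zero ht.ne' hu0
  -- every maximizer lies on the ray
  have hkey : ∀ v : E, v ≠ 0 → 0 ≤ F.inf' hF (fun f => f v) →
      G.inf' hG (fun g => g v) / ‖v‖ = M → v = ‖v‖ • u := by
    intro v hv0 hvF hvM
    have hpos : 0 < ‖v‖ := norm_pos_iff.mpr hv0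
    have h1 : ‖v‖⁻¹ • v = u := by
      refine Lib.Seat84.GITLattice.unit_max_unique F G hF hG hMpos hmax ?_ hu ?_ hFu ?_ rfl
      · rw [norm_smul, norm_inv, norm_norm, inv_mul_cancel₀ hpos.ne']
      · rw [Lib.Seat84.GITLattice.mn_smul F hF (inv_nonneg.mpr hpos.le)]
        exact mul_nonneg (inv_nonneg.mpr hpos.le) hvF
      · rw [Lib.Seat84.GITLattice.mn_smul G hG (inv_nonneg.mpr hpos.le), ← hvM, div_eq_inv_mul]
    rw [← h1, smul_smul, mul_inv_cancel₀ hpos.ne', one_smul]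
  refine ⟨M, ⟨⟨u, ⟨hu0, hFu⟩, ?_⟩, ?_⟩, ?_⟩
  · change G.inf' hG (fun g => g u) / ‖u‖ = M
    rw [hu, div_one]
  · rintro _ ⟨v, ⟨hv0, hvF⟩, rfl⟩
    change G.inf' hG (fun g => g v) / ‖v‖ ≤ M
    rw [div_le_iff₀ (norm_pos_iff.mpr hv0)]
    exact hmax v hvF
  · refine ⟨t₀ • u, ⟨ht₀L, hray0 t₀ ht₀, hrayF t₀ ht₀, hrayG t₀ ht₀, ?_⟩, ?_⟩
    · intro v hvL hv0 hvF hvM
      have hv := hkey v hv0 hvF hvM
      have hpos : 0 < ‖v‖ := norm_pos_iff.mpr hv0
      obtain ⟨n, hn⟩ := hprim ‖v‖ hpos (hv ▸ hvL)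
      refine ⟨n, ?_⟩
      rw [← Int.cast_smul_eq_zsmul ℝ, smul_smul, ← hn]
      exact hv
    · rintro y ⟨hyL, hy0, hyF, hyM, hy⟩
      obtain ⟨n, hn⟩ := hy (t₀ • u) ht₀L (hray0 t₀ ht₀) (hrayF t₀ ht₀) (hrayG t₀ ht₀)
      have hyy := hkey y hy0 hyF hyM
      have hypos : 0 < ‖y‖ := norm_pos_iff.mpr hy0
      obtain ⟨m, hm⟩ := hprim ‖y‖ hypos (hyy ▸ hyL)
      -- `t₀ = n * ‖y‖` and `‖y‖ = m * t₀`
      have h1 : t₀ • u = ((n : ℝ) * ‖y‖) • u := by
        rw [mul_smul, ← hyy, Int.cast_smul_eq_zsmul]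
        exact hn
      have h2 : t₀ = (n : ℝ) * ‖y‖ := by
        have := sub_eq_zero.mpr h1
        rw [← sub_smul, smul_eq_zero] at this
        rcases this with h | h
        · linarith
        · exact absurd h hu0
      have h3 : (n : ℝ) * (m : ℝ) = 1 := by
        have : t₀ * 1 = t₀ * ((n : ℝ) * m) := by
          rw [mul_one]
          conv_lhs => rw [h2, hm]
          ring
        exact (mul_left_cancel₀ ht₀.ne' this).symm
      have h4 : n * m = 1 := by exact_mod_cast h3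
      have hnpos : (0 : ℝ) < n := by
        by_contra hneg
        rw [not_lt] at hneg
        have : (n : ℝ) * ‖y‖ ≤ 0 := mul_nonpos_of_nonpos_of_nonneg hneg hypos.le
        linarith
      have hn1 : n = 1 := by
        have hn0 : 0 < n := by exact_mod_cast hnpos
        rcases Int.eq_one_or_neg_one_of_mul_eq_one h4 with h | h
        · exact h
        · omega
      rw [hyy, h2, hn1]
      simp

end Groth.Agent.S17517
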