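import Groth.Statements.S17584
import Groth.Agent.Lib.Helper4NormGlobal
import Groth.Agent.Lib.Helper4EtNormalSch

set_option autoImplicit false
open CategoryTheory CategoryTheory.Limits AlgebraicGeometry
open PosLin

namespace Groth.Agent.S17584

/-- Let X and Y each be a projective variety over the complex numbers (an integral scheme, proper over
ℂ, with an ample invertible module), and f : X → Y an algebraic fibre space (a surjective morphism
over ℂ with O_Y → f_*O_X an isomorphism). If X is normal, then Y is normal. -/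
theorem result (X : Scheme.{0}) [X.Over (Spec (CommRingCat.of ℂ))] [IsIntegral X] [IsProper (X ↘ Spec (CommRingCat.of ℂ))]
    (HX : X.Modules) (hHX : CohB1.IsAmple HX)
    (Y : Scheme.{0}) [Y.Over (Spec (CommRingCat.of ℂ))] [IsIntegral Y] [IsProper (Y ↘ Spec (CommRingCat.of ℂ))]
    (HY : Y.Modules) (hHY : CohB1.IsAmple HY)
    (f : X ⟶ Y) (hf : f ≫ (Y ↘ Spec (CommRingCat.of ℂ)) = X ↘ Spec (CommRingCat.of ℂ)) [Surjective f]
    (hfs : IsIso (ClSub.unitToPush f))
    (hX : Pi1.IsNormalScheme X) : Pi1.IsNormalScheme Y := by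
  intro y
  obtain ⟨_, ⟨V, hV, rfl⟩, hyV, -⟩ := Y.isBasis_affineOpens.exists_subset_of_mem_open
    (Set.mem_univ y) isOpen_univ
  have hneV : Nonempty V := ⟨⟨y, hyV⟩⟩
  have hdomV : IsDomain Γ(Y, V) := IsIntegral.component_integral V
  obtain ⟨x, hx⟩ := f.surjective y
  have hneW : Nonempty (f ⁻¹ᵁ V) := ⟨⟨x, show f x ∈ V from hx ▸ hyV⟩⟩
  -- the open subscheme `f⁻¹V` of `X` is integral and normal
  have hWint : IsIntegral (f ⁻¹ᵁ V).toScheme := inferInstance
  have hWn : Pi1.IsNormalScheme (f ⁻¹ᵁ V).toScheme :=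
    Groth.Agent.Lib.Helper4.EtNormalSch.isNormalScheme_of_etale hX (f ⁻¹ᵁ V).ι
  have hneT : Nonempty (⊤ : (f ⁻¹ᵁ V).toScheme.Opens) :=
    ⟨⟨Classical.arbitrary _, trivial⟩⟩
  have hic := Groth.Agent.Lib.Helper4.NormGlobal.isIntegrallyClosedIn_top_functionField
    (f ⁻¹ᵁ V).toScheme hWn
  have hinj : Function.Injective
      (algebraMap Γ((f ⁻¹ᵁ V).toScheme, ⊤) (f ⁻¹ᵁ V).toScheme.functionField) :=
    (f ⁻¹ᵁ V).toScheme.germToFunctionField_injective ⊤
  have hfaith : FaithfulSMul Γ((f ⁻¹ᵁ V).toScheme, ⊤) (f ⁻¹ᵁ V).toScheme.functionField :=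
    (faithfulSMul_iff_algebraMap_injective _ _).mpr hinj
  have hicW : IsIntegrallyClosed Γ((f ⁻¹ᵁ V).toScheme, ⊤) :=
    IsIntegrallyClosed.of_isIntegrallyClosedIn _ (f ⁻¹ᵁ V).toScheme.functionField
  -- transfer to `Γ(Y, V)` along `Γ(Y, V) ≅ Γ(X, f⁻¹V) ≅ Γ(f⁻¹V, ⊤)`
  have hiso : IsIso (f.app V) := by
    have h1 : IsIso ((ClSub.unitToPush f).app V) :=
      Scheme.Modules.Hom.isIso_iff_isIso_app.1 hfs V
    have hb : Function.Bijective (f.app V) :=
      ConcreteCategory.bijective_of_isIso ((ClSub.unitToPush f).app V)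
    exact (ConcreteCategory.isIso_iff_bijective _).2 hb
  let e : Γ((f ⁻¹ᵁ V).toScheme, ⊤) ≃+* Γ(Y, V) :=
    ((Scheme.Opens.topIso (f ⁻¹ᵁ V)) ≪≫ (asIso (f.app V)).symm).commRingCatIsoToRingEquiv
  have hicV : IsIntegrallyClosed Γ(Y, V) := IsIntegrallyClosed.of_equiv e
  -- the stalk at `y` is a localization of `Γ(Y, V)`
  let _ := TopCat.Presheaf.algebra_section_stalk Y.presheaf ⟨y, hyV⟩
  have hloc := hV.isLocalization_stalk ⟨y, hyV⟩
  have hprime := (hV.primeIdealOf ⟨y, hyV⟩).isPrime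
  have hle : (hV.primeIdealOf ⟨y, hyV⟩).asIdeal.primeCompl ≤ nonZeroDivisors Γ(Y, V) :=
    Ideal.primeCompl_le_nonZeroDivisors _
  exact ⟨IsLocalization.isDomain_of_le_nonZeroDivisors _ hle,
    isIntegrallyClosed_of_isLocalization _ _ hle⟩

end Groth.Agent.S17584
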