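import Groth.Statements.S17593
import Groth.Agent.Lib.Helper26AwayQuot
import Groth.Agent.Lib.Helper3FlatOpenFP

set_option autoImplicit false
set_option linter.style.haveILetI false
universe u
open Hensel

namespace Groth.Agent.S17593

/-- Suppose (A, I) is a Henselian pair, and R is an A-algebra of finite presentation for which A → R is
flat at each prime of R that contains IR. Then there is an étale R-algebra R' such that R/IR →
R'/IR' is bijective and A → R' is flat. -/
theorem result (A : Type u) [CommRing A] (I : Ideal A) [HenselianRing A I]
    (R : Type u) [CommRing R] [Algebra A R] [Algebra.FinitePresentation A R]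
    (h : ∀ (p : Ideal R) [p.IsPrime], I.map (algebraMap A R) ≤ p → Module.Flat A (Localization.AtPrime p))
    : ∃ (R' : Type u) (_ : CommRing R') (_ : Algebra R R') (_ : Algebra A R') (_ : IsScalarTower A R R'),
      Algebra.Etale R R' ∧
      Function.Bijective (Ideal.quotientMap ((I.map (algebraMap A R)).map (algebraMap R R'))
        (algebraMap R R') Ideal.le_comap_map) ∧ Module.Flat A R' := by
  classical
  -- the flat locus is open
  have hopen : IsOpen {q : PrimeSpectrum R |
      Module.Flat A (LocalizedModule q.asIdeal.primeCompl R)} :=
    Groth.Agent.Lib.Helper3.FlatOpen.isOpen_flatLocus_of_finitePresentation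
      (R := A) (S := R) (M := R)
  have hiff : ∀ q : PrimeSpectrum R,
      Module.Flat A (Localization.AtPrime q.asIdeal) →
        Module.Flat A (LocalizedModule q.asIdeal.primeCompl R) := by
    intro q hq
    let e : LocalizedModule q.asIdeal.primeCompl R ≃ₗ[R] Localization.AtPrime q.asIdeal :=
      IsLocalizedModule.iso q.asIdeal.primeCompl
        (Algebra.linearMap R (Localization.AtPrime q.asIdeal))
    exact Module.Flat.of_linearEquiv (e.restrictScalars A)
  have hiff' : ∀ q : PrimeSpectrum R,
      Module.Flat A (LocalizedModule q.asIdeal.primeCompl R) →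
        Module.Flat A (Localization.AtPrime q.asIdeal) := by
    intro q hq
    let e : LocalizedModule q.asIdeal.primeCompl R ≃ₗ[R] Localization.AtPrime q.asIdeal :=
      IsLocalizedModule.iso q.asIdeal.primeCompl
        (Algebra.linearMap R (Localization.AtPrime q.asIdeal))
    exact Module.Flat.of_linearEquiv (e.restrictScalars A).symm
  have hsub : PrimeSpectrum.zeroLocus ((I.map (algebraMap A R) : Ideal R) : Set R) ⊆
      {q : PrimeSpectrum R | Module.Flat A (LocalizedModule q.asIdeal.primeCompl R)} := by
    intro p hp
    exact hiff p (h p.asIdeal hp)
  obtain ⟨g, hg, hgU⟩ := Groth.Agent.Lib.Helper26.AwayQuot.exists_basicOpen_subset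
    (I.map (algebraMap A R)) _ hopen hsub
  refine ⟨Localization.Away g, inferInstance, inferInstance, inferInstance, inferInstance,
    inferInstance, ?_, ?_⟩
  · exact Groth.Agent.Lib.Helper26.AwayQuot.quotientMap_away_bijective _ g hg _
  · refine Module.flat_of_isLocalized_maximal (R := A) (Localization.Away g) (Localization.Away g)
      (fun P _ => Localization.AtPrime P)
      (fun P _ => Algebra.linearMap (Localization.Away g) (Localization.AtPrime P)) ?_
    intro P hP
    -- `(R_g)_P` is the localization of `R` at the contraction of `P`
    set p : Ideal R := P.comap (algebraMap R (Localization.Away g)) with hp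
    haveI : p.IsPrime := Ideal.comap_isPrime _ _
    haveI : IsLocalization.AtPrime (Localization.AtPrime P) p :=
      IsLocalization.isLocalization_isLocalization_atPrime_isLocalization
        (Submonoid.powers g) (Localization.AtPrime P) P
    have hgp : g ∉ p := by
      intro hgp
      rw [hp, Ideal.mem_comap] at hgp
      exact hP.ne_top (Ideal.eq_top_of_isUnit_mem _ hgp
        (IsLocalization.Away.algebraMap_isUnit g))
    have hflat : Module.Flat A (Localization.AtPrime p) :=
      hiff' ⟨p, inferInstance⟩ (hgU (show (⟨p, inferInstance⟩ : PrimeSpectrum R) ∈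
        (PrimeSpectrum.basicOpen g : Set (PrimeSpectrum R)) from hgp))
    let e : Localization.AtPrime p ≃ₐ[R] Localization.AtPrime P :=
      IsLocalization.algEquiv p.primeCompl _ _
    exact Module.Flat.of_linearEquiv (e.toLinearEquiv.restrictScalars A).symm

end Groth.Agent.S17593
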