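import Groth.Statements.S17599
import Groth.Agent.S6827
import Groth.Agent.S17609
import Groth.Agent.S17597
import Groth.Agent.S17596
import Groth.Agent.Lib.Helper26SmoothLift
import Groth.Agent.Lib.Helper26PairHzQuot
import Groth.Agent.Lib.Seat69KerFlat

set_option autoImplicit false
set_option linter.style.haveILetI false
universe u
open Hensel

namespace Groth.Agent.S17599

section Helpers

open TensorProduct Groth.Agent.Lib.Helper26.PairHz Groth.Agent.Lib.Helper26

variable {A : Type u} [CommRing A]

/-- A smooth model of `B` modulo `K`, mapping to `B`. -/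
theorem exists_smooth_model (K : Ideal A) (B : Type u) [CommRing B] [Algebra A B]
    [HenselianRing B (K.map (algebraMap A B))]
    [Algebra.Smooth (A ⧸ K) (B ⧸ K.map (algebraMap A B))] :
    ∃ (R : Type u) (_ : CommRing R) (_ : Algebra A R) (_ : Algebra.Smooth A R) (ρ : R →ₐ[A] B)
      (e : (R ⧸ K.map (algebraMap A R)) ≃ₐ[A] (B ⧸ K.map (algebraMap A B))),
      ∀ r, e (Ideal.Quotient.mk _ r) = Ideal.Quotient.mk _ (ρ r) := by
  obtain ⟨R, _, _, hR, ⟨e₀⟩⟩ :=
    Groth.Agent.S6827.result (R := A) K (A₀ := B ⧸ K.map (algebraMap A B))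
  let e : (R ⧸ K.map (algebraMap A R)) ≃ₐ[A] (B ⧸ K.map (algebraMap A B)) := e₀.restrictScalars A
  obtain ⟨ρ, hρ⟩ := Groth.Agent.Lib.Helper26.SmoothLift.exists_lift_of_smooth
    (K.map (algebraMap A B)) (e.toAlgHom.comp (Ideal.Quotient.mkₐ A _))
  exact ⟨R, _, _, hR, ρ, e, fun r => (hρ r).symm⟩

end Helpers

/-- Let (A, I) be a Henselian pair and let B be a Henselization of the pair (R₀, IR₀) for a finitely
presented A-algebra R₀ (so A → B is a Henselian finitely presented map of Henselian pairs). Assume
that A/I^r → B/I^rB is smooth for every r ≥ 1 (for Henselian finitely presented maps this is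
equivalent to the h-formally smooth lifting property). Then there exist a smooth A-algebra R, a
Henselization H of the pair (R, IR) and a surjective A-algebra map H → B whose kernel is a finitely
generated ideal contained in I^n H for every n. -/
theorem result (A : Type u) [CommRing A] (I : Ideal A)
    [HenselianRing A I] (R₀ : Type u) [CommRing R₀] [Algebra A R₀] [Algebra.FinitePresentation A R₀]
    (B : Type u) [CommRing B] [Algebra R₀ B] [Algebra A B] [IsScalarTower A R₀ B]
    (hB : Hens2.IsPairHenselization R₀ (I.map (algebraMap A R₀)) B)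
    (het : ∀ r : ℕ, 1 ≤ r → Algebra.Smooth (A ⧸ I ^ r) (B ⧸ (I ^ r).map (algebraMap A B))) :
    ∃ (R : Type u) (_ : CommRing R) (_ : Algebra A R) (H : Type u) (_ : CommRing H) (_ : Algebra R H)
      (_ : Algebra A H) (_ : IsScalarTower A R H),
      Algebra.Smooth A R ∧ Hens2.IsPairHenselization R (I.map (algebraMap A R)) H ∧
      ∃ φ : H →ₐ[A] B, Function.Surjective φ ∧ (RingHom.ker φ).FG ∧
        ∀ n : ℕ, RingHom.ker φ ≤ (I ^ n).map (algebraMap A H) := by
  classical
  have hI1 : I ^ 1 = I := pow_one I
  have hHB : HenselianRing B (I.map (algebraMap A B)) := by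
    have := hB.1
    rwa [Groth.Agent.Lib.Helper26.PairHz.map_map_tower] at this
  haveI hHB1 : HenselianRing B ((I ^ 1).map (algebraMap A B)) := by rw [hI1]; exact hHB
  haveI := het 1 le_rfl
  obtain ⟨R, _, _, hR, ρ, e, he⟩ := exists_smooth_model (I ^ 1) B
  let H := Groth.Agent.Lib.Helper26.PairHz.Hz R (I.map (algebraMap A R))
  letI : Algebra A H := ((algebraMap R H).comp (algebraMap A R)).toAlgebra
  haveI : IsScalarTower A R H := IsScalarTower.of_algebraMap_eq (fun _ => rfl)
  have hH : Hens2.IsPairHenselization R (I.map (algebraMap A R)) H :=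
    Groth.Agent.Lib.Helper26.PairHz.isPairHenselization_Hz
  -- the map φ
  have hIB : (I.map (algebraMap A R)).map (ρ : R →+* B) ≤ I.map (algebraMap A B) := by
    rw [Ideal.map_map]
    apply le_of_eq
    congr 1
    exact ρ.comp_algebraMap
  obtain ⟨g, hg, -⟩ := hH.2 B (I.map (algebraMap A B)) (ρ : R →+* B) hHB hIB
  let φ : H →ₐ[A] B := AlgHom.mk g (fun a => by
    change g (algebraMap R H (algebraMap A R a)) = _
    have := congrArg (fun k : R →+* B => k (algebraMap A R a)) hg
    simp only [RingHom.comp_apply] at this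
    rw [this]
    exact ρ.commutes a)
  have hφρ : ∀ r, φ (algebraMap R H r) = ρ r := fun r =>
    congrArg (fun k : R →+* B => k r) hg
  refine ⟨R, inferInstance, inferInstance, H, inferInstance, inferInstance, inferInstance,
    inferInstance, hR, hH, φ, ?_⟩
  -- `B` as an `H`-algebra
  letI : Algebra H B := (φ : H →+* B).toAlgebra
  haveI : IsScalarTower A H B := IsScalarTower.of_algebraMap_eq (fun a => (φ.commutes a).symm)
  obtain ⟨T, _, _, _, _, hT, hTB⟩ := Groth.Agent.S17609.result A I R H hH R₀ B hB
  haveI hHH : HenselianRing H (I.map (algebraMap A H)) := by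
    have := hH.1
    rwa [Groth.Agent.Lib.Helper26.PairHz.map_map_tower] at this
  -- surjectivity modulo I
  have hsurj1 : ∀ b : B, ∃ h : H, b - φ h ∈ (I.map (algebraMap A H)).map (algebraMap H B) := by
    intro b
    obtain ⟨z, hz⟩ := e.surjective (Ideal.Quotient.mk _ b)
    obtain ⟨r, rfl⟩ := Ideal.Quotient.mk_surjective z
    rw [he r, Ideal.Quotient.eq] at hz
    refine ⟨algebraMap R H r, ?_⟩
    rw [hφρ, Groth.Agent.Lib.Helper26.PairHz.map_map_tower, ← hI1]
    have := Ideal.neg_mem_iff _ |>.mpr hz
    rwa [neg_sub] at this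
  have hsurjq : Function.Surjective
      (Ideal.quotientMap ((I.map (algebraMap A H)).map (algebraMap H B)) (algebraMap H B)
        Ideal.le_comap_map) := by
    intro z
    obtain ⟨b, rfl⟩ := Ideal.Quotient.mk_surjective z
    obtain ⟨h, hh⟩ := hsurj1 b
    refine ⟨Ideal.Quotient.mk _ h, ?_⟩
    rw [Ideal.quotientMap_mk, Ideal.Quotient.eq]
    have := Ideal.neg_mem_iff _ |>.mpr hh
    rwa [neg_sub] at this
  have hsurj : Function.Surjective (algebraMap H B) :=
    Groth.Agent.S17597.result H (I.map (algebraMap A H)) T B hTB hsurjq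
  obtain ⟨-, hfp⟩ := Groth.Agent.S17596.result H (I.map (algebraMap A H)) T B hTB
    (RingHom.Finite.of_surjective _ hsurjq)
  refine ⟨hsurj, ?_, ?_⟩
  · have := Algebra.FinitePresentation.ker_fG_of_surjective (Algebra.ofId H B) hsurj
    exact this
  · intro n
    rcases Nat.eq_zero_or_pos n with rfl | hn
    · rw [pow_zero, Ideal.one_eq_top, Ideal.map_top]
      exact le_top
    · -- the retraction modulo I
      let C := H ⧸ (I ^ 1).map (algebraMap A H)
      let w : R →ₐ[A] C := (Ideal.Quotient.mkₐ A _).comp (IsScalarTower.toAlgHom A R H)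
      have hw : ∀ x ∈ (I ^ 1).map (algebraMap A R), w x = 0 := by
        intro x hx
        change Ideal.Quotient.mk _ (algebraMap R H x) = 0
        rw [Ideal.Quotient.eq_zero_iff_mem,
          ← Groth.Agent.Lib.Helper26.PairHz.map_map_tower (I ^ 1) (C := R) (D := H)]
        exact Ideal.mem_map_of_mem _ hx
      let wbar : (R ⧸ (I ^ 1).map (algebraMap A R)) →ₐ[A] C := Ideal.Quotient.liftₐ _ w hw
      let u : B →ₐ[A] C :=
        (wbar.comp e.symm.toAlgHom).comp (Ideal.Quotient.mkₐ A ((I ^ 1).map (algebraMap A B)))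
      have hu : u.comp φ = Ideal.Quotient.mkₐ A ((I ^ 1).map (algebraMap A H)) := by
        -- both are ring maps out of the henselization `H` of `R`
        have hCbot : HenselianRing C ⊥ := Groth.Agent.Lib.Helper2.henselianRing_bot C
        have hle : (I.map (algebraMap A R)).map ((w : R →+* C)) ≤ ⊥ := by
          rw [Ideal.map_le_iff_le_comap]
          intro x hx
          rw [Ideal.mem_comap, Ideal.mem_bot]
          exact hw x (by rw [hI1]; exact hx)
        obtain ⟨g0, -, hg0⟩ := hH.2 C ⊥ (w : R →+* C) hCbot hle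
        have h1 : ((u.comp φ : H →ₐ[A] C) : H →+* C) = g0 := by
          apply hg0
          refine RingHom.ext (fun r => ?_)
          change u (φ (algebraMap R H r)) = w r
          rw [hφρ]
          change wbar (e.symm (Ideal.Quotient.mk _ (ρ r))) = w r
          rw [← he r, AlgEquiv.symm_apply_apply]
          rfl
        have h2 : ((Ideal.Quotient.mkₐ A ((I ^ 1).map (algebraMap A H)) : H →ₐ[A] C) : H →+* C)
            = g0 := by
          apply hg0
          refine RingHom.ext (fun r => ?_)
          rfl
        ext x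
        exact congrArg (fun k : H →+* C => k x) (h1.trans h2.symm)
      haveI := het n hn
      haveI : Module.Flat (A ⧸ I ^ n) (B ⧸ (I ^ n).map (algebraMap A B)) := inferInstance
      have hK1 : RingHom.ker (φ : H →+* B) ≤ I.map (algebraMap A H) := by
        intro x hx
        have h1 : Ideal.Quotient.mkₐ A ((I ^ 1).map (algebraMap A H)) x = 0 := by
          rw [← hu, AlgHom.comp_apply, show φ x = 0 from hx, map_zero]
        have h2 := Ideal.Quotient.eq_zero_iff_mem.mp h1
        rwa [hI1] at h2
      exact Groth.Agent.Lib.Seat69.KerFlat.ker_le_pow_of_flat I n φ hsurj hK1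

end Groth.Agent.S17599
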