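import Groth.Statements.S17615
import Groth.Agent.S17593
import Groth.Agent.Lib.Helper26PairHzMore
import Groth.Agent.Lib.Helper12Flat

set_option autoImplicit false
set_option linter.style.haveILetI false
universe u
open Hensel

namespace Groth.Agent.S17615

/-- Let (A, I) be a Henselian pair and let B be a Henselization of the pair (R₀, IR₀) for a finitely
presented A-algebra R₀ (so A → B is a Henselian finitely presented map of Henselian pairs). If B is
flat over A, then there are a finitely presented A-algebra S that is flat over A and an S-algebra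
structure on B compatible with that of A for which B is a Henselization of the pair (S, IS). -/
theorem result (A : Type u) [CommRing A]
    (I : Ideal A) [HenselianRing A I]
    (R₀ : Type u) [CommRing R₀] [Algebra A R₀] [Algebra.FinitePresentation A R₀]
    (B : Type u) [CommRing B] [Algebra R₀ B] [Algebra A B] [IsScalarTower A R₀ B]
    (hB : Hens2.IsPairHenselization R₀ (I.map (algebraMap A R₀)) B) [Module.Flat A B] :
    ∃ (S : Type u) (_ : CommRing S) (_ : Algebra A S) (_ : Algebra S B) (_ : IsScalarTower A S B),
      Algebra.FinitePresentation A S ∧ Module.Flat A S ∧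
      Hens2.IsPairHenselization S (I.map (algebraMap A S)) B := by
  classical
  set J : Ideal R₀ := I.map (algebraMap A R₀) with hJ
  -- `B` is flat over `R₀`
  haveI hflatR₀ : Module.Flat R₀ B :=
    Groth.Agent.Lib.Helper26.PairHz.flat_of_isPairHenselization hB
  have hbij := Groth.Agent.Lib.Helper26.PairHz.quotientMap_pow_bijective hB 1
  -- `R₀` is flat over `A` at the primes containing `I R₀`
  have hloc : ∀ (p : Ideal R₀) [p.IsPrime], J ≤ p → Module.Flat A (Localization.AtPrime p) := by
    intro p _ hp
    have hp1 : J ^ 1 ≤ p := by rw [pow_one]; exact hp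
    let e : (R₀ ⧸ J ^ 1) ≃+* (B ⧸ (J ^ 1).map (algebraMap R₀ B)) :=
      RingEquiv.ofBijective _ hbij
    have he : ∀ r, e (Ideal.Quotient.mk _ r) = Ideal.Quotient.mk _ (algebraMap R₀ B r) :=
      fun r => rfl
    let ψ : B →+* R₀ ⧸ p :=
      (Ideal.Quotient.factor hp1).comp (e.symm.toRingHom.comp (Ideal.Quotient.mk _))
    have hψ : ∀ r, ψ (algebraMap R₀ B r) = Ideal.Quotient.mk p r := by
      intro r
      change Ideal.Quotient.factor hp1 (e.symm (Ideal.Quotient.mk _ (algebraMap R₀ B r))) = _
      rw [← he, RingEquiv.symm_apply_apply]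
      rfl
    let Q : Ideal B := RingHom.ker ψ
    haveI hQ : Q.IsPrime := RingHom.ker_isPrime ψ
    haveI hQp : Q.LiesOver p := ⟨by
      ext r
      rw [Ideal.under_def, Ideal.mem_comap, RingHom.mem_ker, hψ, Ideal.Quotient.eq_zero_iff_mem]⟩
    letI := Localization.AtPrime.algebraOfLiesOver p Q
    haveI : IsLocalHom (algebraMap (Localization.AtPrime p) (Localization.AtPrime Q)) :=
      Localization.isLocalHom_localRingHom _ _ _ _
    haveI : Module.FaithfullyFlat (Localization.AtPrime p) (Localization.AtPrime Q) :=
      Module.FaithfullyFlat.of_flat_of_isLocalHom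
    haveI : Module.Flat A (Localization.AtPrime Q) := Module.Flat.trans A B _
    exact Groth.Agent.Lib.Helper12.flat_of_faithfullyFlat_of_flat_comp A
      (Localization.AtPrime p) (Localization.AtPrime Q)
  obtain ⟨S, _, _, _, _, hSet, hSbij, hSflat⟩ := Groth.Agent.S17593.result A I R₀ hloc
  have hC : Groth.Agent.Lib.Helper26.PairHz.IsNbhd J S :=
    Groth.Agent.Lib.Helper26.PairHz.IsNbhd.of_quotientMap_bijective hSbij
  obtain ⟨ρ, -⟩ := Groth.Agent.Lib.Helper26.PairHz.exists_algHom_of_nbhd hB hC
  letI : Algebra S B := ρ.toRingHom.toAlgebra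
  haveI : IsScalarTower R₀ S B := IsScalarTower.of_algebraMap_eq (fun r => (ρ.commutes r).symm)
  haveI : IsScalarTower A S B := IsScalarTower.of_algebraMap_eq (fun a => by
    rw [IsScalarTower.algebraMap_apply A R₀ B, IsScalarTower.algebraMap_apply R₀ S B,
      ← IsScalarTower.algebraMap_apply A R₀ S])
  haveI : Algebra.FinitePresentation R₀ S := inferInstance
  have hfp : Algebra.FinitePresentation A S := Algebra.FinitePresentation.trans A R₀ S
  have hH := Groth.Agent.Lib.Helper26.PairHz.isPairHenselization_of_nbhd hB hC
  rw [Groth.Agent.Lib.Helper26.PairHz.map_map_tower] at hH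
  exact ⟨S, inferInstance, inferInstance, inferInstance, inferInstance, hfp, hSflat, hH⟩

end Groth.Agent.S17615
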