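import Groth.Statements.S17601
import Groth.Agent.S17615
import Groth.Agent.S17594
import Groth.Agent.Lib.Helper26PairHzMore

set_option autoImplicit false
set_option linter.style.haveILetI false
universe u
open Hensel

namespace Groth.Agent.S17601

/-- Let (A, I) be a Henselian pair and let B be a Henselization of the pair (R₀, IR₀) for a finitely
presented A-algebra R₀ (so A → B is Henselian finitely presented). If B is flat over A and A/I^r →
B/I^rB is smooth for every r ≥ 1 (the h-formally smooth property, in its equivalent form for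
Henselian finitely presented maps), then A → B is h-smooth: there is a smooth A-algebra R, with an
R-algebra structure on B compatible with that of A, such that B is a Henselization of the pair (R,
IR). -/
theorem result (A : Type u) [CommRing A] (I : Ideal A)
    [HenselianRing A I] (R₀ : Type u) [CommRing R₀] [Algebra A R₀] [Algebra.FinitePresentation A R₀]
    (B : Type u) [CommRing B] [Algebra R₀ B] [Algebra A B] [IsScalarTower A R₀ B]
    (hB : Hens2.IsPairHenselization R₀ (I.map (algebraMap A R₀)) B) [Module.Flat A B]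
    (het : ∀ r : ℕ, 1 ≤ r → Algebra.Smooth (A ⧸ I ^ r) (B ⧸ (I ^ r).map (algebraMap A B))) :
    ∃ (R : Type u) (_ : CommRing R) (_ : Algebra A R) (_ : Algebra R B) (_ : IsScalarTower A R B),
      Algebra.Smooth A R ∧ Hens2.IsPairHenselization R (I.map (algebraMap A R)) B := by
  classical
  obtain ⟨S, _, _, _, _, hSfp, hSflat, hS⟩ := Groth.Agent.S17615.result A I R₀ B hB
  haveI := hSfp
  haveI := hSflat
  -- `S/IS` is smooth over `A/I`
  haveI hsm1 : Algebra.Smooth (A ⧸ I ^ 1) (S ⧸ (I ^ 1).map (algebraMap A S)) := by
    obtain ⟨e⟩ := Groth.Agent.Lib.Helper26.PairHz.nonempty_algEquiv_quotient_pow I hS 1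
    haveI := het 1 le_rfl
    exact Algebra.Smooth.of_equiv e.symm
  haveI hsm2 : Algebra.FormallySmooth (A ⧸ I ^ 1) (TensorProduct A (A ⧸ I ^ 1) S) :=
    Algebra.FormallySmooth.of_equiv (Algebra.TensorProduct.quotIdealMapEquivQuotTensor S (I ^ 1))
  -- `S` is smooth over `A` at the primes containing `IS`
  have hsmooth : ∀ (q : Ideal S) [q.IsPrime], I.map (algebraMap A S) ≤ q →
      Algebra.IsSmoothAt A q := by
    intro q _ hq
    set p : Ideal A := q.under A with hp
    haveI : q.LiesOver p := ⟨rfl⟩
    have hIp : I ^ 1 ≤ p := by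
      rw [pow_one]
      intro a ha
      rw [hp, Ideal.under_def, Ideal.mem_comap]
      exact hq (Ideal.mem_map_of_mem _ ha)
    letI algκ : Algebra (A ⧸ I ^ 1) p.ResidueField :=
      (Ideal.Quotient.lift (I ^ 1) (algebraMap A p.ResidueField) (fun a ha =>
        Ideal.algebraMap_residueField_eq_zero.2 (hIp ha))).toAlgebra
    haveI : IsScalarTower A (A ⧸ I ^ 1) p.ResidueField :=
      IsScalarTower.of_algebraMap_eq (fun a => rfl)
    haveI : Algebra.FormallySmooth p.ResidueField
        (TensorProduct (A ⧸ I ^ 1) p.ResidueField (TensorProduct A (A ⧸ I ^ 1) S)) :=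
      inferInstance
    haveI : Algebra.FormallySmooth p.ResidueField (p.Fiber S) :=
      Algebra.FormallySmooth.of_equiv
        (Algebra.TensorProduct.cancelBaseChange A (A ⧸ I ^ 1) p.ResidueField p.ResidueField S)
    exact Algebra.IsSmoothAt.of_formallySmooth_fiber p q
  obtain ⟨R', _, _, _, _, hR'et, hR'bij, hR'sm⟩ := Groth.Agent.S17594.result A I S hsmooth
  have hC : Groth.Agent.Lib.Helper26.PairHz.IsNbhd (I.map (algebraMap A S)) R' :=
    Groth.Agent.Lib.Helper26.PairHz.IsNbhd.of_quotientMap_bijective hR'bij
  obtain ⟨ρ, -⟩ := Groth.Agent.Lib.Helper26.PairHz.exists_algHom_of_nbhd hS hC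
  letI : Algebra R' B := ρ.toRingHom.toAlgebra
  haveI : IsScalarTower S R' B := IsScalarTower.of_algebraMap_eq (fun r => (ρ.commutes r).symm)
  haveI : IsScalarTower A R' B := IsScalarTower.of_algebraMap_eq (fun a => by
    rw [IsScalarTower.algebraMap_apply A S B, IsScalarTower.algebraMap_apply S R' B,
      ← IsScalarTower.algebraMap_apply A S R'])
  have hH := Groth.Agent.Lib.Helper26.PairHz.isPairHenselization_of_nbhd hS hC
  rw [Groth.Agent.Lib.Helper26.PairHz.map_map_tower] at hH
  exact ⟨R', inferInstance, inferInstance, inferInstance, inferInstance, hR'sm, hH⟩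

end Groth.Agent.S17601
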