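import Groth.Statements.S1762
import Groth.Agent.Lib.Seat8MinPrime

set_option autoImplicit false
universe u
open CategoryTheory
attribute [local instance] HasDerivedCategory.standard
open Dual

namespace Groth.Agent.S1762

/-- Let A be a Noetherian ring with a dualizing complex ω and p a minimal prime of A. Then there is
exactly one integer i for which H^i(ω) localized at p is nonzero. -/
theorem result (A : Type u) [CommRing A] [IsNoetherianRing A] (ω : Dual.D A) (hω : Dual.IsDualizing A ω) (p : Ideal A) (hp : p ∈ minimalPrimes A) : ∃! i : ℤ, Nontrivial (LocalizedModule (Ideal.primeCompl p (hp := hp.1.1)) (Dual.HD A ω i)) := by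
  open Groth.Agent.Lib.Helper1.Extend in
  have hpp : p.IsPrime := hp.1.1
  have hfl : Module.Flat A (Localization.AtPrime p) :=
    IsLocalization.flat (Localization.AtPrime p) p.primeCompl
  have hNR : IsNoetherianRing (Localization.AtPrime p) :=
    IsLocalization.isNoetherianRing p.primeCompl _ inferInstance
  have hArt : IsArtinianRing (Localization.AtPrime p) := by
    rw [isArtinianRing_iff_krullDimLE_zero, Ring.krullDimLE_iff,
      IsLocalization.AtPrime.ringKrullDim_eq_height p (Localization.AtPrime p),
      Ideal.height_eq_zero_iff.2 hp]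
    rfl
  have hΩ := Groth.Agent.Lib.Seat8.MinPrime.isDualizing_extD_localization p.primeCompl ω hω
  have key := Groth.Agent.Lib.Seat8.MinPrime.existsUnique_nontrivial_HD
    (R := Localization.AtPrime p) ((extD A (Localization.AtPrime p)).obj ω) hΩ
  have e : ∀ i : ℤ, Dual.HD (Localization.AtPrime p) ((extD A (Localization.AtPrime p)).obj ω) i ≃
      LocalizedModule p.primeCompl (Dual.HD A ω i) := fun i =>
    ((homologyMapDIso (ext A (Localization.AtPrime p)) ω i).toLinearEquiv.trans
      ((extEquiv (A := A) (B := Localization.AtPrime p) (Dual.HD A ω i)).trans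
        (LocalizedModule.equivTensorProduct p.primeCompl (Dual.HD A ω i)).symm)).toEquiv
  obtain ⟨i, hi, huniq⟩ := key
  exact ⟨i, (e i).symm.nontrivial, fun j hj => huniq j (e j).nontrivial⟩

end Groth.Agent.S1762
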