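import Groth.Statements.S17646
import Groth.Agent.Lib.Seat85GabLocBasic

set_option autoImplicit false
universe w v u
open CategoryTheory CategoryTheory.Limits
open GabLoc

namespace Groth.Agent.S17646

/-- Let C be a Grothendieck abelian category, E an indecomposable injective object of C (E is nonzero
and whenever E ≅ A ⊞ B one of A, B is zero) and S₁, S₂ localizing classes of objects (Serre classes
closed under coproducts). If there are an object of S₁ with a nonzero morphism to E and an object of
S₂ with a nonzero morphism to E, then there is an object belonging to both S₁ and S₂ with a nonzero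
morphism to E. Thus, on the set of isomorphism classes of indecomposable injectives, the subsets of
those having S-torsion, S localizing, are closed under finite intersections (they are also closed
under unions, and form a topology). The published definition of the injective spectrum says
injective objects without the word indecomposable; the published proof of this step uses that each
point of the spectrum is uniform, which is the indecomposable reading taken here. -/
theorem result {C : Type u} [Category.{v} C] [Abelian C]
    [IsGrothendieckAbelian.{w} C] (E : C) [Injective E] (hE : ¬ IsZero E)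
    (hind : ∀ (A B : C), Nonempty (E ≅ A ⊞ B) → IsZero A ∨ IsZero B)
    (S₁ S₂ : ObjectProperty C) (h₁ : GabLoc.IsLocalizing.{w} S₁) (h₂ : GabLoc.IsLocalizing.{w} S₂)
    (ht₁ : GabLoc.HasTorsion S₁ E) (ht₂ : GabLoc.HasTorsion S₂ E) :
    GabLoc.HasTorsion (S₁ ⊓ S₂) E := by
  obtain ⟨Y₁, hY₁, f₁, hf₁⟩ := ht₁
  obtain ⟨Y₂, hY₂, f₂, hf₂⟩ := ht₂
  have := h₁.isSerreClass
  have := h₂.isSerreClass
  let A : Subobject E := Subobject.mk (image.ι f₁)
  let B : Subobject E := Subobject.mk (image.ι f₂)
  have hA : A ≠ ⊥ := by
    intro h
    have h0 : image.ι f₁ = 0 := Subobject.mk_eq_bot_iff_zero.mp h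
    apply hf₁
    rw [← image.fac f₁, h0, comp_zero]
  have hB : B ≠ ⊥ := by
    intro h
    have h0 : image.ι f₂ = 0 := Subobject.mk_eq_bot_iff_zero.mp h
    apply hf₂
    rw [← image.fac f₂, h0, comp_zero]
  have hSA : S₁ (A : C) :=
    S₁.prop_of_iso (Subobject.underlyingIso (image.ι f₁)).symm
      (S₁.prop_of_epi (factorThruImage f₁) hY₁)
  have hSB : S₂ (B : C) :=
    S₂.prop_of_iso (Subobject.underlyingIso (image.ι f₂)).symm
      (S₂.prop_of_epi (factorThruImage f₂) hY₂)
  have hAB := Groth.Agent.Lib.Seat85.GabLocBasic.inf_ne_bot_of_indecomposable_injective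
    E hind A B hA hB
  refine ⟨((A ⊓ B : Subobject E) : C), ⟨?_, ?_⟩, (A ⊓ B).arrow, ?_⟩
  · exact S₁.prop_of_mono ((A ⊓ B).ofLE A inf_le_left) hSA
  · exact S₂.prop_of_mono ((A ⊓ B).ofLE B inf_le_right) hSB
  · intro h
    exact hAB (Groth.Agent.Lib.Seat85.GabLocBasic.subobject_eq_bot_of_arrow_eq_zero _ h)

end Groth.Agent.S17646
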