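import Groth.Statements.S17649
import Groth.Agent.Lib.Helper23QCohAbelian
import Groth.Agent.Lib.Helper20OmegaUnr

set_option autoImplicit false
universe u
open CategoryTheory CategoryTheory.Limits AlgebraicGeometry
open QCohCat

namespace Groth.Agent.S17649

/-- Suppose the scheme X is quasi-compact and quasi-separated, and take two quasi-compact opens U, V ⊆
X. Given a quasi-compact open W, denote by S_W the class of quasi-coherent O_X-modules that restrict
to zero on W. Then S_{U ∩ V} is the smallest localizing subcategory of Qcoh(X) that contains both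
S_U and S_V; concretely (this is the inclusion that is not formal): any quasi-coherent O_X-module F
satisfying F|_{U ∩ V} = 0 arises as an extension of a quasi-coherent module that is zero on V by a
quasi-coherent submodule that is zero on U — one can find a monomorphism A ⟶ F where A is
quasi-coherent, A|_U = 0 and (F/A)|_V = 0. -/
theorem result {X : Scheme.{u}}
    [CompactSpace X] [QuasiSeparatedSpace X] (U V : X.Opens) [QuasiCompact U.ι] [QuasiCompact V.ι]
    (F : X.Modules) (hF : Coh.IsQCoh F) (h : IsZero ((Scheme.Modules.restrictFunctor (U ⊓ V).ι).obj F)) :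
    ∃ (A : X.Modules) (i : A ⟶ F), Mono i ∧ Coh.IsQCoh A ∧
      IsZero ((Scheme.Modules.restrictFunctor U.ι).obj A) ∧
      IsZero ((Scheme.Modules.restrictFunctor V.ι).obj (cokernel i)) := by
  have : F.IsQuasicoherent := hF
  have := Groth.Agent.Lib.Helper23.QCohLocal.restrictFunctor_isRightAdjoint U.ι
  have := Groth.Agent.Lib.Helper23.QCohLocal.restrictFunctor_isRightAdjoint V.ι
  -- the unit `η : F ⟶ j_* j^* F` for `j : U ⟶ X`
  let η : F ⟶ (Scheme.Modules.pushforward U.ι).obj ((Scheme.Modules.restrictFunctor U.ι).obj F) :=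
    (Scheme.Modules.restrictAdjunction U.ι).unit.app F
  have hq1 : ((Scheme.Modules.restrictFunctor U.ι).obj F).IsQuasicoherent :=
    Scheme.Modules.isQuasicoherent_restrictFunctor U.ι F
  have hq2 : ((Scheme.Modules.pushforward U.ι).obj
      ((Scheme.Modules.restrictFunctor U.ι).obj F)).IsQuasicoherent :=
    Groth.Agent.Lib.Helper23.QCohLocal.isQuasicoherent_pushforward U.ι _
  refine ⟨kernel η, kernel.ι η, inferInstance,
    Groth.Agent.Lib.Helper23.QCohLocal.isQuasicoherent_kernel η, ?_, ?_⟩
  · -- restriction to `U`: `η|_U` is a split monomorphism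
    have hsplit : (Scheme.Modules.restrictFunctor U.ι).map η ≫
        (Scheme.Modules.restrictAdjunction U.ι).counit.app
          ((Scheme.Modules.restrictFunctor U.ι).obj F) = 𝟙 _ :=
      (Scheme.Modules.restrictAdjunction U.ι).left_triangle_components F
    have hmono : Mono ((Scheme.Modules.restrictFunctor U.ι).map η) :=
      mono_of_mono_fac hsplit
    have e := PreservesKernel.iso (Scheme.Modules.restrictFunctor U.ι) η
    exact IsZero.of_iso (isZero_kernel_of_mono _) e
  · -- restriction to `V`: `(j_* j^* F)|_V = 0` since `F|_{U ∩ V} = 0`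
    have hz : IsZero ((Scheme.Modules.restrictFunctor V.ι).obj
        ((Scheme.Modules.pushforward U.ι).obj ((Scheme.Modules.restrictFunctor U.ι).obj F))) := by
      refine Groth.Agent.Lib.Helper20.OmegaUnr.isZero_of_basis _ Set.univ ?_ ?_
      · rw [TopologicalSpace.Opens.isBasis_iff_nbhd]
        intro W x hx
        exact ⟨W, trivial, hx, le_rfl⟩
      · intro W _
        -- sections over `W` are `Γ(F, O)` with `O ≤ U ⊓ V`
        set O : X.Opens := U.ι ''ᵁ (U.ι ⁻¹ᵁ (V.ι ''ᵁ W)) with hO
        show Subsingleton Γ(F, O)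
        have hOle : O ≤ U ⊓ V := by
          intro x hx
          obtain ⟨y, hy, rfl⟩ := hx
          refine ⟨y.2, ?_⟩
          obtain ⟨z, _, hz⟩ := hy
          have : (V.ι z : X) ∈ V := z.2
          exact hz ▸ this
        have hOeq : (U ⊓ V).ι ''ᵁ ((U ⊓ V).ι ⁻¹ᵁ O) = O := by
          rw [Scheme.Hom.image_preimage_eq_opensRange_inf, Scheme.Opens.opensRange_ι]
          exact inf_eq_right.mpr hOle
        have hs := Groth.Agent.Lib.Helper20.OmegaUnr.subsingleton_sections_of_isZero h
          ((U ⊓ V).ι ⁻¹ᵁ O)
        have hs' : Subsingleton Γ(F, (U ⊓ V).ι ''ᵁ ((U ⊓ V).ι ⁻¹ᵁ O)) := hs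
        rw [hOeq] at hs'
        exact hs'
    have aux : ∀ {A B : V.toScheme.Modules} (f : A ⟶ B), f = 0 → IsIso (kernel.ι f) := by
      intro A B f hf
      subst hf
      infer_instance
    have h0 : (Scheme.Modules.restrictFunctor V.ι).map η = 0 := hz.eq_of_tgt _ _
    have hiso1 : IsIso (kernel.ι ((Scheme.Modules.restrictFunctor V.ι).map η)) := aux _ h0
    have hfac : kernelComparison η (Scheme.Modules.restrictFunctor V.ι) ≫
        kernel.ι ((Scheme.Modules.restrictFunctor V.ι).map η) =
        (Scheme.Modules.restrictFunctor V.ι).map (kernel.ι η) :=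
      kernelComparison_comp_ι η _
    have hiso2 : IsIso ((Scheme.Modules.restrictFunctor V.ι).map (kernel.ι η)) := by
      rw [← hfac]
      infer_instance
    have e := PreservesCokernel.iso (Scheme.Modules.restrictFunctor V.ι) (kernel.ι η)
    exact IsZero.of_iso (isZero_cokernel_of_epi _) e

end Groth.Agent.S17649
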