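import Groth.Statements.S17661
import Groth.Agent.Lib.Helper22SqZero2

set_option autoImplicit false
universe u
open CategoryTheory CategoryTheory.Limits AlgebraicGeometry
open Ribbon

namespace Groth.Agent.S17661

/-- Let k be a field, C a scheme locally of finite type over k and I ⊂ O_C a quasi-coherent ideal with
I² = 0, with closed subscheme D ⊂ C; suppose D is affine, connected and smooth over k and that I,
regarded as an O_D-module, is invertible (so C is a ribbon on the smooth affine scheme D, and D is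
the reduced scheme underlying C). Then the ribbon is split: the inclusion D → C admits a retraction
C → D over k. -/
theorem result (k : Type u) [Field k] (C : Scheme.{u}) [C.Over (Spec (CommRingCat.of k))]
    [LocallyOfFiniteType (C ↘ (Spec (CommRingCat.of k)))]
    (I : C.IdealSheafData) (hI : I ^ 2 = ⊥) [IsAffine I.subscheme] [ConnectedSpace I.subscheme]
    [Smooth (I.subschemeι ≫ (C ↘ (Spec (CommRingCat.of k))))]
    (hconormal : PicF.IsInvertible ((Scheme.Modules.pullback I.subschemeι).obj (ClSub.idealMod I))) :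
    ∃ r : C ⟶ I.subscheme, I.subschemeι ≫ r = 𝟙 I.subscheme ∧
      r ≫ I.subschemeι ≫ (C ↘ (Spec (CommRingCat.of k))) = C ↘ (Spec (CommRingCat.of k)) := by
  classical
  -- `C` is a nilpotent thickening of the affine scheme `D`, hence affine
  have hCaff : IsAffine C :=
    Groth.Agent.Lib.Helper22.SqZero.isAffine_of_pow_eq_bot I 2 hI
  set D := I.subscheme with hD
  set ι' := I.subschemeι with hι
  set s := C ↘ (Spec (CommRingCat.of k)) with hs
  -- the rings
  let ψ : Γ(Spec (CommRingCat.of k), ⊤) ⟶ Γ(C, ⊤) := s.appTop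
  let φ : Γ(C, ⊤) ⟶ Γ(D, ⊤) := ι'.appTop
  let algR : Algebra Γ(Spec (CommRingCat.of k), ⊤) Γ(C, ⊤) := ψ.hom.toAlgebra
  let algA : Algebra Γ(Spec (CommRingCat.of k), ⊤) Γ(D, ⊤) := (ψ ≫ φ).hom.toAlgebra
  have hsm : (ψ ≫ φ).hom.Smooth := by
    have h1 : Smooth (ι' ≫ s) := inferInstance
    have h2 := (HasRingHomProperty.iff_of_isAffine (P := @Smooth) (f := ι' ≫ s)).1 h1
    have h3 : (ι' ≫ s).appTop = ψ ≫ φ := Scheme.Hom.comp_appTop _ _
    rw [h3] at h2
    exact h2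
  have hsmA : Algebra.Smooth Γ(Spec (CommRingCat.of k), ⊤) Γ(D, ⊤) := hsm
  have hfs : Algebra.FormallySmooth Γ(Spec (CommRingCat.of k), ⊤) Γ(D, ⊤) := hsmA.1
  let φalg : Γ(C, ⊤) →ₐ[Γ(Spec (CommRingCat.of k), ⊤)] Γ(D, ⊤) :=
    { φ.hom with commutes' := fun c => rfl }
  have hsurj : Function.Surjective φalg :=
    I.subschemeι_app_surjective ⟨⊤, isAffineOpen_top C⟩
  have hker : RingHom.ker (φalg : Γ(C, ⊤) →+* Γ(D, ⊤)) = I.ideal ⟨⊤, isAffineOpen_top C⟩ :=
    I.ker_subschemeι_app ⟨⊤, isAffineOpen_top C⟩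
  have hnil : IsNilpotent (RingHom.ker (φalg : Γ(C, ⊤) →+* Γ(D, ⊤))) := by
    refine ⟨2, ?_⟩
    rw [hker]
    have h1 : (I ^ 2).ideal ⟨⊤, isAffineOpen_top C⟩ = ⊥ := by rw [hI]; rfl
    rw [Scheme.IdealSheafData.ideal_pow] at h1
    exact h1
  let σ : Γ(D, ⊤) →ₐ[Γ(Spec (CommRingCat.of k), ⊤)] Γ(C, ⊤) :=
    Algebra.FormallySmooth.liftOfSurjective (AlgHom.id _ _) φalg hsurj hnil
  have hσ : ∀ a, φalg (σ a) = a := fun a =>
    Algebra.FormallySmooth.liftOfSurjective_apply (AlgHom.id _ _) φalg hsurj hnil a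
  let σ' : Γ(D, ⊤) ⟶ Γ(C, ⊤) := CommRingCat.ofHom σ.toRingHom
  have hσφ : σ' ≫ φ = 𝟙 _ := by
    ext a
    exact hσ a
  have hψσ : ψ ≫ φ ≫ σ' = ψ := by
    ext c
    exact σ.commutes c
  refine ⟨C.isoSpec.hom ≫ Spec.map σ' ≫ D.isoSpec.inv, ?_, ?_⟩
  · rw [← Scheme.isoSpec_hom_naturality_assoc ι', ← Spec.map_comp_assoc]
    show D.isoSpec.hom ≫ Spec.map (σ' ≫ φ) ≫ D.isoSpec.inv = 𝟙 D
    rw [hσφ, Spec.map_id, Category.id_comp, Iso.hom_inv_id]
  · simp only [Category.assoc]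
    rw [← Scheme.isoSpec_inv_naturality_assoc ι', ← Scheme.isoSpec_inv_naturality s,
      ← Spec.map_comp_assoc, ← Spec.map_comp_assoc]
    show C.isoSpec.hom ≫ Spec.map (ψ ≫ φ ≫ σ') ≫ _ = s
    rw [hψσ, Scheme.isoSpec_inv_naturality s, Iso.hom_inv_id_assoc]

end Groth.Agent.S17661
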