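import Groth.Statements.S17681
import Groth.Agent.Lib.Seat24FixedEtale

set_option autoImplicit false
universe u
open CategoryTheory MonoidalCategory CartesianMonoidalCategory MonObj GrpObj AlgebraicGeometry
open AlgGrp

namespace Groth.Agent.S17681

/-- Let S be a scheme, G a flat S-group scheme of finite presentation with connected fibres, X and Y
S-schemes locally of finite presentation with actions of G, and f : X → Y an étale G-equivariant
S-morphism; assume that S is locally Noetherian or that X and Y are quasi-separated over S. Then f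
reflects fixed points: a T-point x of X whose image in Y is fixed by G after every base change T' →
T is itself fixed by G after every base change, so that the fixed-point subfunctor of X is the
preimage of that of Y. (The source allows X and Y to be algebraic spaces over S; this row is the
case of schemes.) -/
theorem result (S : Scheme.{u})
    (G : Over S) [GrpObj G] [Flat G.hom] [LocallyOfFinitePresentation G.hom] [QuasiCompact G.hom]
    [QuasiSeparated G.hom] (hconn : ∀ s : S, ConnectedSpace (G.hom.fiber s))
    (X Y : Over S) [LocallyOfFinitePresentation X.hom] [LocallyOfFinitePresentation Y.hom]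
    (hS : IsLocallyNoetherian S ∨ (QuasiSeparated X.hom ∧ QuasiSeparated Y.hom))
    (a : AlgGrp.Action G X) (b : AlgGrp.Action G Y) (f : X ⟶ Y) [Etale f.left]
    (hf : a.act ≫ f = (G ◁ f) ≫ b.act) (T : Over S) (x : T ⟶ X)
    (hx : ∀ (T' : Over S) (t : T' ⟶ T) (g : T' ⟶ G), lift g (t ≫ x ≫ f) ≫ b.act = t ≫ x ≫ f)
    (T' : Over S) (t : T' ⟶ T) (g : T' ⟶ G) : lift g (t ≫ x) ≫ a.act = t ≫ x := by
  have hirr : ∀ (Z : Over S) (q : Z.left), PreirreducibleSpace
      (Over.mk (Z.left.fromSpecResidueField q ≫ Z.hom) ⊗ G).left := by
    intro Z q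
    let s : S := Z.hom q
    have : ConnectedSpace (Groth.Agent.Lib.Seat24.Neutral.fib G s).left := hconn s
    exact (Groth.Agent.Lib.Seat24.ActSep.irreducibleSpace_tensor_of_field G
      (K := Z.left.residueField q) (Z.left.fromSpecResidueField q ≫ Z.hom) s
      (Spec.map (Z.hom.residueFieldMap q))
      (Scheme.Hom.SpecMap_residueFieldMap_fromSpecResidueField Z.hom q)).toPreirreducibleSpace
  have hx' : lift (snd T' G) (fst T' G ≫ (t ≫ x) ≫ f) ≫ b.act = fst T' G ≫ (t ≫ x) ≫ f := by
    simpa only [Category.assoc] using hx (T' ⊗ G) (fst T' G ≫ t) (snd T' G)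
  have key := Groth.Agent.Lib.Seat24.FixedEtale.fixed_of_isOpenImmersion_diagonal hirr a b f hf
    (t ≫ x) hx'
  have h2 := congrArg (fun m => lift (𝟙 T') g ≫ m) key
  rw [← Category.assoc, comp_lift, lift_snd, lift_fst_assoc, Category.id_comp] at h2
  exact h2

end Groth.Agent.S17681
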