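import Groth.Statements.S17688
import Groth.Agent.Lib.Seat85SchDom

set_option autoImplicit false
universe u
open CategoryTheory CategoryTheory.Limits AlgebraicGeometry MonObj
open Neron

namespace Groth.Agent.S17688

/-- Let R be a discrete valuation ring whose fraction field K has characteristic p > 0, and let U be a
flat, separated, commutative group scheme over Spec R whose generic fibre U_K is annihilated by a
power p^N of p (in the group of endomorphisms of U_K as a K-scheme, the p^N-th power of the identity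
is the unit). Then for every prime ℓ invertible in R the ℓ-th power map of U (the ℓ-th power of the
identity in the group of R-morphisms U → U) is an isomorphism. -/
theorem result
    (R : Type u) [CommRing R] [IsDomain R] [IsDiscreteValuationRing R]
    (p : ℕ) (hp : p.Prime) [CharP (FractionRing R) p]
    (U : Over (Spec (CommRingCat.of R))) [GrpObj U] [IsCommMonObj U] [Flat U.hom] [IsSeparated U.hom]
    (N : ℕ) (hN : (𝟙 (Red.bc (Neron.genPt R) U) : Red.bc (Neron.genPt R) U ⟶ Red.bc (Neron.genPt R) U) ^ (p ^ N) = 1)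
    (ℓ : ℕ) (hℓ : ℓ.Prime) (hℓu : IsUnit (ℓ : R)) :
    IsIso ((𝟙 U : U ⟶ U) ^ ℓ) := by
  -- Step 1: the `p ^ N`-th power of the identity of `U` is trivial (schematic density of `U_K`).
  have h1 : (𝟙 U : U ⟶ U) ^ (p ^ N) = 1 := by
    apply Groth.Agent.Lib.Seat85.SchDom.ext_of_genericFibre_map_eq R
    have e1 : (Over.pullback (Neron.genPt R)).map ((𝟙 U : U ⟶ U) ^ (p ^ N)) =
        ((Over.pullback (Neron.genPt R)).map (𝟙 U)) ^ (p ^ N) :=
      map_pow ((Over.pullback (Neron.genPt R)).homMonoidHom (X := U) (M := U)) _ _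
    have e2 : (Over.pullback (Neron.genPt R)).map (1 : U ⟶ U) = 1 :=
      map_one ((Over.pullback (Neron.genPt R)).homMonoidHom (X := U) (M := U))
    rw [e1, e2, CategoryTheory.Functor.map_id]
    exact hN
  -- Step 2: `ℓ` is prime to `p`
  have hℓK : ((ℓ : ℕ) : FractionRing R) ≠ 0 := by
    have h := hℓu.map (algebraMap R (FractionRing R))
    rw [map_natCast] at h
    exact h.ne_zero
  have hndvd : ¬ p ∣ ℓ := fun h => hℓK ((CharP.cast_eq_zero_iff (FractionRing R) p ℓ).2 h)
  have hcop : Nat.Coprime ℓ (p ^ N) :=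
    Nat.Coprime.pow_right N ((Nat.Prime.coprime_iff_not_dvd hp).2 hndvd).symm
  -- a generic inverse given a Bezout relation
  have key : ∀ m t : ℕ, ℓ * m = p ^ N * t + 1 → IsIso ((𝟙 U : U ⟶ U) ^ ℓ) := by
    intro m t hmt
    have hpow : (𝟙 U : U ⟶ U) ^ (ℓ * m) = 𝟙 U := by
      rw [hmt, pow_add, pow_mul, h1, one_pow, _root_.one_mul, pow_one]
    refine ⟨(𝟙 U : U ⟶ U) ^ m, ?_, ?_⟩
    · rw [MonObj.comp_pow, Category.comp_id, ← pow_mul, hpow]
    · rw [MonObj.comp_pow, Category.comp_id, ← pow_mul, mul_comm, hpow]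
  by_cases hN1 : 1 < p ^ N
  · obtain ⟨m, -, hm⟩ := Nat.exists_mul_mod_eq_one_of_coprime hcop hN1
    refine key m (ℓ * m / p ^ N) ?_
    have := Nat.div_add_mod (ℓ * m) (p ^ N)
    rw [hm] at this
    exact this.symm
  · have hpN : p ^ N = 1 := by
      have : 0 < p ^ N := Nat.pos_of_ne_zero (pow_ne_zero _ hp.ne_zero)
      omega
    refine key 1 (ℓ - 1) ?_
    rw [hpN, _root_.mul_one, _root_.one_mul]
    have := hℓ.one_lt
    omega

end Groth.Agent.S17688
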