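import Groth.Statements.S17692
import Groth.Agent.Lib.Seat2WeilAF2
import Groth.Agent.Lib.Seat2WeilResFib

set_option autoImplicit false
universe u
open CategoryTheory CategoryTheory.Limits AlgebraicGeometry
open WeilRes

namespace Groth.Agent.S17692

/-- Suppose f : S' → S is a finite, locally free morphism of schemes (i.e. finite, flat and locally of
finite presentation) that is also a universal homeomorphism, and let X' be an arbitrary scheme over
S' (no condition on finite sets of points lying in a common affine open). Then the Weil restriction
of X' along f is representable by an S-scheme: there exist an S-scheme R and an S'-morphism q from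
the base change R ×_S S' to X' such that, for every S-scheme T, sending an S-morphism g : T → R to
(g ×_S S') followed by q is a bijection onto the S'-morphisms T ×_S S' → X'. (The published
statement writes X' as a scheme over S; the proof treats an S'-scheme, as here.) -/
theorem result
    {S S' : Scheme.{u}} (f : S' ⟶ S) [IsFinite f] [Flat f] [LocallyOfFinitePresentation f]
    (hf : FlatMor.IsUnivHomeo f) (X' : Over S') :
    ∃ (R : Over S) (q : Red.bc f R ⟶ X'), WeilRes.IsWeilRes f X' R q := by
  have hg : Mor2.IsFinLocFree f := ⟨inferInstance, inferInstance, inferInstance⟩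
  apply Groth.Agent.Lib.Seat2.WeilResFib.exists_isWeilRes
  · apply Groth.Agent.Lib.Seat2.WeilAF.isRepresentable_of_pointwise f (X'.hom ≫ f) hg
    intro T η t
    have hpr : IsHomeomorph (pullback.fst T.hom f) :=
      hf _ _ _ (IsPullback.of_hasPullback T.hom f)
    obtain ⟨w₀, hw₀⟩ := hpr.surjective t
    obtain ⟨A₀, hA₀, hxA₀, -⟩ :=
      exists_isAffineOpen_mem_and_subset (x := η.left w₀) (U := ⊤) trivial
    refine ⟨A₀, hA₀, fun w hw => ?_⟩
    have hww : w = w₀ := hpr.injective (hw.trans hw₀.symm)
    rw [hww]
    exact hxA₀
  · obtain ⟨W, -, ⟨e⟩⟩ := Groth.Agent.Lib.Seat2.WeilGlue.exists_representableBy_affine f f hg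
    exact e.isRepresentable

end Groth.Agent.S17692
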