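import Groth.Statements.S17728
import Groth.Agent.Lib.Seat86FlatBir

set_option autoImplicit false
universe u
open Neron

namespace Groth.Agent.S17728

open CategoryTheory AlgebraicGeometry in
/-- Let S be a Noetherian scheme, U ⊆ S a dense open subscheme and f : X → S a morphism locally of
finite type which restricts to an isomorphism over U and for which the preimage of U is
schematically dense in X. For a point x of X the following are equivalent: f is étale on some open
neighbourhood of x; f is flat at x, that is, the local ring of X at x is flat over the local ring of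
S at f(x); some open neighbourhood V of f(x) carries a section σ of f over V passing through x. -/
theorem result
    {X S : Scheme.{u}} [IsNoetherian S] (f : X ⟶ S) [LocallyOfFiniteType f]
    (U : S.Opens) (hU : Dense (U : Set S))
    (hiso : IsIso (morphismRestrict f U)) (hdense : CInt.IsSchematicallyDense (f ⁻¹ᵁ U))
    (x : X) :
    List.TFAE [
      ∃ W : X.Opens, x ∈ W ∧ Etale (W.ι ≫ f),
      (f.stalkMap x).hom.Flat,
      ∃ (V : S.Opens) (hV : f.base x ∈ V) (σ : (V : Scheme.{u}) ⟶ X),
        σ ≫ f = V.ι ∧ σ.base ⟨f.base x, hV⟩ = x] := by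
  open Groth.Agent.Lib.Seat86.FlatBir in
  tfae_have 1 → 2 := by
    rintro ⟨W, hxW, hW⟩
    haveI := hW
    have hflat : Flat (W.ι ≫ f) := inferInstance
    have h1 := Flat.stalkMap (W.ι ≫ f) ⟨x, hxW⟩
    rw [Scheme.Hom.stalkMap_comp] at h1
    have h3 : (f.stalkMap x).hom =
        (inv (W.ι.stalkMap ⟨x, hxW⟩)).hom.comp
          ((f.stalkMap (W.ι ⟨x, hxW⟩)) ≫ (W.ι.stalkMap ⟨x, hxW⟩)).hom := by
      rw [← CommRingCat.hom_comp, Category.assoc, IsIso.hom_inv_id, Category.comp_id]
      rfl
    rw [h3]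
    refine RingHom.Flat.comp h1 ?_
    exact RingHom.Flat.of_bijective
      ((ConcreteCategory.isIso_iff_bijective (inv (W.ι.stalkMap ⟨x, hxW⟩))).mp inferInstance)
  tfae_have 2 → 3 := by
    intro hflat
    obtain ⟨W, hxW, hW⟩ := exists_isOpenImmersion_of_flat_stalk f U hiso hdense x hflat
    haveI := hW
    refine ⟨(W.ι ≫ f).opensRange, ⟨⟨x, hxW⟩, rfl⟩, (W.ι ≫ f).isoOpensRange.inv ≫ W.ι, ?_, ?_⟩
    · rw [Category.assoc, Scheme.Hom.isoOpensRange_inv_comp]
    · let w : (W : Scheme.{u}) := ⟨x, hxW⟩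
      have h1 : (W.ι ≫ f).isoOpensRange.hom w = ⟨f.base x, ⟨⟨x, hxW⟩, rfl⟩⟩ := by
        apply Subtype.ext
        have := congrArg (fun φ => φ.base w) (Scheme.Hom.isoOpensRange_hom_ι (W.ι ≫ f))
        exact this
      have h2 : (W.ι ≫ f).isoOpensRange.inv ((W.ι ≫ f).isoOpensRange.hom w) = w := by
        rw [← Scheme.Hom.comp_apply, Iso.hom_inv_id]
        rfl
      rw [← h1, Scheme.Hom.comp_apply, h2]
      rfl
  tfae_have 3 → 1 := by
    rintro ⟨V, hV, σ, hσ, hσx⟩
    obtain ⟨W, hW1, hW2⟩ := exists_isOpenImmersion_nhd_local f U hiso hdense V σ hσ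
      ⟨f.base x, hV⟩
    rw [hσx] at hW1
    haveI := hW2
    exact ⟨W, hW1, inferInstance⟩
  tfae_finish

end Groth.Agent.S17728
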