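import Mathlib
import Groth.Prelude
import Groth.Statements.S17737
import Groth.Agent.S17720
import Groth.Agent.Lib.Seat90NodeUniq

set_option autoImplicit false
set_option linter.style.haveILetI false
universe u
open DualGr

namespace Groth.Agent.S17737

open IsLocalRing in
/-- Let R be a Noetherian local ring, A a local ring with a ring map φ : R → A, and a, b two elements of
the maximal ideal of R such that A is formally a node over R both of thickness (a) and of thickness
(b): the completion of A is isomorphic, compatibly with R, to R̂[[x,y]]/(xy − a) and also to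
R̂[[x,y]]/(xy − b). Then aR = bR. (This is the uniqueness assertion: the element in a node
presentation is not unique but the principal ideal it generates is; it is stated for presentations
with the element taken in R, whose ideal in R is then determined.) -/
theorem result
    (R A : Type u) [CommRing R] [IsLocalRing R] [IsNoetherianRing R] [CommRing A] [IsLocalRing A]
    (φ : R →+* A) (a b : R) (ha : a ∈ maximalIdeal R) (hb : b ∈ maximalIdeal R)
    (h₁ : DualGr.IsThickNode φ a) (h₂ : DualGr.IsThickNode φ b) :
    Ideal.span {a} = Ideal.span {b} := by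
  open MvPowerSeries Groth.Agent.Lib.Seat90.NodeUniq in
  obtain ⟨e₁, he₁⟩ := h₁
  obtain ⟨e₂, he₂⟩ := h₂
  haveI : IsNoetherianRing (AdicCompletion (maximalIdeal R) R) :=
    Groth.Agent.Lib.Helper19.isNoetherianRing_adicCompletion _
  have hιa : algebraMap R (Curv2.cpl R) a ∈ maximalIdeal (Curv2.cpl R) := by
    rw [AdicCompletion.maximalIdeal_eq_map]
    exact Ideal.mem_map_of_mem _ ha
  have hιb : algebraMap R (Curv2.cpl R) b ∈ maximalIdeal (Curv2.cpl R) := by
    rw [AdicCompletion.maximalIdeal_eq_map]
    exact Ideal.mem_map_of_mem _ hb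
  have hGa : constantCoeff (X 0 * X 1 - C (algebraMap R (Curv2.cpl R) a) :
      MvPowerSeries (Fin 2) (Curv2.cpl R)) ∈ maximalIdeal (Curv2.cpl R) := by
    rw [map_sub, map_mul, constantCoeff_X, zero_mul, zero_sub, constantCoeff_C]
    exact neg_mem hιa
  have hGb : constantCoeff (X 0 * X 1 - C (algebraMap R (Curv2.cpl R) b) :
      MvPowerSeries (Fin 2) (Curv2.cpl R)) ∈ maximalIdeal (Curv2.cpl R) := by
    rw [map_sub, map_mul, constantCoeff_X, zero_mul, zero_sub, constantCoeff_C]
    exact neg_mem hιb
  haveI locA : IsLocalRing (nodeRing R a) := isLocalRing_quot _ hGa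
  haveI locB : IsLocalRing (nodeRing R b) := isLocalRing_quot _ hGb
  let Φ : nodeRing R a ≃+* nodeRing R b := e₁.symm.trans e₂
  have hΦ : ∀ r : R, Φ (Ideal.Quotient.mk _ (C (algebraMap R (Curv2.cpl R) r))) =
      Ideal.Quotient.mk _ (C (algebraMap R (Curv2.cpl R) r)) := fun r => by
    change e₂ (e₁.symm _) = _
    rw [← he₁ r, RingEquiv.symm_apply_apply, he₂]
  let g₁ : Curv2.cpl R →+* nodeRing R b :=
    (Φ : nodeRing R a →+* nodeRing R b).comp ((Ideal.Quotient.mk _).comp C)
  let g₂ : Curv2.cpl R →+* nodeRing R b := (Ideal.Quotient.mk _).comp C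
  have hg : g₁ = g₂ := by
    refine ringHom_ext_of_dense g₁ g₂ (fun d hd => ?_) (fun d hd => mk_C_mem _ hGb d hd)
      (fun r => hΦ r)
    have h1 := Ideal.mem_map_of_mem Φ (mk_C_mem _ hGa d hd)
    rw [IsLocalRing.map_ringEquiv_maximalIdeal] at h1
    exact h1
  let ΦA : nodeRing R a ≃ₐ[Curv2.cpl R] nodeRing R b :=
    AlgEquiv.ofRingEquiv (f := Φ) (fun c => RingHom.congr_fun hg c)
  have key := Groth.Agent.S17720.result (Curv2.cpl R) _ _ hιa hιb ΦA
  apply le_antisymm
  · rw [Ideal.span_singleton_le_iff_mem]
    apply mem_span_singleton_of_map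
    rw [← key]
    exact Ideal.subset_span rfl
  · rw [Ideal.span_singleton_le_iff_mem]
    apply mem_span_singleton_of_map
    rw [key]
    exact Ideal.subset_span rfl

end Groth.Agent.S17737
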