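import Groth.Statements.S1774
import Groth.Agent.Lib.Seat8HomFinite

set_option autoImplicit false
universe u
open CategoryTheory
attribute [local instance] HasDerivedCategory.standard
open Dual

namespace Groth.Agent.S1774

/-- Let A → B be a finite homomorphism of Noetherian rings and R : D(A) → D(B) a right adjoint to
restriction of scalars D(B) → D(A). If K in D(A) is bounded below (its cohomology modules vanish
below some degree) and all its cohomology modules are finite A-modules, then all cohomology modules
of R(K) are finite B-modules. -/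
theorem result (A B : Type u) [CommRing A] [CommRing B] [Algebra A B] [IsNoetherianRing A] [IsNoetherianRing B] [Module.Finite A B] (R : Dual.D A ⥤ Dual.D B) (adj : DRing.restrictD (algebraMap A B) ⊣ R) (K : Dual.D A) (a : ℤ) (hKa : ∀ i : ℤ, i < a → Subsingleton (Dual.HD A K i)) (hK : ∀ i : ℤ, Module.Finite A (Dual.HD A K i)) (i : ℤ) : Module.Finite B (Dual.HD B (R.obj K) i) := by
  open Groth.Agent.Lib.Seat8.HomSingle Groth.Agent.Lib.Seat8.RestrictAdj
    Groth.Agent.Lib.Seat8.HomFinite DerivedCategory in
  -- `H^i(R K) ≃ Hom(B[-i], R K)`
  suffices h : Module.Finite B (dSg B i ⟶ R.obj K) from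
    Module.Finite.equiv (evEquiv (R := B) i (R.obj K))
  -- adjunction
  refine finite_of_adj adj (dSg B i) K ?_
  -- `restrictD (B[-i]) ≅ (B_A)[-i]`
  let e : (DRing.restrictD (algebraMap A B)).obj (dSg B i) ≅
      (DerivedCategory.singleFunctor (ModuleCat.{u} A) i).obj
        ((ModuleCat.restrictScalars.{u} (algebraMap A B)).obj (ModuleCat.of B B)) :=
    ((ModuleCat.restrictScalars.{u} (algebraMap A B)).mapDerivedCategorySingleFunctor i).app
      (ModuleCat.of B B)
  have hfinB : Module.Finite A
      ((ModuleCat.restrictScalars.{u} (algebraMap A B)).obj (ModuleCat.of B B)) := by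
    let l : B →ₗ[A] ((ModuleCat.restrictScalars.{u} (algebraMap A B)).obj (ModuleCat.of B B)) :=
      { toFun := fun b => b
        map_add' := fun _ _ => rfl
        map_smul' := fun c b => by
          show c • b = algebraMap A B c * b
          rw [Algebra.smul_def] }
    exact Module.Finite.of_surjective l (fun b => ⟨b, rfl⟩)
  have h1 : Module.Finite A ((DerivedCategory.singleFunctor (ModuleCat.{u} A) i).obj
      ((ModuleCat.restrictScalars.{u} (algebraMap A B)).obj (ModuleCat.of B B)) ⟶ K) :=
    finite_hom_single_of_boundedBelow _ i K a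
      (fun j hj => by
        have := hKa j hj
        exact ModuleCat.isZero_of_subsingleton _) hK
  exact Module.Finite.of_surjective (Linear.leftComp A K e.hom) (fun f => ⟨e.inv ≫ f, by
      show e.hom ≫ e.inv ≫ f = f
      rw [Iso.hom_inv_id_assoc]⟩)

end Groth.Agent.S1774
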