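import Groth.Statements.S17750
import Groth.Agent.Lib.Seat86Murthy
import Groth.Agent.S7708
import Groth.Agent.S7701
import Groth.Agent.S7703
import Groth.Agent.S7692
import Groth.Agent.S7696
import Groth.Agent.S0342
import Groth.Agent.S0299

set_option autoImplicit false
set_option linter.style.haveILetI false
universe u
open Goren

namespace Groth.Agent.S17750

/-- Let B be a regular local ring and p a prime ideal of B such that the integral domain B ⧸ p is a
unique factorization domain. If the local ring B ⧸ p is Cohen–Macaulay then it is Gorenstein, i.e.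
has finite injective dimension as a module over itself. (For a unique factorization domain that is a
quotient of a regular local ring, Cohen–Macaulay and Gorenstein are equivalent; the converse
implication holds for every Noetherian local ring.) -/
theorem result (B : Type u) [CommRing B] [IsRegularLocalRing B] (p : Ideal B) [p.IsPrime] [UniqueFactorizationMonoid (B ⧸ p)] [LocCoh.IsCohenMacaulayLocalRing (B ⧸ p)] : LocCoh.IsGorensteinLocalRing (B ⧸ p) := by
  classical
  haveI : IsDomain (B ⧸ p) := Ideal.Quotient.isDomain p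
  haveI : LocCoh.IsGorensteinLocalRing B := Groth.Agent.S0342.result B
  obtain ⟨n, hn⟩ : ∃ n : ℕ, ringKrullDim (B ⧸ p) = n := by
    have h1 : ringKrullDim (B ⧸ p) < ⊤ := ringKrullDim_lt_top
    have h2 : 0 ≤ ringKrullDim (B ⧸ p) := ringKrullDim_nonneg_of_nontrivial
    have h3 : ringKrullDim (B ⧸ p) ≠ ⊥ := fun e => by
      rw [e] at h2
      exact absurd h2 (by decide)
    obtain ⟨m, hm⟩ := WithBot.ne_bot_iff_exists.mp h3
    have h4 : m ≠ ⊤ := by
      rintro rfl
      rw [← hm] at h1
      exact lt_irrefl _ h1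
    obtain ⟨n, hn⟩ := ENat.ne_top_iff_exists.mp h4
    exact ⟨n, by rw [← hm, ← hn]; rfl⟩
  obtain ⟨E, iE1, iE2, f, hf⟩ :=
    Groth.Agent.S0299.result (B ⧸ p) (IsLocalRing.ResidueField (B ⧸ p))
  obtain ⟨K, hKfin, ⟨eK⟩⟩ := Groth.Agent.S7708.result (B ⧸ p) n hn E f hf B (Ideal.Quotient.mk p)
    Ideal.Quotient.mk_surjective
  rw [Groth.Agent.S7701.result (B ⧸ p) n hn E f hf K eK]
  have hend := Groth.Agent.S7703.result (B ⧸ p) n hn E f hf K eK
  have hS2 := Groth.Agent.S7696.result (B ⧸ p) n hn E f hf K eK
  -- `K ≠ 0`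
  obtain ⟨x, hx⟩ : ∃ x : K, x ≠ 0 := by
    by_contra hcon
    have hall : ∀ x : K, x = 0 := fun x => by
      by_contra hx
      exact hcon ⟨x, hx⟩
    have h10 : (1 : B ⧸ p) = 0 := hend.1 (by
      apply LinearMap.ext
      intro y
      exact (hall _).trans (hall _).symm)
    exact one_ne_zero h10
  -- torsion-freeness
  have htf : ∀ (a : B ⧸ p) (y : K), a • y = 0 → a = 0 ∨ y = 0 := by
    intro a y hay
    by_contra hcon
    rw [not_or] at hcon
    obtain ⟨ha0, hy0⟩ := hcon
    rcases Nat.eq_zero_or_pos n with hn0 | hnpos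
    · -- a field
      haveI : Ring.KrullDimLE 0 (B ⧸ p) := by
        rw [Ring.krullDimLE_iff, hn, hn0]
      have hfield : IsField (B ⧸ p) := Ring.KrullDimLE.isField_of_isDomain
      obtain ⟨b, hb⟩ := hfield.mul_inv_cancel ha0
      apply hy0
      rw [← one_smul (B ⧸ p) y, ← hb, mul_comm, mul_smul, hay, smul_zero]
    · have hass := Groth.Agent.S7692.result (B ⧸ p) n hn E f hf K eK hnpos
      obtain ⟨P, hP, hle⟩ := exists_le_isAssociatedPrime_of_isNoetherianRing (B ⧸ p) y hy0
      have hPmem : P ∈ associatedPrimes (B ⧸ p) K := hP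
      rw [hass] at hPmem
      obtain ⟨hPprime, hPdim⟩ := hPmem
      have haP : a ∈ P := hle (by
        rw [Submodule.mem_colon_singleton, Submodule.mem_bot]
        exact hay)
      have h1 := ringKrullDim_quotient_succ_le_of_nonZeroDivisor
        (mem_nonZeroDivisors_of_ne_zero ha0)
      have hspan : Ideal.span {a} ≤ P := (Ideal.span_singleton_le_iff_mem _).mpr haP
      have h2 : ringKrullDim ((B ⧸ p) ⧸ P) ≤ ringKrullDim ((B ⧸ p) ⧸ Ideal.span {a}) :=
        ringKrullDim_le_of_surjective (Ideal.Quotient.factor hspan)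
          (Ideal.Quotient.factor_surjective hspan)
      rw [hPdim] at h2
      rw [hn] at h1
      have h3 : ((n : ℕ) : WithBot ℕ∞) + 1 ≤ n := le_trans (by gcongr) h1
      have h4 : ((n + 1 : ℕ) : WithBot ℕ∞) ≤ ((n : ℕ) : WithBot ℕ∞) := by
        push_cast
        exact h3
      have h5 : n + 1 ≤ n := by exact_mod_cast h4
      omega
  exact Groth.Agent.Lib.Seat86.Murthy.nonempty_linearEquiv_self htf hend x hx hS2

end Groth.Agent.S17750
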