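import Groth.Statements.S17759
import Groth.Agent.S2936
import Groth.Agent.S1806
import Groth.Agent.S11614
import Groth.Agent.S3262
import Groth.Agent.Lib.Helper29HLVT
import Groth.Agent.Lib.Helper28ComplNagata

set_option autoImplicit false
set_option linter.style.haveILetI false
universe u
open LocCoh

namespace Groth.Agent.S17759

section aux

open IsLocalRing CategoryTheory
open Groth.Agent.Lib.Helper8.LC Groth.Agent.Lib.Helper8.ExtLES Groth.Agent.S2936

variable (A : Type u) [CommRing A] [IsLocalRing A] [IsNoetherianRing A]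
  (M : Type u) [AddCommGroup M] [Module A M] [Module.Finite A M]
  (n : ℕ) (hn : Module.supportDim A M = n)
  (E : Type u) [AddCommGroup E] [Module A E] (f : ResidueField A →ₗ[A] E)
  (hf : InjHull.IsInjectiveHull f) (I : Ideal A)

include hn hf in
/-- nonzero functionals on `H^n_I(M)` killed by `p` exist iff `H^n_I(M/pM) ≠ 0`
(the proof of `S2936.exists_dual_iff`, for an arbitrary ideal `I`). -/
theorem exists_dual_iff' (p : Ideal A) :
    (∃ φ : LocCoh.H I n M →ₗ[A] E, φ ≠ 0 ∧ ∀ a ∈ p, a • φ = 0) ↔
      Nontrivial (LocCoh.H I n (M ⧸ (p • (⊤ : Submodule A M)))) := by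
  constructor
  · rintro ⟨φ, hφ, hp⟩
    by_contra hnt
    rw [not_nontrivial_iff_subsingleton] at hnt
    apply hφ
    obtain ⟨k, a, ha⟩ :=
      Submodule.fg_iff_exists_fin_generating_family.mp (IsNoetherian.noetherian p)
    apply LinearMap.ext
    intro x
    obtain ⟨y, hy⟩ := exists_sum_of_map_mkQ_eq_zero I n M
      (fun N _ _ hN => hvan A M n hn I N hN) a p ha x (hnt.elim _ _)
    rw [hy, map_sum, LinearMap.zero_apply]
    refine Finset.sum_eq_zero fun j _ => ?_
    have h1 := hp (a j) (by rw [← ha]; exact Ideal.subset_span ⟨j, rfl⟩)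
    rw [map_smul, ← LinearMap.smul_apply, h1, LinearMap.zero_apply]
  · intro hnt
    obtain ⟨y, hy⟩ := exists_ne (0 : LocCoh.H I n (M ⧸ (p • (⊤ : Submodule A M))))
    have hinj := ((Groth.Agent.S11681.result A E f hf).1
      (LocCoh.H I n (M ⧸ (p • (⊤ : Submodule A M))))).1
    obtain ⟨ψ, hψ⟩ : ∃ ψ : LocCoh.H I n (M ⧸ (p • (⊤ : Submodule A M))) →ₗ[A] E,
        ψ y ≠ 0 := by
      by_contra hall
      push Not at hall
      apply hy
      apply hinj
      rw [map_zero]
      apply LinearMap.ext
      intro ψ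
      exact hall ψ
    obtain ⟨x, hx⟩ := H_map_mkQ_surjective I n M
      (fun N _ _ hN => hvan A M n hn I N hN) (p • (⊤ : Submodule A M)) y
    refine ⟨ψ ∘ₗ ((localCohomology I n).map
      (ModuleCat.ofHom (p • (⊤ : Submodule A M)).mkQ)).hom, ?_, ?_⟩
    · intro h0
      apply hψ
      rw [← hx]
      exact LinearMap.congr_fun h0 x
    · intro a ha
      apply LinearMap.ext
      intro x
      rw [LinearMap.smul_apply, LinearMap.zero_apply, LinearMap.comp_apply, ← map_smul]
      have h0 : a • (((localCohomology I n).map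
          (ModuleCat.ofHom (p • (⊤ : Submodule A M)).mkQ)).hom x) = 0 :=
        smul_H_eq_zero_of_smul_eq_zero I n a (M ⧸ (p • (⊤ : Submodule A M)))
          (smul_quotient_eq_zero A M p a ha) _
      rw [h0, map_zero]

omit [IsNoetherianRing A] in
/-- if `rad (I + p) ≠ m` then either `I + p = ⊤` or some non-maximal prime contains `I + p`. -/
theorem top_or_exists_prime (p : Ideal A) (h : (I ⊔ p).radical ≠ maximalIdeal A) :
    I ⊔ p = ⊤ ∨ ∃ P : Ideal A, P.IsPrime ∧ I ⊔ p ≤ P ∧ P ≠ maximalIdeal A := by
  by_contra hcon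
  push Not at hcon
  obtain ⟨htop, hall⟩ := hcon
  apply h
  apply le_antisymm
  · apply IsLocalRing.le_maximalIdeal
    rwa [Ne, Ideal.radical_eq_top]
  · rw [Ideal.radical_eq_sInf]
    apply le_sInf
    rintro P ⟨hle, hP⟩
    rw [hall P hP hle]

variable [IsAdicComplete (maximalIdeal A) A]

include hn in
/-- Hartshorne–Lichtenbaum: if `dim A/p = n` and `H^n_I(M/pM) ≠ 0` then `rad (I + p) = m`. -/
theorem radical_eq_of_nontrivial (p : Ideal A) [p.IsPrime] (hdim : ringKrullDim (A ⧸ p) = n)
    (hnt : Nontrivial (LocCoh.H I n (M ⧸ (p • (⊤ : Submodule A M))))) :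
    (I ⊔ p).radical = maximalIdeal A := by
  by_contra hne
  haveI : IsLocalRing (A ⧸ p) := inferInstance
  haveI : IsAdicComplete (maximalIdeal (A ⧸ p)) (A ⧸ p) :=
    Groth.Agent.Lib.Helper28.isAdicComplete_quotient_local p
  obtain ⟨φ, -⟩ := Groth.Agent.S11614.result A (A ⧸ p) I (M ⧸ (p • (⊤ : Submodule A M))) n
  have hzero : ∀ x : LocCoh.H (Ideal.map (algebraMap A (A ⧸ p)) I) n
      (M ⧸ (p • (⊤ : Submodule A M))), x = 0 := by
    rcases top_or_exists_prime A I p hne with htop | ⟨P, hP, hle, hPm⟩
    · have hI' : Ideal.map (algebraMap A (A ⧸ p)) I = ⊤ := by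
        have h1 : Ideal.map (algebraMap A (A ⧸ p)) (I ⊔ p) = ⊤ := by
          rw [htop, Ideal.map_top]
        rw [Ideal.map_sup] at h1
        have h2 : Ideal.map (algebraMap A (A ⧸ p)) p = ⊥ := by
          rw [Ideal.Quotient.algebraMap_eq, Ideal.map_quotient_self]
        rwa [h2, sup_bot_eq] at h1
      have key : ∀ J : Ideal (A ⧸ p), J = ⊤ →
          ∀ x : LocCoh.H J n (M ⧸ (p • (⊤ : Submodule A M))), x = 0 := by
        rintro J rfl x
        exact Groth.Agent.S3262.H_top_eq_zero n _ x
      exact key _ hI'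
    · have hker : RingHom.ker (Ideal.Quotient.mk p) ≤ P := by
        rw [Ideal.mk_ker]
        exact le_sup_right.trans hle
      have hP' : (P.map (Ideal.Quotient.mk p)).IsPrime :=
        Ideal.map_isPrime_of_surjective Ideal.Quotient.mk_surjective hker
      have hIP' : Ideal.map (algebraMap A (A ⧸ p)) I ≤ P.map (Ideal.Quotient.mk p) := by
        rw [Ideal.Quotient.algebraMap_eq]
        exact Ideal.map_mono (le_sup_left.trans hle)
      have hP'm : P.map (Ideal.Quotient.mk p) ≠ maximalIdeal (A ⧸ p) := by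
        intro heq
        apply hPm
        have h1 : (P.map (Ideal.Quotient.mk p)).comap (Ideal.Quotient.mk p) = P := by
          rw [Ideal.comap_map_of_surjective _ Ideal.Quotient.mk_surjective, ← RingHom.ker_eq_comap_bot]
          exact sup_eq_left.mpr hker
        rw [heq] at h1
        rw [← h1]
        exact ((IsLocalRing.local_hom_TFAE (Ideal.Quotient.mk p)).out 0 4).mp
          (IsLocalHom.of_surjective _ Ideal.Quotient.mk_surjective)
      have hn1 : 1 ≤ n := by
        by_contra h0
        have hn0 : n = 0 := by omega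
        subst hn0
        have : Ring.KrullDimLE 0 (A ⧸ p) := by
          rw [Ring.krullDimLE_iff, hdim]
        have hmax : (P.map (Ideal.Quotient.mk p)).IsMaximal := Ideal.IsPrime.isMaximal' hP'
        exact hP'm (IsLocalRing.eq_maximalIdeal hmax)
      have hb := Groth.Agent.Lib.Helper29.HLVT.bound_of_complete_domain (A ⧸ p) n hdim
        (Ideal.map (algebraMap A (A ⧸ p)) I) ⟨_, hP', hIP', hP'm⟩
      intro x
      exact hb (M ⧸ (p • (⊤ : Submodule A M))) n (by omega) x
  obtain ⟨y, hy⟩ := exists_ne (0 : LocCoh.H I n (M ⧸ (p • (⊤ : Submodule A M))))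
  apply hy
  obtain ⟨x, rfl⟩ := φ.surjective y
  rw [hzero x, map_zero]

include hn hf in
/-- `Ass Hom(H^n_I(M), E) ⊆ {p ⊇ Ann M | dim A ⧸ p = n, rad (I + p) = m}`. -/
theorem mem_of_mem_associatedPrimes_dual' (p : Ideal A)
    (hp : p ∈ associatedPrimes A (LocCoh.H I n M →ₗ[A] E)) :
    p.IsPrime ∧ Module.annihilator A M ≤ p ∧ ringKrullDim (A ⧸ p) = n ∧
      (I ⊔ p).radical = maximalIdeal A := by
  have hpa : IsAssociatedPrime p (LocCoh.H I n M →ₗ[A] E) := hp
  obtain ⟨hprime, g, hg⟩ := (isAssociatedPrime_iff_exists_injective_linearMap p _).mp hpa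
  haveI := hprime
  have hntq : Nontrivial (A ⧸ p) := Ideal.Quotient.nontrivial_iff.mpr hprime.ne_top
  -- a nonzero functional killed by `p`
  have hφ : g 1 ≠ 0 := by
    intro h0
    have h1 : g 1 = g 0 := by rw [h0, map_zero]
    exact one_ne_zero (hg h1)
  have hkill : ∀ a ∈ p, a • g 1 = 0 := by
    intro a ha
    rw [← map_smul]
    have : a • (1 : A ⧸ p) = 0 := by
      rw [Algebra.smul_def, mul_one]
      exact Ideal.Quotient.eq_zero_iff_mem.mpr ha
    rw [this, map_zero]
  have hnt := (exists_dual_iff' A M n hn E f hf I p).mp ⟨g 1, hφ, hkill⟩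
  -- `Ann M ≤ p`
  have hann : Module.annihilator A M ≤ p := by
    intro a ha
    have h0 : a • g 1 = 0 := by
      apply LinearMap.ext
      intro x
      rw [LinearMap.smul_apply, LinearMap.zero_apply, ← map_smul]
      have : a • x = 0 := smul_H_eq_zero_of_smul_eq_zero I n a M
        (fun m => (Module.mem_annihilator.mp ha) m) x
      rw [this, map_zero]
    rw [← map_smul] at h0
    have h1 : a • (1 : A ⧸ p) = 0 := hg (by rw [h0, map_zero])
    rw [Algebra.smul_def, mul_one] at h1
    exact Ideal.Quotient.eq_zero_iff_mem.mp h1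
  have hpM : (⟨p, hprime⟩ : PrimeSpectrum A) ∈ Module.support A M :=
    Module.mem_support_iff_of_finite.mpr hann
  have hle : ringKrullDim (A ⧸ p) ≤ (n : WithBot ℕ∞) :=
    dim_le_of_mem_support A M n hn ⟨p, hprime⟩ hpM
  -- the support of `M/pM` has dimension `n`
  have hsd : Module.supportDim A (M ⧸ (p • (⊤ : Submodule A M))) = n := by
    by_contra hne
    have hlt : Module.supportDim A (M ⧸ (p • (⊤ : Submodule A M))) < (n : WithBot ℕ∞) := by
      refine lt_of_le_of_ne ?_ hne
      rw [← hn]
      exact supportDim_le_of_annihilator_le (annihilator_le_quotient A M _)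
    have := Groth.Agent.S11625.result A I (M ⧸ (p • (⊤ : Submodule A M))) n hlt
    exact not_subsingleton _ this
  obtain ⟨q, hq, hco⟩ := Groth.Agent.Lib.Helper5.IntegralMod.exists_coheight_ge
    (M ⧸ (p • (⊤ : Submodule A M))) n hsd.ge
  rw [Module.support_quotient] at hq
  obtain ⟨hqM, hqp⟩ := hq
  have hpq : p ≤ q.asIdeal := (PrimeSpectrum.mem_zeroLocus _ _).mp hqp
  have hqdim : (n : WithBot ℕ∞) ≤ ringKrullDim (A ⧸ q.asIdeal) := by
    rw [Groth.Agent.Lib.Helper28.ringKrullDim_quotient_asIdeal_eq_coheight]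
    exact_mod_cast hco
  haveI := q.2
  have hpeq : p = q.asIdeal := eq_of_le_of_dim_eq hpq n hle hqdim
  rw [← hpeq] at hqdim
  have hdim : ringKrullDim (A ⧸ p) = n := le_antisymm hle hqdim
  exact ⟨hprime, hann, hdim, radical_eq_of_nontrivial A M n hn I p hdim hnt⟩

include hn hf in
/-- the coassociated primes of the top local cohomology module. -/
theorem associatedPrimes_dual' :
    associatedPrimes A (LocCoh.H I n M →ₗ[A] E) =
      {p : Ideal A | p.IsPrime ∧ Module.annihilator A M ≤ p ∧ ringKrullDim (A ⧸ p) = n ∧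
        (I ⊔ p).radical = maximalIdeal A} := by
  ext p
  constructor
  · exact mem_of_mem_associatedPrimes_dual' A M n hn E f hf I p
  · rintro ⟨hprime, hann, hdim, hrad⟩
    haveI := hprime
    have hpsupp : (⟨p, hprime⟩ : PrimeSpectrum A) ∈ Module.support A M :=
      Module.mem_support_iff_of_finite.mpr hann
    have hpsupp' : (⟨p, hprime⟩ : PrimeSpectrum A) ∈
        Module.support A (M ⧸ (p • (⊤ : Submodule A M))) := by
      rw [Module.support_quotient]
      exact ⟨hpsupp, (PrimeSpectrum.mem_zeroLocus _ _).mpr le_rfl⟩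
    haveI : Nontrivial (M ⧸ (p • (⊤ : Submodule A M))) :=
      Module.nonempty_support_iff.mp ⟨_, hpsupp'⟩
    have hsd : Module.supportDim A (M ⧸ (p • (⊤ : Submodule A M))) = n := by
      apply le_antisymm
      · rw [← hn]
        exact supportDim_le_of_annihilator_le (annihilator_le_quotient A M _)
      · have := ringKrullDim_quotient_le_supportDim (⟨p, hprime⟩ : PrimeSpectrum A) hpsupp'
        rwa [hdim] at this
    have hntm := Groth.Agent.S2935.result A (M ⧸ (p • (⊤ : Submodule A M))) n hsd
    -- compare `H^n_m` and `H^n_I` on `M/pM`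
    have hIm : I ≤ maximalIdeal A := by
      rw [← hrad]
      exact le_sup_left.trans Ideal.le_radical
    have hloc : ∀ P : PrimeSpectrum A, I ≤ P.asIdeal → ¬ maximalIdeal A ≤ P.asIdeal →
        Subsingleton (LocalizedModule P.asIdeal.primeCompl (M ⧸ (p • (⊤ : Submodule A M)))) := by
      intro P hIP hmP
      rw [← Module.notMem_support_iff]
      intro hPs
      rw [Module.support_quotient] at hPs
      have hpP : p ≤ P.asIdeal := (PrimeSpectrum.mem_zeroLocus _ _).mp hPs.2
      apply hmP
      rw [← hrad]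
      exact (P.2.radical_le_iff).mpr (sup_le hIP hpP)
    have hinj := (Groth.Agent.S1806.result A I (maximalIdeal A) hIm
      (M ⧸ (p • (⊤ : Submodule A M))) n).2 (by
        intro P hIP hmP j _
        haveI := hloc P hIP hmP
        exact ⟨fun x y => (Groth.Agent.Lib.Helper8.GV.H_eq_zero_of_subsingleton _ j _ x).trans
          (Groth.Agent.Lib.Helper8.GV.H_eq_zero_of_subsingleton _ j _ y).symm⟩)
    have hnt : Nontrivial (LocCoh.H I n (M ⧸ (p • (⊤ : Submodule A M)))) :=
      hinj.nontrivial
    obtain ⟨φ, hφ, hkill⟩ := (exists_dual_iff' A M n hn E f hf I p).mpr hnt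
    obtain ⟨q, hq, hle⟩ := exists_le_isAssociatedPrime_of_isNoetherianRing A φ hφ
    have hpq : p ≤ q := by
      intro a ha
      apply hle
      rw [Submodule.mem_colon_singleton, Submodule.mem_bot]
      exact hkill a ha
    obtain ⟨hqprime, -, hqdim, -⟩ := mem_of_mem_associatedPrimes_dual' A M n hn E f hf I q hq
    haveI := hqprime
    have : p = q := eq_of_le_of_dim_eq hpq n hdim.le hqdim.ge
    rw [this]
    exact hq

end aux

/-- Let R be a complete Noetherian local ring with maximal ideal m, E an injective hull of its residue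
field, I an ideal of R and M a finitely generated R-module whose support has dimension n. Then the
set of associated primes of the Matlis dual Hom_R(H^n_I(M), E) of the top local cohomology module
(the coassociated primes of H^n_I(M)) is the set of prime ideals p of R containing the annihilator
of M such that R ⧸ p has dimension n and the radical of I + p is m. -/
theorem result (R : Type u) [CommRing R] [IsNoetherianRing R] [IsLocalRing R] [IsAdicComplete (IsLocalRing.maximalIdeal R) R] (E : Type u) [AddCommGroup E] [Module R E] (f : IsLocalRing.ResidueField R →ₗ[R] E) (hf : InjHull.IsInjectiveHull f) (I : Ideal R) (M : Type u) [AddCommGroup M] [Module R M] [Module.Finite R M] (n : ℕ) (hn : Module.supportDim R M = n) : associatedPrimes R (LocCoh.H I n M →ₗ[R] E) = {p : Ideal R | p.IsPrime ∧ Module.annihilator R M ≤ p ∧ ringKrullDim (R ⧸ p) = n ∧ (I ⊔ p).radical = IsLocalRing.maximalIdeal R} := by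
  exact associatedPrimes_dual' R M n hn E f hf I

end Groth.Agent.S17759
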