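import Groth.Statements.S17760
import Groth.Agent.S17759
import Groth.Agent.S0299
import Groth.Agent.S0310
import Groth.Agent.S0314
import Groth.Agent.S0315
import Groth.Agent.S0317
import Groth.Agent.Lib.Seat86ComplLC
import Groth.Agent.Lib.Helper8RegHull
import Groth.Agent.Lib.Helper8LC3

set_option autoImplicit false
set_option linter.style.haveILetI false
universe u
open CategoryTheory Opposite
open LocCoh

namespace Groth.Agent.S17760

section aux

open IsLocalRing CategoryTheory
open Groth.Agent.Lib.Helper8.LC Groth.Agent.Lib.Helper8.ExtLES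

section Complete

variable (A : Type u) [CommRing A] [IsLocalRing A] [IsNoetherianRing A]
  [IsAdicComplete (maximalIdeal A) A]
  (I : Ideal A) (M : Type u) [AddCommGroup M] [Module A M] [Module.Finite A M]
  (n : ℕ) (hn : Module.supportDim A M = n)

include hn in
omit [IsLocalRing A] [IsNoetherianRing A] [IsAdicComplete (maximalIdeal A) A] [Module.Finite A M] in
theorem nontrivial_of_supportDim : Nontrivial M := by
  by_contra h
  rw [not_nontrivial_iff_subsingleton] at h
  rw [Module.supportDim_eq_bot_of_subsingleton] at hn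
  exact absurd hn (by simp)

include hn in
/-- complete case: a power of the maximal ideal lies in `I + Ann H^n_I(M)`. -/
theorem exists_pow_le_complete :
    ∃ k : ℕ, maximalIdeal A ^ k ≤ I ⊔ Module.annihilator A (LocCoh.H I n M) := by
  haveI : Nontrivial M := nontrivial_of_supportDim A M n hn
  haveI hart : IsArtinian A (LocCoh.H I n M) := Groth.Agent.S3262.result A I M n hn
  obtain ⟨E, _, _, f, hf⟩ := Groth.Agent.S0299.result A (ResidueField A)
  obtain ⟨hfin, -⟩ := Groth.Agent.S0317.result A E f hf (LocCoh.H I n M)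
  have hAss := Groth.Agent.S17759.result A E f hf I M n hn
  have hann := ((Groth.Agent.S11681.result A E f hf).1 (LocCoh.H I n M)).2
  rw [hann]
  apply Ideal.exists_pow_le_of_le_radical_of_fg _ (IsNoetherian.noetherian _)
  rw [Ideal.radical_eq_sInf]
  apply le_sInf
  rintro q ⟨hle, hq⟩
  obtain ⟨p, hpmin, hpq⟩ := Ideal.exists_minimalPrimes_le (le_sup_right.trans hle)
  have hpAss : p ∈ associatedPrimes A (LocCoh.H I n M →ₗ[A] E) :=
    Module.associatedPrimes.minimalPrimes_annihilator_subset_associatedPrimes A _ hpmin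
  rw [hAss] at hpAss
  obtain ⟨-, -, -, hrad⟩ := hpAss
  rw [← hrad]
  exact (hq.radical_le_iff).mpr (sup_le (le_sup_left.trans hle) hpq)

end Complete

section ArtinianExt

variable (R : Type u) [CommRing R] [IsLocalRing R] [IsNoetherianRing R] (I : Ideal R)

/-- an Artinian module embeds into an injective Artinian module. -/
theorem exists_injective_artinian (T : Type u) [AddCommGroup T] [Module R T] [IsArtinian R T] :
    ∃ (J : Type u) (_ : AddCommGroup J) (_ : Module R J) (_ : Module.Injective R J)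
      (_ : IsArtinian R J) (g : T →ₗ[R] J), Function.Injective g := by
  obtain ⟨E, _, _, f, hf⟩ := Groth.Agent.S0299.result R (ResidueField R)
  obtain ⟨htors, hfin⟩ := (Groth.Agent.S0315.result R T).mp inferInstance
  obtain ⟨g, hg⟩ := Groth.Agent.S0310.result R E f hf T htors _ rfl
  haveI : Module.Injective R E := hf.isInjective
  haveI : IsArtinian R E := Groth.Agent.S0314.result R E f hf
  exact ⟨Fin _ → E, inferInstance, inferInstance, inferInstance, inferInstance, g, hg⟩

/-- `Ext^i(R/I, T)` is Artinian for Artinian `T`. -/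
theorem isArtinian_E : ∀ (i : ℕ) (T : Type u) [AddCommGroup T] [Module R T] [IsArtinian R T],
    IsArtinian R (E i (ModuleCat.of R (R ⧸ I)) (ModuleCat.of R T)) := by
  intro i
  induction i with
  | zero =>
    intro T _ _ _
    -- `Hom(R/I, T)` embeds into `T`
    let ev : (ModuleCat.of R (R ⧸ I) ⟶ ModuleCat.of R T) →ₗ[R] T :=
      { toFun := fun h => h.hom (1 : R ⧸ I)
        map_add' := fun h h' => rfl
        map_smul' := fun r h => rfl }
    have hev : Function.Injective ev := by
      intro h h' hh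
      apply ModuleCat.hom_ext
      apply LinearMap.ext
      intro x
      obtain ⟨r, rfl⟩ := Ideal.Quotient.mk_surjective x
      have h1 : (Ideal.Quotient.mk I r : R ⧸ I) = r • (1 : R ⧸ I) := by
        rw [Algebra.smul_def, mul_one]; rfl
      rw [h1, map_smul, map_smul]
      exact congrArg _ hh
    haveI : IsArtinian R (ModuleCat.of R (R ⧸ I) ⟶ ModuleCat.of R T) :=
      isArtinian_of_injective ev hev
    exact isArtinian_of_surjective _ (θ (ModuleCat.of R (R ⧸ I)) (ModuleCat.of R T)).hom
      (θ_bijective _ _).2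
  | succ i ih =>
    intro T _ _ _
    obtain ⟨J, _, _, hJ, hJart, g, hg⟩ := exists_injective_artinian R T
    have hex : Function.Exact g (LinearMap.range g).mkQ := LinearMap.exact_map_mkQ_range g
    have hS := Sfg_shortExact g (LinearMap.range g).mkQ hg (Submodule.mkQ_surjective _) hex
    haveI : Injective (ModuleCat.of R J) := Module.injective_object_of_injective_module R J
    haveI : IsArtinian R (J ⧸ LinearMap.range g) := inferInstance
    have hQ := ih (J ⧸ LinearMap.range g)
    refine isArtinian_of_surjective _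
      (extδ (Sfg g (LinearMap.range g).mkQ hex) hS (ModuleCat.of R (R ⧸ I)) i).hom ?_
    intro x
    have hsub : Subsingleton (E (i + 1) (ModuleCat.of R (R ⧸ I)) (ModuleCat.of R J)) :=
      ModuleCat.subsingleton_of_isZero
        (isZero_E_succ_of_injective (ModuleCat.of R (R ⧸ I)) (ModuleCat.of R J) i)
    have hz : Emap (i + 1) (ModuleCat.of R (R ⧸ I)) (Sfg g (LinearMap.range g).mkQ hex).f x = 0 :=
      hsub.elim _ _
    obtain ⟨z, hz⟩ := ext_exact₁ (Sfg g (LinearMap.range g).mkQ hex) hS
      (ProjectiveResolution.of (ModuleCat.of R (R ⧸ I))) i x hz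
    exact ⟨z, hz⟩

end ArtinianExt

section Kill

variable {R : Type u} [CommRing R] (I : Ideal R)

/-- elements of `I` kill `Ext^i(R/I, Y)`. -/
theorem smul_E_quot_eq_zero (i : ℕ) (Y : ModuleCat.{u} R) (a : R) (ha : a ∈ I)
    (y : E i (ModuleCat.of R (R ⧸ I)) Y) : a • y = 0 := by
  have h0 : a • 𝟙 (ModuleCat.of R (R ⧸ I)) = 0 := by
    apply ModuleCat.hom_ext
    apply LinearMap.ext
    intro x
    obtain ⟨r, rfl⟩ := Submodule.Quotient.mk_surjective _ x
    change a • (Submodule.Quotient.mk r : R ⧸ I) = 0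
    rw [← Submodule.Quotient.mk_smul, Submodule.Quotient.mk_eq_zero]
    exact Ideal.mul_mem_right _ _ ha
  have h1 := Epre_smul i (ModuleCat.of R (R ⧸ I)) Y a
  have h2 := Epre_smul i (ModuleCat.of R (R ⧸ I)) Y 0
  rw [h0] at h1
  rw [zero_smul] at h2
  rw [h2] at h1
  have h3 := congrArg (fun φ => φ.hom y) h1
  have h4 : (0 : R) • y = a • y := h3
  rw [← h4, zero_smul]

variable {S : Type u} [CommRing S] [Algebra R S]
  (T : Type u) [AddCommGroup T] [Module R T] (T' : Type u) [AddCommGroup T'] [Module S T']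
  (ψ : T ≃+ T') (hψ : ∀ (r : R) (t : T), ψ (r • t) = algebraMap R S r • ψ t)

include hψ in
theorem symm_smul (r : R) (y : T') : ψ.symm (algebraMap R S r • y) = r • ψ.symm y := by
  apply ψ.injective
  rw [hψ, AddEquiv.apply_symm_apply, AddEquiv.apply_symm_apply]

/-- the `R`-endomorphism of `T` induced by multiplication by `c ∈ S` on `T'`. -/
noncomputable def conj (c : S) : T →ₗ[R] T where
  toFun t := ψ.symm (c • ψ t)
  map_add' t t' := by rw [map_add, smul_add, map_add]
  map_smul' r t := by
    rw [RingHom.id_apply, hψ, smul_comm, symm_smul T T' ψ hψ]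

theorem conj_apply (c : S) (t : T) : conj T T' ψ hψ c t = ψ.symm (c • ψ t) := rfl

theorem Emap_ofHom_zero (i : ℕ) (X : ModuleCat.{u} R) (ξ : E i X (ModuleCat.of R T)) :
    Emap i X (ModuleCat.ofHom (0 : T →ₗ[R] T)) ξ = 0 := by
  have h := Emap_add i X (ModuleCat.ofHom (0 : T →ₗ[R] T)) (ModuleCat.ofHom (0 : T →ₗ[R] T))
  have h2 : ModuleCat.ofHom (0 : T →ₗ[R] T) + ModuleCat.ofHom (0 : T →ₗ[R] T) =
      ModuleCat.ofHom (0 : T →ₗ[R] T) := by
    apply ModuleCat.hom_ext
    apply LinearMap.ext
    intro t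
    simp
  rw [h2] at h
  have h3 := congrArg (fun φ => φ.hom ξ) h
  have h4 : Emap i X (ModuleCat.ofHom (0 : T →ₗ[R] T)) ξ =
      Emap i X (ModuleCat.ofHom (0 : T →ₗ[R] T)) ξ +
        Emap i X (ModuleCat.ofHom (0 : T →ₗ[R] T)) ξ := h3
  exact left_eq_add.mp h4

/-- the ideal of `S` of elements acting trivially on `Ext^i(R/I, T)` through `T ≃ T'`. -/
noncomputable def killIdeal (i : ℕ) : Ideal S where
  carrier := {c | ∀ ξ : E i (ModuleCat.of R (R ⧸ I)) (ModuleCat.of R T),
    Emap i (ModuleCat.of R (R ⧸ I)) (ModuleCat.ofHom (conj T T' ψ hψ c)) ξ = 0}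
  zero_mem' := by
    intro ξ
    have : conj T T' ψ hψ 0 = 0 := by
      apply LinearMap.ext
      intro t
      rw [conj_apply, zero_smul, map_zero, LinearMap.zero_apply]
    rw [this]
    exact Emap_ofHom_zero T i _ ξ
  add_mem' := by
    intro c c' hc hc' ξ
    have : ModuleCat.ofHom (conj T T' ψ hψ (c + c')) =
        ModuleCat.ofHom (conj T T' ψ hψ c) + ModuleCat.ofHom (conj T T' ψ hψ c') := by
      apply ModuleCat.hom_ext
      apply LinearMap.ext
      intro t
      change conj T T' ψ hψ (c + c') t = conj T T' ψ hψ c t + conj T T' ψ hψ c' t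
      rw [conj_apply, conj_apply, conj_apply, add_smul, map_add]
    rw [this, Emap_add]
    change Emap i _ (ModuleCat.ofHom (conj T T' ψ hψ c)) ξ +
      Emap i _ (ModuleCat.ofHom (conj T T' ψ hψ c')) ξ = 0
    rw [hc ξ, hc' ξ, add_zero]
  smul_mem' := by
    intro c' c hc ξ
    have : ModuleCat.ofHom (conj T T' ψ hψ (c' • c)) =
        ModuleCat.ofHom (conj T T' ψ hψ c) ≫ ModuleCat.ofHom (conj T T' ψ hψ c') := by
      apply ModuleCat.hom_ext
      apply LinearMap.ext
      intro t
      change conj T T' ψ hψ (c' • c) t = conj T T' ψ hψ c' (conj T T' ψ hψ c t)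
      rw [conj_apply, conj_apply, conj_apply, AddEquiv.apply_symm_apply, smul_eq_mul, mul_smul]
    have hcomp : Emap i (ModuleCat.of R (R ⧸ I))
        (ModuleCat.ofHom (conj T T' ψ hψ c) ≫ ModuleCat.ofHom (conj T T' ψ hψ c')) =
        Emap i (ModuleCat.of R (R ⧸ I)) (ModuleCat.ofHom (conj T T' ψ hψ c)) ≫
          Emap i (ModuleCat.of R (R ⧸ I)) (ModuleCat.ofHom (conj T T' ψ hψ c')) :=
      Functor.map_comp _ _ _
    rw [this, hcomp]
    change Emap i _ (ModuleCat.ofHom (conj T T' ψ hψ c'))
      (Emap i _ (ModuleCat.ofHom (conj T T' ψ hψ c)) ξ) = 0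
    rw [hc ξ, map_zero]

include hψ in
theorem smul_E_eq_zero_of_mem_sup (i : ℕ) (a : R)
    (ha : algebraMap R S a ∈ I.map (algebraMap R S) ⊔ Module.annihilator S T')
    (ξ : E i (ModuleCat.of R (R ⧸ I)) (ModuleCat.of R T)) : a • ξ = 0 := by
  have hle : I.map (algebraMap R S) ⊔ Module.annihilator S T' ≤ killIdeal I T T' ψ hψ i := by
    apply sup_le
    · rw [Ideal.map_le_iff_le_comap]
      intro x hx
      rw [Ideal.mem_comap]
      intro ξ
      have h1 : ModuleCat.ofHom (conj T T' ψ hψ (algebraMap R S x)) =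
          x • 𝟙 (ModuleCat.of R T) := by
        apply ModuleCat.hom_ext
        apply LinearMap.ext
        intro t
        change conj T T' ψ hψ (algebraMap R S x) t = x • t
        rw [conj_apply, ← hψ, AddEquiv.symm_apply_apply]
      rw [h1]
      have h2 := Groth.Agent.Lib.Helper16.LocCohLinear.ext_map_smul R
        (ModuleCat.of R (R ⧸ I)) (ModuleCat.of R T) i x
      have h3 := congrArg (fun φ => φ.hom ξ) h2
      have h4 : Emap i (ModuleCat.of R (R ⧸ I)) (x • 𝟙 (ModuleCat.of R T)) ξ = x • ξ := h3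
      rw [h4]
      exact smul_E_quot_eq_zero I i _ x hx ξ
    · intro b hb ξ
      have h1 : conj T T' ψ hψ b = 0 := by
        apply LinearMap.ext
        intro t
        rw [conj_apply, (Module.mem_annihilator.mp hb) (ψ t), map_zero, LinearMap.zero_apply]
      rw [h1]
      exact Emap_ofHom_zero T i _ ξ
  have hmem := hle ha ξ
  have h1 : ModuleCat.ofHom (conj T T' ψ hψ (algebraMap R S a)) =
      a • 𝟙 (ModuleCat.of R T) := by
    apply ModuleCat.hom_ext
    apply LinearMap.ext
    intro t
    change conj T T' ψ hψ (algebraMap R S a) t = a • t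
    rw [conj_apply, ← hψ, AddEquiv.symm_apply_apply]
  rw [h1] at hmem
  have h2 := Groth.Agent.Lib.Helper16.LocCohLinear.ext_map_smul R
    (ModuleCat.of R (R ⧸ I)) (ModuleCat.of R T) i a
  have h3 := congrArg (fun φ => φ.hom ξ) h2
  have h4 : Emap i (ModuleCat.of R (R ⧸ I)) (a • 𝟙 (ModuleCat.of R T)) ξ = a • ξ := h3
  rw [← h4]
  exact hmem

end Kill

section Main

variable (R : Type u) [CommRing R] [IsLocalRing R] [IsNoetherianRing R]

/-- an Artinian module killed by a power of the maximal ideal has finite length. -/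
theorem isFiniteLength_of_isArtinian_of_pow_smul (X : Type u) [AddCommGroup X] [Module R X]
    [IsArtinian R X] (k : ℕ) (hk : ∀ a ∈ maximalIdeal R ^ k, ∀ x : X, a • x = 0) :
    IsFiniteLength R X := by
  by_cases hX : Subsingleton X
  · exact IsFiniteLength.of_subsingleton
  have hk0 : k ≠ 0 := by
    rintro rfl
    apply hX
    refine ⟨fun x y => ?_⟩
    have h1 := hk 1 (by simp) x
    have h2 := hk 1 (by simp) y
    rw [one_smul] at h1 h2
    rw [h1, h2]
  have hp : maximalIdeal R ∈ (maximalIdeal R ^ k).minimalPrimes := by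
    refine ⟨⟨inferInstance, Ideal.pow_le_self hk0⟩, fun q hq _ => ?_⟩
    exact hq.1.le_of_pow_le hq.2
  have hart : IsArtinianRing (R ⧸ maximalIdeal R ^ k) :=
    IsLocalRing.quotient_artinian_of_mem_minimalPrimes_of_isLocalRing _ hp
  have hM : Module.IsTorsionBySet R X (maximalIdeal R ^ k : Ideal R) := fun x a => hk a.1 a.2 x
  let _ : Module (R ⧸ maximalIdeal R ^ k) X := hM.module
  have : IsScalarTower R (R ⧸ maximalIdeal R ^ k) X := hM.isScalarTower
  have hA : IsArtinian (R ⧸ maximalIdeal R ^ k) X := isArtinian_of_tower R inferInstance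
  have hfin : Module.Finite (R ⧸ maximalIdeal R ^ k) X :=
    ((IsArtinianRing.tfae (R := R ⧸ maximalIdeal R ^ k) (M := X)).out 2 0).mp hA
  have : Module.Finite R X := Module.Finite.trans (R ⧸ maximalIdeal R ^ k) X
  exact Groth.Agent.Lib.Helper8.RegHull.isFiniteLength_of_finite_of_pow_smul X k hk

theorem main (I : Ideal R) (M : Type u) [AddCommGroup M] [Module R M] [Module.Finite R M]
    (n : ℕ) (hn : Module.supportDim R M = n) (i : ℕ) :
    IsFiniteLength R (E i (ModuleCat.of R (R ⧸ I)) (ModuleCat.of R (LocCoh.H I n M))) := by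
  haveI : Nontrivial M := nontrivial_of_supportDim R M n hn
  haveI hart : IsArtinian R (LocCoh.H I n M) := Groth.Agent.S3262.result R I M n hn
  obtain ⟨htors, -⟩ := (Groth.Agent.S0315.result R (LocCoh.H I n M)).mp hart
  obtain ⟨ψ, hψ⟩ := Groth.Agent.Lib.Seat86.ComplLC.exists_semilinear R I n M htors
  have hn' : Module.supportDim (Groth.Agent.Lib.Seat86.ComplLC.Rhat R)
      (TensorProduct R (Groth.Agent.Lib.Seat86.ComplLC.Rhat R) M) = n := by
    rw [Groth.Agent.Lib.Seat86.ComplLC.supportDim_tensor, hn]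
  obtain ⟨k, hk⟩ := exists_pow_le_complete (Groth.Agent.Lib.Seat86.ComplLC.Rhat R)
    (I.map (algebraMap R (Groth.Agent.Lib.Seat86.ComplLC.Rhat R)))
    (TensorProduct R (Groth.Agent.Lib.Seat86.ComplLC.Rhat R) M) n hn'
  haveI := isArtinian_E R I i (LocCoh.H I n M)
  refine isFiniteLength_of_isArtinian_of_pow_smul R _ k (fun a ha ξ => ?_)
  apply smul_E_eq_zero_of_mem_sup I (LocCoh.H I n M) _ ψ hψ i a _ ξ
  apply hk
  rw [AdicCompletion.maximalIdeal_eq_map, ← Ideal.map_pow]
  exact Ideal.mem_map_of_mem _ ha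

end Main

end aux

/-- Let R be a Noetherian local ring, I an ideal of R and M a finitely generated R-module whose support
has dimension n. Then for every i ≥ 0 the R-module Ext^i_R(R ⧸ I, H^n_I(M)) has finite length; in
particular the top local cohomology module H^n_I(M) is I-cofinite. -/
theorem result (R : Type u) [CommRing R] [IsNoetherianRing R] [IsLocalRing R] (I : Ideal R) (M : Type u) [AddCommGroup M] [Module R M] [Module.Finite R M] (n : ℕ) (hn : Module.supportDim R M = n) (i : ℕ) : IsFiniteLength R (((Ext R (ModuleCat.{u} R) i).obj (op (ModuleCat.of R (R ⧸ I)))).obj (ModuleCat.of R (LocCoh.H I n M))) := by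
  exact main R I M n hn i

end Groth.Agent.S17760
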