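import Groth.Statements.S17766
import Groth.Agent.Lib.Seat86CanonExt
import Groth.Agent.Lib.Seat86Murthy2
import Groth.Agent.Lib.Helper28FGDim
import Groth.Agent.Lib.Helper5RLR3
import Groth.Agent.S7703
import Groth.Agent.S7692
import Groth.Agent.S7696
import Groth.Agent.S0342
import Groth.Agent.S0299

set_option autoImplicit false
set_option linter.style.haveILetI false
universe u
open CategoryTheory Opposite
open LocCoh

namespace Groth.Agent.S17766

/-- Let B be a regular local ring, p a prime ideal of B of height r, and suppose that A = B ⧸ p is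
Cohen–Macaulay. Then the B-module Ext^r_B(A, B) is isomorphic either to A itself or to a proper
ideal I of A which is unmixed of height one, i.e. every associated prime of A ⧸ I has height one in
A (existence of a B-linear isomorphism in each case). -/
theorem result (B : Type u) [CommRing B] [IsRegularLocalRing B] (p : Ideal B) [p.IsPrime] [LocCoh.IsCohenMacaulayLocalRing (B ⧸ p)] (r : ℕ) (hr : p.height = r) : Nonempty (((Ext B (ModuleCat.{u} B) r).obj (op (ModuleCat.of B (B ⧸ p)))).obj (ModuleCat.of B B) ≃ₗ[B] (B ⧸ p)) ∨ ∃ I : Ideal (B ⧸ p), I ≠ ⊤ ∧ (∀ q ∈ associatedPrimes (B ⧸ p) ((B ⧸ p) ⧸ I), q.height = 1) ∧ Nonempty (((Ext B (ModuleCat.{u} B) r).obj (op (ModuleCat.of B (B ⧸ p)))).obj (ModuleCat.of B B) ≃ₗ[B] I) := by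
  classical
  haveI : IsDomain (B ⧸ p) := Ideal.Quotient.isDomain p
  haveI hgor : LocCoh.IsGorensteinLocalRing B := Groth.Agent.S0342.result B
  haveI hcmB : LocCoh.IsCohenMacaulayLocalRing B :=
    Groth.Agent.Lib.Helper5.isCohenMacaulayLocalRing_of_isRegularLocalRing B
  have hdimnat : ∀ (T : Type u) [CommRing T] [IsNoetherianRing T] [IsLocalRing T],
      ∃ n : ℕ, ringKrullDim T = n := by
    intro T _ _ _
    have h1 : ringKrullDim T < ⊤ := ringKrullDim_lt_top
    have h2 : 0 ≤ ringKrullDim T := ringKrullDim_nonneg_of_nontrivial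
    have h3 : ringKrullDim T ≠ ⊥ := fun e => by
      rw [e] at h2
      exact absurd h2 (by decide)
    obtain ⟨m, hm⟩ := WithBot.ne_bot_iff_exists.mp h3
    have h4 : m ≠ ⊤ := by
      rintro rfl
      rw [← hm] at h1
      exact lt_irrefl _ h1
    obtain ⟨n, hn⟩ := ENat.ne_top_iff_exists.mp h4
    exact ⟨n, by rw [← hm, ← hn]; rfl⟩
  obtain ⟨n, hn⟩ := hdimnat (B ⧸ p)
  obtain ⟨n', hn'⟩ := hdimnat B
  have hform := Groth.Agent.Lib.Helper28.height_add_ringKrullDim_quotient_eq_of_isCohenMacaulayLocalRing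
    p (Ideal.IsPrime.ne_top inferInstance)
  have hrn : n' - n = r := by
    rw [hr, hn, hn'] at hform
    have h1 : ((r + n : ℕ) : WithBot ℕ∞) = ((n' : ℕ) : WithBot ℕ∞) := by
      push_cast
      exact hform
    have h2 : r + n = n' := by exact_mod_cast h1
    omega
  subst hrn
  obtain ⟨E, iE1, iE2, f, hf⟩ :=
    Groth.Agent.S0299.result (B ⧸ p) (IsLocalRing.ResidueField (B ⧸ p))
  obtain ⟨mK, hsm, hfin, ⟨eK⟩⟩ := Groth.Agent.Lib.Seat86.CanonExt.exists_module_ext B (B ⧸ p)
    Ideal.Quotient.mk_surjective n n' hn hn' E f hf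
  letI := mK
  haveI := hfin
  haveI : IsScalarTower B (B ⧸ p)
      (((Ext B (ModuleCat.{u} B) (n' - n)).obj (op (ModuleCat.of B (B ⧸ p)))).obj
        (ModuleCat.of B B)) := IsScalarTower.of_algebraMap_smul hsm
  have hend := Groth.Agent.S7703.result (B ⧸ p) n hn E f hf _ eK
  have hS2 := Groth.Agent.S7696.result (B ⧸ p) n hn E f hf _ eK
  -- `K ≠ 0`
  obtain ⟨x, hx⟩ : ∃ x : (((Ext B (ModuleCat.{u} B) (n' - n)).obj
      (op (ModuleCat.of B (B ⧸ p)))).obj (ModuleCat.of B B)), x ≠ 0 := by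
    by_contra hcon
    have hall : ∀ x : (((Ext B (ModuleCat.{u} B) (n' - n)).obj
        (op (ModuleCat.of B (B ⧸ p)))).obj (ModuleCat.of B B)), x = 0 := fun x => by
      by_contra hx
      exact hcon ⟨x, hx⟩
    have h10 : (1 : B ⧸ p) = 0 := hend.1 (by
      apply LinearMap.ext
      intro y
      exact (hall _).trans (hall _).symm)
    exact one_ne_zero h10
  -- torsion-freeness
  have htf : ∀ (a : B ⧸ p) (y : (((Ext B (ModuleCat.{u} B) (n' - n)).obj
      (op (ModuleCat.of B (B ⧸ p)))).obj (ModuleCat.of B B))), a • y = 0 → a = 0 ∨ y = 0 := by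
    intro a y hay
    by_contra hcon
    rw [not_or] at hcon
    obtain ⟨ha0, hy0⟩ := hcon
    rcases Nat.eq_zero_or_pos n with hn0 | hnpos
    · haveI : Ring.KrullDimLE 0 (B ⧸ p) := by
        rw [Ring.krullDimLE_iff, hn, hn0]
      have hfield : IsField (B ⧸ p) := Ring.KrullDimLE.isField_of_isDomain
      obtain ⟨b, hb⟩ := hfield.mul_inv_cancel ha0
      apply hy0
      rw [← one_smul (B ⧸ p) y, ← hb, mul_comm, mul_smul, hay, smul_zero]
    · have hass := Groth.Agent.S7692.result (B ⧸ p) n hn E f hf _ eK hnpos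
      obtain ⟨P, hP, hle⟩ := exists_le_isAssociatedPrime_of_isNoetherianRing (B ⧸ p) y hy0
      have hPmem : P ∈ associatedPrimes (B ⧸ p) (((Ext B (ModuleCat.{u} B) (n' - n)).obj
          (op (ModuleCat.of B (B ⧸ p)))).obj (ModuleCat.of B B)) := hP
      rw [hass] at hPmem
      obtain ⟨hPprime, hPdim⟩ := hPmem
      have haP : a ∈ P := hle (by
        rw [Submodule.mem_colon_singleton, Submodule.mem_bot]
        exact hay)
      have h1 := ringKrullDim_quotient_succ_le_of_nonZeroDivisor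
        (mem_nonZeroDivisors_of_ne_zero ha0)
      have hspan : Ideal.span {a} ≤ P := (Ideal.span_singleton_le_iff_mem _).mpr haP
      have h2 : ringKrullDim ((B ⧸ p) ⧸ P) ≤ ringKrullDim ((B ⧸ p) ⧸ Ideal.span {a}) :=
        ringKrullDim_le_of_surjective (Ideal.Quotient.factor hspan)
          (Ideal.Quotient.factor_surjective hspan)
      rw [hPdim] at h2
      rw [hn] at h1
      have h3 : ((n : ℕ) : WithBot ℕ∞) + 1 ≤ n := le_trans (by gcongr) h1
      have h4 : ((n + 1 : ℕ) : WithBot ℕ∞) ≤ ((n : ℕ) : WithBot ℕ∞) := by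
        push_cast
        exact h3
      have h5 : n + 1 ≤ n := by exact_mod_cast h4
      omega
  obtain ⟨ψ, hψ⟩ := Groth.Agent.Lib.Seat86.Murthy.exists_injective_to_ring htf hend x hx
  obtain ⟨I, hIdef⟩ : ∃ I : Ideal (B ⧸ p), I = LinearMap.range ψ := ⟨_, rfl⟩
  let θ : (((Ext B (ModuleCat.{u} B) (n' - n)).obj (op (ModuleCat.of B (B ⧸ p)))).obj
      (ModuleCat.of B B)) ≃ₗ[B ⧸ p] I :=
    (LinearEquiv.ofInjective ψ hψ).trans (LinearEquiv.ofEq _ _ hIdef.symm)
  have hIbot : I ≠ ⊥ := by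
    intro h
    have h1 : ((θ x : I) : B ⧸ p) ∈ (⊥ : Ideal (B ⧸ p)) := by
      rw [← h]
      exact (θ x).2
    rw [Ideal.mem_bot] at h1
    have h2 : θ x = 0 := Subtype.ext h1
    exact hx (θ.injective (by rw [h2, map_zero]))
  by_cases htop : I = ⊤
  · left
    exact ⟨(θ.trans ((LinearEquiv.ofEq I ⊤ htop).trans Submodule.topEquiv)).restrictScalars B⟩
  · right
    refine ⟨I, htop, ?_, ⟨θ.restrictScalars B⟩⟩
    intro q hq
    apply le_antisymm
    · exact Groth.Agent.Lib.Seat86.Murthy.height_le_one_of_mem_associatedPrimes htf x hx hS2 I θ q hq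
    · exact Groth.Agent.Lib.Seat86.Murthy.one_le_height_of_mem_associatedPrimes I hIbot q hq

end Groth.Agent.S17766
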