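import Groth.Statements.S17769
import Groth.Agent.Lib.Seat97GrRegQuot
import Groth.Agent.Lib.Seat97GrDimField
import Groth.Agent.Lib.Seat97GrHeight
import Groth.Agent.S13224

set_option autoImplicit false
universe u
open GrLC

namespace Groth.Agent.S17769

/-- Let R = ⊕_{n ≥ 0} R_n be a Noetherian positively ℤ-graded ring which is standard graded (its
irrelevant ideal is generated by R_1), *local with unique homogeneous maximal ideal m,
Cohen–Macaulay, and of Krull dimension d + 1. Let x be a homogeneous element of degree k lying in m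
which is a non-zerodivisor on R, and let N be R ⧸ xR as a graded R-module, presented by a surjective
degree-preserving R-linear map π : R → N with kernel xR. Writing a(·) for the largest degree in
which the top graded local cohomology with support in m is nonzero (computed from *injective
resolutions I of R and F of N), one has a(R ⧸ xR) = a(R) + k, that is, the end of H^d_m(N) equals
the end of H^{d+1}_m(R) plus k. (The published statement does not require x to lie in m; for a
homogeneous unit x of degree 0 one has R ⧸ xR = 0, whose local cohomology vanishes, and the formula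
fails. The proof uses that H^d_m(R ⧸ xR) is the top local cohomology, i.e. that x is not a unit, so
x is taken in m here; for a standard graded ring this excludes only the units of degree 0.) -/
theorem result (R : Type u) [CommRing R] [LocCoh.IsCohenMacaulayRing R] (𝒜 : ℤ → AddSubgroup R) [GradedRing 𝒜] (hpos : ∀ n : ℤ, n < 0 → 𝒜 n = ⊥) (hstd : Ideal.span (⋃ n ∈ Set.Ioi (0 : ℤ), (𝒜 n : Set R)) = Ideal.span ((𝒜 1 : AddSubgroup R) : Set R)) (m : HomogeneousIdeal 𝒜) (hm : GrLC.IsStarLocal 𝒜 m) (d : ℕ) (hd : ringKrullDim R = (d + 1 : ℕ)) (I : GrLC.StarInjRes 𝒜 𝒜) (x : R) (k : ℤ) (hxk : x ∈ 𝒜 k) (hxm : x ∈ m.toIdeal) (hx : IsSMulRegular R x) (N : Type u) [AddCommGroup N] [Module R N] (𝒩 : ℤ → AddSubgroup N) [DirectSum.Decomposition 𝒩] [SetLike.GradedSMul 𝒜 𝒩] (π : R →ₗ[R] N) (hπ : GrLC.IsGrHom 𝒜 𝒩 π) (hπs : Function.Surjective π) (hπk : LinearMap.ker π = Ideal.span {x}) (F : GrLC.StarInjRes 𝒜 𝒩) : GrLC.endDeg (F.Hgr m d) = GrLC.endDeg (I.Hgr m (d + 1)) + ((k : WithTop ℤ) : WithBot (WithTop ℤ)) := by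
  classical
  have hmax : m.toIdeal.IsMaximal :=
    Groth.Agent.Lib.Seat86.StarLocal.isMaximal_of_isStarLocal hm hpos
  have := hmax
  have : Nontrivial R := by
    by_contra hnt
    rw [not_nontrivial_iff_subsingleton] at hnt
    exact hmax.ne_top (Subsingleton.elim _ _)
  -- `0 ≤ k`
  have hk : 0 ≤ k := by
    by_contra hk
    have hk' : k < 0 := lt_of_not_ge hk
    have hx0 : x = 0 := by
      have := hxk
      rw [hpos k hk'] at this
      exact (AddSubgroup.mem_bot).mp this
    have h10 : (1 : R) = 0 := by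
      apply hx
      show x • (1 : R) = x • (0 : R)
      rw [hx0, zero_smul, zero_smul]
    exact one_ne_zero h10
  -- the height of `m`
  have hdim := Groth.Agent.Lib.Seat97.GrHeight.ringKrullDim_eq_height_of_isStarLocal 𝒜 hpos hm
  have hht : m.toIdeal.height = ((d + 1 : ℕ) : ℕ∞) := by
    rw [hd] at hdim
    have h2 : (((d + 1 : ℕ) : ℕ∞) : WithBot ℕ∞) = ((m.toIdeal.height : ℕ∞) : WithBot ℕ∞) := by
      rw [← hdim]
      rfl
    exact (WithBot.coe_injective h2).symm
  have hvan0 : Subsingleton (LocCoh.H m.toIdeal d R) :=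
    Groth.Agent.Lib.Seat97.GrDimField.subsingleton_locCoh_of_lt_height m.toIdeal (d + 1) hht d
      (Nat.lt_succ_self d)
  obtain ⟨e⟩ := Groth.Agent.S13224.result R 𝒜 m R 𝒜 I d
  have hvan : Subsingleton (I.H m d) := e.toEquiv.subsingleton
  have hreg : ∀ z : R, x • z = 0 → z = 0 := by
    intro z hz
    apply hx
    show x • z = x • (0 : R)
    rw [hz, smul_zero]
  have hπk' : ∀ z : R, π z = 0 ↔ ∃ w : R, x • w = z := by
    intro z
    rw [← LinearMap.mem_ker, hπk, Ideal.mem_span_singleton']
    constructor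
    · rintro ⟨w, hw⟩
      exact ⟨w, by rw [smul_eq_mul, mul_comm, hw]⟩
    · rintro ⟨w, hw⟩
      exact ⟨w, by rw [mul_comm, ← smul_eq_mul, hw]⟩
  exact Groth.Agent.Lib.Seat97.GrRegQuot.endDeg_regular_quotient I F m x k hxk hk hxm hreg π hπ
    hπs hπk' d hvan

end Groth.Agent.S17769
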