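import Groth.Statements.S1777
import Groth.Agent.Lib.Seat8DualFlat

set_option autoImplicit false
universe u
open CategoryTheory
attribute [local instance] HasDerivedCategory.standard
open Dual

namespace Groth.Agent.S1777

/-- Let A → B be a flat local homomorphism of Noetherian local rings with m_A B = m_B and ω a normalized
dualizing complex for A. Assuming the derived base change functor D(A) → D(B) exists, the base
change of ω is a normalized dualizing complex for B. -/
theorem result (A B : Type u) [CommRing A] [CommRing B] [IsLocalRing A] [IsLocalRing B] [Algebra A B] [IsLocalHom (algebraMap A B)] [IsNoetherianRing A] [IsNoetherianRing B] [Module.Flat A B] (hm : (IsLocalRing.maximalIdeal A).map (algebraMap A B) = IsLocalRing.maximalIdeal B) [DRing.HasLBaseChange (algebraMap A B)] (ω : Dual.D A) (hω : Dual.IsDualizing A ω) (hn : Dual.IsNormalized A ω) : Dual.IsDualizing B ((DRing.LBaseChange (algebraMap A B)).obj ω) ∧ Dual.IsNormalized B ((DRing.LBaseChange (algebraMap A B)).obj ω) := by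
  open scoped TensorProduct in
  -- the residue field of `B` is extended from the residue field of `A`
  have e : (B ⧸ IsLocalRing.maximalIdeal B) ≃ₗ[B] B ⊗[A] (A ⧸ IsLocalRing.maximalIdeal A) :=
    (Submodule.quotEquivOfEq _ _ hm.symm).trans
      (Ideal.qoutMapEquivTensorQout B (I := IsLocalRing.maximalIdeal A))
  let iso := (Groth.Agent.Lib.Seat8.DualBC.lbcFlatIso (A := A) (B := B)).app ω
  have hd : Dual.IsDualizing B ((Groth.Agent.Lib.Helper1.Extend.extD A B).obj ω) := by
    refine Groth.Agent.Lib.Seat8.DualFlat.isDualizing_extD_of_maximal ω hω (fun n hn => ?_)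
    have hn' : n = IsLocalRing.maximalIdeal B := IsLocalRing.eq_maximalIdeal hn
    subst hn'
    exact ⟨IsLocalRing.maximalIdeal A, ⟨e⟩⟩
  refine ⟨Groth.Agent.Lib.Seat8.DualBC.isDualizing_of_iso iso.symm hd, ?_⟩
  intro i hi
  obtain ⟨a, b, hab⟩ := hω.finite_injective_dimension
  obtain ⟨hGE, -⟩ := Groth.Agent.Lib.Seat8.DualBC.isGE_isLE_of_finiteInjDim ω a b hab
  have h0 : Subsingleton (Dual.inD A (A ⧸ IsLocalRing.maximalIdeal A) ⟶ ω⟦i⟧) := hn i hi
  have h1 := Groth.Agent.Lib.Seat8.DualFlat.subsingleton_inD_extD (B := B)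
    (A ⧸ IsLocalRing.maximalIdeal A) ω a hGE i h0
  have e' : IsLocalRing.ResidueField B ≃ₗ[B] B ⊗[A] (A ⧸ IsLocalRing.maximalIdeal A) := e
  exact Groth.Agent.Lib.Seat8.DualBC.subsingleton_hom_of_iso
    ((DerivedCategory.singleFunctor (ModuleCat.{u} B) 0).mapIso e'.symm.toModuleIso)
    ((shiftFunctor (Dual.D B) i).mapIso iso.symm) h1

end Groth.Agent.S1777
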