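import Groth.Statements.S17771
import Groth.Agent.S17772
import Groth.Agent.Lib.Seat67HilbArt
import Groth.Agent.Lib.Seat67Deg0Local
import Groth.Agent.Lib.Seat91CompGrading

set_option autoImplicit false
universe u
open GrLC

namespace Groth.Agent.S17771

/-- Let R = ⊕_{n ≥ 0} R_n be a positively ℤ-graded ring which is standard graded (irrelevant ideal
generated by R_1), with R_0 Artinian, *local with unique homogeneous maximal ideal m, and
Cohen–Macaulay of Krull dimension d. Then the a-invariant of R is at least −d: the end (largest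
nonzero degree) of the graded local cohomology module H^d_m(R), computed from any *injective
resolution of R in the graded category, is ≥ −d. (Equality holds exactly for polynomial rings
R_0[T_1, …, T_d]; that characterisation is not part of this statement.) -/
theorem result (R : Type u) [CommRing R] [LocCoh.IsCohenMacaulayRing R] (𝒜 : ℤ → AddSubgroup R) [GradedRing 𝒜] (hpos : ∀ n : ℤ, n < 0 → 𝒜 n = ⊥) (hstd : Ideal.span (⋃ n ∈ Set.Ioi (0 : ℤ), (𝒜 n : Set R)) = Ideal.span ((𝒜 1 : AddSubgroup R) : Set R)) [IsArtinianRing (GrLC.deg0 𝒜)] (m : HomogeneousIdeal 𝒜) (hm : GrLC.IsStarLocal 𝒜 m) (d : ℕ) (hd : ringKrullDim R = d) (I : GrLC.StarInjRes 𝒜 𝒜) : (((-(d : ℤ) : ℤ) : WithTop ℤ) : WithBot (WithTop ℤ)) ≤ GrLC.endDeg (I.Hgr m d) := by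
  classical
  haveI hnt : Nontrivial R := Groth.Agent.Lib.Seat67.Deg0Local.nontrivial_of_isStarLocal 𝒜 hm
  haveI hloc : IsLocalRing (GrLC.deg0 𝒜) := Groth.Agent.Lib.Seat67.Deg0Local.isLocalRing_deg0 𝒜 hm
  letI : GradedAlgebra (GrLC.comp 𝒜 𝒜) := Groth.Agent.Lib.Seat91.CompGrading.compGradedAlgebra 𝒜
  have hpos' : ∀ n : ℤ, n < 0 → GrLC.comp 𝒜 𝒜 n = ⊥ := fun n hn =>
    Groth.Agent.Lib.Seat91.CompGrading.comp_eq_bot 𝒜 (hpos n hn)
  have h0' : GrLC.comp 𝒜 𝒜 0 = Submodule.span (GrLC.deg0 𝒜) {(1 : R)} :=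
    Groth.Agent.Lib.Seat91.CompGrading.comp_zero_eq 𝒜
  have hstd' : Ideal.span (⋃ j ∈ Set.Ioi (0 : ℤ), (GrLC.comp 𝒜 𝒜 j : Set R)) =
      Ideal.span ((GrLC.comp 𝒜 𝒜 1 : Submodule (GrLC.deg0 𝒜) R) : Set R) := hstd
  obtain ⟨P, N, hPN⟩ := Groth.Agent.Lib.Seat67.HilbArt.exists_hilbPoly (GrLC.comp 𝒜 𝒜) hpos' h0'
    hstd'
  have hP : ∃ N : ℤ, ∀ n : ℤ, N ≤ n → P.eval (n : ℚ) =
      ((Module.length (GrLC.deg0 𝒜) (GrLC.comp 𝒜 𝒜 n)).toNat : ℚ) := by
    refine ⟨(N : ℤ), fun j hj => ?_⟩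
    obtain ⟨k, rfl⟩ := Int.eq_ofNat_of_zero_le (le_trans (Int.natCast_nonneg N) hj)
    have := hPN k (by exact_mod_cast hj)
    exact_mod_cast this
  rw [Groth.Agent.S17772.result R 𝒜 hpos hstd m hm d hd I P hP]
  obtain ⟨n, hn, hne⟩ := Groth.Agent.Lib.Seat67.HilbArt.exists_ne (GrLC.comp 𝒜 𝒜) hpos' h0' hstd' d
    (le_of_eq hd) P N hPN
  have h1 : (((-(d : ℤ) : ℤ) : WithTop ℤ) : WithBot (WithTop ℤ)) ≤
      ((n : WithTop ℤ) : WithBot (WithTop ℤ)) :=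
    WithBot.coe_le_coe.2 (WithTop.coe_le_coe.2 hn)
  exact h1.trans (le_iSup₂ (f := fun (n : ℤ) (_ : P.eval (n : ℚ) ≠
      ((Module.length (GrLC.deg0 𝒜) (GrLC.comp 𝒜 𝒜 n)).toNat : ℚ)) =>
      ((n : WithTop ℤ) : WithBot (WithTop ℤ))) n hne)

end Groth.Agent.S17771
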