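import Groth.Statements.S1778
import Groth.Agent.Lib.Seat8DualFlat

set_option autoImplicit false
universe u
open CategoryTheory
attribute [local instance] HasDerivedCategory.standard
open Dual

namespace Groth.Agent.S1778

/-- Let A → B be a flat homomorphism of Noetherian rings and I an ideal of A such that A → B/IB is
surjective with kernel I (so A/I = B/IB) and IB lies in the Jacobson radical of B. Assuming the
derived base change functor D(A) → D(B) exists, the base change of a dualizing complex ω of A is a
dualizing complex for B. -/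
theorem result (A B : Type u) [CommRing A] [CommRing B] [Algebra A B] [IsNoetherianRing A] [IsNoetherianRing B] [Module.Flat A B] (I : Ideal A) (hs : Function.Surjective ((Ideal.Quotient.mk (I.map (algebraMap A B))).comp (algebraMap A B))) (hk : RingHom.ker ((Ideal.Quotient.mk (I.map (algebraMap A B))).comp (algebraMap A B)) = I) (hJ : I.map (algebraMap A B) ≤ (⊥ : Ideal B).jacobson) [DRing.HasLBaseChange (algebraMap A B)] (ω : Dual.D A) (hω : Dual.IsDualizing A ω) : Dual.IsDualizing B ((DRing.LBaseChange (algebraMap A B)).obj ω) := by
  let iso := (Groth.Agent.Lib.Seat8.DualBC.lbcFlatIso (A := A) (B := B)).app ω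
  refine Groth.Agent.Lib.Seat8.DualBC.isDualizing_of_iso iso.symm
    (Groth.Agent.Lib.Seat8.DualFlat.isDualizing_extD_of_maximal ω hω (fun n hn => ?_))
  have hIn : I.map (algebraMap A B) ≤ n :=
    hJ.trans ((Ideal.jacobson_mono (bot_le : (⊥ : Ideal B) ≤ n)).trans
      (le_of_eq (@Ideal.jacobson_eq_self_of_isMaximal _ _ n hn)))
  have hIp : I ≤ n.comap (algebraMap A B) := Ideal.map_le_iff_le_comap.1 hIn
  have hnp : n = (n.comap (algebraMap A B)).map (algebraMap A B) := by
    refine le_antisymm (fun y hy => ?_) Ideal.map_comap_le
    obtain ⟨a, ha⟩ := hs (Ideal.Quotient.mk _ y)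
    have h1 : algebraMap A B a - y ∈ I.map (algebraMap A B) := by
      rw [← Ideal.Quotient.eq]
      exact ha
    have h2 : algebraMap A B a ∈ n := by
      have : algebraMap A B a = (algebraMap A B a - y) + y := by ring
      rw [this]
      exact n.add_mem (hIn h1) hy
    have h3 : y = algebraMap A B a - (algebraMap A B a - y) := by ring
    rw [h3]
    exact Ideal.sub_mem _ (Ideal.mem_map_of_mem _ h2) (Ideal.map_mono hIp h1)
  exact ⟨n.comap (algebraMap A B), ⟨(Submodule.quotEquivOfEq _ _ hnp).trans
    (Ideal.qoutMapEquivTensorQout B (I := n.comap (algebraMap A B)))⟩⟩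

end Groth.Agent.S1778
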