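import Groth.Statements.S1779
import Groth.Agent.Lib.Seat8DualFlat
import Groth.Agent.Lib.Helper19ComplNoeth

set_option autoImplicit false
universe u
open CategoryTheory
attribute [local instance] HasDerivedCategory.standard
open Dual

namespace Groth.Agent.S1779

/-- Let A be a Noetherian ring, I an ideal and ω a dualizing complex for A. Assuming the derived base
change functor to the I-adic completion exists, the base change of ω is a dualizing complex for the
I-adic completion of A. -/
theorem result (A : Type u) [CommRing A] [IsNoetherianRing A] (I : Ideal A) [DRing.HasLBaseChange (algebraMap A (AdicCompletion I A))] (ω : Dual.D A) (hω : Dual.IsDualizing A ω) : Dual.IsDualizing (AdicCompletion I A) ((DRing.LBaseChange (algebraMap A (AdicCompletion I A))).obj ω) := by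
  have hN : IsNoetherianRing (AdicCompletion I A) :=
    Groth.Agent.Lib.Helper19.isNoetherianRing_adicCompletion I
  have fg : I.FG := IsNoetherian.noetherian I
  haveI := AdicCompletion.isAdicComplete_self I fg
  have hJ : I.map (algebraMap A (AdicCompletion I A)) ≤
      (⊥ : Ideal (AdicCompletion I A)).jacobson := IsAdicComplete.le_jacobson_bot _
  have hs : ∀ y : AdicCompletion I A, ∃ a : A,
      algebraMap A (AdicCompletion I A) a - y ∈ I.map (algebraMap A (AdicCompletion I A)) := by
    intro y
    obtain ⟨a, ha⟩ := Ideal.Quotient.mk_surjective (AdicCompletion.evalOneₐ I y)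
    refine ⟨a, ?_⟩
    rw [← AdicCompletion.ker_evalOneₐ_eq_map I fg, RingHom.mem_ker]
    show AdicCompletion.evalOneₐ I (algebraMap A (AdicCompletion I A) a - y) = 0
    rw [map_sub, sub_eq_zero, ← ha]
    exact AdicCompletion.evalOneₐ_of I a
  let iso := (Groth.Agent.Lib.Seat8.DualBC.lbcFlatIso (A := A) (B := AdicCompletion I A)).app ω
  refine Groth.Agent.Lib.Seat8.DualBC.isDualizing_of_iso iso.symm
    (Groth.Agent.Lib.Seat8.DualFlat.isDualizing_extD_of_maximal ω hω (fun n hn => ?_))
  have hIn : I.map (algebraMap A (AdicCompletion I A)) ≤ n :=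
    hJ.trans ((Ideal.jacobson_mono (bot_le : (⊥ : Ideal (AdicCompletion I A)) ≤ n)).trans
      (le_of_eq (@Ideal.jacobson_eq_self_of_isMaximal _ _ n hn)))
  have hIp : I ≤ n.comap (algebraMap A (AdicCompletion I A)) := Ideal.map_le_iff_le_comap.1 hIn
  have hnp : n = (n.comap (algebraMap A (AdicCompletion I A))).map
      (algebraMap A (AdicCompletion I A)) := by
    refine le_antisymm (fun y hy => ?_) Ideal.map_comap_le
    obtain ⟨a, h1⟩ := hs y
    have h2 : algebraMap A (AdicCompletion I A) a ∈ n := by
      have : algebraMap A (AdicCompletion I A) a =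
          (algebraMap A (AdicCompletion I A) a - y) + y := by ring
      rw [this]
      exact n.add_mem (hIn h1) hy
    have h3 : y = algebraMap A (AdicCompletion I A) a -
        (algebraMap A (AdicCompletion I A) a - y) := by ring
    rw [h3]
    exact Ideal.sub_mem _ (Ideal.mem_map_of_mem _ h2) (Ideal.map_mono hIp h1)
  exact ⟨n.comap (algebraMap A (AdicCompletion I A)), ⟨(Submodule.quotEquivOfEq _ _ hnp).trans
    (Ideal.qoutMapEquivTensorQout (AdicCompletion I A)
      (I := n.comap (algebraMap A (AdicCompletion I A))))⟩⟩

end Groth.Agent.S1779
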