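import Mathlib
import Groth.Prelude
import Groth.Statements.S1782
import Groth.Agent.Lib.Seat90ExtTower
import Groth.Agent.Lib.Seat8DimFn4
import Groth.Agent.S1772

set_option autoImplicit false
universe u
open CategoryTheory
attribute [local instance] HasDerivedCategory.standard
open Dual2

namespace Groth.Agent.S1782

/-- Let R → A be a ring map of finite type between Noetherian rings, where φ^!(K) is formed from a
presentation ψ : R[x_1, …, x_n] → A as RHom_P(A, K ⊗^L_R P)[n], assuming the derived base change to
P exists and taking for RHom_P(A, −) a right adjoint of restriction of scalars along ψ. If ω is a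
dualizing complex for R then φ^!(ω) is a dualizing complex for A. -/
theorem result (R A : Type u) [CommRing R] [CommRing A] [IsNoetherianRing R] [IsNoetherianRing A] [Algebra R A] (n : ℕ) (ψ : MvPolynomial (Fin n) R →ₐ[R] A) (hψ : Function.Surjective ψ) [DRing.HasLBaseChange (algebraMap R (MvPolynomial (Fin n) R))] (Rψ : Dual.D (MvPolynomial (Fin n) R) ⥤ Dual.D A) (adj : DRing.restrictD ψ.toRingHom ⊣ Rψ) (ω : Dual.D R) (hω : Dual.IsDualizing R ω) : Dual.IsDualizing A (Dual2.shriekVia n Rψ ω) := by
  have hN : IsNoetherianRing (MvPolynomial (Fin n) R) := inferInstance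
  letI : Algebra (MvPolynomial (Fin n) R) A := ψ.toRingHom.toAlgebra
  haveI : Module.Finite (MvPolynomial (Fin n) R) A :=
    Module.Finite.of_surjective (Algebra.linearMap (MvPolynomial (Fin n) R) A) hψ
  have h1 : Dual.IsDualizing (MvPolynomial (Fin n) R)
      ((DRing.LBaseChange (algebraMap R (MvPolynomial (Fin n) R))).obj ω) :=
    Groth.Agent.Lib.Seat8.DualBC.isDualizing_of_iso
      ((Groth.Agent.Lib.Seat8.DualBC.lbcFlatIso (A := R) (B := MvPolynomial (Fin n) R)).app ω).symm
      (Groth.Agent.Lib.Seat90.ExtTower.isDualizing_extD_mvPolynomial R n ω hω)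
  have h2 : Dual.IsDualizing A
      (Rψ.obj ((DRing.LBaseChange (algebraMap R (MvPolynomial (Fin n) R))).obj ω)) :=
    Groth.Agent.S1772.result (MvPolynomial (Fin n) R) A Rψ adj _ h1
  exact Groth.Agent.Lib.Seat8.DualShift.isDualizing_shift _ h2 (n : ℤ)

end Groth.Agent.S1782
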