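import Mathlib
import Groth.Prelude
import Groth.Statements.S1783
import Groth.Agent.Lib.Seat90ExtTower
import Groth.Agent.Lib.Seat8HomSingle
import Groth.Agent.S1774

set_option autoImplicit false
universe u
open CategoryTheory
attribute [local instance] HasDerivedCategory.standard
open Dual2

namespace Groth.Agent.S1783

/-- Let R → A be a ring map of finite type between Noetherian rings, where φ^!(K) is formed from a
presentation ψ : R[x_1, …, x_n] → A as RHom_P(A, K ⊗^L_R P)[n], assuming the derived base change to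
P exists and taking for RHom_P(A, −) a right adjoint of restriction of scalars along ψ. If K in D(R)
has vanishing cohomology below some degree, then so does φ^!(K); if moreover all cohomology modules
of K are finite R-modules, then all cohomology modules of φ^!(K) are finite A-modules. -/
theorem result (R A : Type u) [CommRing R] [CommRing A] [IsNoetherianRing R] [IsNoetherianRing A] [Algebra R A] (n : ℕ) (ψ : MvPolynomial (Fin n) R →ₐ[R] A) (hψ : Function.Surjective ψ) [DRing.HasLBaseChange (algebraMap R (MvPolynomial (Fin n) R))] (Rψ : Dual.D (MvPolynomial (Fin n) R) ⥤ Dual.D A) (adj : DRing.restrictD ψ.toRingHom ⊣ Rψ) (K : Dual.D R) (a : ℤ) (hKa : ∀ i : ℤ, i < a → Subsingleton (Dual.HD R K i)) : (∃ b : ℤ, ∀ i : ℤ, i < b → Subsingleton (Dual.HD A (Dual2.shriekVia n Rψ K) i)) ∧ ((∀ i : ℤ, Module.Finite R (Dual.HD R K i)) → ∀ i : ℤ, Module.Finite A (Dual.HD A (Dual2.shriekVia n Rψ K) i)) := by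
  open Groth.Agent.Lib.Helper1.Extend Groth.Agent.Lib.Seat8.HomSingle in
  have hN : IsNoetherianRing (MvPolynomial (Fin n) R) := inferInstance
  letI : Algebra (MvPolynomial (Fin n) R) A := ψ.toRingHom.toAlgebra
  haveI : Module.Finite (MvPolynomial (Fin n) R) A :=
    Module.Finite.of_surjective (Algebra.linearMap (MvPolynomial (Fin n) R) A) hψ
  -- the base change `Y = K ⊗ P`
  obtain ⟨Y, hY⟩ : ∃ Y : Dual.D (MvPolynomial (Fin n) R),
      Y = (DRing.LBaseChange (algebraMap R (MvPolynomial (Fin n) R))).obj K := ⟨_, rfl⟩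
  have iso : Y ≅ (extD R (MvPolynomial (Fin n) R)).obj K :=
    eqToIso hY ≪≫
      (Groth.Agent.Lib.Seat8.DualBC.lbcFlatIso (A := R) (B := MvPolynomial (Fin n) R)).app K
  have hH : ∀ i : ℤ, Nonempty ((DerivedCategory.homologyFunctor (ModuleCat.{u} (MvPolynomial (Fin n) R)) i).obj Y ≅
      (ext R (MvPolynomial (Fin n) R)).obj
        ((DerivedCategory.homologyFunctor (ModuleCat.{u} R) i).obj K)) := fun i =>
    ⟨(DerivedCategory.homologyFunctor (ModuleCat.{u} (MvPolynomial (Fin n) R)) i).mapIso iso ≪≫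
      homologyMapDIso (ext R (MvPolynomial (Fin n) R)) K i⟩
  have hYa : ∀ i : ℤ, i < a → Subsingleton (Dual.HD (MvPolynomial (Fin n) R) Y i) := by
    intro i hi
    obtain ⟨e⟩ := hH i
    have := hKa i hi
    have hz : Limits.IsZero ((DerivedCategory.homologyFunctor (ModuleCat.{u} R) i).obj K) :=
      ModuleCat.isZero_of_subsingleton _
    have hz' := (ext R (MvPolynomial (Fin n) R)).map_isZero hz
    exact ModuleCat.subsingleton_of_isZero (hz'.of_iso e)
  have hYGE : Y.IsGE a := by
    rw [DerivedCategory.isGE_iff]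
    intro i hi
    have := hYa i hi
    exact ModuleCat.isZero_of_subsingleton _
  -- vanishing of `H^i(Rψ Y)` below `a`
  have hRa : ∀ i : ℤ, i < a → Subsingleton (Dual.HD A (Rψ.obj Y) i) := by
    intro i hi
    have h1 : ((DRing.restrictD ψ.toRingHom).obj (dSg A i)).IsLE i :=
      isLE_map (ModuleCat.restrictScalars.{u} ψ.toRingHom) (dSg A i) i inferInstance
    have h2 : Subsingleton ((DRing.restrictD ψ.toRingHom).obj (dSg A i) ⟶ Y) :=
      ⟨fun f g =>
        (DerivedCategory.TStructure.t.zero_of_isLE_of_isGE f i a hi h1 hYGE).trans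
        (DerivedCategory.TStructure.t.zero_of_isLE_of_isGE g i a hi h1 hYGE).symm⟩
    have h3 : Subsingleton (dSg A i ⟶ Rψ.obj Y) := (adj.homEquiv _ _).symm.subsingleton
    exact (evEquiv (R := A) i (Rψ.obj Y)).symm.toEquiv.subsingleton
  -- shift
  have hsh : ∀ i : ℤ, Nonempty ((DerivedCategory.homologyFunctor (ModuleCat.{u} A) i).obj ((Rψ.obj Y)⟦(n : ℤ)⟧) ≅
      (DerivedCategory.homologyFunctor (ModuleCat.{u} A) ((n : ℤ) + i)).obj (Rψ.obj Y)) := fun i =>
    ⟨((DerivedCategory.homologyFunctor (ModuleCat.{u} A) 0).shiftIso (n : ℤ) i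
      ((n : ℤ) + i) rfl).app (Rψ.obj Y)⟩
  subst hY
  refine ⟨⟨a - n, fun i hi => ?_⟩, fun hfin i => ?_⟩
  · obtain ⟨e⟩ := hsh i
    have := hRa ((n : ℤ) + i) (by omega)
    exact e.toLinearEquiv.toEquiv.subsingleton
  · obtain ⟨e⟩ := hsh i
    have hfinY : ∀ j : ℤ, Module.Finite (MvPolynomial (Fin n) R)
        (Dual.HD (MvPolynomial (Fin n) R)
          ((DRing.LBaseChange (algebraMap R (MvPolynomial (Fin n) R))).obj K) j) := by
      intro j
      obtain ⟨e'⟩ := hH j
      have := hfin j
      have h2 : Module.Finite (MvPolynomial (Fin n) R) ((ext R (MvPolynomial (Fin n) R)).obj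
          ((DerivedCategory.homologyFunctor (ModuleCat.{u} R) j).obj K)) :=
        Groth.Agent.Lib.Helper1.LDer.finite_bc (algebraMap R (MvPolynomial (Fin n) R)) _
      exact Module.Finite.equiv e'.symm.toLinearEquiv
    have h3 := Groth.Agent.S1774.result (MvPolynomial (Fin n) R) A Rψ adj _ a hYa hfinY
      ((n : ℤ) + i)
    exact Module.Finite.equiv e.symm.toLinearEquiv

end Groth.Agent.S1783
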