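import Groth.Statements.S17855
import Groth.Agent.Lib.Seat36QPQuillen

set_option autoImplicit false
open CategoryTheory CategoryTheory.Limits MonoidalCategory CartesianMonoidalCategory MonObj GrpObj AlgebraicGeometry
universe u
open NonAbH1

namespace Groth.Agent.S17855

/-- For a group scheme locally of finite presentation, let R be a ring, G an R-group scheme locally of
finite presentation over S = Spec R, and r, r' ∈ R generating the unit ideal; let A = R[1/r], A' =
R[1/r'], B = R[1/rr']. For an R-algebra C write G₀(C) for the set of S-morphisms Spec C[T] → G whose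
restriction along T ↦ 0 (the S-morphism Spec C → Spec C[T]) is the unit. Then G₀(B) = G₀(A)·G₀(A'):
every g ∈ G₀(B) is the product, in the group of Spec B[T]-points of G, of the pullback of some g₁ ∈
G₀(A) and the pullback of some g₂ ∈ G₀(A') along Spec B[T] → Spec A[T], Spec A'[T]. The S-morphisms
induced by T ↦ 0 and by the localisation maps are taken as data determined by their underlying
scheme maps. The published statement also allows more general group functors and graded algebras. -/
theorem result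
    (R : Type u) [CommRing R]
    (G : Over (Spec (CommRingCat.of R))) [GrpObj G] [LocallyOfFinitePresentation G.hom]
    (r r' : R) (hrr : Ideal.span ({r, r'} : Set R) = ⊤)
    (A A' B : Type u) [CommRing A] [CommRing A'] [CommRing B] [Algebra R A] [Algebra R A'] [Algebra R B]
    [IsLocalization.Away r A] [IsLocalization.Away r' A'] [IsLocalization.Away (r * r') B]
    [Algebra A B] [Algebra A' B] [IsScalarTower R A B] [IsScalarTower R A' B]
    (eA : Over.mk (Spec.map (CommRingCat.ofHom (algebraMap R (A)))) ⟶ Over.mk (Spec.map (CommRingCat.ofHom (algebraMap R (Polynomial A)))))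
    (heA : eA.left = Spec.map (CommRingCat.ofHom (Polynomial.evalRingHom (0 : A))))
    (eA' : Over.mk (Spec.map (CommRingCat.ofHom (algebraMap R (A')))) ⟶ Over.mk (Spec.map (CommRingCat.ofHom (algebraMap R (Polynomial A')))))
    (heA' : eA'.left = Spec.map (CommRingCat.ofHom (Polynomial.evalRingHom (0 : A'))))
    (eB : Over.mk (Spec.map (CommRingCat.ofHom (algebraMap R (B)))) ⟶ Over.mk (Spec.map (CommRingCat.ofHom (algebraMap R (Polynomial B)))))
    (heB : eB.left = Spec.map (CommRingCat.ofHom (Polynomial.evalRingHom (0 : B))))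
    (tA : Over.mk (Spec.map (CommRingCat.ofHom (algebraMap R (Polynomial B)))) ⟶ Over.mk (Spec.map (CommRingCat.ofHom (algebraMap R (Polynomial A)))))
    (htA : tA.left = Spec.map (CommRingCat.ofHom (Polynomial.mapRingHom (algebraMap A B))))
    (tA' : Over.mk (Spec.map (CommRingCat.ofHom (algebraMap R (Polynomial B)))) ⟶ Over.mk (Spec.map (CommRingCat.ofHom (algebraMap R (Polynomial A')))))
    (htA' : tA'.left = Spec.map (CommRingCat.ofHom (Polynomial.mapRingHom (algebraMap A' B))))
    (g : Over.mk (Spec.map (CommRingCat.ofHom (algebraMap R (Polynomial B)))) ⟶ G) (hg : eB ≫ g = 1) :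
    ∃ (g₁ : Over.mk (Spec.map (CommRingCat.ofHom (algebraMap R (Polynomial A)))) ⟶ G) (g₂ : Over.mk (Spec.map (CommRingCat.ofHom (algebraMap R (Polynomial A')))) ⟶ G),
      eA ≫ g₁ = 1 ∧ eA' ≫ g₂ = 1 ∧ g = (tA ≫ g₁) * (tA' ≫ g₂) := by
  have hB : eB = Groth.Agent.Lib.Seat36.QPLemmaA.pm (Groth.Agent.Lib.Seat36.QPLemmaA.ev0 R B) :=
    Groth.Agent.Lib.Seat36.QPLemmaA.eq_pm eB _ _ heB
      (Groth.Agent.Lib.Seat36.QPLemmaA.ev0_toRingHom B)
  have hA : eA = Groth.Agent.Lib.Seat36.QPLemmaA.pm (Groth.Agent.Lib.Seat36.QPLemmaA.ev0 R A) :=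
    Groth.Agent.Lib.Seat36.QPLemmaA.eq_pm eA _ _ heA
      (Groth.Agent.Lib.Seat36.QPLemmaA.ev0_toRingHom A)
  have hA' : eA' = Groth.Agent.Lib.Seat36.QPLemmaA.pm (Groth.Agent.Lib.Seat36.QPLemmaA.ev0 R A') :=
    Groth.Agent.Lib.Seat36.QPLemmaA.eq_pm eA' _ _ heA'
      (Groth.Agent.Lib.Seat36.QPLemmaA.ev0_toRingHom A')
  have htA1 : tA = Groth.Agent.Lib.Seat36.QPLemmaA.pm
      (Polynomial.mapAlgHom (IsScalarTower.toAlgHom R A B)) :=
    Groth.Agent.Lib.Seat36.QPLemmaA.eq_pm tA _ _ htA rfl
  have htA1' : tA' = Groth.Agent.Lib.Seat36.QPLemmaA.pm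
      (Polynomial.mapAlgHom (IsScalarTower.toAlgHom R A' B)) :=
    Groth.Agent.Lib.Seat36.QPLemmaA.eq_pm tA' _ _ htA' rfl
  subst hB hA hA' htA1 htA1'
  exact Groth.Agent.Lib.Seat36.QPQuillen.quillen_patching G r r' hrr A A' B g hg

end Groth.Agent.S17855
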