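import Groth.Statements.S17873
import Groth.Agent.Lib.Seat86RegPrefix

set_option autoImplicit false
universe u
open GRRSing

namespace Groth.Agent.S17873

/-- Let T be a Cohen–Macaulay Noetherian local ring, J a proper ideal of T, j the grade of J (the
J-depth of T, i.e. the supremum of the lengths of T-regular sequences inside J; a natural number
here) and c the minimal number of generators of J (equal to the dimension of J/𝔪J over the residue
field). Then j ≤ c and there is a generating sequence t_1, …, t_c of J such that t_1, …, t_j is a
T-regular sequence. (The published statement does not exclude J = T; there c = 1 while the grade,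
read as the depth of T, can exceed 1, so this row assumes J proper.) -/
theorem result {T : Type u} [CommRing T] [LocCoh.IsCohenMacaulayLocalRing T]
    (J : Ideal T) (hJ : J ≠ ⊤) (j : ℕ) (hj : LocCoh.idealDepth J T = j) :
    j ≤ Submodule.spanFinrank J ∧
      ∃ ts : List T, ts.length = Submodule.spanFinrank J ∧ Ideal.ofList ts = J ∧
        RingTheory.Sequence.IsRegular T (ts.take j) := by
  classical
  open Groth.Agent.Lib.Seat86.RegPrefix Groth.Agent.Lib.Helper28 in
  obtain ⟨s, hcard, hspan⟩ :=
    (IsNoetherian.noetherian J).exists_span_finset_card_eq_spanFinrank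
  have hgen₀ : Ideal.ofList s.toList = J := by
    rw [← hspan]
    unfold Ideal.ofList
    congr 1
    ext x
    simp
  obtain ⟨bs, as, hbl, hlen, hgen, hreg⟩ :=
    exists_generators_weaklyRegular_prefix J hJ j hj (Submodule.spanFinrank J) s.toList
      (by rw [Finset.length_toList, hcard]) hgen₀ j le_rfl
  have hmem : ∀ r ∈ bs, r ∈ J := by
    intro r hr
    rw [← hgen]
    exact Ideal.subset_span (List.mem_append_left _ hr)
  refine ⟨?_, bs ++ as, hlen, hgen, ?_⟩
  · rw [← hlen, List.length_append, hbl]
    omega
  · rw [List.take_left' hbl]
    exact isRegular_of_isWeaklyRegular_of_mem hreg hmem (smul_top_ne_top hJ)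

end Groth.Agent.S17873
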