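import Groth.Statements.S17880
import Mathlib
import Groth.Agent.S7383
import Groth.Agent.S9199

set_option autoImplicit false
universe u
open CategoryTheory AlgebraicGeometry
open Lim

namespace Groth.Agent.S17880

open Limits

/-- Let f : Y → X be a morphism of schemes with X and Y quasi-compact and quasi-separated. Then f is the
composite of an affine morphism Y → Z and a morphism Z → X of finite presentation (locally of finite
presentation, quasi-compact and quasi-separated); if f is separated, Z → X can in addition be chosen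
separated. Both assertions are packaged in one existential. -/
theorem result {X Y : Scheme.{u}} (f : Y ⟶ X)
    [CompactSpace X] [QuasiSeparatedSpace X] [CompactSpace Y] [QuasiSeparatedSpace Y] :
    ∃ (Z : Scheme.{u}) (g : Y ⟶ Z) (h : Z ⟶ X), IsAffineHom g ∧ LocallyOfFinitePresentation h ∧
      QuasiCompact h ∧ QuasiSeparated h ∧ (IsSeparated f → IsSeparated h) ∧ g ≫ h = f := by
  obtain ⟨I, hI1, hI2, hI3, D, c, hc, hD, haff, ⟨e⟩⟩ := S7383.result f
  have : IsConnected Iᵒᵖ := IsCofiltered.isConnected _
  have hc' : IsLimit ((Over.forget X).mapCone c) := isLimitOfPreserves (Over.forget X) hc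
  let t : D ⋙ Over.forget X ⟶ (Functor.const Iᵒᵖ).obj X :=
    { app := fun i => (D.obj i).hom
      naturality := fun i j f => by
        show (D.map f).left ≫ (D.obj j).hom = (D.obj i).hom ≫ 𝟙 _
        rw [Category.comp_id, Over.w] }
  have i1 : ∀ {i j : Iᵒᵖ} (a : i ⟶ j), IsAffineHom ((D ⋙ Over.forget X).map a) := fun a => by
    show IsAffineHom (D.map a).left
    exact haff _ _ a
  have i1' : ∀ (i j : Iᵒᵖ) (a : i ⟶ j), IsAffineHom ((D ⋙ Over.forget X).map a) :=
    fun _ _ a => i1 a
  have i2 : ∀ i, CompactSpace ((D ⋙ Over.forget X).obj i) := fun i => by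
    show CompactSpace (D.obj i).left
    have := (hD i).2.1
    exact QuasiCompact.compactSpace_of_compactSpace (D.obj i).hom
  have i3 : ∀ i, QuasiSeparatedSpace ((D ⋙ Over.forget X).obj i) := fun i => by
    show QuasiSeparatedSpace (D.obj i).left
    have := (hD i).2.2
    exact quasiSeparatedSpace_of_quasiSeparated (D.obj i).hom
  obtain ⟨i₀⟩ : Nonempty Iᵒᵖ := inferInstance
  have hpt : ∀ i, e.inv.left ≫ (c.π.app i).left ≫ (D.obj i).hom = f := fun i => by
    rw [Over.w (c.π.app i)]
    exact Over.w e.inv
  have hiso : IsIso e.inv.left := (Over.forget X).map_isIso e.inv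
  obtain ⟨i, hi⟩ : ∃ i : Iᵒᵖ, IsSeparated f → IsSeparated (D.obj i).hom := by
    by_cases hsep : IsSeparated f
    · have hsep₀ : IsSeparated (((Over.forget X).mapCone c).π.app i₀ ≫ t.app i₀) := by
        have h1 : ((Over.forget X).mapCone c).π.app i₀ ≫ t.app i₀ = inv e.inv.left ≫ f :=
          (IsIso.eq_inv_comp e.inv.left).mpr (hpt i₀)
        rw [h1]
        exact (MorphismProperty.cancel_left_of_respectsIso @IsSeparated (inv e.inv.left) f).mpr hsep
      obtain ⟨i₁, hi₁⟩ := S9199.result X (D ⋙ Over.forget X) t ((Over.forget X).mapCone c) hc' i₀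
      exact ⟨i₁, fun _ => hi₁ i₁ (𝟙 _)⟩
    · exact ⟨i₀, fun h => absurd h hsep⟩
  have hπ : IsAffineHom (c.π.app i).left :=
    isAffineHom_π_app (D ⋙ Over.forget X) ((Over.forget X).mapCone c) hc' i
  refine ⟨(D.obj i).left, e.inv.left ≫ (c.π.app i).left, (D.obj i).hom, inferInstance, (hD i).1,
    (hD i).2.1, (hD i).2.2, hi, ?_⟩
  rw [Category.assoc]
  exact hpt i

end Groth.Agent.S17880
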