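import Groth.Statements.S17885
import Mathlib
import Groth.Agent.Lib.Seat32LimAffineSys

set_option autoImplicit false
universe u
open CategoryTheory AlgebraicGeometry
open Lim

namespace Groth.Agent.S17885

open Groth.Agent.Lib.Seat32 Limits

/-- Let f : Y → X be a morphism of schemes with X and Y quasi-compact and quasi-separated. Then f is
affine if and only if the X-scheme Y is a limit, in the category of schemes over X, of a filtered
inverse system of X-schemes that are affine and of finite presentation over X. -/
theorem result {X Y : Scheme.{u}} (f : Y ⟶ X)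
    [CompactSpace X] [QuasiSeparatedSpace X] [CompactSpace Y] [QuasiSeparatedSpace Y] :
    IsAffineHom f ↔
      ∃ (I : Type u) (_ : SmallCategory I) (_ : IsFiltered I) (D : Iᵒᵖ ⥤ Over X)
        (c : Limits.Cone D) (_ : Limits.IsLimit c),
        (∀ i, IsAffineHom (D.obj i).hom ∧ LocallyOfFinitePresentation (D.obj i).hom) ∧
        Nonempty (c.pt ≅ Over.mk f) := by
  constructor
  · intro hf
    obtain ⟨I, hI1, hI2, hI3, D, c, hc, hD, -, he⟩ := LimAffineSys.exists_affine_fp_system f
    exact ⟨I, inferInstance, inferInstance, D, c, hc, hD, he⟩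
  · rintro ⟨I, hI1, hI2, D, c, hc, hD, ⟨e⟩⟩
    have : IsConnected Iᵒᵖ := IsCofiltered.isConnected _
    have hc' : IsLimit ((Over.forget X).mapCone c) := isLimitOfPreserves (Over.forget X) hc
    have haff : ∀ {i j : Iᵒᵖ} (a : i ⟶ j), IsAffineHom ((D ⋙ Over.forget X).map a) := by
      intro i j a
      show IsAffineHom (D.map a).left
      have h1 : IsAffineHom (D.obj j).hom := (hD j).1
      have h2 : IsAffineHom ((D.map a).left ≫ (D.obj j).hom) := by
        rw [Over.w]; exact (hD i).1
      exact IsAffineHom.of_comp (D.map a).left (D.obj j).hom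
    obtain ⟨i₀⟩ : Nonempty Iᵒᵖ := IsCofiltered.nonempty
    have hπ : IsAffineHom (c.π.app i₀).left :=
      isAffineHom_π_app (D ⋙ Over.forget X) ((Over.forget X).mapCone c) hc' i₀
    have h1 : IsAffineHom (D.obj i₀).hom := (hD i₀).1
    have h2 : f = e.inv.left ≫ (c.π.app i₀).left ≫ (D.obj i₀).hom := by
      rw [Over.w (c.π.app i₀)]
      exact (Over.w e.inv).symm
    have h3 : IsIso e.inv.left := (Over.forget X).map_isIso e.inv
    rw [h2]
    infer_instance

end Groth.Agent.S17885
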