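import Mathlib
import Groth.Prelude
import Groth.Statements.S1789
import Groth.Agent.Lib.Seat90ExtDeg
import Groth.Agent.S1782

set_option autoImplicit false
universe u
open CategoryTheory
attribute [local instance] HasDerivedCategory.standard
open Dual2

namespace Groth.Agent.S1789

/-- Let R → A be a ring map of finite type between Noetherian rings with R local, where φ^!(K) is formed
from a presentation ψ : R[x_1, …, x_n] → A as RHom_P(A, K ⊗^L_R P)[n], assuming the derived base
change to P exists and taking for RHom_P(A, −) a right adjoint of restriction of scalars along ψ.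
Let m be a maximal ideal of A lying over the maximal ideal of R and ω a normalized dualizing complex
for R. Assuming the derived base change D(A) → D(A_m) exists, the base change of φ^!(ω) to A_m is a
normalized dualizing complex for A_m. -/
theorem result (R A : Type u) [CommRing R] [CommRing A] [IsNoetherianRing R] [IsNoetherianRing A] [Algebra R A] (n : ℕ) (ψ : MvPolynomial (Fin n) R →ₐ[R] A) (hψ : Function.Surjective ψ) [DRing.HasLBaseChange (algebraMap R (MvPolynomial (Fin n) R))] (Rψ : Dual.D (MvPolynomial (Fin n) R) ⥤ Dual.D A) (adj : DRing.restrictD ψ.toRingHom ⊣ Rψ) [IsLocalRing R] (m : Ideal A) [m.IsMaximal] (hm : m.comap (algebraMap R A) = IsLocalRing.maximalIdeal R) (ω : Dual.D R) (hω : Dual.IsDualizing R ω) (hn : Dual.IsNormalized R ω) [DRing.HasLBaseChange (algebraMap A (Localization.AtPrime m))] : Dual.IsDualizing (Localization.AtPrime m) ((DRing.LBaseChange (algebraMap A (Localization.AtPrime m))).obj (Dual2.shriekVia n Rψ ω)) ∧ Dual.IsNormalized (Localization.AtPrime m) ((DRing.LBaseChange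 (algebraMap A (Localization.AtPrime m))).obj (Dual2.shriekVia n Rψ ω)) := by
  open Groth.Agent.Lib.Helper1.Extend Groth.Agent.Lib.Seat90.ExtDeg Groth.Agent.Lib.Seat8.DimFn in
  have hmm : m.IsMaximal := inferInstance
  -- `φ^!(ω)` is dualizing
  have hK : Dual.IsDualizing A (Dual2.shriekVia n Rψ ω) :=
    Groth.Agent.S1782.result R A n ψ hψ Rψ adj ω hω
  -- the Ext-degree of `ω` at the maximal ideal of `R`
  have h0 : ExtDeg R ω (IsLocalRing.maximalIdeal R) 0 := fun i hi => hn i hi
  -- the preimage of `m` in the polynomial ring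
  have hm' : (m.comap ψ.toRingHom).IsMaximal := Ideal.comap_isMaximal_of_surjective _ hψ
  have hc : (m.comap ψ.toRingHom).comap (algebraMap R (MvPolynomial (Fin n) R)) =
      IsLocalRing.maximalIdeal R := by
    rw [← hm, Ideal.comap_comap]
    congr 1
    exact RingHom.ext (fun r => ψ.commutes r)
  have h1 := extDeg_mvPolynomial R ω hω (IsLocalRing.maximalIdeal R) 0 h0 n (m.comap ψ.toRingHom) hc
  have h2 : ExtDeg (MvPolynomial (Fin n) R)
      ((DRing.LBaseChange (algebraMap R (MvPolynomial (Fin n) R))).obj ω) (m.comap ψ.toRingHom)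
      (0 + n) :=
    h1.of_iso ((Groth.Agent.Lib.Seat8.DualBC.lbcFlatIso (A := R)
      (B := MvPolynomial (Fin n) R)).app ω).symm _ _
  letI : Algebra (MvPolynomial (Fin n) R) A := ψ.toRingHom.toAlgebra
  have h3 : ExtDeg A (Rψ.obj ((DRing.LBaseChange (algebraMap R (MvPolynomial (Fin n) R))).obj ω)) m
      (0 + n) := ExtDeg.of_adj (P := MvPolynomial (Fin n) R) hψ Rψ adj _ m _ h2
  have h4 : ExtDeg A (Dual2.shriekVia n Rψ ω) m 0 := by
    have := h3.shift _ _ _ (n : ℤ)
    have h0n : (0 : ℤ) + (n : ℤ) - (n : ℤ) = 0 := by ring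
    rw [h0n] at this
    exact this
  have hdeg : deg (Dual2.shriekVia n Rψ ω) hK ⟨m, hmm.isPrime⟩ = 0 :=
    deg_eq_of_extDeg _ hK ⟨m, hmm.isPrime⟩ 0 h4
  obtain ⟨hd1, hd2⟩ := Groth.Agent.Lib.Seat8.DimFn4.isDualizing_isNormalized_atPrime
    (Dual2.shriekVia n Rψ ω) hK ⟨m, hmm.isPrime⟩
  rw [hdeg] at hd1 hd2
  have iso : ((extD A (Localization.AtPrime m)).obj (Dual2.shriekVia n Rψ ω))⟦(0 : ℤ)⟧ ≅
      (DRing.LBaseChange (algebraMap A (Localization.AtPrime m))).obj (Dual2.shriekVia n Rψ ω) :=
    (shiftFunctorZero (Dual.D (Localization.AtPrime m)) ℤ).app _ ≪≫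
      ((Groth.Agent.Lib.Seat8.DualBC.lbcFlatIso (A := A) (B := Localization.AtPrime m)).app _).symm
  refine ⟨Groth.Agent.Lib.Seat8.DualBC.isDualizing_of_iso iso hd1, fun i hi => ?_⟩
  exact Groth.Agent.Lib.Seat8.DualBC.subsingleton_hom_of_iso (Iso.refl _)
    ((shiftFunctor (Dual.D (Localization.AtPrime m)) i).mapIso iso) (hd2 i hi)

end Groth.Agent.S1789
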