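import Groth.Statements.S18096
import Groth.Agent.Lib.Seat24AntiAff

set_option autoImplicit false
universe u
open CategoryTheory MonoidalCategory CartesianMonoidalCategory MonObj GrpObj AlgebraicGeometry CategoryTheory.Limits
open AlgGrp

namespace Groth.Agent.S18096

/-- Let k be a field and G a k-group scheme of finite type. Then G is anti-affine, i.e. O(G) = k, if and
only if every finite-dimensional linear representation of G is trivial, i.e. for every n every
homomorphism G → GL_{n,k} is trivial. -/
theorem result (k : Type u) [Field k]
    (G : Over (Spec (CommRingCat.of k))) [GrpObj G] [LocallyOfFiniteType G.hom] [QuasiCompact G.hom] :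
    Function.Bijective ((Scheme.ΓSpecIso (CommRingCat.of k)).inv ≫ G.hom.appTop).hom ↔
      ∀ (n : ℕ) (ρ : G ⟶ FrB.GLn n (Spec (CommRingCat.of k))), IsMonHom ρ → ρ = 1 := by
  have hc : CompactSpace G.left :=
    (quasiCompact_iff_compactSpace (f := G.hom)).mp inferInstance
  have hn : IsLocallyNoetherian G.left := LocallyOfFiniteType.isLocallyNoetherian G.hom
  have hq : QuasiSeparatedSpace G.left := inferInstance
  constructor
  · intro hb n ρ hρ
    exact Groth.Agent.Lib.Seat24.AntiAff.eq_one_of_bijective G hb n ρ
  · intro hG
    exact Groth.Agent.Lib.Seat24.AntiAff.bijective_of_forall_eq_one G hG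

end Groth.Agent.S18096
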