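import Groth.Statements.S18110
-- import your own Groth.Agent.* helpers here
import Groth.Agent.Lib.Seat88CartierGlobal

set_option autoImplicit false
universe u
open DeRham

namespace Groth.Agent.S18110

open exteriorPower in
/-- Let p be a prime, A a perfect ring of characteristic p (its Frobenius is bijective), B a smooth
A-algebra, and d a de Rham differential on the exterior powers of Ω_{B/A} (a degreewise family
obeying the de Rham rule with d ∘ d = 0). Then there is exactly one additive map C from the closed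
1-forms (the kernel of d in degree 1) to the 1-forms such that C(f^p ω) = f C(ω) for f in B and ω
closed, C(ω) = 0 if and only if ω is exact, and C(f^{p-1} df) = df for f in B. (The source states
this for all degrees r at once on a smooth scheme over a perfect base, with two further conditions,
C(1) = 1 in degree 0 and multiplicativity for wedge products of closed forms, which involve other
degrees; this row is the degree-one, affine case, where those two conditions are empty.) -/
theorem result
    (p : ℕ) [Fact p.Prime] (A B : Type u) [CommRing A] [CharP A p] [PerfectRing A p]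
    [CommRing B] [Algebra A B] [Algebra.Smooth A B]
    (d : ∀ q : ℕ, ↥(⋀[B]^q (Ω[B⁄A])) →ₗ[A] ↥(⋀[B]^(q + 1) (Ω[B⁄A])))
    (hd : DeRham.IsDiff (KaehlerDifferential.D A B) d) :
    ∃! C : ↥(DeRham.cocycles d 1) →+ ↥(⋀[B]^1 (Ω[B⁄A])),
      (∀ (f : B) (ω ω' : ↥(DeRham.cocycles d 1)),
          (ω' : ↥(⋀[B]^1 (Ω[B⁄A]))) = f ^ p • (ω : ↥(⋀[B]^1 (Ω[B⁄A]))) → C ω' = f • C ω) ∧
      (∀ ω : ↥(DeRham.cocycles d 1), C ω = 0 ↔ (ω : ↥(⋀[B]^1 (Ω[B⁄A]))) ∈ DeRham.coboundaries d 1) ∧
      (∀ (f : B) (ω : ↥(DeRham.cocycles d 1)),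
          (ω : ↥(⋀[B]^1 (Ω[B⁄A]))) = f ^ (p - 1) • d 0 ((exteriorPower.zeroEquiv B (Ω[B⁄A])).symm f) →
            C ω = d 0 ((exteriorPower.zeroEquiv B (Ω[B⁄A])).symm f)) := by
  have hp : p.Prime := Fact.out
  rcases subsingleton_or_nontrivial B with hsub | hnt
  · have : Subsingleton ↥(⋀[B]^1 (Ω[B⁄A])) := Module.subsingleton B _
    refine ⟨0, ⟨fun _ _ _ _ => Subsingleton.elim _ _,
      fun ω => ⟨fun _ => ?_, fun _ => Subsingleton.elim _ _⟩,
      fun _ _ _ => Subsingleton.elim _ _⟩, fun C' _ => ?_⟩
    · rw [Subsingleton.elim (ω : ↥(⋀[B]^1 (Ω[B⁄A]))) 0]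
      exact Submodule.zero_mem _
    · exact AddMonoidHom.ext fun ω => Subsingleton.elim _ _
  · have hp0 : ((p : ℕ) : B) = 0 := by
      have : ((p : ℕ) : B) = algebraMap A B ((p : ℕ) : A) := (map_natCast _ p).symm
      rw [this, CharP.cast_eq_zero, map_zero]
    have : CharP B p := (CharP.charP_iff_prime_eq_zero hp).mpr hp0
    exact Groth.Agent.Lib.Seat88.CartierGlobal.existsUnique_cartier p A B d hd

end Groth.Agent.S18110
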