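import Groth.Statements.S18155
import Groth.Agent.Lib.Seat88EtaleLift
import Groth.Agent.Lib.Seat88W2Nil

set_option autoImplicit false
universe u v
open FrobAlg

namespace Groth.Agent.S18155

/-- Let k be an algebraically closed field of characteristic p, A a commutative k-algebra and C an étale
A-algebra. If A admits a flat lifting over W_2(k) together with a lift of Frobenius, then so does C.
(The source states this for an étale cover Y → X of smooth varieties over k; its argument uses only
that Y is étale over X, and the affine case is stated here with no smoothness or finiteness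
hypothesis on A over k.) -/
theorem result
    (p : ℕ) [Fact p.Prime] (k : Type u) [Field k] [IsAlgClosed k] [CharP k p]
    (A C : Type v) [CommRing A] [CommRing C] [Algebra k A] [Algebra k C]
    [Algebra A C] [IsScalarTower k A C] [Algebra.Etale A C]
    (hA : FrobAlg.IsFLiftable p k A) : FrobAlg.IsFLiftable p k C := by
  classical
  obtain ⟨B, _, ι, π, Φ, hB⟩ := hA
  by_cases hC : Nontrivial C
  swap
  · -- the zero ring lifts itself
    have hsub : Subsingleton C := not_nontrivial_iff_subsingleton.mp hC
    refine ⟨C, inferInstance, (algebraMap k C).comp (FrobAlg.res p k), RingHom.id C, RingHom.id C, ?_⟩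
    refine { flat := ?_, surj := Function.surjective_id, ker_eq := Subsingleton.elim _ _,
             comm := ?_, semi := ?_, red := fun b => Subsingleton.elim _ _ }
    · letI : Algebra (FrobAlg.W2 p k) C := ((algebraMap k C).comp (FrobAlg.res p k)).toAlgebra
      show Module.Flat (FrobAlg.W2 p k) C
      infer_instance
    · ext x; exact Subsingleton.elim _ _
    · ext x; exact Subsingleton.elim _ _
  have hnil : IsNilpotent (RingHom.ker π) :=
    Groth.Agent.Lib.Seat88.W2Nil.isNilpotent_ker hB.toIsLift
  obtain ⟨D, _, _, π', hD, hsurj, hcomm, hker⟩ :=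
    Groth.Agent.Lib.Seat88.EtaleLift.exists_etale_lift (C := C) π hB.surj hnil
  haveI : CharP C p := charP_of_injective_algebraMap (algebraMap k C).injective p
  have hnil' : IsNilpotent (RingHom.ker π') := by
    refine ⟨2, ?_⟩
    rw [hker, ← Ideal.map_pow, pow_two, Groth.Agent.Lib.Seat88.W2Nil.ker_sq hB.toIsLift,
      Ideal.map_bot]
    rfl
  have hcomm' : ∀ b : B, π' (algebraMap B D b) = algebraMap A C (π b) :=
    fun b => RingHom.congr_fun hcomm b
  obtain ⟨Φ', h1, h2⟩ := Groth.Agent.Lib.Seat88.EtaleLift.exists_lift_twisted
    (B := B) (D := D) (T := D) (Cq := C) ((algebraMap B D).comp Φ) π' hsurj hnil'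
    ((frobenius C p).comp π') (by
      ext b
      show frobenius C p (π' (algebraMap B D b)) = π' (algebraMap B D (Φ b))
      rw [hcomm', hcomm', hB.red b, frobenius_def, map_pow])
  refine ⟨D, inferInstance, (algebraMap B D).comp ι, π', Φ', ?_⟩
  refine { flat := ?_, surj := hsurj, ker_eq := ?_, comm := ?_, semi := ?_, red := ?_ }
  · exact RingHom.Flat.comp hB.flat (RingHom.flat_algebraMap_iff.mpr inferInstance)
  · rw [hker, hB.ker_eq, Ideal.map_map]
  · rw [← RingHom.comp_assoc, hcomm, RingHom.comp_assoc, hB.comm, ← RingHom.comp_assoc,
      ← IsScalarTower.algebraMap_eq]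
  · rw [← RingHom.comp_assoc, h2, RingHom.comp_assoc, hB.semi, ← RingHom.comp_assoc]
  · intro d
    have := RingHom.congr_fun h1 d
    simpa [frobenius_def] using this

end Groth.Agent.S18155
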