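import Groth.Statements.S1816
import Groth.Agent.Lib.Seat30GamDer

set_option autoImplicit false
universe u
open CategoryTheory
attribute [local instance] HasDerivedCategory.standard
open LocCoh

namespace Groth.Agent.S1816

/-- First statement, for a Noetherian ring (where RΓ with support in V(I) is RΓ_I). Let A be a
Noetherian ring, I and J ideals, and assume the total right derived functors RΓ_I, RΓ_J and RΓ_{I+J}
exist. Then for every K in D(A), RΓ_J(RΓ_I(K)) is isomorphic to RΓ_{I+J}(K). -/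
theorem result (A : Type u) [CommRing A] [IsNoetherianRing A] (I J : Ideal A) [DRing.HasRgammaI I] [DRing.HasRgammaI J] [DRing.HasRgammaI (I ⊔ J)] (K : Dual.D A) : Nonempty ((DRing.RgammaI J).obj ((DRing.RgammaI I).obj K) ≅ (DRing.RgammaI (I ⊔ J)).obj K) := by
  classical
  obtain ⟨X, hX, hinj, ⟨e⟩⟩ := Groth.Agent.Lib.Seat30.GamDer.exists_model K
  have hg : ∀ n, Groth.Agent.Lib.Seat30.GamGood.Good A (X.X n) := fun n =>
    Groth.Agent.Lib.Seat30.GamDer.good_of_injective_obj (X.X n)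
  let e1 : (DRing.RgammaI I).obj K ≅
      DerivedCategory.Q.obj ((Groth.Agent.Lib.Seat31.RGamma.gammaCx I).obj X) :=
    (DRing.RgammaI I).mapIso e ≪≫ (Groth.Agent.Lib.Seat30.GamDer.isoOfGood I X hg).symm
  let e2 : (DRing.RgammaI J).obj
        (DerivedCategory.Q.obj ((Groth.Agent.Lib.Seat31.RGamma.gammaCx I).obj X)) ≅
      DerivedCategory.Q.obj ((Groth.Agent.Lib.Seat31.RGamma.gammaCx J).obj
        ((Groth.Agent.Lib.Seat31.RGamma.gammaCx I).obj X)) :=
    (Groth.Agent.Lib.Seat30.GamDer.isoOfGood J _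
      (Groth.Agent.Lib.Seat30.GamDer.good_gammaCx I X hg)).symm
  let e3 : DerivedCategory.Q.obj ((Groth.Agent.Lib.Seat31.RGamma.gammaCx J).obj
        ((Groth.Agent.Lib.Seat31.RGamma.gammaCx I).obj X)) ≅
      DerivedCategory.Q.obj ((Groth.Agent.Lib.Seat31.RGamma.gammaCx (I ⊔ J)).obj X) :=
    DerivedCategory.Q.mapIso (Groth.Agent.Lib.Seat30.GamStep.supIso I J X).symm
  let e4 : DerivedCategory.Q.obj ((Groth.Agent.Lib.Seat31.RGamma.gammaCx (I ⊔ J)).obj X) ≅
      (DRing.RgammaI (I ⊔ J)).obj K :=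
    Groth.Agent.Lib.Seat30.GamDer.isoOfGood (I ⊔ J) X hg ≪≫ (DRing.RgammaI (I ⊔ J)).mapIso e.symm
  exact ⟨(DRing.RgammaI J).mapIso e1 ≪≫ e2 ≪≫ e3 ≪≫ e4⟩

end Groth.Agent.S1816
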