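import Groth.Statements.S18200
import Groth.Agent.Lib.Seat88LocImmFact
import Groth.Agent.Lib.Seat20ZMTFinite

set_option autoImplicit false
universe u
open LocImm

namespace Groth.Agent.S18200

open CategoryTheory AlgebraicGeometry in
/-- Let `f : X ⟶ Y` be a separated morphism of Noetherian schemes that is essentially quasi-finite:
essentially of finite type with every fibre the spectrum of a finite algebra over the residue field
(equivalently, `f` locally quasi-finite in the fibrewise sense, which carries no finite-type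
condition). Then `f` factors as a localizing immersion `i : X ⟶ Z` (localizing and injective on
points, `Z` Noetherian) followed by a finite morphism `h : Z ⟶ Y`. -/
theorem result {X Y : Scheme.{u}} [IsNoetherian X] [IsNoetherian Y] (f : X ⟶ Y) [IsSeparated f] [EssFT.EssFiniteType f] [LocallyQuasiFinite f] :
    ∃ (Z : Scheme.{u}) (i : X ⟶ Z) (h : Z ⟶ Y), IsNoetherian Z ∧ LocImm.IsLocImmersion i ∧ IsFinite h ∧ i ≫ h = f := by
  obtain ⟨Z₀, k, p, hZ₀, hk, hs, hft, hq, hkp⟩ := Groth.Agent.Lib.Seat88.LocImmFact.main18191 f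
  have hrange : Set.range (fun x => k x) ⊆ (p.quasiFiniteLocus : Set Z₀) := by
    rintro _ ⟨x, rfl⟩
    haveI := Groth.Agent.Lib.Helper10.LocImmLib.isIso_stalkMap_of_isLocalizing k hk.1 x
    have h1 : (k ≫ p).QuasiFiniteAt x := by
      rw [hkp]
      exact f.quasiFiniteAt x
    have h3 : ((p.stalkMap (k x)) ≫ (k.stalkMap x)).hom.QuasiFinite := by
      rw [← Scheme.Hom.stalkMap_comp]
      exact h1
    rw [CommRingCat.hom_comp] at h3
    exact (RingHom.QuasiFinite.respectsIso.cancel_right_isIso _ (k.stalkMap x)).mp h3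
  obtain ⟨k', hk'ι, hk'⟩ :=
    Groth.Agent.Lib.Helper10.LocImmLib.exists_isLocImmersion_lift k hk p.quasiFiniteLocus hrange
  haveI : IsNoetherian (p.quasiFiniteLocus : Scheme.{u}) :=
    Groth.Agent.Lib.Seat88.LocImmGlue.isNoetherian_opens _
  obtain ⟨T, j, π, hj, hjq, hπ, hjπ⟩ :=
    Groth.Agent.Lib.Seat20.ZMTFinite.exists_openImmersion_finite_factor (p.quasiFiniteLocus.ι ≫ p)
  haveI : IsLocallyNoetherian T := LocallyOfFiniteType.isLocallyNoetherian π
  haveI : CompactSpace ↥T := QuasiCompact.compactSpace_of_compactSpace π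
  refine ⟨T, k' ≫ j, π, ⟨⟩, ?_, hπ, ?_⟩
  · exact Groth.Agent.Lib.Seat88.LocImmSep.isLocImmersion_comp _ _ hk'
      (Groth.Agent.Lib.Seat88.LocImmSep.isLocImmersion_of_isOpenImmersion j)
  · rw [Category.assoc, hjπ, ← Category.assoc, hk'ι, hkp]

end Groth.Agent.S18200
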