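import Groth.Statements.S18213
import Groth.Agent.Lib.Seat88LocImmProp
import Groth.Agent.S0386

set_option autoImplicit false
universe u
open LocImm

namespace Groth.Agent.S18213

open CategoryTheory AlgebraicGeometry in
/-- Let `f : X ⟶ Y` be a separated morphism of Noetherian schemes, essentially of finite type. Then the
set of points `x` for which the composite `Spec O_{X,x} ⟶ X ⟶ Y` is flat is open, and if `f` is flat
it factors as a localizing immersion `i : X ⟶ Z` (localizing and injective on points, `Z`
Noetherian) followed by a separated flat morphism of finite type `h : Z ⟶ Y`. -/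
theorem result {X Y : Scheme.{u}} [IsNoetherian X] [IsNoetherian Y] (f : X ⟶ Y) [IsSeparated f] [EssFT.EssFiniteType f] :
    IsOpen {x : X | Flat (X.fromSpecStalk x ≫ f)} ∧
      (Flat f → ∃ (Z : Scheme.{u}) (i : X ⟶ Z) (h : Z ⟶ Y), IsNoetherian Z ∧ LocImm.IsLocImmersion i ∧ IsSeparated h ∧ LocallyOfFiniteType h ∧ QuasiCompact h ∧ Flat h ∧ i ≫ h = f) := by
  have hfl : ∀ {A B : Scheme.{u}} (g : A ⟶ B) (a : A),
      Flat (A.fromSpecStalk a ≫ g) ↔ (g.stalkMap a).hom.Flat := by
    intro A B g a
    haveI : Flat (B.fromSpecStalk (g a)) :=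
      Groth.Agent.Lib.Helper10.LocImmLib.flat_of_isLocalizing _
        (Groth.Agent.Lib.Seat88.LocImmProp.isLocImmersion_fromSpecStalk B (g a)).1
    rw [← Scheme.SpecMap_stalkMap_fromSpecStalk]
    constructor
    · intro h
      have h2 : Flat (Spec.map (g.stalkMap a)) :=
        MorphismProperty.of_postcomp (W := @Flat) (W' := MorphismProperty.monomorphisms Scheme.{u})
          _ (B.fromSpecStalk (g a)) (inferInstanceAs (Mono (B.fromSpecStalk (g a)))) h
      exact Flat.SpecMap_iff.mp h2
    · intro h
      haveI : Flat (Spec.map (g.stalkMap a)) := Flat.SpecMap_iff.mpr h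
      infer_instance
  have hmain := Groth.Agent.Lib.Seat88.LocImmProp.main18201 (@Flat)
    (fun {W X Y} _ _ _ i f _ _ hi hf => by
      haveI := Groth.Agent.Lib.Helper10.LocImmLib.flat_of_isLocalizing i hi.1
      haveI : Flat f := hf
      exact (inferInstance : Flat (i ≫ f)))
    (fun {X Y} _ _ f _ _ hall => by
      rw [Flat.iff_flat_stalkMap]
      intro x
      exact (hfl f x).mp (hall x))
    (fun {X Y} _ _ f _ _ => by
      haveI : LocallyOfFinitePresentation f :=
        LocallyOfFinitePresentation.iff_locallyOfFiniteType.mpr inferInstance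
      have : {x : X | Flat (X.fromSpecStalk x ≫ f)} = {x : X | (f.stalkMap x).hom.Flat} := by
        ext x
        exact hfl f x
      rw [this]
      exact Groth.Agent.S0386.result f)
    f
  exact ⟨hmain.2.1, hmain.2.2⟩

end Groth.Agent.S18213
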