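import Groth.Statements.S18234
import Groth.Agent.Lib.Seat89Thicken

set_option autoImplicit false
universe u
open CategoryTheory MonoidalCategory CartesianMonoidalCategory AlgebraicGeometry Opposite
open Magnet

namespace Groth.Agent.S18234

/-- Let S be a scheme, M a finitely generated abelian group, N a submonoid of M, X and Y schemes over S
with actions of the diagonalizable group scheme D(M)_S, and f : X → Y a formally unramified
equivariant S-morphism. If the attractors X^N and Y^N are represented by S-schemes Z_X and Z_Y, and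
j : Z_X → Z_Y is the S-morphism that corresponds to f^N under the two representing bijections, then
j is formally unramified. (Stated for schemes; the published statement is for algebraic spaces over
S.) -/
theorem result (S : Scheme.{u}) (M : Type) [AddCommGroup M]
    [AddGroup.FG M] (N : AddSubmonoid M) {X Y : Over S} (aX : Magnet.MonAct (Magnet.AMonS S M) X)
    (aY : Magnet.MonAct (Magnet.AMonS S M) Y) (f : X ⟶ Y) (hf : Magnet.MonAct.IsEquivariant aX aY f)
    [FormallyUnramified f.left] {ZX ZY : Over S} (eX : (Magnet.attr aX N).RepresentableBy ZX) (eY : (Magnet.attr aY N).RepresentableBy ZY)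
    (j : ZX ⟶ ZY) (hj : ∀ (T : Over S) (z : T ⟶ ZX),
      eY.homEquiv (z ≫ j) = (Magnet.MonAct.eqvHom.postcomp (Magnet.subAct S M N) f hf).app (op T) (eX.homEquiv z)) :
    FormallyUnramified j.left := by
  have hAff : IsAffineHom (Magnet.AMonS S N).hom :=
    Groth.Agent.Lib.Seat89.Thicken.isAffineHom_AMonS S N
  refine FormallyUnramified.of_hom_ext j.left ?_
  intro R R' φ hφ hker g₁ g₂ h1 h2
  have hw : g₂ ≫ ZX.hom = g₁ ≫ ZX.hom := by
    rw [← Over.w j, ← Category.assoc, ← Category.assoc, h2]
  let T' : Over S := Over.mk (g₁ ≫ ZX.hom)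
  let z₁ : T' ⟶ ZX := Over.homMk g₁ rfl
  let z₂ : T' ⟶ ZX := Over.homMk g₂ hw
  let T : Over S := Over.mk (Spec.map φ ≫ g₁ ≫ ZX.hom)
  let t : T ⟶ T' := Over.homMk (Spec.map φ) rfl
  have htz : t ≫ z₁ = t ≫ z₂ := by
    ext1
    exact h1
  have hzj : z₁ ≫ j = z₂ ≫ j := by
    ext1
    exact h2
  have hT' : IsAffine T'.left := by
    change IsAffine (Spec R)
    infer_instance
  have hci : IsClosedImmersion t.left := by
    change IsClosedImmersion (Spec.map φ)
    exact IsClosedImmersion.spec_of_surjective φ hφ
  have hnil : t.left.ker ^ 2 = ⊥ := Groth.Agent.Lib.Seat89.Thicken.ker_SpecMap_pow φ 2 hker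
  have htop : (Magnet.attr aX N).map t.op (eX.homEquiv z₁) = (Magnet.attr aX N).map t.op (eX.homEquiv z₂) := by
    rw [← eX.homEquiv_comp, ← eX.homEquiv_comp, htz]
  have hbot : (Magnet.MonAct.eqvHom.postcomp (Magnet.subAct S M N) f hf).app (op T') (eX.homEquiv z₁) =
      (Magnet.MonAct.eqvHom.postcomp (Magnet.subAct S M N) f hf).app (op T') (eX.homEquiv z₂) := by
    rw [← hj T' z₁, ← hj T' z₂, hzj]
  have key := Groth.Agent.Lib.Seat89.Thicken.eqvHom_ext_of_thickening (Magnet.subAct S M N) aX aY f hf
    t 2 hnil (eX.homEquiv z₁) (eX.homEquiv z₂) htop hbot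
  have hz : z₁ = z₂ := eX.homEquiv.injective key
  exact congrArg (fun z => z.left) hz

end Groth.Agent.S18234
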