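import Groth.Statements.S1825
import Groth.Agent.Lib.Seat8DualFlat
import Groth.Agent.Lib.Helper3HzP

set_option autoImplicit false
universe u
open CategoryTheory
attribute [local instance] HasDerivedCategory.standard
open Dual

namespace Groth.Agent.S1825

/-- Let A be a Noetherian local ring, B a henselization of A (a Noetherian local ring with a local
homomorphism A → B exhibiting it as such) and ω a dualizing complex for A. Assuming the derived base
change functor D(A) → D(B) along A → B exists (carried as an instance binder), the base change of ω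
to B is a dualizing complex for B. -/
theorem result (A B : Type u) [CommRing A] [IsLocalRing A] [IsNoetherianRing A] [CommRing B] [IsLocalRing B] [IsNoetherianRing B] [Algebra A B] [IsLocalHom (algebraMap A B)] [Hensel.IsHenselization A B] [DRing.HasLBaseChange (algebraMap A B)] (ω : Dual.D A) (hω : Dual.IsDualizing A ω) : Dual.IsDualizing B ((DRing.LBaseChange (algebraMap A B)).obj ω) := by
  open scoped TensorProduct in
  have hff : Module.FaithfullyFlat A B := Groth.Agent.Lib.Helper3.HzP.hz_faithfullyFlat A B
  have hm : (IsLocalRing.maximalIdeal A).map (algebraMap A B) = IsLocalRing.maximalIdeal B :=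
    Groth.Agent.Lib.Helper3.HzP.hz_map_maximalIdeal A B
  have e : (B ⧸ IsLocalRing.maximalIdeal B) ≃ₗ[B] B ⊗[A] (A ⧸ IsLocalRing.maximalIdeal A) :=
    (Submodule.quotEquivOfEq _ _ hm.symm).trans
      (Ideal.qoutMapEquivTensorQout B (I := IsLocalRing.maximalIdeal A))
  let iso := (Groth.Agent.Lib.Seat8.DualBC.lbcFlatIso (A := A) (B := B)).app ω
  refine Groth.Agent.Lib.Seat8.DualBC.isDualizing_of_iso iso.symm
    (Groth.Agent.Lib.Seat8.DualFlat.isDualizing_extD_of_maximal ω hω (fun n hn => ?_))
  have hn' : n = IsLocalRing.maximalIdeal B := IsLocalRing.eq_maximalIdeal hn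
  subst hn'
  exact ⟨IsLocalRing.maximalIdeal A, ⟨e⟩⟩

end Groth.Agent.S1825
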