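import Groth.Statements.S18286
import Groth.Agent.Lib.Seat89Attr
import Mathlib.CategoryTheory.Limits.Types.Pullbacks

set_option autoImplicit false
universe u
open CategoryTheory MonoidalCategory CartesianMonoidalCategory MonObj AlgebraicGeometry Opposite
open Magnet

namespace Groth.Agent.S18286

/-- Let Y be an S-scheme affine over S with an action of the diagonalizable monoid scheme A(M)_S of a
commutative monoid M, let f : Z → Y be an equivariant closed immersion (for an action of A(M)_S on
Z), and let N ⊆ M be a submonoid (magnet). Then Z^N = Z ×_Y Y^N: the square of functors on S-schemes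
formed by f^N : Z^N → Y^N, the canonical maps Z^N → Z and Y^N → Y (evaluation at the unit section)
and f is cartesian. -/
theorem result (S : Scheme.{u}) (M : Type) [AddCommMonoid M]
    (N : AddSubmonoid M) (Y Z : Over S) [IsAffineHom Y.hom] (aY : Magnet.MonAct (Magnet.AMonS S M) Y)
    (aZ : Magnet.MonAct (Magnet.AMonS S M) Z) (f : Z ⟶ Y) [IsClosedImmersion f.left]
    (hf : Magnet.MonAct.IsEquivariant aZ aY f) :
    IsPullback (Magnet.MonAct.eqvHom.postcomp (Magnet.subAct S M N) f hf) (Magnet.attrToX aZ N)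
      (Magnet.attrToX aY N) (yoneda.map f) := by
  have hfmono : Mono f := by
    have : Mono f.left := inferInstance
    exact (Over.forget _).mono_of_mono_map this
  have hf' : aZ.act ≫ f = (Magnet.AMonS S M ◁ f) ≫ aY.act := hf
  refine IsPullback.of_forall_isPullback_app fun T => ?_
  rw [Limits.Types.isPullback_iff]
  refine ⟨?_, ?_, ?_⟩
  · ext φ
    change (lift (toUnit (unop T) ≫ MonObj.one) (𝟙 (unop T)) ≫ (φ.1 ≫ f)) =
      (lift (toUnit (unop T) ≫ MonObj.one) (𝟙 (unop T)) ≫ φ.1) ≫ f
    rw [Category.assoc]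
  · rintro x₁ y₁ ⟨h1, -⟩
    apply Subtype.ext
    have h2 : x₁.1 ≫ f = y₁.1 ≫ f := congrArg Subtype.val h1
    exact (cancel_mono f).mp h2
  · rintro φ z hz
    have hz' : (Magnet.attrToX aY N).app T φ = z ≫ f := hz
    have hd := (Groth.Agent.Lib.Seat89.Density.AMonS_map_whiskerRight_dominant S
      N.subtype Subtype.val_injective (unop T)).2
    have hcompat : (Magnet.AMonS.map S N.subtype ▷ (unop T)) ≫ φ.1 =
        ((Magnet.AMonS S M ◁ z) ≫ aZ.act) ≫ f := by
      rw [Groth.Agent.Lib.Seat89.Attr.whiskerRight_comp_eq_orbit aY N (unop T) φ, hz',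
        MonoidalCategory.whiskerLeft_comp, Category.assoc, Category.assoc, hf']
    obtain ⟨χ, hχ⟩ := Groth.Agent.Lib.Seat89.Attr.exists_factor_of_ker_eq_bot
      (Magnet.AMonS.map S N.subtype ▷ (unop T)) hd f φ.1 ((Magnet.AMonS S M ◁ z) ≫ aZ.act) hcompat
    have hχeq : Magnet.MonAct.IsEquivariant
        ((Magnet.subAct S M N).prod (Magnet.MonAct.trivial (Magnet.AMonS S M) (unop T))) aZ χ := by
      change _ ≫ χ = (Magnet.AMonS S M ◁ χ) ≫ aZ.act
      rw [← cancel_mono f, Category.assoc, hχ, Category.assoc, hf', ← Category.assoc (Magnet.AMonS S M ◁ χ),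
        ← MonoidalCategory.whiskerLeft_comp, hχ]
      exact φ.2
    refine ⟨⟨χ, hχeq⟩, ?_, ?_⟩
    · apply Subtype.ext
      exact hχ
    · change lift (toUnit (unop T) ≫ MonObj.one) (𝟙 (unop T)) ≫ χ = z
      rw [← cancel_mono f, Category.assoc, hχ]
      exact hz'

end Groth.Agent.S18286
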