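import Groth.Statements.S18287
import Groth.Agent.Lib.Seat89Homog

set_option autoImplicit false
universe u
open CategoryTheory MonoidalCategory CartesianMonoidalCategory MonObj AlgebraicGeometry Opposite
open Magnet

namespace Groth.Agent.S18287

/-- Let f : M → Z be a homomorphism of commutative monoids, Y a submonoid of Z and N its preimage in M,
and let X be an S-scheme affine over S with an action of the diagonalizable monoid scheme A(M)_S.
Regard X as an A(Z)_S-scheme through A(Z)_S → A(M)_S. Then the canonical map of attractors X^{N ⊂ M}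
→ X^{Y ⊂ Z} (precomposition with A(Y)_S → A(N)_S) is an isomorphism. -/
theorem result (S : Scheme.{u}) (M Z : Type) [AddCommMonoid M] [AddCommMonoid Z]
    (f : M →+ Z) (Y : AddSubmonoid Z) (X : Over S) [IsAffineHom X.hom] (a : Magnet.MonAct (Magnet.AMonS S M) X) :
    IsIso (Magnet.attrComap a f Y) := by
  haveI : IsSeparated X.hom := Groth.Agent.Lib.Seat89.AffAttrRep.isSeparated_of_isAffineHom
  -- the image in `X` of `attrComap φ` is the image of `φ`
  have hto : ∀ (T : (Over S)ᵒᵖ) (φ : (Magnet.attr a (Y.comap f)).obj T),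
      (Magnet.attrToX (a.restrict (Magnet.AMonS.map S f)) Y).app T ((Magnet.attrComap a f Y).app T φ) =
        (Magnet.attrToX a (Y.comap f)).app T φ := by
    intro T φ
    change lift (toUnit (unop T) ≫ η[Magnet.AMonS S ↥Y]) (𝟙 (unop T)) ≫
      ((Magnet.attrComap a f Y).app T φ).1 = lift (toUnit (unop T) ≫ η[Magnet.AMonS S ↥(Y.comap f)]) (𝟙 (unop T)) ≫ φ.1
    rw [Magnet.attrComap_app_coe, lift_whiskerRight_assoc, Category.assoc, IsMonHom.one_hom]
  rw [NatTrans.isIso_iff_isIso_app]
  intro T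
  rw [isIso_iff_bijective]
  constructor
  · intro φ₁ φ₂ h12
    apply Groth.Agent.Lib.Seat89.Attr.attr_ext a (Y.comap f) (unop T)
    change (Magnet.attrToX a (Y.comap f)).app T φ₁ = (Magnet.attrToX a (Y.comap f)).app T φ₂
    rw [← hto, ← hto, h12]
  · intro ψ
    have h1 : Groth.Agent.Lib.Seat89.AttrDesc.InAttr (a.restrict (Magnet.AMonS.map S f)) Y
        ((Magnet.attrToX (a.restrict (Magnet.AMonS.map S f)) Y).app (op (unop T)) ψ) := ⟨ψ, rfl⟩
    rw [← Groth.Agent.Lib.Seat89.AttrDesc.P_iff] at h1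
    have h2 := Groth.Agent.Lib.Seat89.Homog.P_comap a f Y _ h1
    rw [Groth.Agent.Lib.Seat89.AttrDesc.P_iff] at h2
    obtain ⟨φ, hφ⟩ := h2
    refine ⟨φ, ?_⟩
    apply Groth.Agent.Lib.Seat89.Attr.attr_ext (a.restrict (Magnet.AMonS.map S f)) Y (unop T)
    change (Magnet.attrToX (a.restrict (Magnet.AMonS.map S f)) Y).app T ((Magnet.attrComap a f Y).app T φ) = _
    rw [hto]
    exact hφ

end Groth.Agent.S18287
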