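import Groth.Statements.S18288
import Groth.Agent.Lib.Seat89Attr

set_option autoImplicit false
universe u
open CategoryTheory MonoidalCategory CartesianMonoidalCategory MonObj AlgebraicGeometry Opposite
open Magnet

namespace Groth.Agent.S18288

/-- Let M be a commutative monoid with an injective homomorphism f : M → Z into a commutative group Z
(so M is cancellative; the published statement takes Z to be the group completion of M, and the same
argument applies to any such Z), let Y be a submonoid of Z contained in the image of M, and let X be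
an S-scheme separated over S with an action of the diagonalizable monoid scheme A(M)_S. Regard X as
a D(Z)_S-scheme through D(Z)_S → A(M)_S. Then the canonical map of attractors X^{f⁻¹Y ⊂ M} → X^{Y ⊂
Z} is an isomorphism: a D(Z)_S-equivariant family out of A(Y)_S is automatically A(M)_S-equivariant.
(The published statement allows X to be an algebraic space; here X is a scheme.) -/
theorem result (S : Scheme.{u}) (M Z : Type) [AddCommMonoid M]
    [AddCommGroup Z] (f : M →+ Z) (hf : Function.Injective f) (Y : AddSubmonoid Z)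
    (hY : Y ≤ AddMonoidHom.mrange f) (X : Over S) [IsSeparated X.hom]
    (a : Magnet.MonAct (Magnet.AMonS S M) X) :
    IsIso (Magnet.attrComap a f Y) := by
  -- the comparison of monoids `f⁻¹ Y → Y` is bijective
  set κ : ↥(Y.comap f) →+ ↥Y := (f.comp (Y.comap f).subtype).codRestrict Y (fun x => x.2) with hκ
  have hκbij : Function.Bijective κ := by
    constructor
    · intro x y hxy
      have h1 : f x.1 = f y.1 := congrArg Subtype.val hxy
      exact Subtype.ext (hf h1)
    · intro y
      obtain ⟨m, hm⟩ := hY y.2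
      exact ⟨⟨m, by rw [AddSubmonoid.mem_comap, hm]; exact y.2⟩, Subtype.ext hm⟩
  let e : ↥(Y.comap f) ≃+ ↥Y := AddEquiv.ofBijective κ hκbij
  let κinv : ↥Y →+ ↥(Y.comap f) := e.symm.toAddMonoidHom
  have h1 : κ.comp κinv = AddMonoidHom.id _ := by
    ext y
    exact congrArg Subtype.val (e.apply_symm_apply y)
  have hιι : Magnet.AMonS.map S κ ≫ Magnet.AMonS.map S κinv = 𝟙 _ := by
    rw [← Magnet.AMonS.map_comp, h1, Groth.Agent.Lib.Seat89.Attr.AMonS_map_id]
  -- the composite `A(Z) → A(M) → A(N) → A(Y)` is the canonical map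
  have hπ : Magnet.AMonS.map S f ≫ Magnet.AMonS.map S (Y.comap f).subtype ≫ Magnet.AMonS.map S κinv =
      Magnet.AMonS.map S Y.subtype := by
    rw [← Magnet.AMonS.map_comp, ← Magnet.AMonS.map_comp]
    congr 1
    ext y
    have := congrArg Subtype.val (e.apply_symm_apply y)
    exact this
  rw [NatTrans.isIso_iff_isIso_app]
  intro T
  rw [isIso_iff_bijective]
  constructor
  · intro φ₁ φ₂ h12
    apply Subtype.ext
    have hd := (Groth.Agent.Lib.Seat89.Density.AMonS_map_whiskerRight_dominant S κ hκbij.1 (unop T)).2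
    refine Groth.Agent.Lib.Seat89.Attr.hom_ext_of_ker_eq_bot (Magnet.AMonS.map S κ ▷ (unop T)) hd ?_
    exact congrArg Subtype.val h12
  · intro ψ
    have hψ := ψ.2
    rw [Magnet.MonAct.mem_eqvHom_iff] at hψ
    have hφeq : Magnet.MonAct.IsEquivariant
        ((Magnet.subAct S M (Y.comap f)).prod (Magnet.MonAct.trivial (Magnet.AMonS S M) (unop T))) a
        ((Magnet.AMonS.map S κinv ▷ (unop T)) ≫ ψ.1) := by
      have hd := (Groth.Agent.Lib.Seat89.Density.AMonS_map_whiskerRight_dominant S f hf
        (Magnet.AMonS S ↥(Y.comap f) ⊗ (unop T))).2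
      refine Groth.Agent.Lib.Seat89.Attr.hom_ext_of_ker_eq_bot
        (Magnet.AMonS.map S f ▷ (Magnet.AMonS S ↥(Y.comap f) ⊗ (unop T))) hd ?_
      apply Magnet.hom_ext_lift₂
      intro T' g w
      rw [← lift_comp_fst_snd w]
      have h2 := hψ T' g ((w ≫ fst _ _) ≫ Magnet.AMonS.map S κinv) (w ≫ snd _ _)
      simp only [Magnet.subAct, Magnet.MonAct.lift_restrict_act, Magnet.MonAct.lift_regular_act] at h2
      simp only [lift_whiskerRight_assoc, Magnet.MonAct.lift_prod_act_assoc,
        Magnet.MonAct.lift_trivial_act, lift_whiskerLeft_assoc, Magnet.subAct,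
        Magnet.MonAct.lift_restrict_act, Magnet.MonAct.lift_regular_act, Category.assoc,
        MonObj.mul_comp, hπ]
      exact h2
    refine ⟨⟨(Magnet.AMonS.map S κinv ▷ (unop T)) ≫ ψ.1, hφeq⟩, ?_⟩
    apply Subtype.ext
    rw [Magnet.attrComap_app_coe]
    change (Magnet.AMonS.map S κ ▷ unop T) ≫ (Magnet.AMonS.map S κinv ▷ unop T) ≫ ψ.1 = ψ.1
    rw [← comp_whiskerRight_assoc, hιι, id_whiskerRight, Category.id_comp]

end Groth.Agent.S18288
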