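import Groth.Statements.S18289
import Groth.Agent.Lib.Seat89DiagKer

set_option autoImplicit false
universe u
open CategoryTheory MonoidalCategory CartesianMonoidalCategory MonObj AlgebraicGeometry Opposite
open Magnet

namespace Groth.Agent.S18289

/-- Let M be a finitely generated commutative group, Z a subgroup of M and X an S-scheme with an action
of the diagonalizable group scheme D(M)_S. Then the attractor X^Z, for Z regarded as a magnet of M,
is identified with the fixed-point functor of X under the subgroup D(M/Z)_S (acting through D(M/Z)_S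
→ D(M)_S): there is an isomorphism of functors on S-schemes from X^Z to the fixed points whose
composite with the inclusion of the fixed points into X is the canonical map X^Z → X. (The published
statement allows X to be an algebraic space; here X is a scheme.) -/
theorem result (S : Scheme.{u}) (M : Type) [AddCommGroup M] [AddGroup.FG M]
    (Z : AddSubgroup M) (X : Over S) (a : AlgGrp.Action (Red.DS S M) X) :
    ∃ e : Magnet.attr (Magnet.MonAct.ofAction a) Z.toAddSubmonoid ≅
        Magnet.MonAct.fixedPsh ((Magnet.MonAct.ofAction a).restrict (Magnet.AMonS.map S (QuotientAddGroup.mk' Z))),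
      e.hom ≫ Magnet.MonAct.fixedPshι _ = Magnet.attrToX (Magnet.MonAct.ofAction a) Z.toAddSubmonoid := by
  obtain ⟨a', ha'⟩ : ∃ a' : Magnet.MonAct (Magnet.AMonS S M) X, a' = Magnet.MonAct.ofAction a := ⟨_, rfl⟩
  rw [← ha']
  -- the composite `Z → M → M/Z` is zero
  have hzero : Magnet.AMonS.map S (QuotientAddGroup.mk' Z) ≫ Magnet.AMonS.map S Z.toAddSubmonoid.subtype =
      toUnit _ ≫ η[Magnet.AMonS S ↥Z.toAddSubmonoid] := by
    rw [← Magnet.AMonS.map_comp, ← Groth.Agent.Lib.Seat89.DiagKer.AMonS_map_zero]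
    congr 1
    ext z
    exact (QuotientAddGroup.eq_zero_iff _).mpr z.2
  -- the map to the fixed points
  have hfix : ∀ (T : (Over S)ᵒᵖ) (φ : (Magnet.attr a' Z.toAddSubmonoid).obj T) (T' : Over S)
      (t : T' ⟶ unop T) (g : T' ⟶ Magnet.AMonS S (M ⧸ Z)),
      lift g (t ≫ (Magnet.attrToX a' Z.toAddSubmonoid).app T φ) ≫
        (a'.restrict (Magnet.AMonS.map S (QuotientAddGroup.mk' Z))).act =
      t ≫ (Magnet.attrToX a' Z.toAddSubmonoid).app T φ := by
    intro T φ T' t g
    have hφ := φ.2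
    rw [Magnet.MonAct.mem_eqvHom_iff] at hφ
    have h1 := hφ T' (g ≫ Magnet.AMonS.map S (QuotientAddGroup.mk' Z))
      (toUnit T' ≫ η[Magnet.AMonS S ↥Z.toAddSubmonoid]) t
    unfold Magnet.subAct at h1
    rw [Magnet.MonAct.lift_restrict_act, Magnet.MonAct.lift_regular_act, Category.assoc, hzero,
      ← Category.assoc, toUnit_unique (g ≫ toUnit _) (toUnit T'), ← Hom.one_def, _root_.mul_one] at h1
    have h3 : lift (1 : T' ⟶ Magnet.AMonS S ↥Z.toAddSubmonoid) t =
        t ≫ lift (toUnit (unop T) ≫ η[Magnet.AMonS S ↥Z.toAddSubmonoid]) (𝟙 (unop T)) := by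
      rw [comp_lift, Category.comp_id, ← Category.assoc, toUnit_unique (t ≫ toUnit (unop T)) (toUnit T'),
        Hom.one_def]
    rw [h3, Category.assoc] at h1
    rw [Magnet.MonAct.lift_restrict_act]
    exact h1.symm
  let hom : Magnet.attr a' Z.toAddSubmonoid ⟶
      Magnet.MonAct.fixedPsh (a'.restrict (Magnet.AMonS.map S (QuotientAddGroup.mk' Z))) :=
    { app := fun T => TypeCat.ofHom fun φ =>
        ⟨(Magnet.attrToX a' Z.toAddSubmonoid).app T φ, fun T' t g => hfix T φ T' t g⟩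
      naturality := fun T T' t => ConcreteCategory.hom_ext _ _ fun φ => Subtype.ext (by
        have := congrArg (fun k => k φ) ((Magnet.attrToX a' Z.toAddSubmonoid).naturality t)
        exact this) }
  have hcomp : hom ≫ Magnet.MonAct.fixedPshι _ = Magnet.attrToX a' Z.toAddSubmonoid := by
    ext T φ
    rfl
  have hval : ∀ (T : (Over S)ᵒᵖ) (φ : (Magnet.attr a' Z.toAddSubmonoid).obj T),
      (hom.app T φ).1 = (Magnet.attrToX a' Z.toAddSubmonoid).app T φ := fun T φ => rfl
  have hiso : IsIso hom := by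
    rw [NatTrans.isIso_iff_isIso_app]
    intro T
    rw [isIso_iff_bijective]
    constructor
    · intro φ₁ φ₂ h12
      apply Subtype.ext
      have h1 : (Magnet.attrToX a' Z.toAddSubmonoid).app T φ₁ =
          (Magnet.attrToX a' Z.toAddSubmonoid).app T φ₂ := by
        rw [← hval, ← hval, h12]
      have hepi := Groth.Agent.Lib.Seat89.DiagKer.subgroup_epi S Z (unop T)
      rw [← cancel_epi (Magnet.AMonS.map S Z.toAddSubmonoid.subtype ▷ (unop T)),
        Groth.Agent.Lib.Seat89.Attr.whiskerRight_comp_eq_orbit,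
        Groth.Agent.Lib.Seat89.Attr.whiskerRight_comp_eq_orbit, h1]
    · intro x
      have hx := x.2
      obtain ⟨q, hq⟩ : ∃ q : Magnet.AMonS S M ⊗ unop T ⟶ Magnet.AMonS S ↥Z.toAddSubmonoid ⊗ unop T,
        q = Magnet.AMonS.map S Z.toAddSubmonoid.subtype ▷ unop T := ⟨_, rfl⟩
      obtain ⟨o, ho⟩ : ∃ o : Magnet.AMonS S M ⊗ unop T ⟶ X, o = (Magnet.AMonS S M ◁ x.1) ≫ a'.act := ⟨_, rfl⟩
      have heff : EffectiveEpi q.left := by
        rw [hq]; exact Groth.Agent.Lib.Seat89.DiagKer.subgroup_effectiveEpi_left S Z (unop T)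
      have hdesc : ∀ {W : Scheme.{u}} (g₁ g₂ : W ⟶ (Magnet.AMonS S M ⊗ unop T).left),
          g₁ ≫ q.left = g₂ ≫ q.left → g₁ ≫ o.left = g₂ ≫ o.left := by
        intro W g₁ g₂ h12
        have hw : g₂ ≫ (Magnet.AMonS S M ⊗ unop T).hom = g₁ ≫ (Magnet.AMonS S M ⊗ unop T).hom := by
          rw [← Over.w q, ← Category.assoc, ← Category.assoc, h12]
        obtain ⟨W', hW'⟩ : ∃ W' : Over S, W' = Over.mk (g₁ ≫ (Magnet.AMonS S M ⊗ unop T).hom) := ⟨_, rfl⟩
        subst hW'
        obtain ⟨G₁, hG₁⟩ : ∃ G₁ : Over.mk (g₁ ≫ (Magnet.AMonS S M ⊗ unop T).hom) ⟶ Magnet.AMonS S M ⊗ unop T,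
          G₁.left = g₁ := ⟨Over.homMk g₁ rfl, rfl⟩
        obtain ⟨G₂, hG₂⟩ : ∃ G₂ : Over.mk (g₁ ≫ (Magnet.AMonS S M ⊗ unop T).hom) ⟶ Magnet.AMonS S M ⊗ unop T,
          G₂.left = g₂ := ⟨Over.homMk g₂ hw, rfl⟩
        have hG : G₁ ≫ q = G₂ ≫ q := by
          apply Over.OverMorphism.ext
          rw [Over.comp_left, Over.comp_left, hG₁, hG₂, h12]
        suffices hs : G₁ ≫ o = G₂ ≫ o by
          have := congrArg (fun k => k.left) hs
          simpa only [Over.comp_left, hG₁, hG₂] using this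
        have e1 : (G₁ ≫ fst _ _) ≫ Magnet.AMonS.map S Z.toAddSubmonoid.subtype =
            (G₂ ≫ fst _ _) ≫ Magnet.AMonS.map S Z.toAddSubmonoid.subtype := by
          have := congrArg (fun k => k ≫ fst _ _) hG
          simpa only [hq, Category.assoc, whiskerRight_fst] using this
        have e2 : G₁ ≫ snd _ _ = G₂ ≫ snd _ _ := by
          have := congrArg (fun k => k ≫ snd _ _) hG
          simpa only [hq, Category.assoc, whiskerRight_snd] using this
        obtain ⟨m₁, hm₁⟩ : ∃ m₁, m₁ = G₁ ≫ fst (Magnet.AMonS S M) (unop T) := ⟨_, rfl⟩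
        obtain ⟨m₂, hm₂⟩ : ∃ m₂, m₂ = G₂ ≫ fst (Magnet.AMonS S M) (unop T) := ⟨_, rfl⟩
        obtain ⟨t, ht⟩ : ∃ t, t = G₁ ≫ snd (Magnet.AMonS S M) (unop T) := ⟨_, rfl⟩
        rw [← hm₁, ← hm₂] at e1
        have hG₁' : G₁ = lift m₁ t := by rw [hm₁, ht, lift_comp_fst_snd]
        have hG₂' : G₂ = lift m₂ t := by rw [hm₂, ht, e2, lift_comp_fst_snd]
        obtain ⟨n, hn1, hn2⟩ : ∃ n : Over.mk (g₁ ≫ (Magnet.AMonS S M ⊗ unop T).hom) ⟶ Magnet.AMonS S M,
            n * m₁ = 1 ∧ m₁ * n = 1 := by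
          let _ : GrpObj (Magnet.AMonS S M) := (inferInstance : GrpObj (Red.DS S M))
          exact ⟨m₁⁻¹, inv_mul_cancel m₁, mul_inv_cancel m₁⟩
        have hm₂' : m₂ = m₁ * (n * m₂) := by rw [← _root_.mul_assoc, hn2, _root_.one_mul]
        have hker : (n * m₂) ≫ Magnet.AMonS.map S Z.toAddSubmonoid.subtype =
            toUnit _ ≫ η[Magnet.AMonS S ↥Z.toAddSubmonoid] := by
          rw [MonObj.mul_comp, ← e1, ← MonObj.mul_comp, hn1, MonObj.one_comp, Hom.one_def]
        obtain ⟨h', hh'⟩ := Groth.Agent.Lib.Seat89.DiagKer.exists_lift_of_comp_eq_one Z S (n * m₂) hker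
        have hfixed := hx _ t h'
        rw [Magnet.MonAct.lift_restrict_act, hh'] at hfixed
        rw [hG₁', hG₂', ho, lift_whiskerLeft_assoc, lift_whiskerLeft_assoc]
        conv_rhs => rw [hm₂', a'.lift_mul_act, hfixed]
      obtain ⟨φ₀, hφ₀⟩ : ∃ φ₀ : (Magnet.AMonS S ↥Z.toAddSubmonoid ⊗ unop T).left ⟶ X.left,
          q.left ≫ φ₀ = o.left :=
        ⟨EffectiveEpi.desc q.left o.left hdesc, EffectiveEpi.fac q.left o.left hdesc⟩
      have hepiq : Epi q.left := inferInstance
      have hφw : φ₀ ≫ X.hom = (Magnet.AMonS S ↥Z.toAddSubmonoid ⊗ unop T).hom := by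
        rw [← cancel_epi q.left, ← Category.assoc, hφ₀, Over.w o, Over.w q]
      obtain ⟨φ, hφ⟩ : ∃ φ : Magnet.AMonS S ↥Z.toAddSubmonoid ⊗ unop T ⟶ X, φ.left = φ₀ :=
        ⟨Over.homMk φ₀ hφw, rfl⟩
      have hqφ : q ≫ φ = o := by
        apply Over.OverMorphism.ext
        rw [Over.comp_left, hφ, hφ₀]
      have heq : Magnet.MonAct.IsEquivariant
          ((Magnet.subAct S M Z.toAddSubmonoid).prod (Magnet.MonAct.trivial (Magnet.AMonS S M) (unop T))) a' φ := by
        have hepi2 := Groth.Agent.Lib.Seat89.DiagKer.subgroup_epi_whiskerLeft S Z (Magnet.AMonS S M) (unop T)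
        rw [← hq] at hepi2
        change _ ≫ φ = (Magnet.AMonS S M ◁ φ) ≫ a'.act
        rw [← cancel_epi (Magnet.AMonS S M ◁ q)]
        apply Magnet.hom_ext_lift₂
        intro T' g w
        obtain ⟨m, t, rfl⟩ : ∃ m t, w = lift m t := ⟨_, _, (lift_comp_fst_snd w).symm⟩
        rw [← MonoidalCategory.whiskerLeft_comp_assoc, hqφ]
        simp only [hq, lift_whiskerLeft_assoc, lift_whiskerRight, Magnet.MonAct.lift_prod_act_assoc,
          Magnet.MonAct.lift_trivial_act, Magnet.subAct, Magnet.MonAct.lift_restrict_act,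
          Magnet.MonAct.lift_regular_act]
        rw [← MonObj.mul_comp, ← lift_whiskerRight_assoc, ← hq, hqφ, ho, lift_whiskerLeft_assoc,
          lift_whiskerLeft_assoc, a'.lift_mul_act]
      refine ⟨⟨φ, heq⟩, ?_⟩
      apply Subtype.ext
      rw [hval]
      change lift (toUnit (unop T) ≫ η[Magnet.AMonS S ↥Z.toAddSubmonoid]) (𝟙 (unop T)) ≫ φ = x.1
      have h5 : lift (toUnit (unop T) ≫ η[Magnet.AMonS S ↥Z.toAddSubmonoid]) (𝟙 (unop T)) =
          lift (1 : unop T ⟶ Magnet.AMonS S M) (𝟙 (unop T)) ≫ q := by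
        rw [hq, lift_whiskerRight, MonObj.one_comp, Hom.one_def]
      rw [h5, Category.assoc, hqφ, ho, lift_whiskerLeft_assoc, Category.id_comp, a'.lift_one_act]
  exact ⟨asIso hom, hcomp⟩

end Groth.Agent.S18289
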