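import Groth.Statements.S18290
import Groth.Agent.Lib.Seat89AttrLimit

set_option autoImplicit false
universe u
open CategoryTheory MonoidalCategory CartesianMonoidalCategory MonObj AlgebraicGeometry Opposite
open Magnet

namespace Groth.Agent.S18290

/-- Let X be an S-scheme locally of finite presentation and separated over S with an action of the
diagonalizable monoid scheme A(M)_S of a commutative monoid M, and let N be the union of a nonempty
directed family of submonoids N_i of M. Then for every S-scheme T whose underlying scheme is affine,
every element of X^N(T) comes from X^{N_i}(T) for some i, so that X^N(T) is the directed union of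
the X^{N_i}(T) (the maps X^{N_i}(T) → X^N(T) are injective since X is separated). (The published
statement takes T an arbitrary S-scheme and X an algebraic space; for T an infinite disjoint union
of points and X an infinite disjoint union of affine lines, the n-th with coordinate of degree the
n-th basis vector of a free commutative monoid M, the element of X^N(T) that is the n-th coordinate
inclusion on the n-th point comes from no single X^{N_i}(T) when N_i is generated by the first i
basis vectors, so T is taken affine here, the case the limit argument proves.) -/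
theorem result (S : Scheme.{u}) (M : Type) [AddCommMonoid M]
    (X : Over S) [IsSeparated X.hom] [LocallyOfFinitePresentation X.hom]
    (a : Magnet.MonAct (Magnet.AMonS S M) X) {J : Type} [Preorder J] [IsDirected J (· ≤ ·)] [Nonempty J]
    (N : J → AddSubmonoid M) (hN : Monotone N) (T : Over S) [IsAffine T.left]
    (φ : (Magnet.attr a (⨆ i, N i)).obj (op T)) :
    ∃ (i : J) (ψ : (Magnet.attr a (N i)).obj (op T)), (Magnet.attrMap a (le_iSup N i)).app (op T) ψ = φ := by
  have hN' : ∀ ⦃i j : J⦄, i ≤ j → N i ≤ N j := fun i j h => hN h
  obtain ⟨i, ψ₀, hψ₀⟩ := Groth.Agent.Lib.Seat89.AttrLimit.exists_factor_of_lfp S N hN' T X φ.1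
  have hφ := φ.2
  rw [Magnet.MonAct.mem_eqvHom_iff] at hφ
  have hsub : Magnet.AMonS.map S (⨆ i, N i).subtype ≫
      Magnet.AMonS.map S (AddSubmonoid.inclusion (le_iSup N i)) = Magnet.AMonS.map S (N i).subtype := by
    rw [← Magnet.AMonS.map_comp]
    rfl
  have heq : Magnet.MonAct.IsEquivariant
      ((Magnet.subAct S M (N i)).prod (Magnet.MonAct.trivial (Magnet.AMonS S M) T)) a ψ₀ := by
    refine Groth.Agent.Lib.Seat89.AttrLimit.hom_ext_whiskerLeft_AMonS_map S
      (AddSubmonoid.inclusion (le_iSup N i)) (AddSubmonoid.inclusion_injective _) (Magnet.AMonS S M) T _ _ ?_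
    apply Magnet.hom_ext_lift₂
    intro T' g w
    obtain ⟨n, t, rfl⟩ : ∃ n t, w = lift n t := ⟨_, _, (lift_comp_fst_snd w).symm⟩
    have h2 := hφ T' g n t
    simp only [Magnet.subAct, Magnet.MonAct.lift_restrict_act, Magnet.MonAct.lift_regular_act] at h2
    rw [← hψ₀] at h2
    simp only [lift_whiskerLeft_assoc, lift_whiskerRight, lift_whiskerRight_assoc,
      Magnet.MonAct.lift_prod_act_assoc,
      Magnet.MonAct.lift_trivial_act, Magnet.subAct, Magnet.MonAct.lift_restrict_act,
      Magnet.MonAct.lift_regular_act] at h2 ⊢
    rw [MonObj.mul_comp, Category.assoc, hsub] at h2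
    exact h2
  refine ⟨i, ⟨ψ₀, heq⟩, ?_⟩
  apply Subtype.ext
  exact hψ₀

end Groth.Agent.S18290
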