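import Groth.Statements.S18298
import Groth.Agent.Lib.Seat89Comap

set_option autoImplicit false
universe u
open CategoryTheory MonoidalCategory CartesianMonoidalCategory MonObj AlgebraicGeometry Opposite
open Magnet

namespace Groth.Agent.S18298

/-- Let f : M → Z be a homomorphism of finitely generated commutative groups, Y a submonoid of Z
contained in the image f(M), N = f⁻¹(Y), and X an S-scheme with an action of the diagonalizable
group scheme D(M)_S. Regard X as a D(Z)_S-scheme through D(Z)_S → D(M)_S. Then the canonical map of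
attractors X^{N ⊂ M} → X^{Y ⊂ Z} (precomposition with A(Y)_S → A(N)_S) is an isomorphism. (The
published statement has no condition on Y; its argument passes through a quotient of D(M)_T ×_T
A(Y)_T by the diagonalizable group of f(M) + Y^gp, whose action is not free in general — for f
multiplication by 2 on the integers and Y the natural numbers the points over the vertex of A(Y)
have stabilizer μ₂ — but is free when Y lies in f(M), so the statement is given here under that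
condition. X may be an algebraic space in the source; here it is a scheme.) -/
theorem result (S : Scheme.{u}) (M Z : Type) [AddCommGroup M] [AddCommGroup Z]
    [AddGroup.FG M] [AddGroup.FG Z] (f : M →+ Z) (Y : AddSubmonoid Z) (hY : Y ≤ AddMonoidHom.mrange f)
    (X : Over S) (a : AlgGrp.Action (Red.DS S M) X) :
    IsIso (Magnet.attrComap (Magnet.MonAct.ofAction a) f Y) := by
  obtain ⟨a', ha'⟩ : ∃ a' : Magnet.MonAct (Magnet.AMonS S M) X, a' = Magnet.MonAct.ofAction a := ⟨_, rfl⟩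
  rw [← ha']
  have hcomap : ∀ (T : (Over S)ᵒᵖ) (φ : (Magnet.attr a' (Y.comap f)).obj T),
      ((Magnet.attrComap a' f Y).app T φ).1 =
        (Magnet.AMonS.map S (Groth.Agent.Lib.Seat89.Comap.kappa f Y) ▷ unop T) ≫ φ.1 := fun T φ => rfl
  rw [NatTrans.isIso_iff_isIso_app]
  intro T
  rw [isIso_iff_bijective]
  have hepi := Groth.Agent.Lib.Seat89.Comap.delta_epi S f Y hY (unop T)
  constructor
  · -- injectivity
    intro φ₁ φ₂ h12
    apply Subtype.ext
    have h1 : (Magnet.AMonS.map S (Groth.Agent.Lib.Seat89.Comap.kappa f Y) ▷ unop T) ≫ φ₁.1 =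
        (Magnet.AMonS.map S (Groth.Agent.Lib.Seat89.Comap.kappa f Y) ▷ unop T) ≫ φ₂.1 := by
      rw [← hcomap, ← hcomap, h12]
    rw [← cancel_epi (Magnet.AMonS.map S (Groth.Agent.Lib.Seat89.Comap.delta f Y) ▷ unop T)]
    apply Magnet.hom_ext_lift₂
    intro W w t
    have key : ∀ φ : (Magnet.attr a' (Y.comap f)).obj T,
        lift w t ≫ (Magnet.AMonS.map S (Groth.Agent.Lib.Seat89.Comap.delta f Y) ▷ unop T) ≫ φ.1 =
        lift (w ≫ Magnet.AMonS.map S (AddMonoidHom.inl M ↥Y))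
          (lift (w ≫ Magnet.AMonS.map S (AddMonoidHom.inr M ↥Y)) t ≫
            (Magnet.AMonS.map S (Groth.Agent.Lib.Seat89.Comap.kappa f Y) ▷ unop T) ≫ φ.1) ≫ a'.act := by
      intro φ
      have hφ := φ.2
      rw [Magnet.MonAct.mem_eqvHom_iff] at hφ
      have := hφ W (w ≫ Magnet.AMonS.map S (AddMonoidHom.inl M ↥Y))
        ((w ≫ Magnet.AMonS.map S (AddMonoidHom.inr M ↥Y)) ≫
          Magnet.AMonS.map S (Groth.Agent.Lib.Seat89.Comap.kappa f Y)) t
      unfold Magnet.subAct at this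
      rw [Magnet.MonAct.lift_restrict_act, Magnet.MonAct.lift_regular_act] at this
      rw [lift_whiskerRight_assoc, Groth.Agent.Lib.Seat89.Comap.comp_map_delta S f Y w, this,
        lift_whiskerRight_assoc]
    rw [key φ₁, key φ₂, h1]
  · -- surjectivity
    intro ψ
    obtain ⟨c, hc⟩ : ∃ c : Magnet.AMonS S (M × ↥Y) ⊗ unop T ⟶ Magnet.AMonS S ↥(Y.comap f) ⊗ unop T,
      c = Magnet.AMonS.map S (Groth.Agent.Lib.Seat89.Comap.delta f Y) ▷ unop T := ⟨_, rfl⟩
    obtain ⟨o, ho⟩ : ∃ o : Magnet.AMonS S (M × ↥Y) ⊗ unop T ⟶ X,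
      o = Groth.Agent.Lib.Seat89.Comap.orbitMap S Y a' ψ.1 := ⟨_, rfl⟩
    have heff : EffectiveEpi c.left := by
      rw [hc]; exact Groth.Agent.Lib.Seat89.Comap.delta_effectiveEpi_left S f Y hY (unop T)
    have hdesc : ∀ {W : Scheme.{u}} (g₁ g₂ : W ⟶ (Magnet.AMonS S (M × ↥Y) ⊗ unop T).left),
        g₁ ≫ c.left = g₂ ≫ c.left → g₁ ≫ o.left = g₂ ≫ o.left := by
      intro W g₁ g₂ h12
      have hw : g₂ ≫ (Magnet.AMonS S (M × ↥Y) ⊗ unop T).hom = g₁ ≫ (Magnet.AMonS S (M × ↥Y) ⊗ unop T).hom := by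
        rw [← Over.w c, ← Category.assoc, ← Category.assoc, h12]
      obtain ⟨W', hW'⟩ : ∃ W' : Over S, W' = Over.mk (g₁ ≫ (Magnet.AMonS S (M × ↥Y) ⊗ unop T).hom) := ⟨_, rfl⟩
      subst hW'
      obtain ⟨G₁, hG₁⟩ : ∃ G₁ : Over.mk (g₁ ≫ (Magnet.AMonS S (M × ↥Y) ⊗ unop T).hom) ⟶
          Magnet.AMonS S (M × ↥Y) ⊗ unop T, G₁.left = g₁ := ⟨Over.homMk g₁ rfl, rfl⟩
      obtain ⟨G₂, hG₂⟩ : ∃ G₂ : Over.mk (g₁ ≫ (Magnet.AMonS S (M × ↥Y) ⊗ unop T).hom) ⟶
          Magnet.AMonS S (M × ↥Y) ⊗ unop T, G₂.left = g₂ := ⟨Over.homMk g₂ hw, rfl⟩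
      have hG : G₁ ≫ c = G₂ ≫ c := by
        apply Over.OverMorphism.ext
        rw [Over.comp_left, Over.comp_left, hG₁, hG₂, h12]
      suffices hs : G₁ ≫ o = G₂ ≫ o by
        have := congrArg (fun k => k.left) hs
        simpa only [Over.comp_left, hG₁, hG₂] using this
      have e1 : (G₁ ≫ fst _ _) ≫ Magnet.AMonS.map S (Groth.Agent.Lib.Seat89.Comap.delta f Y) =
          (G₂ ≫ fst _ _) ≫ Magnet.AMonS.map S (Groth.Agent.Lib.Seat89.Comap.delta f Y) := by
        have := congrArg (fun k => k ≫ fst _ _) hG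
        simpa only [hc, Category.assoc, whiskerRight_fst] using this
      have e2 : G₁ ≫ snd _ _ = G₂ ≫ snd _ _ := by
        have := congrArg (fun k => k ≫ snd _ _) hG
        simpa only [hc, Category.assoc, whiskerRight_snd] using this
      have hG₁' : G₁ = lift (G₁ ≫ fst _ _) (G₁ ≫ snd _ _) := (lift_comp_fst_snd G₁).symm
      have hG₂' : G₂ = lift (G₂ ≫ fst _ _) (G₁ ≫ snd _ _) := by rw [e2, lift_comp_fst_snd]
      rw [hG₁', hG₂', ho]
      exact Groth.Agent.Lib.Seat89.Comap.orbitMap_descent S Y a' f hY ψ _ _ _ e1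
    obtain ⟨φ₀, hφ₀⟩ : ∃ φ₀ : (Magnet.AMonS S ↥(Y.comap f) ⊗ unop T).left ⟶ X.left,
        c.left ≫ φ₀ = o.left :=
      ⟨EffectiveEpi.desc c.left o.left hdesc, EffectiveEpi.fac c.left o.left hdesc⟩
    have hepic : Epi c.left := inferInstance
    have hφw : φ₀ ≫ X.hom = (Magnet.AMonS S ↥(Y.comap f) ⊗ unop T).hom := by
      rw [← cancel_epi c.left, ← Category.assoc, hφ₀, Over.w o, Over.w c]
    obtain ⟨φ, hφ⟩ : ∃ φ : Magnet.AMonS S ↥(Y.comap f) ⊗ unop T ⟶ X, φ.left = φ₀ :=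
      ⟨Over.homMk φ₀ hφw, rfl⟩
    have hcφ : c ≫ φ = o := by
      apply Over.OverMorphism.ext
      rw [Over.comp_left, hφ, hφ₀]
    have heq : Magnet.MonAct.IsEquivariant
        ((Magnet.subAct S M (Y.comap f)).prod (Magnet.MonAct.trivial (Magnet.AMonS S M) (unop T))) a' φ := by
      have hepi2 := Groth.Agent.Lib.Seat89.Comap.delta_epi_whiskerLeft S f Y hY (Magnet.AMonS S M) (unop T)
      rw [← hc] at hepi2
      change _ ≫ φ = (Magnet.AMonS S M ◁ φ) ≫ a'.act
      rw [← cancel_epi (Magnet.AMonS S M ◁ c)]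
      apply Magnet.hom_ext_lift₂
      intro T' g' z
      obtain ⟨w, t, rfl⟩ : ∃ w t, z = lift w t := ⟨_, _, (lift_comp_fst_snd z).symm⟩
      rw [← MonoidalCategory.whiskerLeft_comp_assoc, hcφ]
      have hL : (g' ≫ Magnet.AMonS.map S (Y.comap f).subtype) *
          (w ≫ Magnet.AMonS.map S (Groth.Agent.Lib.Seat89.Comap.delta f Y)) =
          Groth.Agent.Lib.Seat89.Comap.pairPt S (g' * (w ≫ Magnet.AMonS.map S (AddMonoidHom.inl M ↥Y)))
            (w ≫ Magnet.AMonS.map S (AddMonoidHom.inr M ↥Y)) ≫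
            Magnet.AMonS.map S (Groth.Agent.Lib.Seat89.Comap.delta f Y) := by
        rw [Groth.Agent.Lib.Seat89.Comap.pairPt_comp_delta S f Y,
          Groth.Agent.Lib.Seat89.Comap.comp_map_delta S f Y w, MonObj.mul_comp, _root_.mul_assoc]
      simp only [hc, lift_whiskerLeft_assoc, lift_whiskerRight, Magnet.MonAct.lift_prod_act_assoc,
        Magnet.MonAct.lift_trivial_act, Magnet.subAct, Magnet.MonAct.lift_restrict_act,
        Magnet.MonAct.lift_regular_act]
      rw [hL, ← lift_whiskerRight_assoc, ← hc, hcφ, ho,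
        Groth.Agent.Lib.Seat89.Comap.lift_orbitMap S Y a' ψ.1 w t,
        Groth.Agent.Lib.Seat89.Comap.lift_orbitMap S Y a' ψ.1 _ t,
        Groth.Agent.Lib.Seat89.Comap.pairPt_inl S _ (w ≫ Magnet.AMonS.map S (AddMonoidHom.inr M ↥Y)),
        Groth.Agent.Lib.Seat89.Comap.pairPt_inr S _ (w ≫ Magnet.AMonS.map S (AddMonoidHom.inr M ↥Y)),
        a'.lift_mul_act]
    refine ⟨⟨φ, heq⟩, ?_⟩
    refine Subtype.ext ((hcomap T ⟨φ, heq⟩).trans ?_)
    change (Magnet.AMonS.map S (Groth.Agent.Lib.Seat89.Comap.kappa f Y) ▷ unop T) ≫ φ = ψ.1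
    apply Magnet.hom_ext_lift₂
    intro W y t
    have hw : y ≫ Magnet.AMonS.map S (Groth.Agent.Lib.Seat89.Comap.kappa f Y) =
        Groth.Agent.Lib.Seat89.Comap.pairPt S (1 : W ⟶ Magnet.AMonS S M) y ≫
          Magnet.AMonS.map S (Groth.Agent.Lib.Seat89.Comap.delta f Y) := by
      rw [Groth.Agent.Lib.Seat89.Comap.pairPt_comp_delta S f Y, MonObj.one_comp, _root_.one_mul]
    rw [lift_whiskerRight_assoc, hw, ← lift_whiskerRight_assoc, ← hc, hcφ, ho,
      Groth.Agent.Lib.Seat89.Comap.lift_orbitMap S Y a' ψ.1 _ t,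
      Groth.Agent.Lib.Seat89.Comap.pairPt_inl S (1 : W ⟶ Magnet.AMonS S M) y,
      Groth.Agent.Lib.Seat89.Comap.pairPt_inr S (1 : W ⟶ Magnet.AMonS S M) y, a'.lift_one_act]

end Groth.Agent.S18298
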