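import Groth.Statements.S18365

set_option autoImplicit false
universe u
open CAlg

namespace Groth.Agent.S18365

section aux

variable {A : Type u} [CommRing A] {M : Type u} [AddCommGroup M] [Module A M]

/-- membership in `(π) • ⊤` -/
theorem mem_span_smul_top (π : A) (x : M) :
    x ∈ Ideal.span {π} • (⊤ : Submodule A M) ↔ ∃ m : M, x = π • m := by
  rw [Submodule.ideal_span_singleton_smul, Submodule.mem_smul_pointwise_iff_exists]
  constructor
  · rintro ⟨b, -, hb⟩; exact ⟨b, hb.symm⟩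
  · rintro ⟨m, hm⟩; exact ⟨m, Submodule.mem_top, hm.symm⟩

/-- membership of a class in the infimum of kernels of localisation maps -/
theorem mem_iInf_ker {ι : Type} (𝔓 : ι → Ideal A) [∀ i, (𝔓 i).IsPrime] (π : A) (T : Set ι) (m : M) :
    (Submodule.mkQ (Ideal.span {π} • (⊤ : Submodule A M)) m) ∈
      (⨅ i ∈ T, LinearMap.ker
        (LocalizedModule.mkLinearMap (𝔓 i).primeCompl (M ⧸ Ideal.span {π} • (⊤ : Submodule A M)))) ↔
      ∀ i ∈ T, ∃ s : A, s ∉ 𝔓 i ∧ ∃ m' : M, s • m = π • m' := by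
  simp only [Submodule.mem_iInf, LocalizedModule.mem_ker_mkLinearMap_iff]
  refine forall_congr' fun i => forall_congr' fun _ => ?_
  constructor
  · rintro ⟨s, hs, h⟩
    refine ⟨s, hs, ?_⟩
    rw [← LinearMap.map_smul, Submodule.mkQ_apply, Submodule.Quotient.mk_eq_zero] at h
    exact (mem_span_smul_top π _).1 h
  · rintro ⟨s, hs, m', h⟩
    refine ⟨s, hs, ?_⟩
    rw [← LinearMap.map_smul, Submodule.mkQ_apply, Submodule.Quotient.mk_eq_zero]
    exact (mem_span_smul_top π _).2 ⟨m', h⟩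

end aux

theorem result
    (A : Type u) [CommRing A] [IsNoetherianRing A] (π : A)
    (ι : Type) [Finite ι] (𝔓 : ι → Ideal A) [∀ i, (𝔓 i).IsPrime]
    (h𝔓 : ∀ i, 𝔓 i ∈ (Ideal.span {π}).minimalPrimes) (h𝔓inj : Function.Injective 𝔓)
    (h𝔓surj : ∀ 𝔔 ∈ (Ideal.span {π}).minimalPrimes, ∃ i, 𝔓 i = 𝔔)
    (M : Type u) [AddCommGroup M] [Module A M] [Module.Finite A M]
    (hπ : ∀ m : M, π • m = 0 → m = 0)
    (K : Set ι → Submodule A (M ⧸ Ideal.span {π} • (⊤ : Submodule A M)))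
    (hK : ∀ T : Set ι, K T = ⨅ i ∈ T, LinearMap.ker
      (LocalizedModule.mkLinearMap (𝔓 i).primeCompl (M ⧸ Ideal.span {π} • (⊤ : Submodule A M))))
    (htf : K Set.univ = ⊥)
    (N : Set ι → Submodule A M)
    (hN : ∀ T : Set ι, N T = (K T).comap (Submodule.mkQ (Ideal.span {π} • (⊤ : Submodule A M))))
    (Y Z : Set ι) (hY : K Y ⊔ K Yᶜ = ⊤)
    (K' : Set ι → Submodule A (↥(N Y) ⧸ Ideal.span {π} • (⊤ : Submodule A ↥(N Y))))
    (hK' : ∀ T : Set ι, K' T = ⨅ i ∈ T, LinearMap.ker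
      (LocalizedModule.mkLinearMap (𝔓 i).primeCompl (↥(N Y) ⧸ Ideal.span {π} • (⊤ : Submodule A ↥(N Y)))))
    (hZ : K' Z ⊔ K' Zᶜ = ⊤) :
    K Z ⊔ K Zᶜ = ⊤ := by
  classical
  -- characterisations
  have memK : ∀ (T : Set ι) (m : M), (Submodule.mkQ (Ideal.span {π} • (⊤ : Submodule A M))) m ∈ K T ↔
      ∀ i ∈ T, ∃ s : A, s ∉ 𝔓 i ∧ ∃ m' : M, s • m = π • m' := by
    intro T m; rw [hK T]; exact mem_iInf_ker 𝔓 π T m
  have memK' : ∀ (T : Set ι) (n : ↥(N Y)), (Submodule.mkQ (Ideal.span {π} • (⊤ : Submodule A ↥(N Y)))) n ∈ K' T ↔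
      ∀ i ∈ T, ∃ s : A, s ∉ 𝔓 i ∧ ∃ n' : ↥(N Y), s • n = π • n' := by
    intro T n; rw [hK' T]; exact mem_iInf_ker 𝔓 π T n
  have memN : ∀ (T : Set ι) (m : M), m ∈ N T ↔ (Submodule.mkQ (Ideal.span {π} • (⊤ : Submodule A M))) m ∈ K T := by
    intro T m; rw [hN T]; rfl
  have regular : ∀ a b : M, π • a = π • b → a = b := by
    intro a b h
    have : π • (a - b) = 0 := by rw [smul_sub, h, sub_self]
    exact sub_eq_zero.1 (hπ _ this)
  -- intersections
  have inter : ∀ (T : Set ι) (m : M), (Submodule.mkQ (Ideal.span {π} • (⊤ : Submodule A M))) m ∈ K T → (Submodule.mkQ (Ideal.span {π} • (⊤ : Submodule A M))) m ∈ K Tᶜ → (Submodule.mkQ (Ideal.span {π} • (⊤ : Submodule A M))) m = 0 := by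
    intro T m h1 h2
    have : (Submodule.mkQ (Ideal.span {π} • (⊤ : Submodule A M))) m ∈ K Set.univ := by
      rw [memK] at h1 h2 ⊢
      intro i _
      by_cases hi : i ∈ T
      · exact h1 i hi
      · exact h2 i hi
    rw [htf] at this
    exact (Submodule.mem_bot A).1 this
  have zero_iff : ∀ m : M, (Submodule.mkQ (Ideal.span {π} • (⊤ : Submodule A M))) m = 0 ↔ ∃ m' : M, m = π • m' := by
    intro m
    rw [Submodule.mkQ_apply, Submodule.Quotient.mk_eq_zero]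
    exact mem_span_smul_top π m
  have zero_iff' : ∀ n : ↥(N Y), (Submodule.mkQ (Ideal.span {π} • (⊤ : Submodule A ↥(N Y)))) n = 0 ↔ ∃ n' : ↥(N Y), n = π • n' := by
    intro n
    rw [Submodule.mkQ_apply, Submodule.Quotient.mk_eq_zero]
    exact mem_span_smul_top π n
  -- decomposition in N̄
  have decN : ∀ n : ↥(N Y), ∃ a b n'' : ↥(N Y), n = a + b + π • n'' ∧
      (Submodule.mkQ (Ideal.span {π} • (⊤ : Submodule A ↥(N Y)))) a ∈ K' Z ∧ (Submodule.mkQ (Ideal.span {π} • (⊤ : Submodule A ↥(N Y)))) b ∈ K' Zᶜ := by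
    intro n
    have h : (Submodule.mkQ (Ideal.span {π} • (⊤ : Submodule A ↥(N Y)))) n ∈ K' Z ⊔ K' Zᶜ := by rw [hZ]; exact Submodule.mem_top
    obtain ⟨a', ha', b', hb', hab⟩ := Submodule.mem_sup.1 h
    obtain ⟨a, rfl⟩ := (Submodule.mkQ_surjective (Ideal.span {π} • (⊤ : Submodule A ↥(N Y)))) a'
    obtain ⟨b, rfl⟩ := (Submodule.mkQ_surjective (Ideal.span {π} • (⊤ : Submodule A ↥(N Y)))) b'
    have h0 : (Submodule.mkQ (Ideal.span {π} • (⊤ : Submodule A ↥(N Y)))) (n - a - b) = 0 := by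
      rw [map_sub, map_sub, ← hab]; abel
    obtain ⟨n'', hn''⟩ := (zero_iff' _).1 h0
    refine ⟨a, b, n'', ?_, ha', hb'⟩
    rw [← hn'']; abel
  -- K' T maps into K T
  have K'toK : ∀ (T : Set ι) (a : ↥(N Y)), (Submodule.mkQ (Ideal.span {π} • (⊤ : Submodule A ↥(N Y)))) a ∈ K' T → (Submodule.mkQ (Ideal.span {π} • (⊤ : Submodule A M))) (a : M) ∈ K T := by
    intro T a ha
    rw [memK'] at ha
    rw [memK]
    intro i hi
    obtain ⟨s, hs, n', hn'⟩ := ha i hi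
    refine ⟨s, hs, (n' : M), ?_⟩
    have := congrArg (Subtype.val) hn'
    simpa using this
  have PleN : ∀ m : M, π • m ∈ N Y := by
    intro m
    rw [memN]
    have : (Submodule.mkQ (Ideal.span {π} • (⊤ : Submodule A M))) (π • m) = 0 := (zero_iff _).2 ⟨m, rfl⟩
    rw [this]; exact Submodule.zero_mem _
  -- Step A
  have stepA : ∀ n : M, n ∈ N Y → (Submodule.mkQ (Ideal.span {π} • (⊤ : Submodule A M))) n ∈ K Z ⊔ K Zᶜ := by
    intro n hn
    obtain ⟨a, b, n'', hn'', ha, hb⟩ := decN ⟨n, hn⟩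
    have h1 : n = (a : M) + (b : M) + π • (n'' : M) := by
      have := congrArg (Subtype.val) hn''
      simpa using this
    have h2 : (Submodule.mkQ (Ideal.span {π} • (⊤ : Submodule A M))) n = (Submodule.mkQ (Ideal.span {π} • (⊤ : Submodule A M))) (a : M) + (Submodule.mkQ (Ideal.span {π} • (⊤ : Submodule A M))) (b : M) := by
      rw [h1, map_add, map_add, (zero_iff (π • (n'' : M))).2 ⟨_, rfl⟩, add_zero]
    rw [h2]
    exact Submodule.add_mem_sup (K'toK Z a ha) (K'toK Zᶜ b hb)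
  -- Step B
  have stepB : ∀ m : M, (Submodule.mkQ (Ideal.span {π} • (⊤ : Submodule A M))) m ∈ K Yᶜ → (Submodule.mkQ (Ideal.span {π} • (⊤ : Submodule A M))) m ∈ K Z ⊔ K Zᶜ := by
    intro m hm
    obtain ⟨a, b, n'', hn'', ha, hb⟩ := decN ⟨π • m, PleN m⟩
    have h1 : π • m = (a : M) + (b : M) + π • (n'' : M) := by
      have := congrArg (Subtype.val) hn''
      simpa using this
    have haKZ := K'toK Z a ha
    have hbKZ := K'toK Zᶜ b hb
    have hsum : (Submodule.mkQ (Ideal.span {π} • (⊤ : Submodule A M))) (a : M) + (Submodule.mkQ (Ideal.span {π} • (⊤ : Submodule A M))) (b : M) = 0 := by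
      have h3 : (a : M) + (b : M) = π • (m - (n'' : M)) := by
        rw [smul_sub, h1]; abel
      rw [← map_add, h3]
      exact (zero_iff _).2 ⟨_, rfl⟩
    have ha0 : (Submodule.mkQ (Ideal.span {π} • (⊤ : Submodule A M))) (a : M) = 0 := by
      apply inter Z _ haKZ
      have : (Submodule.mkQ (Ideal.span {π} • (⊤ : Submodule A M))) (a : M) = - (Submodule.mkQ (Ideal.span {π} • (⊤ : Submodule A M))) (b : M) := eq_neg_of_add_eq_zero_left hsum
      rw [this]; exact Submodule.neg_mem _ hbKZ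
    have hb0 : (Submodule.mkQ (Ideal.span {π} • (⊤ : Submodule A M))) (b : M) = 0 := by
      rw [ha0, zero_add] at hsum; exact hsum
    obtain ⟨a₁, ha₁⟩ := (zero_iff _).1 ha0
    obtain ⟨b₁, hb₁⟩ := (zero_iff _).1 hb0
    have hm' : m = a₁ + b₁ + (n'' : M) := by
      apply regular
      rw [h1, ha₁, hb₁, smul_add, smul_add]
    -- the key claim
    have key : ∀ (T : Set ι) (c : ↥(N Y)) (c₁ : M), (c : M) = π • c₁ → (Submodule.mkQ (Ideal.span {π} • (⊤ : Submodule A ↥(N Y)))) c ∈ K' T →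
        (Submodule.mkQ (Ideal.span {π} • (⊤ : Submodule A M))) c₁ ∈ K Z ⊔ K Zᶜ ∨ True → 
        ∃ d₁ d₂ : M, (Submodule.mkQ (Ideal.span {π} • (⊤ : Submodule A M))) c₁ = (Submodule.mkQ (Ideal.span {π} • (⊤ : Submodule A M))) d₁ + (Submodule.mkQ (Ideal.span {π} • (⊤ : Submodule A M))) d₂ ∧ d₁ ∈ N Y ∧ (Submodule.mkQ (Ideal.span {π} • (⊤ : Submodule A M))) d₂ ∈ K T := by
      intro T c c₁ hc hcK _
      have h : (Submodule.mkQ (Ideal.span {π} • (⊤ : Submodule A M))) c₁ ∈ K Y ⊔ K Yᶜ := by rw [hY]; exact Submodule.mem_top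
      obtain ⟨y₁, hy₁, y₂, hy₂, hy⟩ := Submodule.mem_sup.1 h
      obtain ⟨d₁, rfl⟩ := (Submodule.mkQ_surjective (Ideal.span {π} • (⊤ : Submodule A M))) y₁
      obtain ⟨d₂, rfl⟩ := (Submodule.mkQ_surjective (Ideal.span {π} • (⊤ : Submodule A M))) y₂
      refine ⟨d₁, d₂, hy.symm, (memN Y d₁).2 hy₁, ?_⟩
      rw [memK]
      intro i hi
      rw [memK'] at hcK
      obtain ⟨s, hs, n', hn'⟩ := hcK i hi
      have hn'M : s • (c : M) = π • (n' : M) := by
        have := congrArg (Subtype.val) hn'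
        simpa using this
      have hsc₁ : s • c₁ = (n' : M) := by
        apply regular
        rw [← hn'M, hc, smul_comm]
      -- s • d₂ ∈ N Y
      have h0 : (Submodule.mkQ (Ideal.span {π} • (⊤ : Submodule A M))) (c₁ - d₁ - d₂) = 0 := by
        rw [map_sub, map_sub, ← hy]; abel
      obtain ⟨d₃, hd₃⟩ := (zero_iff _).1 h0
      have hsd₂ : s • d₂ ∈ N Y := by
        have e : s • d₂ = (n' : M) - s • d₁ - π • (s • d₃) := by
          rw [← hsc₁, smul_comm π s d₃, ← hd₃, smul_sub, smul_sub]; abel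
        rw [e]
        exact Submodule.sub_mem _ (Submodule.sub_mem _ n'.2
          (Submodule.smul_mem _ _ ((memN Y d₁).2 hy₁))) (PleN _)
      have hz : (Submodule.mkQ (Ideal.span {π} • (⊤ : Submodule A M))) (s • d₂) = 0 := by
        apply inter Y _ ((memN Y _).1 hsd₂)
        rw [map_smul]; exact Submodule.smul_mem _ _ hy₂
      obtain ⟨e, he⟩ := (zero_iff _).1 hz
      exact ⟨s, hs, e, he⟩
    obtain ⟨d₁, d₂, hd, hd₁, hd₂⟩ := key Z a a₁ ha₁ ha (Or.inr trivial)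
    obtain ⟨e₁, e₂, he, he₁, he₂⟩ := key Zᶜ b b₁ hb₁ hb (Or.inr trivial)
    rw [hm', map_add, map_add, hd, he]
    refine Submodule.add_mem _ (Submodule.add_mem _ (Submodule.add_mem _ (stepA d₁ hd₁) ?_)
      (Submodule.add_mem _ (stepA e₁ he₁) ?_)) (stepA _ n''.2)
    · exact Submodule.mem_sup_left hd₂
    · exact Submodule.mem_sup_right he₂
  -- Step C
  rw [eq_top_iff]
  intro x _
  obtain ⟨m, rfl⟩ := (Submodule.mkQ_surjective (Ideal.span {π} • (⊤ : Submodule A M))) x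
  have h : (Submodule.mkQ (Ideal.span {π} • (⊤ : Submodule A M))) m ∈ K Y ⊔ K Yᶜ := by rw [hY]; exact Submodule.mem_top
  obtain ⟨y₁, hy₁, y₂, hy₂, hy⟩ := Submodule.mem_sup.1 h
  obtain ⟨m₁, rfl⟩ := (Submodule.mkQ_surjective (Ideal.span {π} • (⊤ : Submodule A M))) y₁
  obtain ⟨m₂, rfl⟩ := (Submodule.mkQ_surjective (Ideal.span {π} • (⊤ : Submodule A M))) y₂
  rw [← hy]
  exact Submodule.add_mem _ (stepA m₁ ((memN Y m₁).2 hy₁)) (stepB m₂ hy₂)

end Groth.Agent.S18365
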