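import Groth.Statements.S18397
import Groth.Agent.Lib.Seat90FrobContract2

set_option autoImplicit false
universe u
open LVCorr

namespace Groth.Agent.S18397

open AlgebraicGeometry CategoryTheory CategoryTheory.Limits in
/-- Let k₀ be a finite field with p^e elements, K an algebraic closure of k₀, C₀ a scheme locally of
finite type over k₀, C = C₀ ×_{k₀} Spec K with its projections, and Fr : C → C the n-th power of the
geometric Frobenius (over K, compatible with the (e·n)-th power of the absolute p-Frobenius of C₀).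
Let X be locally of finite type over K and c₁, c₂ : C → X morphisms over K with c₂ quasi-finite, and
let d < p^(e n) be such that for every closed point x of X, with J_x the inverse image under c₂ of
the ideal sheaf of the reduced point x, one has (√J_x)^d ⊂ J_x (d bounds the ramification of c₂).
Then the twisted correspondence (c₁ ∘ Fr, c₂) is contracting near every closed point in a
neighbourhood of its fixed points: for every closed point x of X there is an open subset W of C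
containing every point of C whose image under (c₁ ∘ Fr, c₂) : C → X ×_K X lies in the diagonal, such
that, writing L and J for the inverse image ideal sheaves on W of the ideal of x under c₁ ∘ Fr and
under c₂, one has L ⊂ J and L^k ⊂ J^(k+1) for some k. (In the source the correspondence is defined
over k₀ and the twist is written with the geometric Frobenius of X.) -/
theorem result {C C₀ X : Scheme.{u}}
    (p : ℕ) [Fact p.Prime] (k₀ : Type u) [Field k₀] [Fintype k₀] [CharP k₀ p] (e : ℕ)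
    (hq : Fintype.card k₀ = p ^ e) (K : Type u) [Field K] [Algebra k₀ K] [IsAlgClosure k₀ K]
    (f₀ : C₀ ⟶ Spec (CommRingCat.of k₀)) [LocallyOfFiniteType f₀] [FrobSch.IsCharP C₀ p]
    (πC₀ : C ⟶ C₀) (πK : C ⟶ Spec (CommRingCat.of K))
    (hC : IsPullback πC₀ πK f₀ (Spec.map (CommRingCat.ofHom (algebraMap k₀ K))))
    (n : ℕ) (Fr : C ⟶ C)
    (hFr₀ : Fr ≫ πC₀ = πC₀ ≫ End.asHom (End.of (FrobSch.frob C₀ p) ^ (e * n)))
    (hFrK : Fr ≫ πK = πK)
    (pX : X ⟶ Spec (CommRingCat.of K)) [LocallyOfFiniteType pX]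
    (c₁ c₂ : C ⟶ X) (hc₁ : c₁ ≫ pX = πK) (hc₂ : c₂ ≫ pX = πK)
    [LocallyQuasiFinite c₂] [LocallyOfFiniteType c₂]
    (hcomm : (Fr ≫ c₁) ≫ pX = c₂ ≫ pX) (d : ℕ) (hn : d < p ^ (e * n))
    (hd : ∀ (x : X) (hx : IsClosed ({x} : Set X)),
      ((Scheme.IdealSheafData.vanishingIdeal ⟨{x}, hx⟩).comap c₂).radical ^ d ≤
        (Scheme.IdealSheafData.vanishingIdeal ⟨{x}, hx⟩).comap c₂)
    (x : X) (hx : IsClosed ({x} : Set X)) :
    ∃ W : C.Opens,
      (pullback.lift (Fr ≫ c₁) c₂ hcomm).base ⁻¹' Set.range (pullback.diagonal pX).base ⊆ (W : Set C) ∧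
      (Scheme.IdealSheafData.vanishingIdeal ⟨{x}, hx⟩).comap (W.ι ≫ Fr ≫ c₁) ≤
        (Scheme.IdealSheafData.vanishingIdeal ⟨{x}, hx⟩).comap (W.ι ≫ c₂) ∧
      ∃ k : ℕ, (Scheme.IdealSheafData.vanishingIdeal ⟨{x}, hx⟩).comap (W.ι ≫ Fr ≫ c₁) ^ k ≤
        (Scheme.IdealSheafData.vanishingIdeal ⟨{x}, hx⟩).comap (W.ι ≫ c₂) ^ (k + 1) := by
  have : FrobSch.IsCharP C p := FrobSch.IsCharP.of_hom πC₀ p
  obtain ⟨τ, hτ⟩ := Groth.Agent.Lib.Seat90.FrobContract.exists_factor p k₀ e hq K f₀ πC₀ πK hC n Fr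
    hFr₀ hFrK
  have hsupp : ((Scheme.IdealSheafData.vanishingIdeal ⟨{x}, hx⟩).support : Set X) = {x} :=
    Scheme.IdealSheafData.coe_support_vanishingIdeal _
  have hDclosed : IsClosed (c₂.base ⁻¹' {x}) := hx.preimage c₂.continuous
  have hDdisc : _root_.IsDiscrete (c₂.base ⁻¹' {x}) := c₂.isDiscrete_preimage_singleton x
  have hBad : IsClosed {y : C | c₂.base y = x ∧ (Fr ≫ c₁).base y ≠ x} := by
    have := hDdisc.to_subtype
    have h1 : IsClosed {w : (c₂.base ⁻¹' {x} : Set C) | (Fr ≫ c₁).base w.1 ≠ x} :=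
      isClosed_discrete _
    obtain ⟨T, hT, hTeq⟩ := isClosed_induced_iff.mp h1
    have h2 : {y : C | c₂.base y = x ∧ (Fr ≫ c₁).base y ≠ x} = (c₂.base ⁻¹' {x}) ∩ T := by
      ext y
      constructor
      · rintro ⟨hy1, hy2⟩
        refine ⟨hy1, ?_⟩
        have : (⟨y, hy1⟩ : (c₂.base ⁻¹' {x} : Set C)) ∈ Subtype.val ⁻¹' T := by
          rw [hTeq]; exact hy2
        exact this
      · rintro ⟨hy1, hy2⟩
        refine ⟨hy1, ?_⟩
        have : (⟨y, hy1⟩ : (c₂.base ⁻¹' {x} : Set C)) ∈ Subtype.val ⁻¹' T := hy2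
        rw [hTeq] at this
        exact this
    rw [h2]
    exact hDclosed.inter hT
  refine ⟨⟨{y : C | c₂.base y = x ∧ (Fr ≫ c₁).base y ≠ x}ᶜ, hBad.isOpen_compl⟩, ?_, ?_⟩
  · rintro y ⟨z, hz⟩ ⟨hy1, hy2⟩
    apply hy2
    have e1 := congrArg (pullback.fst pX pX).base hz
    have e2 := congrArg (pullback.snd pX pX).base hz
    rw [← Scheme.Hom.comp_apply, ← Scheme.Hom.comp_apply] at e1 e2
    rw [pullback.diagonal_fst, pullback.lift_fst] at e1
    rw [pullback.diagonal_snd, pullback.lift_snd] at e2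
    rw [← e1, ← hy1, ← e2]
  · obtain ⟨h1, h2⟩ := Groth.Agent.Lib.Seat90.FrobContract2.core_open p (e * n) Fr τ hτ c₁ c₂
      (Scheme.IdealSheafData.vanishingIdeal ⟨{x}, hx⟩) d (hd x hx) hn
      ⟨{y : C | c₂.base y = x ∧ (Fr ≫ c₁).base y ≠ x}ᶜ, hBad.isOpen_compl⟩ (by
        intro y hy hc
        rw [hsupp] at hc ⊢
        by_contra hne
        exact hy ⟨hc, hne⟩)
    exact ⟨h1, d, h2⟩

end Groth.Agent.S18397
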