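import Groth.Statements.S18402
import Mathlib

set_option autoImplicit false
universe u
open Pi1

namespace Groth.Agent.S18402

open AlgebraicGeometry CategoryTheory CategoryTheory.Limits Topology

/-- a subset stable under generalization and specialization is closed, when the space is the union of
the closures of finitely many points through which every point generalizes. -/
lemma isClosed_of_stable {Z : Type*} [TopologicalSpace Z] (G : Set Z) (hG : G.Finite)
    (hcov : ∀ z : Z, ∃ ζ ∈ G, ζ ⤳ z) (T : Set Z) (h1 : StableUnderGeneralization T)
    (h2 : StableUnderSpecialization T) : IsClosed T := by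
  have : T = ⋃ ζ ∈ G ∩ T, closure {ζ} := by
    ext z
    simp only [Set.mem_iUnion, exists_prop]
    constructor
    · intro hz
      obtain ⟨ζ, hζG, hζ⟩ := hcov z
      exact ⟨ζ, ⟨hζG, h1 hζ hz⟩, hζ.mem_closure⟩
    · rintro ⟨ζ, ⟨-, hζT⟩, hz⟩
      exact h2 (specializes_iff_mem_closure.mpr hz) hζT
  rw [this]
  exact (hG.subset Set.inter_subset_left).isClosed_biUnion fun _ _ => isClosed_closure

lemma preconnectedSpace_of_fibres {P Z : Type*} [TopologicalSpace P] [TopologicalSpace Z]
    [PreconnectedSpace Z] (g : P → Z) (hsurj : Function.Surjective g)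
    (hgen : GeneralizingMap g) (hfib : ∀ z, _root_.IsPreconnected (g ⁻¹' {z}))
    (hZ : ∀ T : Set Z, StableUnderGeneralization T → StableUnderSpecialization T → IsClosed T) :
    PreconnectedSpace P := by
  rw [preconnectedSpace_iff_clopen]
  intro U hU
  -- `U` is saturated
  have hsat : ∀ V : Set P, IsClopen V → g ⁻¹' (g '' V) = V := by
    intro V hV
    refine Set.Subset.antisymm ?_ (Set.subset_preimage_image g V)
    rintro p ⟨u, hu, hup⟩
    have := (hfib (g u)).subset_isClopen hV ⟨u, rfl, hu⟩
    exact this hup.symm
  have hcompl : (g '' U)ᶜ = g '' Uᶜ := by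
    ext z
    constructor
    · intro hz
      obtain ⟨p, rfl⟩ := hsurj z
      refine ⟨p, fun hp => hz ⟨p, hp, rfl⟩, rfl⟩
    · rintro ⟨p, hp, rfl⟩ hz
      have : p ∈ g ⁻¹' (g '' U) := hz
      rw [hsat U hU] at this
      exact hp this
  have hg1 : StableUnderGeneralization (g '' U) :=
    hgen.stableUnderGeneralization_image hU.isOpen.stableUnderGeneralization
  have hg2 : StableUnderGeneralization (g '' U)ᶜ := by
    rw [hcompl]
    exact hgen.stableUnderGeneralization_image hU.compl.isOpen.stableUnderGeneralization
  have hs1 : StableUnderSpecialization (g '' U) := by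
    have := hg2.compl
    rwa [compl_compl] at this
  have hs2 : StableUnderSpecialization (g '' U)ᶜ := hg1.compl
  have hclopen : IsClopen (g '' U) :=
    ⟨hZ _ hg1 hs1, isClosed_compl_iff.mp (hZ _ hg2 hs2)⟩
  rcases isClopen_iff.mp hclopen with h | h
  · left
    rw [← hsat U hU, h, Set.preimage_empty]
  · right
    rw [← hsat U hU, h, Set.preimage_univ]


open AlgebraicGeometry CategoryTheory CategoryTheory.Limits in
/-- Let X be an irreducible scheme and π : W ⟶ X a flat morphism whose fibre over every field-valued
point of X is irreducible (so every fibre is geometrically irreducible and π is surjective). Then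
for every finite étale cover Z of X with Z connected, the base change of Z along π is connected.
Ranging over all finite étale covers of X, this says that the monodromy group of each cover (the
image of the fundamental group in the permutations of a geometric fibre) is unchanged by pullback
along π. The published statement asserts that equality of monodromy groups, for generically finite,
generically étale covers between irreducible algebraic stacks. -/
theorem result {X W : Scheme.{u}}
    [IrreducibleSpace X] (π : W ⟶ X) [Flat π] [GeometricallyIrreducible π]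
    (Z : FEt.Cat X) [ConnectedSpace Z.left] :
    ConnectedSpace ↥(pullback Z.hom π) := by
  have hfin : IsFinite Z.hom := Z.prop.1
  have het : Etale Z.hom := Z.prop.2
  let g : pullback Z.hom π ⟶ Z.left := pullback.fst Z.hom π
  have hgen : GeneralizingMap g := Flat.generalizingMap g
  have hsurj : Function.Surjective g := g.surjective
  have hfib : ∀ z : Z.left, _root_.IsPreconnected (g ⁻¹' {z}) := fun z => by
    rw [← g.range_fiberι z, ← Set.image_univ]
    exact (isPreconnected_univ (α := g.fiber z)).image _ (g.fiberι z).continuous.continuousOn
  -- the points over the generic point of `X`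
  have hgenZ : GeneralizingMap Z.hom := Flat.generalizingMap Z.hom
  let η : X := genericPoint X
  have hG : (Z.hom ⁻¹' {η}).Finite := Z.hom.finite_preimage_singleton η
  have hcov : ∀ z : Z.left, ∃ ζ ∈ Z.hom ⁻¹' {η}, ζ ⤳ z := fun z => by
    have hη : η ⤳ Z.hom z := (genericPoint_spec X).specializes trivial
    obtain ⟨ζ, hζ, hζη⟩ := hgenZ hη
    exact ⟨ζ, hζη, hζ⟩
  have hZ := isClosed_of_stable (Z.hom ⁻¹' {η}) hG hcov
  have hpre : PreconnectedSpace ↥(pullback Z.hom π) :=
    preconnectedSpace_of_fibres g hsurj hgen hfib hZ
  obtain ⟨z⟩ := (inferInstance : Nonempty Z.left)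
  obtain ⟨w, -⟩ := hsurj z
  exact { toPreconnectedSpace := hpre, toNonempty := ⟨w⟩ }

end Groth.Agent.S18402
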