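import Groth.Statements.S18416
import Groth.Agent.Lib.Seat18QuotEtale

set_option autoImplicit false
universe u v w
open CAlg

namespace Groth.Agent.S18416

/-- Let R → C and C → B be smooth ring homomorphisms, J an ideal of B and K the preimage of J in C, and
suppose that C surjects onto A = B/J (so that C/K = B/J = A). Then for every prime x of A there
exist f ∈ B whose image in A does not lie in x and an ideal J₀ of B_f contained in J B_f such that
the composite C → B_f → B_f/J₀ is étale. -/
theorem result (R : Type u) (C : Type v) (B : Type w)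
    [CommRing R] [CommRing C] [CommRing B] [Algebra R C] [Algebra C B] [Algebra R B] [IsScalarTower R C B]
    [Algebra.Smooth R C] [Algebra.Smooth C B] (J : Ideal B)
    (hsurj : Function.Surjective ((Ideal.Quotient.mk J).comp (algebraMap C B)))
    (x : PrimeSpectrum (B ⧸ J)) :
    ∃ f : B, Ideal.Quotient.mk J f ∉ x.asIdeal ∧
      ∃ J₀ : Ideal (Localization.Away f), J₀ ≤ J.map (algebraMap B (Localization.Away f)) ∧
        ((Ideal.Quotient.mk J₀).comp ((algebraMap B (Localization.Away f)).comp (algebraMap C B))).Etale := by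
  classical
  -- transport to a common universe
  let eC : ULift.{max v w} C ≃+* C := ULift.ringEquiv
  let eB : ULift.{max v w} B ≃+* B := ULift.ringEquiv
  letI : Algebra (ULift.{max v w} C) (ULift.{max v w} B) := ULift.algebra' C (ULift.{max v w} B)
  have hφ' : ∀ c : C, algebraMap (ULift.{max v w} C) (ULift.{max v w} B) (eC.symm c) =
      eB.symm (algebraMap C B c) := fun c => rfl
  haveI : Algebra.Smooth (ULift.{max v w} C) (ULift.{max v w} B) := by
    rw [← RingHom.smooth_algebraMap]
    refine Groth.Agent.Lib.Seat18.QuotEtale.smooth_transport eC eB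
      (algebraMap (ULift.{max v w} C) (ULift.{max v w} B)) (algebraMap C B) (fun c => rfl) ?_
    exact RingHom.smooth_algebraMap.mpr inferInstance
  let J' : Ideal (ULift.{max v w} B) := J.map eB.symm.toRingHom
  have hJ' : J' ≤ J.comap eB.toRingHom := by
    rw [Ideal.map_le_iff_le_comap]
    intro b hb
    change eB (eB.symm b) ∈ J
    rwa [RingEquiv.apply_symm_apply]
  have hsurj' : Function.Surjective
      ((Ideal.Quotient.mk J').comp (algebraMap (ULift.{max v w} C) (ULift.{max v w} B))) := by
    intro z
    obtain ⟨b', rfl⟩ := Ideal.Quotient.mk_surjective z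
    obtain ⟨c, hc⟩ := hsurj (Ideal.Quotient.mk J (eB b'))
    refine ⟨eC.symm c, ?_⟩
    rw [RingHom.comp_apply, hφ', Ideal.Quotient.eq]
    have h1 : algebraMap C B c - eB b' ∈ J := by
      rw [← Ideal.Quotient.eq]
      exact hc
    have h2 : eB.symm (algebraMap C B c - eB b') ∈ J' :=
      Ideal.mem_map_of_mem eB.symm.toRingHom h1
    rw [map_sub, RingEquiv.symm_apply_apply] at h2
    exact h2
  let x' : PrimeSpectrum (ULift.{max v w} B ⧸ J') :=
    ⟨x.asIdeal.comap (Ideal.quotientMap J eB.toRingHom hJ'), Ideal.comap_isPrime _ _⟩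
  obtain ⟨f', hf', H⟩ := Groth.Agent.Lib.Seat18.QuotEtale.core (ULift.{max v w} C)
    (ULift.{max v w} B) J' hsurj' x'
  obtain ⟨J₀', hJ₀', hét'⟩ := H (Localization.Away f')
  refine ⟨eB f', ?_, ?_⟩
  · intro h
    apply hf'
    change Ideal.quotientMap J eB.toRingHom hJ' (Ideal.Quotient.mk J' f') ∈ x.asIdeal
    rw [Ideal.quotientMap_mk]
    exact h
  have HM : (Submonoid.powers (eB f')).map (eB.symm : B ≃+* ULift.{max v w} B).toMonoidHom =
      Submonoid.powers f' := by
    rw [Submonoid.map_powers]
    simp
  let ε : Localization.Away (eB f') ≃+* Localization.Away f' :=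
    IsLocalization.ringEquivOfRingEquiv (Localization.Away (eB f')) (Localization.Away f')
      eB.symm HM
  have hε : ∀ b : B, ε (algebraMap B (Localization.Away (eB f')) b) =
      algebraMap (ULift.{max v w} B) (Localization.Away f') (eB.symm b) := fun b =>
    IsLocalization.ringEquivOfRingEquiv_eq _ _
  refine ⟨J₀'.comap ε.toRingHom, ?_, ?_⟩
  · intro y hy
    have h1 : ε y ∈ J'.map (algebraMap (ULift.{max v w} B) (Localization.Away f')) := hJ₀' hy
    have h2 : J'.map (algebraMap (ULift.{max v w} B) (Localization.Away f')) =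
        (J.map (algebraMap B (Localization.Away (eB f')))).map ε.toRingHom := by
      rw [Ideal.map_map, Ideal.map_map]
      congr 1
      ext b
      simp only [RingHom.comp_apply, RingEquiv.toRingHom_eq_coe, RingHom.coe_coe]
      rw [hε]
    rw [h2] at h1
    have h3 : y ∈ ((J.map (algebraMap B (Localization.Away (eB f')))).map ε.toRingHom).comap
        ε.toRingHom := h1
    rwa [Ideal.comap_map_of_bijective ε.toRingHom ε.bijective] at h3
  · have hmap : J₀' = (J₀'.comap ε.toRingHom).map ε.toRingHom :=
      (Ideal.map_comap_of_surjective _ ε.surjective _).symm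
    let eQ := Ideal.quotientEquiv (J₀'.comap ε.toRingHom) J₀' ε hmap
    refine Groth.Agent.Lib.Seat18.QuotEtale.etale_transport eC.symm eQ _ _ (fun c => ?_) hét'
    simp only [RingHom.comp_apply]
    rw [hφ', ← hε]
    rfl

end Groth.Agent.S18416
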