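import Mathlib
import Groth.Prelude
import Groth.Statements.S18432
import Groth.Agent.Lib.Seat90NodeNFQ

set_option autoImplicit false
universe u
open SpinCurv

namespace Groth.Agent.S18432

open Groth.Agent.Lib.Seat90.NodeNFQ in
/-- Let R be a complete Noetherian local ring, p, q elements of its maximal ideal, A = R[[x, y]]/(xy -
pq), and α(p, q) the A-linear endomorphism of A² with matrix (x p; q y), sending a column (a, b) to
(x a + p b, q a + y b). Then the kernel of α(p, q) is the submodule of A² generated by the columns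
(p, -x) and (y, -q); equivalently the image of α(p, q) (the standard rank-one torsion-free module
E(p, q)) is presented by two generators ξ, v with the relations p ξ = x v and y ξ = q v. -/
theorem result (R : Type u) [CommRing R] [IsNoetherianRing R] [IsLocalRing R]
    [IsAdicComplete (IsLocalRing.maximalIdeal R) R]
    (p q : R) (hp : p ∈ IsLocalRing.maximalIdeal R) (hq : q ∈ IsLocalRing.maximalIdeal R) :
    LinearMap.ker (Matrix.mulVecLin (SpinCurv.nodeAlpha R p q)) =
      Submodule.span (SpinCurv.NodeRing R (p * q))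
        {![algebraMap R (SpinCurv.NodeRing R (p * q)) p, -SpinCurv.NodeRing.x R (p * q)],
         ![SpinCurv.NodeRing.y R (p * q), -algebraMap R (SpinCurv.NodeRing R (p * q)) q]} := by
  have ht : p * q ∈ IsLocalRing.maximalIdeal R := Ideal.mul_mem_right _ _ hp
  have hxy : NodeRing.x R (p * q) * NodeRing.y R (p * q) =
      algebraMap R (NodeRing R (p * q)) p * algebraMap R (NodeRing R (p * q)) q := by
    rw [xy_eq, map_mul]
  apply le_antisymm
  · intro v hv
    rw [LinearMap.mem_ker, Matrix.mulVecLin_apply, mulVec_nodeAlpha] at hv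
    have e1 := congrFun hv 0
    have e2 := congrFun hv 1
    simp only [Matrix.cons_val_zero, Matrix.cons_val_one, Pi.zero_apply] at e1 e2
    obtain ⟨f₁, g₁, h1⟩ := exists_nf (IsLocalRing.maximalIdeal R) (p * q) ht (v 0)
    obtain ⟨f₂, g₂, h2⟩ := exists_nf' (IsLocalRing.maximalIdeal R) (p * q) ht (v 1)
    have k1 : NodeRing.x R (p * q) * NodeRing.ofX R (p * q) (f₁ + PowerSeries.C p * f₂) +
        NodeRing.ofY R (p * q) (PowerSeries.C (p * q) * g₁ + PowerSeries.C p * g₂) = 0 := by
      rw [← e1, h1, h2, ofX_add, ofX_mul, ofX_C, ofY_add, ofY_mul, ofY_mul, ofY_C, ofY_C]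
      linear_combination (- NodeRing.ofY R (p * q) g₁) * xy_eq (p * q)
    have k2 : NodeRing.ofX R (p * q) (PowerSeries.C q * f₁ + PowerSeries.C (p * q) * f₂) +
        NodeRing.y R (p * q) * NodeRing.ofY R (p * q) (PowerSeries.C q * g₁ + g₂) = 0 := by
      rw [← e2, h1, h2, ofX_add, ofX_mul, ofX_mul, ofX_C, ofX_C, ofY_add, ofY_mul, ofY_C]
      linear_combination (- NodeRing.ofX R (p * q) f₂) * xy_eq (p * q)
    obtain ⟨m1, -⟩ := nf_unique' (IsLocalRing.maximalIdeal R) (p * q) ht _ _ k1
    obtain ⟨-, m2⟩ := nf_unique (IsLocalRing.maximalIdeal R) (p * q) ht _ _ k2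
    have n1 : NodeRing.ofX R (p * q) f₁ =
        - (algebraMap R (NodeRing R (p * q)) p * NodeRing.ofX R (p * q) f₂) := by
      have := congrArg (NodeRing.ofX R (p * q)) m1
      rw [ofX_add, ofX_mul, ofX_C] at this
      rw [eq_neg_iff_add_eq_zero, this, ofX_zero]
    have n2 : NodeRing.ofY R (p * q) g₂ =
        - (algebraMap R (NodeRing R (p * q)) q * NodeRing.ofY R (p * q) g₁) := by
      have := congrArg (NodeRing.ofY R (p * q)) m2
      rw [ofY_add, ofY_mul, ofY_C] at this
      rw [eq_neg_iff_add_eq_zero, add_comm, this, ofY_zero]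
    rw [Submodule.mem_span_pair]
    refine ⟨- NodeRing.ofX R (p * q) f₂, NodeRing.ofY R (p * q) g₁, ?_⟩
    funext i
    fin_cases i
    · simp only [Fin.zero_eta, Fin.isValue, Pi.add_apply, Pi.smul_apply, Matrix.cons_val_zero,
        smul_eq_mul]
      rw [h1, n1]
      ring
    · simp only [Fin.mk_one, Fin.isValue, Pi.add_apply, Pi.smul_apply, Matrix.cons_val_one,
        Matrix.cons_val_fin_one, smul_eq_mul]
      rw [h2, n2]
      ring
  · rw [Submodule.span_le]
    intro v hv
    rw [SetLike.mem_coe, LinearMap.mem_ker, Matrix.mulVecLin_apply, mulVec_nodeAlpha]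
    rcases hv with rfl | hv
    · funext i
      fin_cases i
      · simp only [Fin.zero_eta, Fin.isValue, Matrix.cons_val_zero, Matrix.cons_val_one,
          Pi.zero_apply]
        ring
      · simp only [Fin.mk_one, Fin.isValue, Matrix.cons_val_zero, Matrix.cons_val_one,
          Pi.zero_apply]
        linear_combination (-1 : NodeRing R (p * q)) * hxy
    · rw [Set.mem_singleton_iff] at hv
      subst hv
      funext i
      fin_cases i
      · simp only [Fin.zero_eta, Fin.isValue, Matrix.cons_val_zero, Matrix.cons_val_one,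
          Pi.zero_apply]
        linear_combination hxy
      · simp only [Fin.mk_one, Fin.isValue, Matrix.cons_val_zero, Matrix.cons_val_one,
          Pi.zero_apply]
        ring

end Groth.Agent.S18432
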