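import Mathlib
import Groth.Prelude
import Groth.Statements.S18433
import Groth.Agent.Lib.Seat90NodeNFQ

set_option autoImplicit false
universe u
open SpinCurv

namespace Groth.Agent.S18433

open Groth.Agent.Lib.Seat90.NodeNFQ in
/-- Let R be a complete Noetherian local ring, p, q elements of its maximal ideal, A = R[[x, y]]/(xy -
pq), and α(p, q) the endomorphism (a, b) ↦ (x a + p b, q a + y b) of A². Restrict α(p, q) to pairs
(f, g) with f a power series in x alone and g a power series in y alone: the resulting map R[[x]] ×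
R[[y]] → A², (f, g) ↦ (x f + p g, q f + y g), is injective and has the same image as α(p, q). Thus
the image E(p, q) of α(p, q) is identified, R-linearly, with R[[x]] ⊕ R[[y]]. -/
theorem result (R : Type u) [CommRing R] [IsNoetherianRing R] [IsLocalRing R]
    [IsAdicComplete (IsLocalRing.maximalIdeal R) R]
    (p q : R) (hp : p ∈ IsLocalRing.maximalIdeal R) (hq : q ∈ IsLocalRing.maximalIdeal R) :
    Function.Injective (fun fg : PowerSeries R × PowerSeries R =>
        Matrix.mulVec (SpinCurv.nodeAlpha R p q)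
          ![SpinCurv.NodeRing.ofX R (p * q) fg.1, SpinCurv.NodeRing.ofY R (p * q) fg.2]) ∧
    Set.range (fun fg : PowerSeries R × PowerSeries R =>
        Matrix.mulVec (SpinCurv.nodeAlpha R p q)
          ![SpinCurv.NodeRing.ofX R (p * q) fg.1, SpinCurv.NodeRing.ofY R (p * q) fg.2]) =
      Set.range (Matrix.mulVec (SpinCurv.nodeAlpha R p q)) := by
  have ht : p * q ∈ IsLocalRing.maximalIdeal R := Ideal.mul_mem_right _ _ hp
  constructor
  · rintro ⟨f, g⟩ ⟨f', g'⟩ h
    simp only [mulVec_nodeAlpha, Matrix.cons_val_zero, Matrix.cons_val_one,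
      Matrix.cons_val_fin_one] at h
    have e1 := congrFun h 0
    have e2 := congrFun h 1
    simp only [Matrix.cons_val_zero, Matrix.cons_val_one, Matrix.cons_val_fin_one] at e1 e2
    have k1 : NodeRing.x R (p * q) * NodeRing.ofX R (p * q) (f - f') +
        NodeRing.ofY R (p * q) (PowerSeries.C p * (g - g')) = 0 := by
      rw [ofX_sub, ofY_mul, ofY_C, ofY_sub]
      linear_combination e1
    have k2 : NodeRing.ofX R (p * q) (PowerSeries.C q * (f - f')) +
        NodeRing.y R (p * q) * NodeRing.ofY R (p * q) (g - g') = 0 := by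
      rw [ofY_sub, ofX_mul, ofX_C, ofX_sub]
      linear_combination e2
    obtain ⟨m1, -⟩ := nf_unique' (IsLocalRing.maximalIdeal R) (p * q) ht _ _ k1
    obtain ⟨-, m2⟩ := nf_unique (IsLocalRing.maximalIdeal R) (p * q) ht _ _ k2
    rw [sub_eq_zero] at m1 m2
    rw [m1, m2]
  · apply Set.Subset.antisymm
    · rintro _ ⟨fg, rfl⟩
      exact ⟨_, rfl⟩
    · rintro _ ⟨v, rfl⟩
      obtain ⟨f₁, g₁, h1⟩ := exists_nf (IsLocalRing.maximalIdeal R) (p * q) ht (v 0)
      obtain ⟨f₂, g₂, h2⟩ := exists_nf' (IsLocalRing.maximalIdeal R) (p * q) ht (v 1)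
      have hxy : NodeRing.x R (p * q) * NodeRing.y R (p * q) =
          algebraMap R (NodeRing R (p * q)) p * algebraMap R (NodeRing R (p * q)) q := by
        rw [xy_eq, map_mul]
      refine ⟨(f₁ + PowerSeries.C p * f₂, g₂ + PowerSeries.C q * g₁), ?_⟩
      simp only [mulVec_nodeAlpha, Matrix.cons_val_zero, Matrix.cons_val_one,
        Matrix.cons_val_fin_one]
      rw [h1, h2, ofX_add, ofX_mul, ofX_C, ofY_add, ofY_mul, ofY_C]
      funext i
      fin_cases i
      · simp only [Fin.zero_eta, Fin.isValue, Matrix.cons_val_zero]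
        linear_combination (- NodeRing.ofY R (p * q) g₁) * hxy
      · simp only [Fin.mk_one, Fin.isValue, Matrix.cons_val_one, Matrix.cons_val_fin_one]
        linear_combination (- NodeRing.ofX R (p * q) f₂) * hxy

end Groth.Agent.S18433
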