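import Groth.Statements.S18434
import Mathlib.LinearAlgebra.Dimension.Constructions
import Mathlib.LinearAlgebra.Isomorphisms

set_option autoImplicit false
universe u
open SpinCurv

namespace Groth.Agent.S18434

open MvPowerSeries

section

variable (k : Type u) [Field k] (u v : ℕ)

/-- the coefficient map -/
noncomputable def Θ : MvPowerSeries (Fin 2) k →ₗ[k] (Fin u ⊕ Fin (v - 1) → k) :=
  LinearMap.pi (fun s => Sum.elim
    (fun i : Fin u => MvPowerSeries.coeff (R := k) (Finsupp.single (0 : Fin 2) (i : ℕ)))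
    (fun j : Fin (v - 1) => MvPowerSeries.coeff (R := k) (Finsupp.single (1 : Fin 2) ((j : ℕ) + 1))) s)

theorem Θ_inl (f : MvPowerSeries (Fin 2) k) (i : Fin u) :
    Θ k u v f (Sum.inl i) = MvPowerSeries.coeff (Finsupp.single (0 : Fin 2) (i : ℕ)) f := rfl

theorem Θ_inr (f : MvPowerSeries (Fin 2) k) (j : Fin (v - 1)) :
    Θ k u v f (Sum.inr j) = MvPowerSeries.coeff (Finsupp.single (1 : Fin 2) ((j : ℕ) + 1)) f := rfl

end

theorem single0_le (u : ℕ) (m : Fin 2 →₀ ℕ) : Finsupp.single (0 : Fin 2) u ≤ m ↔ u ≤ m 0 := by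
  rw [Finsupp.le_def, Fin.forall_fin_two]
  simp

theorem single1_le (v : ℕ) (m : Fin 2 →₀ ℕ) : Finsupp.single (1 : Fin 2) v ≤ m ↔ v ≤ m 1 := by
  rw [Finsupp.le_def, Fin.forall_fin_two]
  simp

theorem e01_le (m : Fin 2 →₀ ℕ) :
    Finsupp.single (0 : Fin 2) 1 + Finsupp.single (1 : Fin 2) 1 ≤ m ↔ 1 ≤ m 0 ∧ 1 ≤ m 1 := by
  rw [Finsupp.le_def, Fin.forall_fin_two]
  simp

theorem eq_single0 (m : Fin 2 →₀ ℕ) (h : m 1 = 0) : m = Finsupp.single (0 : Fin 2) (m 0) := by
  ext i
  fin_cases i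
  · simp
  · simp [h]

theorem eq_single1 (m : Fin 2 →₀ ℕ) (h : m 0 = 0) : m = Finsupp.single (1 : Fin 2) (m 1) := by
  ext i
  fin_cases i
  · simp [h]
  · simp

/-- a power series from its coefficient function -/
def mkPS (k : Type u) [Field k] (F : (Fin 2 →₀ ℕ) → k) : MvPowerSeries (Fin 2) k := F

theorem coeff_mkPS (k : Type u) [Field k] (F : (Fin 2 →₀ ℕ) → k) (m : Fin 2 →₀ ℕ) :
    MvPowerSeries.coeff m (mkPS k F) = F m := rfl

theorem coeff_XY_mul (k : Type u) [Field k] (g : MvPowerSeries (Fin 2) k) (m : Fin 2 →₀ ℕ) :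
    MvPowerSeries.coeff m (MvPowerSeries.X 0 * MvPowerSeries.X 1 * g) =
      if 1 ≤ m 0 ∧ 1 ≤ m 1 then MvPowerSeries.coeff
        (m - (Finsupp.single (0 : Fin 2) 1 + Finsupp.single (1 : Fin 2) 1)) g else 0 := by
  rw [X_def, X_def, monomial_mul_monomial, coeff_monomial_mul, one_mul, one_mul]
  simp only [e01_le]

theorem coeff_Xu_mul (k : Type u) [Field k] (u : ℕ) (g : MvPowerSeries (Fin 2) k) (m : Fin 2 →₀ ℕ) :
    MvPowerSeries.coeff m (MvPowerSeries.X 0 ^ u * g) =
      if u ≤ m 0 then MvPowerSeries.coeff (m - Finsupp.single (0 : Fin 2) u) g else 0 := by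
  rw [X_pow_eq, coeff_monomial_mul, one_mul]
  simp only [single0_le]

theorem coeff_Xv_mul (k : Type u) [Field k] (v : ℕ) (g : MvPowerSeries (Fin 2) k) (m : Fin 2 →₀ ℕ) :
    MvPowerSeries.coeff m (MvPowerSeries.X 1 ^ v * g) =
      if v ≤ m 1 then MvPowerSeries.coeff (m - Finsupp.single (1 : Fin 2) v) g else 0 := by
  rw [X_pow_eq, coeff_monomial_mul, one_mul]
  simp only [single1_le]

theorem decomp (k : Type u) [Field k] (u v : ℕ) (hv : 1 ≤ v) (f : MvPowerSeries (Fin 2) k)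
    (hf : Θ k u v f = 0) :
    ∃ g h1 h2 : MvPowerSeries (Fin 2) k,
      f = MvPowerSeries.X 0 * MvPowerSeries.X 1 * g + MvPowerSeries.X 0 ^ u * h1 +
        MvPowerSeries.X 1 ^ v * h2 := by
  classical
  refine ⟨mkPS k fun m => MvPowerSeries.coeff
      (m + (Finsupp.single (0 : Fin 2) 1 + Finsupp.single (1 : Fin 2) 1)) f,
    mkPS k fun m => if m 1 = 0 then MvPowerSeries.coeff (m + Finsupp.single 0 u) f else 0,
    mkPS k fun m => if m 0 = 0 then MvPowerSeries.coeff (m + Finsupp.single 1 v) f else 0, ?_⟩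
  ext m
  rw [map_add, map_add, coeff_XY_mul, coeff_Xu_mul, coeff_Xv_mul]
  simp only [coeff_mkPS, Finsupp.tsub_apply]
  have h0 : ∀ i : ℕ, i < u → MvPowerSeries.coeff (Finsupp.single (0 : Fin 2) i) f = 0 := by
    intro i hi
    have := congrFun hf (Sum.inl ⟨i, hi⟩)
    rwa [Θ_inl] at this
  have h1 : ∀ j : ℕ, 1 ≤ j → j < v → MvPowerSeries.coeff (Finsupp.single (1 : Fin 2) j) f = 0 := by
    intro j hj1 hjv
    have := congrFun hf (Sum.inr ⟨j - 1, by omega⟩)
    rw [Θ_inr] at this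
    simp only at this
    rwa [Nat.sub_add_cancel hj1] at this
  have s01 : (Finsupp.single (0 : Fin 2) u) 1 = 0 := by simp
  have s10 : (Finsupp.single (1 : Fin 2) v) 0 = 0 := by simp
  simp only [s01, s10, Nat.sub_zero]
  by_cases hb : m 1 = 0
  · rw [if_neg (show ¬ (1 ≤ m 0 ∧ 1 ≤ m 1) by omega), if_neg (show ¬ (v ≤ m 1) by omega),
      if_pos hb, zero_add, add_zero]
    by_cases ha : u ≤ m 0
    · rw [if_pos ha, tsub_add_cancel_of_le ((single0_le u m).2 ha)]
    · rw [if_neg ha, eq_single0 m hb, h0 _ (by omega)]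
  · rw [if_neg hb]
    by_cases ha : m 0 = 0
    · rw [if_neg (show ¬ (1 ≤ m 0 ∧ 1 ≤ m 1) by omega), if_pos ha, ite_self, zero_add, zero_add]
      by_cases hbv : v ≤ m 1
      · rw [if_pos hbv, tsub_add_cancel_of_le ((single1_le v m).2 hbv)]
      · rw [if_neg hbv, eq_single1 m ha, h1 _ (by omega) (by omega)]
    · rw [if_pos (show (1 ≤ m 0 ∧ 1 ≤ m 1) by omega), if_neg ha, ite_self, ite_self, add_zero,
        add_zero, tsub_add_cancel_of_le ((e01_le m).2 (by omega))]

theorem Θ_mul_XY (k : Type u) [Field k] (u v : ℕ) (g : MvPowerSeries (Fin 2) k) :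
    Θ k u v (MvPowerSeries.X 0 * MvPowerSeries.X 1 * g) = 0 := by
  funext s
  rcases s with i | j
  · rw [Θ_inl, X_def, X_def, monomial_mul_monomial, coeff_monomial_mul, if_neg]
    · rfl
    · rw [e01_le]; simp
  · rw [Θ_inr, X_def, X_def, monomial_mul_monomial, coeff_monomial_mul, if_neg]
    · rfl
    · rw [e01_le]; simp

theorem Θ_mul_Xu (k : Type u) [Field k] (u v : ℕ) (hu : 1 ≤ u) (g : MvPowerSeries (Fin 2) k) :
    Θ k u v (MvPowerSeries.X 0 ^ u * g) = 0 := by
  funext s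
  rcases s with i | j
  · rw [Θ_inl, X_pow_eq, coeff_monomial_mul, if_neg]
    · rfl
    · rw [single0_le]; simp
  · rw [Θ_inr, X_pow_eq, coeff_monomial_mul, if_neg]
    · rfl
    · rw [single0_le]; simp; omega

theorem Θ_mul_Xv (k : Type u) [Field k] (u v : ℕ) (hv : 1 ≤ v) (g : MvPowerSeries (Fin 2) k) :
    Θ k u v (MvPowerSeries.X 1 ^ v * g) = 0 := by
  funext s
  rcases s with i | j
  · rw [Θ_inl, X_pow_eq, coeff_monomial_mul, if_neg]
    · rfl
    · rw [single1_le]; simp; omega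
  · rw [Θ_inr, X_pow_eq, coeff_monomial_mul, if_neg]
    · rfl
    · rw [single1_le]; have := j.2; simp; omega

theorem Θ_surjective (k : Type u) [Field k] (u v : ℕ) : Function.Surjective (Θ k u v) := by
  intro c
  refine ⟨mkPS k fun m => if m 1 = 0 then (if h : m 0 < u then c (Sum.inl ⟨m 0, h⟩) else 0)
    else if m 0 = 0 then (if h : m 1 - 1 < v - 1 then c (Sum.inr ⟨m 1 - 1, h⟩) else 0) else 0, ?_⟩
  funext s
  rcases s with i | j
  · rw [Θ_inl, coeff_mkPS]
    simp
  · rw [Θ_inr, coeff_mkPS]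
    simp

/-- Let k be a field, u, v ≥ 1 integers and w ∈ k nonzero. In the ring A = k[[x, y]]/(xy), the quotient
A/(x^u, w y^v) has dimension u + v - 1 over k (a basis is 1, x, …, x^{u-1}, y, …, y^{v-1}); this is
the length of the cokernel at the node of a map whose image is generated by x^u and w y^v. -/
theorem result (k : Type u) [Field k] (u v : ℕ) (hu : 1 ≤ u) (hv : 1 ≤ v)
    (w : k) (hw : w ≠ 0) :
    Module.finrank k (SpinCurv.NodeRing k 0 ⧸
      Ideal.span {SpinCurv.NodeRing.x k 0 ^ u, algebraMap k (SpinCurv.NodeRing k 0) w * SpinCurv.NodeRing.y k 0 ^ v}) =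
      u + v - 1 := by
  classical
  have key : LinearMap.ker
      (((Ideal.Quotient.mkₐ k (Ideal.span {SpinCurv.NodeRing.x k 0 ^ u,
          algebraMap k (SpinCurv.NodeRing k 0) w * SpinCurv.NodeRing.y k 0 ^ v})).toLinearMap).comp
        (Ideal.Quotient.mkₐ k (Ideal.span {(MvPowerSeries.X 0 * MvPowerSeries.X 1 -
          MvPowerSeries.C (0 : k) : MvPowerSeries (Fin 2) k)})).toLinearMap) =
      LinearMap.ker (Θ k u v) := by
    ext f
    rw [LinearMap.mem_ker, LinearMap.mem_ker, LinearMap.comp_apply]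
    constructor
    · intro h
      change Ideal.Quotient.mk _ (Ideal.Quotient.mk _ f) = 0 at h
      rw [Ideal.Quotient.eq_zero_iff_mem, Ideal.mem_span_pair] at h
      obtain ⟨a, b, hab⟩ := h
      obtain ⟨a', rfl⟩ := Ideal.Quotient.mk_surjective a
      obtain ⟨b', rfl⟩ := Ideal.Quotient.mk_surjective b
      have h2 : Ideal.Quotient.mk (Ideal.span {(MvPowerSeries.X 0 * MvPowerSeries.X 1 -
          MvPowerSeries.C (0 : k) : MvPowerSeries (Fin 2) k)})
          (f - (a' * MvPowerSeries.X 0 ^ u + b' * (MvPowerSeries.C w * MvPowerSeries.X 1 ^ v))) = 0 := by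
        rw [map_sub, sub_eq_zero, ← hab]
        simp only [map_add, map_mul, map_pow]
        rfl
      rw [Ideal.Quotient.eq_zero_iff_mem, Ideal.mem_span_singleton'] at h2
      obtain ⟨d, hd⟩ := h2
      have h3 : f = MvPowerSeries.X 0 * MvPowerSeries.X 1 * d + MvPowerSeries.X 0 ^ u * a' +
          MvPowerSeries.X 1 ^ v * (MvPowerSeries.C w * b') := by
        have : f = d * (MvPowerSeries.X 0 * MvPowerSeries.X 1 - MvPowerSeries.C (0 : k)) +
            (a' * MvPowerSeries.X 0 ^ u + b' * (MvPowerSeries.C w * MvPowerSeries.X 1 ^ v)) := by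
          rw [hd]; ring
        rw [this, map_zero]; ring
      rw [h3, map_add, map_add, Θ_mul_XY, Θ_mul_Xu k u v hu, Θ_mul_Xv k u v hv, add_zero, add_zero]
    · intro h
      obtain ⟨g, h1, h2, rfl⟩ := decomp k u v hv f h
      change Ideal.Quotient.mk _ (Ideal.Quotient.mk _ _) = 0
      rw [Ideal.Quotient.eq_zero_iff_mem]
      simp only [map_add, map_mul, map_pow]
      have hxy : (Ideal.Quotient.mk (Ideal.span {(MvPowerSeries.X 0 * MvPowerSeries.X 1 -
          MvPowerSeries.C (0 : k) : MvPowerSeries (Fin 2) k)})) (MvPowerSeries.X 0) *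
          (Ideal.Quotient.mk _) (MvPowerSeries.X 1) = 0 := by
        rw [← map_mul, Ideal.Quotient.eq_zero_iff_mem]
        rw [Ideal.mem_span_singleton']
        exact ⟨1, by rw [one_mul, map_zero, sub_zero]⟩
      rw [hxy, zero_mul, zero_add]
      refine Ideal.add_mem _ (Ideal.mul_mem_right _ _ (Ideal.subset_span (by simp))) ?_
      refine Ideal.mul_mem_right _ _ ?_
      have hy : SpinCurv.NodeRing.y k 0 ^ v = algebraMap k (SpinCurv.NodeRing k 0) w⁻¹ *
          (algebraMap k (SpinCurv.NodeRing k 0) w * SpinCurv.NodeRing.y k 0 ^ v) := by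
        rw [← mul_assoc, ← map_mul, inv_mul_cancel₀ hw, map_one, one_mul]
      change SpinCurv.NodeRing.y k 0 ^ v ∈ _
      rw [Ideal.mem_span_pair]
      exact ⟨0, algebraMap k (SpinCurv.NodeRing k 0) w⁻¹, by rw [zero_mul, zero_add]; exact hy.symm⟩
  have hsurj : Function.Surjective
      (((Ideal.Quotient.mkₐ k (Ideal.span {SpinCurv.NodeRing.x k 0 ^ u,
          algebraMap k (SpinCurv.NodeRing k 0) w * SpinCurv.NodeRing.y k 0 ^ v})).toLinearMap).comp
        (Ideal.Quotient.mkₐ k (Ideal.span {(MvPowerSeries.X 0 * MvPowerSeries.X 1 -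
          MvPowerSeries.C (0 : k) : MvPowerSeries (Fin 2) k)})).toLinearMap) := by
    intro z
    obtain ⟨z', rfl⟩ := Ideal.Quotient.mk_surjective z
    obtain ⟨z'', rfl⟩ := Ideal.Quotient.mk_surjective z'
    exact ⟨z'', rfl⟩
  have e1 := LinearMap.quotKerEquivOfSurjective _ hsurj
  have e2 := LinearMap.quotKerEquivOfSurjective _ (Θ_surjective k u v)
  have e3 := Submodule.quotEquivOfEq _ _ key
  rw [← LinearEquiv.finrank_eq (e1.symm.trans (e3.trans e2)).symm,
    Module.finrank_fintype_fun_eq_card, Fintype.card_sum, Fintype.card_fin, Fintype.card_fin]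
  omega

end Groth.Agent.S18434

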