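import Groth.Statements.S18435
import Groth.Agent.Lib.Seat90PolyNode2

set_option autoImplicit false
universe u
open SpinCurv

namespace Groth.Agent.S18435

open Groth.Agent.Lib.Seat90.PolyNode

theorem result (k : Type u) [Field k]
    (rU : SpinCurv.PolyNodeRing k 0 →ₐ[k] SpinCurv.PolyNodeRing k 0)
    (hrUx : rU (SpinCurv.PolyNodeRing.x k 0) = 0)
    (hrUy : rU (SpinCurv.PolyNodeRing.y k 0) = SpinCurv.PolyNodeRing.y k 0)
    (rV : SpinCurv.PolyNodeRing k 0 →ₐ[k] SpinCurv.PolyNodeRing k 0)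
    (hrVx : rV (SpinCurv.PolyNodeRing.x k 0) = SpinCurv.PolyNodeRing.y k 0)
    (hrVy : rV (SpinCurv.PolyNodeRing.y k 0) = 0)
    (gU : SpinCurv.PolyNodeRing k 0 →ₐ[k] LaurentPolynomial k)
    (hgUs : gU (SpinCurv.PolyNodeRing.x k 0) = LaurentPolynomial.T 1)
    (hgUy : gU (SpinCurv.PolyNodeRing.y k 0) = 0)
    (gV : SpinCurv.PolyNodeRing k 0 →ₐ[k] LaurentPolynomial k)
    (hgVt : gV (SpinCurv.PolyNodeRing.x k 0) = LaurentPolynomial.T (-1))
    (hgVx : gV (SpinCurv.PolyNodeRing.y k 0) = 0)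
    (g f : SpinCurv.PolyNodeRing k 0) (hsec : gU g = LaurentPolynomial.T 1 * gV f)
    (hx : rU (SpinCurv.PolyNodeRing.x k 0) * g = 0 ∧ rV (SpinCurv.PolyNodeRing.x k 0) * f = 0)
    (hy : rU (SpinCurv.PolyNodeRing.y k 0) * g = 0 ∧ rV (SpinCurv.PolyNodeRing.y k 0) * f = 0) :
    g = 0 ∧ f = 0 := by
  have hyg : PolyNodeRing.y k 0 * g = 0 := by rw [← hrUy]; exact hy.1
  have hyf : PolyNodeRing.y k 0 * f = 0 := by rw [← hrVx]; exact hx.2
  -- vanishing of nonpositive coordinates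
  have low : ∀ h : PolyNodeRing k 0, PolyNodeRing.y k 0 * h = 0 → ∀ n : ℤ, n ≤ 0 → Φ k 0 h n = 0 := by
    intro h hh n hn
    have := Φ_y_mul k 0 h (n - 1)
    rw [hh, map_zero, if_pos (by omega), one_mul, sub_add_cancel] at this
    exact this.symm
  have hg0 := low g hyg
  have hf0 := low f hyf
  have hgU : ∀ a : ℤ, (gU g).coeff a = (0 : k) ^ (-a).toNat * Φ k 0 g a :=
    coeff_hom_pos k 0 gU 0 hgUs (by rw [hgUy]; simp) g
  have hgV : ∀ a : ℤ, (gV f).coeff a = (0 : k) ^ a.toNat * Φ k 0 f (-a) :=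
    coeff_hom_neg k 0 gV 0 hgVt (by rw [hgVx]; simp) f
  have hcoef : ∀ a : ℤ, (0 : k) ^ (-a).toNat * Φ k 0 g a = (0 : k) ^ (a - 1).toNat * Φ k 0 f (-(a - 1)) := by
    intro a
    rw [← hgU, ← hgV, hsec, coeff_T_mul]
  constructor
  · refine Φ_injective k 0 (Eq.trans ?_ (map_zero (Φ k 0)).symm)
    ext a
    rw [Finsupp.zero_apply]
    by_cases ha : a ≤ 0
    · exact hg0 a ha
    · have h1 := hcoef a
      have e1 : (-a).toNat = 0 := by omega
      rw [e1, pow_zero, one_mul] at h1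
      rw [h1]
      by_cases ha1 : a = 1
      · subst ha1
        simp only [sub_self, Int.toNat_zero, pow_zero, one_mul, neg_zero]
        exact hf0 0 le_rfl
      · have e2 : (a - 1).toNat ≠ 0 := by omega
        rw [zero_pow e2, zero_mul]
  · refine Φ_injective k 0 (Eq.trans ?_ (map_zero (Φ k 0)).symm)
    ext n
    rw [Finsupp.zero_apply]
    by_cases hn : n ≤ 0
    · exact hf0 n hn
    · have h1 := hcoef (1 - n)
      have e1 : (1 - n - 1).toNat = 0 := by omega
      have e2 : -(1 - n - 1) = n := by ring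
      rw [e1, e2, pow_zero, one_mul] at h1
      rw [← h1]
      by_cases hn1 : n = 1
      · subst hn1
        simp only [sub_self, neg_zero, Int.toNat_zero, pow_zero, one_mul]
        exact hg0 0 le_rfl
      · have e3 : (-(1 - n)).toNat ≠ 0 := by omega
        rw [zero_pow e3, zero_mul]

end Groth.Agent.S18435
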