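import Groth.Statements.S18437
import Groth.Agent.Lib.Seat90PolyNode3

set_option autoImplicit false
universe u
open SpinCurv

namespace Groth.Agent.S18437

open Groth.Agent.Lib.Seat90.PolyNode

section

variable {R : Type u} [CommRing R] {p q : R}
  (rU : SpinCurv.PolyNodeRing R (p * q) →ₐ[R] SpinCurv.PolyNodeRing R q)
  (rV : SpinCurv.PolyNodeRing R (p * q) →ₐ[R] SpinCurv.PolyNodeRing R p)
  (n : ℕ)

/-- the section map as an `R`-linear map -/
noncomputable def S : (Fin (n + 1) → PolyNodeRing R (p * q)) →ₗ[R] PolyNodeRing R q × PolyNodeRing R p :=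
  LinearMap.prod
    (∑ i : Fin (n + 1), (LinearMap.mulRight R (PolyNodeRing.x R q ^ (n - (i : ℕ)))).comp
      (rU.toLinearMap.comp (LinearMap.proj i)))
    (∑ i : Fin (n + 1), (LinearMap.mulRight R (PolyNodeRing.x R p ^ (i : ℕ))).comp
      (rV.toLinearMap.comp (LinearMap.proj i)))

theorem S_apply (F : Fin (n + 1) → PolyNodeRing R (p * q)) :
    S rU rV n F = (∑ i : Fin (n + 1), rU (F i) * PolyNodeRing.x R q ^ (n - (i : ℕ)),
      ∑ i : Fin (n + 1), rV (F i) * PolyNodeRing.x R p ^ (i : ℕ)) := by
  simp [S]

theorem S_single (i : Fin (n + 1)) (z : PolyNodeRing R (p * q)) :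
    S rU rV n (Pi.single i z) =
      (rU z * PolyNodeRing.x R q ^ (n - (i : ℕ)), rV z * PolyNodeRing.x R p ^ (i : ℕ)) := by
  rw [S_apply]
  congr 1
  · rw [Finset.sum_eq_single i]
    · rw [Pi.single_eq_same]
    · intro j _ hj; rw [Pi.single_eq_of_ne hj, map_zero, zero_mul]
    · intro h; exact absurd (Finset.mem_univ i) h
  · rw [Finset.sum_eq_single i]
    · rw [Pi.single_eq_same]
    · intro j _ hj; rw [Pi.single_eq_of_ne hj, map_zero, zero_mul]
    · intro h; exact absurd (Finset.mem_univ i) h

theorem S_smul (a : PolyNodeRing R (p * q)) (F : Fin (n + 1) → PolyNodeRing R (p * q)) :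
    S rU rV n (a • F) = (rU a * (S rU rV n F).1, rV a * (S rU rV n F).2) := by
  rw [S_apply, S_apply]
  simp only [Pi.smul_apply, smul_eq_mul, map_mul, Finset.mul_sum, mul_assoc]

/-- the standard lifts of the basis of sections -/
noncomputable def mm (a : ℤ) : Fin (n + 1) → PolyNodeRing R (p * q) :=
  if h : a < 0 then Pi.single (Fin.last n) (e R (p * q) a)
  else if h' : a ≤ n then Pi.single ⟨(n - a).toNat, by omega⟩ 1
  else Pi.single 0 (e R (p * q) (a - n))

variable (hrUx : rU (SpinCurv.PolyNodeRing.x R (p * q)) = algebraMap R _ p * SpinCurv.PolyNodeRing.x R q)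
    (hrUy : rU (SpinCurv.PolyNodeRing.y R (p * q)) = SpinCurv.PolyNodeRing.y R q)
    (hrVx : rV (SpinCurv.PolyNodeRing.x R (p * q)) = SpinCurv.PolyNodeRing.y R p)
    (hrVy : rV (SpinCurv.PolyNodeRing.y R (p * q)) = algebraMap R _ q * SpinCurv.PolyNodeRing.x R p)

include hrUx hrUy hrVx hrVy in
theorem S_mm (a : ℤ) : S rU rV n (mm (R := R) (p := p) (q := q) n a) = v R p q (n : ℤ) a := by
  unfold mm v
  by_cases h : a < 0
  · rw [dif_pos h, if_neg (by omega), S_single, hom_e_left (p * q) p rU hrUx hrUy,
      hom_e_right (p * q) q rV hrVx hrVy]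
    have e1 : a.toNat = 0 := by omega
    simp only [Fin.val_last, Nat.sub_self, pow_zero, mul_one, e1, one_smul]
    congr 1
    rw [smul_mul_assoc, e_mul_x_pow]
    have e2 : (- -a).toNat = 0 := by omega
    have e3 : -a + (n : ℤ) = n - a := by ring
    rw [e2, Nat.min_zero, pow_zero, one_smul, e3]
  · rw [dif_neg h, if_pos (by omega)]
    by_cases h' : a ≤ n
    · rw [dif_pos h', S_single, map_one, map_one, one_mul, one_mul]
      have e1 : (a - (n : ℤ)).toNat = 0 := by omega
      rw [e1, pow_zero, one_smul]
      obtain ⟨m, rfl⟩ := Int.eq_ofNat_of_zero_le (not_lt.1 h)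
      have hm : m ≤ n := by omega
      have e2 : ((n : ℤ) - (m : ℤ)).toNat = n - m := by omega
      simp only [e2]
      have e3 : n - (n - m) = m := by omega
      have e4 : ((n : ℤ) - (m : ℤ)) = ((n - m : ℕ) : ℤ) := by omega
      rw [e3, e4, e_natCast, e_natCast]
    · rw [dif_neg h', S_single, hom_e_left (p * q) p rU hrUx hrUy,
        hom_e_right (p * q) q rV hrVx hrVy]
      have e1 : (-(a - (n : ℤ))).toNat = 0 := by omega
      simp only [Fin.val_zero, Nat.sub_zero, pow_zero, mul_one, e1, one_smul]
      congr 1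
      · rw [smul_mul_assoc, e_mul_x_pow]
        have e2 : (-(a - (n : ℤ))).toNat = 0 := by omega
        have e3 : a - (n : ℤ) + (n : ℤ) = a := by ring
        rw [e2, Nat.min_zero, pow_zero, one_smul, e3]
      · congr 1; ring

end

section Rel

variable {R : Type u} [CommRing R] {p q : R} (n : ℕ)

/-- the generators of the module of relations -/
def gens : Set (Fin (n + 1) → PolyNodeRing R (p * q)) :=
  Set.range (fun i : Fin n =>
      (Pi.single (Fin.castSucc i) (algebraMap R (SpinCurv.PolyNodeRing R (p * q)) p) -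
        Pi.single (Fin.succ i) (SpinCurv.PolyNodeRing.x R (p * q)) : Fin (n + 1) → SpinCurv.PolyNodeRing R (p * q))) ∪
   Set.range (fun i : Fin n =>
      (Pi.single (Fin.castSucc i) (SpinCurv.PolyNodeRing.y R (p * q)) -
        Pi.single (Fin.succ i) (algebraMap R (SpinCurv.PolyNodeRing R (p * q)) q) : Fin (n + 1) → SpinCurv.PolyNodeRing R (p * q)))

/-- the module of relations -/
noncomputable def Rel : Submodule (PolyNodeRing R (p * q)) (Fin (n + 1) → PolyNodeRing R (p * q)) :=
  Submodule.span (PolyNodeRing R (p * q)) (gens (R := R) (p := p) (q := q) n)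

theorem rel1_mem (i : Fin n) :
    (Pi.single (Fin.castSucc i) (algebraMap R (SpinCurv.PolyNodeRing R (p * q)) p) -
        Pi.single (Fin.succ i) (SpinCurv.PolyNodeRing.x R (p * q)) : Fin (n + 1) → SpinCurv.PolyNodeRing R (p * q)) ∈
      Rel (R := R) (p := p) (q := q) n :=
  Submodule.subset_span (Or.inl ⟨i, rfl⟩)

theorem rel2_mem (i : Fin n) :
    (Pi.single (Fin.castSucc i) (SpinCurv.PolyNodeRing.y R (p * q)) -
        Pi.single (Fin.succ i) (algebraMap R (SpinCurv.PolyNodeRing R (p * q)) q) : Fin (n + 1) → SpinCurv.PolyNodeRing R (p * q)) ∈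
      Rel (R := R) (p := p) (q := q) n :=
  Submodule.subset_span (Or.inr ⟨i, rfl⟩)

theorem rsmul_mem (r : R) {F : Fin (n + 1) → PolyNodeRing R (p * q)}
    (hF : F ∈ Rel (R := R) (p := p) (q := q) n) : r • F ∈ Rel (R := R) (p := p) (q := q) n :=
  Submodule.smul_of_tower_mem _ r hF

theorem single_smul_eq (i : Fin (n + 1)) (a z : PolyNodeRing R (p * q)) :
    (Pi.single i (a * z) : Fin (n + 1) → PolyNodeRing R (p * q)) = a • Pi.single i z := by
  ext j
  by_cases hj : j = i
  · subst hj; simp
  · simp [Pi.single_eq_of_ne hj]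

theorem single_rsmul_eq (i : Fin (n + 1)) (r : R) (z : PolyNodeRing R (p * q)) :
    (Pi.single i (r • z) : Fin (n + 1) → PolyNodeRing R (p * q)) = r • Pi.single i z := by
  ext j
  by_cases hj : j = i
  · subst hj; simp
  · simp [Pi.single_eq_of_ne hj]

/-- reduction of `x^m e_i` -/
theorem red_x (m : ℕ) : ∀ i : Fin (n + 1), ∃ (a : ℤ) (r : R),
    (Pi.single i (PolyNodeRing.x R (p * q) ^ m) : Fin (n + 1) → PolyNodeRing R (p * q)) -
      r • mm (R := R) (p := p) (q := q) n a ∈ Rel (R := R) (p := p) (q := q) n := by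
  induction m with
  | zero =>
    intro i
    refine ⟨(n : ℤ) - (i : ℕ), 1, ?_⟩
    have hi := i.2
    have : mm (R := R) (p := p) (q := q) n ((n : ℤ) - (i : ℕ)) = Pi.single i 1 := by
      unfold mm
      rw [dif_neg (by omega), dif_pos (by omega)]
      congr 1
      apply Fin.ext
      simp only
      omega
    rw [this, pow_zero, one_smul, sub_self]
    exact Submodule.zero_mem _
  | succ m ih =>
    intro i
    induction i using Fin.cases with
    | zero =>
      refine ⟨(n : ℤ) + (m + 1 : ℕ), 1, ?_⟩
      have : mm (R := R) (p := p) (q := q) n ((n : ℤ) + (m + 1 : ℕ)) =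
          Pi.single 0 (PolyNodeRing.x R (p * q) ^ (m + 1)) := by
        unfold mm
        rw [dif_neg (by omega), dif_neg (by omega)]
        have : (n : ℤ) + (m + 1 : ℕ) - n = ((m + 1 : ℕ) : ℤ) := by ring
        rw [this, e_natCast]
      rw [this, one_smul, sub_self]
      exact Submodule.zero_mem _
    | succ j =>
      obtain ⟨a, r, har⟩ := ih (Fin.castSucc j)
      refine ⟨a, p * r, ?_⟩
      have h1 : (Pi.single (Fin.succ j) (PolyNodeRing.x R (p * q) ^ (m + 1)) :
          Fin (n + 1) → PolyNodeRing R (p * q)) - p • (Pi.single (Fin.castSucc j) (PolyNodeRing.x R (p * q) ^ m) :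
            Fin (n + 1) → PolyNodeRing R (p * q)) =
          -(PolyNodeRing.x R (p * q) ^ m •
            ((Pi.single (Fin.castSucc j) (algebraMap R (SpinCurv.PolyNodeRing R (p * q)) p) -
              Pi.single (Fin.succ j) (SpinCurv.PolyNodeRing.x R (p * q)) :
                Fin (n + 1) → SpinCurv.PolyNodeRing R (p * q)))) := by
        rw [smul_sub, ← single_smul_eq, ← single_smul_eq, ← pow_succ, ← single_rsmul_eq, smul_eq,
          mul_comm (algebraMap R (PolyNodeRing R (p * q)) p)]
        abel
      have h2 : (Pi.single (Fin.succ j) (PolyNodeRing.x R (p * q) ^ (m + 1)) :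
          Fin (n + 1) → PolyNodeRing R (p * q)) - (p * r) • mm (R := R) (p := p) (q := q) n a =
          ((Pi.single (Fin.succ j) (PolyNodeRing.x R (p * q) ^ (m + 1)) :
            Fin (n + 1) → PolyNodeRing R (p * q)) - p • (Pi.single (Fin.castSucc j) (PolyNodeRing.x R (p * q) ^ m) :
            Fin (n + 1) → PolyNodeRing R (p * q))) +
          p • ((Pi.single (Fin.castSucc j) (PolyNodeRing.x R (p * q) ^ m) :
            Fin (n + 1) → PolyNodeRing R (p * q)) - r • mm (R := R) (p := p) (q := q) n a) := by
        rw [smul_sub, mul_smul]; abel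
      rw [h2, h1]
      exact Submodule.add_mem _ (Submodule.neg_mem _ (Submodule.smul_mem _ _ (rel1_mem n j)))
        (rsmul_mem n p har)

/-- reduction of `y^m e_i` -/
theorem red_y (m : ℕ) : ∀ i : Fin (n + 1), ∃ (a : ℤ) (r : R),
    (Pi.single i (PolyNodeRing.y R (p * q) ^ m) : Fin (n + 1) → PolyNodeRing R (p * q)) -
      r • mm (R := R) (p := p) (q := q) n a ∈ Rel (R := R) (p := p) (q := q) n := by
  induction m with
  | zero =>
    intro i
    have := red_x (R := R) (p := p) (q := q) n 0 i
    simpa using this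
  | succ m ih =>
    intro i
    induction i using Fin.lastCases with
    | last =>
      refine ⟨-((m + 1 : ℕ) : ℤ), 1, ?_⟩
      have : mm (R := R) (p := p) (q := q) n (-((m + 1 : ℕ) : ℤ)) =
          Pi.single (Fin.last n) (PolyNodeRing.y R (p * q) ^ (m + 1)) := by
        unfold mm
        rw [dif_pos (by omega), e_neg_natCast]
      rw [this, one_smul, sub_self]
      exact Submodule.zero_mem _
    | cast j =>
      obtain ⟨a, r, har⟩ := ih (Fin.succ j)
      refine ⟨a, q * r, ?_⟩
      have h1 : (Pi.single (Fin.castSucc j) (PolyNodeRing.y R (p * q) ^ (m + 1)) :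
          Fin (n + 1) → PolyNodeRing R (p * q)) - q • (Pi.single (Fin.succ j) (PolyNodeRing.y R (p * q) ^ m) :
            Fin (n + 1) → PolyNodeRing R (p * q)) =
          (PolyNodeRing.y R (p * q) ^ m •
            ((Pi.single (Fin.castSucc j) (SpinCurv.PolyNodeRing.y R (p * q)) -
              Pi.single (Fin.succ j) (algebraMap R (SpinCurv.PolyNodeRing R (p * q)) q) :
                Fin (n + 1) → SpinCurv.PolyNodeRing R (p * q)))) := by
        rw [smul_sub, ← single_smul_eq, ← single_smul_eq, ← pow_succ, ← single_rsmul_eq, smul_eq,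
          mul_comm (algebraMap R (PolyNodeRing R (p * q)) q)]
      have h2 : (Pi.single (Fin.castSucc j) (PolyNodeRing.y R (p * q) ^ (m + 1)) :
          Fin (n + 1) → PolyNodeRing R (p * q)) - (q * r) • mm (R := R) (p := p) (q := q) n a =
          ((Pi.single (Fin.castSucc j) (PolyNodeRing.y R (p * q) ^ (m + 1)) :
            Fin (n + 1) → PolyNodeRing R (p * q)) - q • (Pi.single (Fin.succ j) (PolyNodeRing.y R (p * q) ^ m) :
            Fin (n + 1) → PolyNodeRing R (p * q))) +
          q • ((Pi.single (Fin.succ j) (PolyNodeRing.y R (p * q) ^ m) :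
            Fin (n + 1) → PolyNodeRing R (p * q)) - r • mm (R := R) (p := p) (q := q) n a) := by
        rw [smul_sub, mul_smul]; abel
      rw [h2, h1]
      exact Submodule.add_mem _ (Submodule.smul_mem _ _ (rel2_mem n j)) (rsmul_mem n q har)

theorem red_e (k : ℤ) (i : Fin (n + 1)) : ∃ (a : ℤ) (r : R),
    (Pi.single i (e R (p * q) k) : Fin (n + 1) → PolyNodeRing R (p * q)) -
      r • mm (R := R) (p := p) (q := q) n a ∈ Rel (R := R) (p := p) (q := q) n := by
  unfold e
  split_ifs
  · exact red_x n _ i
  · exact red_y n _ i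

/-- every vector is congruent modulo the relations to a combination of the standard lifts -/
theorem exists_red (F : Fin (n + 1) → PolyNodeRing R (p * q)) : ∃ r : ℤ →₀ R,
    F - Finsupp.linearCombination R (mm (R := R) (p := p) (q := q) n) r ∈
      Rel (R := R) (p := p) (q := q) n := by
  classical
  let T : Submodule R (Fin (n + 1) → PolyNodeRing R (p * q)) :=
    { carrier := {F | ∃ r : ℤ →₀ R,
        F - Finsupp.linearCombination R (mm (R := R) (p := p) (q := q) n) r ∈
          Rel (R := R) (p := p) (q := q) n}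
      add_mem' := by
        rintro F G ⟨r, hr⟩ ⟨s, hs⟩
        refine ⟨r + s, ?_⟩
        have : F + G - Finsupp.linearCombination R (mm (R := R) (p := p) (q := q) n) (r + s) =
            (F - Finsupp.linearCombination R (mm (R := R) (p := p) (q := q) n) r) +
            (G - Finsupp.linearCombination R (mm (R := R) (p := p) (q := q) n) s) := by
          rw [map_add]; abel
        rw [this]
        exact Submodule.add_mem _ hr hs
      zero_mem' := ⟨0, by rw [map_zero, sub_zero]; exact Submodule.zero_mem _⟩
      smul_mem' := by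
        rintro c F ⟨r, hr⟩
        refine ⟨c • r, ?_⟩
        have : c • F - Finsupp.linearCombination R (mm (R := R) (p := p) (q := q) n) (c • r) =
            c • (F - Finsupp.linearCombination R (mm (R := R) (p := p) (q := q) n) r) := by
          rw [map_smul, smul_sub]
        rw [this]
        exact rsmul_mem n c hr }
  have hsingle : ∀ (i : Fin (n + 1)) (z : PolyNodeRing R (p * q)), (Pi.single i z :
      Fin (n + 1) → PolyNodeRing R (p * q)) ∈ T := by
    intro i z
    have hz : z ∈ T.comap (LinearMap.single R (fun _ : Fin (n + 1) => PolyNodeRing R (p * q)) i) := by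
      rw [eq_sum R (p * q) z, Finsupp.sum]
      refine Submodule.sum_mem _ fun k _ => Submodule.smul_mem _ _ ?_
      rw [Submodule.mem_comap]
      change (Pi.single i (e R (p * q) k) : Fin (n + 1) → PolyNodeRing R (p * q)) ∈ T
      obtain ⟨a, r, har⟩ := red_e (R := R) (p := p) (q := q) n k i
      refine ⟨Finsupp.single a r, ?_⟩
      rw [Finsupp.linearCombination_single]
      exact har
    exact hz
  have : F ∈ T := by
    rw [← Finset.univ_sum_single F]
    exact Submodule.sum_mem _ fun i _ => hsingle i (F i)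
  exact this

end Rel

/-- Let R be a commutative ring and p, q ∈ R; put A = R[x, y]/(xy - pq) and consider the two affine
charts U = Spec R[s, y]/(sy - q) and V = Spec R[t, x]/(xt - p) of the curve obtained from Spec A by
blowing up as in the (p, q)-construction, glued along R[s, s⁻¹] by t = s⁻¹ (so y = q s⁻¹ on U and x
= p s on V), with the projection to Spec A given by x ↦ p s, y ↦ y on U and x ↦ x, y ↦ q t on V. For
n ≥ 0 the twisting sheaf O(n) is vⁿ O on U and ξⁿ O on V with ξ = s v, so its global sections are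
the pairs (g, f) of functions on U and V with g = sⁿ f on U ∩ V. Then the map A^{n+1} → O(U) × O(V)
sending (F_0, …, F_n), i.e. the section Σ F_i ξ^{n-i} v^i, to (Σ F_i|_U s^{n-i}, Σ F_i|_V t^i) has
image exactly the set of such pairs, and F is sent to zero exactly when it lies in the A-submodule
of A^{n+1} generated by the vectors p e_i - x e_{i+1} and y e_i - q e_{i+1} for 0 ≤ i < n (e_0, …,
e_n the standard basis). So the global sections of O(n) form the degree-n piece of A[ξ, v]/(p ξ - x
v, q v - y ξ). For n = 0 this says that a ↦ (a|_U, a|_V) is injective on A with image the pairs of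
functions that agree on U ∩ V, so that the functions on the blown-up curve are exactly the functions
on Spec A (the direct image of its structure sheaf is the structure sheaf of Spec A); for n = 1 it
presents the global sections of O(1) as A ξ ⊕ A v modulo the relations p ξ = x v and y ξ = q v. Here
R[s, y]/(sy - q) and R[t, x]/(xt - p) are both written as the quotient of the polynomial ring in two
variables by (first variable)·(second variable) - constant, the homomorphisms rU, rV are the
restriction maps from A to the two charts and gU, gV the restriction maps from the charts to their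
intersection R[s, s⁻¹] (Laurent polynomials), each pinned by its values on the two generators. (The
published setting has R complete local and p, q in the maximal ideal, and reduces to this polynomial
computation, which uses neither.) -/
theorem result (R : Type u) [CommRing R] (p q : R)
    (rU : SpinCurv.PolyNodeRing R (p * q) →ₐ[R] SpinCurv.PolyNodeRing R q)
    (hrUx : rU (SpinCurv.PolyNodeRing.x R (p * q)) = algebraMap R _ p * SpinCurv.PolyNodeRing.x R q)
    (hrUy : rU (SpinCurv.PolyNodeRing.y R (p * q)) = SpinCurv.PolyNodeRing.y R q)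
    (rV : SpinCurv.PolyNodeRing R (p * q) →ₐ[R] SpinCurv.PolyNodeRing R p)
    (hrVx : rV (SpinCurv.PolyNodeRing.x R (p * q)) = SpinCurv.PolyNodeRing.y R p)
    (hrVy : rV (SpinCurv.PolyNodeRing.y R (p * q)) = algebraMap R _ q * SpinCurv.PolyNodeRing.x R p)
    (gU : SpinCurv.PolyNodeRing R q →ₐ[R] LaurentPolynomial R)
    (hgUs : gU (SpinCurv.PolyNodeRing.x R q) = LaurentPolynomial.T 1)
    (hgUy : gU (SpinCurv.PolyNodeRing.y R q) = LaurentPolynomial.C q * LaurentPolynomial.T (-1))
    (gV : SpinCurv.PolyNodeRing R p →ₐ[R] LaurentPolynomial R)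
    (hgVt : gV (SpinCurv.PolyNodeRing.x R p) = LaurentPolynomial.T (-1))
    (hgVx : gV (SpinCurv.PolyNodeRing.y R p) = LaurentPolynomial.C p * LaurentPolynomial.T 1) (n : ℕ) :
    Set.range (fun F : Fin (n + 1) → SpinCurv.PolyNodeRing R (p * q) =>
        (∑ i : Fin (n + 1), rU (F i) * SpinCurv.PolyNodeRing.x R q ^ (n - (i : ℕ)),
         ∑ i : Fin (n + 1), rV (F i) * SpinCurv.PolyNodeRing.x R p ^ (i : ℕ))) =
      {gf : SpinCurv.PolyNodeRing R q × SpinCurv.PolyNodeRing R p |
        gU gf.1 = LaurentPolynomial.T (n : ℤ) * gV gf.2} ∧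
    {F : Fin (n + 1) → SpinCurv.PolyNodeRing R (p * q) |
        (∑ i : Fin (n + 1), rU (F i) * SpinCurv.PolyNodeRing.x R q ^ (n - (i : ℕ)),
         ∑ i : Fin (n + 1), rV (F i) * SpinCurv.PolyNodeRing.x R p ^ (i : ℕ)) = 0} =
      (Submodule.span (SpinCurv.PolyNodeRing R (p * q))
        (Set.range (fun i : Fin n =>
            (Pi.single (Fin.castSucc i) (algebraMap R (SpinCurv.PolyNodeRing R (p * q)) p) -
              Pi.single (Fin.succ i) (SpinCurv.PolyNodeRing.x R (p * q)) : Fin (n + 1) → SpinCurv.PolyNodeRing R (p * q))) ∪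
         Set.range (fun i : Fin n =>
            (Pi.single (Fin.castSucc i) (SpinCurv.PolyNodeRing.y R (p * q)) -
              Pi.single (Fin.succ i) (algebraMap R (SpinCurv.PolyNodeRing R (p * q)) q) : Fin (n + 1) → SpinCurv.PolyNodeRing R (p * q)))) :
        Set (Fin (n + 1) → SpinCurv.PolyNodeRing R (p * q))) := by
  classical
  have hcomp : ∀ z, gU (rU z) = gV (rV z) := by
    have h : gU.comp rU = gV.comp rV := by
      apply algHom_ext
      · rw [AlgHom.comp_apply, AlgHom.comp_apply, hrUx, hrVx, map_mul, AlgHom.commutes, hgUs, hgVx]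
        rfl
      · rw [AlgHom.comp_apply, AlgHom.comp_apply, hrUy, hrVy, map_mul, AlgHom.commutes, hgUy, hgVt]
        rfl
    exact fun z => DFunLike.congr_fun h z
  have hn : (-1 : ℤ) ≤ (n : ℤ) := by omega
  have hker : ∀ gf : PolyNodeRing R q × PolyNodeRing R p,
      gU gf.1 = LaurentPolynomial.T (n : ℤ) * gV gf.2 ↔
        gf ∈ LinearMap.ker (Λ R p q gU gV (n : ℤ)) := by
    intro gf
    rw [LinearMap.mem_ker, Λ_apply, sub_eq_zero]
  have hSmm : (fun a => S rU rV n (mm (R := R) (p := p) (q := q) n a)) = v R p q (n : ℤ) :=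
    funext fun a => S_mm rU rV n hrUx hrUy hrVx hrVy a
  have hSlc : ∀ r : ℤ →₀ R, S rU rV n (Finsupp.linearCombination R (mm (R := R) (p := p) (q := q) n) r) =
      Finsupp.linearCombination R (v R p q (n : ℤ)) r := by
    intro r
    rw [Finsupp.apply_linearCombination]
    exact congrArg (fun f => Finsupp.linearCombination R f r) hSmm
  have hrel : ∀ F ∈ Rel (R := R) (p := p) (q := q) n, S rU rV n F = 0 := by
    intro F hF
    induction hF using Submodule.span_induction with
    | mem F hF =>
      rcases hF with ⟨i, rfl⟩ | ⟨i, rfl⟩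
      · have hi := i.2
        have e1 : n - (i : ℕ) = (n - ((i : ℕ) + 1)) + 1 := by omega
        rw [map_sub, S_single, S_single, AlgHom.commutes, AlgHom.commutes, hrUx, hrVx,
          Fin.val_castSucc, Fin.val_succ, e1, pow_succ (PolyNodeRing.x R p), Prod.mk_sub_mk,
          Prod.mk_eq_zero]
        constructor
        · rw [pow_succ]; ring
        · rw [mul_comm (PolyNodeRing.x R p ^ (i : ℕ)), ← mul_assoc, y_mul_x, sub_self]
      · have hi := i.2
        have e1 : n - (i : ℕ) = (n - ((i : ℕ) + 1)) + 1 := by omega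
        rw [map_sub, S_single, S_single, AlgHom.commutes, AlgHom.commutes, hrUy, hrVy,
          Fin.val_castSucc, Fin.val_succ, e1, pow_succ (PolyNodeRing.x R p), Prod.mk_sub_mk,
          Prod.mk_eq_zero]
        constructor
        · rw [pow_succ, mul_comm (PolyNodeRing.x R q ^ _), ← mul_assoc, y_mul_x, sub_self]
        · ring
    | zero => exact map_zero _
    | add F G _ _ hF hG => rw [map_add, hF, hG, add_zero]
    | smul a F _ hF => rw [S_smul, hF]; simp
  refine ⟨?_, ?_⟩
  · ext gf
    simp only [Set.mem_range, Set.mem_ofPred_eq]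
    constructor
    · rintro ⟨F, rfl⟩
      simp only [map_sum, map_mul, map_pow, hgUs, hgVt, Finset.mul_sum, hcomp]
      refine Finset.sum_congr rfl fun i _ => ?_
      rw [LaurentPolynomial.T_pow, LaurentPolynomial.T_pow, mul_left_comm,
        ← LaurentPolynomial.T_add]
      congr 2
      have := i.2
      push_cast [Nat.cast_sub (Nat.lt_succ_iff.1 i.2)]
      ring
    · intro h
      rw [hker] at h
      have h1 := eq_linearCombination R p q gU gV (n : ℤ) hgUs hgUy hgVt hgVx hn gf h
      refine ⟨Finsupp.linearCombination R (mm (R := R) (p := p) (q := q) n) (π₀ R p q (n : ℤ) gf), ?_⟩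
      rw [← S_apply, hSlc]
      exact h1.symm
  · ext F
    simp only [Set.mem_ofPred_eq, SetLike.mem_coe]
    rw [← S_apply rU rV n F]
    change S rU rV n F = 0 ↔ F ∈ Rel (R := R) (p := p) (q := q) n
    constructor
    · intro h0
      obtain ⟨r, hr⟩ := exists_red (R := R) (p := p) (q := q) n F
      have h2 := hrel _ hr
      rw [map_sub, h0, zero_sub, neg_eq_zero, hSlc] at h2
      have hr0 : r = 0 := by
        rw [← π₀_linearCombination R p q (n : ℤ) r, h2, map_zero]
      rw [hr0, map_zero, sub_zero] at hr
      exact hr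
    · intro hF
      exact hrel F hF

end Groth.Agent.S18437
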