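import Groth.Statements.S18464
import Groth.Agent.Lib.Seat90Homog
import Mathlib.LinearAlgebra.Determinant
import Mathlib.Algebra.MvPolynomial.Funext
import Mathlib.LinearAlgebra.FiniteDimensional.Lemmas
import Mathlib.LinearAlgebra.Basis.VectorSpace

set_option autoImplicit false
universe u
open LefPen

namespace Groth.Agent.S18464

open MvPolynomial

section

variable (k : Type u) [Field k] (r d m : ℕ)

/-- evaluation of forms at an `m`-tuple of vectors -/
noncomputable def ev (x : Fin m → (Fin (r + 1) → k)) : LefPen.Form r k d →ₗ[k] (Fin m → k) :=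
  LinearMap.pi (fun i => (MvPolynomial.aeval (x i)).toLinearMap.comp
    (Submodule.subtype (CohB1.polyGrading r k d)))

theorem ev_apply (x : Fin m → (Fin (r + 1) → k)) (G : LefPen.Form r k d) (i : Fin m) :
    ev k r d m x G i = MvPolynomial.aeval (x i) G.1 := rfl

theorem ker_ev (x : Fin m → (Fin (r + 1) → k)) :
    LinearMap.ker (ev k r d m x) = ⊥ ↔
      ∀ G : LefPen.Form r k d, (∀ i : Fin m, MvPolynomial.aeval (x i) G.1 = 0) → G = 0 := by
  rw [LinearMap.ker_eq_bot']
  refine forall_congr' fun G => ?_
  constructor
  · intro h h0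
    exact h (funext fun i => h0 i)
  · intro h h0
    exact h fun i => congrFun h0 i

/-- evaluation of a polynomial at the `i`-th vector is a polynomial function -/
theorem aeval_mem (i : Fin m) (P : MvPolynomial (Fin (r + 1)) k) :
    LefPen.IsPolyFun k (fun w : Fin m → (Fin (r + 1) → k) => MvPolynomial.aeval (w i) P) := by
  unfold LefPen.IsPolyFun
  induction P using MvPolynomial.induction_on with
  | C a =>
    have : (fun w : Fin m → (Fin (r + 1) → k) => MvPolynomial.aeval (w i) (C a : MvPolynomial (Fin (r + 1)) k)) =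
        algebraMap k ((Fin m → (Fin (r + 1) → k)) → k) a := by
      funext w; simp
    rw [this]; exact Subalgebra.algebraMap_mem _ a
  | add p q hp hq =>
    have : (fun w : Fin m → (Fin (r + 1) → k) => MvPolynomial.aeval (w i) (p + q)) =
        (fun w => MvPolynomial.aeval (w i) p) + (fun w => MvPolynomial.aeval (w i) q) := by
      funext w; simp
    rw [this]; exact Subalgebra.add_mem _ hp hq
  | mul_X p j hp =>
    have : (fun w : Fin m → (Fin (r + 1) → k) => MvPolynomial.aeval (w i) (p * X j)) =
        (fun w => MvPolynomial.aeval (w i) p) * (fun w => w i j) := by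
      funext w; simp
    rw [this]
    refine Subalgebra.mul_mem _ hp (Algebra.subset_adjoin
      ⟨((LinearMap.proj j : (Fin (r + 1) → k) →ₗ[k] k).comp
        (LinearMap.proj i : (Fin m → (Fin (r + 1) → k)) →ₗ[k] (Fin (r + 1) → k))), ?_⟩)
    funext w
    rfl

/-- a linear functional of the evaluation vector is a polynomial function -/
theorem lin_ev_mem (φ : (Fin m → k) →ₗ[k] k) (G : LefPen.Form r k d) :
    LefPen.IsPolyFun k (fun w : Fin m → (Fin (r + 1) → k) => φ (ev k r d m w G)) := by
  classical
  have : (fun w : Fin m → (Fin (r + 1) → k) => φ (ev k r d m w G)) =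
      ∑ i : Fin m, (fun w : Fin m → (Fin (r + 1) → k) => MvPolynomial.aeval (w i) G.1) *
        algebraMap k ((Fin m → (Fin (r + 1) → k)) → k) (φ (Pi.single i 1)) := by
    funext w
    rw [LinearMap.pi_apply_eq_sum_univ φ (ev k r d m w G), Finset.sum_apply]
    refine Finset.sum_congr rfl fun i _ => ?_
    rw [Pi.mul_apply, ev_apply, smul_eq_mul]
    have e : (fun j => if i = j then (1 : k) else 0) = Pi.single i 1 := by
      funext j
      rw [Pi.single_apply]
      simp [eq_comm]
    rw [e]
    rfl
  rw [this]
  unfold LefPen.IsPolyFun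
  refine Subalgebra.sum_mem _ fun i _ => Subalgebra.mul_mem _ (aeval_mem k r m i G.1)
    (Subalgebra.algebraMap_mem _ _)

/-- the determinant of a matrix of polynomial functions is a polynomial function -/
theorem det_mem {V : Type u} [AddCommGroup V] [Module k V] {n : ℕ}
    (M : V → Matrix (Fin n) (Fin n) k)
    (hM : ∀ a b, LefPen.IsPolyFun k (fun w => M w a b)) :
    LefPen.IsPolyFun k (fun w => (M w).det) := by
  unfold LefPen.IsPolyFun at *
  have : (fun w => (M w).det) = ∑ σ : Equiv.Perm (Fin n),
      algebraMap k (V → k) (((Equiv.Perm.sign σ : ℤ) : k)) * ∏ a, (fun w => M w (σ a) a) := by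
    funext w
    rw [Matrix.det_apply', Finset.sum_apply]
    refine Finset.sum_congr rfl fun σ _ => ?_
    rw [Pi.mul_apply, Finset.prod_apply]
    rfl
  rw [this]
  exact Subalgebra.sum_mem _ fun σ _ => Subalgebra.mul_mem _ (Subalgebra.algebraMap_mem _ _)
    (Subalgebra.prod_mem _ fun a _ => hM _ _)

theorem open_aux (x : Fin m → (Fin (r + 1) → k)) (hx : LinearMap.ker (ev k r d m x) = ⊥) :
    ∃ f : (Fin m → (Fin (r + 1) → k)) → k, LefPen.IsPolyFun k f ∧ f x ≠ 0 ∧
      ∀ w, f w ≠ 0 → LinearMap.ker (ev k r d m w) = ⊥ := by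
  classical
  obtain ⟨L, hL⟩ := (ev k r d m x).exists_leftInverse_of_injective hx
  have : Module.Finite k (LefPen.Form r k d) :=
    Groth.Agent.Lib.Seat90.Homog.finite_homog k (r + 1) d
  let B := Module.finBasis k (LefPen.Form r k d)
  refine ⟨fun w => LinearMap.det (L.comp (ev k r d m w)), ?_, ?_, ?_⟩
  · have : (fun w => LinearMap.det (L.comp (ev k r d m w))) =
        fun w => (LinearMap.toMatrix B B (L.comp (ev k r d m w))).det := by
      funext w; rw [LinearMap.det_toMatrix]
    rw [this]
    apply det_mem
    intro a b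
    have : (fun w => LinearMap.toMatrix B B (L.comp (ev k r d m w)) a b) =
        fun w => ((B.coord a).comp L) (ev k r d m w (B b)) := by
      funext w
      rw [LinearMap.toMatrix_apply]
      rfl
    rw [this]
    exact lin_ev_mem k r d m _ _
  · change LinearMap.det (L.comp (ev k r d m x)) ≠ 0
    rw [hL, LinearMap.det_id]
    exact one_ne_zero
  · intro w hw
    change LinearMap.det (L.comp (ev k r d m w)) ≠ 0 at hw
    have h1 : LinearMap.ker (L.comp (ev k r d m w)) = ⊥ := by
      by_contra hne
      exact hw (LinearMap.det_eq_zero_iff_ker_ne_bot.2 hne)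
    rw [eq_bot_iff] at h1 ⊢
    intro G hG
    apply h1
    rw [LinearMap.mem_ker] at hG ⊢
    rw [LinearMap.comp_apply, hG, map_zero]

/-- points can be chosen successively to cut a subspace of forms down to zero -/
theorem exists_points [Infinite k] : ∀ (n : ℕ) (K : Submodule k (LefPen.Form r k d)),
    Module.finrank k K ≤ n → ∃ x : Fin n → (Fin (r + 1) → k),
      ∀ G ∈ K, (∀ i : Fin n, MvPolynomial.aeval (x i) G.1 = 0) → G = 0 := by
  have : Module.Finite k (LefPen.Form r k d) :=
    Groth.Agent.Lib.Seat90.Homog.finite_homog k (r + 1) d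
  intro n
  induction n with
  | zero =>
    intro K hK
    refine ⟨fun i => i.elim0, fun G hG _ => ?_⟩
    have : K = ⊥ := Submodule.finrank_eq_zero.1 (by omega)
    rw [this, Submodule.mem_bot] at hG
    exact hG
  | succ n ih =>
    intro K hK
    by_cases hKb : K = ⊥
    · refine ⟨fun _ => 0, fun G hG _ => ?_⟩
      rw [hKb, Submodule.mem_bot] at hG
      exact hG
    · obtain ⟨G₀, hG₀K, hG₀⟩ := Submodule.exists_mem_ne_zero_of_ne_bot hKb
      have hG₀1 : G₀.1 ≠ 0 := fun h => hG₀ (Subtype.ext h)
      obtain ⟨p, hp⟩ : ∃ p : Fin (r + 1) → k, MvPolynomial.eval p G₀.1 ≠ 0 := by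
        by_contra hcon
        apply hG₀1
        apply MvPolynomial.funext
        intro x
        rw [map_zero]
        by_contra hx
        exact hcon ⟨x, hx⟩
      let φ : LefPen.Form r k d →ₗ[k] k :=
        (MvPolynomial.aeval p).toLinearMap.comp (Submodule.subtype (CohB1.polyGrading r k d))
      have hφ : ∀ G : LefPen.Form r k d, φ G = MvPolynomial.aeval p G.1 := fun G => rfl
      have hlt : K ⊓ LinearMap.ker φ < K := by
        refine lt_of_le_of_ne inf_le_left ?_
        intro heq
        have : G₀ ∈ K ⊓ LinearMap.ker φ := by rw [heq]; exact hG₀K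
        have h2 := (Submodule.mem_inf.1 this).2
        rw [LinearMap.mem_ker, hφ, MvPolynomial.aeval_eq_eval] at h2
        exact hp h2
      have hfr := Submodule.finrank_lt_finrank_of_lt hlt
      obtain ⟨x', hx'⟩ := ih (K ⊓ LinearMap.ker φ) (by omega)
      refine ⟨Fin.cons p x', fun G hG h0 => ?_⟩
      refine hx' G (Submodule.mem_inf.2 ⟨hG, ?_⟩) fun i => ?_
      · rw [LinearMap.mem_ker, hφ]
        have := h0 0
        rwa [Fin.cons_zero] at this
      · have := h0 i.succ
        rwa [Fin.cons_succ] at this

end

/-- Let k be an infinite field, r a natural number, d ≥ 1 an integer, and m ≥ C(r+d, d), the number of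
monomials of degree d in r+1 variables. In the space of m-tuples of vectors of k^(r+1) (homogeneous
coordinate vectors of m points of projective r-space; a zero vector is allowed and imposes no
condition), the tuples such that the only form of degree d vanishing at all of them is the zero form
make up a Zariski-open subset which contains the non-vanishing locus of a not identically zero
polynomial function, so a dense open subset. (The published statement is the openness and density of
the corresponding locus in the m-fold product of projective r-space over the ground field; here the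
ground field is any infinite field and the statement is made on coordinate vectors.) -/
theorem result (k : Type u) [Field k] [Infinite k]
    (r d m : ℕ) (hd : 1 ≤ d) (hm : Nat.choose (r + d) d ≤ m) :
    LefPen.IsZOpen k {x : Fin m → (Fin (r + 1) → k) |
      ∀ G : LefPen.Form r k d, (∀ i : Fin m, MvPolynomial.aeval (x i) G.1 = 0) → G = 0} ∧
    LefPen.IsGeneric k {x : Fin m → (Fin (r + 1) → k) |
      ∀ G : LefPen.Form r k d, (∀ i : Fin m, MvPolynomial.aeval (x i) G.1 = 0) → G = 0} := by
  have hS : ∀ x : Fin m → (Fin (r + 1) → k),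
      x ∈ {x : Fin m → (Fin (r + 1) → k) |
        ∀ G : LefPen.Form r k d, (∀ i : Fin m, MvPolynomial.aeval (x i) G.1 = 0) → G = 0} ↔
      LinearMap.ker (ev k r d m x) = ⊥ := fun x => (ker_ev k r d m x).symm
  have hopen : LefPen.IsZOpen k {x : Fin m → (Fin (r + 1) → k) |
      ∀ G : LefPen.Form r k d, (∀ i : Fin m, MvPolynomial.aeval (x i) G.1 = 0) → G = 0} := by
    intro x hx
    obtain ⟨f, hf, hfx, hfw⟩ := open_aux k r d m x ((hS x).1 hx)
    exact ⟨f, hf, hfx, fun w hw => (hS w).2 (hfw w hw)⟩
  refine ⟨hopen, ?_⟩
  have hfin : Module.finrank k (⊤ : Submodule k (LefPen.Form r k d)) ≤ m := by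
    rw [finrank_top]
    have := Groth.Agent.Lib.Seat90.Homog.finrank_homog k (r + 1) d
    have e : r + 1 + d - 1 = r + d := by omega
    rw [e] at this
    change Module.finrank k (LefPen.Form r k d) ≤ m
    unfold LefPen.Form CohB1.polyGrading
    omega
  obtain ⟨x, hx⟩ := exists_points k r d m ⊤ hfin
  have hxS : x ∈ {x : Fin m → (Fin (r + 1) → k) |
      ∀ G : LefPen.Form r k d, (∀ i : Fin m, MvPolynomial.aeval (x i) G.1 = 0) → G = 0} :=
    fun G hG => hx G Submodule.mem_top hG
  obtain ⟨f, hf, hfx, hfw⟩ := hopen x hxS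
  exact ⟨f, hf, ⟨x, hfx⟩, hfw⟩

end Groth.Agent.S18464
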