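import Groth.Statements.S18487
import Groth.Agent.Lib.Seat34ProperGeneric

set_option autoImplicit false
universe u
open CategoryTheory CategoryTheory.Limits AlgebraicGeometry MonObj
open NonAbH1

namespace Groth.Agent.S18487

/-- Let R be a Dedekind domain with fraction field K, G a proper flat group scheme over Spec R, and P a
Spec R-scheme with an action of G making it a G-torsor for the fppf topology (a pseudo-torsor
acquiring sections on the members of an fppf covering family). If P acquires a section over the
generic point Spec K → Spec R, then P has a section over Spec R: a generically trivial torsor is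
trivial. (The source allows any connected Dedekind scheme as base and torsors that are fppf sheaves,
shown there to be schemes; the affine base and scheme torsors are stated.) -/
theorem result (R : Type u) [CommRing R] [IsDedekindDomain R]
    (G : Over (Spec (CommRingCat.of R))) [GrpObj G] [IsProper G.hom] [Flat G.hom]
    (P : NonAbH1.TorsorSch G Scheme.fppfPrecoverage) (h : NonAbH1.HasSectionOver P.X (Neron.genPt R)) :
    NonAbH1.HasSectionOver P.X (𝟙 (Spec (CommRingCat.of R))) := by
  obtain ⟨hpt, Rc, hRc, hsec⟩ := P.isTorsor
  have hprop : IsProper P.X.hom :=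
    Groth.Agent.Lib.Helper12.of_mem_fpqcPrecoverage (P := @IsProper)
      Groth.Agent.Lib.Helper12.descendsAlong_isProper P.X.hom Rc
      (Scheme.fppfPrecoverage_le_fpqcPrecoverage _ hRc)
      (fun Y' f hf => Groth.Agent.Lib.Helper12.pullback_snd_of_hasSectionOver
        (P := @IsProper) P.act hpt inferInstance f (hsec f hf))
  obtain ⟨s₀, hs₀⟩ := h
  have hval : ∀ x : ↥(Spec (CommRingCat.of R)),
      ValuationRing ((Spec (CommRingCat.of R)).presheaf.stalk x) := by
    intro x
    let _ : Algebra R ((Spec (CommRingCat.of R)).presheaf.stalk x) :=
      StructureSheaf.stalkAlgebra (R := R) x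
    have h1 : IsLocalization.AtPrime ((Spec (CommRingCat.of R)).presheaf.stalk x) x.asIdeal :=
      StructureSheaf.IsLocalization.to_stalk R x
    have h2 : IsDedekindDomain ((Spec (CommRingCat.of R)).presheaf.stalk x) :=
      IsLocalization.AtPrime.isDedekindDomain R x.asIdeal _
    infer_instance
  have hdom : IsDomain (CommRingCat.of R) := inferInstanceAs (IsDomain R)
  let _ : Algebra R (Spec (CommRingCat.of R)).functionField :=
    @instAlgebraCarrierFunctionFieldSpec (CommRingCat.of R) hdom
  have : IsFractionRing R (Spec (CommRingCat.of R)).functionField :=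
    @functionField_isFractionRing_of_affine (CommRingCat.of R) hdom
  let ψ : FractionRing R →+* (Spec (CommRingCat.of R)).functionField :=
    (FractionRing.algEquiv R (Spec (CommRingCat.of R)).functionField).toAlgHom.toRingHom
  have hψ : ψ.comp (algebraMap R (FractionRing R)) =
      algebraMap R (Spec (CommRingCat.of R)).functionField := by
    ext r
    exact (FractionRing.algEquiv R (Spec (CommRingCat.of R)).functionField).commutes r
  have hs : (Spec.map (CommRingCat.ofHom ψ) ≫ s₀) ≫ P.X.hom =
      (Spec (CommRingCat.of R)).fromSpecStalk (genericPoint (Spec (CommRingCat.of R))) := by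
    rw [Category.assoc, hs₀, Spec.fromSpecStalk_eq']
    show Spec.map (CommRingCat.ofHom ψ) ≫
      Spec.map (CommRingCat.ofHom (algebraMap R (FractionRing R))) = _
    rw [← Spec.map_comp, ← CommRingCat.ofHom_comp, hψ]
    rfl
  obtain ⟨σ, hσ⟩ := Groth.Agent.Lib.Seat34.ProperGeneric.exists_section_of_isProper hval P.X.hom
    (Spec.map (CommRingCat.ofHom ψ) ≫ s₀) hs
  exact ⟨σ, hσ⟩

end Groth.Agent.S18487
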