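import Groth.Statements.S18504
import Mathlib.AlgebraicGeometry.PullbackCarrier

set_option autoImplicit false
universe u
open CategoryTheory MonoidalCategory CartesianMonoidalCategory MonObj GrpObj AlgebraicGeometry Topology
open EqInt

namespace Groth.Agent.S18504

open Limits

/-- Over a field k, let an affine group scheme G of finite type act on X, with X and Y separated of
finite type over k, and let (Y, φ) be a geometric quotient of X by G. Then φ is universally open.
(The source takes X and Y integral; integrality plays no role. A geometric quotient is taken here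
with φ universally submersive, and with this reading the universal openness is what the argument
gives.) -/
theorem result (k : Type u) [Field k]
    (G X Y : Over (Spec (CommRingCat.of k))) [GrpObj G] [IsAffine G.left] [LocallyOfFiniteType G.hom]
    [LocallyOfFiniteType X.hom] [QuasiCompact X.hom] [IsSeparated X.hom]
    [LocallyOfFiniteType Y.hom] [QuasiCompact Y.hom] [IsSeparated Y.hom]
    (a : AlgGrp.Action G X) (φ : X ⟶ Y) (h : GIT.IsGeomQuot a φ) :
    UniversallyOpen φ.left := by
  have hGuo : UniversallyOpen G.hom := inferInstance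
  have hp2 : UniversallyOpen (snd G X).left := by
    change UniversallyOpen (pullback.snd G.hom X.hom)
    infer_instance
  rw [UniversallyOpen.eq]
  intro X' Y' i₁ i₂ f' hsq
  have hq : IsQuotientMap f' := h.subm i₁ i₂ f' hsq
  -- the fibre product `G × X'`
  let pZ := pullback.fst (snd G X).left i₁
  let p₂' := pullback.snd (snd G X).left i₁
  have hcond : pZ ≫ (snd G X).left = p₂' ≫ i₁ := pullback.condition
  have hp2' : UniversallyOpen p₂' := inferInstance
  have hΘw : (p₂' ≫ f') ≫ i₂ = (pZ ≫ a.act.left) ≫ φ.left := by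
    rw [Category.assoc, hsq.w, ← Category.assoc, ← hcond, Category.assoc, Category.assoc,
      h.inv.left]
  let Θ' := hsq.lift (p₂' ≫ f') (pZ ≫ a.act.left) hΘw
  have hΘ1 : Θ' ≫ f' = p₂' ≫ f' := hsq.lift_fst _ _ _
  have hΘ2 : Θ' ≫ i₁ = pZ ≫ a.act.left := hsq.lift_snd _ _ _
  -- the comparison of fibre squares
  let m : pullback f' f' ⟶ pullback φ.left φ.left :=
    pullback.map f' f' φ.left φ.left i₁ i₁ i₂ hsq.w hsq.w
  have hm1 : m ≫ pullback.fst φ.left φ.left = pullback.fst f' f' ≫ i₁ := pullback.lift_fst _ _ _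
  have hm2 : m ≫ pullback.snd φ.left φ.left = pullback.snd f' f' ≫ i₁ := pullback.lift_snd _ _ _
  have hA : IsPullback m (pullback.snd f' f') (pullback.snd φ.left φ.left) i₁ := by
    have h1 : IsPullback (pullback.fst f' f' ≫ i₁) (pullback.snd f' f') φ.left (f' ≫ i₂) :=
      (IsPullback.of_hasPullback f' f').paste_horiz hsq.flip
    rw [hsq.w, ← hm1] at h1
    exact h1.of_right hm2 (IsPullback.of_hasPullback φ.left φ.left)
  let Ψ' : pullback (snd G X).left i₁ ⟶ pullback f' f' := pullback.lift Θ' p₂' hΘ1
  have hΨ1 : Ψ' ≫ pullback.fst f' f' = Θ' := pullback.lift_fst _ _ _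
  have hΨ2 : Ψ' ≫ pullback.snd f' f' = p₂' := pullback.lift_snd _ _ _
  have hcomm : pZ ≫ GIT.PsiY a φ h.inv = Ψ' ≫ m := by
    apply pullback.hom_ext
    · rw [Category.assoc, Category.assoc, hm1, ← Category.assoc Ψ', hΨ1, hΘ2]
      congr 1
      exact pullback.lift_fst _ _ _
    · rw [Category.assoc, Category.assoc, hm2, ← Category.assoc Ψ', hΨ2, ← hcond]
      congr 1
      exact pullback.lift_snd _ _ _
  have hB : IsPullback pZ Ψ' (GIT.PsiY a φ h.inv) m := by
    have h1 : IsPullback pZ (Ψ' ≫ pullback.snd f' f')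
        (GIT.PsiY a φ h.inv ≫ pullback.snd φ.left φ.left) i₁ := by
      have e1 : GIT.PsiY a φ h.inv ≫ pullback.snd φ.left φ.left = (snd G X).left :=
        pullback.lift_snd _ _ _
      rw [hΨ2, e1]
      exact IsPullback.of_hasPullback _ _
    exact h1.of_bot hcomm hA
  have hPsiY : Surjective (GIT.PsiY a φ h.inv) := ⟨h.orbit⟩
  have hΨs : Surjective Ψ' := MorphismProperty.of_isPullback (P := @Surjective) hB hPsiY
  -- the topological argument
  intro U hU
  rw [← hq.isOpen_preimage]
  have hset : f' ⁻¹' (f' '' U) = p₂' '' (Θ' ⁻¹' U) := by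
    ext x'
    constructor
    · rintro ⟨u, hu, hux⟩
      obtain ⟨w', hw1, hw2⟩ := Scheme.Pullback.exists_preimage_pullback (f := f') (g := f') u x' hux
      obtain ⟨z', rfl⟩ := hΨs.surj w'
      refine ⟨z', ?_, ?_⟩
      · change Θ' z' ∈ U
        rw [← hΨ1]
        change pullback.fst f' f' (Ψ' z') ∈ U
        rw [hw1]
        exact hu
      · rw [← hΨ2]
        exact hw2
    · rintro ⟨z', hz', rfl⟩
      refine ⟨Θ' z', hz', ?_⟩
      change (Θ' ≫ f') z' = (p₂' ≫ f') z'
      rw [hΘ1]
  rw [hset]
  exact p₂'.isOpenMap _ (hU.preimage Θ'.continuous)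

end Groth.Agent.S18504
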