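import Groth.Statements.S18506
import Groth.Agent.S16133
import Groth.Agent.Lib.Helper12BundleMap
import Groth.Agent.Lib.Helper12RelTorsor
import Groth.Agent.Lib.Seat51DescSection
import Groth.Agent.Lib.Seat51AssocBundle

set_option autoImplicit false
universe u
open CategoryTheory MonoidalCategory CartesianMonoidalCategory MonObj GrpObj AlgebraicGeometry Topology
open EqInt

namespace Groth.Agent.S18506

open Groth.Agent.Lib.Seat51.AssocBundle Groth.Agent.Lib.Seat51.StabFinite in
/-- the braiding intertwines the two diagonal actions -/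
theorem swap_act {S : Scheme.{u}} {G X U : Over S} [GrpObj G]
    (a : AlgGrp.Action G X) (b : AlgGrp.Action G U) {T : Over S} (g : T ⟶ G) (z : T ⟶ X ⊗ U) :
    (lift g z ≫ (a.prod b).act) ≫ (β_ X U).hom = lift g (z ≫ (β_ X U).hom) ≫ (b.prod a).act := by
  rw [lift_prod_act', lift_prod_act']
  apply CartesianMonoidalCategory.hom_ext <;> simp


/-- Over a field k, let an affine group scheme G of finite type act on X and on U (quasi-separated
schemes of finite type over k), and let π : U → B be a principal bundle quotient (π is G-invariant,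
flat and surjective and (σ, p₂) : G × U → U ×_B U is an isomorphism) which is locally trivial in the
Zariski topology: every point of B has an open neighbourhood over which π has a section. Then the
diagonal action of G on X × U has a principal bundle quotient X × U → Q in the category of schemes.
(The published hypothesis is that G is special, i.e. every principal G-bundle is Zariski-locally
trivial; only the local triviality of U → B is used, and it is what is assumed here.) -/
theorem result (k : Type u) [Field k]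
    (G X U B : Over (Spec (CommRingCat.of k))) [GrpObj G] [IsAffine G.left] [LocallyOfFiniteType G.hom]
    [LocallyOfFiniteType X.hom] [QuasiCompact X.hom] [QuasiSeparated X.hom]
    [LocallyOfFiniteType U.hom] [QuasiCompact U.hom] [QuasiSeparated U.hom]
    [LocallyOfFiniteType B.hom] [QuasiCompact B.hom] [QuasiSeparated B.hom]
    (a : AlgGrp.Action G X) (b : AlgGrp.Action G U) (π : U ⟶ B) (hinv : GIT.IsInvariant b π)
    [Flat π.left] [Surjective π.left] (hcart : IsIso (GIT.PsiY b π hinv))
    (hzar : ∀ y : ↥B.left, ∃ (W : B.left.Opens) (s : (↑W : Scheme.{u}) ⟶ U.left), y ∈ W ∧ s ≫ π.left = W.ι) :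
    ∃ (Q : Over (Spec (CommRingCat.of k))) (ρ : X ⊗ U ⟶ Q) (hρ : GIT.IsInvariant (a.prod b) ρ),
      Flat ρ.left ∧ Surjective ρ.left ∧ IsIso (GIT.PsiY (a.prod b) ρ hρ) := by
  have hcartB : IsPullback b.act (snd G U) π π :=
    Groth.Agent.Lib.Helper12.BundleMap.isPullback_of_isIso_PsiY b π hinv hcart
  have hqc : QuasiCompact π.left := by
    have : QuasiCompact (π.left ≫ B.hom) := by rw [Over.w π]; infer_instance
    exact QuasiCompact.of_comp π.left B.hom
  obtain ⟨Q₀, ⟨e⟩⟩ := Groth.Agent.Lib.Seat51.DescSection.exists_iso_of_zariski_sections π.left hzar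
    (Groth.Agent.Lib.Seat51.AssocBundle.dd b a π hcartB)
  have hpb := Groth.Agent.S16133.isPullback_q₀ b a π hcartB Q₀ e
  have hqm := Groth.Agent.Lib.Seat51.AssocBundle.isPullback_qmap b a π hcartB Q₀ e
  have hqflat : Flat (Groth.Agent.Lib.Seat51.AssocBundle.q₀ b a π hcartB Q₀ e) :=
    MorphismProperty.of_isPullback (P := @Flat) hpb inferInstance
  have hqsurj : Surjective (Groth.Agent.Lib.Seat51.AssocBundle.q₀ b a π hcartB Q₀ e) :=
    MorphismProperty.of_isPullback (P := @Surjective) hpb inferInstance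
  obtain ⟨ρ, hρdef⟩ : ∃ ρ : X ⊗ U ⟶ Over.mk (Q₀.hom ≫ B.hom),
      ρ = (β_ X U).hom ≫ Groth.Agent.Lib.Seat51.AssocBundle.qmap b a π hcartB Q₀ e := ⟨_, rfl⟩
  have hpt : ∀ {T : Over (Spec (CommRingCat.of k))} (g : T ⟶ G) (z : T ⟶ X ⊗ U),
      (lift g z ≫ (a.prod b).act) ≫ ρ = z ≫ ρ := by
    intro T g z
    rw [hρdef, ← Category.assoc, swap_act, ← Category.assoc z]
    exact Groth.Agent.Lib.Seat51.AssocBundle.act_qmap b a π hcartB Q₀ e g _
  have hρ : GIT.IsInvariant (a.prod b) ρ := by
    have h := hpt (fst G (X ⊗ U)) (snd G (X ⊗ U))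
    rwa [lift_fst_snd, Category.id_comp] at h
  have hcartρ : IsPullback (a.prod b).act (snd G (X ⊗ U)) ρ ρ := by
    apply Groth.Agent.Lib.Helper12.RelTorsor.isPullback_of_existsUnique hρ
    intro T z₁ z₂ hz
    have hz' : (z₁ ≫ (β_ X U).hom) ≫ Groth.Agent.Lib.Seat51.AssocBundle.qmap b a π hcartB Q₀ e =
        (z₂ ≫ (β_ X U).hom) ≫ Groth.Agent.Lib.Seat51.AssocBundle.qmap b a π hcartB Q₀ e := by
      rw [Category.assoc, Category.assoc, ← hρdef, hz]
    obtain ⟨g, hg, hguniq⟩ :=
      Groth.Agent.Lib.Helper12.RelTorsor.existsUnique_of_isPullback hqm _ _ hz'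
    refine ⟨g, ?_, ?_⟩
    · show lift g z₂ ≫ (a.prod b).act = z₁
      rw [← cancel_mono (β_ X U).hom, swap_act]
      exact hg
    · intro g' hg'
      apply hguniq
      show lift g' (z₂ ≫ (β_ X U).hom) ≫ (b.prod a).act = z₁ ≫ (β_ X U).hom
      rw [← swap_act, hg']
  have hρleft : ρ.left = (β_ X U).hom.left ≫ Groth.Agent.Lib.Seat51.AssocBundle.q₀ b a π hcartB Q₀ e := by
    rw [hρdef]; rfl
  have hisoβ : IsIso (β_ X U).hom.left :=
    inferInstanceAs (IsIso ((Over.forget _).map (β_ X U).hom))
  refine ⟨Over.mk (Q₀.hom ≫ B.hom), ρ, hρ, ?_, ?_, ?_⟩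
  · rw [hρleft]; infer_instance
  · rw [hρleft]; infer_instance
  · have hcart' : IsPullback (a.prod b).act.left (snd G (X ⊗ U)).left ρ.left ρ.left :=
      hcartρ.map (Over.forget _)
    have : GIT.PsiY (a.prod b) ρ hρ = hcart'.isoPullback.hom := by
      apply Limits.pullback.hom_ext
      · rw [IsPullback.isoPullback_hom_fst]; exact Limits.pullback.lift_fst _ _ _
      · rw [IsPullback.isoPullback_hom_snd]; exact Limits.pullback.lift_snd _ _ _
    rw [this]
    infer_instance

end Groth.Agent.S18506
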