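import Groth.Statements.S18519
import Groth.Agent.Lib.Seat70BrSepExt

set_option autoImplicit false
universe u
open scoped TensorProduct
open Brauer

namespace Groth.Agent.S18519

/-- For a field K with maximal abelian extension K_ab, cd(K_ab) ≤ 1 if and only if for every etale
K-algebra E the restriction map Br(E) ⟶ Br(E ⊗_K K_ab) is trivial; the same holds with the maximal
solvable extension. Stated here for an arbitrary separable algebraic extension F of K in place of
K_ab (the published lemma takes for F the maximal abelian or the maximal solvable extension of K;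
this row allows any separable algebraic extension), with cd(F) ≤ 1 unfolded by the Brauer-group
criterion (every finite separable extension of F has trivial Brauer group) and with etale algebras
replaced by their field factors: (a) every finite-dimensional central division algebra over a finite
separable extension F′ of F is F′ itself; if and only if (b) for every finite separable extension E
of K, every finite-dimensional central division algebra D over E and every field M containing E and
F compatibly over K, the base change M ⊗_E D is isomorphic over M to a matrix algebra over M. -/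
theorem result
    (K F : Type u) [Field K] [Field F] [Algebra K F] [Algebra.IsSeparable K F] :
    (∀ (F' : Type u) [Field F'] [Algebra F F'] [FiniteDimensional F F'] [Algebra.IsSeparable F F']
        (D : Type u) [DivisionRing D] [Algebra F' D] [Algebra.IsCentral F' D] [FiniteDimensional F' D],
        Module.finrank F' D = 1) ↔
    (∀ (E : Type u) [Field E] [Algebra K E] [FiniteDimensional K E] [Algebra.IsSeparable K E]
        (D : Type u) [DivisionRing D] [Algebra E D] [Algebra.IsCentral E D] [FiniteDimensional E D]
        (M : Type u) [Field M] [Algebra K M] [Algebra E M] [Algebra F M] [IsScalarTower K E M]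
        [IsScalarTower K F M],
        ∃ n : ℕ, Nonempty ((M ⊗[E] D) ≃ₐ[M] Matrix (Fin n) (Fin n) M)) := by
  classical
  constructor
  · -- (a) ⇒ (b)
    intro ha E _ _ _ _ D _ _ _ _ M _ _ _ _ _ _
    obtain ⟨n, -, hn⟩ := Groth.Agent.Lib.Seat70.BrSepExt.splits_of_trivial_brauer_compositum
      K F ha E D M
    exact ⟨n, hn⟩
  · -- (b) ⇒ (a)
    intro hb F' _ _ _ _ D _ _ _ _
    let _ : Algebra K F' := ((algebraMap F F').comp (algebraMap K F)).toAlgebra
    have : IsScalarTower K F F' := IsScalarTower.of_algebraMap_eq (fun _ => rfl)
    have hsepKF' : Algebra.IsSeparable K F' := Algebra.IsSeparable.trans K F F'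
    have halg : Algebra.IsAlgebraic K F' := Algebra.IsSeparable.isAlgebraic K F'
    obtain ⟨E, hEfin, D₀, hD₀fin, ⟨Ψ⟩⟩ :=
      Groth.Agent.Lib.Seat70.BrSepExt.exists_descent_finite K F' D
    have hEsep : Algebra.IsSeparable K E := Algebra.isSeparable_tower_bot_of_isSeparable K E F'
    -- `D₀` is central simple over `E`
    have hc1 : Algebra.IsCentral F' (F' ⊗[E] D₀) :=
      Groth.Agent.Lib.LeadCSA.isCentral_of_algEquiv' Ψ.symm
    have hs1 : IsSimpleRing (F' ⊗[E] D₀) :=
      IsSimpleRing.of_ringEquiv Ψ.symm.toRingEquiv inferInstance
    have hc0 : Algebra.IsCentral E D₀ :=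
      Groth.Agent.Lib.LeadCSA.isCentral_of_baseChange (k := E) (A := D₀) F'
    have hs0 : IsSimpleRing D₀ :=
      Groth.Agent.Lib.LeadCSA.isSimpleRing_of_baseChange (k := E) (A := D₀) F'
    have hart : IsArtinianRing D₀ := IsArtinianRing.of_finite E D₀
    obtain ⟨t, ht, D₀', _, _, _, ⟨iso₀⟩⟩ :=
      IsSimpleRing.exists_algEquiv_matrix_divisionRing_finite E D₀
    have : Algebra.IsCentral E (Matrix (Fin t) (Fin t) D₀') :=
      Groth.Agent.Lib.LeadCSA.isCentral_of_algEquiv' iso₀
    have : Algebra.IsCentral E D₀' := Groth.Agent.Lib.LeadCSA.isCentral_of_matrix (n := t)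
    obtain ⟨n, ⟨iso₁⟩⟩ := hb E D₀' F'
    have hn : n ≠ 0 := by
      rintro rfl
      have hsr : IsSimpleRing (F' ⊗[E] D₀') := Groth.Agent.Lib.LeadCSA.isSimpleRing_baseChange F'
      have hnt : Nontrivial (F' ⊗[E] D₀') := inferInstance
      have : Subsingleton (F' ⊗[E] D₀') := iso₁.toEquiv.subsingleton
      exact not_subsingleton _ this
    have hsp' : Curves.Splits E D₀' F' := ⟨n, hn, ⟨iso₁⟩⟩
    have hsp : Curves.Splits E D₀ F' :=
      Groth.Agent.Lib.LeadCSA.splits_of_algEquiv_matrix ht.out iso₀ hsp'
    obtain ⟨m, hm, ⟨e₂⟩⟩ := hsp
    let e₃ : D ≃ₐ[F'] Matrix (Fin m) (Fin m) F' := Ψ.symm.trans e₂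
    have hm1 : m = 1 := by
      by_contra hne
      have hm2 : 2 ≤ m := by omega
      let i0 : Fin m := ⟨0, by omega⟩
      let i1 : Fin m := ⟨1, by omega⟩
      have h01 : i0 ≠ i1 := by
        intro h
        have := congrArg Fin.val h
        simp [i0, i1] at this
      have hX : e₃.symm (Matrix.single i0 i0 (1 : F')) * e₃.symm (Matrix.single i1 i1 (1 : F')) = 0 := by
        rw [← map_mul, Matrix.single_mul_single_of_ne _ _ _ _ h01, map_zero]
      rcases mul_eq_zero.mp hX with h | h
      · have : (Matrix.single i0 i0 (1 : F') : Matrix (Fin m) (Fin m) F') = 0 := by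
          simpa using congrArg e₃ h
        have := congrFun (congrFun this i0) i0
        simp at this
      · have : (Matrix.single i1 i1 (1 : F') : Matrix (Fin m) (Fin m) F') = 0 := by
          simpa using congrArg e₃ h
        have := congrFun (congrFun this i1) i1
        simp at this
    subst hm1
    rw [e₃.toLinearEquiv.finrank_eq, Module.finrank_matrix]
    simp

end Groth.Agent.S18519
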