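import Groth.Statements.S18535
import Groth.Agent.Lib.Seat95InertiaComplete
import Groth.Agent.S1964
import Groth.Agent.Lib.Helper18HenselMap

set_option autoImplicit false
universe u
open EtAlg

namespace Groth.Agent.S18535

open Ideal Pointwise IsLocalRing

section setup

variable (R S G : Type u) [CommRing R] [CommRing S] [IsDomain R] [IsDomain S]
    [IsNoetherianRing R] [IsLocalRing R] [IsIntegrallyClosed R]
    [Algebra R S] [FaithfulSMul R S] [IsIntegrallyClosed S]
    [Group G] [Finite G] [MulSemiringAction G S] [SMulCommClass G R S] [IsGaloisGroup G R S]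

attribute [local instance] FractionRing.liftAlgebra in
include G in
theorem finite_of_isGaloisGroup : Module.Finite R S := by
  have hint : Algebra.IsIntegral R S := (IsGaloisGroup.isInvariant (G := G)).isIntegral
  let := IsFractionRing.mulSemiringAction G S (FractionRing S)
  have hG : IsGaloisGroup G (FractionRing R) (FractionRing S) := inferInstance
  have : FiniteDimensional (FractionRing R) (FractionRing S) := hG.finiteDimensional
  have : IsGalois (FractionRing R) (FractionRing S) := hG.isGalois
  have : IsIntegralClosure S R (FractionRing S) := IsIntegralClosure.of_isIntegrallyClosed S R _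
  exact IsIntegralClosure.finite R (FractionRing R) (FractionRing S) S

include G in
theorem henselian_of_complete [IsAdicComplete (maximalIdeal R) R] :
    ∃ _ : HenselianLocalRing S, IsLocalHom (algebraMap R S) := by
  have hint : Algebra.IsIntegral R S := (IsGaloisGroup.isInvariant (G := G)).isIntegral
  have : HenselianLocalRing R :=
    Groth.Agent.Lib.Helper18HenselMap.henselianLocalRing_of_henselianRing R
  obtain ⟨h1, h2, -⟩ := Groth.Agent.S1964.result R S
  exact ⟨h1, h2⟩

include G in
theorem inertia_eq_bot_of_unramified [IsLocalRing S] [IsLocalHom (algebraMap R S)]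
    [Module.Finite R S]
    (n : Ideal S) [n.IsMaximal] [n.LiesOver (maximalIdeal R)]
    (h1 : (maximalIdeal R).map (algebraMap R S) = n)
    (h3 : Algebra.IsSeparable (R ⧸ maximalIdeal R) (S ⧸ n)) :
    n.toAddSubgroup.inertia G = ⊥ := by
  obtain rfl : n = maximalIdeal S := IsLocalRing.eq_maximalIdeal ‹n.IsMaximal›
  have hsep : Algebra.IsSeparable (ResidueField R) (ResidueField S) := h3
  have hfu : Algebra.FormallyUnramified R S :=
    Algebra.FormallyUnramified.iff_map_maximalIdeal_eq.mpr ⟨hsep, h1⟩
  have : IsNoetherianRing S := IsNoetherianRing.of_finite R S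
  have hfaith : FaithfulSMul G S := IsGaloisGroup.faithful R
  rw [eq_bot_iff]
  intro σ hσ
  rw [Subgroup.mem_bot]
  have hI : ⨅ i, (maximalIdeal S) ^ i = ⊥ := Ideal.iInf_pow_eq_bot_of_isLocalRing _
    (IsLocalRing.maximalIdeal.isMaximal S).ne_top
  have key : MulSemiringAction.toAlgHom R S σ = AlgHom.id R S := by
    refine Algebra.FormallyUnramified.ext_of_iInf (I := maximalIdeal S) hI fun x => ?_
    rw [Ideal.Quotient.eq]
    exact hσ x
  apply hfaith.eq_of_smul_eq_smul
  intro s
  rw [one_smul]
  exact DFunLike.congr_fun key s

open Groth.Agent.Lib.Seat95.InertiaComplete in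
attribute [local instance] Ideal.Quotient.field FractionRing.liftAlgebra in
include G in
theorem unramified_of_inertia_eq_bot [IsLocalRing S] [IsLocalHom (algebraMap R S)]
    [Module.Finite R S]
    (n : Ideal S) [n.IsMaximal] [n.LiesOver (maximalIdeal R)]
    (hI : n.toAddSubgroup.inertia G = ⊥) :
    (maximalIdeal R).map (algebraMap R S) = n ∧
      Module.Finite (R ⧸ maximalIdeal R) (S ⧸ n) ∧
      Algebra.IsSeparable (R ⧸ maximalIdeal R) (S ⧸ n) := by
  obtain rfl : n = maximalIdeal S := IsLocalRing.eq_maximalIdeal ‹n.IsMaximal›
  have hint : Algebra.IsIntegral R S := (IsGaloisGroup.isInvariant (G := G)).isIntegral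
  let := IsFractionRing.mulSemiringAction G S (FractionRing S)
  have hG : IsGaloisGroup G (FractionRing R) (FractionRing S) := inferInstance
  have : FiniteDimensional (FractionRing R) (FractionRing S) := hG.finiteDimensional
  have : IsGalois (FractionRing R) (FractionRing S) := hG.isGalois
  have : IsIntegralClosure S R (FractionRing S) := IsIntegralClosure.of_isIntegrallyClosed S R _
  have hcard : Nat.card G = Module.finrank (FractionRing R) (FractionRing S) :=
    hG.card_eq_finrank
  have hfin : Module.Finite (R ⧸ maximalIdeal R) (S ⧸ maximalIdeal S) :=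
    Module.Finite.of_restrictScalars_finite R _ _
  -- counting
  have hstab : ∀ σ : G, σ ∈ MulAction.stabilizer G (maximalIdeal S) := by
    intro σ
    have key : ∀ τ : G, τ • maximalIdeal S ≤ maximalIdeal S := fun τ =>
      IsLocalRing.le_maximalIdeal (Ideal.IsPrime.ne_top inferInstance)
    exact le_antisymm (key σ) (Ideal.subset_pointwise_smul_iff.mpr (key σ⁻¹))
  have h1 := card_stabilizer_eq_card_inertia_mul_card_aut (G := G) (maximalIdeal R)
    (maximalIdeal S)
  have h2 := card_aut_eq_finSepDegree G (maximalIdeal R) (maximalIdeal S)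
  have hsd : Field.finSepDegree (R ⧸ maximalIdeal R) (S ⧸ maximalIdeal S) =
      Module.finrank (FractionRing R) (FractionRing S) := by
    have e1 : Nat.card (MulAction.stabilizer G (maximalIdeal S)) = Nat.card G := by
      rw [(eq_top_iff.mpr fun σ _ => hstab σ : MulAction.stabilizer G (maximalIdeal S) = ⊤),
        Subgroup.card_top]
    have e2 : Nat.card ((maximalIdeal S).inertia G) = 1 := by
      rw [show (maximalIdeal S).inertia G = ⊥ from hI, Subgroup.card_bot]
    rw [← h2, ← hcard, ← e1, h1, e2, one_mul]
  obtain ⟨x, hxsep, hxdeg⟩ := exists_isSeparable_natDegree_eq_finSepDegree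
    (R ⧸ maximalIdeal R) (S ⧸ maximalIdeal S)
  obtain ⟨θ, rfl⟩ := Ideal.Quotient.mk_surjective x
  have hdeg := hxdeg.trans hsd
  have htop := adjoin_eq_top R S (FractionRing R) (FractionRing S) θ hxsep hdeg
  obtain ⟨-, hpdeg⟩ := minpoly_map_eq R S (FractionRing R) (FractionRing S) θ hdeg
  refine ⟨le_antisymm (Ideal.map_le_iff_le_comap.mpr
      ((maximalIdeal S).over_def (maximalIdeal R)).le)
    (maximalIdeal_le_map_of_adjoin_eq_top R S θ htop (hdeg.trans hpdeg.symm)), hfin, ?_⟩
  have h3 := adjoin_residue_eq_top R S θ htop
  have hθ' : IsIntegral (R ⧸ maximalIdeal R) (Ideal.Quotient.mk (maximalIdeal S) θ) :=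
    Algebra.IsIntegral.isIntegral _
  rw [← Field.finSepDegree_eq_finrank_iff, ← hxdeg, ← IntermediateField.adjoin.finrank hθ', h3,
    IntermediateField.finrank_top']

end setup

/-- Let R be a complete Noetherian local normal domain with maximal ideal m, let S be a normal domain
containing R on which a finite group G acts by R-algebra automorphisms, faithfully and with ring of
invariants exactly R (so that S is the integral closure of R in some finite Galois extension, with
group G, of Frac R), and let n be a maximal ideal of S over m. Then the inertia subgroup of n in G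
(the elements g with g s - s ∈ n for all s ∈ S) is trivial if and only if mS = n and the residue
field S/n is finite and separable over R/m. -/
theorem result
    (R S G : Type u) [CommRing R] [CommRing S] [IsDomain R] [IsDomain S]
    [IsNoetherianRing R] [IsLocalRing R] [IsIntegrallyClosed R]
    [IsAdicComplete (IsLocalRing.maximalIdeal R) R]
    [Algebra R S] [FaithfulSMul R S] [IsIntegrallyClosed S]
    [Group G] [Finite G] [MulSemiringAction G S] [SMulCommClass G R S] [IsGaloisGroup G R S]
    (n : Ideal S) [n.IsMaximal] [n.LiesOver (IsLocalRing.maximalIdeal R)] :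
    n.toAddSubgroup.inertia G = ⊥ ↔
      ((IsLocalRing.maximalIdeal R).map (algebraMap R S) = n ∧
        Module.Finite (R ⧸ IsLocalRing.maximalIdeal R) (S ⧸ n) ∧
        Algebra.IsSeparable (R ⧸ IsLocalRing.maximalIdeal R) (S ⧸ n)) := by
  have hfin : Module.Finite R S := finite_of_isGaloisGroup R S G
  obtain ⟨hH, hloc⟩ := henselian_of_complete R S G
  constructor
  · exact unramified_of_inertia_eq_bot R S G n
  · rintro ⟨h1, -, h3⟩
    exact inertia_eq_bot_of_unramified R S G n h1 h3

end Groth.Agent.S18535
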