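import Groth.Statements.S18573
import Groth.Agent.Lib.Seat62PnIrred

set_option autoImplicit false
universe u
open CategoryTheory AlgebraicGeometry
open REq

namespace Groth.Agent.S18573

/-- Let Y be a scheme over a field k and K a field containing k. Let V and W be closed subsets of Y with
V ∪ W = Y such that no K-point of Y has its image in V ∩ W. If p is a K-point of Y lying in V and q
a K-point of Y lying in W, then p and q are not R-equivalent on Y. (The published step concerns
k-points of the special fibre of a proper flat scheme over a discrete valuation ring, that is K = k;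
this row is stated for any scheme Y over k and K-points for any field K containing k.) -/
theorem result (k : Type u) [Field k] (Y : Scheme.{u})
    (g : Y ⟶ Spec (CommRingCat.of k)) (K : Type u) [Field K] [Algebra k K]
    (V W : Set Y) (hV : IsClosed V) (hW : IsClosed W) (hVW : V ∪ W = Set.univ)
    (hT : ∀ z : REq.Pts g K, ¬ (Set.range z.1.base ⊆ V ∩ W))
    (p q : REq.Pts g K) (hp : Set.range p.1.base ⊆ V) (hq : Set.range q.1.base ⊆ W) :
    ¬ REq.REquiv g K p q := by
  -- every K-point has a one-point image, lying in `V` or in `W`
  have hsub : ∀ (z : Spec (CommRingCat.of K) ⟶ Y) (T : Set Y),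
      Set.range z.base ⊆ T ↔ ∀ a : Spec (CommRingCat.of K), z a ∈ T := by
    intro z T
    constructor
    · intro h a
      exact h ⟨a, rfl⟩
    · rintro h _ ⟨a, rfl⟩
      exact h a
  -- an elementary link preserves the side
  have key : ∀ A B : REq.Pts g K, REq.ElemLink g K A B →
      (Set.range A.1.base ⊆ V → Set.range B.1.base ⊆ V) ∧
      (Set.range B.1.base ⊆ V → Set.range A.1.base ⊆ V) := by
    rintro A B ⟨U, h, a, b, -, -, -, ha, hb⟩
    have : IrreducibleSpace ↥(REq.P1K K) :=
      Groth.Agent.Lib.Seat62.PnIrred.irreducibleSpace_projSpaceOver_field 1 K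
    let pt : Spec (CommRingCat.of K) := Nonempty.some inferInstance
    have hU0 : IsPreirreducible (U : Set ↥(REq.P1K K)) :=
      (IrreducibleSpace.isIrreducible_univ _).isPreirreducible.open_subset U.isOpen
        (Set.subset_univ _)
    have hirrU : IsPreirreducible (Set.univ : Set ↥(U : Scheme.{u})) :=
      (Subtype.preirreducibleSpace hU0).isPreirreducible_univ
    have hcl := (isPreirreducible_iff_isClosed_union_isClosed.1 hirrU) (h ⁻¹' V) (h ⁻¹' W)
      (hV.preimage h.continuous) (hW.preimage h.continuous)
      (by
        intro x _
        have : h x ∈ V ∪ W := by rw [hVW]; trivial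
        exact this)
    have hAa : ∀ c, A.1 c = h (a c) := by
      intro c; rw [← ha, Scheme.Hom.comp_apply]
    have hBb : ∀ c, B.1 c = h (b c) := by
      intro c; rw [← hb, Scheme.Hom.comp_apply]
    constructor
    · intro hA
      rcases hcl with hc | hc
      · rw [hsub]; intro c; rw [hBb]; exact hc (Set.mem_univ (b c))
      · exfalso
        apply hT A
        rw [hsub]; intro c
        exact ⟨(hsub _ _).1 hA c, by rw [hAa]; exact hc (Set.mem_univ (a c))⟩
    · intro hB
      rcases hcl with hc | hc
      · rw [hsub]; intro c; rw [hAa]; exact hc (Set.mem_univ (a c))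
      · exfalso
        apply hT B
        rw [hsub]; intro c
        exact ⟨(hsub _ _).1 hB c, by rw [hBb]; exact hc (Set.mem_univ (b c))⟩
  have hgen : ∀ A B : REq.Pts g K, REq.REquiv g K A B →
      (Set.range A.1.base ⊆ V ↔ Set.range B.1.base ⊆ V) := by
    intro A B hAB
    induction hAB with
    | rel A B hAB => exact ⟨(key A B hAB).1, (key A B hAB).2⟩
    | refl A => exact Iff.rfl
    | symm A B _ ih => exact ih.symm
    | trans A B C _ _ ih1 ih2 => exact ih1.trans ih2
  intro hR
  exact hT q (Set.subset_inter ((hgen p q hR).1 hp) hq)

end Groth.Agent.S18573
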