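import Groth.Statements.S18599
import Groth.Agent.Lib.Seat91PadicTors

set_option autoImplicit false
universe u
open SSRed

namespace Groth.Agent.S18599

/-- Let ℓ be a prime number, M a free ℤ_ℓ-module of finite rank, A an automorphism of M with A^ℓ = 1,
and c the rank of M minus the rank of the submodule of A-invariants. Assume that ℓ = 2 and A − 1 ∈
2·End(M), or that ℓ = 2 and (A − 1)² ∈ 4·End(M), or that ℓ = 3 and (A − 1)² ∈ 3·End(M). Then the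
torsion submodule of M/(A − 1)M is a vector space over ℤ/ℓℤ of dimension c/(ℓ − 1): it is killed by
ℓ and has ℓ^r elements for some r with r(ℓ − 1) = c. -/
theorem result (ℓ : ℕ) [Fact ℓ.Prime]
    (M : Type u) [AddCommGroup M] [Module ℤ_[ℓ] M] [Module.Free ℤ_[ℓ] M] [Module.Finite ℤ_[ℓ] M]
    (A : M ≃ₗ[ℤ_[ℓ]] M) (hA : A ^ ℓ = 1) (f : Module.End ℤ_[ℓ] M) (hf : f = (A : M →ₗ[ℤ_[ℓ]] M) - 1)
    (hcase : (ℓ = 2 ∧ ∃ B : Module.End ℤ_[ℓ] M, f = (2 : ℤ_[ℓ]) • B) ∨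
      (ℓ = 2 ∧ ∃ B : Module.End ℤ_[ℓ] M, f ^ 2 = (4 : ℤ_[ℓ]) • B) ∨
      (ℓ = 3 ∧ ∃ B : Module.End ℤ_[ℓ] M, f ^ 2 = (3 : ℤ_[ℓ]) • B))
    (c : ℕ) (hc : c = Module.finrank ℤ_[ℓ] M - Module.finrank ℤ_[ℓ] (LinearMap.ker f)) :
    (∀ x ∈ Submodule.torsion ℤ_[ℓ] (M ⧸ LinearMap.range f), (ℓ : ℤ_[ℓ]) • x = 0) ∧
      ∃ r : ℕ, r * (ℓ - 1) = c ∧
        Nat.card (Submodule.torsion ℤ_[ℓ] (M ⧸ LinearMap.range f)) = ℓ ^ r := by
  have hA' : (1 + f) ^ ℓ = 1 := by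
    have h1 := Groth.Agent.Lib.Seat91.PadicTors.coe_pow_eq_one A ℓ hA
    have h2 : (1 + f : Module.End ℤ_[ℓ] M) = (A : M →ₗ[ℤ_[ℓ]] M) := by
      rw [hf]; abel
    rw [h2]
    exact h1
  rcases hcase with ⟨rfl, B, hB⟩ | ⟨rfl, B, hB⟩ | ⟨rfl, B, hB⟩
  · exact Groth.Agent.Lib.Seat91.PadicTors.case_two f B hA' hB c hc
  · have h4B : f ^ 2 = 4 * B := by
      rw [hB, ← Nat.cast_ofNat (R := ℤ_[2]),
        ← Groth.Agent.Lib.Seat91.PadicTors.natCast_mul_eq_smul, Nat.cast_ofNat]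
    have e : (2 : Module.End ℤ_[2] M) * (f + 2 * B) = (1 + f) ^ 2 - 1 - f ^ 2 + 4 * B := by
      noncomm_ring
    rw [hA', h4B, sub_self, zero_sub, neg_add_cancel,
      ← Nat.cast_ofNat (R := Module.End ℤ_[2] M)] at e
    have e2 : f + ((2 : ℕ) : Module.End ℤ_[2] M) * B = 0 :=
      Groth.Agent.Lib.Seat91.PadicTors.natCast_mul_eq_zero (by norm_num) e
    have e3 : f = (2 : ℤ_[2]) • (-B) := by
      rw [Groth.Agent.Lib.Seat91.PadicTors.natCast_mul_eq_smul] at e2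
      rw [smul_neg, ← Nat.cast_ofNat (R := ℤ_[2])]
      exact eq_neg_of_add_eq_zero_left e2
    exact Groth.Agent.Lib.Seat91.PadicTors.case_two f (-B) hA' e3 c hc
  · exact Groth.Agent.Lib.Seat91.PadicTors.case_three f B hA' hB c hc

end Groth.Agent.S18599
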