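import Groth.Statements.S18638
import Groth.Agent.Lib.Seat67GrCanonLoc
import Groth.Agent.Lib.Seat67GrGorLoc
import Groth.Agent.Lib.Seat97GrHeight
import Groth.Agent.S7701

set_option autoImplicit false
universe u
open GrLC

namespace Groth.Agent.S18638

/-- Let R be a graded ring defined over a field which is Cohen–Macaulay, and K_R its canonical module.
Then R is Gorenstein exactly when K_R is isomorphic to a degree shift R(a) of R for some integer a,
that is, there is a bijective R-linear map R → K_R homogeneous of some fixed degree. Here 'graded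
ring defined over a field' means R = ⊕_{n ≥ 0} R_n is Noetherian with R_0 a field (so R is finitely
generated over R_0), m = R_+ is its unique graded maximal ideal and n = dim R; the canonical module
K_R (the graded dual of H^n_m(R)) is represented by a finitely generated graded module C together
with a homogeneous isomorphism from Hom_R(C, E) onto H^n_m(R), where E is a *injective envelope of
R/m and H^n_m(R) is computed from a *injective resolution of R in the graded category; by graded
Matlis duality this says exactly that C ≅ K_R as graded modules. -/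
theorem result (R : Type u) [CommRing R] [LocCoh.IsCohenMacaulayRing R] (𝒜 : ℤ → AddSubgroup R) [GradedRing 𝒜] (hpos : ∀ n : ℤ, n < 0 → 𝒜 n = ⊥) (h0 : IsField (GrLC.deg0 𝒜)) (m : HomogeneousIdeal 𝒜) (hm : GrLC.IsStarLocal 𝒜 m) (hmsp : m.toIdeal = Ideal.span (⋃ n ∈ Set.Ioi (0 : ℤ), (𝒜 n : Set R))) (n : ℕ) (hn : ringKrullDim R = n) (I : GrLC.StarInjRes 𝒜 𝒜) (E' : Type u) [AddCommGroup E'] [Module R E'] (𝓔 : ℤ → AddSubgroup E') [DirectSum.Decomposition 𝓔] [SetLike.GradedSMul 𝒜 𝓔] (e : (R ⧸ m.toIdeal) →ₗ[R] E') (he : GrLC.IsStarInjHull 𝒜 (GrLC.quotGr 𝒜 m) 𝓔 e) (C : Type u) [AddCommGroup C] [Module R C] (𝒞 : ℤ → AddSubgroup C) [DirectSum.Decomposition 𝒞] [SetLike.GradedSMul 𝒜 𝒞] (hC : GrLC.IsStarCanonical 𝒜 𝒞 𝓔 m n I) : LocCoh.IsGorensteinRing R ↔ ∃ (a : ℤ) (f : R →ₗ[R] C), Function.Bijective f ∧ GrLC.IsGrHomDeg 𝒜 𝒞 f a := by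
  classical
  haveI hN : IsNoetherianRing R := inferInstance
  haveI hmax : m.toIdeal.IsMaximal :=
    Groth.Agent.Lib.Seat86.StarLocal.isMaximal_of_isStarLocal hm hpos
  haveI hmp : m.toIdeal.IsPrime := hmax.isPrime
  haveI hCM : LocCoh.IsCohenMacaulayLocalRing (Localization.AtPrime m.toIdeal) :=
    LocCoh.IsCohenMacaulayRing.isCohenMacaulayLocalRing_localization m.toIdeal
  have hdimA : ringKrullDim (Localization.AtPrime m.toIdeal) = n := by
    rw [IsLocalization.AtPrime.ringKrullDim_eq_height m.toIdeal,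
      ← Groth.Agent.Lib.Seat97.GrHeight.ringKrullDim_eq_height_of_isStarLocal 𝒜 hpos hm, hn]
  have hull := Groth.Agent.S18637.result R 𝒜 m E' 𝓔 e he
  obtain ⟨-, f₀, hf₀⟩ := Groth.Agent.Lib.Seat67.GrCanonLoc.exists_hull m.toIdeal e hull
  obtain ⟨eK⟩ := Groth.Agent.Lib.Seat67.GrCanonLoc.nonempty_equiv 𝒜 m 𝓔 𝒞 n I hC
  haveI : Module.Finite R C := hC.1
  have key := Groth.Agent.S7701.result (Localization.AtPrime m.toIdeal) n hdimA
    (LocalizedModule m.toIdeal.primeCompl E') f₀ hf₀ (LocalizedModule m.toIdeal.primeCompl C) eK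
  -- `S⁻¹R ≅ A`
  let e₀ : LocalizedModule m.toIdeal.primeCompl R ≃ₗ[R] Localization.AtPrime m.toIdeal :=
    IsLocalizedModule.linearEquiv m.toIdeal.primeCompl
      (LocalizedModule.mkLinearMap m.toIdeal.primeCompl R)
      (Algebra.linearMap R (Localization.AtPrime m.toIdeal))
  let e₁ : LocalizedModule m.toIdeal.primeCompl R ≃ₗ[Localization.AtPrime m.toIdeal]
      Localization.AtPrime m.toIdeal :=
    e₀.extendScalarsOfIsLocalization m.toIdeal.primeCompl (Localization.AtPrime m.toIdeal)
  constructor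
  · intro hG
    have hGm := hG.isGorensteinLocalRing_localization m.toIdeal
    obtain ⟨κ⟩ := key.mp hGm
    let θ : LocalizedModule m.toIdeal.primeCompl R ≃ₗ[Localization.AtPrime m.toIdeal]
        LocalizedModule m.toIdeal.primeCompl C := e₁.trans κ.symm
    have hEnd : Function.Bijective (fun a : Localization.AtPrime m.toIdeal =>
        a • (LinearMap.id : LocalizedModule m.toIdeal.primeCompl R →ₗ[Localization.AtPrime m.toIdeal]
          LocalizedModule m.toIdeal.primeCompl R)) :=
      Groth.Agent.Lib.Seat67.GrCanonLoc.bijective_smul_id_of_equiv e₁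
    obtain ⟨g, φ, hφ⟩ := Groth.Agent.Lib.Seat91.GrLift.exists_graded_equiv (𝒜 := 𝒜) (𝒞 := 𝒜)
      (𝒞' := 𝒞) hm θ hEnd
    exact ⟨g, φ.toLinearMap, φ.bijective, hφ⟩
  · rintro ⟨a, f, hf, -⟩
    let φ : R ≃ₗ[R] C := LinearEquiv.ofBijective f hf
    let φS : LocalizedModule m.toIdeal.primeCompl R ≃ₗ[Localization.AtPrime m.toIdeal]
        LocalizedModule m.toIdeal.primeCompl C :=
      IsLocalizedModule.mapEquiv m.toIdeal.primeCompl
        (LocalizedModule.mkLinearMap m.toIdeal.primeCompl R)
        (LocalizedModule.mkLinearMap m.toIdeal.primeCompl C)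
        (Localization.AtPrime m.toIdeal) φ
    have hGm : LocCoh.IsGorensteinLocalRing (Localization.AtPrime m.toIdeal) :=
      key.mpr ⟨φS.symm.trans e₁⟩
    exact Groth.Agent.Lib.Seat67.GrGorLoc.gorRing_of_gorLocal_starLocal 𝒜 hm hGm

end Groth.Agent.S18638
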