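import Groth.Statements.S18640
import Groth.Agent.Lib.Seat67GrCanonLoc
import Groth.Agent.Lib.Seat67LocBass
import Groth.Agent.Lib.Seat97GrHeight

set_option autoImplicit false
universe u
open scoped TensorProduct
open GrLC

namespace Groth.Agent.S18640

/-- Let R be a graded ring defined over a field which is Cohen–Macaulay, with graded maximal ideal m, n
= dim R, residue field k = R/m and canonical module K_R. Then (iii) the type of K_R is 1: the Bass
number μ_n(m, K_R), the k-dimension of Ext^n over R_m of k into (K_R)_m, equals 1; and (iv) the type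
of R, namely μ_n(m, R), equals ν(K_R) = dim_k (K_R / m K_R), the minimal number of generators of K_R
(written as the k-dimension of k ⊗_R K_R). Here 'graded ring defined over a field' means R = ⊕_{n ≥
0} R_n is Noetherian with R_0 a field (so R is finitely generated over R_0), m = R_+ is its unique
graded maximal ideal and n = dim R; the canonical module K_R (the graded dual of H^n_m(R)) is
represented by a finitely generated graded module C together with a homogeneous isomorphism from
Hom_R(C, E) onto H^n_m(R), where E is a *injective envelope of R/m and H^n_m(R) is computed from a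
*injective resolution of R in the graded category; by graded Matlis duality this says exactly that C
≅ K_R as graded modules. -/
theorem result (R : Type u) [CommRing R] [LocCoh.IsCohenMacaulayRing R] (𝒜 : ℤ → AddSubgroup R) [GradedRing 𝒜] (hpos : ∀ n : ℤ, n < 0 → 𝒜 n = ⊥) (h0 : IsField (GrLC.deg0 𝒜)) (m : HomogeneousIdeal 𝒜) (hm : GrLC.IsStarLocal 𝒜 m) (hmsp : m.toIdeal = Ideal.span (⋃ n ∈ Set.Ioi (0 : ℤ), (𝒜 n : Set R))) [m.toIdeal.IsMaximal] (n : ℕ) (hn : ringKrullDim R = n) (I : GrLC.StarInjRes 𝒜 𝒜) (E' : Type u) [AddCommGroup E'] [Module R E'] (𝓔 : ℤ → AddSubgroup E') [DirectSum.Decomposition 𝓔] [SetLike.GradedSMul 𝒜 𝓔] (e : (R ⧸ m.toIdeal) →ₗ[R] E') (he : GrLC.IsStarInjHull 𝒜 (GrLC.quotGr 𝒜 m) 𝓔 e) (C : Type u) [AddCommGroup C] [Module R C] (𝒞 : ℤ → AddSubgroup C) [DirectSum.Decomposition 𝒞] [SetLike.GradedSMul 𝒜 𝒞] (hC : GrLC.IsStarCanonical 𝒜 𝒞 𝓔 m n I) : GrLC.bassNum m.toIdeal C n = 1 ∧ GrLC.bassNum m.toIdeal R n = (Module.finrank (R ⧸ m.toIdeal) ((R ⧸ m.toIdeal) ⊗[R] C) : ℕ∞) := by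
  classical
  haveI hN : IsNoetherianRing R := inferInstance
  haveI hCM : LocCoh.IsCohenMacaulayLocalRing (Localization.AtPrime m.toIdeal) :=
    LocCoh.IsCohenMacaulayRing.isCohenMacaulayLocalRing_localization m.toIdeal
  have hdimA : ringKrullDim (Localization.AtPrime m.toIdeal) = n := by
    rw [IsLocalization.AtPrime.ringKrullDim_eq_height m.toIdeal,
      ← Groth.Agent.Lib.Seat97.GrHeight.ringKrullDim_eq_height_of_isStarLocal 𝒜 hpos hm, hn]
  have hull := Groth.Agent.S18637.result R 𝒜 m E' 𝓔 e he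
  obtain ⟨-, f₀, hf₀⟩ := Groth.Agent.Lib.Seat67.GrCanonLoc.exists_hull m.toIdeal e hull
  obtain ⟨eK⟩ := Groth.Agent.Lib.Seat67.GrCanonLoc.nonempty_equiv 𝒜 m 𝓔 𝒞 n I hC
  haveI : Module.Finite R C := hC.1
  -- `S⁻¹R ≅ A`
  let e₀ : LocalizedModule m.toIdeal.primeCompl R ≃ₗ[R] Localization.AtPrime m.toIdeal :=
    IsLocalizedModule.linearEquiv m.toIdeal.primeCompl
      (LocalizedModule.mkLinearMap m.toIdeal.primeCompl R)
      (Algebra.linearMap R (Localization.AtPrime m.toIdeal))
  let e₁ : LocalizedModule m.toIdeal.primeCompl R ≃ₗ[Localization.AtPrime m.toIdeal]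
      Localization.AtPrime m.toIdeal :=
    e₀.extendScalarsOfIsLocalization m.toIdeal.primeCompl (Localization.AtPrime m.toIdeal)
  constructor
  · exact Groth.Agent.Lib.Seat67.LocBass.length_ext_canon n hdimA
      (LocalizedModule m.toIdeal.primeCompl E') f₀ hf₀ (LocalizedModule m.toIdeal.primeCompl C) eK
  · have h1 := Groth.Agent.Lib.Seat67.LocBass.length_ext_self n hdimA
      (LocalizedModule m.toIdeal.primeCompl E') f₀ hf₀ (LocalizedModule m.toIdeal.primeCompl C) eK
      (LocalizedModule m.toIdeal.primeCompl R) e₁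
    refine h1.trans ?_
    exact Groth.Agent.Lib.Seat67.LocBass.length_residue_tensor_localized m.toIdeal C

end Groth.Agent.S18640
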