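import Groth.Statements.S18644
import Groth.Agent.S17772
import Groth.Agent.Lib.Seat67AInvPure
import Groth.Agent.Lib.Seat91CompGrading

set_option autoImplicit false
universe u
open GrLC

namespace Groth.Agent.S18644

/-- Let R be a graded ring defined over a field k = R_0 which is Cohen–Macaulay and generated over k by
R_1, of dimension r. Then a(R) = −r holds exactly when R is isomorphic to the polynomial ring over k
in r variables. Here 'graded ring defined over a field' means R = ⊕_{n ≥ 0} R_n is Noetherian with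
R_0 a field, and m = R_+ is its unique graded maximal ideal. The a-invariant a(R) is the largest
degree in which the graded local cohomology H^n_m(R) (n = dim R, m = R_+), computed from a
*injective resolution of R in the graded category, is nonzero. (The inequality a(R) ≥ −r of the same
lemma is stated separately.) -/
theorem result (R : Type u) [CommRing R] [LocCoh.IsCohenMacaulayRing R] (𝒜 : ℤ → AddSubgroup R) [GradedRing 𝒜] (hpos : ∀ n : ℤ, n < 0 → 𝒜 n = ⊥) (h0 : IsField (GrLC.deg0 𝒜)) (m : HomogeneousIdeal 𝒜) (hm : GrLC.IsStarLocal 𝒜 m) (hmsp : m.toIdeal = Ideal.span (⋃ n ∈ Set.Ioi (0 : ℤ), (𝒜 n : Set R))) (hstd : Ideal.span (⋃ n ∈ Set.Ioi (0 : ℤ), (𝒜 n : Set R)) = Ideal.span ((𝒜 1 : AddSubgroup R) : Set R)) (r : ℕ) (hr : ringKrullDim R = r) (I : GrLC.StarInjRes 𝒜 𝒜) : GrLC.endDeg (I.Hgr m r) = (((-(r : ℤ) : ℤ) : WithTop ℤ) : WithBot (WithTop ℤ)) ↔ Nonempty (R ≃+* MvPolynomial (Fin r) (GrLC.deg0 𝒜))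 := by
  classical
  have hnt : Nontrivial R := by
    by_contra h
    rw [not_nontrivial_iff_subsingleton] at h
    rw [ringKrullDim_eq_bot_of_subsingleton] at hr
    exact absurd hr (by simp)
  letI : Field (GrLC.deg0 𝒜) := h0.toField
  letI : GradedAlgebra (GrLC.comp 𝒜 𝒜) := Groth.Agent.Lib.Seat91.CompGrading.compGradedAlgebra 𝒜
  have hpos' : ∀ n : ℤ, n < 0 → GrLC.comp 𝒜 𝒜 n = ⊥ := fun n hn =>
    Groth.Agent.Lib.Seat91.CompGrading.comp_eq_bot 𝒜 (hpos n hn)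
  have h0' : GrLC.comp 𝒜 𝒜 0 = Submodule.span (GrLC.deg0 𝒜) {(1 : R)} :=
    Groth.Agent.Lib.Seat91.CompGrading.comp_zero_eq 𝒜
  have hstd' : Ideal.span (⋃ j ∈ Set.Ioi (0 : ℤ), (GrLC.comp 𝒜 𝒜 j : Set R)) =
      Ideal.span ((GrLC.comp 𝒜 𝒜 1 : Submodule (GrLC.deg0 𝒜) R) : Set R) := hstd
  haveI hart : IsArtinianRing (GrLC.deg0 𝒜) := inferInstance
  obtain ⟨n, x, hx⟩ := Groth.Agent.Lib.Seat67.AInvPure.exists_std (GrLC.comp 𝒜 𝒜) hpos' h0' hstd'
  obtain ⟨P, N, hPN⟩ := Groth.Agent.Lib.Seat67.HilbPoly.exists_hilbPoly (GrLC.comp 𝒜 𝒜) hx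
  have hlen : ∀ j : ℤ, ((Module.length (GrLC.deg0 𝒜) (GrLC.comp 𝒜 𝒜 j)).toNat : ℚ) =
      (Module.finrank (GrLC.deg0 𝒜) (GrLC.comp 𝒜 𝒜 j) : ℚ) := fun j => by
    rw [Groth.Agent.Lib.Seat67.HilbPoly.length_toNat_eq_finrank (GrLC.comp 𝒜 𝒜) hx j]
  have hP : ∃ N : ℤ, ∀ n : ℤ, N ≤ n → P.eval (n : ℚ) =
      ((Module.length (GrLC.deg0 𝒜) (GrLC.comp 𝒜 𝒜 n)).toNat : ℚ) := by
    refine ⟨(N : ℤ), fun j hj => ?_⟩
    obtain ⟨m, rfl⟩ := Int.eq_ofNat_of_zero_le (le_trans (Int.natCast_nonneg N) hj)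
    rw [hlen]
    have := hPN m (by exact_mod_cast hj)
    exact_mod_cast this
  rw [Groth.Agent.S17772.result R 𝒜 hpos hstd m hm r hr I P hP]
  have hr' : ringKrullDim R = ((r : ℕ) : WithBot ℕ∞) := hr
  constructor
  · intro hsup
    refine Groth.Agent.Lib.Seat67.AInvPure.nonempty_ringEquiv_of_eval_eq (GrLC.comp 𝒜 𝒜) hpos' h0'
      hstd' r hr' P N hPN ?_
    intro j hj
    by_contra hne
    rw [← hlen] at hne
    have hle : ((j : WithTop ℤ) : WithBot (WithTop ℤ)) ≤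
        ⨆ (n : ℤ) (_ : P.eval (n : ℚ) ≠
          ((Module.length (GrLC.deg0 𝒜) (GrLC.comp 𝒜 𝒜 n)).toNat : ℚ)),
          ((n : WithTop ℤ) : WithBot (WithTop ℤ)) :=
      le_iSup₂ (f := fun (n : ℤ) (_ : P.eval (n : ℚ) ≠
          ((Module.length (GrLC.deg0 𝒜) (GrLC.comp 𝒜 𝒜 n)).toNat : ℚ)) =>
          ((n : WithTop ℤ) : WithBot (WithTop ℤ))) j hne
    rw [hsup] at hle
    have hle' : j ≤ -(r : ℤ) := by
      have h1 := WithBot.coe_le_coe.1 hle
      exact WithTop.coe_le_coe.1 h1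
    omega
  · rintro ⟨e⟩
    haveI : IsRegularRing R := IsRegularRing.of_ringEquiv e.symm
    obtain ⟨h1, h2⟩ := Groth.Agent.Lib.Seat67.AInvPure.eval_eq_of_isRegularRing (GrLC.comp 𝒜 𝒜)
      hpos' h0' hstd' r hr' P N hPN
    apply le_antisymm
    · refine iSup₂_le fun j hj => ?_
      have hle' : j ≤ -(r : ℤ) := by
        by_contra hcon
        push Not at hcon
        apply hj
        rw [hlen]
        exact h1 j hcon
      exact WithBot.coe_le_coe.2 (WithTop.coe_le_coe.2 hle')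
    · rw [← hlen] at h2
      exact le_iSup₂ (f := fun (n : ℤ) (_ : P.eval (n : ℚ) ≠
          ((Module.length (GrLC.deg0 𝒜) (GrLC.comp 𝒜 𝒜 n)).toNat : ℚ)) =>
          ((n : WithTop ℤ) : WithBot (WithTop ℤ))) (-(r : ℤ)) h2

end Groth.Agent.S18644
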