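import Groth.Statements.S18645
import Groth.Agent.Lib.Seat97GrRegSeq
import Groth.Agent.Lib.Seat97GrDimField

set_option autoImplicit false
universe u
open GrLC

namespace Groth.Agent.S18645

/-- Let R be a graded ring defined over a field which is Cohen–Macaulay, of dimension n, and let f_1, …,
f_t be an R-regular sequence of homogeneous elements of positive degrees d_1, …, d_t, with S =
R/(f_1, …, f_t). The canonical module of S is (K_R/(f_1, …, f_t)K_R)(d_1 + ⋯ + d_t); consequently —
this is the form stated here — the a-invariants satisfy a(S) = a(R) + d_1 + ⋯ + d_t, where a(S) is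
the largest nonzero degree of H^{n−t}_m(S) and a(R) that of H^n_m(R), both graded local cohomologies
over R with support in m = R_+ computed from *injective resolutions in the graded category, and S is
presented as a graded R-module N with a degree-preserving surjection π : R → N whose kernel is (f_1,
…, f_t). Here 'graded ring defined over a field' means R = ⊕_{n ≥ 0} R_n is Noetherian with R_0 a
field, and m = R_+ is its unique graded maximal ideal. -/
theorem result (R : Type u) [CommRing R] [LocCoh.IsCohenMacaulayRing R] (𝒜 : ℤ → AddSubgroup R) [GradedRing 𝒜] (hpos : ∀ n : ℤ, n < 0 → 𝒜 n = ⊥) (h0 : IsField (GrLC.deg0 𝒜)) (m : HomogeneousIdeal 𝒜) (hm : GrLC.IsStarLocal 𝒜 m) (hmsp : m.toIdeal = Ideal.span (⋃ n ∈ Set.Ioi (0 : ℤ), (𝒜 n : Set R))) (n : ℕ) (hn : ringKrullDim R = n) (I : GrLC.StarInjRes 𝒜 𝒜) (t : ℕ) (htn : t ≤ n) (f : Fin t → R) (deg : Fin t → ℤ) (hfdeg : ∀ i, f i ∈ 𝒜 (deg i)) (hfm : ∀ i, f i ∈ m.toIdeal) (hreg : RingTheory.Sequence.IsRegular R (List.ofFn f)) (N : Type u) [AddCommGroup N] [Module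 R N] (𝒩 : ℤ → AddSubgroup N) [DirectSum.Decomposition 𝒩] [SetLike.GradedSMul 𝒜 𝒩] (π : R →ₗ[R] N) (hπ : GrLC.IsGrHom 𝒜 𝒩 π) (hπs : Function.Surjective π) (hπk : LinearMap.ker π = Ideal.span (Set.range f)) (F : GrLC.StarInjRes 𝒜 𝒩) : GrLC.endDeg (F.Hgr m (n - t)) = GrLC.endDeg (I.Hgr m n) + ((((Finset.univ : Finset (Fin t)).sum deg : ℤ) : WithTop ℤ) : WithBot (WithTop ℤ)) := by
  classical
  -- the degrees are nonnegative: a homogeneous element of negative degree is zero, and zero
  -- cannot occur in a regular sequence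
  have hdeg0 : ∀ i, 0 ≤ deg i := by
    intro i
    by_contra hneg
    rw [not_le] at hneg
    have hfi : f i = 0 := by
      have : f i ∈ (⊥ : AddSubgroup R) := by rw [← hpos _ hneg]; exact hfdeg i
      exact AddSubgroup.mem_bot.mp this
    have hlen : (i : ℕ) < (List.ofFn f).length := by rw [List.length_ofFn]; exact i.2
    have hreg_i := hreg.toIsWeaklyRegular.regular_mod_prev i hlen
    have hget : (List.ofFn f)[(i : ℕ)] = 0 := by
      rw [List.getElem_ofFn]
      exact hfi
    rw [hget] at hreg_i
    have hsub : ∀ q : R ⧸ (Ideal.ofList ((List.ofFn f).take i) • ⊤ : Submodule R R), q = 0 := by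
      intro q
      apply hreg_i
      show (0 : R) • q = (0 : R) • 0
      rw [zero_smul, zero_smul]
    have htop : (Ideal.ofList ((List.ofFn f).take i) • ⊤ : Submodule R R) = ⊤ := by
      rw [eq_top_iff]
      intro r _
      have := hsub (Submodule.Quotient.mk r)
      exact (Submodule.Quotient.mk_eq_zero _).mp this
    have hle : (Ideal.ofList ((List.ofFn f).take i) • ⊤ : Submodule R R) ≤
        Ideal.ofList (List.ofFn f) • ⊤ :=
      Submodule.smul_mono_left (Ideal.span_mono (fun y hy => List.mem_of_mem_take hy))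
    rw [htop] at hle
    exact hreg.top_ne_smul (le_antisymm hle le_top)
  have hdepth : ∀ i : ℕ, i < n → Subsingleton (I.H m i) := fun i hi =>
    Groth.Agent.Lib.Seat97.GrDimField.subsingleton_H_of_lt_dim 𝒜 hpos h0 m hm hmsp n hn I i hi
  exact (Groth.Agent.Lib.Seat97.GrRegSeq.regSeq_main m I n hdepth t htn f deg hfdeg hdeg0 hfm
    hreg.toIsWeaklyRegular N 𝒩 π hπ hπs hπk F).2

end Groth.Agent.S18645
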