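import Groth.Statements.S18654
import Groth.Agent.Lib.Seat91HilbMono
import Groth.Agent.Lib.Seat91CompGrading

set_option autoImplicit false
universe u
open GrLC

namespace Groth.Agent.S18654

/-- Let R be a graded ring defined over a field k = R_0 which is Cohen–Macaulay and generated over k by
R_1, with dim R ≥ 1, and write H(n, R) = dim_k R_n. Then H(n + 1, R) ≥ H(n, R) for every integer n.
Here 'graded ring defined over a field' means R = ⊕_{n ≥ 0} R_n is Noetherian with R_0 a field, and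
m = R_+ is its unique graded maximal ideal. -/
theorem result (R : Type u) [CommRing R] [LocCoh.IsCohenMacaulayRing R] (𝒜 : ℤ → AddSubgroup R) [GradedRing 𝒜] (hpos : ∀ n : ℤ, n < 0 → 𝒜 n = ⊥) (h0 : IsField (GrLC.deg0 𝒜)) (hstd : Ideal.span (⋃ n ∈ Set.Ioi (0 : ℤ), (𝒜 n : Set R)) = Ideal.span ((𝒜 1 : AddSubgroup R) : Set R)) (h1 : 1 ≤ ringKrullDim R) (n : ℤ) : Module.finrank (GrLC.deg0 𝒜) (GrLC.comp 𝒜 𝒜 n) ≤ Module.finrank (GrLC.deg0 𝒜) (GrLC.comp 𝒜 𝒜 (n + 1)) := by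
  classical
  have hnt : Nontrivial R := by
    by_contra h
    rw [not_nontrivial_iff_subsingleton] at h
    rw [ringKrullDim_eq_bot_of_subsingleton] at h1
    exact absurd h1 (by decide)
  letI : Field (GrLC.deg0 𝒜) := h0.toField
  letI : GradedAlgebra (GrLC.comp 𝒜 𝒜) := Groth.Agent.Lib.Seat91.CompGrading.compGradedAlgebra 𝒜
  have hpos' : ∀ n : ℤ, n < 0 → GrLC.comp 𝒜 𝒜 n = ⊥ := fun n hn =>
    Groth.Agent.Lib.Seat91.CompGrading.comp_eq_bot 𝒜 (hpos n hn)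
  have h0' : GrLC.comp 𝒜 𝒜 0 = Submodule.span (GrLC.deg0 𝒜) {(1 : R)} :=
    Groth.Agent.Lib.Seat91.CompGrading.comp_zero_eq 𝒜
  have hstd' : Groth.Agent.Lib.Seat91.GrIrr.irr (GrLC.comp 𝒜 𝒜) =
      Ideal.span ((GrLC.comp 𝒜 𝒜 1 : Submodule (GrLC.deg0 𝒜) R) : Set R) := hstd
  exact Groth.Agent.Lib.Seat91.HilbMono.finrank_le_succ (GrLC.comp 𝒜 𝒜) hpos' h0' hstd' h1 n

end Groth.Agent.S18654
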