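import Groth.Statements.S18664
import Groth.Agent.Lib.Seat91SegreCM1
import Groth.Agent.Lib.Helper28PolyCM

set_option autoImplicit false
universe u
open scoped TensorProduct
open GrSegre

namespace Groth.Agent.S18664

/-- Let R and S be standard graded rings defined over a field k which are Cohen–Macaulay, with dim R = 1
and dim S ≥ 2. Then the Segre product T = R # S is a Cohen–Macaulay ring if and only if R is a
polynomial ring over k (in one variable). Here a graded ring defined over k is a commutative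
k-algebra of finite type, graded in nonnegative degrees by k-subspaces with degree-zero part k·1,
standard graded when its irrelevant ideal is generated by the degree-one piece; the Segre product T
= ⊕_n R_n ⊗_k S_n is presented abstractly as a graded k-algebra T with an injective k-algebra
homomorphism ψ : T → R ⊗_k S carrying T_n onto the k-span of the elementary tensors a ⊗ b with a ∈
R_n, b ∈ S_n. -/
theorem result (k : Type u) [Field k] (R : Type u) [CommRing R] [Algebra k R] (𝒜 : ℤ → Submodule k R) [GradedAlgebra 𝒜] (hposR : ∀ n : ℤ, n < 0 → 𝒜 n = ⊥) (h0R : 𝒜 0 = Submodule.span k {(1 : R)}) [Algebra.FiniteType k R] (S : Type u) [CommRing S] [Algebra k S] (ℬ : ℤ → Submodule k S) [GradedAlgebra ℬ] (hposS : ∀ n : ℤ, n < 0 → ℬ n = ⊥) (h0S : ℬ 0 = Submodule.span k {(1 : S)}) [Algebra.FiniteType k S] (T : Type u) [CommRing T] [Algebra k T] (𝒯 : ℤ → Submodule k T) [GradedAlgebra 𝒯] (ψ : T →ₐ[k] TensorProduct k R S) (hψ : Function.Injective ψ) (hdegT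 : ∀ n : ℤ, (𝒯 n).map ψ.toLinearMap = Submodule.span k {x : TensorProduct k R S | ∃ a ∈ 𝒜 n, ∃ b ∈ ℬ n, x = a ⊗ₜ[k] b}) [LocCoh.IsCohenMacaulayRing R] [LocCoh.IsCohenMacaulayRing S] (hstdR : Ideal.span (⋃ n ∈ Set.Ioi (0 : ℤ), (𝒜 n : Set R)) = Ideal.span ((𝒜 1 : Submodule k R) : Set R)) (hstdS : Ideal.span (⋃ n ∈ Set.Ioi (0 : ℤ), (ℬ n : Set S)) = Ideal.span ((ℬ 1 : Submodule k S) : Set S)) (hr : ringKrullDim R = 1) (hs : 2 ≤ ringKrullDim S) : LocCoh.IsCohenMacaulayRing T ↔ Nonempty (R ≃ₐ[k] Polynomial k) := by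
  classical
  have hdeg : ∀ n : ℤ, (𝒯 n).map ψ.toLinearMap = Groth.Agent.Lib.Seat91.SegreCoact.diag 𝒜 ℬ n := hdegT
  have hstdR' : Groth.Agent.Lib.Seat91.GrIrr.irr 𝒜 =
      Ideal.span ((𝒜 1 : Submodule k R) : Set R) := hstdR
  have hstdS' : Groth.Agent.Lib.Seat91.GrIrr.irr ℬ =
      Ideal.span ((ℬ 1 : Submodule k S) : Set S) := hstdS
  have hntR : Nontrivial R := by
    by_contra h
    rw [not_nontrivial_iff_subsingleton] at h
    rw [ringKrullDim_eq_bot_of_subsingleton] at hr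
    exact absurd hr (by decide)
  -- if `R_1 ⊆ k y` then `R` is a polynomial ring and `T ≅ S` is Cohen–Macaulay
  have key : (∃ y ∈ 𝒜 1, 𝒜 1 ≤ Submodule.span k {y}) →
      (Nonempty (R ≃ₐ[k] Polynomial k) ∧ LocCoh.IsCohenMacaulayRing T) := by
    rintro ⟨y, hy, h1⟩
    have hA : ∀ n : ℕ, 𝒜 (n : ℤ) = Submodule.span k {y ^ n} :=
      Groth.Agent.Lib.Seat91.PolyGraded.piece_eq_span_pow 𝒜 h0R hstdR' hy h1
    have hne : ∀ n : ℕ, y ^ n ≠ 0 := by
      intro n h
      obtain ⟨w, hw, hw0⟩ := Groth.Agent.Lib.Seat91.PolyGraded.exists_ne_zero_of_cm 𝒜 hposR h0R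
        hstdR' hr.ge n
      rw [hA n, h] at hw
      apply hw0
      simpa using hw
    have hbij : Function.Bijective (Polynomial.aeval y : Polynomial k →ₐ[k] R) :=
      ⟨Groth.Agent.Lib.Seat91.PolyGraded.aeval_injective 𝒜 hy hne,
        Groth.Agent.Lib.Seat91.PolyGraded.aeval_surjective 𝒜 hposR h0R hstdR' hy h1⟩
    let e : Polynomial k ≃ₐ[k] R := AlgEquiv.ofBijective (Polynomial.aeval y) hbij
    refine ⟨⟨e.symm⟩, ?_⟩
    let ε : R →ₐ[k] k := (Polynomial.aeval (1 : k) : Polynomial k →ₐ[k] k).comp e.symm.toAlgHom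
    have hε : ε y = 1 := by
      have h2 : e.symm y = Polynomial.X := by
        rw [AlgEquiv.symm_apply_eq]
        show y = Polynomial.aeval y Polynomial.X
        rw [Polynomial.aeval_X]
      show Polynomial.aeval (1 : k) (e.symm y) = 1
      rw [h2, Polynomial.aeval_X]
    have hb := Groth.Agent.Lib.Seat91.PolyGraded.segre_bijective 𝒜 ℬ 𝒯 ψ hdeg hposR hposS hA ε hε hψ
    let E : T ≃+* S := RingEquiv.ofBijective
      (((Groth.Agent.Lib.Seat91.PolyGraded.tau' (S := S) ε).comp ψ : T →ₐ[k] S) : T →+* S) hb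
    exact Groth.Agent.Lib.Helper28.isCohenMacaulayRing_of_ringEquiv E.symm
  constructor
  · intro hT
    by_contra hno
    have hH : ¬ ∃ y ∈ 𝒜 1, 𝒜 1 ≤ Submodule.span k {y} := fun h => hno (key h).1
    exact Groth.Agent.Lib.Seat91.SegreCM1.not_isCohenMacaulayRing 𝒜 ℬ 𝒯 ψ hdeg hψ hposR h0R hposS h0S
      hstdR' hstdS' hr hs hH hT
  · rintro ⟨e⟩
    have hPIR : IsPrincipalIdealRing R :=
      IsPrincipalIdealRing.of_surjective (e.symm : Polynomial k →+* R) e.symm.surjective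
    obtain ⟨g, hg⟩ := (IsPrincipalIdealRing.principal (Groth.Agent.Lib.Seat91.GrIrr.irr 𝒜)).principal
    have hg' : Groth.Agent.Lib.Seat91.GrIrr.irr 𝒜 = Ideal.span {g} := hg
    have h1 := Groth.Agent.Lib.Seat91.PolyGraded.le_span_of_irr_eq_span 𝒜 hposR h0R hg'
    exact (key ⟨_, SetLike.coe_mem _, h1⟩).2

end Groth.Agent.S18664
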