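import Mathlib
import Groth.Prelude
import Groth.Statements.S18715
import Groth.Agent.Lib.Helper5CodepthOpen
import Groth.Agent.Lib.Seat8HasDual
import Groth.Agent.S0372

set_option autoImplicit false
universe u
open CategoryTheory
attribute [local instance] HasDerivedCategory.standard
open QGor

namespace Groth.Agent.S18715

/-- Affine form. Let A be a Noetherian ring with a dualizing complex ω and M a finite A-module. For
every k ≥ 1 the S_k-locus {p : M_p satisfies (S_k) over A_p} is open in Spec A. (The Cohen–Macaulay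
and Gorenstein loci, also treated there, are separate known statements.) -/
theorem result (A : Type u) [CommRing A] [IsNoetherianRing A]
    (ω : Dual.D A) (hω : Dual.IsDualizing A ω) (M : Type u) [AddCommGroup M] [Module A M] [Module.Finite A M]
    (k : ℕ) (hk : 1 ≤ k) :
    IsOpen {p : PrimeSpectrum A | EGA4.HasSkAt k A M p.asIdeal} := by
  have hCMU : Groth.Agent.Lib.Helper5.CodepthOpen.CMU A := by
    refine Groth.Agent.Lib.Helper5.CodepthOpen.cmu_of_open (fun p hp => ?_)
    obtain ⟨ω', hω'⟩ := Groth.Agent.Lib.Seat8.HasDual.hasDual_of_surjective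
      (Ideal.Quotient.mk p) Ideal.Quotient.mk_surjective ⟨ω, hω⟩
    obtain ⟨hopen, hdense⟩ := Groth.Agent.S0372.result (A ⧸ p) ω' hω'
    have : Nontrivial (A ⧸ p) := Ideal.Quotient.nontrivial_iff.mpr hp.ne_top
    exact ⟨_, hopen, hdense.nonempty, fun q hq => hq⟩
  exact Groth.Agent.Lib.Helper5.CodepthOpen.isOpen_hasSkAt k
    (Groth.Agent.Lib.Helper5.CodepthOpen.genSk_of_cmu k hCMU) M

end Groth.Agent.S18715
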