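import Groth.Statements.S18725
import Groth.Agent.Lib.Seat92FibLocal
import Groth.Agent.Lib.Helper3FlatOpenNoeth
import Groth.Agent.Lib.Helper28Hull2

set_option autoImplicit false
universe u
open QGor

namespace Groth.Agent.S18725

/-- Affine form of the equivalence (c) ⇔ (d). Let A → B be a homomorphism of finite type between
Noetherian rings, J an ideal of B and 0 → F → E⁰ → E¹ → G → 0 an exact sequence of finite B-modules
such that E⁰, E¹ are flat over A, G_q is flat over A for every prime q not containing J, and for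
every prime q ⊇ J with contraction p the fibre stalk E⁰_q/pE⁰_q has depth ≥ 2 and E¹_q/pE¹_q has
depth ≥ 1. Then for a prime n of B the following are equivalent: G is flat over A at n; there is a
basic open neighbourhood D(s) of n such that at every prime q ∈ D(s) the module F is flat over A at
q and, if q ⊇ J, the fibre stalk F_q/pF_q has depth ≥ 2 (the restriction maps of the fibres of F off
V(J) are bijective on D(s)). -/
theorem result (A B : Type u) [CommRing A] [CommRing B]
    [IsNoetherianRing A] [IsNoetherianRing B] [Algebra A B] (hft : Algebra.FiniteType A B) (J : Ideal B)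
    (F E0 E1 G : Type u) [AddCommGroup F] [Module B F] [Module A F] [IsScalarTower A B F] [Module.Finite B F]
    [AddCommGroup E0] [Module B E0] [Module A E0] [IsScalarTower A B E0] [Module.Finite B E0] [Module.Flat A E0]
    [AddCommGroup E1] [Module B E1] [Module A E1] [IsScalarTower A B E1] [Module.Finite B E1] [Module.Flat A E1]
    [AddCommGroup G] [Module B G] [Module A G] [IsScalarTower A B G] [Module.Finite B G]
    (f : F →ₗ[B] E0) (u : E0 →ₗ[B] E1) (v : E1 →ₗ[B] G)
    (hf : Function.Injective f) (hfu : Function.Exact f u) (huv : Function.Exact u v) (hv : Function.Surjective v)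
    (hGU : ∀ q : PrimeSpectrum B, ¬ J ≤ q.asIdeal → FlatCA.FlatAt A q.asIdeal G)
    (h0 : ∀ q : PrimeSpectrum B, J ≤ q.asIdeal →
      2 ≤ LocCoh.idealDepth (q.asIdeal.map (algebraMap B (EGA4.FibLocRing A B q.asIdeal))) (EGA4.FibLocMod A B q.asIdeal E0))
    (h1 : ∀ q : PrimeSpectrum B, J ≤ q.asIdeal →
      1 ≤ LocCoh.idealDepth (q.asIdeal.map (algebraMap B (EGA4.FibLocRing A B q.asIdeal))) (EGA4.FibLocMod A B q.asIdeal E1))
    (n : PrimeSpectrum B) :
    FlatCA.FlatAt A n.asIdeal G ↔
      ∃ s : B, s ∉ n.asIdeal ∧ ∀ q : PrimeSpectrum B, s ∉ q.asIdeal →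
        FlatCA.FlatAt A q.asIdeal F ∧
        (J ≤ q.asIdeal →
          2 ≤ LocCoh.idealDepth (q.asIdeal.map (algebraMap B (EGA4.FibLocRing A B q.asIdeal))) (EGA4.FibLocMod A B q.asIdeal F)) := by
  classical
  have : Algebra.FiniteType A B := hft
  -- `F` is flat wherever `G` is
  have hFflat : ∀ q : PrimeSpectrum B, FlatCA.FlatAt A q.asIdeal G → FlatCA.FlatAt A q.asIdeal F := by
    intro q hG
    have hK : Module.Flat A (LocalizedModule q.asIdeal.primeCompl (LinearMap.range u)) := by
      refine Groth.Agent.Lib.Helper28.flat_localizedModule_of_exact q.asIdeal.primeCompl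
        (LinearMap.range u).subtype v Subtype.val_injective hv ?_
        (Groth.Agent.Lib.Helper28.flat_localizedModule_of_flat q.asIdeal.primeCompl) hG
      intro y
      rw [huv y]
      constructor
      · rintro ⟨x, rfl⟩
        exact ⟨⟨u x, ⟨x, rfl⟩⟩, rfl⟩
      · rintro ⟨⟨_, ⟨x, rfl⟩⟩, rfl⟩
        exact ⟨x, rfl⟩
    refine Groth.Agent.Lib.Helper28.flat_localizedModule_of_exact q.asIdeal.primeCompl
      f u.rangeRestrict hf u.surjective_rangeRestrict ?_
      (Groth.Agent.Lib.Helper28.flat_localizedModule_of_flat q.asIdeal.primeCompl) hK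
    intro y
    rw [← hfu y]
    constructor
    · intro h
      exact congrArg Subtype.val h
    · intro h
      exact Subtype.ext h
  constructor
  · intro hn
    have hopen := Groth.Agent.Lib.Helper3.FlatOpen.isOpen_flatLocus_of_isNoetherianRing
      (R := A) (S := B) (M := G)
    obtain ⟨_, ⟨s, rfl⟩, hs_n, hs_sub⟩ :=
      PrimeSpectrum.isTopologicalBasis_basic_opens.exists_subset_of_mem_open
        (show n ∈ {q : PrimeSpectrum B | Module.Flat A (LocalizedModule q.asIdeal.primeCompl G)}
          from hn) hopen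
    refine ⟨s, hs_n, fun q hq => ?_⟩
    have hGq : FlatCA.FlatAt A q.asIdeal G := hs_sub hq
    refine ⟨hFflat q hGq, fun hJ => ?_⟩
    refine ((Groth.Agent.Lib.Seat92.FibLocal.flatAt_iff_two_le_fibre_depth q.asIdeal f u v hf hfu
      huv hv ?_ (h0 q hJ) (h1 q hJ)).1).mp hGq
    intro q' _ hlt
    exact hs_sub (show (⟨q', inferInstance⟩ : PrimeSpectrum B) ∈ _ from fun h => hq (hlt.le h))
  · rintro ⟨s, hs_n, hs⟩
    have key : ∀ (k : ℕ) (q : PrimeSpectrum B), q.asIdeal.height = (k : ℕ∞) → s ∉ q.asIdeal →
        FlatCA.FlatAt A q.asIdeal G := by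
      intro k
      induction k using Nat.strong_induction_on with
      | _ k ih =>
        intro q hk hsq
        by_cases hJ : J ≤ q.asIdeal
        · refine ((Groth.Agent.Lib.Seat92.FibLocal.flatAt_iff_two_le_fibre_depth q.asIdeal f u v
            hf hfu huv hv ?_ (h0 q hJ) (h1 q hJ)).1).mpr ((hs q hsq).2 hJ)
          intro q' _ hlt
          have hlt' : q'.height < q.asIdeal.height := Ideal.height_strict_mono_of_isPrime hlt
          obtain ⟨k', hk'⟩ := ENat.ne_top_iff_exists.mp (Ideal.height_ne_top_of_isPrime (I := q'))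
          refine ih k' ?_ ⟨q', inferInstance⟩ hk'.symm (fun h => hsq (hlt.le h))
          rw [hk, ← hk'] at hlt'
          exact_mod_cast hlt'
        · exact hGU q hJ
    obtain ⟨k, hk⟩ := ENat.ne_top_iff_exists.mp (Ideal.height_ne_top_of_isPrime (I := n.asIdeal))
    exact key k n hk.symm hs_n

end Groth.Agent.S18725
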