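import Groth.Statements.S18735
import Groth.Agent.Lib.Seat92MProd

set_option autoImplicit false
universe u
open CategoryTheory CategoryTheory.Limits AlgebraicGeometry TopologicalSpace
open ModPair

namespace Groth.Agent.S18735

/-- Let (S, I_S), (T, I_T), (X, I_X) be schemes equipped with quasi-coherent ideal sheaves of effective
Cartier divisors, g : T ⟶ S a morphism satisfying the modulus condition I_T ≤ I_S.comap g, and s : X
⟶ S an abstract admissible blow-up (I_X = I_S.comap s, s proper and an isomorphism over the open
complement of the support of I_S). Let Y be the scheme-theoretic image in X ×_S T of the open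
pr₁⁻¹(X°) ∩ pr₂⁻¹(T°), where X°, T° are the open complements of the supports of I_X, I_T, with
projections q : Y ⟶ T and r : Y ⟶ X. Then I_T.comap q is the ideal sheaf of an effective Cartier
divisor on Y, q is an abstract admissible blow-up from (Y, I_T.comap q) to (T, I_T), and r satisfies
the modulus condition from (Y, I_T.comap q) to (X, I_X). -/
theorem result {S T X : Scheme.{u}} (IS : S.IdealSheafData)
    (IT : T.IdealSheafData) (IX : X.IdealSheafData) (hS : BlowUp.IsEffCartierIdeal IS)
    (hT : BlowUp.IsEffCartierIdeal IT) (hX : BlowUp.IsEffCartierIdeal IX)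
    (g : T ⟶ S) (hg : ModPair.IsAmbient IT IS g) (s : X ⟶ S) (hs : ModPair.IsAdmBlowup IX IS s) :
    BlowUp.IsEffCartierIdeal (IT.comap (ModPair.mprodι s g IX IT ≫ pullback.snd s g)) ∧
      ModPair.IsAdmBlowup (IT.comap (ModPair.mprodι s g IX IT ≫ pullback.snd s g)) IT
        (ModPair.mprodι s g IX IT ≫ pullback.snd s g) ∧
      ModPair.IsAmbient (IT.comap (ModPair.mprodι s g IX IT ≫ pullback.snd s g)) IX
        (ModPair.mprodι s g IX IT ≫ pullback.fst s g) := by
  obtain ⟨hmin, hproper, hiso⟩ := hs
  have hIX : IX = IS.comap s := hmin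
  -- the product of the interiors is the preimage of the interior of `T`
  have hle : ModPair.interior IT ≤ g ⁻¹ᵁ ModPair.interior IS :=
    Groth.Agent.Lib.Seat92.MProd.interior_le_preimage_of_isAmbient hg
  have heq : ModPair.prodInterior s g IX IT = pullback.snd s g ⁻¹ᵁ ModPair.interior IT := by
    unfold ModPair.prodInterior
    rw [inf_eq_right, hIX, Groth.Agent.S18743.interior_comap, ← Scheme.Hom.comp_preimage,
      pullback.condition, Scheme.Hom.comp_preimage]
    exact (pullback.snd s g).preimage_mono hle
  have hqc : QuasiCompact (ModPair.prodInterior s g IX IT).ι := by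
    rw [heq]
    exact Groth.Agent.S18732.quasiCompact_ι IT hT (pullback.snd s g)
  have hdom : IsSchemeTheoreticallyDominant
      ((ModPair.mprodι s g IX IT ≫ pullback.snd s g) ⁻¹ᵁ ModPair.interior IT).ι :=
    Groth.Agent.Lib.Seat92.MProd.isSchemeTheoreticallyDominant_preimage
      (ModPair.prodInterior s g IX IT) (pullback.snd s g) (ModPair.interior IT) heq.le
  refine ⟨(Groth.Agent.S18732.result IT hT (ModPair.mprodι s g IX IT ≫ pullback.snd s g)).2,
    ⟨rfl, ?_, ?_⟩, ?_⟩
  · -- properness
    infer_instance
  · -- isomorphism over the interior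
    rw [morphismRestrict_comp]
    have h0 : IsIso (s ∣_ ModPair.interior IS) := hiso
    have h1 : IsIso (pullback.snd s g ∣_ ModPair.interior IT) :=
      Groth.Agent.Lib.Seat92.MProd.isIso_snd_morphismRestrict s g (ModPair.interior IS)
        (ModPair.interior IT) hle
    have h2 : IsIso (ModPair.mprodι s g IX IT ∣_ (pullback.snd s g ⁻¹ᵁ ModPair.interior IT)) :=
      Groth.Agent.Lib.Seat92.MProd.isIso_imageι_morphismRestrict
        (ModPair.prodInterior s g IX IT) _ heq.symm
    exact IsIso.comp_isIso' h2 h1
  · -- the projection to `X` is ambient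
    show IT.comap (ModPair.mprodι s g IX IT ≫ pullback.snd s g) ≤
      IX.comap (ModPair.mprodι s g IX IT ≫ pullback.fst s g)
    have e : IX.comap (ModPair.mprodι s g IX IT ≫ pullback.fst s g) =
        (IS.comap g).comap (ModPair.mprodι s g IX IT ≫ pullback.snd s g) := by
      rw [hIX, ← Scheme.IdealSheafData.comap_comp, ← Scheme.IdealSheafData.comap_comp,
        Category.assoc, Category.assoc, pullback.condition]
    rw [e]
    exact Scheme.IdealSheafData.comap_mono _ hg

end Groth.Agent.S18735
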