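import Groth.Statements.S18736
import Groth.Agent.S18743
import Groth.Agent.Lib.Helper6ImageBC

set_option autoImplicit false
universe u
open CategoryTheory CategoryTheory.Limits AlgebraicGeometry TopologicalSpace
open ModPair

namespace Groth.Agent.S18736

/-- With the minimal-case product: let (S, I_S), (T, I_T), (X, I_X) be schemes equipped with
quasi-coherent ideal sheaves of effective Cartier divisors, p : X ⟶ S a morphism satisfying the
modulus condition I_X ≤ I_S.comap p, and f : T ⟶ S a minimal morphism, I_T = I_S.comap f. Let Y be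
the scheme-theoretic image in X ×_S T of the open pr₁⁻¹(X°) ∩ pr₂⁻¹(T°) (X°, T° the open complements
of the supports of I_X, I_T), with projections r : Y ⟶ X and q : Y ⟶ T, and put I_Y := I_X.comap r.
Then I_Y is the ideal sheaf of an effective Cartier divisor, q satisfies the modulus condition I_Y ≤
I_T.comap q, and (Y, I_Y) with q and r is the fibre product of (T, I_T) and (X, I_X) over (S, I_S)
among modulus pairs and morphisms satisfying the modulus condition: for every scheme W with the
ideal sheaf I_W of an effective Cartier divisor and morphisms a : W ⟶ T, b : W ⟶ X with I_W ≤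
I_T.comap a, I_W ≤ I_X.comap b and a ≫ f = b ≫ p, there is a unique c : W ⟶ Y with c ≫ q = a, c ≫ r
= b and I_W ≤ I_Y.comap c. -/
theorem result {S T X : Scheme.{u}} (IS : S.IdealSheafData)
    (IT : T.IdealSheafData) (IX : X.IdealSheafData) (hS : BlowUp.IsEffCartierIdeal IS)
    (hT : BlowUp.IsEffCartierIdeal IT) (hX : BlowUp.IsEffCartierIdeal IX)
    (p : X ⟶ S) (hp : ModPair.IsAmbient IX IS p) (f : T ⟶ S) (hf : ModPair.IsMinimal IT IS f) :
    BlowUp.IsEffCartierIdeal (IX.comap (ModPair.mprodι p f IX IT ≫ pullback.fst p f)) ∧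
      ModPair.IsAmbient (IX.comap (ModPair.mprodι p f IX IT ≫ pullback.fst p f)) IT
        (ModPair.mprodι p f IX IT ≫ pullback.snd p f) ∧
      ∀ (W : Scheme.{u}) (IW : W.IdealSheafData), BlowUp.IsEffCartierIdeal IW →
        ∀ (a : W ⟶ T) (b : W ⟶ X), ModPair.IsAmbient IW IT a → ModPair.IsAmbient IW IX b →
          a ≫ f = b ≫ p →
          ∃! c : W ⟶ ModPair.mprod p f IX IT,
            c ≫ ModPair.mprodι p f IX IT ≫ pullback.snd p f = a ∧
              c ≫ ModPair.mprodι p f IX IT ≫ pullback.fst p f = b ∧
              ModPair.IsAmbient IW (IX.comap (ModPair.mprodι p f IX IT ≫ pullback.fst p f)) c := by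
  -- the product of the interiors is the preimage of the interior of `X`
  have hle : ModPair.interior IX ≤ p ⁻¹ᵁ ModPair.interior IS := by
    rw [← Groth.Agent.S18743.interior_comap]
    intro x hx
    have hx' : x ∉ IX.support := hx
    show x ∉ (IS.comap p).support
    exact fun h => hx' (Scheme.IdealSheafData.support_antitone hp h)
  have heq : ModPair.prodInterior p f IX IT = pullback.fst p f ⁻¹ᵁ ModPair.interior IX := by
    unfold ModPair.prodInterior
    rw [inf_eq_left]
    have hIT : IT = IS.comap f := hf
    rw [hIT, Groth.Agent.S18743.interior_comap, ← Scheme.Hom.comp_preimage, ← pullback.condition,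
      Scheme.Hom.comp_preimage]
    exact (pullback.fst p f).preimage_mono hle
  have hamb : ∀ {Z : Scheme.{u}} (j : Z ⟶ pullback p f),
      IX.comap (j ≫ pullback.fst p f) ≤ IT.comap (j ≫ pullback.snd p f) := by
    intro Z j
    have hIT : IT = IS.comap f := hf
    have e : IT.comap (j ≫ pullback.snd p f) = (IS.comap p).comap (j ≫ pullback.fst p f) := by
      rw [hIT, ← Scheme.IdealSheafData.comap_comp, ← Scheme.IdealSheafData.comap_comp,
        Category.assoc, Category.assoc, pullback.condition]
    rw [e]
    exact Scheme.IdealSheafData.comap_mono (j ≫ pullback.fst p f) hp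
  have hqc : QuasiCompact (ModPair.prodInterior p f IX IT).ι := by
    rw [heq]
    exact Groth.Agent.S18732.quasiCompact_ι IX hX (pullback.fst p f)
  have hfac : (ModPair.prodInterior p f IX IT).ι.toImage ≫ ModPair.mprodι p f IX IT =
      (ModPair.prodInterior p f IX IT).ι := Scheme.Hom.toImage_imageι _
  -- (a) the pulled-back modulus is effective Cartier
  have hdom : IsSchemeTheoreticallyDominant
      ((ModPair.mprodι p f IX IT ≫ pullback.fst p f) ⁻¹ᵁ ModPair.interior IX).ι := by
    have hrange : Set.range (ModPair.prodInterior p f IX IT).ι.toImage ⊆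
        Set.range ((ModPair.mprodι p f IX IT ≫ pullback.fst p f) ⁻¹ᵁ ModPair.interior IX).ι := by
      rintro _ ⟨w, rfl⟩
      rw [Scheme.Opens.range_ι]
      show (ModPair.mprodι p f IX IT ≫ pullback.fst p f)
        ((ModPair.prodInterior p f IX IT).ι.toImage w) ∈ ModPair.interior IX
      rw [← Scheme.Hom.comp_apply, ← Category.assoc, hfac]
      have hw : w.1 ∈ pullback.fst p f ⁻¹ᵁ ModPair.interior IX := by
        rw [← heq]; exact w.2
      exact hw
    let k := IsOpenImmersion.lift
      ((ModPair.mprodι p f IX IT ≫ pullback.fst p f) ⁻¹ᵁ ModPair.interior IX).ι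
      (ModPair.prodInterior p f IX IT).ι.toImage hrange
    have hk : k ≫ ((ModPair.mprodι p f IX IT ≫ pullback.fst p f) ⁻¹ᵁ ModPair.interior IX).ι =
        (ModPair.prodInterior p f IX IT).ι.toImage := IsOpenImmersion.lift_fac _ _ _
    refine ⟨le_bot_iff.mp ?_⟩
    have h1 := Scheme.Hom.le_ker_comp k
      ((ModPair.mprodι p f IX IT ≫ pullback.fst p f) ⁻¹ᵁ ModPair.interior IX).ι
    rw [hk, Groth.Agent.Lib.Helper6.ker_toImage_eq_bot] at h1
    exact h1
  have hEC : BlowUp.IsEffCartierIdeal (IX.comap (ModPair.mprodι p f IX IT ≫ pullback.fst p f)) :=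
    (Groth.Agent.S18732.result IX hX (ModPair.mprodι p f IX IT ≫ pullback.fst p f)).2
  refine ⟨hEC, hamb _, ?_⟩
  -- (c) the universal property
  intro W' IW hIW a b ha hb hab
  let h : W' ⟶ pullback p f := pullback.lift b a hab.symm
  have hh1 : h ≫ pullback.fst p f = b := pullback.lift_fst _ _ _
  have hh2 : h ≫ pullback.snd p f = a := pullback.lift_snd _ _ _
  -- `h` maps the interior of `W'` into the product of the interiors
  have hOdom : IsSchemeTheoreticallyDominant (ModPair.interior IW).ι :=
    Groth.Agent.S18743.isSchemeTheoreticallyDominant_interior IW hIW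
  have hrange : Set.range ((ModPair.interior IW).ι ≫ h) ⊆
      Set.range (ModPair.prodInterior p f IX IT).ι := by
    rintro _ ⟨w, rfl⟩
    rw [Scheme.Opens.range_ι, heq]
    show pullback.fst p f (((ModPair.interior IW).ι ≫ h) w) ∈ ModPair.interior IX
    rw [← Scheme.Hom.comp_apply, Category.assoc, hh1]
    have hw : w.1 ∉ IW.support := w.2
    show b w.1 ∉ IX.support
    intro hbw
    apply hw
    have : w.1 ∈ (IX.comap b).support := by
      rw [Scheme.IdealSheafData.support_comap]; exact hbw
    exact Scheme.IdealSheafData.support_antitone hb this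
  let k := IsOpenImmersion.lift (ModPair.prodInterior p f IX IT).ι
    ((ModPair.interior IW).ι ≫ h) hrange
  have hk : k ≫ (ModPair.prodInterior p f IX IT).ι = (ModPair.interior IW).ι ≫ h :=
    IsOpenImmersion.lift_fac _ _ _
  have hker : (ModPair.mprodι p f IX IT).ker ≤ h.ker := by
    have h2 : ((ModPair.interior IW).ι ≫ h).ker = h.ker := by
      rw [Scheme.Hom.ker_comp, (ModPair.interior IW).ι.ker_eq_bot,
        Scheme.IdealSheafData.map_bot]
    have h3 : (ModPair.mprodι p f IX IT).ker = (ModPair.prodInterior p f IX IT).ι.ker :=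
      Scheme.IdealSheafData.ker_subschemeι _
    rw [h3, ← h2, ← hk]
    exact Scheme.Hom.le_ker_comp k (ModPair.prodInterior p f IX IT).ι
  refine ⟨IsClosedImmersion.lift (ModPair.mprodι p f IX IT) h hker, ⟨?_, ?_, ?_⟩, ?_⟩
  · rw [← Category.assoc, IsClosedImmersion.lift_fac, hh2]
  · rw [← Category.assoc, IsClosedImmersion.lift_fac, hh1]
  · show IW ≤ (IX.comap (ModPair.mprodι p f IX IT ≫ pullback.fst p f)).comap
      (IsClosedImmersion.lift (ModPair.mprodι p f IX IT) h hker)
    rw [← Scheme.IdealSheafData.comap_comp, ← Category.assoc, IsClosedImmersion.lift_fac, hh1]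
    exact hb
  · rintro c' ⟨hc1, hc2, -⟩
    rw [← cancel_mono (ModPair.mprodι p f IX IT), IsClosedImmersion.lift_fac]
    apply pullback.hom_ext
    · rw [Category.assoc, hc2, hh1]
    · rw [Category.assoc, hc1, hh2]

end Groth.Agent.S18736
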