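import Groth.Statements.S18737
import Mathlib
import Groth.Agent.Lib.Seat92CoprodClosure

set_option autoImplicit false
set_option linter.style.haveILetI false
universe u
open CategoryTheory CategoryTheory.Limits AlgebraicGeometry TopologicalSpace
open ModPair

namespace Groth.Agent.S18737

open Groth.Agent.Lib.Seat92.CoprodClosure Groth.Agent.Lib.Seat92.MProd

/-- `coprod.desc i₀ i₁` is an isomorphism over an open `U` over which `i₀` is an isomorphism and
which `i₁` misses. -/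
theorem isIso_desc_morphismRestrict {X Y₀ Y₁ : Scheme.{u}} (i₀ : Y₀ ⟶ X) (i₁ : Y₁ ⟶ X)
    (U : X.Opens) (h₀ : IsIso (i₀ ∣_ U)) (h₁ : ∀ y, i₁ y ∉ U) :
    IsIso (coprod.desc i₀ i₁ ∣_ U) := by
  set p := coprod.desc i₀ i₁ with hp
  have hcomp : (coprod.inl ≫ p) ∣_ U = coprod.inl ∣_ (p ⁻¹ᵁ U) ≫ p ∣_ U :=
    morphismRestrict_comp _ _ _
  have key : ∀ g : Y₀ ⟶ X, g = i₀ → IsIso (g ∣_ U) := by rintro g rfl; exact h₀
  have h1 : IsIso ((coprod.inl ≫ p) ∣_ U) := key _ (coprod.inl_desc _ _)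
  have h2 : IsIso ((coprod.inl : Y₀ ⟶ Y₀ ⨿ Y₁) ∣_ (p ⁻¹ᵁ U)) := by
    rw [isIso_iff_isOpenImmersion_and_surjective]
    refine ⟨inferInstance, ⟨fun y => ?_⟩⟩
    obtain ⟨(a | b), hab⟩ := (coprodMk Y₀ Y₁).surjective y.1
    · rw [coprodMk_inl] at hab
      have ha : a ∈ (coprod.inl : Y₀ ⟶ Y₀ ⨿ Y₁) ⁻¹ᵁ (p ⁻¹ᵁ U) := by
        show p ((coprod.inl : Y₀ ⟶ Y₀ ⨿ Y₁) a) ∈ U
        rw [hab]; exact y.2
      refine ⟨⟨a, ha⟩, Subtype.ext ?_⟩
      exact (morphismRestrict_base_coe _ _ _).trans hab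
    · exfalso
      rw [coprodMk_inr] at hab
      apply h₁ b
      have : p y.1 ∈ U := y.2
      rw [← hab, ← Scheme.Hom.comp_apply, hp, coprod.inr_desc] at this
      exact this
  rw [hcomp] at h1
  haveI := h1
  haveI := h2
  exact @IsIso.of_isIso_comp_left _ _ _ _ _ _ _ h2 h1

/-- `coprod.desc i₀ i₁` is an isomorphism over an open `U` over which `i₁` is an isomorphism and
which `i₀` misses. -/
theorem isIso_desc_morphismRestrict' {X Y₀ Y₁ : Scheme.{u}} (i₀ : Y₀ ⟶ X) (i₁ : Y₁ ⟶ X)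
    (U : X.Opens) (h₁ : IsIso (i₁ ∣_ U)) (h₀ : ∀ y, i₀ y ∉ U) :
    IsIso (coprod.desc i₀ i₁ ∣_ U) := by
  set p := coprod.desc i₀ i₁ with hp
  have hcomp : (coprod.inr ≫ p) ∣_ U = coprod.inr ∣_ (p ⁻¹ᵁ U) ≫ p ∣_ U :=
    morphismRestrict_comp _ _ _
  have key : ∀ g : Y₁ ⟶ X, g = i₁ → IsIso (g ∣_ U) := by rintro g rfl; exact h₁
  have h1 : IsIso ((coprod.inr ≫ p) ∣_ U) := key _ (coprod.inr_desc _ _)
  have h2 : IsIso ((coprod.inr : Y₁ ⟶ Y₀ ⨿ Y₁) ∣_ (p ⁻¹ᵁ U)) := by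
    rw [isIso_iff_isOpenImmersion_and_surjective]
    refine ⟨inferInstance, ⟨fun y => ?_⟩⟩
    obtain ⟨(b | a), hab⟩ := (coprodMk Y₀ Y₁).surjective y.1
    · exfalso
      rw [coprodMk_inl] at hab
      apply h₀ b
      have : p y.1 ∈ U := y.2
      rw [← hab, ← Scheme.Hom.comp_apply, hp, coprod.inl_desc] at this
      exact this
    · rw [coprodMk_inr] at hab
      have ha : a ∈ (coprod.inr : Y₁ ⟶ Y₀ ⨿ Y₁) ⁻¹ᵁ (p ⁻¹ᵁ U) := by
        show p ((coprod.inr : Y₁ ⟶ Y₀ ⨿ Y₁) a) ∈ U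
        rw [hab]; exact y.2
      refine ⟨⟨a, ha⟩, Subtype.ext ?_⟩
      exact (morphismRestrict_base_coe _ _ _).trans hab
  rw [hcomp] at h1
  haveI := h1
  haveI := h2
  exact @IsIso.of_isIso_comp_left _ _ _ _ _ _ _ h2 h1

/-- The closure of a quasi-compact open `U₁` misses every open disjoint from `U₁`. -/
theorem imageι_notMem {X : Scheme.{u}} (U₀ U₁ : X.Opens) [QuasiCompact U₁.ι]
    (hd : Disjoint U₀ U₁) (y : U₁.ι.image) : U₁.ι.imageι y ∉ U₀ := by
  intro hy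
  have h1 : U₁.ι.imageι y ∈ Set.range U₁.ι.imageι := ⟨y, rfl⟩
  rw [Scheme.Hom.imageι, Scheme.IdealSheafData.range_subschemeι, Scheme.Hom.support_ker,
    Scheme.Opens.range_ι] at h1
  have hd' : Disjoint (U₀ : Set X) (closure (U₁ : Set X)) :=
    Disjoint.closure_right (by
      rw [Set.disjoint_iff_inter_eq_empty, ← Opens.coe_inf, hd.eq_bot]; rfl) U₀.isOpen
  exact Set.disjoint_left.mp hd' hy h1

/-- Let X be a scheme and I the quasi-coherent ideal sheaf of an effective Cartier divisor on X, with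
open complement U, and suppose U is the disjoint union of two opens U₀, U₁ of X. Let X₀, X₁ ⊆ X be
the scheme-theoretic images of U₀ and U₁ in X and p : X₀ ⨿ X₁ ⟶ X the morphism induced by the two
closed immersions. Then the pulled-back ideal I.comap p is the ideal sheaf of an effective Cartier
divisor, and p is an abstract admissible blow-up from (X₀ ⨿ X₁, I.comap p) to (X, I): proper, with
the pulled-back modulus, and an isomorphism over U. -/
theorem result {X : Scheme.{u}}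
    (I : X.IdealSheafData) (hI : BlowUp.IsEffCartierIdeal I) (U₀ U₁ : X.Opens)
    (hU : U₀ ⊔ U₁ = ModPair.interior I) (hd : Disjoint U₀ U₁) :
    BlowUp.IsEffCartierIdeal (I.comap (coprod.desc U₀.ι.imageι U₁.ι.imageι)) ∧
      ModPair.IsAdmBlowup (I.comap (coprod.desc U₀.ι.imageι U₁.ι.imageι)) I
        (coprod.desc U₀.ι.imageι U₁.ι.imageι) := by
  haveI q₀ : QuasiCompact U₀.ι := quasiCompact_ι_of_sup_eq_interior I hI U₀ U₁ hU hd
  haveI q₁ : QuasiCompact U₁.ι :=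
    quasiCompact_ι_of_sup_eq_interior I hI U₁ U₀ (by rw [sup_comm]; exact hU) hd.symm
  have hle₀ : U₀ ≤ ModPair.interior I := hU ▸ le_sup_left
  have hle₁ : U₁ ≤ ModPair.interior I := hU ▸ le_sup_right
  have e₀ : BlowUp.IsEffCartierIdeal (I.comap U₀.ι.imageι) := by
    haveI : IsSchemeTheoreticallyDominant (U₀.ι.imageι ⁻¹ᵁ ModPair.interior I).ι := by
      have := isSchemeTheoreticallyDominant_preimage U₀ (𝟙 X) (ModPair.interior I) hle₀
      rwa [Category.comp_id] at this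
    exact (Groth.Agent.S18732.result I hI U₀.ι.imageι).2
  have e₁ : BlowUp.IsEffCartierIdeal (I.comap U₁.ι.imageι) := by
    haveI : IsSchemeTheoreticallyDominant (U₁.ι.imageι ⁻¹ᵁ ModPair.interior I).ι := by
      have := isSchemeTheoreticallyDominant_preimage U₁ (𝟙 X) (ModPair.interior I) hle₁
      rwa [Category.comp_id] at this
    exact (Groth.Agent.S18732.result I hI U₁.ι.imageι).2
  refine ⟨?_, rfl, ?_, ?_⟩
  · apply isEffCartierIdeal_coprod
    · rw [← Scheme.IdealSheafData.comap_comp, coprod.inl_desc]; exact e₀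
    · rw [← Scheme.IdealSheafData.comap_comp, coprod.inr_desc]; exact e₁
  · infer_instance
  · have h₀ : IsIso (coprod.desc U₀.ι.imageι U₁.ι.imageι ∣_ U₀) :=
      isIso_desc_morphismRestrict _ _ U₀ (isIso_imageι_morphismRestrict U₀ U₀ rfl)
        (imageι_notMem U₀ U₁ hd)
    have h₁ : IsIso (coprod.desc U₀.ι.imageι U₁.ι.imageι ∣_ U₁) :=
      isIso_desc_morphismRestrict' _ _ U₁ (isIso_imageι_morphismRestrict U₁ U₁ rfl)
        (imageι_notMem U₁ U₀ hd.symm)
    exact Groth.Agent.Lib.Seat92.AdmBlowup.isIso_morphismRestrict_of_eq _ hU.symm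
      (isIso_morphismRestrict_sup _ U₀ U₁ h₀ h₁)

end Groth.Agent.S18737
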