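import Groth.Statements.S18738
import Groth.Agent.Lib.Seat92AdmBlowup
import Groth.Agent.S18735

set_option autoImplicit false
universe u
open CategoryTheory CategoryTheory.Limits AlgebraicGeometry TopologicalSpace
open ModPair

namespace Groth.Agent.S18738

/-- In the category of modulus pairs and ambient morphisms, the class Σ of abstract admissible blow-ups
(minimal, proper, an isomorphism over the interior of the target) admits a calculus of right
fractions: it contains the identities and is stable under composition; every pair X' ⟶ X ⟵ Y with X'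
⟶ X in Σ can be completed to a commutative square with a morphism Y' ⟶ Y in Σ; and two ambient
morphisms f, g : X ⟶ Y equalized by some Y ⟶ Z in Σ are equalized by some X' ⟶ X in Σ. -/
theorem result :
    (ModPair.Pair.admBlowup.{u}).HasRightCalculusOfFractions := by
  have hmul : (ModPair.Pair.admBlowup.{u}).IsMultiplicative :=
    { id_mem := fun P => Groth.Agent.Lib.Seat92.AdmBlowup.isAdmBlowup_id P.mod
      comp_mem := fun f g hf hg => Groth.Agent.Lib.Seat92.AdmBlowup.isAdmBlowup_comp hf hg }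
  refine { toIsMultiplicative := hmul, exists_rightFraction := ?_, ext := ?_ }
  · intro P Q φ
    -- `φ.f : P ⟶ R` ambient, `φ.s : Q ⟶ R` an admissible blow-up
    obtain ⟨h1, h2, h3⟩ := Groth.Agent.S18735.result φ.Y'.mod P.mod Q.mod φ.Y'.isEffCartier
      P.isEffCartier Q.isEffCartier φ.f.hom φ.f.cond φ.s.hom φ.hs
    let P' : ModPair.Pair.{u} :=
      ⟨ModPair.mprod φ.s.hom φ.f.hom Q.mod P.mod,
        P.mod.comap (ModPair.mprodι φ.s.hom φ.f.hom Q.mod P.mod ≫
          pullback.snd φ.s.hom φ.f.hom), h1⟩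
    let s' : P' ⟶ P :=
      ⟨ModPair.mprodι φ.s.hom φ.f.hom Q.mod P.mod ≫ pullback.snd φ.s.hom φ.f.hom, le_rfl⟩
    let f' : P' ⟶ Q :=
      ⟨ModPair.mprodι φ.s.hom φ.f.hom Q.mod P.mod ≫ pullback.fst φ.s.hom φ.f.hom, h3⟩
    refine ⟨⟨s', h2, f'⟩, ?_⟩
    apply ModPair.Pair.Hom.ext
    show (ModPair.mprodι φ.s.hom φ.f.hom Q.mod P.mod ≫ pullback.snd φ.s.hom φ.f.hom) ≫ φ.f.hom =
      (ModPair.mprodι φ.s.hom φ.f.hom Q.mod P.mod ≫ pullback.fst φ.s.hom φ.f.hom) ≫ φ.s.hom
    rw [Category.assoc, Category.assoc, pullback.condition]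
  · intro P Q R f₁ f₂ s hs h
    refine ⟨P, 𝟙 P, hmul.id_mem P, ?_⟩
    rw [Category.id_comp, Category.id_comp]
    apply ModPair.Pair.Hom.ext
    exact Groth.Agent.Lib.Seat92.AdmBlowup.hom_ext_of_isAdmBlowup P.isEffCartier f₁.cond f₂.cond hs
      (congrArg ModPair.Pair.Hom.hom h)

end Groth.Agent.S18738
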