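import Groth.Statements.S18749
import Mathlib
import Groth.Agent.Lib.Seat92AmbProd

set_option autoImplicit false
set_option linter.style.haveILetI false
universe u
open CategoryTheory CategoryTheory.Limits AlgebraicGeometry TopologicalSpace
open ModPair

namespace Groth.Agent.S18749

/-- Let (S, I_S), (T, J), (X, I) be schemes with quasi-coherent ideal sheaves of effective Cartier
divisors and f : X ⟶ S, g : T ⟶ S morphisms satisfying the modulus condition. Let Y₀ be the
scheme-theoretic image of pr₁⁻¹(X°) ∩ pr₂⁻¹(T°) in X ×_S T, let π : Y ⟶ Y₀ be a blowing up of Y₀ in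
the sum of the two ideal sheaves I, J pulled back to Y₀ (the intersection of the two pulled-back
divisors), and let K be an ideal sheaf on Y whose product with the exceptional ideal is the product
of the pull-backs of I and J to Y. Then K is the ideal sheaf of an effective Cartier divisor (the
divisor D_X + D_T − E), the projections Y ⟶ X and Y ⟶ T satisfy the modulus condition with respect
to K, and the interior of (Y, K) is the preimage of pr₁⁻¹(X°) ∩ pr₂⁻¹(T°). -/
theorem result {S T X Y : Scheme.{u}} (IS : S.IdealSheafData)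
    (J : T.IdealSheafData) (I : X.IdealSheafData) (hS : BlowUp.IsEffCartierIdeal IS)
    (hT : BlowUp.IsEffCartierIdeal J) (hX : BlowUp.IsEffCartierIdeal I)
    (f : X ⟶ S) (hf : ModPair.IsAmbient I IS f) (g : T ⟶ S) (hg : ModPair.IsAmbient J IS g)
    (π : Y ⟶ ModPair.mprod f g I J) (K : Y.IdealSheafData) (hY : ModPair.IsAmbProd f g I J π K) :
    BlowUp.IsEffCartierIdeal K ∧
      ModPair.IsAmbient K I (π ≫ ModPair.mprodι f g I J ≫ pullback.fst f g) ∧
      ModPair.IsAmbient K J (π ≫ ModPair.mprodι f g I J ≫ pullback.snd f g) ∧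
      ModPair.interior K = (π ≫ ModPair.mprodι f g I J) ⁻¹ᵁ ModPair.prodInterior f g I J := by
  obtain ⟨hbl, hKE⟩ := hY
  -- quasi-compactness of the product of the interiors
  haveI q₁ : QuasiCompact ((pullback.fst f g) ⁻¹ᵁ ModPair.interior I).ι :=
    Groth.Agent.S18732.quasiCompact_ι I hX (pullback.fst f g)
  haveI q₂ : QuasiCompact ((pullback.snd f g) ⁻¹ᵁ ModPair.interior J).ι :=
    Groth.Agent.S18732.quasiCompact_ι J hT (pullback.snd f g)
  haveI hqc : QuasiCompact (ModPair.prodInterior f g I J).ι :=
    Groth.Agent.Lib.Seat92.AmbProd.quasiCompact_ι_inf _ _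
  -- the two moduli on the closure of the product of the interiors
  have hI₀ : BlowUp.IsEffCartierIdeal
      (I.comap (ModPair.mprodι f g I J ≫ pullback.fst f g)) := by
    haveI : IsSchemeTheoreticallyDominant
        ((ModPair.mprodι f g I J ≫ pullback.fst f g) ⁻¹ᵁ ModPair.interior I).ι :=
      Groth.Agent.Lib.Seat92.MProd.isSchemeTheoreticallyDominant_preimage
        (ModPair.prodInterior f g I J) (pullback.fst f g) (ModPair.interior I) inf_le_left
    exact (Groth.Agent.S18732.result I hX (ModPair.mprodι f g I J ≫ pullback.fst f g)).2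
  have hJ₀ : BlowUp.IsEffCartierIdeal
      (J.comap (ModPair.mprodι f g I J ≫ pullback.snd f g)) := by
    haveI : IsSchemeTheoreticallyDominant
        ((ModPair.mprodι f g I J ≫ pullback.snd f g) ⁻¹ᵁ ModPair.interior J).ι :=
      Groth.Agent.Lib.Seat92.MProd.isSchemeTheoreticallyDominant_preimage
        (ModPair.prodInterior f g I J) (pullback.snd f g) (ModPair.interior J) inf_le_right
    exact (Groth.Agent.S18732.result J hT (ModPair.mprodι f g I J ≫ pullback.snd f g)).2
  -- and on the blow-up
  have hIY := Groth.Agent.Lib.Helper20.BlowUpBasic.isEffCartierIdeal_comap _ π hbl _ hI₀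
  have hJY := Groth.Agent.Lib.Helper20.BlowUpBasic.isEffCartierIdeal_comap _ π hbl _ hJ₀
  have hE : BlowUp.IsEffCartierIdeal ((ModPair.prodCentre f g I J).comap π) := hbl.1
  have hIE : (I.comap (ModPair.mprodι f g I J ≫ pullback.fst f g)).comap π ≤
      (ModPair.prodCentre f g I J).comap π :=
    Scheme.IdealSheafData.comap_mono π le_sup_left
  have hJE : (J.comap (ModPair.mprodι f g I J ≫ pullback.snd f g)).comap π ≤
      (ModPair.prodCentre f g I J).comap π :=
    Scheme.IdealSheafData.comap_mono π le_sup_right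
  have hK : BlowUp.IsEffCartierIdeal K := by
    apply Groth.Agent.Lib.Seat92.AmbProd.isEffCartierIdeal_of_mul hE
    rw [hKE]
    exact Groth.Agent.Lib.Helper20.BlowUpBasic.isEffCartierIdeal_mul hIY hJY
  have hKI : K ≤ (I.comap (ModPair.mprodι f g I J ≫ pullback.fst f g)).comap π := by
    apply Groth.Agent.Lib.Seat92.AmbProd.le_of_mul_le_mul_right hE
    rw [hKE]
    exact mul_le_mul' le_rfl hJE
  have hKJ : K ≤ (J.comap (ModPair.mprodι f g I J ≫ pullback.snd f g)).comap π := by
    apply Groth.Agent.Lib.Seat92.AmbProd.le_of_mul_le_mul_right hE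
    rw [hKE, mul_comm]
    exact mul_le_mul' le_rfl hIE
  refine ⟨hK, ?_, ?_, ?_⟩
  · show K ≤ _
    rw [Scheme.IdealSheafData.comap_comp]
    exact hKI
  · show K ≤ _
    rw [Scheme.IdealSheafData.comap_comp]
    exact hKJ
  · -- the interior
    have hsupp : K.support = ((I.comap (ModPair.mprodι f g I J ≫ pullback.fst f g)).comap π).support ⊔
        ((J.comap (ModPair.mprodι f g I J ≫ pullback.snd f g)).comap π).support := by
      apply le_antisymm
      · have h1 : K * (ModPair.prodCentre f g I J).comap π ≤ K := by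
          calc K * (ModPair.prodCentre f g I J).comap π ≤ K * ⊤ := mul_le_mul' le_rfl le_top
            _ = K := Scheme.IdealSheafData.mul_top K
        have h2 := Scheme.IdealSheafData.support_antitone h1
        rw [hKE, Scheme.IdealSheafData.support_mul] at h2
        exact h2
      · exact sup_le (Scheme.IdealSheafData.support_antitone hKI)
          (Scheme.IdealSheafData.support_antitone hKJ)
    ext y
    show y ∉ K.support ↔ _
    rw [hsupp]
    have e1 : y ∈ ((I.comap (ModPair.mprodι f g I J ≫ pullback.fst f g)).comap π).support ↔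
        ¬ (y ∈ (π ≫ ModPair.mprodι f g I J ≫ pullback.fst f g) ⁻¹ᵁ ModPair.interior I) := by
      rw [← Scheme.IdealSheafData.comap_comp, ← Groth.Agent.S18743.interior_comap]
      exact not_not.symm
    have e2 : y ∈ ((J.comap (ModPair.mprodι f g I J ≫ pullback.snd f g)).comap π).support ↔
        ¬ (y ∈ (π ≫ ModPair.mprodι f g I J ≫ pullback.snd f g) ⁻¹ᵁ ModPair.interior J) := by
      rw [← Scheme.IdealSheafData.comap_comp, ← Groth.Agent.S18743.interior_comap]
      exact not_not.symm
    have e3 : y ∈ (π ≫ ModPair.mprodι f g I J) ⁻¹ᵁ ModPair.prodInterior f g I J ↔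
        (y ∈ (π ≫ ModPair.mprodι f g I J ≫ pullback.fst f g) ⁻¹ᵁ ModPair.interior I) ∧
        (y ∈ (π ≫ ModPair.mprodι f g I J ≫ pullback.snd f g) ⁻¹ᵁ ModPair.interior J) := by
      rw [← Category.assoc, ← Category.assoc]
      exact Iff.rfl
    refine Iff.trans ?_ e3.symm
    have e4 : y ∈ ((I.comap (ModPair.mprodι f g I J ≫ pullback.fst f g)).comap π).support ⊔
        ((J.comap (ModPair.mprodι f g I J ≫ pullback.snd f g)).comap π).support ↔
        y ∈ ((I.comap (ModPair.mprodι f g I J ≫ pullback.fst f g)).comap π).support ∨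
        y ∈ ((J.comap (ModPair.mprodι f g I J ≫ pullback.snd f g)).comap π).support := Iff.rfl
    refine Iff.trans (not_congr (e4.trans (or_congr e1 e2))) ?_
    exact ⟨fun h => ⟨not_not.mp fun h1 => h (Or.inl h1), not_not.mp fun h2 => h (Or.inr h2)⟩,
      fun ⟨h1, h2⟩ h => h.elim (fun k => k h1) (fun k => k h2)⟩

end Groth.Agent.S18749
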