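import Groth.Statements.S18750
import Mathlib
import Groth.Agent.S18733
import Groth.Agent.Lib.Seat92AmbProdBasic
import Groth.Agent.Lib.Seat82BlowUpExists

set_option autoImplicit false
set_option linter.style.haveILetI false
universe u
open CategoryTheory CategoryTheory.Limits AlgebraicGeometry TopologicalSpace
open ModPair

namespace Groth.Agent.S18750

/-- Let (S, I_S), (T, J), (X, I) be schemes with quasi-coherent ideal sheaves of effective Cartier
divisors and f : X ⟶ S, g : T ⟶ S morphisms satisfying the modulus condition, and let Y₀ be the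
scheme-theoretic image of pr₁⁻¹(X°) ∩ pr₂⁻¹(T°) in X ×_S T. Then the ambient product exists: there
are a blowing up π : Y ⟶ Y₀ of Y₀ in the sum of the two pulled-back moduli and an ideal sheaf K on Y
whose product with the exceptional ideal is the product of the pull-backs of I and J (the divisor
D_X + D_T − E exists). -/
theorem result {S T X : Scheme.{u}} (IS : S.IdealSheafData)
    (J : T.IdealSheafData) (I : X.IdealSheafData) (hS : BlowUp.IsEffCartierIdeal IS)
    (hT : BlowUp.IsEffCartierIdeal J) (hX : BlowUp.IsEffCartierIdeal I)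
    (f : X ⟶ S) (hf : ModPair.IsAmbient I IS f) (g : T ⟶ S) (hg : ModPair.IsAmbient J IS g) :
    ∃ (Y : Scheme.{u}) (π : Y ⟶ ModPair.mprod f g I J) (K : Y.IdealSheafData),
      ModPair.IsAmbProd f g I J π K := by
  obtain ⟨Y, π, hπ⟩ := Groth.Agent.Lib.Seat82.BlowUpExists.exists_isBlowUp
    (ModPair.mprod f g I J) (ModPair.prodCentre f g I J)
  have hI₀ := Groth.Agent.Lib.Seat92.AmbProdBasic.isEffCartierIdeal_comap_fst f g I J hX hT
  have hJ₀ := Groth.Agent.Lib.Seat92.AmbProdBasic.isEffCartierIdeal_comap_snd f g I J hX hT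
  have hIY := Groth.Agent.Lib.Helper20.BlowUpBasic.isEffCartierIdeal_comap _ π hπ _ hI₀
  have hJY := Groth.Agent.Lib.Helper20.BlowUpBasic.isEffCartierIdeal_comap _ π hπ _ hJ₀
  have hEeq : (ModPair.prodCentre f g I J).comap π =
      (I.comap (ModPair.mprodι f g I J ≫ pullback.fst f g)).comap π ⊔
        (J.comap (ModPair.mprodι f g I J ≫ pullback.snd f g)).comap π := by
    unfold ModPair.prodCentre
    rw [Scheme.IdealSheafData.comap_sup]
  have hE : BlowUp.IsEffCartierIdeal
      ((I.comap (ModPair.mprodι f g I J ≫ pullback.fst f g)).comap π ⊔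
        (J.comap (ModPair.mprodι f g I J ≫ pullback.snd f g)).comap π) := by
    rw [← hEeq]; exact hπ.1
  obtain ⟨I₁', I₂', -, -, e1, e2, -, -⟩ := Groth.Agent.S18733.result _ _ hIY hJY hE
  refine ⟨Y, π, I₁' * I₂' * ((I.comap (ModPair.mprodι f g I J ≫ pullback.fst f g)).comap π ⊔
        (J.comap (ModPair.mprodι f g I J ≫ pullback.snd f g)).comap π), hπ, ?_⟩
  rw [hEeq]
  generalize (I.comap (ModPair.mprodι f g I J ≫ pullback.fst f g)).comap π = A at e1 e2 ⊢
  generalize (J.comap (ModPair.mprodι f g I J ≫ pullback.snd f g)).comap π = B at e1 e2 ⊢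
  calc I₁' * I₂' * (A ⊔ B) * (A ⊔ B) = (I₁' * (A ⊔ B)) * (I₂' * (A ⊔ B)) := by
        rw [mul_assoc, mul_assoc, mul_assoc]
        congr 1
        rw [← mul_assoc, ← mul_assoc, mul_comm I₂' (A ⊔ B)]
    _ = A * B := by rw [← e1, ← e2]

end Groth.Agent.S18750
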