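import Groth.Statements.S18752
import Mathlib
import Groth.Agent.S18738
import Groth.Agent.Lib.Seat92AmbProdUniv

set_option autoImplicit false
set_option linter.style.haveILetI false
universe u
open CategoryTheory CategoryTheory.Limits AlgebraicGeometry TopologicalSpace
open ModPair

namespace Groth.Agent.S18752

/-- A commutative square with the elementary universal property is a pullback square. -/
theorem isPullback_of_existsUnique {C : Type*} [Category C] {P X Y Z : C} {fst : P ⟶ X}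
    {snd : P ⟶ Y} {f : X ⟶ Z} {g : Y ⟶ Z} (w : fst ≫ f = snd ≫ g)
    (h : ∀ (T : C) (a : T ⟶ X) (b : T ⟶ Y), a ≫ f = b ≫ g →
      ∃! l : T ⟶ P, l ≫ fst = a ∧ l ≫ snd = b) : IsPullback fst snd f g :=
  ⟨⟨w⟩, ⟨PullbackCone.IsLimit.mk w
    (fun s => (h s.pt s.fst s.snd s.condition).choose)
    (fun s => (h s.pt s.fst s.snd s.condition).choose_spec.1.1)
    (fun s => (h s.pt s.fst s.snd s.condition).choose_spec.1.2)
    (fun s m h1 h2 => (h s.pt s.fst s.snd s.condition).choose_spec.2 m ⟨h1, h2⟩)⟩⟩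

section Fractions

variable {C D : Type*} [Category C] [Category D] (L : C ⥤ D) (W : MorphismProperty C)
  [L.IsLocalization W] [W.HasRightCalculusOfFractions]

/-- Two morphisms of the localized category with the same source have a common denominator. -/
theorem exists_common_rightFraction {Z A B : C} (φ : L.obj Z ⟶ L.obj A) (ψ : L.obj Z ⟶ L.obj B) :
    ∃ (Z₁ : C) (s : Z₁ ⟶ Z) (_ : W s) (φ' : Z₁ ⟶ A) (ψ' : Z₁ ⟶ B),
      L.map s ≫ φ = L.map φ' ∧ L.map s ≫ ψ = L.map ψ' := by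
  obtain ⟨α, hα⟩ := Localization.exists_rightFraction L W φ
  obtain ⟨β, hβ⟩ := Localization.exists_rightFraction L W ψ
  obtain ⟨γ, hγ⟩ := (MorphismProperty.LeftFraction.mk α.s β.s β.hs).exists_rightFraction
  have hγ' : γ.s ≫ α.s = γ.f ≫ β.s := hγ
  refine ⟨γ.X', γ.s ≫ α.s, W.comp_mem _ _ γ.hs α.hs, γ.s ≫ α.f, γ.f ≫ β.f, ?_, ?_⟩
  · rw [L.map_comp, Category.assoc, hα, MorphismProperty.RightFraction.map_s_comp_map,
      ← L.map_comp]
  · rw [hγ', L.map_comp, Category.assoc, hβ, MorphismProperty.RightFraction.map_s_comp_map,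
      ← L.map_comp]

end Fractions

/-- Let f : X ⟶ P and g : T ⟶ P be ambient morphisms of modulus pairs and let (Y, K), with π : Y ⟶ Y₀ ⊆
X ×_P T, be an ambient product of X and T over P: Y₀ is the scheme-theoretic image of the product of
the interiors, π a blowing up of Y₀ in the sum of the pulled-back moduli, and K the ideal sheaf of
an effective Cartier divisor with K times the exceptional ideal equal to the product of the
pulled-back moduli, the two projections satisfying the modulus condition. Then in the localization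
of the category of modulus pairs at the abstract admissible blow-ups, the square with vertex (Y, K),
sides the two projections to T and X, and g, f, is a pullback square. -/
theorem result (P T X : ModPair.Pair.{u}) (f : X ⟶ P) (g : T ⟶ P)
    {Y : Scheme.{u}} (π : Y ⟶ ModPair.mprod f.hom g.hom X.mod T.mod) (K : Y.IdealSheafData)
    (hY : ModPair.IsAmbProd f.hom g.hom X.mod T.mod π K) (hK : BlowUp.IsEffCartierIdeal K)
    (hX : ModPair.IsAmbient K X.mod (π ≫ ModPair.mprodι f.hom g.hom X.mod T.mod ≫ pullback.fst f.hom g.hom))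
    (hT : ModPair.IsAmbient K T.mod (π ≫ ModPair.mprodι f.hom g.hom X.mod T.mod ≫ pullback.snd f.hom g.hom)) :
    IsPullback
      ((ModPair.Pair.admBlowup.{u}).Q.map
        (ModPair.Pair.Hom.mk (P := ModPair.Pair.mk Y K hK) (Q := T)
          (π ≫ ModPair.mprodι f.hom g.hom X.mod T.mod ≫ pullback.snd f.hom g.hom) hT))
      ((ModPair.Pair.admBlowup.{u}).Q.map
        (ModPair.Pair.Hom.mk (P := ModPair.Pair.mk Y K hK) (Q := X)
          (π ≫ ModPair.mprodι f.hom g.hom X.mod T.mod ≫ pullback.fst f.hom g.hom) hX))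
      ((ModPair.Pair.admBlowup.{u}).Q.map g) ((ModPair.Pair.admBlowup.{u}).Q.map f) := by
  haveI hcalc : (ModPair.Pair.admBlowup.{u}).HasRightCalculusOfFractions :=
    Groth.Agent.S18738.result
  -- notation
  set YK : ModPair.Pair.{u} := ModPair.Pair.mk Y K hK with hYK
  set prT : YK ⟶ T := ModPair.Pair.Hom.mk (P := YK) (Q := T)
    (π ≫ ModPair.mprodι f.hom g.hom X.mod T.mod ≫ pullback.snd f.hom g.hom) hT with hprT
  set prX : YK ⟶ X := ModPair.Pair.Hom.mk (P := YK) (Q := X)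
    (π ≫ ModPair.mprodι f.hom g.hom X.mod T.mod ≫ pullback.fst f.hom g.hom) hX with hprX
  have hcomm : prT ≫ g = prX ≫ f := by
    apply ModPair.Pair.Hom.ext
    show (π ≫ ModPair.mprodι f.hom g.hom X.mod T.mod ≫ pullback.snd f.hom g.hom) ≫ g.hom =
      (π ≫ ModPair.mprodι f.hom g.hom X.mod T.mod ≫ pullback.fst f.hom g.hom) ≫ f.hom
    simp only [Category.assoc, pullback.condition]
  -- lifting in `Pair` after an admissible blow-up
  have liftA : ∀ (Z : ModPair.Pair.{u}) (a : Z ⟶ T) (b : Z ⟶ X), a ≫ g = b ≫ f →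
      ∃ (Z' : ModPair.Pair.{u}) (s : Z' ⟶ Z) (_ : ModPair.Pair.admBlowup s) (c : Z' ⟶ YK),
        c ≫ prT = s ≫ a ∧ c ≫ prX = s ≫ b := by
    intro Z a b hab
    have hab' : b.hom ≫ f.hom = a.hom ≫ g.hom :=
      (congrArg ModPair.Pair.Hom.hom hab).symm
    obtain ⟨Z', β, hZ', hadm, c, hc1, hc2, hc3⟩ :=
      Groth.Agent.Lib.Seat92.AmbProdUniv.exists_lift_ambProd T.isEffCartier X.isEffCartier hY
        Z.mod Z.isEffCartier a.hom b.hom a.cond b.cond hab'
    refine ⟨ModPair.Pair.mk Z' (Z.mod.comap β) hZ', ⟨β, le_rfl⟩, hadm, ⟨c, hc3⟩, ?_, ?_⟩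
    · apply ModPair.Pair.Hom.ext; exact hc1
    · apply ModPair.Pair.Hom.ext; exact hc2
  -- uniqueness in `Pair`
  have extB : ∀ (Z : ModPair.Pair.{u}) (c₁ c₂ : Z ⟶ YK), c₁ ≫ prT = c₂ ≫ prT →
      c₁ ≫ prX = c₂ ≫ prX → c₁ = c₂ := by
    intro Z c₁ c₂ h1 h2
    apply ModPair.Pair.Hom.ext
    exact Groth.Agent.Lib.Seat92.AmbProdUniv.hom_ext_ambProd hY hX Z.mod Z.isEffCartier
      c₁.hom c₂.hom c₁.cond (congrArg ModPair.Pair.Hom.hom h1) (congrArg ModPair.Pair.Hom.hom h2)
  -- the square commutes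
  have w : (ModPair.Pair.admBlowup.{u}).Q.map prT ≫ (ModPair.Pair.admBlowup.{u}).Q.map g =
      (ModPair.Pair.admBlowup.{u}).Q.map prX ≫ (ModPair.Pair.admBlowup.{u}).Q.map f := by
    rw [← Functor.map_comp, ← Functor.map_comp, hcomm]
  refine isPullback_of_existsUnique w ?_
  intro Z' a b hab
  obtain ⟨Z, rfl⟩ := (Localization.Construction.objEquiv (ModPair.Pair.admBlowup.{u})).surjective Z'
  change (ModPair.Pair.admBlowup.{u}).Q.obj Z ⟶ _ at a b
  -- uniqueness
  have huniq : ∀ l₁ l₂ : (ModPair.Pair.admBlowup.{u}).Q.obj Z ⟶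
      (ModPair.Pair.admBlowup.{u}).Q.obj YK,
      l₁ ≫ (ModPair.Pair.admBlowup.{u}).Q.map prT = l₂ ≫ (ModPair.Pair.admBlowup.{u}).Q.map prT →
      l₁ ≫ (ModPair.Pair.admBlowup.{u}).Q.map prX = l₂ ≫ (ModPair.Pair.admBlowup.{u}).Q.map prX →
      l₁ = l₂ := by
    intro l₁ l₂ e1 e2
    obtain ⟨Z₄, v, hv, c₁, c₂, h₁, h₂⟩ := exists_common_rightFraction
      (ModPair.Pair.admBlowup.{u}).Q (ModPair.Pair.admBlowup.{u}) l₁ l₂
    have k1 : (ModPair.Pair.admBlowup.{u}).Q.map (c₁ ≫ prT) =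
        (ModPair.Pair.admBlowup.{u}).Q.map (c₂ ≫ prT) := by
      rw [Functor.map_comp, Functor.map_comp, ← h₁, ← h₂, Category.assoc, Category.assoc, e1]
    obtain ⟨Z₅, t₁, ht₁, q1⟩ := (MorphismProperty.map_eq_iff_precomp
      (ModPair.Pair.admBlowup.{u}).Q (ModPair.Pair.admBlowup.{u}) _ _).mp k1
    have k2 : (ModPair.Pair.admBlowup.{u}).Q.map ((t₁ ≫ c₁) ≫ prX) =
        (ModPair.Pair.admBlowup.{u}).Q.map ((t₁ ≫ c₂) ≫ prX) := by
      rw [Functor.map_comp, Functor.map_comp, Functor.map_comp, Functor.map_comp, ← h₁, ← h₂,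
        Category.assoc, Category.assoc, Category.assoc, Category.assoc, e2]
    obtain ⟨Z₆, t₂, ht₂, q2⟩ := (MorphismProperty.map_eq_iff_precomp
      (ModPair.Pair.admBlowup.{u}).Q (ModPair.Pair.admBlowup.{u}) _ _).mp k2
    have q3 : t₂ ≫ t₁ ≫ c₁ = t₂ ≫ t₁ ≫ c₂ := by
      apply extB
      · simp only [Category.assoc]; rw [q1]
      · simpa only [Category.assoc] using q2
    have k3 : (ModPair.Pair.admBlowup.{u}).Q.map c₁ = (ModPair.Pair.admBlowup.{u}).Q.map c₂ :=
      (MorphismProperty.map_eq_iff_precomp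
        (ModPair.Pair.admBlowup.{u}).Q (ModPair.Pair.admBlowup.{u}) _ _).mpr
        ⟨Z₆, t₂ ≫ t₁, (ModPair.Pair.admBlowup.{u}).comp_mem _ _ ht₂ ht₁, by
          simpa only [Category.assoc] using q3⟩
    haveI : IsIso ((ModPair.Pair.admBlowup.{u}).Q.map v) :=
      Localization.inverts (ModPair.Pair.admBlowup.{u}).Q (ModPair.Pair.admBlowup.{u}) v hv
    rw [← cancel_epi ((ModPair.Pair.admBlowup.{u}).Q.map v), h₁, h₂, k3]
  -- existence
  obtain ⟨Z₁, s, hs, a', b', ha', hb'⟩ := exists_common_rightFraction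
    (ModPair.Pair.admBlowup.{u}).Q (ModPair.Pair.admBlowup.{u}) a b
  have h1 : (ModPair.Pair.admBlowup.{u}).Q.map (a' ≫ g) =
      (ModPair.Pair.admBlowup.{u}).Q.map (b' ≫ f) := by
    rw [Functor.map_comp, Functor.map_comp, ← ha', ← hb', Category.assoc, Category.assoc]
    exact congrArg (fun k => (ModPair.Pair.admBlowup.{u}).Q.map s ≫ k) hab
  obtain ⟨Z₂, t, ht, hteq⟩ := (MorphismProperty.map_eq_iff_precomp
    (ModPair.Pair.admBlowup.{u}).Q (ModPair.Pair.admBlowup.{u}) _ _).mp h1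
  obtain ⟨Z₃, u, hu, c, hc1, hc2⟩ := liftA Z₂ (t ≫ a') (t ≫ b')
    (by simpa only [Category.assoc] using hteq)
  have hσ : ModPair.Pair.admBlowup (u ≫ t ≫ s) :=
    (ModPair.Pair.admBlowup.{u}).comp_mem _ _ hu ((ModPair.Pair.admBlowup.{u}).comp_mem _ _ ht hs)
  haveI : IsIso ((ModPair.Pair.admBlowup.{u}).Q.map (u ≫ t ≫ s)) :=
    Localization.inverts (ModPair.Pair.admBlowup.{u}).Q (ModPair.Pair.admBlowup.{u}) _ hσ
  have hl1 : (inv ((ModPair.Pair.admBlowup.{u}).Q.map (u ≫ t ≫ s)) ≫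
      (ModPair.Pair.admBlowup.{u}).Q.map c) ≫ (ModPair.Pair.admBlowup.{u}).Q.map prT = a := by
    rw [Category.assoc, IsIso.inv_comp_eq, ← Functor.map_comp, hc1, Functor.map_comp,
      Functor.map_comp, Functor.map_comp, Functor.map_comp, ← ha', Category.assoc,
      Category.assoc]
  have hl2 : (inv ((ModPair.Pair.admBlowup.{u}).Q.map (u ≫ t ≫ s)) ≫
      (ModPair.Pair.admBlowup.{u}).Q.map c) ≫ (ModPair.Pair.admBlowup.{u}).Q.map prX = b := by
    rw [Category.assoc, IsIso.inv_comp_eq, ← Functor.map_comp, hc2, Functor.map_comp,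
      Functor.map_comp, Functor.map_comp, Functor.map_comp, ← hb', Category.assoc,
      Category.assoc]
  refine ⟨_, ⟨hl1, hl2⟩, ?_⟩
  rintro l ⟨hla, hlb⟩
  exact huniq _ _ (hla.trans hl1.symm) (hlb.trans hl2.symm)

end Groth.Agent.S18752
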