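import Groth.Statements.S18739
import Mathlib
import Groth.Agent.S18749
import Groth.Agent.S18750
import Groth.Agent.S18752

set_option autoImplicit false
set_option linter.style.haveILetI false
universe u
open CategoryTheory CategoryTheory.Limits AlgebraicGeometry TopologicalSpace
open ModPair

namespace Groth.Agent.S18739

/-- The terminal modulus pair: the terminal scheme with the empty modulus. -/
noncomputable def termPair : ModPair.Pair.{u} :=
  ⟨⊤_ Scheme.{u}, ⊤, Groth.Agent.Lib.Helper20.BlowUpBasic.isEffCartierIdeal_top⟩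

/-- The unique morphism to the terminal modulus pair. -/
noncomputable def toTermPair (Z : ModPair.Pair.{u}) : Z ⟶ termPair.{u} :=
  ⟨terminal.from Z.total, by
    show Z.mod ≤ (⊤ : (⊤_ Scheme.{u}).IdealSheafData).comap _
    rw [Scheme.IdealSheafData.comap_top]
    exact le_top⟩

theorem hom_termPair_ext {Z : ModPair.Pair.{u}} (φ ψ : Z ⟶ termPair.{u}) : φ = ψ := by
  apply ModPair.Pair.Hom.ext
  exact terminal.hom_ext _ _

/-- Pullbacks of images of morphisms of modulus pairs exist in the localization. -/
theorem hasPullback_map (P T X : ModPair.Pair.{u}) (f : X ⟶ P) (g : T ⟶ P) :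
    HasPullback ((ModPair.Pair.admBlowup.{u}).Q.map g) ((ModPair.Pair.admBlowup.{u}).Q.map f) := by
  obtain ⟨Y, π, K, hY⟩ := Groth.Agent.S18750.result P.mod T.mod X.mod P.isEffCartier
    T.isEffCartier X.isEffCartier f.hom f.cond g.hom g.cond
  obtain ⟨hK, hX, hT, -⟩ := Groth.Agent.S18749.result P.mod T.mod X.mod P.isEffCartier
    T.isEffCartier X.isEffCartier f.hom f.cond g.hom g.cond π K hY
  exact (Groth.Agent.S18752.result P T X f g π K hY hK hX hT).hasPullback

/-- The localization of the category of modulus pairs and ambient morphisms at the class of abstract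
admissible blow-ups has all finite limits. -/
theorem result :
    HasFiniteLimits (ModPair.Pair.admBlowup.{u}).Localization := by
  haveI hcalc : (ModPair.Pair.admBlowup.{u}).HasRightCalculusOfFractions :=
    Groth.Agent.S18738.result
  -- terminal object
  haveI hterm : HasTerminal (ModPair.Pair.admBlowup.{u}).Localization := by
    haveI : ∀ Y : (ModPair.Pair.admBlowup.{u}).Localization,
        Nonempty (Y ⟶ (ModPair.Pair.admBlowup.{u}).Q.obj termPair.{u}) := by
      intro Y
      obtain ⟨Z, rfl⟩ :=
        (Localization.Construction.objEquiv (ModPair.Pair.admBlowup.{u})).surjective Y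
      exact ⟨(ModPair.Pair.admBlowup.{u}).Q.map (toTermPair Z)⟩
    have key : ∀ (Z : ModPair.Pair.{u})
        (φ ψ : (ModPair.Pair.admBlowup.{u}).Q.obj Z ⟶
          (ModPair.Pair.admBlowup.{u}).Q.obj termPair.{u}), φ = ψ := by
      intro Z φ ψ
      obtain ⟨Z₁, s, hs, φ', ψ', h₁, h₂⟩ := Groth.Agent.S18752.exists_common_rightFraction
        (ModPair.Pair.admBlowup.{u}).Q (ModPair.Pair.admBlowup.{u}) φ ψ
      haveI : IsIso ((ModPair.Pair.admBlowup.{u}).Q.map s) :=
        Localization.inverts (ModPair.Pair.admBlowup.{u}).Q (ModPair.Pair.admBlowup.{u}) s hs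
      rw [← cancel_epi ((ModPair.Pair.admBlowup.{u}).Q.map s), h₁, h₂, hom_termPair_ext φ' ψ']
    haveI : ∀ Y : (ModPair.Pair.admBlowup.{u}).Localization,
        Subsingleton (Y ⟶ (ModPair.Pair.admBlowup.{u}).Q.obj termPair.{u}) := by
      intro Y
      obtain ⟨Z, rfl⟩ :=
        (Localization.Construction.objEquiv (ModPair.Pair.admBlowup.{u})).surjective Y
      exact ⟨fun φ ψ => key Z φ ψ⟩
    exact hasTerminal_of_unique ((ModPair.Pair.admBlowup.{u}).Q.obj termPair.{u})
  -- pullbacks
  haveI hpb : HasPullbacks (ModPair.Pair.admBlowup.{u}).Localization := by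
    have key : ∀ (X T P : ModPair.Pair.{u})
        (f' : (ModPair.Pair.admBlowup.{u}).Q.obj X ⟶ (ModPair.Pair.admBlowup.{u}).Q.obj P)
        (g' : (ModPair.Pair.admBlowup.{u}).Q.obj T ⟶ (ModPair.Pair.admBlowup.{u}).Q.obj P),
        HasLimit (cospan f' g') := by
      intro X T P f' g'
      obtain ⟨α, hα⟩ := Localization.exists_rightFraction (ModPair.Pair.admBlowup.{u}).Q
        (ModPair.Pair.admBlowup.{u}) f'
      obtain ⟨β, hβ⟩ := Localization.exists_rightFraction (ModPair.Pair.admBlowup.{u}).Q
        (ModPair.Pair.admBlowup.{u}) g'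
      let eX := Localization.isoOfHom (ModPair.Pair.admBlowup.{u}).Q
        (ModPair.Pair.admBlowup.{u}) α.s α.hs
      let eT := Localization.isoOfHom (ModPair.Pair.admBlowup.{u}).Q
        (ModPair.Pair.admBlowup.{u}) β.s β.hs
      have wf : eX.hom ≫ f' = (ModPair.Pair.admBlowup.{u}).Q.map α.f ≫ (Iso.refl _).hom := by
        rw [hα, Iso.refl_hom, Category.comp_id, Localization.isoOfHom_hom]
        exact MorphismProperty.RightFraction.map_s_comp_map α _ _
      have wg : eT.hom ≫ g' = (ModPair.Pair.admBlowup.{u}).Q.map β.f ≫ (Iso.refl _).hom := by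
        rw [hβ, Iso.refl_hom, Category.comp_id, Localization.isoOfHom_hom]
        exact MorphismProperty.RightFraction.map_s_comp_map β _ _
      haveI : HasLimit (cospan ((ModPair.Pair.admBlowup.{u}).Q.map α.f)
          ((ModPair.Pair.admBlowup.{u}).Q.map β.f)) := hasPullback_map P α.X' β.X' β.f α.f
      exact hasLimit_of_iso (cospanExt eX eT (Iso.refl _) wf wg)
    haveI : ∀ {X' T' P' : (ModPair.Pair.admBlowup.{u}).Localization} {f' : X' ⟶ P'} {g' : T' ⟶ P'},
        HasLimit (cospan f' g') := by
      intro X' T' P' f' g'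
      obtain ⟨X, rfl⟩ :=
        (Localization.Construction.objEquiv (ModPair.Pair.admBlowup.{u})).surjective X'
      obtain ⟨T, rfl⟩ :=
        (Localization.Construction.objEquiv (ModPair.Pair.admBlowup.{u})).surjective T'
      obtain ⟨P, rfl⟩ :=
        (Localization.Construction.objEquiv (ModPair.Pair.admBlowup.{u})).surjective P'
      exact key X T P f' g'
    exact hasPullbacks_of_hasLimit_cospan _
  exact hasFiniteLimits_of_hasTerminal_and_pullbacks

end Groth.Agent.S18739
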