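import Groth.Statements.S18745
import Groth.Agent.Lib.Seat85HomColim
import Groth.Agent.S18744

set_option autoImplicit false
universe u
open CategoryTheory CategoryTheory.Limits AlgebraicGeometry TopologicalSpace
open ModPair

namespace Groth.Agent.S18745

open Groth.Agent.Lib.Helper22.IdealComap

/-- push an equation `t^# a = r * t^# β` forward along `g`. -/
theorem push_eq {X'' X' X : Scheme.{u}} (g : X'' ⟶ X') (t : X' ⟶ X) (w : X'' ⟶ X)
    (hw : w = g ≫ t) (U : X.Opens) (a β : Γ(X, U)) (r : Γ(X', t ⁻¹ᵁ U))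
    (h : (t.app U).hom a = r * (t.app U).hom β) :
    (w.app U).hom a ∈ Ideal.span {(w.app U).hom β} := by
  subst hw
  rw [Ideal.mem_span_singleton']
  refine ⟨(g.app (t ⁻¹ᵁ U)).hom r, ?_⟩
  have := congr((g.app (t ⁻¹ᵁ U)).hom $h)
  rw [map_mul] at this
  exact this.symm

/-- an equation holding at the limit holds at a finite stage -/
theorem local_descend {I : Type u} [Category.{u} I] [IsCofiltered I] (D : I ⥤ Scheme.{u})
    (c : Cone D) (hc : IsLimit c) [∀ {i j} (f : i ⟶ j), IsAffineHom (D.map f)]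
    (i : I) (U : (D.obj i).Opens) (hU : IsAffineOpen U) (a β : Γ(D.obj i, U))
    (h : ((c.π.app i).app U).hom a ∈ Ideal.span {((c.π.app i).app U).hom β}) :
    ∃ (j : I) (t : j ⟶ i) (r : Γ(D.obj j, D.map t ⁻¹ᵁ U)),
      ((D.map t).app U).hom a = r * ((D.map t).app U).hom β := by
  obtain ⟨r, hr⟩ := Ideal.mem_span_singleton'.mp h
  obtain ⟨j, f, s, rfl⟩ := Groth.Agent.S18744.exists_appLE_eq D c hc i U hU r
  have hle : c.π.app i ⁻¹ᵁ U ≤ c.π.app j ⁻¹ᵁ (D.map f ⁻¹ᵁ U) := by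
    rw [← Scheme.Hom.comp_preimage, c.w]
  have hge : c.π.app j ⁻¹ᵁ (D.map f ⁻¹ᵁ U) ≤ c.π.app i ⁻¹ᵁ U := by
    rw [← Scheme.Hom.comp_preimage, c.w]
  have h1 (z : Γ(D.obj i, U)) : ((c.π.app i).app U).hom z =
      ((c.π.app j).appLE (D.map f ⁻¹ᵁ U) (c.π.app i ⁻¹ᵁ U) hle).hom
        (((D.map f).app U).hom z) := by
    rw [Scheme.Hom.app_eq_appLE]
    exact Groth.Agent.S18744.appLE_eq_appLE_app (c.π.app i) (c.π.app j) (D.map f) (c.w f) U _
      le_rfl hle z
  have h2 : ((c.π.app j).appLE (D.map f ⁻¹ᵁ U) (c.π.app i ⁻¹ᵁ U) hle).hom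
      (((D.map f).app U).hom a - s * ((D.map f).app U).hom β) = 0 := by
    rw [map_sub, map_mul, ← h1, ← h1]
    exact sub_eq_zero.mpr hr.symm
  have h3 := Groth.Agent.S18744.app_eq_zero_of_appLE (c.π.app j) _ _ hle hge _ h2
  obtain ⟨k, g, hk⟩ := exists_app_map_eq_zero_of_isLimit D c hc
    (hU.preimage (D.map f)).isCompact _ h3
  rw [map_sub, map_mul, sub_eq_zero] at hk
  refine ⟨k, g ≫ f, ?_⟩
  have hw : D.map (g ≫ f) = D.map g ≫ D.map f := D.map_comp g f
  generalize D.map (g ≫ f) = w at hw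
  subst hw
  exact ⟨((D.map g).app (D.map f ⁻¹ᵁ U)).hom s, hk⟩

/-- `(J.comap u)(u⁻¹U) = (u^# a)` if `J(U) = (a)`. -/
theorem ideal_comap_preimage {X' X : Scheme.{u}} (u : X' ⟶ X) [IsAffineHom u]
    (JX : X.IdealSheafData) (U : X.affineOpens) (a : Γ(X, U.1))
    (ha : JX.ideal U = Ideal.span {a}) :
    (JX.comap u).ideal ⟨u ⁻¹ᵁ U.1, U.2.preimage u⟩ = Ideal.span {(u.app U.1).hom a} := by
  rw [ideal_comap_eq_map u JX ⟨_, U.2.preimage u⟩ U le_rfl, ha, Ideal.map_span,
    Set.image_singleton, Scheme.Hom.appLE_eq_app]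

/-- `(IY.comap (u ≫ φ))(u⁻¹U) = (u^# φ^# b)` if `IY(V) = (b)` and `U ≤ φ⁻¹V`. -/
theorem ideal_comap_comp_preimage {X' X Y : Scheme.{u}} (u : X' ⟶ X) [IsAffineHom u]
    (φ : X ⟶ Y) (IY : Y.IdealSheafData) (U : X.affineOpens) (V : Y.affineOpens)
    (hUV : U.1 ≤ φ ⁻¹ᵁ V.1) (b : Γ(Y, V.1)) (hb : IY.ideal V = Ideal.span {b}) :
    (IY.comap (u ≫ φ)).ideal ⟨u ⁻¹ᵁ U.1, U.2.preimage u⟩ =
      Ideal.span {(u.app U.1).hom ((φ.appLE V.1 U.1 hUV).hom b)} := by
  have hle : u ⁻¹ᵁ U.1 ≤ (u ≫ φ) ⁻¹ᵁ V.1 := by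
    rw [Scheme.Hom.comp_preimage]
    exact u.preimage_mono hUV
  rw [ideal_comap_eq_map (u ≫ φ) IY ⟨_, U.2.preimage u⟩ V hle, hb, Ideal.map_span,
    Set.image_singleton]
  congr 2
  rw [← RingHom.comp_apply, ← CommRingCat.hom_comp, Scheme.Hom.app_eq_appLE,
    Scheme.Hom.appLE_comp_appLE]

theorem descend_modulus {I : Type u} [Category.{u} I] [IsCofiltered I] (D : I ⥤ Scheme.{u})
    (c : Cone D) (hc : IsLimit c) [∀ {i j} (f : i ⟶ j), IsAffineHom (D.map f)]
    [∀ i, CompactSpace (D.obj i)]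
    (J : ∀ i, (D.obj i).IdealSheafData) (hJ : ∀ i, BlowUp.IsEffCartierIdeal (J i))
    (hmin : ∀ (i j : I) (t : i ⟶ j), J i = (J j).comap (D.map t))
    {Y : Scheme.{u}} (IY : Y.IdealSheafData) (hY : BlowUp.IsEffCartierIdeal IY)
    (i : I) (φ : D.obj i ⟶ Y) (hφ : (J i).comap (c.π.app i) ≤ IY.comap (c.π.app i ≫ φ)) :
    ∃ (j : I) (t : j ⟶ i), J j ≤ IY.comap (D.map t ≫ φ) := by
  have hπ : IsAffineHom (c.π.app i) := isAffineHom_π_app D c hc i
  -- local data
  have loc : ∀ x : D.obj i, ∃ (U : (D.obj i).affineOpens), x ∈ U.1 ∧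
      ∃ (a β : Γ(D.obj i, U.1)),
      (∀ {X' : Scheme.{u}} (u : X' ⟶ D.obj i) [IsAffineHom u],
        ((J i).comap u).ideal ⟨u ⁻¹ᵁ U.1, U.2.preimage u⟩ = Ideal.span {(u.app U.1).hom a}) ∧
      (∀ {X' : Scheme.{u}} (u : X' ⟶ D.obj i) [IsAffineHom u],
        (IY.comap (u ≫ φ)).ideal ⟨u ⁻¹ᵁ U.1, U.2.preimage u⟩ =
          Ideal.span {(u.app U.1).hom β}) := by
    intro x
    obtain ⟨V, hxV, b, -, hb⟩ := hY (φ x)
    obtain ⟨U, hU, hxU, hUV, a, -, ha⟩ :=
      Groth.Agent.Lib.Helper20.EffCartier.exists_le_of_isEffCartierIdeal (hJ i) x (φ ⁻¹ᵁ V.1) hxV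
    exact ⟨⟨U, hU⟩, hxU, a, (φ.appLE V.1 U hUV).hom b,
      fun u _ => ideal_comap_preimage u (J i) ⟨U, hU⟩ a ha,
      fun u _ => ideal_comap_comp_preimage u φ IY ⟨U, hU⟩ V hUV b hb⟩
  choose U hxU a β hJa hIβ using loc
  have stage : ∀ x, ∃ (j : I) (t : j ⟶ i) (r : Γ(D.obj j, D.map t ⁻¹ᵁ (U x).1)),
      ((D.map t).app (U x).1).hom (a x) = r * ((D.map t).app (U x).1).hom (β x) := by
    intro x
    apply local_descend D c hc i (U x).1 (U x).2 (a x) (β x)
    have := hφ ⟨c.π.app i ⁻¹ᵁ (U x).1, (U x).2.preimage _⟩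
    rw [hJa x (c.π.app i), hIβ x (c.π.app i)] at this
    exact this (Ideal.mem_span_singleton_self _)
  choose j t r hr using stage
  obtain ⟨s, hs⟩ := CompactSpace.elim_nhds_subcover (fun x => ((U x).1 : Set (D.obj i)))
    (fun x => (U x).1.2.mem_nhds (hxU x))
  obtain ⟨l, w, g, hg⟩ := IsCofiltered.wideCospan (fun x : s => t x.1)
  refine ⟨l, w, ?_⟩
  rw [hmin l i w]
  refine Scheme.IdealSheafData.le_of_iSup_eq_top
    (fun x : s => ⟨D.map w ⁻¹ᵁ (U x.1).1, (U x.1).2.preimage _⟩) ?_ ?_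
  · rw [eq_top_iff]
    intro y _
    obtain ⟨x, hx, hy⟩ := Set.mem_iUnion₂.mp (hs.ge (Set.mem_univ ((D.map w) y)))
    exact Opens.mem_iSup.mpr ⟨⟨x, hx⟩, hy⟩
  · intro x
    rw [hJa x.1 (D.map w), hIβ x.1 (D.map w), Ideal.span_singleton_le_iff_mem]
    exact push_eq (D.map (g x)) (D.map (t x.1)) (D.map w) (by rw [← D.map_comp, hg]) _ _ _ _
      (hr x.1)


set_option backward.defeqAttrib.useBackward true in
set_option backward.isDefEq.respectTransparency false in
/-- Let S be a quasi-compact quasi-separated scheme, (X_i, I_i) a cofiltered system of S-schemes, all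
quasi-compact and quasi-separated, carrying quasi-coherent ideal sheaves of effective Cartier
divisors, with affine and minimal transition morphisms, and let X be its limit (as an S-scheme) with
projections π_i and modulus I = I_i.comap π_i for every i. Let Y ⟶ S be locally of finite type with
Y quasi-compact and quasi-separated, carrying the ideal sheaf I_Y of an effective Cartier divisor.
Assume that either every transition morphism is scheme-theoretically dominant, or Y ⟶ S is locally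
of finite presentation. Then every S-morphism φ : X ⟶ Y satisfying the modulus condition I ≤
I_Y.comap φ descends: for some i there is an S-morphism φ_i : X_i ⟶ Y satisfying the modulus
condition I_i ≤ I_Y.comap φ_i with π_i ≫ φ_i = φ. (The base is taken to be a scheme, that is the
base modulus pair with empty modulus; morphisms over an arbitrary base modulus pair are among
these.) -/
theorem result {S : Scheme.{u}}
    [CompactSpace S] [QuasiSeparatedSpace S] {I : Type u} [SmallCategory I] [IsCofiltered I]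
    (D : I ⥤ Over S) (c : Cone D) (hc : IsLimit c)
    [∀ (i j : I) (t : i ⟶ j), IsAffineHom (D.map t).left]
    [∀ i, CompactSpace (D.obj i).left] [∀ i, QuasiSeparatedSpace (D.obj i).left]
    (J : ∀ i, (D.obj i).left.IdealSheafData) (hJ : ∀ i, BlowUp.IsEffCartierIdeal (J i))
    (hmin : ∀ (i j : I) (t : i ⟶ j), ModPair.IsMinimal (J i) (J j) (D.map t).left)
    (IX : c.pt.left.IdealSheafData) (hIX : ∀ i, IX = (J i).comap (c.π.app i).left)
    (Y : Over S) [CompactSpace Y.left] [QuasiSeparatedSpace Y.left] [LocallyOfFiniteType Y.hom]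
    (IY : Y.left.IdealSheafData) (hY : BlowUp.IsEffCartierIdeal IY)
    (h : (∀ (i j : I) (t : i ⟶ j), IsSchemeTheoreticallyDominant (D.map t).left) ∨
      LocallyOfFinitePresentation Y.hom)
    (φ : c.pt ⟶ Y) (hφ : ModPair.IsAmbient IX IY φ.left) :
    ∃ (i : I) (φi : D.obj i ⟶ Y), ModPair.IsAmbient (J i) IY φi.left ∧ c.π.app i ≫ φi = φ := by
  have (i : I) : CompactSpace ((D ⋙ Over.forget S).obj i) := by dsimp; infer_instance
  have (i : I) : QuasiSeparatedSpace ((D ⋙ Over.forget S).obj i) := by dsimp; infer_instance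
  have {i j : I} (f : i ⟶ j) : IsAffineHom ((D ⋙ Over.forget S).map f) := by
    dsimp; infer_instance
  -- step 1: descend the morphism
  obtain ⟨i₀, g, hg, hg'⟩ : ∃ (i : I) (g : (D ⋙ Over.forget S).obj i ⟶ Y.left),
      ((Over.forget S).mapCone c).π.app i ≫ g = φ.left ∧ g ≫ Y.hom = (D.obj i).hom := by
    rcases h with h | h
    · have {i j : I} (f : i ⟶ j) :
          IsSchemeTheoreticallyDominant ((D ⋙ Over.forget S).map f) := by
        dsimp; exact h _ _ f
      exact Groth.Agent.Lib.Seat85.HomColim.exists_π_app_comp_eq_of_locallyOfFiniteType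
        (D ⋙ Over.forget _) (.mk (fun _ ↦ (D.obj _).hom)) Y.hom _ (isLimitOfPreserves _ hc)
        φ.left (by ext; simp)
    · exact Scheme.exists_π_app_comp_eq_of_locallyOfFinitePresentation
        (D ⋙ Over.forget _) (.mk (fun _ ↦ (D.obj _).hom)) Y.hom _ (isLimitOfPreserves _ hc)
        φ.left (by ext; simp)
  -- step 2: descend the modulus condition
  obtain ⟨j, t, hjt⟩ := descend_modulus (D ⋙ Over.forget S) ((Over.forget S).mapCone c)
    (isLimitOfPreserves _ hc) J hJ (fun i j t => hmin i j t) IY hY i₀ g (by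
      rw [hg]
      have h1 : IX = (J i₀).comap (c.π.app i₀).left := hIX i₀
      have h2 : IX ≤ IY.comap φ.left := hφ
      rw [h1] at h2
      exact h2)
  refine ⟨j, Over.homMk ((D.map t).left ≫ g) (by simp [hg']), hjt, ?_⟩
  ext
  simp only [Over.comp_left, Over.homMk_left]
  rw [← hg]
  simp [← Over.comp_left_assoc]

end Groth.Agent.S18745
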