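import Groth.Statements.S18748
import Mathlib
import Groth.Agent.S18738
import Groth.Agent.S18747
import Groth.Agent.Lib.Seat92CoprodStable

set_option autoImplicit false
set_option linter.style.haveILetI false
universe u
open CategoryTheory CategoryTheory.Limits AlgebraicGeometry TopologicalSpace
open ModPair

namespace Groth.Agent.S18748

/-- The elementary universal property of a binary product cone in the opposite category of
modulus pairs, read in the category of modulus pairs. -/
theorem existsUnique_of_isLimit_op {X : Discrete WalkingPair ⥤ (ModPair.Pair.{u})ᵒᵖ} (c : Cone X)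
    (hc : IsLimit c) (Z : ModPair.Pair.{u})
    (a : ∀ i : ULift.{u} WalkingPair, (X.obj ⟨i.down⟩).unop ⟶ Z) :
    ∃! t : c.pt.unop ⟶ Z, ∀ i : ULift.{u} WalkingPair, (c.π.app ⟨i.down⟩).unop ≫ t = a i := by
  let s : Cone X :=
    { pt := Opposite.op Z
      π := Discrete.natTrans fun j => (a ⟨j.as⟩).op }
  refine ⟨(hc.lift s).unop, fun i => ?_, fun t ht => ?_⟩
  · have h1 := hc.fac s ⟨i.down⟩
    have h2 := congrArg Quiver.Hom.unop h1
    exact h2
  · have h3 : t.op = hc.lift s := hc.uniq s t.op (fun j => by
      obtain ⟨j⟩ := j
      have h4 := ht ⟨j⟩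
      exact congrArg Quiver.Hom.op h4)
    rw [← h3]; rfl

/-- The localization of the category of modulus pairs and ambient morphisms at the class of abstract
admissible blow-ups has binary coproducts, and the localization functor carries the coproduct of two
modulus pairs (the disjoint union of the total spaces with the disjoint union of the moduli) to a
coproduct. (The source also states that the interior functor detects these coproducts; that part is
not included.) -/
theorem result :
    HasBinaryCoproducts (ModPair.Pair.admBlowup.{u}).Localization ∧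
      PreservesColimitsOfShape (Discrete WalkingPair) (ModPair.Pair.admBlowup.{u}).Q := by
  haveI hcalc : (ModPair.Pair.admBlowup.{u}).HasRightCalculusOfFractions :=
    Groth.Agent.S18738.result
  haveI hcol : HasColimitsOfShape (Discrete WalkingPair) ModPair.Pair.{u} := by
    haveI := (Groth.Agent.S18747.result (ULift.{u} WalkingPair)).1
    exact hasColimitsOfShape_of_equivalence (Discrete.equivalence Equiv.ulift)
  haveI hstab : (ModPair.Pair.admBlowup.{u}).op.IsStableUnderProductsOfShape WalkingPair := by
    refine ⟨fun X₁ X₂ c₁ c₂ hc₁ hc₂ f hf φ hφ => ?_⟩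
    show ModPair.Pair.admBlowup φ.unop
    refine Groth.Agent.Lib.Seat92.CoprodStable.admBlowup_of_coproducts
      (σ := ULift.{u} WalkingPair)
      (fun i => (X₂.obj ⟨i.down⟩).unop) (fun i => (X₁.obj ⟨i.down⟩).unop)
      (fun i => (f.app ⟨i.down⟩).unop) (fun i => hf ⟨i.down⟩)
      (fun i => (c₂.π.app ⟨i.down⟩).unop) (fun i => (c₁.π.app ⟨i.down⟩).unop)
      (existsUnique_of_isLimit_op c₂ hc₂) (existsUnique_of_isLimit_op c₁ hc₁) φ.unop
      (fun i => ?_)
    exact congrArg Quiver.Hom.unop (hφ ⟨i.down⟩)
  haveI h1 : HasProductsOfShape WalkingPair (ModPair.Pair.admBlowup.{u}).Localizationᵒᵖ :=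
    Localization.hasProductsOfShape (ModPair.Pair.admBlowup.{u}).Q.op
      (ModPair.Pair.admBlowup.{u}).op WalkingPair
  haveI h2 : PreservesLimitsOfShape (Discrete WalkingPair) (ModPair.Pair.admBlowup.{u}).Q.op :=
    Localization.preservesProductsOfShape (ModPair.Pair.admBlowup.{u}).Q.op
      (ModPair.Pair.admBlowup.{u}).op WalkingPair
  refine ⟨hasCoproductsOfShape_of_opposite WalkingPair, ?_⟩
  haveI h3 : PreservesLimitsOfShape (Discrete WalkingPair)ᵒᵖ
      (ModPair.Pair.admBlowup.{u}).Q.op :=
    preservesLimitsOfShape_of_equiv (Discrete.opposite WalkingPair).symm _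
  exact preservesColimitsOfShape_of_op (Discrete WalkingPair) (ModPair.Pair.admBlowup.{u}).Q

end Groth.Agent.S18748
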