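import Groth.Statements.S18754
import Mathlib
import Groth.Agent.S18742
import Groth.Agent.S18743

set_option autoImplicit false
set_option linter.style.haveILetI false
universe u
open CategoryTheory CategoryTheory.Limits AlgebraicGeometry TopologicalSpace
open ModPair

namespace Groth.Agent.S18754

/-- A morphism between two schemes over `Y` which are both isomorphisms over the interior of an
ideal sheaf `IY`, the target carrying an effective Cartier pull-back of `IY`, is
scheme-theoretically dominant. -/
theorem isSchemeTheoreticallyDominant_of_over {Y X' X : Scheme.{u}} (IY : Y.IdealSheafData)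
    (a' : X' ⟶ Y) (a : X ⟶ Y) (t : X' ⟶ X) (ht : t ≫ a = a')
    (hI : BlowUp.IsEffCartierIdeal (IY.comap a))
    (h' : IsIso (a' ∣_ ModPair.interior IY)) (h : IsIso (a ∣_ ModPair.interior IY)) :
    IsSchemeTheoreticallyDominant t := by
  subst ht
  have hV : IsSchemeTheoreticallyDominant (a ⁻¹ᵁ ModPair.interior IY).ι := by
    rw [← Groth.Agent.S18743.interior_comap]
    exact Groth.Agent.S18743.isSchemeTheoreticallyDominant_interior _ hI
  rw [morphismRestrict_comp] at h'
  haveI := h'
  haveI := h
  haveI : IsIso (t ∣_ a ⁻¹ᵁ ModPair.interior IY) :=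
    @IsIso.of_isIso_comp_right _ _ _ _ _ _ (a ∣_ ModPair.interior IY) h h'
  have h1 : IsSchemeTheoreticallyDominant ((t ⁻¹ᵁ (a ⁻¹ᵁ ModPair.interior IY)).ι ≫ t) := by
    rw [← morphismRestrict_ι]
    infer_instance
  rw [isSchemeTheoreticallyDominant_iff, eq_bot_iff]
  calc t.ker ≤ ((t ⁻¹ᵁ (a ⁻¹ᵁ ModPair.interior IY)).ι ≫ t).ker := Scheme.Hom.le_ker_comp _ _
    _ = ⊥ := Scheme.Hom.ker_eq_bot _

/-- Let (Y, I_Y) be a modulus pair with Y quasi-compact and quasi-separated, and let (X_i ⟶ Y) be a
cofiltered system of Y-schemes with affine transition morphisms such that every X_i is quasi-compact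
and quasi-separated, the pulled-back ideal I_Y.comap (X_i ⟶ Y) is the ideal of an effective Cartier
divisor, and X_i ⟶ Y is an abstract admissible blow-up of modulus pairs which is locally of finite
presentation. Let X be the limit of the system over Y and suppose that X ⟶ Y, with the pulled-back
modulus (assumed effective Cartier), is also an abstract admissible blow-up. Then X ⟶ Y is locally
of finite presentation: an abstract admissible blow-up of quasi-compact quasi-separated modulus
pairs which is not of finite presentation is never a limit of finitely presented ones. -/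
theorem result {Y : Scheme.{u}}
    [CompactSpace Y] [QuasiSeparatedSpace Y] (IY : Y.IdealSheafData) (hY : BlowUp.IsEffCartierIdeal IY)
    {I : Type u} [SmallCategory I] [IsCofiltered I] (D : I ⥤ Over Y) (c : Cone D) (hc : IsLimit c)
    [∀ (i j : I) (t : i ⟶ j), IsAffineHom (D.map t).left]
    [∀ i, CompactSpace (D.obj i).left] [∀ i, QuasiSeparatedSpace (D.obj i).left]
    (hI : ∀ i, BlowUp.IsEffCartierIdeal (IY.comap (D.obj i).hom))
    (hadm : ∀ i, ModPair.IsAdmBlowup (IY.comap (D.obj i).hom) IY (D.obj i).hom)
    [∀ i, LocallyOfFinitePresentation (D.obj i).hom]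
    (hX : BlowUp.IsEffCartierIdeal (IY.comap c.pt.hom))
    (hXadm : ModPair.IsAdmBlowup (IY.comap c.pt.hom) IY c.pt.hom) :
    LocallyOfFinitePresentation c.pt.hom := by
  obtain ⟨-, hXprop, hXiso⟩ := hXadm
  haveI := hXprop
  haveI : ∀ (i j : I) (t : i ⟶ j), IsSchemeTheoreticallyDominant (D.map t).left := by
    intro i j t
    exact isSchemeTheoreticallyDominant_of_over IY (D.obj i).hom (D.obj j).hom (D.map t).left
      (Over.w (D.map t)) (hI j) (hadm i).2.2 (hadm j).2.2
  haveI : CompactSpace c.pt.left := QuasiCompact.compactSpace_of_compactSpace c.pt.hom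
  haveI : QuasiSeparatedSpace c.pt.left := quasiSeparatedSpace_of_quasiSeparated c.pt.hom
  obtain ⟨i, φi, hφi⟩ := (Groth.Agent.S18742.result D c hc c.pt).1 (𝟙 c.pt)
  have h1 : (c.π.app i).left ≫ φi.left = 𝟙 c.pt.left := by
    rw [← Over.comp_left, hφi]
    rfl
  haveI : IsProper (D.obj i).hom := (hadm i).2.1
  haveI : IsSeparated (φi.left ≫ c.pt.hom) := by
    rw [Over.w φi]
    infer_instance
  haveI : IsSeparated φi.left := IsSeparated.of_comp φi.left c.pt.hom
  haveI : IsClosedImmersion ((c.π.app i).left ≫ φi.left) := by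
    rw [h1]
    exact inferInstanceAs (IsClosedImmersion (𝟙 c.pt.left))
  haveI : IsClosedImmersion (c.π.app i).left := IsClosedImmersion.of_comp (c.π.app i).left φi.left
  haveI : IsSchemeTheoreticallyDominant (c.π.app i).left :=
    isSchemeTheoreticallyDominant_of_over IY c.pt.hom (D.obj i).hom (c.π.app i).left
      (Over.w (c.π.app i)) (hI i) hXiso (hadm i).2.2
  haveI : IsIso (c.π.app i).left :=
    (IsClosedImmersion.isIso_iff_ker_eq_bot (f := (c.π.app i).left)).2
      (Scheme.Hom.ker_eq_bot _)
  have h2 : (c.π.app i).left ≫ (D.obj i).hom = c.pt.hom := Over.w (c.π.app i)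
  rw [← h2]
  infer_instance

end Groth.Agent.S18754
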