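import Groth.Statements.S18755
import Mathlib
import Groth.Agent.S18749

set_option autoImplicit false
set_option linter.style.haveILetI false
universe u
open CategoryTheory CategoryTheory.Limits AlgebraicGeometry TopologicalSpace
open ModPair

namespace Groth.Agent.S18755

/-- Let (S₀, I₀), (S₁, I₁), (T, J), (X, I) be schemes with quasi-coherent ideal sheaves of effective
Cartier divisors, f : X ⟶ S₁, g : T ⟶ S₁ and σ : S₁ ⟶ S₀ morphisms satisfying the modulus condition,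
and let (Y₁, K₁) with π₁ and (Y₀, K₀) with π₀ be ambient products of (X, I) and (T, J) over S₁ and
over S₀ (the latter for f ≫ σ and g ≫ σ): blow-ups of the scheme-theoretic image of the product of
the interiors inside X ×_{S₁} T, resp. X ×_{S₀} T, in the intersection of the pulled-back moduli,
with K·E = D_X·D_T. Then the ambient product is functorial in the base: there is a unique morphism φ
: Y₁ ⟶ Y₀ compatible with the maps to X ×_{S₀} T (through the canonical X ×_{S₁} T ⟶ X ×_{S₀} T),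
and every such φ is minimal, K₁ = K₀.comap φ. -/
theorem result {S₀ S₁ T X Y₁ Y₀ : Scheme.{u}} (I₀ : S₀.IdealSheafData)
    (I₁ : S₁.IdealSheafData) (J : T.IdealSheafData) (I : X.IdealSheafData)
    (h₀ : BlowUp.IsEffCartierIdeal I₀) (h₁ : BlowUp.IsEffCartierIdeal I₁)
    (hT : BlowUp.IsEffCartierIdeal J) (hX : BlowUp.IsEffCartierIdeal I)
    (f : X ⟶ S₁) (hf : ModPair.IsAmbient I I₁ f) (g : T ⟶ S₁) (hg : ModPair.IsAmbient J I₁ g)
    (σ : S₁ ⟶ S₀) (hσ : ModPair.IsAmbient I₁ I₀ σ)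
    (π₁ : Y₁ ⟶ ModPair.mprod f g I J) (K₁ : Y₁.IdealSheafData) (hY₁ : ModPair.IsAmbProd f g I J π₁ K₁)
    (π₀ : Y₀ ⟶ ModPair.mprod (f ≫ σ) (g ≫ σ) I J) (K₀ : Y₀.IdealSheafData)
    (hY₀ : ModPair.IsAmbProd (f ≫ σ) (g ≫ σ) I J π₀ K₀) :
    (∃! φ : Y₁ ⟶ Y₀, φ ≫ π₀ ≫ ModPair.mprodι (f ≫ σ) (g ≫ σ) I J =
        π₁ ≫ ModPair.mprodι f g I J ≫ pullback.mapDesc f g σ) ∧
      ∀ φ : Y₁ ⟶ Y₀, φ ≫ π₀ ≫ ModPair.mprodι (f ≫ σ) (g ≫ σ) I J =
          π₁ ≫ ModPair.mprodι f g I J ≫ pullback.mapDesc f g σ →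
        ModPair.IsMinimal K₁ K₀ φ := by
  -- notation
  set ι₁ := ModPair.mprodι f g I J with hι₁
  set ι₀ := ModPair.mprodι (f ≫ σ) (g ≫ σ) I J with hι₀
  set c := pullback.mapDesc f g σ with hc
  have hcfst : c ≫ pullback.fst (f ≫ σ) (g ≫ σ) = pullback.fst f g := by
    rw [hc, pullback.lift_fst, Category.comp_id]
  have hcsnd : c ≫ pullback.snd (f ≫ σ) (g ≫ σ) = pullback.snd f g := by
    rw [hc, pullback.lift_snd, Category.comp_id]
  have hfσ : ModPair.IsAmbient I I₀ (f ≫ σ) := by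
    show I ≤ I₀.comap (f ≫ σ)
    rw [Scheme.IdealSheafData.comap_comp]
    exact le_trans hf (Scheme.IdealSheafData.comap_mono f hσ)
  have hgσ : ModPair.IsAmbient J I₀ (g ≫ σ) := by
    show J ≤ I₀.comap (g ≫ σ)
    rw [Scheme.IdealSheafData.comap_comp]
    exact le_trans hg (Scheme.IdealSheafData.comap_mono g hσ)
  obtain ⟨hK₁, -, -, hint₁⟩ := Groth.Agent.S18749.result I₁ J I h₁ hT hX f hf g hg π₁ K₁ hY₁
  obtain ⟨hbl₁, hKE₁⟩ := hY₁
  obtain ⟨hbl₀, hKE₀⟩ := hY₀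
  -- the product of the interiors over `S₁` is the preimage of the one over `S₀`
  have hO : ModPair.prodInterior f g I J = c ⁻¹ᵁ ModPair.prodInterior (f ≫ σ) (g ≫ σ) I J := by
    unfold ModPair.prodInterior
    rw [Scheme.Hom.preimage_inf, ← Scheme.Hom.comp_preimage, ← Scheme.Hom.comp_preimage,
      hcfst, hcsnd]
  set h : Y₁ ⟶ pullback (f ≫ σ) (g ≫ σ) := π₁ ≫ ι₁ ≫ c with hh
  have hle : ModPair.interior K₁ ≤ h ⁻¹ᵁ ModPair.prodInterior (f ≫ σ) (g ≫ σ) I J := by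
    rw [hint₁, hO, ← Scheme.Hom.comp_preimage, Category.assoc]
  -- quasi-compactness of the product of the interiors over `S₀`
  haveI q₁ : QuasiCompact ((pullback.fst (f ≫ σ) (g ≫ σ)) ⁻¹ᵁ ModPair.interior I).ι :=
    Groth.Agent.S18732.quasiCompact_ι I hX _
  haveI q₂ : QuasiCompact ((pullback.snd (f ≫ σ) (g ≫ σ)) ⁻¹ᵁ ModPair.interior J).ι :=
    Groth.Agent.S18732.quasiCompact_ι J hT _
  haveI hqc : QuasiCompact (ModPair.prodInterior (f ≫ σ) (g ≫ σ) I J).ι :=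
    Groth.Agent.Lib.Seat92.AmbProd.quasiCompact_ι_inf _ _
  have hker : ι₀.ker ≤ h.ker :=
    Groth.Agent.Lib.Seat92.MProd.ker_imageι_le_ker
      (ModPair.prodInterior (f ≫ σ) (g ≫ σ) I J) K₁ hK₁ h hle
  set h' : Y₁ ⟶ ModPair.mprod (f ≫ σ) (g ≫ σ) I J := IsClosedImmersion.lift ι₀ h hker with hh'
  have hh'fac : h' ≫ ι₀ = h := IsClosedImmersion.lift_fac ι₀ h hker
  -- pulling back the moduli
  have hIcomap : ∀ φ : Y₁ ⟶ Y₀, φ ≫ π₀ ≫ ι₀ = h →
      ((I.comap (ι₀ ≫ pullback.fst (f ≫ σ) (g ≫ σ))).comap π₀).comap φ =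
        (I.comap (ι₁ ≫ pullback.fst f g)).comap π₁ := by
    intro φ hφ
    rw [← Scheme.IdealSheafData.comap_comp, ← Scheme.IdealSheafData.comap_comp,
      ← Scheme.IdealSheafData.comap_comp]
    congr 1
    have := congrArg (fun t => t ≫ pullback.fst (f ≫ σ) (g ≫ σ)) hφ
    simp only [Category.assoc, hh, hcfst] at this ⊢
    exact this
  have hJcomap : ∀ φ : Y₁ ⟶ Y₀, φ ≫ π₀ ≫ ι₀ = h →
      ((J.comap (ι₀ ≫ pullback.snd (f ≫ σ) (g ≫ σ))).comap π₀).comap φ =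
        (J.comap (ι₁ ≫ pullback.snd f g)).comap π₁ := by
    intro φ hφ
    rw [← Scheme.IdealSheafData.comap_comp, ← Scheme.IdealSheafData.comap_comp,
      ← Scheme.IdealSheafData.comap_comp]
    congr 1
    have := congrArg (fun t => t ≫ pullback.snd (f ≫ σ) (g ≫ σ)) hφ
    simp only [Category.assoc, hh, hcsnd] at this ⊢
    exact this
  have hCcomap' : (ModPair.prodCentre (f ≫ σ) (g ≫ σ) I J).comap h' =
      (ModPair.prodCentre f g I J).comap π₁ := by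
    unfold ModPair.prodCentre
    rw [Scheme.IdealSheafData.comap_sup, Scheme.IdealSheafData.comap_sup,
      ← Scheme.IdealSheafData.comap_comp, ← Scheme.IdealSheafData.comap_comp,
      ← Scheme.IdealSheafData.comap_comp, ← Scheme.IdealSheafData.comap_comp]
    have e1 : h' ≫ ι₀ ≫ pullback.fst (f ≫ σ) (g ≫ σ) = π₁ ≫ ι₁ ≫ pullback.fst f g := by
      rw [← Category.assoc, hh'fac, hh, Category.assoc, Category.assoc, hcfst]
    have e2 : h' ≫ ι₀ ≫ pullback.snd (f ≫ σ) (g ≫ σ) = π₁ ≫ ι₁ ≫ pullback.snd f g := by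
      rw [← Category.assoc, hh'fac, hh, Category.assoc, Category.assoc, hcsnd]
    rw [e1, e2]
  have hCeff : BlowUp.IsEffCartierIdeal ((ModPair.prodCentre (f ≫ σ) (g ≫ σ) I J).comap h') := by
    rw [hCcomap']; exact hbl₁.1
  obtain ⟨φ₀, hφ₀, hφ₀uniq⟩ := hbl₀.2 Y₁ h' hCeff
  refine ⟨⟨φ₀, ?_, ?_⟩, ?_⟩
  · show φ₀ ≫ π₀ ≫ ι₀ = h
    rw [← Category.assoc, hφ₀, hh'fac]
  · intro φ hφ
    apply hφ₀uniq
    rw [← cancel_mono ι₀, Category.assoc, hh'fac]
    exact hφ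
  · intro φ hφ
    have hφ' : φ ≫ π₀ ≫ ι₀ = h := hφ
    have hφπ : φ ≫ π₀ = h' := by
      rw [← cancel_mono ι₀, Category.assoc, hh'fac]
      exact hφ'
    have hE : ((ModPair.prodCentre (f ≫ σ) (g ≫ σ) I J).comap π₀).comap φ =
        (ModPair.prodCentre f g I J).comap π₁ := by
      rw [← Scheme.IdealSheafData.comap_comp, hφπ, hCcomap']
    have key : K₀.comap φ * (ModPair.prodCentre f g I J).comap π₁ =
        K₁ * (ModPair.prodCentre f g I J).comap π₁ := by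
      rw [hKE₁, ← hE, ← Groth.Agent.Lib.Helper20.BlowUpBasic.comap_mul, hKE₀,
        Groth.Agent.Lib.Helper20.BlowUpBasic.comap_mul, hIcomap φ hφ', hJcomap φ hφ']
    show K₁ = K₀.comap φ
    exact le_antisymm
      (Groth.Agent.Lib.Seat92.AmbProd.le_of_mul_le_mul_right hbl₁.1 key.ge)
      (Groth.Agent.Lib.Seat92.AmbProd.le_of_mul_le_mul_right hbl₁.1 key.le)

end Groth.Agent.S18755
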