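import Groth.Statements.S18884
import Mathlib.Algebra.Group.Subgroup.Basic

set_option autoImplicit false
universe v u w
open CategoryTheory CategoryTheory.Limits
open Desc

namespace Groth.Agent.S18884

section aux

variable {C : Type u} [Category.{v} C] [HasPullbacks C]

/-- The cosheaf condition of the statement. -/
def IsCosh (W : MorphismProperty C) (F : C ⥤ AddCommGrpCat.{w}) : Prop :=
  ∀ ⦃Y X : C⦄ (π : Y ⟶ X), W π → Function.Surjective (F.map π).hom ∧
    (F.map π).hom.ker = ((F.map (pullback.fst π π)).hom - (F.map (pullback.snd π π)).hom).range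

theorem exists_factor {A B E : Type w} [AddCommGroup A] [AddCommGroup B] [AddCommGroup E]
    (p : A →+ B) (hp : Function.Surjective p) (f : A →+ E) (h : p.ker ≤ f.ker) :
    ∃ g : B →+ E, ∀ a, g (p a) = f a := by
  refine ⟨AddMonoidHom.liftOfRightInverse p (Function.surjInv hp) (Function.rightInverse_surjInv hp)
    ⟨f, h⟩, fun a => ?_⟩
  exact AddMonoidHom.liftOfRightInverse_comp_apply _ _ _ _ _

set_option linter.unusedSectionVars false
variable (W : MorphismProperty C) [W.IsStableUnderBaseChange] [W.IsStableUnderComposition]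
  (D : ObjectProperty C) (hD : ∀ X : C, ∃ (Y : C) (π : Y ⟶ X), W π ∧ D Y)

include hD in
/-- Key compatibility: if `b ∘ F(π) = G(π) ∘ α_Y` for one cover `π : Y ⟶ X` from `D`, then the same
holds for every morphism `t : T ⟶ X` with `T` in `D`. -/
theorem compat {F G : C ⥤ AddCommGrpCat.{w}} (hF : IsCosh W F)
    (α : D.ι ⋙ F ⟶ D.ι ⋙ G) {X Y : C} (π : Y ⟶ X) (hπ : W π) (hY : D Y)
    (b : F.obj X →+ G.obj X)
    (hb : ∀ y : F.obj Y, b ((F.map π).hom y) = (G.map π).hom ((α.app ⟨Y, hY⟩).hom y))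
    {T : C} (hT : D T) (t : T ⟶ X) (x : F.obj T) :
    b ((F.map t).hom x) = (G.map t).hom ((α.app ⟨T, hT⟩).hom x) := by
  obtain ⟨Z, ρ, hρ, hZ⟩ := hD (pullback t π)
  have hr₁ : W (ρ ≫ pullback.fst t π) :=
    W.comp_mem _ _ hρ (MorphismProperty.pullback_fst t π hπ)
  obtain ⟨z, rfl⟩ := (hF _ hr₁).1 x
  have n₁ := α.naturality (ObjectProperty.homMk (ρ ≫ pullback.fst t π) :
    (⟨Z, hZ⟩ : D.FullSubcategory) ⟶ ⟨T, hT⟩)
  have n₂ := α.naturality (ObjectProperty.homMk (ρ ≫ pullback.snd t π) :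
    (⟨Z, hZ⟩ : D.FullSubcategory) ⟶ ⟨Y, hY⟩)
  have e₁ := congrArg (fun φ => φ.hom z) n₁
  have e₂ := congrArg (fun φ => φ.hom z) n₂
  simp only [Functor.comp_map, ObjectProperty.ι_map, ObjectProperty.homMk_hom,
    AddCommGrpCat.hom_comp, AddMonoidHom.coe_comp, Function.comp_apply] at e₁ e₂
  have hFc : (F.map t).hom ((F.map (ρ ≫ pullback.fst t π)).hom z) =
      (F.map π).hom ((F.map (ρ ≫ pullback.snd t π)).hom z) := by
    rw [← AddMonoidHom.comp_apply, ← AddMonoidHom.comp_apply, ← AddCommGrpCat.hom_comp,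
      ← AddCommGrpCat.hom_comp, ← F.map_comp, ← F.map_comp, Category.assoc, Category.assoc,
      pullback.condition]
  have hGc : ∀ g, (G.map t).hom ((G.map (ρ ≫ pullback.fst t π)).hom g) =
      (G.map π).hom ((G.map (ρ ≫ pullback.snd t π)).hom g) := by
    intro g
    rw [← AddMonoidHom.comp_apply, ← AddMonoidHom.comp_apply, ← AddCommGrpCat.hom_comp,
      ← AddCommGrpCat.hom_comp, ← G.map_comp, ← G.map_comp, Category.assoc, Category.assoc,
      pullback.condition]
  rw [hFc, hb, e₂, e₁, hGc]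

include hD in
theorem exists_local {F G : C ⥤ AddCommGrpCat.{w}} (hF : IsCosh W F)
    (α : D.ι ⋙ F ⟶ D.ι ⋙ G) {X Y : C} (π : Y ⟶ X) (hπ : W π) (hY : D Y) :
    ∃ b : F.obj X →+ G.obj X,
      ∀ y : F.obj Y, b ((F.map π).hom y) = (G.map π).hom ((α.app ⟨Y, hY⟩).hom y) := by
  refine exists_factor (F.map π).hom (hF π hπ).1
    ((G.map π).hom.comp (α.app ⟨Y, hY⟩).hom) ?_
  rw [(hF π hπ).2]
  rintro _ ⟨z, rfl⟩
  obtain ⟨Z, ρ, hρ, hZ⟩ := hD (pullback π π)
  obtain ⟨z', rfl⟩ := (hF ρ hρ).1 z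
  have n₁ := α.naturality (ObjectProperty.homMk (ρ ≫ pullback.fst π π) :
    (⟨Z, hZ⟩ : D.FullSubcategory) ⟶ ⟨Y, hY⟩)
  have n₂ := α.naturality (ObjectProperty.homMk (ρ ≫ pullback.snd π π) :
    (⟨Z, hZ⟩ : D.FullSubcategory) ⟶ ⟨Y, hY⟩)
  have e₁ := congrArg (fun φ => φ.hom z') n₁
  have e₂ := congrArg (fun φ => φ.hom z') n₂
  simp only [Functor.comp_map, ObjectProperty.ι_map, ObjectProperty.homMk_hom,
    AddCommGrpCat.hom_comp, AddMonoidHom.coe_comp, Function.comp_apply] at e₁ e₂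
  have hGc : ∀ g, (G.map π).hom ((G.map (ρ ≫ pullback.fst π π)).hom g) =
      (G.map π).hom ((G.map (ρ ≫ pullback.snd π π)).hom g) := by
    intro g
    rw [← AddMonoidHom.comp_apply, ← AddMonoidHom.comp_apply, ← AddCommGrpCat.hom_comp,
      ← AddCommGrpCat.hom_comp, ← G.map_comp, ← G.map_comp, Category.assoc, Category.assoc,
      pullback.condition]
  rw [AddMonoidHom.mem_ker, AddMonoidHom.comp_apply, AddMonoidHom.sub_apply, map_sub, map_sub]
  have h₁ : (F.map (pullback.fst π π)).hom ((F.map ρ).hom z') =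
      (F.map (ρ ≫ pullback.fst π π)).hom z' := by
    rw [F.map_comp, AddCommGrpCat.hom_comp, AddMonoidHom.comp_apply]
  have h₂ : (F.map (pullback.snd π π)).hom ((F.map ρ).hom z') =
      (F.map (ρ ≫ pullback.snd π π)).hom z' := by
    rw [F.map_comp, AddCommGrpCat.hom_comp, AddMonoidHom.comp_apply]
  rw [h₁, h₂, e₁, e₂, hGc, sub_self]

include hD in
theorem exists_extension {F G : C ⥤ AddCommGrpCat.{w}} (hF : IsCosh W F)
    (α : D.ι ⋙ F ⟶ D.ι ⋙ G) : ∃ β : F ⟶ G, Functor.whiskerLeft D.ι β = α := by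
  choose Y π hπ hY using hD
  have hD' : ∀ X : C, ∃ (Y : C) (π : Y ⟶ X), W π ∧ D Y := fun X => ⟨Y X, π X, hπ X, hY X⟩
  choose b hb using fun X => exists_local W D hD' hF α (π X) (hπ X) (hY X)
  refine ⟨{ app := fun X => AddCommGrpCat.ofHom (b X), naturality := ?_ }, ?_⟩
  · intro X' X f
    ext x
    obtain ⟨y, rfl⟩ := (hF (π X') (hπ X')).1 x
    simp only [AddCommGrpCat.hom_comp, AddMonoidHom.coe_comp, Function.comp_apply,
      AddCommGrpCat.hom_ofHom]
    rw [hb X' y]
    have h₁ : (F.map f).hom ((F.map (π X')).hom y) = (F.map (π X' ≫ f)).hom y := by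
      rw [F.map_comp, AddCommGrpCat.hom_comp, AddMonoidHom.comp_apply]
    rw [h₁, compat W D hD' hF α (π X) (hπ X) (hY X) (b X) (hb X) (hY X') (π X' ≫ f) y,
      G.map_comp, AddCommGrpCat.hom_comp, AddMonoidHom.comp_apply]
  · ext ⟨T, hT⟩ x
    have := compat W D hD' hF α (π T) (hπ T) (hY T) (b T) (hb T) hT (𝟙 T) x
    simpa using this

include hD in
theorem eq_of_whisker_eq {F G : C ⥤ AddCommGrpCat.{w}} (hF : IsCosh W F)
    (β β' : F ⟶ G) (h : Functor.whiskerLeft D.ι β = Functor.whiskerLeft D.ι β') : β = β' := by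
  ext X x
  obtain ⟨Y, π, hπ, hY⟩ := hD X
  obtain ⟨y, rfl⟩ := (hF π hπ).1 x
  have n₁ := congrArg (fun φ => φ.hom y) (β.naturality π)
  have n₂ := congrArg (fun φ => φ.hom y) (β'.naturality π)
  simp only [AddCommGrpCat.hom_comp, AddMonoidHom.coe_comp, Function.comp_apply] at n₁ n₂
  have e := congrArg (fun γ => (γ.app ⟨Y, hY⟩).hom y) h
  simp only [Functor.whiskerLeft_app, ObjectProperty.ι_obj] at e
  rw [n₁, n₂, e]

end aux

/-- Let C be a category with pullbacks equipped with a class W of morphisms, the covers, stable under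
base change and under composition. An abelian cosheaf is a functor F : C ⥤ Ab such that for every
cover π : Y ⟶ X the map F(π) is surjective and its kernel is the image of F(p₁) − F(p₂), where p₁,
p₂ : Y ×_X Y ⟶ Y are the two projections. If D is a full subcategory of C such that every object of
C is the target of a cover whose source lies in D, then the restriction functor from the full
subcategory of abelian cosheaves in C ⥤ Ab to D ⥤ Ab is full and faithful. -/
theorem result {C : Type u} [Category.{v} C]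
    [HasPullbacks C] (W : MorphismProperty C) [W.IsStableUnderBaseChange] [W.IsStableUnderComposition]
    (D : ObjectProperty C) (hD : ∀ X : C, ∃ (Y : C) (π : Y ⟶ X), W π ∧ D Y) :
    (ObjectProperty.ι (fun F : C ⥤ AddCommGrpCat.{w} =>
        ∀ ⦃Y X : C⦄ (π : Y ⟶ X), W π → Function.Surjective (F.map π).hom ∧
          (F.map π).hom.ker = ((F.map (pullback.fst π π)).hom - (F.map (pullback.snd π π)).hom).range) ⋙
      (Functor.whiskeringLeft D.FullSubcategory C AddCommGrpCat.{w}).obj D.ι).Full ∧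
    (ObjectProperty.ι (fun F : C ⥤ AddCommGrpCat.{w} =>
        ∀ ⦃Y X : C⦄ (π : Y ⟶ X), W π → Function.Surjective (F.map π).hom ∧
          (F.map π).hom.ker = ((F.map (pullback.fst π π)).hom - (F.map (pullback.snd π π)).hom).range) ⋙
      (Functor.whiskeringLeft D.FullSubcategory C AddCommGrpCat.{w}).obj D.ι).Faithful := by
  refine ⟨⟨?_⟩, ⟨?_⟩⟩
  · intro F G α
    obtain ⟨β, hβ⟩ := exists_extension W D hD (F := F.obj) (G := G.obj) F.property α
    exact ⟨ObjectProperty.homMk β, hβ⟩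
  · intro F G β β' h
    apply ObjectProperty.hom_ext
    exact eq_of_whisker_eq W D hD (F := F.obj) (G := G.obj) F.property β.hom β'.hom h

end Groth.Agent.S18884
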