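import Groth.Statements.S18905
import Groth.Agent.Lib.Seat93DualNum

set_option autoImplicit false
universe u
open CategoryTheory CategoryTheory.Limits AlgebraicGeometry
open Mor

namespace Groth.Agent.S18905

section aux
variable (k : Type u) [Field k]

theorem fst_surjective :
    Function.Surjective (CommRingCat.ofHom (TrivSqZeroExt.fstHom k k k).toRingHom :
      CommRingCat.of (DualNumber k) ⟶ CommRingCat.of k) :=
  fun a => ⟨TrivSqZeroExt.inl a, rfl⟩

instance : IsClosedImmersion
    (Spec.map (CommRingCat.ofHom (TrivSqZeroExt.fstHom k k k).toRingHom)) :=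
  IsClosedImmersion.spec_of_surjective _ (fst_surjective k)

theorem ker_sq_eq_zero {R S : CommRingCat.{u}} (φ : R ⟶ S)
    (h : ∀ a b : R, φ.hom a = 0 → φ.hom b = 0 → a * b = 0) :
    (Spec.map φ).ker ^ 2 = 0 := by
  apply Scheme.IdealSheafData.ext_of_isAffine
  rw [Scheme.IdealSheafData.ideal_pow, Pi.pow_apply, Scheme.Hom.ker_apply]
  change _ = (⊥ : Ideal _)
  rw [eq_bot_iff, sq, Ideal.mul_le]
  intro a ha b hb
  rw [RingHom.mem_ker] at ha hb
  rw [Ideal.mem_bot]
  have hnat : ∀ c, φ.hom ((Scheme.ΓSpecIso R).hom.hom c)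
      = (Scheme.ΓSpecIso S).hom.hom ((Spec.map φ).appTop.hom c) := by
    intro c
    have := Scheme.ΓSpecIso_naturality φ
    exact (congrArg (fun f => f.hom c) this).symm
  have ha' : φ.hom ((Scheme.ΓSpecIso R).hom.hom a) = 0 := by
    rw [hnat a, show (Spec.map φ).appTop.hom a = 0 from ha, map_zero]
  have hb' : φ.hom ((Scheme.ΓSpecIso R).hom.hom b) = 0 := by
    rw [hnat b, show (Spec.map φ).appTop.hom b = 0 from hb, map_zero]
  have hinj : Function.Injective (Scheme.ΓSpecIso R).hom.hom :=
    (ConcreteCategory.bijective_of_isIso (Scheme.ΓSpecIso R).hom).1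
  apply hinj
  rw [map_mul, map_zero]
  exact h _ _ ha' hb'

theorem isNilpotent_ker :
    IsNilpotent (Spec.map (CommRingCat.ofHom (TrivSqZeroExt.fstHom k k k).toRingHom)).ker := by
  refine ⟨2, ker_sq_eq_zero _ ?_⟩
  intro a b ha hb
  have ha' : TrivSqZeroExt.fst (R := k) (M := k) a = 0 := ha
  have hb' : TrivSqZeroExt.fst (R := k) (M := k) b = 0 := hb
  apply TrivSqZeroExt.ext
  · rw [TrivSqZeroExt.fst_mul, ha', zero_mul, TrivSqZeroExt.fst_zero]
  · rw [TrivSqZeroExt.snd_mul, ha', hb', zero_smul, MulOpposite.op_zero, zero_smul, add_zero,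
      TrivSqZeroExt.snd_zero]

end aux

section aux2
variable (k : Type u) [Field k] [IsAlgClosed k]

/-- The criterion for `Spec R → Spec k`. -/
theorem formallyUnramified_Spec {R : CommRingCat.{u}} (χ : CommRingCat.of k ⟶ R)
    [hft : LocallyOfFiniteType (Spec.map χ)]
    (H : ∀ v₁ v₂ : Spec (CommRingCat.of (DualNumber k)) ⟶ Spec R,
        v₁ ≫ Spec.map χ = Spec.map (CommRingCat.ofHom (algebraMap k (DualNumber k))) →
        v₂ ≫ Spec.map χ = Spec.map (CommRingCat.ofHom (algebraMap k (DualNumber k))) →
        Spec.map (CommRingCat.ofHom (TrivSqZeroExt.fstHom k k k).toRingHom) ≫ v₁ =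
          Spec.map (CommRingCat.ofHom (TrivSqZeroExt.fstHom k k k).toRingHom) ≫ v₂ →
        v₁ = v₂) :
    FormallyUnramified (Spec.map χ) := by
  rw [HasRingHomProperty.Spec_iff (P := @FormallyUnramified)]
  have hft' : χ.hom.FiniteType := (HasRingHomProperty.Spec_iff (P := @LocallyOfFiniteType)).1 hft
  letI : Algebra k R := χ.hom.toAlgebra
  haveI : Algebra.FiniteType k R := hft'
  change Algebra.FormallyUnramified k R
  apply Groth.Agent.Lib.Seat93.DualNum.formallyUnramified_of_dualNumber
  intro g₁ g₂ hg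
  have hcomp : ∀ g : R →ₐ[k] DualNumber k,
      Spec.map (CommRingCat.ofHom g.toRingHom) ≫ Spec.map χ
        = Spec.map (CommRingCat.ofHom (algebraMap k (DualNumber k))) := by
    intro g
    rw [← Spec.map_comp]
    congr 1
    apply CommRingCat.hom_ext
    apply RingHom.ext
    intro c
    exact g.commutes c
  have hfst : ∀ g : R →ₐ[k] DualNumber k,
      Spec.map (CommRingCat.ofHom (TrivSqZeroExt.fstHom k k k).toRingHom) ≫
        Spec.map (CommRingCat.ofHom g.toRingHom)
        = Spec.map (CommRingCat.ofHom ((TrivSqZeroExt.fstHom k k k).comp g).toRingHom) := by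
    intro g
    rw [← Spec.map_comp]
    rfl
  have hv := H _ _ (hcomp g₁) (hcomp g₂) (by rw [hfst, hfst, hg])
  have h2 := Spec.map_injective hv
  apply AlgHom.ext
  intro r
  exact congrArg (fun f => f.hom r) h2

/-- The criterion for an affine scheme over `Spec k`. -/
theorem formallyUnramified_of_isAffine {Y : Scheme.{u}} [IsAffine Y]
    (q : Y ⟶ Spec (CommRingCat.of k)) [LocallyOfFiniteType q]
    (H : ∀ v₁ v₂ : Spec (CommRingCat.of (DualNumber k)) ⟶ Y,
        v₁ ≫ q = Spec.map (CommRingCat.ofHom (algebraMap k (DualNumber k))) →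
        v₂ ≫ q = Spec.map (CommRingCat.ofHom (algebraMap k (DualNumber k))) →
        Spec.map (CommRingCat.ofHom (TrivSqZeroExt.fstHom k k k).toRingHom) ≫ v₁ =
          Spec.map (CommRingCat.ofHom (TrivSqZeroExt.fstHom k k k).toRingHom) ≫ v₂ →
        v₁ = v₂) :
    FormallyUnramified q := by
  set e := Y.isoSpec with he
  set χ : CommRingCat.of k ⟶ Γ(Y, ⊤) := Spec.preimage (e.inv ≫ q) with hχ
  have hχq : Spec.map χ = e.inv ≫ q := Spec.map_preimage _
  haveI : LocallyOfFiniteType (Spec.map χ) := by rw [hχq]; infer_instance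
  have h1 : FormallyUnramified (Spec.map χ) := by
    apply formallyUnramified_Spec k χ
    intro v₁ v₂ h₁ h₂ h
    rw [hχq] at h₁ h₂
    have := H (v₁ ≫ e.inv) (v₂ ≫ e.inv) (by rw [Category.assoc, h₁]) (by rw [Category.assoc, h₂])
      (by rw [← Category.assoc, ← Category.assoc, h])
    exact (cancel_mono e.inv).1 this
  rw [hχq] at h1
  exact (MorphismProperty.cancel_left_of_respectsIso @FormallyUnramified e.inv q).1 h1

end aux2

/-- Let k be an algebraically closed field and X a scheme locally of finite type over k. Then X → Spec k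
is formally unramified if and only if the map Hom_k(Spec k[ε], X) → Hom_k(Spec k, X) given by
restricting along the closed immersion of Spec k into Spec k[ε] (k[ε] the ring of dual numbers, ε ↦
0), is bijective; since that map is always surjective, the condition is stated as injectivity: two
k-morphisms from Spec k[ε] to X which agree on Spec k are equal. -/
theorem result (k : Type u) [Field k] [IsAlgClosed k]
    {X : Scheme.{u}} (p : X ⟶ Spec (CommRingCat.of k)) [LocallyOfFiniteType p] :
    FormallyUnramified p ↔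
      ∀ v₁ v₂ : Spec (CommRingCat.of (DualNumber k)) ⟶ X,
        v₁ ≫ p = Spec.map (CommRingCat.ofHom (algebraMap k (DualNumber k))) →
        v₂ ≫ p = Spec.map (CommRingCat.ofHom (algebraMap k (DualNumber k))) →
        Spec.map (CommRingCat.ofHom (TrivSqZeroExt.fstHom k k k).toRingHom) ≫ v₁ =
          Spec.map (CommRingCat.ofHom (TrivSqZeroExt.fstHom k k k).toRingHom) ≫ v₂ →
        v₁ = v₂ := by
  constructor
  · intro hp v₁ v₂ h₁ h₂ h
    exact FormallyUnramified.hom_ext _ (isNilpotent_ker k) p h (h₁.trans h₂.symm)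
  · intro H
    rw [IsZariskiLocalAtSource.iff_of_openCover (P := @FormallyUnramified) X.affineCover]
    intro i
    apply formallyUnramified_of_isAffine k
    intro v₁ v₂ h₁ h₂ h
    have := H (v₁ ≫ X.affineCover.f i) (v₂ ≫ X.affineCover.f i)
      (by rw [Category.assoc, h₁]) (by rw [Category.assoc, h₂])
      (by rw [← Category.assoc, ← Category.assoc, h])
    exact (cancel_mono (X.affineCover.f i)).1 this

end Groth.Agent.S18905
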