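import Groth.Statements.S18918
import Groth.Agent.Lib.Seat2SplitCover
import Groth.Agent.Lib.Seat2FibreCard
import Groth.Agent.Lib.Helper18FinFlat2

set_option autoImplicit false
universe u
open CategoryTheory CategoryTheory.Limits AlgebraicGeometry
open FEt

namespace Groth.Agent.S18918

open PreGaloisCategory Groth.Agent.Lib.Seat2.SplitCover Groth.Agent.Lib.Seat2.FibreCard
  Groth.Agent.Lib.Seat2.FEtGalois Groth.Agent.Lib.Seat2.FEtConn Groth.Agent.Lib.Seat2.FEtMono

set_option linter.style.haveILetI false

/-- Let f : X → Y be a finite étale morphism of degree n (f_*O_X locally free of rank n) and φ : X' → Y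
a morphism from a nonempty connected scheme X'. Then the Y-morphisms X' → X (equivalently, the
sections of X ×_Y X' → X') form a finite set with at most n elements, and there are exactly n of
them if and only if the covering X ×_Y X' → X' is trivial, i.e. X ×_Y X' is isomorphic over X' to
the disjoint union of n copies of X'. The source works with separated Noetherian schemes over an
algebraically closed field of characteristic zero; that setting is not needed for the statement. -/
theorem result
    {X Y X' : Scheme.{u}} (f : X ⟶ Y) [IsFinite f] [Etale f] (n : ℕ)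
    (hdeg : FlatMod.IsFinLocFreeOfRank n ((Scheme.Modules.pushforward f).obj (Coh.structureModule X)))
    (φ : X' ⟶ Y) [Nonempty X'] [ConnectedSpace X'] :
    Finite (Over.mk φ ⟶ Over.mk f) ∧ Nat.card (Over.mk φ ⟶ Over.mk f) ≤ n ∧
      (Nat.card (Over.mk φ ⟶ Over.mk f) = n ↔
        ∃ e : pullback f φ ≅ ∐ fun _ : Fin n => X',
          e.hom ≫ Sigma.desc (fun _ : Fin n => 𝟙 X') = pullback.snd f φ) := by
  classical
  -- the degree
  have hdeg' : ∀ y : Y, f.finrank y = n :=
    ((Groth.Agent.Helper18FinFlat.main_S19692 f n).mpr ⟨inferInstance, hdeg⟩).2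
  -- a geometric point of `X'`
  obtain ⟨x⟩ := (inferInstance : Nonempty X')
  let Ω := AlgebraicClosure (X'.residueField x)
  obtain ⟨ξ, -⟩ : ∃ ξ : Spec (CommRingCat.of Ω) ⟶ X', True :=
    ⟨Spec.map (CommRingCat.ofHom (algebraMap (X'.residueField x) Ω)) ≫
      X'.fromSpecResidueField x, trivial⟩
  haveI := galoisCategory ξ
  let F := fiberFunctor ξ
  let Xo : FEt.Cat Y := MorphismProperty.Over.mk ⊤ f ⟨inferInstance, inferInstance⟩
  let Z : FEt.Cat X' := (FEt.restrict φ).obj Xo
  let T₀ : FEt.Cat X' := MorphismProperty.Over.mk ⊤ (𝟙 X') ⟨inferInstance, inferInstance⟩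
  haveI : ConnectedSpace T₀.left := inferInstanceAs (ConnectedSpace X')
  haveI : IsConnected T₀ := isConnected_of_connectedSpace T₀
  -- sections
  let E : (Over.mk φ ⟶ Over.mk f) ≃ (T₀ ⟶ Z) :=
    { toFun := fun g => MorphismProperty.Over.homMk
        (pullback.lift g.left (𝟙 X') ((Over.w g).trans (Category.id_comp φ).symm))
        (pullback.lift_snd _ _ _) trivial
      invFun := fun s => Over.homMk ((s.left : X' ⟶ pullback f φ) ≫ pullback.fst f φ) (by
        have hs : (s.left : X' ⟶ pullback f φ) ≫ pullback.snd f φ = 𝟙 X' :=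
          MorphismProperty.Over.w s
        exact (Category.assoc _ _ _).trans
          ((congrArg (fun m => (s.left : X' ⟶ pullback f φ) ≫ m) pullback.condition).trans
            ((Category.assoc _ _ _).symm.trans
              ((congrArg (fun m => m ≫ φ) hs).trans (Category.id_comp φ)))))
      left_inv := fun g => by
        ext
        exact pullback.lift_fst _ _ _
      right_inv := fun s => by
        ext
        have hs : (s.left : X' ⟶ pullback f φ) ≫ pullback.snd f φ = 𝟙 X' :=
          MorphismProperty.Over.w s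
        apply pullback.hom_ext
        · exact pullback.lift_fst _ _ _
        · exact (pullback.lift_snd _ _ _).trans hs.symm }
  obtain ⟨t₀⟩ : Nonempty (F.obj T₀) := nonempty_fiber_of_isConnected F T₀
  have hinj : Function.Injective (fun s : T₀ ⟶ Z => F.map s t₀) :=
    evaluation_injective_of_isConnected F T₀ Z t₀
  haveI : Finite (T₀ ⟶ Z) := Finite.of_injective _ hinj
  haveI : Finite (Over.mk φ ⟶ Over.mk f) := Finite.of_equiv _ E.symm
  -- the fibre has `n` elements
  have hcardF : Nat.card (F.obj Z) = n := by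
    rw [Nat.card_congr (sec ξ Z), card_fiberObj_eq_finrank ξ Z]
    change Scheme.Hom.finrank (pullback.snd f φ) _ = n
    rw [Scheme.Hom.finrank_pullback_snd, hdeg']
  have hcardE : Nat.card (Over.mk φ ⟶ Over.mk f) = Nat.card (T₀ ⟶ Z) := Nat.card_congr E
  have hle : Nat.card (T₀ ⟶ Z) ≤ n := by
    rw [← hcardF]
    exact Nat.card_le_card_of_injective _ hinj
  refine ⟨inferInstance, hcardE ▸ hle, ?_⟩
  rw [hcardE]
  -- the section `ξ` of the trivial cover
  have hξ : ((sec ξ T₀ t₀).1 : _ ⟶ X') = ξ := by
    have := (sec ξ T₀ t₀).2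
    change ((sec ξ T₀ t₀).1 : _ ⟶ X') ≫ 𝟙 X' = ξ at this
    exact (Category.comp_id _).symm.trans this
  constructor
  · intro hn
    have hbij : Function.Bijective (fun s : T₀ ⟶ Z => F.map s t₀) :=
      hinj.bijective_of_nat_card_le (by rw [hcardF, hn])
    let e' : Fin n ≃ (T₀ ⟶ Z) := (hn ▸ (Finite.equivFin (T₀ ⟶ Z))).symm
    let σ : Fin n → (X' ⟶ pullback f φ) := fun i => (e' i).left
    have hσ : ∀ i, σ i ≫ pullback.snd f φ = 𝟙 X' := fun i => MorphismProperty.Over.w (e' i)
    let Ψ₀ : (∐ fun _ : Fin n => X') ⟶ pullback f φ := Sigma.desc σ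
    have hΨ₀ : Ψ₀ ≫ pullback.snd f φ = Sigma.desc (fun _ : Fin n => 𝟙 X') := by
      apply Sigma.hom_ext
      intro i
      rw [Sigma.ι_desc, ← Category.assoc, Sigma.ι_desc, hσ]
    have hP : FEt.prop (Sigma.desc fun _ : Fin n => 𝟙 X') :=
      ⟨isFinite_sigmaDesc_small _ _ _ (fun _ => inferInstance),
        IsZariskiLocalAtSource.sigmaDesc (fun _ => inferInstance)⟩
    let P : FEt.Cat X' := MorphismProperty.Over.mk ⊤ (Sigma.desc fun _ : Fin n => 𝟙 X') hP
    let Ψ : P ⟶ Z := MorphismProperty.Over.homMk Ψ₀ hΨ₀ trivial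
    have hiso : IsIso Ψ := by
      apply isIso_of_bijective_fiber ξ
      constructor
      · rintro ⟨s, hs⟩ ⟨s', hs'⟩ h
        change Spec (CommRingCat.of Ω) ⟶ ∐ fun _ : Fin n => X' at s s'
        change s ≫ Sigma.desc (fun _ : Fin n => 𝟙 X') = ξ at hs
        change s' ≫ Sigma.desc (fun _ : Fin n => 𝟙 X') = ξ at hs'
        have h' : s ≫ Ψ₀ = s' ≫ Ψ₀ := congrArg Subtype.val h
        obtain ⟨i, a, rfl⟩ := exists_factor_sigma (fun _ : Fin n => X') s
        obtain ⟨j, b, rfl⟩ := exists_factor_sigma (fun _ : Fin n => X') s'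
        have ha : ξ = a := by
          rw [Category.assoc, Sigma.ι_desc, Category.comp_id] at hs
          exact hs.symm
        have hb : ξ = b := by
          rw [Category.assoc, Sigma.ι_desc, Category.comp_id] at hs'
          exact hs'.symm
        subst ha
        subst hb
        rw [Category.assoc, Category.assoc, Sigma.ι_desc, Sigma.ι_desc] at h'
        have hij : e' i = e' j := by
          apply hinj
          apply (sec ξ Z).injective
          apply Subtype.ext
          rw [sec_map, sec_map, hξ]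
          exact h'
        have : i = j := e'.injective hij
        subst this
        rfl
      · rintro ⟨t, ht⟩
        change Spec (CommRingCat.of Ω) ⟶ pullback f φ at t
        change t ≫ pullback.snd f φ = ξ at ht
        obtain ⟨s, hs⟩ := hbij.surjective ((sec ξ Z).symm ⟨t, ht⟩)
        obtain ⟨i, rfl⟩ := e'.surjective s
        have h1 : ξ ≫ σ i = t := by
          have := congrArg (fun w => ((sec ξ Z w).1 : _ ⟶ pullback f φ)) hs
          simp only [Equiv.apply_symm_apply] at this
          rw [sec_map, hξ] at this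
          exact this
        refine ⟨⟨ξ ≫ Sigma.ι (fun _ : Fin n => X') i, ?_⟩, Subtype.ext ?_⟩
        · change (ξ ≫ Sigma.ι (fun _ : Fin n => X') i) ≫ Sigma.desc (fun _ : Fin n => 𝟙 X') = ξ
          rw [Category.assoc, Sigma.ι_desc, Category.comp_id]
        · change (ξ ≫ Sigma.ι (fun _ : Fin n => X') i) ≫ Ψ₀ = t
          rw [Category.assoc, Sigma.ι_desc]
          exact h1
    have hiso₀ : IsIso Ψ₀ := inferInstanceAs (IsIso ((toScheme X').map Ψ))
    refine ⟨(asIso Ψ₀).symm, ?_⟩
    change inv Ψ₀ ≫ _ = _
    rw [IsIso.inv_comp_eq, hΨ₀]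
  · rintro ⟨e, he⟩
    apply le_antisymm hle
    have hinv : e.inv ≫ pullback.snd f φ = Sigma.desc (fun _ : Fin n => 𝟙 X') := by
      rw [Iso.inv_comp_eq, he]
    let τ : Fin n → (T₀ ⟶ Z) := fun i => MorphismProperty.Over.homMk
      (Sigma.ι (fun _ : Fin n => X') i ≫ e.inv) (by
        change (Sigma.ι (fun _ : Fin n => X') i ≫ e.inv) ≫ pullback.snd f φ = 𝟙 X'
        rw [Category.assoc, hinv, Sigma.ι_desc]) trivial
    have hτ : Function.Injective τ := by
      intro i j hij
      have h1 : Sigma.ι (fun _ : Fin n => X') i ≫ e.inv = Sigma.ι (fun _ : Fin n => X') j ≫ e.inv :=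
        congrArg (fun m => m.left) hij
      have h2 : Sigma.ι (fun _ : Fin n => X') i = Sigma.ι (fun _ : Fin n => X') j :=
        (cancel_mono e.inv).mp h1
      by_contra hne
      have hd := disjoint_opensRange_sigmaι (fun _ : Fin n => X') i j hne
      have m1 : Sigma.ι (fun _ : Fin n => X') i x ∈ (Sigma.ι (fun _ : Fin n => X') i).opensRange :=
        ⟨x, rfl⟩
      have m2 : Sigma.ι (fun _ : Fin n => X') i x ∈ (Sigma.ι (fun _ : Fin n => X') j).opensRange := by
        rw [h2]
        exact ⟨x, rfl⟩
      exact (disjoint_iff.mp hd).le ⟨m1, m2⟩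
    have := Nat.card_le_card_of_injective τ hτ
    rwa [Nat.card_fin] at this

end Groth.Agent.S18918
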