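import Groth.Statements.S18922
import Groth.Agent.Lib.Helper2QCoh
import Groth.Agent.Lib.Helper2QcPush

set_option autoImplicit false
universe u
open CategoryTheory CategoryTheory.Limits AlgebraicGeometry
open TFNodal

namespace Groth.Agent.S18922

open Groth.Agent.Lib.Helper2 in
/-- Core statement: on a reduced locally Noetherian scheme, a section of a torsion-free quasi-coherent
module over an open `U` whose germ at `x` vanishes is zero, provided all generic points of `U`
specialize to `x`. -/
theorem section_eq_zero {X : Scheme.{u}} [IsLocallyNoetherian X] [AlgebraicGeometry.IsReduced X]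
    (F : X.Modules) [F.IsQuasicoherent] (htF : TorSh.IsTorsionFree F)
    (x : X) (U : X.Opens) (hxU : x ∈ U)
    (hU : ∀ y : X, y ∈ U → IsField (X.presheaf.stalk y) → x ∈ closure ({y} : Set X))
    (s : Γ(F, U)) (hs : F.presheaf.germ U x hxU s = 0) : s = 0 := by
  classical
  apply QcPush.section_eq_zero_of_germ
  intro y hy
  -- `s` vanishes near `x`
  obtain ⟨V, hxV, i₁, i₂, hV⟩ := F.presheaf.germ_eq x hxU hxU s 0 (by rw [hs, map_zero])
  rw [map_zero] at hV
  -- affine neighbourhood `W` of `y` in `U`
  obtain ⟨W, hWaff, hyW, hWU⟩ :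
      ∃ W : X.Opens, IsAffineOpen W ∧ y ∈ W ∧ W ≤ U := by
    obtain ⟨W, hW, hyW, hWU⟩ :=
      TopologicalSpace.Opens.isBasis_iff_nbhd.mp (X.isBasis_affineOpens) hy
    exact ⟨W, hW, hyW, hWU⟩
  set m : Γ(F, W) := F.presheaf.map (homOfLE hWU).op s with hmdef
  have hm : F.presheaf.germ W y hyW m = F.presheaf.germ U y hy s :=
    TopCat.Presheaf.germ_res_apply F.presheaf (homOfLE hWU) y hyW s
  rw [← hm]
  -- the annihilator of `m` lies in no minimal prime
  have key : ∀ q ∈ minimalPrimes Γ(X, W), ¬ (QCoh.ann F m ≤ q) := by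
    intro q hq hle
    haveI hqp : q.IsPrime := hq.1.1
    set η : X := hWaff.fromSpec (⟨q, hqp⟩ : PrimeSpectrum Γ(X, W)) with hη
    have hηW : η ∈ W := QCoh.fromSpec_mem hWaff _
    have hprime : (hWaff.primeIdealOf ⟨η, hηW⟩).asIdeal = q := by
      rw [QCoh.primeIdealOf_fromSpec]
    have hfield : IsField (X.presheaf.stalk η) := by
      letI := (X.presheaf.germ W η hηW).hom.toAlgebra
      haveI h1 : IsLocalization.AtPrime (X.presheaf.stalk η)
          (hWaff.primeIdealOf ⟨η, hηW⟩).asIdeal := hWaff.isLocalization_stalk ⟨η, hηW⟩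
      have hq' : (hWaff.primeIdealOf ⟨η, hηW⟩).asIdeal ∈ minimalPrimes Γ(X, W) := by
        rw [hprime]; exact hq
      haveI := Ring.KrullDimLE.of_isLocalization _ hq' (X.presheaf.stalk η)
      exact Ring.KrullDimLE.isField_of_isReduced
    have hspec : x ∈ closure ({η} : Set X) := hU η (hWU hηW) hfield
    have hηV : η ∈ V := (specializes_iff_mem_closure.2 hspec).mem_open V.2 hxV
    refine QCoh.germ_fromSpec_ne_zero hWaff F m ⟨q, hqp⟩ hle ?_
    change F.presheaf.germ W η hηW m = 0
    have e1 : F.presheaf.germ W η hηW m = F.presheaf.germ U η (hWU hηW) s :=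
      TopCat.Presheaf.germ_res_apply F.presheaf (homOfLE hWU) η hηW s
    have e2 : F.presheaf.germ V η hηV (F.presheaf.map i₁.op s) = F.presheaf.germ U η (hWU hηW) s :=
      TopCat.Presheaf.germ_res_apply F.presheaf i₁ η hηV s
    rw [e1, ← e2, hV, map_zero]
  -- prime avoidance
  haveI : IsNoetherianRing Γ(X, W) := IsLocallyNoetherian.component_noetherian ⟨W, hWaff⟩
  have hfin : (minimalPrimes Γ(X, W)).Finite := minimalPrimes.finite_of_isNoetherianRing _
  haveI : Fintype {q // q ∈ minimalPrimes Γ(X, W)} := hfin.fintype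
  obtain ⟨a, haI, hap⟩ : ∃ a ∈ QCoh.ann F m, ∀ q ∈ minimalPrimes Γ(X, W), a ∉ q := by
    by_contra hcon
    push Not at hcon
    have hsub : ((QCoh.ann F m : Set Γ(X, W)) ⊆
        ⋃ t ∈ ((Finset.univ : Finset {q // q ∈ minimalPrimes Γ(X, W)}) :
          Set {q // q ∈ minimalPrimes Γ(X, W)}), ((t.1 : Ideal Γ(X, W)) : Set Γ(X, W))) := by
      intro f hf
      obtain ⟨q, hq, hfq⟩ := hcon f hf
      exact Set.mem_biUnion (Finset.mem_coe.2 (Finset.mem_univ ⟨q, hq⟩)) hfq
    by_cases hne : Nonempty {q // q ∈ minimalPrimes Γ(X, W)}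
    · obtain ⟨t₀⟩ := hne
      obtain ⟨t, -, hle⟩ := (Ideal.subset_union_prime
        (s := (Finset.univ : Finset {q // q ∈ minimalPrimes Γ(X, W)}))
        (f := fun t => (t.1 : Ideal Γ(X, W))) t₀ t₀ (fun t _ _ _ => t.2.1.1)).1 hsub
      exact key t.1 t.2 hle
    · obtain ⟨q, hq, -⟩ := hcon 0 (QCoh.ann F m).zero_mem
      exact hne ⟨⟨q, hq⟩⟩
  -- `a` is a non-zero-divisor of the reduced ring `Γ(X, W)`
  have hanzd : a ∈ nonZeroDivisors Γ(X, W) := by
    rw [mem_nonZeroDivisors_iff_right]
    intro b hab
    by_contra hb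
    have hmem : a ∈ ⋃ p ∈ (⊥ : Ideal Γ(X, W)).minimalPrimes, (p : Set Γ(X, W)) := by
      rw [Ideal.iUnion_minimalPrimes]
      refine ⟨b, ?_, ?_⟩
      · intro hb'
        apply hb
        have : b ∈ nilradical Γ(X, W) := hb'
        rw [nilradical_eq_zero] at this
        exact this
      · rw [mul_comm, hab]; exact Ideal.zero_mem _
    simp only [Set.mem_iUnion] at hmem
    obtain ⟨p, hp, hap'⟩ := hmem
    exact hap p hp hap'
  -- so its germ at `y` is regular
  have hreg : IsRegular (X.presheaf.germ W y hyW a) := by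
    letI := (X.presheaf.germ W y hyW).hom.toAlgebra
    haveI h1 : IsLocalization.AtPrime (X.presheaf.stalk y)
        (hWaff.primeIdealOf ⟨y, hyW⟩).asIdeal := hWaff.isLocalization_stalk ⟨y, hyW⟩
    have h2 := IsLocalization.map_nonZeroDivisors_le
      (hWaff.primeIdealOf ⟨y, hyW⟩).asIdeal.primeCompl (X.presheaf.stalk y)
    have h3 : X.presheaf.germ W y hyW a ∈ nonZeroDivisors (X.presheaf.stalk y) :=
      h2 (Submonoid.mem_map_of_mem _ hanzd)
    exact isRegular_iff_mem_nonZeroDivisors.2 h3
  have hkill : X.presheaf.germ W y hyW a • F.presheaf.germ W y hyW m = 0 := by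
    rw [← QCoh.germ_smul, QCoh.mem_ann.1 haI, map_zero]
  exact (htF y).isSMulRegular hreg (hkill.trans (smul_zero _).symm)

/-- Let k be an algebraically closed field of characteristic zero, X a reduced proper curve over k (a
proper k-scheme of dimension one) and F a coherent torsion free O_X-module (every stalk a torsion
free module over the local ring). Let x be a point of X and U an open subset containing x such that
every irreducible component of U passes through x, that is, every point of U whose local ring is a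
field specializes to x. Then the map from the sections of F over U to the stalk F_x is injective.
(The source states this for x a node of a connected nodal curve and U inside the union of the
irreducible components through x, meeting no other node.) -/
theorem result
    (k : Type u) [Field k] [IsAlgClosed k] [CharZero k]
    (X : Scheme.{u}) [X.Over (Spec (CommRingCat.of k))] [IsProper (X ↘ Spec (CommRingCat.of k))]
    [AlgebraicGeometry.IsReduced X] (hdim : topologicalKrullDim X = 1)
    (F : X.Modules) (hF : Coh.IsCoh F) (htF : TorSh.IsTorsionFree F)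
    (x : X) (U : X.Opens) (hxU : x ∈ U)
    (hU : ∀ y : X, y ∈ U → IsField (X.presheaf.stalk y) → x ∈ closure ({y} : Set X)) :
    Function.Injective (F.presheaf.germ U x hxU) := by
  haveI : IsLocallyNoetherian X :=
    LocallyOfFiniteType.isLocallyNoetherian (X ↘ Spec (CommRingCat.of k))
  haveI : F.IsQuasicoherent := hF.1
  intro s t hst
  have h0 : F.presheaf.germ U x hxU (s - t) = 0 := by
    rw [map_sub, sub_eq_zero]; exact hst
  exact sub_eq_zero.1 (section_eq_zero F htF x U hxU hU (s - t) h0)

end Groth.Agent.S18922
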