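import Groth.Statements.S18925
import Groth.Agent.Lib.Seat93ResCountE

set_option autoImplicit false
universe u
open ResHyp

namespace Groth.Agent.S18925

/-- Let F be a finite field with q elements and let n ≥ 2. Count the pairs (f, g) where f is a binary
quadratic form and g a binary form of degree n over F, recorded by their coefficient vectors of
lengths 3 and n + 1 (leading coefficients may vanish), whose resultant — the Sylvester determinant
of the two coefficient vectors with size parameters 2 and n — is nonzero, i.e. f and g have no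
common zero on the projective line. The number of such pairs is q ^ (n + 4) - q ^ (n + 3) - q ^ (n +
2) + q ^ (n + 1). (The source's result is the compactly supported ℓ-adic cohomology of this locus:
one-dimensional of Tate weights n + 4, n + 3, n + 2, n + 1 in degrees 2n + 8, 2n + 7, 2n + 5, 2n + 4
and zero elsewhere; this row keeps only the resulting point count.) -/
theorem result (F : Type u) [Field F] [Fintype F] (n : ℕ) (h2 : 2 ≤ n) :
    Nat.card {p : (Fin 3 → F) × (Fin (n + 1) → F) //
      Polynomial.resultant (∑ i : Fin 3, Polynomial.C (p.1 i) * Polynomial.X ^ (i : ℕ))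
        (∑ j : Fin (n + 1), Polynomial.C (p.2 j) * Polynomial.X ^ (j : ℕ)) 2 n ≠ 0} =
      Fintype.card F ^ (n + 4) - Fintype.card F ^ (n + 3) - Fintype.card F ^ (n + 2) + Fintype.card F ^ (n + 1) := by
  have key := Groth.Agent.Lib.Seat93.ResCountE.card_res_ne_zero (F := F) n h2
  have hq : Nat.card F = Fintype.card F := Nat.card_eq_fintype_card
  have hT : Nat.card {p : (Fin 3 → F) × (Fin (n + 1) → F) //
      Polynomial.resultant (∑ i : Fin 3, Polynomial.C (p.1 i) * Polynomial.X ^ (i : ℕ))
        (∑ j : Fin (n + 1), Polynomial.C (p.2 j) * Polynomial.X ^ (j : ℕ)) 2 n ≠ 0} =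
      Nat.card F ^ (n + 1) * (Nat.card F - 1) ^ 2 * (Nat.card F + 1) := key
  rw [hT, hq]
  obtain ⟨s, hs⟩ : ∃ s, Fintype.card F = s + 2 :=
    ⟨Fintype.card F - 2, by have := Fintype.one_lt_card (α := F); omega⟩
  rw [hs]
  simp only [show s + 2 - 1 = s + 1 by omega]
  generalize hP : (s + 2) ^ (n + 1) = P
  have e1 : (s + 2) ^ (n + 4) = P * (s + 2) ^ 3 := by rw [← hP]; ring
  have e2 : (s + 2) ^ (n + 3) = P * (s + 2) ^ 2 := by rw [← hP]; ring
  have e3 : (s + 2) ^ (n + 2) = P * (s + 2) := by rw [← hP]; ring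
  rw [e1, e2, e3]
  have h1 : P * (s + 1) ^ 2 * (s + 2 + 1) + P * (s + 2) ^ 2 + P * (s + 2) = P * (s + 2) ^ 3 + P := by
    ring
  have h2 : P ≤ P * (s + 1) ^ 2 * (s + 2 + 1) := by
    have : 1 ≤ (s + 1) ^ 2 * (s + 2 + 1) := Nat.one_le_iff_ne_zero.mpr (by positivity)
    calc P = P * 1 := (mul_one P).symm
      _ ≤ P * ((s + 1) ^ 2 * (s + 2 + 1)) := Nat.mul_le_mul_left P this
      _ = P * (s + 1) ^ 2 * (s + 2 + 1) := by ring
  omega

end Groth.Agent.S18925
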