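import Groth.Statements.S18927
import Mathlib

set_option autoImplicit false
universe u v
open W4c6secantcecovers

namespace Groth.Agent.S18927

section aux
open TensorProduct
variable (R : Type u) [CommRing R] (r : ℕ)

theorem ιMulti_eq_zero_of_lt {n : ℕ} (hn : r < n) (v : Fin n → (Fin r → R)) :
    ExteriorAlgebra.ιMulti R n v = 0 := by
  have h0 : ExteriorAlgebra.ιMulti R n (M := Fin r → R) = 0 := by
    apply Module.Basis.ext_alternating (Pi.basisFun R (Fin r))
    intro w hw
    exfalso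
    have := Fintype.card_le_of_injective w hw
    simp only [Fintype.card_fin] at this
    omega
  rw [h0]; rfl

theorem contr_mul (j : Fin r) : ∀ (n : ℕ) (e : Fin n → (Fin r → R)) (η : SSLam R r),
    ssContr R r j (ExteriorAlgebra.ιMulti R n e * η) =
      ssContr R r j (ExteriorAlgebra.ιMulti R n e) * η +
        (-1 : R) ^ n • (ExteriorAlgebra.ιMulti R n e * ssContr R r j η)
  | 0, e, η => by
    simp [ssContr]
  | n + 1, e, η => by
    have ih := contr_mul j n (Matrix.vecTail e) η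
    rw [ExteriorAlgebra.ιMulti_succ_apply, mul_assoc]
    unfold ssContr at ih ⊢
    rw [ExteriorAlgebra.ι, CliffordAlgebra.contractLeft_ι_mul, CliffordAlgebra.contractLeft_ι_mul,
      ih]
    simp only [mul_add, sub_mul, smul_mul_assoc, mul_smul_comm, mul_assoc, pow_succ, mul_neg,
      mul_one, neg_smul]
    abel

end aux

open TensorProduct in
/-- Let R be a commutative ring, E = R^r the free module with its coordinate basis, S = R[X_1, …, X_r]
(the symmetric algebra of E), and N an R-module carrying R-linear operators φ_j (the action of the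
j-th basis vector of E) and an R-bilinear form β with β(φ_j n, m) = β(n, φ_j m) for every j. On (ΛE
⊗ S) ⊗ N — all terms Λ^k(S ⊗ E) ⊗ N of the Scheja–Storch complex at once — let δ be the differential
sending (e_1 ∧ ⋯ ∧ e_k) ⊗ s ⊗ n to Σ_i (-1)^(i-1) (e_1 ∧ ⋯ ê_i ⋯ ∧ e_k) ⊗ x(e_i) s ⊗ n + Σ_i (-1)^i
(e_1 ∧ ⋯ ê_i ⋯ ∧ e_k) ⊗ s ⊗ e_i · n, and pair a term u = ω ⊗ s ⊗ n of degree k with v = η ⊗ t ⊗ m by
⟨u, v⟩_k = (-1)^(k choose 2) β(n, m) · (ω ∧ η) ⊗ s t. Then the differential is adjoint to itself for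
this pairing in complementary degrees: for u = (e_0 ∧ ⋯ ∧ e_k) ⊗ s ⊗ n of degree k + 1 ≤ r and v =
(f_1 ∧ ⋯ ∧ f_(r-k)) ⊗ t ⊗ m of degree r - k, ⟨δ u, v⟩_k = ⟨u, δ v⟩_(k+1). (The source takes E
finitely generated projective and N a module over the ambient algebra with a pairing satisfying ⟨f,
g h⟩ = ⟨g f, h⟩; the proof runs on a basis, which is the form stated here, with the action of E
recorded by the operators φ_j.) -/
theorem result
    (R : Type u) [CommRing R] (r : ℕ) (N : Type v) [AddCommGroup N] [Module R N]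
    (φ : Fin r → (N →ₗ[R] N)) (β : N →ₗ[R] N →ₗ[R] R)
    (hβ : ∀ (j : Fin r) (n m : N), β (φ j n) m = β n (φ j m))
    (k : ℕ) (hk : k < r)
    (e : Fin (k + 1) → (Fin r → R)) (f : Fin (r - k) → (Fin r → R))
    (s t : MvPolynomial (Fin r) R) (n m : N) :
    W4c6secantcecovers.ssPair R r N β k
        (W4c6secantcecovers.ssDelta R r N φ ((ExteriorAlgebra.ιMulti R (k + 1) e ⊗ₜ[R] s) ⊗ₜ[R] n))
        ((ExteriorAlgebra.ιMulti R (r - k) f ⊗ₜ[R] t) ⊗ₜ[R] m) =
      W4c6secantcecovers.ssPair R r N β (k + 1)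
        ((ExteriorAlgebra.ιMulti R (k + 1) e ⊗ₜ[R] s) ⊗ₜ[R] n)
        (W4c6secantcecovers.ssDelta R r N φ ((ExteriorAlgebra.ιMulti R (r - k) f ⊗ₜ[R] t) ⊗ₜ[R] m)) := by
  set ω := ExteriorAlgebra.ιMulti R (k + 1) e with hω
  set η := ExteriorAlgebra.ιMulti R (r - k) f with hη
  -- the key relation between contractions
  have hzero : ω * η = 0 := by
    rw [hω, hη, ExteriorAlgebra.ιMulti_mul_ιMulti]
    exact ιMulti_eq_zero_of_lt R r (by omega) _
  have hkey : ∀ j : Fin r, ssContr R r j ω * η = (-1 : R) ^ k • (ω * ssContr R r j η) := by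
    intro j
    have h1 := contr_mul R r j (k + 1) e η
    rw [← hω, hzero, map_zero] at h1
    have h2 : ssContr R r j ω * η = -((-1 : R) ^ (k + 1) • (ω * ssContr R r j η)) :=
      eq_neg_of_add_eq_zero_left h1.symm
    rw [h2, pow_succ, mul_neg_one, neg_smul, neg_neg]
  -- pairing on pure tensors
  have hpair : ∀ (d : ℕ) (a b : SSB R r) (x y : N),
      ssPair R r N β d (a ⊗ₜ[R] x) (b ⊗ₜ[R] y) = ((-1 : R) ^ (d.choose 2)) • (β x y • (a * b)) := by
    intro d a b x y
    simp [ssPair, ssPairAux]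
  have hdelta : ∀ (a : SSLam R r) (p : MvPolynomial (Fin r) R) (x : N),
      ssDelta R r N φ ((a ⊗ₜ[R] p) ⊗ₜ[R] x) =
        ∑ j : Fin r, (((ssContr R r j a) ⊗ₜ[R] (MvPolynomial.X j * p)) ⊗ₜ[R] x +
          (-1 : R) • (((ssContr R r j a) ⊗ₜ[R] p) ⊗ₜ[R] (φ j x))) := by
    intro a p x
    simp [ssDelta, ssDKoszul, ssDAct]
  rw [hdelta, hdelta, map_sum, LinearMap.sum_apply, map_sum]
  have hchoose : ((-1 : R) ^ ((k + 1).choose 2)) = (-1 : R) ^ (k.choose 2) * (-1 : R) ^ k := by
    rw [← pow_add]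
    congr 1
    rw [Nat.choose_succ_succ' k 1, Nat.choose_one_right, add_comm]
  apply Finset.sum_congr rfl
  intro j _
  simp only [map_add, LinearMap.add_apply, map_smul, LinearMap.smul_apply, hpair,
    Algebra.TensorProduct.tmul_mul_tmul, hkey j, hβ j, hchoose]
  simp only [smul_tmul', smul_smul, TensorProduct.smul_tmul']
  have hX : MvPolynomial.X j * s * t = s * (MvPolynomial.X j * t) := by ring
  rw [hX]
  congr 1 <;> (congr 1; ring_nf)

end Groth.Agent.S18927
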