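import Groth.Statements.S18937
import Mathlib
import Groth.Agent.Lib.Seat7RegImmLocal
import Groth.Agent.Lib.Seat99RegAway

set_option autoImplicit false
universe u
open CategoryTheory AlgebraicGeometry
open RegImm

namespace Groth.Agent.S18937

/-- Let A be a Noetherian commutative ring, n a natural number, I an ideal of the polynomial ring A[X_1,
…, X_n] and B = A[X_1, …, X_n]/I, and assume that the closed immersion Spec B → Spec A[X_1, …, X_n]
is a regular immersion (kind: successive non-zero-divisors). Then Spec B is covered by basic opens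
D(g) with B[1/g] isomorphic, as an A-algebra, to a quotient A[X_0, …, X_n]/(P_1, …, P_d) of the
polynomial ring in one more variable by a regular sequence P_1, …, P_d. -/
theorem result
    (A : Type u) [CommRing A] [IsNoetherianRing A] (n : ℕ) (I : Ideal (MvPolynomial (Fin n) A))
    (h : RegImm.IsRegularImmersion RegImm.Kind.regular
      (Spec.map (CommRingCat.ofHom (Ideal.Quotient.mk I))))
    (q : PrimeSpectrum (MvPolynomial (Fin n) A ⧸ I)) :
    ∃ g : MvPolynomial (Fin n) A ⧸ I, g ∉ q.asIdeal ∧
      ∃ (d : ℕ) (P : Fin d → MvPolynomial (Fin (n + 1)) A),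
        RingTheory.Sequence.IsRegular (MvPolynomial (Fin (n + 1)) A) (List.ofFn P) ∧
        Nonempty (Localization.Away g ≃ₐ[A] (MvPolynomial (Fin (n + 1)) A ⧸ Ideal.ofList (List.ofFn P))) := by
  classical
  have hcl : IsClosedImmersion (Spec.map (CommRingCat.ofHom (Ideal.Quotient.mk I))) :=
    IsClosedImmersion.spec_of_surjective _ Ideal.Quotient.mk_surjective
  have hcl' : IsClosedImmersion (Spec.map (CommRingCat.ofHom (Ideal.Quotient.mk I)) ∣_ ⊤) :=
    IsZariskiLocalAtTarget.restrict hcl ⊤
  have hLocK := Groth.Agent.Lib.Seat7.RegImmLocal.locK_ker_of_regImm .regular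
    (Spec.map (CommRingCat.ofHom (Ideal.Quotient.mk I))) h.2 ⊤ (isAffineOpen_top _) hcl'
  -- the identifications of global sections
  let eP : Γ(Spec (CommRingCat.of (MvPolynomial (Fin n) A)), ⊤) ≃+* MvPolynomial (Fin n) A :=
    (Scheme.ΓSpecIso (CommRingCat.of (MvPolynomial (Fin n) A))).commRingCatIsoToRingEquiv
  let eB : Γ(Spec (CommRingCat.of (MvPolynomial (Fin n) A ⧸ I)), ⊤) ≃+*
      (MvPolynomial (Fin n) A ⧸ I) :=
    (Scheme.ΓSpecIso (CommRingCat.of (MvPolynomial (Fin n) A ⧸ I))).commRingCatIsoToRingEquiv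
  have hnat : ∀ x, eB ((Spec.map (CommRingCat.ofHom (Ideal.Quotient.mk I))).appTop.hom x) =
      Ideal.Quotient.mk I (eP x) := by
    intro x
    have := congrArg (fun k => k.hom x)
      (Scheme.ΓSpecIso_naturality (CommRingCat.ofHom (Ideal.Quotient.mk I)))
    exact this
  have hker : RingHom.ker ((Spec.map (CommRingCat.ofHom (Ideal.Quotient.mk I))).app ⊤).hom =
      I.comap eP.toRingHom := by
    ext x
    rw [RingHom.mem_ker, Ideal.mem_comap, ← Ideal.Quotient.eq_zero_iff_mem]
    have h1 := hnat x
    constructor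
    · intro h0
      have h2 : (Spec.map (CommRingCat.ofHom (Ideal.Quotient.mk I))).appTop.hom x = 0 := h0
      have h3 : Ideal.Quotient.mk I (eP x) = 0 := by rw [← h1, h2, map_zero]
      exact h3
    · intro h0
      have h2 : eB ((Spec.map (CommRingCat.ofHom (Ideal.Quotient.mk I))).appTop.hom x) = 0 := by
        rw [h1]
        exact h0
      exact (map_eq_zero_iff eB eB.injective).1 h2
  -- the prime
  have hI𝔭 : I ≤ q.asIdeal.comap (Ideal.Quotient.mk I) := by
    intro x hx
    rw [Ideal.mem_comap, Ideal.Quotient.eq_zero_iff_mem.2 hx]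
    exact Ideal.zero_mem _
  have h𝔭' : RingHom.ker ((Spec.map (CommRingCat.ofHom (Ideal.Quotient.mk I))).app ⊤).hom ≤
      (⟨(q.asIdeal.comap (Ideal.Quotient.mk I)).comap eP.toRingHom,
        inferInstance⟩ : PrimeSpectrum _).asIdeal := by
    rw [hker]
    exact Ideal.comap_mono hI𝔭
  obtain ⟨g', hg', l', hl', hspan'⟩ := hLocK _ h𝔭'
  have hf : eP g' ∉ q.asIdeal.comap (Ideal.Quotient.mk I) := hg'
  -- transport along `eP`
  let ε : Localization.Away g' ≃+* Localization.Away (eP g') :=
    IsLocalization.ringEquivOfRingEquiv (M := Submonoid.powers g')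
      (T := Submonoid.powers (eP g')) (Localization.Away g') (Localization.Away (eP g')) eP
      (by rw [Submonoid.map_powers]; rfl)
  have hε : ∀ x, ε (algebraMap _ (Localization.Away g') x) =
      algebraMap _ (Localization.Away (eP g')) (eP x) := fun x =>
    IsLocalization.ringEquivOfRingEquiv_eq _ _
  have hl : RingTheory.Sequence.IsWeaklyRegular (Localization.Away (eP g')) (l'.map ε) := by
    have hl'' : RingTheory.Sequence.IsRegular (Localization.Away g') l' := hl'
    refine (AddEquiv.isWeaklyRegular_congr (e := ε.toAddEquiv) ?_).1 hl''.toIsWeaklyRegular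
    rw [List.forall₂_map_right_iff]
    exact List.forall₂_same.mpr fun r _ x => map_mul ε r x
  have hspan : I.map (algebraMap (MvPolynomial (Fin n) A) (Localization.Away (eP g'))) =
      Ideal.ofList (l'.map ε) := by
    have h1 : I = (RingHom.ker ((Spec.map (CommRingCat.ofHom (Ideal.Quotient.mk I))).app ⊤).hom).map
        eP.toRingHom := by
      rw [hker, Ideal.map_comap_of_surjective eP.toRingHom eP.surjective]
    have h2 : (algebraMap (MvPolynomial (Fin n) A) (Localization.Away (eP g'))).comp
        eP.toRingHom =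
        (ε : _ →+* _).comp (algebraMap _ (Localization.Away g')) := by
      ext x
      exact (hε x).symm
    conv_lhs => rw [h1]
    rw [Ideal.map_map, h2, ← Ideal.map_map, hspan', Ideal.map_ofList]
    rfl
  have hne : I.map (algebraMap (MvPolynomial (Fin n) A) (Localization.Away (eP g'))) ≠ ⊤ :=
    Groth.Agent.Lib.Seat7.LocK.map_away_ne_top I _ hI𝔭 (eP g') hf _
  obtain ⟨d, Pf, hreg, hiso⟩ :=
    Groth.Agent.Lib.Seat99.RegAway.exists_regular_presentation n I (eP g') (l'.map ε) hl hspan hne
  exact ⟨Ideal.Quotient.mk I (eP g'), hf, d, Pf, hreg, hiso⟩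

end Groth.Agent.S18937
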