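import Groth.Statements.S18938
import Groth.Agent.Lib.Seat62SyntLift
import Groth.Agent.Lib.Seat62SyntRegSeq
import Groth.Agent.Lib.Seat62SyntNhdE
import Groth.Agent.Lib.Seat56RelGCI3

set_option autoImplicit false
universe u
open Synt

namespace Groth.Agent.S18938

/-- Let A be a Noetherian commutative ring and B a syntomic A-algebra. Then Spec B is covered by basic
opens D(g) with B[1/g] isomorphic, as an A-algebra, to A[T_1, …, T_n]/(P_1, …, P_d) for a regular
sequence P_1, …, P_d (successive non-zero-divisors with nonzero last quotient) in the polynomial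
ring A[T_1, …, T_n]. (The source states this for a syntomic scheme over Spec A, syntomic meaning
flat, locally of finite presentation and locally a Koszul-regular immersion into a smooth scheme;
here syntomic is the ring-map notion with local complete intersection fibres, which agrees with it.) -/
theorem result
    (A : Type u) [CommRing A] [IsNoetherianRing A] (B : Type u) [CommRing B] [Algebra A B]
    (h : Synt.IsSyntomic A B) (q : PrimeSpectrum B) :
    ∃ g : B, g ∉ q.asIdeal ∧
      ∃ (n d : ℕ) (P : Fin d → MvPolynomial (Fin n) A),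
        RingTheory.Sequence.IsRegular (MvPolynomial (Fin n) A) (List.ofFn P) ∧
        Nonempty (Localization.Away g ≃ₐ[A] (MvPolynomial (Fin n) A ⧸ Ideal.ofList (List.ofFn P))) := by
  classical
  have hqp : q.asIdeal.IsPrime := q.2
  obtain ⟨g, hg, n, c, F, hrel, ⟨e⟩⟩ :=
    Groth.Agent.Lib.Seat62.SyntLift.exists_relGCI_nhd_of_isSyntomic A B h q.asIdeal
  -- the prime of the polynomial ring
  have hqg := Groth.Agent.Lib.Seat42.CISpread.isPrime_map_away g q.asIdeal hg
  have hq₀ : ((q.asIdeal.map (algebraMap B (Localization.Away g))).comap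
      (e.symm : Synt.RelGCIRing A n c F →+* Localization.Away g)).IsPrime := inferInstance
  have hq' : (((q.asIdeal.map (algebraMap B (Localization.Away g))).comap
      (e.symm : Synt.RelGCIRing A n c F →+* Localization.Away g)).comap
      (Ideal.Quotient.mk (Ideal.span (Set.range F)))).IsPrime := inferInstance
  have hFq' : Ideal.span (Set.range F) ≤
      ((q.asIdeal.map (algebraMap B (Localization.Away g))).comap
      (e.symm : Synt.RelGCIRing A n c F →+* Localization.Away g)).comap
      (Ideal.Quotient.mk (Ideal.span (Set.range F))) := by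
    intro x hx
    rw [Ideal.mem_comap, Ideal.Quotient.eq_zero_iff_mem.mpr hx]
    exact Ideal.zero_mem _
  obtain ⟨hreg, -⟩ := Groth.Agent.Lib.Seat56.RelGCI.isRegular_and_flat_of_isRelGCI hrel _ hFq'
  obtain ⟨h₀, hh₀, hcolon⟩ := Groth.Agent.Lib.Seat62.SyntRegSeq.exists_colon_killer A n c F _
    hreg.toIsWeaklyRegular
  have hg' : e.symm (Ideal.Quotient.mk (Ideal.span (Set.range F)) h₀) ∉
      q.asIdeal.map (algebraMap B (Localization.Away g)) := hh₀
  obtain ⟨g'', hg'', ⟨e'⟩⟩ := Groth.Agent.Lib.Seat62.SyntNhdE.exists_away_equiv A B g q.asIdeal hg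
    _ hg'
  -- `(B_g)_{g'} ≃ (S₀)_{[h₀]}`
  let e₁ : Localization.Away (e.symm (Ideal.Quotient.mk (Ideal.span (Set.range F)) h₀)) ≃ₐ[A]
      Localization.Away (Groth.Agent.Lib.Seat62.RelGCIAway.gOf A n c F h₀) :=
    IsLocalization.algEquivOfAlgEquiv
      (M := Submonoid.powers (e.symm (Ideal.Quotient.mk (Ideal.span (Set.range F)) h₀)))
      (T := Submonoid.powers (Groth.Agent.Lib.Seat62.RelGCIAway.gOf A n c F h₀)) _ _ e (by
        rw [Submonoid.map_powers]
        congr 1
        exact e.apply_symm_apply _)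
  let e₂ := Groth.Agent.Lib.Seat62.RelGCIAway.awayEquiv A n c F h₀
  let e₃ : Synt.RelGCIRing A (n + 1) (c + 1) (Groth.Agent.Lib.Seat62.RelGCIAway.extRel A n c F h₀)
      ≃ₐ[A] (MvPolynomial (Fin (n + 1)) A ⧸
        Ideal.ofList (List.ofFn (Groth.Agent.Lib.Seat62.SyntRegSeq.seqP A n c F h₀))) :=
    Ideal.quotientEquivAlgOfEq A (Groth.Agent.Lib.Seat62.SyntRegSeq.ofList_seqP A n c F h₀).symm
  refine ⟨g'', hg'', n + 1, c + 1, Groth.Agent.Lib.Seat62.SyntRegSeq.seqP A n c F h₀,
    ⟨Groth.Agent.Lib.Seat62.SyntRegSeq.isWeaklyRegular_seqP A n c F h₀ hcolon, ?_⟩,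
    ⟨((e'.trans e₁).trans e₂).trans e₃⟩⟩
  -- the quotient is nonzero
  intro htop
  rw [smul_eq_mul, Ideal.mul_top] at htop
  have hsub : Subsingleton (MvPolynomial (Fin (n + 1)) A ⧸
      Ideal.ofList (List.ofFn (Groth.Agent.Lib.Seat62.SyntRegSeq.seqP A n c F h₀))) :=
    Ideal.Quotient.subsingleton_iff.mpr htop.symm
  have hsub' : Subsingleton (Localization.Away g'') :=
    (((e'.trans e₁).trans e₂).trans e₃).toEquiv.subsingleton
  rw [IsLocalization.subsingleton_iff (M := Submonoid.powers g'')] at hsub'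
  obtain ⟨m, hm⟩ := hsub'
  have hm' : g'' ^ m = 0 := hm
  exact hg'' (hqp.mem_of_pow_mem m (by rw [hm']; exact q.asIdeal.zero_mem))

end Groth.Agent.S18938
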