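import Groth.Statements.S18944
import Groth.Agent.Lib.Helper5RegImm
import Mathlib.RingTheory.Regular.Flat

set_option autoImplicit false
universe u
open CategoryTheory AlgebraicGeometry
open RegImm

namespace Groth.Agent.S18944


section aux
open RingTheory.Sequence TopologicalSpace

/-- surjectivity of `i.app V` when the restriction of `i` over `U` is a closed immersion (`V = U`). -/
theorem app_surjective_of_restrict {Z X : Scheme.{u}} (i : Z ⟶ X) (U : X.Opens)
    (hU : IsAffineOpen U) [IsClosedImmersion (i ∣_ U)] (V : X.Opens) (hV : V = U.ι ''ᵁ ⊤) :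
    Function.Surjective (i.app V).hom := by
  subst hV
  haveI : IsAffine (↑U : Scheme.{u}) := hU
  have h1 : Function.Surjective ((i ∣_ U).app ⊤).hom :=
    (i ∣_ U).app_surjective ⊤ (isAffineOpen_top _)
  rw [morphismRestrict_app] at h1
  intro b
  obtain ⟨a, ha⟩ := h1 ((Z.presheaf.map (eqToHom (image_morphismRestrict_preimage i U ⊤)).op).hom b)
  refine ⟨a, ?_⟩
  have hinj : Function.Injective
      (Z.presheaf.map (eqToHom (image_morphismRestrict_preimage i U ⊤)).op).hom :=
    (ConcreteCategory.bijective_of_isIso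
      (Z.presheaf.map (eqToHom (image_morphismRestrict_preimage i U ⊤)).op)).1
  apply hinj
  rw [← ha]
  rfl

theorem isAffineOpen_preimage_of_restrict {Z X : Scheme.{u}} (i : Z ⟶ X) (U : X.Opens)
    (hU : IsAffineOpen U) [IsClosedImmersion (i ∣_ U)] : IsAffineOpen (i ⁻¹ᵁ U) := by
  haveI : IsAffine (↑U : Scheme.{u}) := hU
  exact isAffine_of_isAffineHom (i ∣_ U)

theorem ker_stalkMap_eq_map_ker' {Z X : Scheme.{u}} (i : Z ⟶ X) (z : Z)
    (U : X.Opens) (hU : IsAffineOpen U) (hz : i z ∈ U) [IsClosedImmersion (i ∣_ U)] :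
    RingHom.ker (i.stalkMap z).hom =
      (RingHom.ker (i.app U).hom).map (X.presheaf.germ U (i z) hz).hom := by
  have hU' : IsAffineOpen (i ⁻¹ᵁ U) := isAffineOpen_preimage_of_restrict i U hU
  have hsq : ∀ a, (Z.presheaf.germ (i ⁻¹ᵁ U) z hz).hom ((i.app U).hom a)
      = (i.stalkMap z).hom ((X.presheaf.germ U (i z) hz).hom a) := fun a =>
    (i.germ_stalkMap_apply U z hz a).symm
  exact Groth.Agent.Lib.Helper5.StalkSpec.ker_eq_map_of_isLocalization
    (X.presheaf.germ U (i z) hz).hom (Z.presheaf.germ (i ⁻¹ᵁ U) z hz).hom (i.app U).hom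
    (i.stalkMap z).hom hsq
    (app_surjective_of_restrict i U hU U (Scheme.Opens.ι_image_top U).symm) _
    (hU.isLocalization_stalk ⟨i z, hz⟩) _ (hU'.isLocalization_stalk ⟨z, hz⟩)

end aux

/-- Let i : Z → X be a regular immersion of schemes (kind: successive non-zero-divisors). Then for every
point z of Z the kernel of the induced map of local rings O_{X, i(z)} → O_{Z, z} is generated by a
regular sequence of O_{X, i(z)}. (No Noetherian hypothesis; over a locally Noetherian X the converse
also holds.) -/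
theorem result {Z X : Scheme.{u}} (i : Z ⟶ X)
    (h : RegImm.IsRegularImmersion RegImm.Kind.regular i) (z : Z) :
    ∃ rs : List (X.presheaf.stalk (i z)),
      RingTheory.Sequence.IsRegular (X.presheaf.stalk (i z)) rs ∧
        RingHom.ker (i.stalkMap z).hom = Ideal.ofList rs := by
  obtain ⟨U, hzU, hcl, rs, hreg, hker⟩ := h.2 z
  haveI := hcl
  have hU : IsAffineOpen U.1 := U.2
  have hreg' : RingTheory.Sequence.IsRegular Γ(X, U.1) rs := hreg
  letI := (X.presheaf.germ U.1 (i z) hzU).hom.toAlgebra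
  haveI : IsLocalization.AtPrime (X.presheaf.stalk (i z)) (hU.primeIdealOf ⟨i z, hzU⟩).asIdeal :=
    hU.isLocalization_stalk ⟨i z, hzU⟩
  haveI : Module.Flat Γ(X, U.1) (X.presheaf.stalk (i z)) :=
    IsLocalization.flat _ (hU.primeIdealOf ⟨i z, hzU⟩).asIdeal.primeCompl
  have hw : RingTheory.Sequence.IsWeaklyRegular (X.presheaf.stalk (i z))
      (rs.map (X.presheaf.germ U.1 (i z) hzU).hom) := hreg'.toIsWeaklyRegular.of_flat
  have hk : RingHom.ker (i.stalkMap z).hom
      = Ideal.ofList (rs.map (X.presheaf.germ U.1 (i z) hzU).hom) := by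
    rw [ker_stalkMap_eq_map_ker' i z U.1 hU hzU, hker, Ideal.map_ofList]
  refine ⟨_, ⟨hw, ?_⟩, hk⟩
  rw [smul_eq_mul, Ideal.mul_top, ← hk]
  exact (RingHom.ker_ne_top _).symm

end Groth.Agent.S18944
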