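import Groth.Statements.S18958
import Groth.Agent.Lib.Seat89OpenImm

set_option autoImplicit false
universe u
open CategoryTheory MonoidalCategory CartesianMonoidalCategory MonObj AlgebraicGeometry Opposite
open Magnet

namespace Groth.Agent.S18958

/-- Let k be a field, G a group k-scheme and M a monoid k-scheme with a homomorphism of monoids i : G →
M and a zero o : Spec k → M (m·o = o = o·m for every point m of M). Assume that for every k-scheme T
whose underlying scheme is the spectrum of a field K, every open subset of M ×_k T which is stable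
under G acting by left multiplication through i on the first factor and which contains the zero
section T → M ×_k T is the whole of M ×_k T. Let X be a k-scheme with an action aX of G and j : U →
X an open immersion, G-equivariant for an action aU of G on U (an open G-stable subscheme). For a
G-scheme W write D_W for the functor on k-schemes whose value at Y is the set of k-morphisms M ×_k Y
→ W that are G-equivariant for G acting on M ×_k Y by left multiplication through i on the first
factor. Then the square of presheaves formed by D_U → D_X (composition with j), the restrictions D_U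
→ U and D_X → X to the zero section of M, and j is cartesian. (In the source M is a Kempf monoid
with G its group of units, and the restriction to the zero section is viewed as the retraction of
D_X onto the fixed points X^G; the displayed property of the open G-stable subsets of M over field
extensions is what the argument uses about M, and the square over X^G is cartesian exactly when the
one over X is, U^G being X^G ×_X U.) -/
theorem result (k : Type u) [Field k]
    (M G X U : Over (Spec (CommRingCat.of k))) [MonObj M] [GrpObj G] (i : G ⟶ M) [IsMonHom i]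
    (o : 𝟙_ (Over (Spec (CommRingCat.of k))) ⟶ M)
    (ho : ∀ (T : Over (Spec (CommRingCat.of k))) (m : T ⟶ M), m * (toUnit T ≫ o) = toUnit T ≫ o ∧ (toUnit T ≫ o) * m = toUnit T ≫ o)
    (hM : ∀ (T : Over (Spec (CommRingCat.of k))) (K : Type u) [Field K] (eT : T.left ≅ Spec (CommRingCat.of K))
      (W : (M ⊗ T).left.Opens),
      (CartesianMonoidalCategory.snd G (M ⊗ T)).left ⁻¹ᵁ W ≤
          ((((Magnet.MonAct.regular M).restrict i).prod (Magnet.MonAct.trivial G T)).act).left ⁻¹ᵁ W →
      (CartesianMonoidalCategory.lift (toUnit T ≫ o) (𝟙 T)).left ⁻¹ᵁ W = ⊤ → W = ⊤)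
    (aX : AlgGrp.Action G X) (aU : AlgGrp.Action G U) (j : U ⟶ X) [IsOpenImmersion j.left]
    (hj : Magnet.MonAct.IsEquivariant (Magnet.MonAct.ofAction aU) (Magnet.MonAct.ofAction aX) j) :
    IsPullback
      (Magnet.MonAct.eqvHom.postcomp ((Magnet.MonAct.regular M).restrict i) j hj)
      (Magnet.MonAct.eqvHom.evalAt ((Magnet.MonAct.regular M).restrict i) (Magnet.MonAct.ofAction aU) o)
      (Magnet.MonAct.eqvHom.evalAt ((Magnet.MonAct.regular M).restrict i) (Magnet.MonAct.ofAction aX) o)
      (yoneda.map j) := by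
  classical
  have hmonoj : Mono j := Over.mono_of_mono_left j
  have hjeq := (Magnet.MonAct.isEquivariant_iff (Magnet.MonAct.ofAction aU) (Magnet.MonAct.ofAction aX) j).1 hj
  -- stability of `U` under the action
  have hact : ∀ {V : Over (Spec (CommRingCat.of k))} (g : V ⟶ G) (y : V ⟶ X),
      Groth.Agent.Lib.Seat89.OpenImm.LandsIn j y →
        Groth.Agent.Lib.Seat89.OpenImm.LandsIn j (lift g y ≫ (Magnet.MonAct.ofAction aX).act) := by
    intro V g y h
    obtain ⟨x, rfl⟩ := (Groth.Agent.Lib.Seat89.OpenImm.landsIn_iff j y).1 h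
    refine (Groth.Agent.Lib.Seat89.OpenImm.landsIn_iff j _).2 ⟨lift g x ≫ (Magnet.MonAct.ofAction aU).act, ?_⟩
    rw [Category.assoc]
    exact hjeq V g x
  -- key: an equivariant map whose zero section lands in `U` lands in `U`
  have key : ∀ (Y : Over (Spec (CommRingCat.of k)))
      (ψ : (Magnet.MonAct.eqvHom ((Magnet.MonAct.regular M).restrict i) (Magnet.MonAct.ofAction aX)).obj (op Y)),
      Groth.Agent.Lib.Seat89.OpenImm.LandsIn j (lift (toUnit Y ≫ o) (𝟙 Y) ≫ ψ.1) →
        Groth.Agent.Lib.Seat89.OpenImm.LandsIn j ψ.1 := by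
    intro Y ψ h0
    apply Groth.Agent.Lib.Seat89.OpenImm.landsIn_of_forall
    intro p
    obtain ⟨P, hP⟩ : ∃ P : Over (Spec (CommRingCat.of k)), P = Groth.Agent.Lib.Seat89.OpenImm.ptOver (M ⊗ Y) p :=
      ⟨_, rfl⟩
    obtain ⟨π, hπ⟩ : ∃ π : P ⟶ M ⊗ Y, ∀ z, π.left z = p := by
      subst hP
      exact ⟨Groth.Agent.Lib.Seat89.OpenImm.ptOverι _ p, Groth.Agent.Lib.Seat89.OpenImm.ptOverι_apply _ p⟩
    have hne : Nonempty P.left := by subst hP; infer_instance
    obtain ⟨K, instK, ⟨eT⟩⟩ : ∃ (K : Type u) (_ : Field K), Nonempty (P.left ≅ Spec (CommRingCat.of K)) := by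
      subst hP
      exact ⟨(M ⊗ Y).left.residueField p, inferInstance, ⟨Iso.refl _⟩⟩
    clear hP
    obtain ⟨z₀⟩ := hne
    refine ⟨P, π, ⟨z₀, hπ z₀⟩, ?_⟩
    obtain ⟨m, hm⟩ : ∃ m : P ⟶ M, m = π ≫ fst _ _ := ⟨_, rfl⟩
    obtain ⟨y', hy'⟩ : ∃ y' : P ⟶ Y, y' = π ≫ snd _ _ := ⟨_, rfl⟩
    obtain ⟨ψT, hψT⟩ : ∃ ψT : M ⊗ P ⟶ X, ψT = (M ◁ y') ≫ ψ.1 := ⟨_, rfl⟩
    have hψTe : Magnet.MonAct.IsEquivariant
        (((Magnet.MonAct.regular M).restrict i).prod (Magnet.MonAct.trivial G P)) (Magnet.MonAct.ofAction aX) ψT := by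
      rw [hψT]
      exact ((Magnet.MonAct.eqvHom ((Magnet.MonAct.regular M).restrict i) (Magnet.MonAct.ofAction aX)).map y'.op ψ).2
    obtain ⟨W, hW⟩ : ∃ W : (M ⊗ P).left.Opens, W = ψT.left ⁻¹ᵁ j.left.opensRange := ⟨_, rfl⟩
    have hmemW : ∀ q : (M ⊗ P).left, q ∈ W ↔ ψT.left q ∈ Set.range j.left := by
      intro q; rw [hW]; rfl
    have hWtop : W = ⊤ := by
      refine hM P K eT W ?_ ?_
      · intro q hq
        change (((Magnet.MonAct.regular M).restrict i).prod (Magnet.MonAct.trivial G P)).act.left q ∈ W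
        have hq' : (CartesianMonoidalCategory.snd G (M ⊗ P)).left q ∈ W := hq
        rw [hmemW] at hq' ⊢
        obtain ⟨Q, hQ⟩ : ∃ Q : Over (Spec (CommRingCat.of k)),
            Q = Groth.Agent.Lib.Seat89.OpenImm.ptOver (G ⊗ (M ⊗ P)) q := ⟨_, rfl⟩
        obtain ⟨θ, hθ⟩ : ∃ θ : Q ⟶ G ⊗ (M ⊗ P), ∀ z, θ.left z = q := by
          subst hQ
          exact ⟨Groth.Agent.Lib.Seat89.OpenImm.ptOverι _ q, Groth.Agent.Lib.Seat89.OpenImm.ptOverι_apply _ q⟩
        have hneQ : Nonempty Q.left := by subst hQ; infer_instance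
        clear hQ
        obtain ⟨z⟩ := hneQ
        have h1 : Groth.Agent.Lib.Seat89.OpenImm.LandsIn j ((θ ≫ snd _ _) ≫ ψT) := by
          rintro _ ⟨z', rfl⟩
          have : ((θ ≫ snd _ _) ≫ ψT).left z' = ψT.left ((CartesianMonoidalCategory.snd G (M ⊗ P)).left (θ.left z')) := by
            rw [Over.comp_left, Over.comp_left]; rfl
          rw [this, hθ z']
          exact hq'
        have h2 := hact (θ ≫ fst _ _) _ h1
        have h3 : lift (θ ≫ fst _ _) ((θ ≫ snd _ _) ≫ ψT) ≫ (Magnet.MonAct.ofAction aX).act =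
            θ ≫ (((Magnet.MonAct.regular M).restrict i).prod (Magnet.MonAct.trivial G P)).act ≫ ψT := by
          have := (Magnet.MonAct.isEquivariant_iff _ _ ψT).1 hψTe Q (θ ≫ fst _ _) (θ ≫ snd _ _)
          rw [← this, lift_comp_fst_snd]
        rw [h3] at h2
        have h4 := h2 ⟨z, rfl⟩
        have h5 : (θ ≫ (((Magnet.MonAct.regular M).restrict i).prod (Magnet.MonAct.trivial G P)).act ≫ ψT).left z =
            ψT.left ((((Magnet.MonAct.regular M).restrict i).prod (Magnet.MonAct.trivial G P)).act.left (θ.left z)) := by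
          rw [Over.comp_left, Over.comp_left]; rfl
        rw [h5, hθ z] at h4
        exact h4
      · ext z
        simp only [TopologicalSpace.Opens.coe_top, Set.mem_univ, iff_true]
        change (lift (toUnit P ≫ o) (𝟙 P)).left z ∈ W
        rw [hmemW]
        have h1 : Groth.Agent.Lib.Seat89.OpenImm.LandsIn j (lift (toUnit P ≫ o) (𝟙 P) ≫ ψT) := by
          have : lift (toUnit P ≫ o) (𝟙 P) ≫ ψT = y' ≫ lift (toUnit Y ≫ o) (𝟙 Y) ≫ ψ.1 := by
            rw [hψT, lift_whiskerLeft_assoc, comp_lift_assoc, Category.id_comp, Category.comp_id, ← Category.assoc,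
              toUnit_unique (y' ≫ toUnit Y) (toUnit P)]
          rw [this]
          exact h0.precomp j y'
        have h2 := h1 ⟨z, rfl⟩
        rw [Over.comp_left] at h2
        exact h2
    have hπψ : π ≫ ψ.1 = lift m (𝟙 P) ≫ ψT := by
      rw [hψT, lift_whiskerLeft_assoc, Category.id_comp, hm, hy', lift_comp_fst_snd]
    rw [hπψ]
    rintro _ ⟨z, rfl⟩
    have hz : (lift m (𝟙 P)).left z ∈ W := by rw [hWtop]; trivial
    rw [hmemW] at hz
    rw [Over.comp_left]
    exact hz
  apply IsPullback.of_forall_isPullback_app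
  intro Y
  rw [CategoryTheory.Limits.Types.isPullback_iff]
  refine ⟨?_, ?_, ?_⟩
  · ext ψ
    change lift (toUnit (unop Y) ≫ o) (𝟙 (unop Y)) ≫ ψ.1 ≫ j = (lift (toUnit (unop Y) ≫ o) (𝟙 (unop Y)) ≫ ψ.1) ≫ j
    rw [Category.assoc]
  · rintro ψ₁ ψ₂ ⟨h1, -⟩
    apply Subtype.ext
    have : ψ₁.1 ≫ j = ψ₂.1 ≫ j := congrArg Subtype.val h1
    exact (cancel_mono j).1 this
  · intro ψ u hu
    have hu' : lift (toUnit (unop Y) ≫ o) (𝟙 (unop Y)) ≫ ψ.1 = u ≫ j := hu
    have hl : Groth.Agent.Lib.Seat89.OpenImm.LandsIn j ψ.1 := by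
      apply key (unop Y) ψ
      rw [hu']
      exact (Groth.Agent.Lib.Seat89.OpenImm.landsIn_iff j _).2 ⟨u, rfl⟩
    obtain ⟨x, hx⟩ := (Groth.Agent.Lib.Seat89.OpenImm.landsIn_iff j _).1 hl
    have hxe : Magnet.MonAct.IsEquivariant
        (((Magnet.MonAct.regular M).restrict i).prod (Magnet.MonAct.trivial G (unop Y))) (Magnet.MonAct.ofAction aU) x := by
      have h := ψ.2
      rw [← hx] at h
      unfold Magnet.MonAct.IsEquivariant at h hj ⊢
      rw [← cancel_mono j, Category.assoc, Category.assoc, hj, h, MonoidalCategory.whiskerLeft_comp, Category.assoc]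
    refine ⟨⟨x, hxe⟩, ?_, ?_⟩
    · apply Subtype.ext
      exact hx
    · change lift (toUnit (unop Y) ≫ o) (𝟙 (unop Y)) ≫ x = u
      rw [← cancel_mono j, Category.assoc, hx, hu']

end Groth.Agent.S18958
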