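import Groth.Statements.S1897
import Groth.Agent.Lib.Seat32PullSheaf

set_option autoImplicit false
universe u
open CategoryTheory AlgebraicGeometry
open Cyc

namespace Groth.Agent.S1897

/-- Let f : X → Y be flat, locally of finite type, of relative dimension r, and F a coherent O_Y-module
whose support has δ-dimension ≤ k. Then the support of f^*F has δ-dimension ≤ k + r and f^*[F]_k =
[f^*F]_{k+r} (coefficientwise). A pair (X, δ) with Cyc.IsSetup plays the role of a scheme locally of
finite type over a fixed base with a dimension function (X locally Noetherian with universally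
catenary local rings, δ a dimension function), and Cyc.DeltaCompat records that the dimension
function upstairs is the induced one. -/
theorem result (X Y : Scheme.{u}) (δX : X → ℤ) (δY : Y → ℤ) (hX : Cyc.IsSetup X δX) (hY : Cyc.IsSetup Y δY) (f : X ⟶ Y) [Flat f] [LocallyOfFiniteType f] (r : ℕ) (hr : Cyc.HasRelDim f r) (hδ : Cyc.DeltaCompat f δX δY) (k : ℤ) (F : Y.Modules) (hF : Coh.IsCoh F) (hdim : ∀ y : Y, Nontrivial (F.presheaf.stalk y) → δY y ≤ k) : (∀ x : X, Nontrivial (((Scheme.Modules.pullback f).obj F).presheaf.stalk x) → δX x ≤ k + r) ∧ Cyc.pullFun f δX δY r (Cyc.sheafFun δY k F) = Cyc.sheafFun δX (k + r) ((Scheme.Modules.pullback f).obj F) := by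
  classical
  have hle := Groth.Agent.Lib.Seat32.PullSheaf.delta_le f r hr δX δY hδ
  have hpart1 : ∀ x : X, Nontrivial (((Scheme.Modules.pullback f).obj F).presheaf.stalk x) →
      δX x ≤ k + r := by
    intro x hx
    have h1 := Groth.Agent.Lib.Seat32.PullSheaf.nontrivial_of_nontrivial_stalk_pullback f F x hx
    have h2 := hdim (f x) h1
    have h3 := hle x
    linarith
  refine ⟨hpart1, ?_⟩
  funext x
  have hlen := Groth.Agent.Lib.Seat32.PullSheaf.length_stalk_pullback f F x
  simp only [Cyc.pullFun, Cyc.sheafFun]
  by_cases hx : δX x = k + (r : ℤ)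
  · rw [if_pos hx]
    by_cases hy : δY (f x) = k
    · rw [if_pos (by rw [hx, hy]), if_pos hy, hlen, ENat.toNat_mul, Nat.cast_mul]
    · rw [if_neg (fun h => hy (by linarith))]
      have hsub : Subsingleton (F.presheaf.stalk (f x)) := by
        by_contra hn
        rw [not_subsingleton_iff_nontrivial] at hn
        have h2 := hdim (f x) hn
        have h3 := hle x
        exact hy (by linarith)
      rw [hlen]
      have : Module.length (Y.presheaf.stalk (f x)) (F.presheaf.stalk (f x)) = 0 :=
        Module.length_eq_zero
      rw [this, zero_mul]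
      rfl
  · rw [if_neg hx]
    by_cases hy : δX x = δY (f x) + (r : ℤ)
    · rw [if_pos hy, if_neg (fun h => hx (by linarith)), zero_mul]
    · rw [if_neg hy]

end Groth.Agent.S1897
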