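import Groth.Statements.S18976
import Groth.Agent.S18975
import Groth.Agent.S1133
import Groth.Agent.Lib.Helper12Torsor
import Groth.Agent.Lib.Helper12QuotSh
import Groth.Agent.Lib.Seat51AssocBundle

set_option autoImplicit false
universe u
open CategoryTheory MonoidalCategory CartesianMonoidalCategory MonObj AlgebraicGeometry
open GIT

namespace Groth.Agent.S18976

/-- The associated fibre bundle exists. Over an algebraically closed field k of characteristic zero, let
G be an affine group scheme of finite type over k acting on a k-scheme X, let φ : X → Y be a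
G-torsor over Y (the square formed by the action, the second projection and φ twice is cartesian,
and φ acquires sections on the members of some fpqc covering family of Y), and let G act on an
affine k-scheme F. Give X ×_k F the diagonal action. Then there are a k-scheme Q with a morphism to
Y and a morphism q : X ×_k F → Q compatible with the projection to Y such that q is a G-torsor over
Q in the same sense; moreover q is affine and a geometric quotient. (The source writes the torsor
with a right action and lets g act on X × F by (x g⁻¹, g f); with the left action g x := x g⁻¹ this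
is the diagonal action used here. The last assertion of the source, on the case where F is a larger
affine group containing G, is not part of this row.) -/
theorem result
    (k : Type u) [Field k] [IsAlgClosed k] [CharZero k]
    (G X Y F : Over (Spec (CommRingCat.of k))) [GrpObj G] [IsAffine G.left] [LocallyOfFiniteType G.hom]
    (a : AlgGrp.Action G X) (φ : X ⟶ Y)
    (hcart : IsPullback a.act (snd G X) φ φ)
    (hloc : NonAbH1.IsLocallyTrivialFor Scheme.fpqcPrecoverage (Over.mk φ.left : Over Y.left))
    [IsAffine F.left] (b : AlgGrp.Action G F) :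
    ∃ (Q : Over (Spec (CommRingCat.of k))) (q : X ⊗ F ⟶ Q) (r : Q ⟶ Y),
      q ≫ r = fst X F ≫ φ ∧
      IsPullback (a.prod b).act (snd G (X ⊗ F)) q q ∧
      NonAbH1.IsLocallyTrivialFor Scheme.fpqcPrecoverage (Over.mk q.left : Over Q.left) ∧
      IsAffineHom q.left ∧ GIT.IsGeomQuot (a.prod b) q := by
  obtain ⟨haff, hgq⟩ := Groth.Agent.S18975.result k G X Y a φ hcart hloc
  have hflatG : Flat G.hom := inferInstance
  have hflat : Flat φ.left := Groth.Agent.Lib.Seat51.AssocBundle.flat_of_cart a φ hcart hloc
  have hsurj : Surjective φ.left := ⟨hgq.surj⟩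
  have hqc : QuasiCompact φ.left := inferInstance
  have haffF : IsAffineHom F.hom := inferInstance
  have haffD : IsAffineHom (Groth.Agent.Lib.Seat51.AssocBundle.dd a b φ hcart).obj.hom :=
    Groth.Agent.Lib.Seat51.AssocBundle.isAffineHom_dd a b φ hcart
  obtain ⟨U, ⟨e⟩⟩ := Groth.Agent.S1133.result φ.left
    (Groth.Agent.Lib.Seat51.AssocBundle.dd a b φ hcart)
  have hq1 := Groth.Agent.Lib.Seat51.AssocBundle.isPullback_qmap a b φ hcart U e
  have hq2 := Groth.Agent.Lib.Seat51.AssocBundle.isLocallyTrivialFor_qmap a b φ hcart U e hloc
  obtain ⟨hq3, hq4⟩ := Groth.Agent.S18975.result k G (X ⊗ F) (Over.mk (U.hom ≫ Y.hom)) (a.prod b)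
    (Groth.Agent.Lib.Seat51.AssocBundle.qmap a b φ hcart U e) hq1 hq2
  exact ⟨Over.mk (U.hom ≫ Y.hom), Groth.Agent.Lib.Seat51.AssocBundle.qmap a b φ hcart U e,
    Over.homMk U.hom rfl, Groth.Agent.Lib.Seat51.AssocBundle.qmap_rmap a b φ hcart U e,
    hq1, hq2, hq3, hq4⟩

end Groth.Agent.S18976
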