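import Groth.Statements.S18981
import Groth.Agent.Lib.Seat51GoodQuot

set_option autoImplicit false
universe u
open CategoryTheory MonoidalCategory CartesianMonoidalCategory MonObj AlgebraicGeometry Topology
open NRQuot

namespace Groth.Agent.S18981

/-- Over an algebraically closed field k of characteristic zero, let G be an affine group scheme of
finite type over k acting on a k-scheme X locally of finite type, and let φ : X → Y be a good
quotient (affine and invariant, functions on every open of Y are exactly the invariant functions on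
its preimage, invariant closed subsets have closed images, images commute with intersections of
families of invariant closed subsets). If the orbit of every k-point of X is closed in X, then φ is
a geometric quotient; this row states the one clause that a good quotient lacks: fibres are orbits,
read on k-points — two k-points of X with the same image in Y are translates of each other by a
k-point of G. (Surjectivity and submersiveness of a good quotient are the content of the companion
statement on good quotients; X locally of finite type is what the argument on closed points uses.) -/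
theorem result
    (k : Type u) [Field k] [IsAlgClosed k] [CharZero k]
    (G X Y : Over (Spec (CommRingCat.of k))) [GrpObj G] [IsAffine G.left] [LocallyOfFiniteType G.hom]
    [LocallyOfFiniteType X.hom]
    (a : AlgGrp.Action G X) (φ : X ⟶ Y) (h : NRQuot.IsGoodQuot a φ)
    (hcl : ∀ x : 𝟙_ (Over (Spec (CommRingCat.of k))) ⟶ X, IsClosed (Set.range (a.orbitMap x).left.base))
    (x₁ x₂ : 𝟙_ (Over (Spec (CommRingCat.of k))) ⟶ X) (hφ : x₁ ≫ φ = x₂ ≫ φ) :
    ∃ g : 𝟙_ (Over (Spec (CommRingCat.of k))) ⟶ G, lift g x₁ ≫ a.act = x₂ := by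
  obtain ⟨t⟩ : Nonempty ↥(𝟙_ (Over (Spec (CommRingCat.of k)))).left :=
    inferInstanceAs (Nonempty (PrimeSpectrum k))
  have hi₁ := Groth.Agent.Lib.Seat51.GoodQuot.isInvariantSet_range_orbitMap a x₁
  have hi₂ := Groth.Agent.Lib.Seat51.GoodQuot.isInvariantSet_range_orbitMap a x₂
  have hy₁ : (x₁ ≫ φ).left.base t ∈ φ.left.base '' Set.range (a.orbitMap x₁).left.base :=
    ⟨x₁.left.base t, Groth.Agent.Lib.Seat51.GoodQuot.mem_range_orbitMap a x₁ t, rfl⟩
  have hy₂ : (x₁ ≫ φ).left.base t ∈ φ.left.base '' Set.range (a.orbitMap x₂).left.base := by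
    rw [hφ]
    exact ⟨x₂.left.base t, Groth.Agent.Lib.Seat51.GoodQuot.mem_range_orbitMap a x₂ t, rfl⟩
  obtain ⟨w, hw⟩ := Groth.Agent.Lib.Seat51.GoodQuot.inter_nonempty_of_image_inter_nonempty h _ _
    (hcl x₁) (hcl x₂) hi₁ hi₂ _ hy₁ hy₂
  obtain ⟨z, hz⟩ := Groth.Agent.Lib.Seat51.GoodQuot.exists_point_mem _ ((hcl x₁).inter (hcl x₂)) ⟨w, hw⟩
  obtain ⟨g₁, hg₁⟩ := Groth.Agent.Lib.Seat51.GoodQuot.exists_act_eq_of_mem_range a x₁ z ⟨t, (hz t).1⟩
  obtain ⟨g₂, hg₂⟩ := Groth.Agent.Lib.Seat51.GoodQuot.exists_act_eq_of_mem_range a x₂ z ⟨t, (hz t).2⟩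
  refine ⟨g₂⁻¹ * g₁, ?_⟩
  rw [AlgGrp.Action.lift_mul_act, hg₁, ← hg₂, ← AlgGrp.Action.lift_mul_act, inv_mul_cancel,
    AlgGrp.Action.lift_one_act]

end Groth.Agent.S18981
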