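import Groth.Statements.S19022
import Groth.Agent.Lib.Helper10FinTriv

set_option autoImplicit false
universe u
open CategoryTheory AlgebraicGeometry
open PicF

namespace Groth.Agent.S19022

/-- Let X be a scheme, L an invertible O_X-module and T a finite set of closed points of X that lies in
some affine open of X. Then T lies in an affine open U of X on which L is trivial (L restricted to U
is isomorphic to the structure sheaf). (The source states this for a smooth quasi-projective complex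
surface, where every finite set of points lies in an affine open, and phrases it as: X^n and the
symmetric product S^n X are covered by the opens U^n and S^n U with U affine and L trivial on U; the
printed argument uses only that the finitely many points lie in one affine open, which is taken as
the hypothesis here.) -/
theorem result
    (X : Scheme.{u}) (L : X.Modules) (hL : PicF.IsInvertible L)
    (T : Finset X) (hT : ∀ x ∈ T, IsClosed ({x} : Set X))
    (hU : ∃ U : X.Opens, IsAffineOpen U ∧ ∀ x ∈ T, x ∈ U) :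
    ∃ U : X.Opens, IsAffineOpen U ∧ (∀ x ∈ T, x ∈ U) ∧
      Nonempty (L.restrict U.ι ≅ Coh.structureModule (↑U : Scheme.{u})) := by
  classical
  obtain ⟨V, hV, hTV⟩ := hU
  -- a section generating the stalks at the points of `T`
  let S : Set ↥V := {z | z.1 ∈ T}
  have hS : S.Finite := by
    refine Set.Finite.of_injOn (f := fun z : ↥V => z.1) (t := (T : Set X)) ?_ ?_ T.finite_toSet
    · intro z hz; exact hz
    · intro z _ z' _ hzz'; exact Subtype.ext hzz'
  obtain ⟨m, hm⟩ := Groth.Agent.Lib.Helper20.WeakAss.exists_section_isGen L hL hV S hS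
  have hG : IsOpen {x : X | ∃ hx : x ∈ V,
      Groth.Agent.Lib.Helper20.RegMero.IsGen L x (L.presheaf.germ V x hx m)} :=
    Groth.Agent.Lib.Helper10.FinTriv.isOpen_setOf_isGen L hL m
  let G' : X.Opens := ⟨_, hG⟩
  let φ := hV.fromSpec
  let Z : Set (PrimeSpectrum Γ(X, V)) := {q | φ (show ↥(Spec Γ(X, V)) from q) ∉ G'}
  have hZ : IsClosed Z := by
    have : IsOpen ((φ ⁻¹ᵁ G' : (Spec Γ(X, V)).Opens) : Set ↥(Spec Γ(X, V))) := (φ ⁻¹ᵁ G').isOpen
    exact this.isClosed_compl
  let I : Ideal Γ(X, V) := PrimeSpectrum.vanishingIdeal Z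
  let p : ∀ t : {t // t ∈ T}, PrimeSpectrum Γ(X, V) := fun t => hV.primeIdealOf ⟨t.1, hTV t.1 t.2⟩
  have hφp : ∀ t : {t // t ∈ T}, φ (show ↥(Spec Γ(X, V)) from p t) = t.1 :=
    fun t => hV.fromSpec_primeIdealOf ⟨t.1, hTV t.1 t.2⟩
  have hpO : ∀ t : {t // t ∈ T}, p t ∉ Z := by
    intro t ht
    apply ht
    show φ (show ↥(Spec Γ(X, V)) from p t) ∈ G'
    rw [hφp t]
    exact ⟨hTV t.1 t.2, hm ⟨t.1, hTV t.1 t.2⟩ t.2⟩
  have hIp : ∀ t : {t // t ∈ T}, ¬ I ≤ (p t).asIdeal := by
    intro t hle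
    have h1 : p t ∈ PrimeSpectrum.zeroLocus (I : Set Γ(X, V)) := hle
    rw [PrimeSpectrum.zeroLocus_vanishingIdeal_eq_closure, hZ.closure_eq] at h1
    exact hpO t h1
  -- prime avoidance
  obtain ⟨f, hfI, hfp⟩ : ∃ f ∈ I, ∀ t : {t // t ∈ T}, f ∉ (p t).asIdeal := by
    by_contra hcon
    push Not at hcon
    have hsub : ((I : Set Γ(X, V)) ⊆ ⋃ t ∈ ((Finset.univ : Finset {t // t ∈ T}) : Set {t // t ∈ T}),
        ((p t).asIdeal : Set Γ(X, V))) := by
      intro f hf
      obtain ⟨t, ht⟩ := hcon f hf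
      exact Set.mem_biUnion (Finset.mem_coe.2 (Finset.mem_univ t)) ht
    by_cases hne : Nonempty {t // t ∈ T}
    · obtain ⟨t₀⟩ := hne
      obtain ⟨t, -, hle⟩ := (Ideal.subset_union_prime (s := (Finset.univ : Finset {t // t ∈ T}))
        (f := fun t => (p t).asIdeal) t₀ t₀ (fun t _ _ _ => (p t).isPrime)).1 hsub
      exact hIp t hle
    · obtain ⟨t, -⟩ := hcon 0 I.zero_mem
      exact hne ⟨t⟩
  have hpre : φ ⁻¹ᵁ X.basicOpen f = PrimeSpectrum.basicOpen f := hV.fromSpec_preimage_basicOpen f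
  have hUG : X.basicOpen f ≤ G' := by
    intro x hx
    have hxV : x ∈ V := X.basicOpen_le f hx
    set q := hV.primeIdealOf ⟨x, hxV⟩ with hq
    have hφq : φ (show ↥(Spec Γ(X, V)) from q) = x := hV.fromSpec_primeIdealOf ⟨x, hxV⟩
    have hqf : q ∈ PrimeSpectrum.basicOpen f := by
      rw [← hpre]
      show φ (show ↥(Spec Γ(X, V)) from q) ∈ X.basicOpen f
      rw [hφq]; exact hx
    by_contra hxG
    have hqZ : q ∈ Z := by
      show φ (show ↥(Spec Γ(X, V)) from q) ∉ G'
      rw [hφq]; exact hxG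
    exact hqf ((PrimeSpectrum.mem_vanishingIdeal _ _).1 hfI q hqZ)
  refine ⟨X.basicOpen f, hV.basicOpen f, ?_, ?_⟩
  · intro x hx
    have h1 : p ⟨x, hx⟩ ∈ PrimeSpectrum.basicOpen f := hfp ⟨x, hx⟩
    rw [← hpre] at h1
    have h2 : φ (show ↥(Spec Γ(X, V)) from p ⟨x, hx⟩) ∈ X.basicOpen f := h1
    rwa [hφp ⟨x, hx⟩] at h2
  · have hUV : X.basicOpen f ≤ V := X.basicOpen_le f
    refine Groth.Agent.Lib.Helper20.Triv.nonempty_iso_of_bijective L _
      (L.presheaf.map (homOfLE hUV).op m) ?_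
    apply Groth.Agent.Lib.Helper10.FinTriv.bijective_of_isGen
    intro x hx
    rw [TopCat.Presheaf.germ_res_apply]
    exact (hUG hx).2

end Groth.Agent.S19022
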