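import Groth.Statements.S19036
import Groth.Agent.Lib.Seat43RZCenter

set_option autoImplicit false
universe u
open Instab

namespace Groth.Agent.S19036

open CategoryTheory AlgebraicGeometry in
/-- Let f : X → Y be a morphism of schemes which is locally of finite presentation, and for which the
valuative criterion holds (every valuative square over a valuation ring has exactly one lift). When
X has only finitely many irreducible components, the morphism f is quasi-compact. (The source states
this for algebraic spaces and adds that f is then proper; universal closedness follows from
quasi-compactness and the existence part by the standard criterion, and separatedness from the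
uniqueness part once f is quasi-separated. Only the scheme case and the quasi-compactness conclusion
are stated here.) -/
theorem result
    {X Y : Scheme.{u}} (f : X ⟶ Y) [LocallyOfFinitePresentation f]
    (hf : ValuativeCriterion f) (hX : (irreducibleComponents ↥X).Finite) :
    QuasiCompact f := by
  rw [quasiCompact_iff_forall_isAffineOpen]
  intro V hV
  have hcover : (f ⁻¹ᵁ V : Set X) =
      ⋃ Z ∈ irreducibleComponents ↥X, (Z ∩ (f ⁻¹ᵁ V : Set X)) := by
    ext x
    simp only [Set.mem_iUnion, Set.mem_inter_iff, exists_prop]
    constructor
    · intro hx
      obtain ⟨Z, hZ, hxZ⟩ := exists_mem_irreducibleComponents_subset_of_isIrreducible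
        ({x} : Set X) isIrreducible_singleton
      exact ⟨Z, hZ, hxZ rfl, hx⟩
    · rintro ⟨Z, -, -, hx⟩
      exact hx
  rw [hcover]
  refine hX.isCompact_biUnion fun Z hZ => ?_
  have hZirr : IsIrreducible Z := hZ.1
  have hZcl : IsClosed Z := isClosed_of_mem_irreducibleComponents Z hZ
  have hgen : IsGenericPoint hZirr.genericPoint (closure Z) := hZirr.isGenericPoint_genericPoint_closure
  have hξ : closure ({hZirr.genericPoint} : Set X) = Z := by
    rw [hgen.def, hZcl.closure_eq]
  rw [← hξ]
  by_cases hξV : f hZirr.genericPoint ∈ V
  · exact Groth.Agent.Lib.Seat43.RZCenter.isCompact_closure_inter hV _ hξV hf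
  · have hempty : closure ({hZirr.genericPoint} : Set X) ∩ (f ⁻¹ᵁ V : Set X) = ∅ := by
      ext x
      simp only [Set.mem_inter_iff, Set.mem_empty_iff_false, iff_false, not_and]
      intro hx hxV
      exact hξV ((specializes_iff_mem_closure.2 hx).mem_open (f ⁻¹ᵁ V).2 hxV)
    rw [hempty]
    exact isCompact_empty

end Groth.Agent.S19036
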