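import Groth.Statements.S19195
import Groth.Agent.Lib.Seat56FibReg2

set_option autoImplicit false
set_option linter.style.haveILetI false
universe u
open TensorProduct
open RelS1

namespace Groth.Agent.S19195

/-- Let A be a commutative ring, B a finitely presented A-algebra and M a finitely presented B-module
which is flat over A. Suppose that for every prime p of A, with residue field κ(p), the fibre module
(B ⊗_A κ(p)) ⊗_B M over the fibre ring B ⊗_A κ(p) satisfies Serre's condition (S_1) in the form:
each of its associated primes is a minimal prime of its annihilator. Let a be an element of B whose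
image a ⊗ 1 in every fibre ring B ⊗_A κ(p) lies in no minimal prime of the annihilator of the fibre
module. Then a is a non-zero-divisor on M. (Since all hypotheses are preserved by base change of A
and by passing to affine opens, this expresses that a flat finitely presented sheaf with (S_1)
fibres is pure relative to the base after every base change. The published statement is an
equivalence for sheaves on a locally finitely presented morphism, quantified over all base changes;
this row states its direct implication in affine form.) -/
theorem result (A B M : Type u) [CommRing A] [CommRing B] [Algebra A B]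
    [Algebra.FinitePresentation A B] [AddCommGroup M] [Module B M] [Module A M]
    [IsScalarTower A B M] [Module.FinitePresentation B M] [Module.Flat A M]
    (hS1 : ∀ (p : Ideal A) [p.IsPrime],
      associatedPrimes (B ⊗[A] p.ResidueField) ((B ⊗[A] p.ResidueField) ⊗[B] M) ⊆
        (Module.annihilator (B ⊗[A] p.ResidueField) ((B ⊗[A] p.ResidueField) ⊗[B] M)).minimalPrimes)
    (a : B)
    (ha : ∀ (p : Ideal A) [p.IsPrime],
      ∀ P ∈ (Module.annihilator (B ⊗[A] p.ResidueField) ((B ⊗[A] p.ResidueField) ⊗[B] M)).minimalPrimes,
        a ⊗ₜ[A] (1 : p.ResidueField) ∉ P) :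
    IsSMulRegular M a := by
  classical
  -- regularity on the fibre modules
  have hfib : ∀ (p : Ideal A) [p.IsPrime], IsSMulRegular (M ⊗[A] p.ResidueField) a := by
    intro p _
    haveI : IsNoetherianRing (p.ResidueField ⊗[A] B) :=
      Algebra.FiniteType.isNoetherianRing p.ResidueField (p.ResidueField ⊗[A] B)
    haveI : IsNoetherianRing (B ⊗[A] p.ResidueField) :=
      isNoetherianRing_of_ringEquiv _
        (Algebra.TensorProduct.comm A p.ResidueField B).toRingEquiv
    -- `a ⊗ 1` is regular on the fibre module
    have h1 : IsSMulRegular ((B ⊗[A] p.ResidueField) ⊗[B] M) (a ⊗ₜ[A] (1 : p.ResidueField)) := by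
      by_contra hnr
      have hset := biUnion_associatedPrimes_eq_compl_regular (B ⊗[A] p.ResidueField)
        ((B ⊗[A] p.ResidueField) ⊗[B] M)
      have hmem : (a ⊗ₜ[A] (1 : p.ResidueField)) ∈
          ⋃ P ∈ associatedPrimes (B ⊗[A] p.ResidueField) ((B ⊗[A] p.ResidueField) ⊗[B] M),
            (P : Set (B ⊗[A] p.ResidueField)) := by
        rw [hset]
        exact hnr
      simp only [Set.mem_iUnion] at hmem
      obtain ⟨P, hP, haP⟩ := hmem
      exact ha p P (hS1 p hP) haP
    -- hence `a` is regular for the `B`-module structure
    have h2 : IsSMulRegular ((B ⊗[A] p.ResidueField) ⊗[B] M) a := by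
      intro x y hxy
      apply h1
      change (a ⊗ₜ[A] (1 : p.ResidueField)) • x = (a ⊗ₜ[A] (1 : p.ResidueField)) • y
      have hc : ∀ z : (B ⊗[A] p.ResidueField) ⊗[B] M,
          (a ⊗ₜ[A] (1 : p.ResidueField)) • z = a • z := by
        intro z
        rw [← algebraMap_smul (B ⊗[A] p.ResidueField) a z, Algebra.TensorProduct.algebraMap_apply,
          Algebra.algebraMap_self, RingHom.id_apply]
      rw [hc, hc]
      exact hxy
    let E : (B ⊗[A] p.ResidueField) ⊗[B] M ≃ₗ[B] M ⊗[A] p.ResidueField :=
      (TensorProduct.comm B (B ⊗[A] p.ResidueField) M) ≪≫ₗ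
        (AlgebraTensorModule.cancelBaseChange A B B M p.ResidueField)
    exact (LinearEquiv.isSMulRegular_congr E a).mp h2
  -- local-global
  intro x y hxy
  have hxy' : a • x = a • y := hxy
  have hm : a • (x - y) = 0 := by rw [smul_sub, hxy', sub_self]
  by_contra hne
  have hne' : Ideal.torsionOf B M (x - y) ≠ ⊤ := by
    intro htop
    have : (1 : B) ∈ Ideal.torsionOf B M (x - y) := htop ▸ Submodule.mem_top
    rw [Ideal.mem_torsionOf_iff, one_smul, sub_eq_zero] at this
    exact hne this
  obtain ⟨q, hq, hle⟩ := Ideal.exists_le_maximal _ hne'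
  haveI : q.IsPrime := hq.isPrime
  have hreg := Groth.Agent.Lib.Seat56.FibReg.isSMulRegular_localizedModule_of_isSMulRegular_fibre M q
    (q.comap (algebraMap A B)) rfl a (hfib _)
  rw [Groth.Agent.Lib.Seat56.FibReg.isSMulRegular_isLocalizedModule_iff q.primeCompl
    (LocalizedModule.mkLinearMap q.primeCompl M) a] at hreg
  obtain ⟨s, hs, hsm⟩ := hreg (x - y) hm
  exact hs (hle ((Ideal.mem_torsionOf_iff _ _).mpr hsm))

end Groth.Agent.S19195
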