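import Groth.Statements.S1921
import Groth.Agent.Lib.Seat9C1Fn

set_option autoImplicit false
universe u
open CategoryTheory AlgebraicGeometry
open Cyc

namespace Groth.Agent.S1921

/-- Let L be an invertible O_X-module and α a (k + 1)-cycle on X rationally equivalent to zero. Then
c_1(L) ∩ α ∼_rat 0 as a k-cycle, whatever nonzero rational sections are used to compute it; that is,
c_1(L) ∩ − is defined on CH_{k+1}(X) → CH_k(X). Here L(ξ) = L_ξ/𝔪_ξ L_ξ is the space of rational
sections of L on the closure of ξ, div_{L|W}(s) and c_1(L) ∩ α are computed as coefficient functions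
from chosen nonzero rational sections (Cyc.secDivFun, Cyc.c1CapFun), and results are compared up to
rational equivalence for any cycles with those coefficients. A pair (X, δ) with Cyc.IsSetup plays
the role of a scheme locally of finite type over a fixed base with a dimension function (X locally
Noetherian with universally catenary local rings, δ a dimension function), and Cyc.DeltaCompat
records that the dimension function upstairs is the induced one. -/
theorem result (X : Scheme.{u}) (δ : X → ℤ) (hX : Cyc.IsSetup X δ) (L : X.Modules) (hL : PicF.IsInvertible L) (k : ℤ) (α : AlgebraicCycle X ℤ) (hα : α ∈ Cyc.Zk X δ (k + 1)) (h0 : Cyc.RatEquivZero δ (k + 1) α) (s : (ξ : X) → Cyc.secFibre L ξ) (hs : ∀ ξ, s ξ ≠ 0) (γ : AlgebraicCycle X ℤ) (hγ : ⇑γ = Cyc.c1CapFun δ L ⇑α s) : Cyc.RatEquivZero δ k γ := by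
  open Groth.Agent.Lib.Seat9.C1Dict Groth.Agent.Lib.Seat32.CycFin in
  classical
  haveI : IsLocallyNoetherian X := hX.1
  have hδ : IsDimFun X δ := hX.2.2
  obtain ⟨ι, ξ, f, hξ, hf0, hlf, hαf⟩ := h0
  choose g hg0 hgfin hg using fun i : ι => c1_fn_point hX (ξ i) L hL (f i) (hf0 i) s hs
  refine ratEquivZero_of_double_family k γ ξ (fun _ => (1 : ℤ)) ?_ g hg0 ?_ ?_
  · intro j _
    have := hξ j
    omega
  · intro V hV
    refine finite_pairs (fun j z => z ∈ V ∧ (1 : ℤ) ≠ 0 ∧ z ∈ Cod1 δ (ξ j) ∧ g j z ≠ 1)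
      {j | ξ j ∈ V} (finite_family_in_affine ξ hlf hV) ?_ ?_
    · rintro j z ⟨hzV, -, hz, -⟩
      exact hz.1.mem_open V.2 hzV
    · intro j _
      refine (hgfin j V hV).subset ?_
      rintro z ⟨hzV, -, hz, hne⟩
      exact ⟨hzV, hz, hne⟩
  · intro x
    obtain ⟨V, hV, hxV, -⟩ := exists_isAffineOpen_mem_and_subset (U := ⊤) (x := x) (by simp)
    rw [hγ]
    have e0 : (⇑α : X → ℤ) = fun z => ∑ᶠ i, (1 : ℤ) * divFun δ (ξ i) (f i) z := by
      funext z
      rw [hαf z]
      refine finsum_congr fun i => ?_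
      rw [one_mul]
    rw [e0]
    rw [c1CapFun_finsum L s (fun _ : ι => (1 : ℤ)) (fun i => divFun δ (ξ i) (f i)) x]
    · refine finsum_congr fun i => ?_
      rw [hg i x]
    · refine finite_pairs (fun j z => (1 : ℤ) ≠ 0 ∧ divFun δ (ξ j) (f j) z ≠ 0 ∧
        secDivFun δ L z (s z) x ≠ 0) {j | ξ j ∈ V} (finite_family_in_affine ξ hlf hV) ?_ ?_
      · rintro j z ⟨-, h1, h2⟩
        have hzV : z ∈ V := (secDivFun_ne_zero h2).1.mem_open V.2 hxV
        exact (DivData.divFun_ne_zero h1).1.mem_open V.2 hzV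
      · intro j _
        refine (finite_support_divFun_inter hδ (ξ j) (f j) (hf0 j) hV).subset ?_
        rintro z ⟨-, h1, h2⟩
        exact ⟨(secDivFun_ne_zero h2).1.mem_open V.2 hxV, h1⟩

end Groth.Agent.S1921
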