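import Groth.Statements.S1922
import Groth.Agent.Lib.Seat9C1Fin

set_option autoImplicit false
universe u
open CategoryTheory AlgebraicGeometry
open Cyc

namespace Groth.Agent.S1922

/-- Let L, N be invertible O_X-modules and α a (k + 2)-cycle on X. Then c_1(L) ∩ (c_1(N) ∩ α) ∼_rat
c_1(N) ∩ (c_1(L) ∩ α) as k-cycles, for any nonzero rational sections used in the computations. Here
L(ξ) = L_ξ/𝔪_ξ L_ξ is the space of rational sections of L on the closure of ξ, div_{L|W}(s) and
c_1(L) ∩ α are computed as coefficient functions from chosen nonzero rational sections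
(Cyc.secDivFun, Cyc.c1CapFun), and results are compared up to rational equivalence for any cycles
with those coefficients. A pair (X, δ) with Cyc.IsSetup plays the role of a scheme locally of finite
type over a fixed base with a dimension function (X locally Noetherian with universally catenary
local rings, δ a dimension function), and Cyc.DeltaCompat records that the dimension function
upstairs is the induced one. -/
theorem result (X : Scheme.{u}) (δ : X → ℤ) (hX : Cyc.IsSetup X δ) (L N : X.Modules) (hL : PicF.IsInvertible L) (hN : PicF.IsInvertible N) (k : ℤ) (α : AlgebraicCycle X ℤ) (hα : α ∈ Cyc.Zk X δ (k + 2)) (sL sL' : (ξ : X) → Cyc.secFibre L ξ) (sN sN' : (ξ : X) → Cyc.secFibre N ξ) (hsL : ∀ ξ, sL ξ ≠ 0) (hsL' : ∀ ξ, sL' ξ ≠ 0) (hsN : ∀ ξ, sN ξ ≠ 0) (hsN' : ∀ ξ, sN' ξ ≠ 0) (γ₁ γ₂ : AlgebraicCycle X ℤ) (h₁ : ⇑γ₁ = Cyc.c1CapFun δ L (Cyc.c1CapFun δ N ⇑α sN) sL) (h₂ : ⇑γ₂ = Cyc.c1CapFun δ N (Cyc.c1CapFun δ L ⇑α sL') sN') : Cyc.RatEquiv δ k γ₁ γ₂ := by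
  open Groth.Agent.Lib.Seat9.C1Dict in
  classical
  haveI : IsLocallyNoetherian X := hX.1
  have hδ : IsDimFun X δ := hX.2.2
  choose f hf0 hffin hf using fun j : X =>
    c1_comm_point hX j N L hN hL (sN j) (hsN j) (sL' j) (hsL' j) sL hsL sN' hsN'
  refine ratEquivZero_of_double_family k (γ₁ - γ₂) (fun j : X => j) (fun j => α j) ?_ f hf0 ?_ ?_
  · intro j hj
    by_contra hne
    exact hj (hα j hne)
  · intro V hV
    refine finite_pairs (fun j z => z ∈ V ∧ α j ≠ 0 ∧ z ∈ Cod1 δ j ∧ f j z ≠ 1)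
      {j | j ∈ V ∧ α j ≠ 0} (finite_cycle_support α hV) ?_ ?_
    · rintro j z ⟨hzV, hj, hz, -⟩
      exact ⟨hz.1.mem_open V.2 hzV, hj⟩
    · intro j _
      refine (hffin j V hV).subset ?_
      rintro z ⟨hzV, -, hz, hne⟩
      exact ⟨hzV, hz, hne⟩
  · intro x
    obtain ⟨V, hV, hxV, -⟩ := exists_isAffineOpen_mem_and_subset (U := ⊤) (x := x) (by simp)
    have hsub : (γ₁ - γ₂) x = γ₁ x - γ₂ x := rfl
    rw [hsub, h₁, h₂]
    -- expand the two iterated intersection products
    have key : ∀ (L' N' : X.Modules) (hN' : PicF.IsInvertible N')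
        (t : (ξ : X) → secFibre N' ξ) (ht : ∀ ξ, t ξ ≠ 0) (r : (ξ : X) → secFibre L' ξ),
        {p : X × X | α p.1 ≠ 0 ∧ secDivFun δ N' p.1 (t p.1) p.2 ≠ 0 ∧
          secDivFun δ L' p.2 (r p.2) x ≠ 0}.Finite := by
      intro L' N' hN' t ht r
      refine finite_pairs (fun j z => α j ≠ 0 ∧ secDivFun δ N' j (t j) z ≠ 0 ∧
        secDivFun δ L' z (r z) x ≠ 0) {j | j ∈ V ∧ α j ≠ 0} (finite_cycle_support α hV) ?_ ?_
      · rintro j z ⟨hj, h1, h2⟩
        have hzV : z ∈ V := (secDivFun_ne_zero h2).1.mem_open V.2 hxV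
        exact ⟨(secDivFun_ne_zero h1).1.mem_open V.2 hzV, hj⟩
      · intro j _
        refine (finite_secDivFun_support hδ hN' j (t j) (ht j) hV).subset ?_
        rintro z ⟨-, h1, h2⟩
        exact ⟨(secDivFun_ne_zero h2).1.mem_open V.2 hxV, h1⟩
    have e1 : c1CapFun δ L (c1CapFun δ N (⇑α) sN) sL x =
        ∑ᶠ j, α j * c1CapFun δ L (secDivFun δ N j (sN j)) sL x :=
      c1CapFun_finsum L sL (fun j => α j) (fun j => secDivFun δ N j (sN j)) x
        (key L N hN sN hsN sL)
    have e2 : c1CapFun δ N (c1CapFun δ L (⇑α) sL') sN' x =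
        ∑ᶠ j, α j * c1CapFun δ N (secDivFun δ L j (sL' j)) sN' x :=
      c1CapFun_finsum N sN' (fun j => α j) (fun j => secDivFun δ L j (sL' j)) x
        (key N L hL sL' hsL' sN')
    rw [e1, e2]
    have hsupp : ∀ (L' N' : X.Modules) (t : (ξ : X) → secFibre N' ξ)
        (r : (ξ : X) → secFibre L' ξ),
        (Function.support fun j => α j * c1CapFun δ L' (secDivFun δ N' j (t j)) r x).Finite := by
      intro L' N' t r
      refine (finite_cycle_support α hV).subset ?_
      intro j hj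
      have hj' : α j * c1CapFun δ L' (secDivFun δ N' j (t j)) r x ≠ 0 := hj
      refine ⟨?_, left_ne_zero_of_mul hj'⟩
      have h2 : c1CapFun δ L' (secDivFun δ N' j (t j)) r x ≠ 0 := right_ne_zero_of_mul hj'
      unfold c1CapFun at h2
      obtain ⟨z, hz⟩ : ∃ z, secDivFun δ N' j (t j) z * secDivFun δ L' z (r z) x ≠ 0 := by
        by_contra hno
        push Not at hno
        exact h2 (finsum_eq_zero_of_forall_eq_zero hno)
      have hzV : z ∈ V := (secDivFun_ne_zero (right_ne_zero_of_mul hz)).1.mem_open V.2 hxV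
      exact (secDivFun_ne_zero (left_ne_zero_of_mul hz)).1.mem_open V.2 hzV
    rw [← finsum_sub_distrib (hsupp L N sN sL) (hsupp N L sL' sN')]
    refine finsum_congr fun j => ?_
    rw [← mul_sub, hf j x]

end Groth.Agent.S1922
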