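import Groth.Statements.S19221
import Groth.Agent.Lib.Seat94ExtK4

set_option autoImplicit false
universe u
open SymRep

namespace Groth.Agent.S19221

/-- Let k be a field of characteristic zero and F the k-space of functions Fin 2 → Fin 4 → Fin 4 → k,
with the symmetric group of Fin 4 acting through P σ f c a b = f c (σ⁻¹ a) (σ⁻¹ b). The signed edge
vectors of the complete graph on four vertices live in F as the functions antisymmetric in the two
vertex arguments, and for a colour c and an oriented 3-cycle i → j → l → i the cycle vector z c i j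
l is the function equal, in colour c, to +1 at (i,j), (j,l), (l,i), to −1 at (j,i), (l,j), (i,l) and
to 0 elsewhere (and 0 in the other colour); these cycle vectors span k² ⊗ (cycle space), the
representation written C² ⊗ q in the published text. Let Γ be the graph with edges 01, 02, 03, 12,
23 (a 4-cycle with one chord), whose cycle space is spanned by the cycles (0,1,2) and (0,2,3), and
let ω be the product in the exterior algebra of F of the four vectors z 0 0 1 2, z 1 0 1 2, z 0 0 2
3, z 1 0 2 3 (a generator of the top exterior power of k² ⊗ q_Γ). Then ω is fixed by the stabiliser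
of Γ in the symmetric group (generated by the transpositions (0 2) and (1 3)), and the sum over all
24 permutations σ of the images of ω under the maps induced by P σ is nonzero: the projection of ω
to the invariants of the fourth exterior power of k² ⊗ q_{K₄} does not vanish. (The published
statement is over the complex numbers; a field of characteristic zero is used here. The published
statement also asserts that this map is an isomorphism onto the one-dimensional space of
S₄-invariants of the fourth exterior power of k² ⊗ q_{K₄}; only its non-vanishing is stated here.) -/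
theorem result (k : Type u) [Field k] [CharZero k]
    (P : Equiv.Perm (Fin 4) → ((Fin 2 → Fin 4 → Fin 4 → k) →ₗ[k] (Fin 2 → Fin 4 → Fin 4 → k)))
    (hP : ∀ (σ : Equiv.Perm (Fin 4)) (f : Fin 2 → Fin 4 → Fin 4 → k) (c : Fin 2) (a b : Fin 4),
      P σ f c a b = f c (σ.symm a) (σ.symm b))
    (z : Fin 2 → Fin 4 → Fin 4 → Fin 4 → (Fin 2 → Fin 4 → Fin 4 → k))
    (hz : ∀ (c : Fin 2) (i j l : Fin 4) (c' : Fin 2) (a b : Fin 4), z c i j l c' a b =
      if c' = c then
        ((if a = i ∧ b = j then 1 else 0) + (if a = j ∧ b = l then 1 else 0) + (if a = l ∧ b = i then 1 else 0)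
          - (if a = j ∧ b = i then 1 else 0) - (if a = l ∧ b = j then 1 else 0) - (if a = i ∧ b = l then 1 else 0))
      else 0)
    (ω : ExteriorAlgebra k (Fin 2 → Fin 4 → Fin 4 → k))
    (hω : ω = ExteriorAlgebra.ι k (z 0 0 1 2) * ExteriorAlgebra.ι k (z 1 0 1 2) *
      ExteriorAlgebra.ι k (z 0 0 2 3) * ExteriorAlgebra.ι k (z 1 0 2 3)) :
    ExteriorAlgebra.map (P (Equiv.swap 0 2)) ω = ω ∧
    ExteriorAlgebra.map (P (Equiv.swap 1 3)) ω = ω ∧
    (∑ σ : Equiv.Perm (Fin 4), ExteriorAlgebra.map (P σ) ω) ≠ 0 := by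
  classical
  -- formal identities for the cycle vectors
  have hneg : ∀ (c : Fin 2) (i j l : Fin 4), z c j i l = - z c i j l := by
    intro c i j l
    funext c' a b
    rw [Pi.neg_apply, Pi.neg_apply, Pi.neg_apply, hz, hz]
    by_cases h : c' = c
    · rw [if_pos h, if_pos h]; ring
    · rw [if_neg h, if_neg h]; ring
  have hrot : ∀ (c : Fin 2) (i j l : Fin 4), z c j l i = z c i j l := by
    intro c i j l
    funext c' a b
    rw [hz, hz]
    by_cases h : c' = c
    · rw [if_pos h, if_pos h]; ring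
    · rw [if_neg h, if_neg h]
  have hPz : ∀ (σ : Equiv.Perm (Fin 4)) (c : Fin 2) (i j l : Fin 4),
      P σ (z c i j l) = z c (σ i) (σ j) (σ l) := by
    intro σ c i j l
    funext c' a b
    rw [hP, hz, hz]
    simp only [Equiv.symm_apply_eq]
  have hmap : ∀ σ : Equiv.Perm (Fin 4), ExteriorAlgebra.map (P σ) ω =
      ExteriorAlgebra.ι k (z 0 (σ 0) (σ 1) (σ 2)) * ExteriorAlgebra.ι k (z 1 (σ 0) (σ 1) (σ 2)) *
      ExteriorAlgebra.ι k (z 0 (σ 0) (σ 2) (σ 3)) * ExteriorAlgebra.ι k (z 1 (σ 0) (σ 2) (σ 3)) := by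
    intro σ
    rw [hω]
    simp only [map_mul, ExteriorAlgebra.map_apply_ι, hPz]
  have hanti : ∀ a b : Fin 2 → Fin 4 → Fin 4 → k,
      ExteriorAlgebra.ι k a * ExteriorAlgebra.ι k b = - (ExteriorAlgebra.ι k b * ExteriorAlgebra.ι k a) := by
    intro a b
    exact eq_neg_of_add_eq_zero_left (ExteriorAlgebra.ι_add_mul_swap a b)
  refine ⟨?_, ?_, ?_⟩
  · rw [hmap]
    have e0 : (Equiv.swap (0 : Fin 4) 2) 0 = 2 := by decide
    have e1 : (Equiv.swap (0 : Fin 4) 2) 1 = 1 := by decide
    have e2 : (Equiv.swap (0 : Fin 4) 2) 2 = 0 := by decide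
    have e3 : (Equiv.swap (0 : Fin 4) 2) 3 = 3 := by decide
    rw [e0, e1, e2, e3, hω]
    have h1 : ∀ c, z c 2 1 0 = - z c 0 1 2 := by
      intro c
      rw [hneg c 1 2 0, hrot c 0 1 2]
    have h2 : ∀ c, z c 2 0 3 = - z c 0 2 3 := by
      intro c
      rw [hneg c 0 2 3]
    simp only [h1, h2, map_neg, neg_mul, mul_neg, neg_neg]
  · rw [hmap]
    have e0 : (Equiv.swap (1 : Fin 4) 3) 0 = 0 := by decide
    have e1 : (Equiv.swap (1 : Fin 4) 3) 1 = 3 := by decide
    have e2 : (Equiv.swap (1 : Fin 4) 3) 2 = 2 := by decide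
    have e3 : (Equiv.swap (1 : Fin 4) 3) 3 = 1 := by decide
    rw [e0, e1, e2, e3, hω]
    have h1 : ∀ c, z c 0 3 2 = - z c 0 2 3 := by
      intro c
      rw [← hrot c 0 3 2, hneg c 2 3 0, hrot c 0 2 3]
    have h2 : ∀ c, z c 0 2 1 = - z c 0 1 2 := by
      intro c
      rw [← hrot c 0 2 1, hneg c 1 2 0, hrot c 0 1 2]
    simp only [h1, h2, map_neg, neg_mul, mul_neg, neg_neg]
    -- u3 u4 u1 u2 = u1 u2 u3 u4
    set u1 := ExteriorAlgebra.ι k (z 0 0 1 2)
    set u2 := ExteriorAlgebra.ι k (z 1 0 1 2)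
    set u3 := ExteriorAlgebra.ι k (z 0 0 2 3)
    set u4 := ExteriorAlgebra.ι k (z 1 0 2 3)
    have a41 : u4 * u1 = - (u1 * u4) := hanti _ _
    have a31 : u3 * u1 = - (u1 * u3) := hanti _ _
    have a42 : u4 * u2 = - (u2 * u4) := hanti _ _
    have a32 : u3 * u2 = - (u2 * u3) := hanti _ _
    calc u3 * u4 * u1 * u2 = u3 * (u4 * u1) * u2 := by noncomm_ring
      _ = - (u3 * u1) * u4 * u2 := by rw [a41]; noncomm_ring
      _ = u1 * u3 * (u4 * u2) := by rw [a31]; noncomm_ring
      _ = - (u1 * (u3 * u2) * u4) := by rw [a42]; noncomm_ring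
      _ = u1 * u2 * u3 * u4 := by rw [a32]; noncomm_ring
  · -- a linear functional detecting the sum
    let ev : Fin 2 → Fin 4 → Fin 4 → ((Fin 2 → Fin 4 → Fin 4 → k) →ₗ[k] k) := fun c a b =>
      (LinearMap.proj b) ∘ₗ (LinearMap.proj a) ∘ₗ (LinearMap.proj c)
    let L : (Fin 2 → Fin 4 → Fin 4 → k) →ₗ[k] (Fin 4 → k) :=
      LinearMap.pi (fun r => ev (![0, 0, 1, 1] r) (![0, 0, 1, 1] r) (![1, 2, 2, 3] r))
    have hL : ∀ (f : Fin 2 → Fin 4 → Fin 4 → k) (r : Fin 4),
        L f r = f (![0, 0, 1, 1] r) (![0, 0, 1, 1] r) (![1, 2, 2, 3] r) := fun f r => rfl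
    let D : (Fin 2 → Fin 4 → Fin 4 → k) [⋀^Fin 4]→ₗ[k] k :=
      (Matrix.detRowAlternating (R := k) (n := Fin 4)).compLinearMap L
    let Φ : ExteriorAlgebra k (Fin 2 → Fin 4 → Fin 4 → k) →ₗ[k] k :=
      ExteriorAlgebra.liftAlternating (R := k) (M := (Fin 2 → Fin 4 → Fin 4 → k)) (N := k)
        (Function.update (fun _ => 0) 4 D)
    have hΦ : ∀ v : Fin 4 → (Fin 2 → Fin 4 → Fin 4 → k),
        Φ (ExteriorAlgebra.ι k (v 0) * ExteriorAlgebra.ι k (v 1) * ExteriorAlgebra.ι k (v 2) *
          ExteriorAlgebra.ι k (v 3)) = Matrix.det (Matrix.of fun s r => L (v s) r) := by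
      intro v
      have : ExteriorAlgebra.ι k (v 0) * ExteriorAlgebra.ι k (v 1) * ExteriorAlgebra.ι k (v 2) *
          ExteriorAlgebra.ι k (v 3) = ExteriorAlgebra.ιMulti k 4 v := by
        rw [ExteriorAlgebra.ιMulti_apply]
        simp [List.ofFn_succ, mul_assoc]
      rw [this]
      show ExteriorAlgebra.liftAlternating _ _ = _
      rw [ExteriorAlgebra.liftAlternating_apply_ιMulti, Function.update_self]
      rfl
    intro hsum
    have h0 : Φ (∑ σ : Equiv.Perm (Fin 4), ExteriorAlgebra.map (P σ) ω) = 0 := by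
      rw [hsum, map_zero]
    rw [map_sum] at h0
    have hzcast : ∀ (c : Fin 2) (i j l : Fin 4) (c' : Fin 2) (a b : Fin 4),
        z c i j l c' a b = ((Groth.Agent.Lib.Seat94.ExtK4.zZ c i j l c' a b : ℤ) : k) := by
      intro c i j l c' a b
      rw [hz]
      unfold Groth.Agent.Lib.Seat94.ExtK4.zZ
      push_cast
      rfl
    have hterm : ∀ σ : Equiv.Perm (Fin 4), Φ (ExteriorAlgebra.map (P σ) ω) =
        ((Groth.Agent.Lib.Seat94.ExtK4.MZ σ).det : k) := by
      intro σ
      rw [hmap σ]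
      have := hΦ (fun s => z (![0, 1, 0, 1] s) (σ 0) (σ (![1, 1, 2, 2] s)) (σ (![2, 2, 3, 3] s)))
      refine this.trans ?_
      have hcast : ((Groth.Agent.Lib.Seat94.ExtK4.MZ σ).det : k) =
          ((Int.castRingHom k).mapMatrix (Groth.Agent.Lib.Seat94.ExtK4.MZ σ)).det := by
        rw [← RingHom.map_det]; rfl
      rw [hcast]
      congr 1
      ext s r
      simp only [Matrix.of_apply, hL, RingHom.mapMatrix_apply, Matrix.map_apply,
        Groth.Agent.Lib.Seat94.ExtK4.MZ, eq_intCast]
      exact hzcast _ _ _ _ _ _ _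
    simp only [hterm] at h0
    rw [← Int.cast_sum, Groth.Agent.Lib.Seat94.ExtK4.sum_det_MZ] at h0
    norm_num at h0

end Groth.Agent.S19221
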