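import Groth.Statements.S19223
import Groth.Agent.Lib.Seat94UnitsHensel
import Groth.Agent.Lib.Seat94GrpCohDiv

set_option autoImplicit false
attribute [local instance] Units.mulDistribMulActionRight
open GalCoh

namespace Groth.Agent.S19223

/-- For a strictly henselian local ring R whose residue field k has characteristic p ≥ 0, and a finite
group G of order prime to p acting on R by ring automorphisms (hence on the unit groups R^× and
k^×), consider the homomorphism H^n(G, R^×) → H^n(G, k^×) induced by the reduction map. It is
bijective for every n ≥ 2; it is also bijective for n = 1 provided that p = 0 or the only p-power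
root of unity in R is 1. (The reduction map on cohomology is pinned by its values on units; groups,
rings and modules are taken in the lowest universe, as integral coefficients in the group-cohomology
library require.) -/
theorem result (R : Type) [CommRing R]
    [HenselianLocalRing R] [IsSepClosed (IsLocalRing.ResidueField R)] (p : ℕ) [CharP (IsLocalRing.ResidueField R) p]
    (G : Type) [Group G] [Finite G] [MulSemiringAction G R] (hp : ¬ p ∣ Nat.card G)
    (φ : Rep.ofMulDistribMulAction G Rˣ ⟶ Rep.ofMulDistribMulAction G (IsLocalRing.ResidueField R)ˣ)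
    (hφ : ∀ x : Rˣ, Additive.toMul (φ.hom (Additive.ofMul x)) = Units.map (IsLocalRing.residue R).toMonoidHom x)
    (n : ℕ) (hn : 1 ≤ n) (h1 : n = 1 → p ≠ 0 → ∀ (ζ : Rˣ) (m : ℕ), ζ ^ p ^ m = 1 → ζ = 1) :
    Function.Bijective ((groupCohomology.functor ℤ G n).map φ).hom := by
  classical
  -- the order of `G` is invertible in the residue field
  have hN0 : Nat.card G ≠ 0 := Nat.card_pos.ne'
  have hN : ((Nat.card G : ℕ) : IsLocalRing.ResidueField R) ≠ 0 := by
    intro h
    exact hp ((CharP.cast_eq_zero_iff (IsLocalRing.ResidueField R) p _).1 h)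
  -- reformulation of `hφ`
  have hφ0 : ∀ u : Rˣ, φ.hom (Additive.ofMul u) = 0 ↔ IsLocalRing.residue R (u : R) = 1 := by
    intro u
    constructor
    · intro h
      have h1 := hφ u
      rw [h] at h1
      have h2 := congrArg (fun v : (IsLocalRing.ResidueField R)ˣ => (v : IsLocalRing.ResidueField R)) h1
      exact h2.symm
    · intro h
      apply Additive.toMul.injective
      rw [hφ u]
      apply Units.ext
      exact h
  refine Groth.Agent.Lib.Seat94.GrpCohDiv.bijective_map_of_kernel_uniquely_divisible φ ?_ ?_ ?_ n hn
  · intro y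
    obtain ⟨r, hr⟩ := IsLocalRing.residue_surjective (R := R)
      ((Additive.toMul (show Additive (IsLocalRing.ResidueField R)ˣ from y) :
        (IsLocalRing.ResidueField R)ˣ) : IsLocalRing.ResidueField R)
    have hru : IsUnit r := by
      rw [← IsLocalRing.residue_ne_zero_iff_isUnit, hr]
      exact Units.ne_zero _
    refine ⟨Additive.ofMul hru.unit, ?_⟩
    apply Additive.toMul.injective
    rw [hφ]
    apply Units.ext
    exact hr
  · intro a ha hNa
    obtain ⟨u, hau⟩ : ∃ u : Rˣ, a = Additive.ofMul u :=
      ⟨Additive.toMul (show Additive Rˣ from a), rfl⟩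
    rw [hau] at ha hNa ⊢
    have hu1 := (hφ0 u).1 ha
    have hpow : (u : R) ^ Nat.card G = 1 := by
      have h1 : Additive.toMul (show Additive Rˣ from Nat.card G • Additive.ofMul u) = 1 :=
        congrArg Additive.toMul hNa
      have h2 : u ^ Nat.card G = 1 := h1
      have := congrArg (fun v : Rˣ => (v : R)) h2
      simpa using this
    have := Groth.Agent.Lib.Seat94.UnitsHensel.eq_one_of_pow_eq_one (Nat.card G) hN (u : R) hu1 hpow
    have hu : u = 1 := Units.ext this
    rw [hu]
    rfl
  · intro a ha
    obtain ⟨u, hau⟩ : ∃ u : Rˣ, a = Additive.ofMul u :=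
      ⟨Additive.toMul (show Additive Rˣ from a), rfl⟩
    rw [hau] at ha ⊢
    have hu1 := (hφ0 u).1 ha
    obtain ⟨v, hv1, hvN⟩ := Groth.Agent.Lib.Seat94.UnitsHensel.exists_pow_eq (Nat.card G) hN0 hN
      (u : R) hu1
    have hvu : IsUnit v := by
      rw [← IsLocalRing.residue_ne_zero_iff_isUnit, hv1]
      exact one_ne_zero
    refine ⟨Additive.ofMul hvu.unit, (hφ0 _).2 hv1, ?_⟩
    have : hvu.unit ^ Nat.card G = u := by
      apply Units.ext
      simpa using hvN
    show Additive.ofMul (hvu.unit ^ Nat.card G) = Additive.ofMul u
    rw [this]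

end Groth.Agent.S19223
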