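-- Statement S19268; see the milestone table for weights.
import Groth.Statements.S19268
import Groth.Agent.Lib.Seat95WittGr

set_option autoImplicit false
universe u
open WittFil

namespace Groth.Agent.S19268

open Groth.Agent.Lib.Seat95.WittGr WittVector

/-- Let S be an integral domain of characteristic p, A = S[[π]] the power series ring, B = A[1/π] with u
the unit of B given by π, and let m > s ≥ 0 and i be an integer with s = 0 or p ∤ i; put n = p ^
(m−1−s) · i. For e in B write fil(e) for the set of truncated p-typical Witt vectors of length m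
over B whose j-th coordinate y_j satisfies y_j ^ (p ^ (m−1−j)) · e ∈ A for all j, and for a Witt
vector c over S let Φ(c) ∈ W_m(B) be the length-m truncation of V^s(c · [u ^ i]) (V the
Verschiebung, [ ] the Teichmüller map, c mapped to B). Then Φ induces a bijection from the
length-(m−s) truncated Witt vectors of S onto the graded piece fil(u^(−n)) / fil(u^(−n−1)): (1) Φ(c)
lies in fil(u^(−n)) for every c; (2) Φ(c) lies in fil(u^(−n−1)) exactly when the length-(m−s)
truncation of c is zero; (3) every element of fil(u^(−n)) is congruent to some Φ(c) modulo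
fil(u^(−n−1)). (Published for S a regular local Noetherian F-finite F_p-algebra; the argument uses
only that S is a domain.) -/
theorem result (p : ℕ) [Fact p.Prime] {S B : Type u} [CommRing S]
    [IsDomain S] [CharP S p] [CommRing B] [Algebra (PowerSeries S) B] [Algebra S B]
    [IsScalarTower S (PowerSeries S) B] [IsLocalization.Away (PowerSeries.X : PowerSeries S) B]
    (u : Bˣ) (hu : (u : B) = algebraMap (PowerSeries S) B PowerSeries.X) (m s : ℕ) (hs : s < m)
    (i : ℤ) (hsi : s = 0 ∨ ¬ ((p : ℤ) ∣ i)) :
    (∀ c : WittVector p S,
        WittFil.vShiftTeich p m s ((u ^ i : Bˣ) : B) c ∈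
          WittFil.fil p m (A := PowerSeries S) ((u ^ (-((p : ℤ) ^ (m - 1 - s) * i)) : Bˣ) : B)) ∧
      (∀ c : WittVector p S,
        WittFil.vShiftTeich p m s ((u ^ i : Bˣ) : B) c ∈
            WittFil.fil p m (A := PowerSeries S) ((u ^ (-((p : ℤ) ^ (m - 1 - s) * i) - 1) : Bˣ) : B) ↔
          WittVector.truncate (m - s) c = 0) ∧
      (∀ y ∈ WittFil.fil p m (A := PowerSeries S) ((u ^ (-((p : ℤ) ^ (m - 1 - s) * i)) : Bˣ) : B),
        ∃ c : WittVector p S,
          y - WittFil.vShiftTeich p m s ((u ^ i : Bˣ) : B) c ∈
            WittFil.fil p m (A := PowerSeries S)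
              ((u ^ (-((p : ℤ) ^ (m - 1 - s) * i) - 1) : Bˣ) : B)) := by
  have hp0 : p ≠ 0 := (Fact.out : p.Prime).ne_zero
  have hppos : ∀ k : ℕ, 0 < p ^ k := fun k => pow_pos (Fact.out : p.Prime).pos k
  have halgS : ∀ σ : S, algebraMap S B σ = algebraMap (PowerSeries S) B (PowerSeries.C σ) := by
    intro σ
    rw [IsScalarTower.algebraMap_apply S (PowerSeries S) B]
    rfl
  set v : B := ((u ^ i : Bˣ) : B) with hv
  -- the coordinates of `Φ(c)`
  have hcoeff : ∀ (c : WittVector p S) (j : Fin m),
      TruncatedWittVector.coeff j (WittFil.vShiftTeich p m s v c) =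
        if (j : ℕ) < s then 0
        else algebraMap S B (c.coeff ((j : ℕ) - s)) * v ^ p ^ ((j : ℕ) - s) := by
    intro c j
    unfold WittFil.vShiftTeich
    rw [WittVector.coeff_truncate]
    exact coeff_vShift s v c j
  refine ⟨?_, ?_, ?_⟩
  · -- (1)
    intro c j
    rw [hcoeff c j]
    split_ifs with hjs
    · refine ⟨0, ?_⟩
      rw [map_zero, zero_pow (hppos _).ne', zero_mul]
    · rw [mul_pow, mul_assoc, hv, unit_identity p u m s j (not_lt.1 hjs) j.2 i, mul_one,
        ← map_pow, halgS]
      exact ⟨_, rfl⟩
  · -- (2)
    intro c
    constructor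
    · intro h
      have hzero : ∀ k, k < m - s → c.coeff k = 0 := by
        intro k hk
        have hj : k + s < m := by omega
        have h1 := h ⟨k + s, hj⟩
        rw [hcoeff c ⟨k + s, hj⟩] at h1
        have hns : ¬ (k + s < s) := by omega
        simp only [hns, if_false] at h1
        rw [Nat.add_sub_cancel] at h1
        have hks : s ≤ k + s := by omega
        have h2 := unit_identity' p u m s (k + s) hks hj i
        rw [Nat.add_sub_cancel] at h2
        rw [mul_pow, mul_assoc, hv, h2, ← map_pow, halgS] at h1
        have h3 := eq_zero_of_C_mul_inv_mem u hu _ h1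
        exact pow_eq_zero_iff (hppos _).ne' |>.1 h3
      ext k
      rw [WittVector.coeff_truncate, TruncatedWittVector.coeff_zero]
      exact hzero k k.2
    · intro h j
      rw [hcoeff c j]
      have hzero : ∀ k, k < m - s → c.coeff k = 0 := by
        intro k hk
        have := congrArg (TruncatedWittVector.coeff ⟨k, hk⟩) h
        rwa [WittVector.coeff_truncate, TruncatedWittVector.coeff_zero] at this
      split_ifs with hjs
      · refine ⟨0, ?_⟩
        rw [map_zero, zero_pow (hppos _).ne', zero_mul]
      · have hk : (j : ℕ) - s < m - s := by have := j.2; omega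
        refine ⟨0, ?_⟩
        rw [hzero _ hk, map_zero (algebraMap S B), zero_mul, zero_pow (hppos _).ne', zero_mul, map_zero]
  · -- (3)
    intro y hy
    set v' : B := ((u ^ (-i) : Bˣ) : B) with hv'
    have hvv' : v * v' = 1 := by
      rw [hv, hv', ← Units.val_mul, zpow_neg, mul_inv_cancel, Units.val_one]
    set yt : WittVector p B := y.out with hyt
    have hyt_trunc : WittVector.truncate m yt = y := TruncatedWittVector.truncateFun_out y
    have hyt_coeff : ∀ j : Fin m, yt.coeff j = TruncatedWittVector.coeff j y :=
      fun j => TruncatedWittVector.coeff_out y j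
    -- the chosen preimages
    have hex : ∀ k : ℕ, ∃ a : PowerSeries S, k < m - s →
        algebraMap (PowerSeries S) B a = yt.coeff (s + k) * v' ^ p ^ k := by
      intro k
      by_cases hk : k < m - s
      · have hj : s + k < m := by omega
        have h1 := hy ⟨s + k, hj⟩
        rw [← hyt_coeff ⟨s + k, hj⟩] at h1
        have hroot : (yt.coeff (s + k) * v' ^ p ^ k) ^ p ^ (m - 1 - (s + k)) ∈
            (algebraMap (PowerSeries S) B).range := by
          have h2 := unit_identity p u m s (s + k) (Nat.le_add_right s k) hj i
          rw [Nat.add_sub_cancel_left] at h2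
          have h3 : (v' ^ p ^ k) ^ p ^ (m - 1 - (s + k)) =
              ((u ^ (-((p : ℤ) ^ (m - 1 - s) * i)) : Bˣ) : B) := by
            have h4 : (v' ^ p ^ k) ^ p ^ (m - 1 - (s + k)) *
                ((v ^ p ^ k) ^ p ^ (m - 1 - (s + k))) = 1 := by
              rw [← mul_pow, ← mul_pow, mul_comm v' v, hvv', one_pow, one_pow]
            calc (v' ^ p ^ k) ^ p ^ (m - 1 - (s + k))
                = (v' ^ p ^ k) ^ p ^ (m - 1 - (s + k)) *
                    (((v ^ p ^ k) ^ p ^ (m - 1 - (s + k))) *
                      ((u ^ (-((p : ℤ) ^ (m - 1 - s) * i)) : Bˣ) : B)) := by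
                  rw [hv, h2, mul_one]
              _ = _ := by rw [← mul_assoc, h4, one_mul]
          rw [mul_pow, h3]
          exact h1
        obtain ⟨a, ha⟩ := mem_range_of_pow_mem _ _ (hppos _) hroot
        exact ⟨a, fun _ => ha⟩
      · exact ⟨0, fun h => absurd h hk⟩
    choose a ha using hex
    set aW : WittVector p (PowerSeries S) := WittVector.mk p a with haW
    set cW : WittVector p S := WittVector.map PowerSeries.constantCoeff aW with hcW
    set dW : WittVector p (PowerSeries S) := aW - WittVector.map (PowerSeries.C) cW with hdW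
    have hdX : ∀ k, (PowerSeries.X : PowerSeries S) ∣ dW.coeff k := by
      intro k
      rw [PowerSeries.X_dvd_iff]
      have h1 : WittVector.map PowerSeries.constantCoeff dW = 0 := by
        rw [hdW, map_sub, ← hcW]
        have : WittVector.map PowerSeries.constantCoeff (WittVector.map (PowerSeries.C) cW) = cW := by
          ext k
          rw [WittVector.map_coeff, WittVector.map_coeff, PowerSeries.constantCoeff_C]
        rw [this, sub_self]
      have h2 := congrArg (fun w => w.coeff k) h1
      simpa only [WittVector.map_coeff, WittVector.zero_coeff] using h2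
    refine ⟨cW, ?_⟩
    set Phi : WittVector p B :=
      (verschiebung^[s]) (WittVector.map (algebraMap S B) cW * teichmuller p v) with hPhi
    have hD : y - WittFil.vShiftTeich p m s v cW = WittVector.truncate m (yt - Phi) := by
      rw [map_sub, hyt_trunc]
      rfl
    set E : WittVector p B :=
      yt.shift s - WittVector.map (algebraMap S B) cW * teichmuller p v with hE
    have hDE : yt - Phi = init s yt + (verschiebung^[s]) E := sub_iterate_verschiebung yt _ s
    -- the coordinates of `E`
    have hEcoeff : ∀ k, k < m - s →
        E.coeff k = algebraMap (PowerSeries S) B (dW.coeff k) * v ^ p ^ k := by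
      intro k hk
      have hmapS : WittVector.map (algebraMap S B) cW =
          WittVector.map (algebraMap (PowerSeries S) B) (WittVector.map (PowerSeries.C) cW) := by
        ext k
        simp only [WittVector.map_coeff, halgS]
      have htr1 : WittVector.truncate (m - s) (yt.shift s) =
          WittVector.truncate (m - s)
            (WittVector.map (algebraMap (PowerSeries S) B) aW * teichmuller p v) := by
        apply truncate_eq_of_coeff_eq
        intro j hj
        rw [Groth.Agent.Lib.Helper26.coeff_mul_teichmuller, WittVector.map_coeff, shift_coeff,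
          haW, WittVector.coeff_mk, ha j hj, mul_assoc, ← mul_pow, mul_comm v' v, hvv', one_pow,
          mul_one]
      have htr : WittVector.truncate (m - s) E =
          WittVector.truncate (m - s)
            (WittVector.map (algebraMap (PowerSeries S) B) dW * teichmuller p v) := by
        rw [hE, map_sub, htr1, ← map_sub, hmapS, ← sub_mul, ← map_sub]
      have := coeff_eq_of_truncate_eq (m - s) _ _ htr k hk
      rw [this, Groth.Agent.Lib.Helper26.coeff_mul_teichmuller, WittVector.map_coeff]
    rw [hD]
    intro j
    rw [WittVector.coeff_truncate, hDE, coeff_init_add_iterate_verschiebung]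
    split_ifs with hjs
    · -- coordinates below `s`
      rw [hyt_coeff j]
      have hpi : ¬ ((p : ℤ) ∣ i) := by
        rcases hsi with h0 | h0
        · omega
        · exact h0
      apply mem_range_succ_of_not_dvd u hu _ _ (hppos _)
      · intro hdvd
        apply hpi
        have h1 : m - 1 - (j : ℕ) = (m - 1 - s) + ((s - 1 - (j : ℕ)) + 1) := by omega
        rw [h1, pow_add, pow_succ] at hdvd
        push_cast at hdvd
        have h2 : (p : ℤ) ^ (m - 1 - s) ≠ 0 := pow_ne_zero _ (by exact_mod_cast hp0)
        have h3 : (p : ℤ) ^ (s - 1 - (j : ℕ)) * (p : ℤ) ∣ i :=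
          (mul_dvd_mul_iff_left h2).1 hdvd
        exact dvd_trans (dvd_mul_left _ _) h3
      · exact hy j
    · -- coordinates from `s` on
      have hk : (j : ℕ) - s < m - s := by have := j.2; omega
      rw [hEcoeff _ hk, mul_pow, mul_assoc, hv,
        unit_identity' p u m s j (not_lt.1 hjs) j.2 i]
      exact mem_range_of_X_dvd u hu _ (hdX _) _ (hppos _)

end Groth.Agent.S19268
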