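import Groth.Statements.S19273
import Mathlib

set_option autoImplicit false
universe u
open CAlg

namespace Groth.Agent.S19273

open KaehlerDifferential in
/-- Let A be an integral domain of prime characteristic p, x_1, …, x_N elements of A, r ≤ N, B =
A[1/(x_1⋯x_r)] with u_i the unit of B defined by x_i for i ≤ r, and suppose that the module Ω_A of
absolute Kähler differentials of A is free with a basis b indexed by {1, …, N} ⊔ ι whose i-th vector
is d(x_i) for i ≤ N. Then the module of logarithmic 1-forms — the A-submodule of Ω_B spanned by the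
image of Ω_A and the forms u_i⁻¹ · d(x_i), i ≤ r — is a free A-module: it has a basis indexed by {1,
…, N} ⊔ ι whose vector at i ≤ r is u_i⁻¹ · d(x_i), at r < i ≤ N is d(x_i), and at k ∈ ι is the image
of b_k. (In the published statement A is a regular local F-finite algebra over the prime field with
maximal ideal (x_1, …, x_N), the basis of Ω_A comes from the preceding lemma, and the assertion
covers the logarithmic q-forms for all q together with their identification with the log de Rham
complex of the log ring; only the degree-one freeness is stated here, from the properties of A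
actually used.) -/
theorem result (p : ℕ) [Fact p.Prime]
    {A B : Type u} [CommRing A] [IsDomain A] [CharP A p] [CommRing B] [Algebra A B] {r N : ℕ}
    (hr : r ≤ N) (x : Fin N → A) [IsLocalization.Away (∏ i : Fin r, x (Fin.castLE hr i)) B]
    (u : Fin r → Bˣ) (hu : ∀ i, (u i : B) = algebraMap A B (x (Fin.castLE hr i)))
    {ι : Type u} (b : Module.Basis (Fin N ⊕ ι) A (Ω[A⁄ℤ])) (hb : ∀ i, b (Sum.inl i) = D ℤ A (x i)) :
    ∃ e : Module.Basis (Fin N ⊕ ι) A
        (W4c6katofilta.logForms1 (fun i : Fin r => x (Fin.castLE hr i)) u),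
      (∀ i : Fin r, (e (Sum.inl (Fin.castLE hr i)) : Ω[B⁄ℤ]) =
          ((u i)⁻¹ : Bˣ) • KaehlerDifferential.map ℤ ℤ A B (D ℤ A (x (Fin.castLE hr i)))) ∧
      (∀ i : Fin N, r ≤ (i : ℕ) →
          (e (Sum.inl i) : Ω[B⁄ℤ]) = KaehlerDifferential.map ℤ ℤ A B (D ℤ A (x i))) ∧
      (∀ k : ι, (e (Sum.inr k) : Ω[B⁄ℤ]) = KaehlerDifferential.map ℤ ℤ A B (b (Sum.inr k))) := by
  classical
  set f : A := ∏ i : Fin r, x (Fin.castLE hr i) with hf
  -- f ≠ 0
  have hf0 : f ≠ 0 := by
    intro h0
    rw [hf, Finset.prod_eq_zero_iff] at h0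
    obtain ⟨i, -, hi⟩ := h0
    have := b.ne_zero (Sum.inl (Fin.castLE hr i))
    rw [hb, hi, map_zero] at this
    exact this rfl
  have hinj : Function.Injective (algebraMap A B) :=
    IsLocalization.injective B (powers_le_nonZeroDivisors_of_noZeroDivisors hf0)
  haveI : Algebra.FormallyEtale A B := Algebra.FormallyEtale.of_isLocalization (Submonoid.powers f)
  set g : Ω[A⁄ℤ] →ₗ[A] Ω[B⁄ℤ] := KaehlerDifferential.map ℤ ℤ A B with hg
  have ibc : IsBaseChange B g := KaehlerDifferential.isBaseChange_of_formallyEtale ℤ A B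
  obtain ⟨w, hw_lt, hw_ge, hw_inr⟩ : ∃ w : Fin N ⊕ ι → Bˣ,
      (∀ (i : Fin r), w (Sum.inl (Fin.castLE hr i)) = (u i)⁻¹) ∧
      (∀ (i : Fin N), r ≤ (i : ℕ) → w (Sum.inl i) = 1) ∧
      (∀ k : ι, w (Sum.inr k) = 1) := by
    refine ⟨Sum.elim (fun i => if h : (i : ℕ) < r then (u ⟨i, h⟩)⁻¹ else 1) (fun _ => 1),
      ?_, ?_, fun k => rfl⟩
    · intro i
      have h : ((Fin.castLE hr i : Fin N) : ℕ) < r := i.2
      change (if h : ((Fin.castLE hr i : Fin N) : ℕ) < r then (u ⟨_, h⟩)⁻¹ else 1) = _
      rw [dif_pos h]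
      rfl
    · intro i hi
      change (if h : (i : ℕ) < r then (u ⟨_, h⟩)⁻¹ else 1) = _
      rw [dif_neg (not_lt.2 hi)]
  obtain ⟨bB', hbB'⟩ : ∃ bB' : Module.Basis (Fin N ⊕ ι) B (Ω[B⁄ℤ]),
      ∀ j, bB' j = w j • g (b j) := by
    refine ⟨(ibc.basis b).unitsSMul w, fun j => ?_⟩
    rw [Module.Basis.unitsSMul_apply, ibc.basis_apply b j]
  set P : Submodule A (Ω[B⁄ℤ]) :=
    W4c6katofilta.logForms1 (fun i : Fin r => x (Fin.castLE hr i)) u with hP
  -- membership
  have hmem : ∀ j, bB' j ∈ P := by
    intro j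
    rw [hbB']
    rcases j with i | k
    · by_cases h : (i : ℕ) < r
      · obtain ⟨i', rfl⟩ : ∃ i' : Fin r, i = Fin.castLE hr i' := ⟨⟨i, h⟩, Fin.ext rfl⟩
        rw [hw_lt, hb]
        exact Submodule.subset_span (Or.inr ⟨i', rfl⟩)
      · rw [hw_ge i (not_lt.1 h), one_smul]
        exact Submodule.subset_span (Or.inl ⟨_, rfl⟩)
    · rw [hw_inr, one_smul]
      exact Submodule.subset_span (Or.inl ⟨_, rfl⟩)
  let v : Fin N ⊕ ι → P := fun j => ⟨bB' j, hmem j⟩
  have hli : LinearIndependent A v := by
    have h1 : LinearIndependent A (fun j => (bB' j : Ω[B⁄ℤ])) := by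
      refine LinearIndependent.restrict_scalars (K := B) ?_ bB'.linearIndependent
      intro a a' h
      apply hinj
      simpa [Algebra.smul_def] using h
    exact LinearIndependent.of_comp P.subtype h1
  -- g (b j) in the span of v
  have hgb : ∀ j, g (b j) ∈ Submodule.span A (Set.range fun j => (bB' j : Ω[B⁄ℤ])) := by
    intro j
    rcases j with i | k
    · by_cases h : (i : ℕ) < r
      · obtain ⟨i', rfl⟩ : ∃ i' : Fin r, i = Fin.castLE hr i' := ⟨⟨i, h⟩, Fin.ext rfl⟩
        have h1 : g (b (Sum.inl (Fin.castLE hr i'))) =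
            x (Fin.castLE hr i') • bB' (Sum.inl (Fin.castLE hr i')) := by
          rw [hbB', hw_lt, ← algebraMap_smul B (x (Fin.castLE hr i')), Units.smul_def, smul_smul,
            ← hu, Units.mul_inv, one_smul]
        rw [h1]
        exact Submodule.smul_mem _ _ (Submodule.subset_span ⟨_, rfl⟩)
      · have h1 : g (b (Sum.inl i)) = bB' (Sum.inl i) := by
          rw [hbB', hw_ge i (not_lt.1 h), one_smul]
        rw [h1]
        exact Submodule.subset_span ⟨_, rfl⟩
    · have h1 : g (b (Sum.inr k)) = bB' (Sum.inr k) := by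
        rw [hbB', hw_inr, one_smul]
      rw [h1]
      exact Submodule.subset_span ⟨_, rfl⟩
  have hspan : Submodule.span A (Set.range fun j => (bB' j : Ω[B⁄ℤ])) = P := by
    apply le_antisymm
    · rw [Submodule.span_le]
      rintro _ ⟨j, rfl⟩
      exact hmem j
    · rw [hP, W4c6katofilta.logForms1, Submodule.span_le]
      rintro y (⟨ω, rfl⟩ | ⟨i, rfl⟩)
      · have h1 : ω ∈ Submodule.span A (Set.range b) := by rw [b.span_eq]; trivial
        have h2 : g ω ∈ Submodule.map g (Submodule.span A (Set.range b)) := ⟨ω, h1, rfl⟩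
        rw [Submodule.map_span, ← Set.range_comp] at h2
        refine (Submodule.span_le.2 ?_) h2
        rintro _ ⟨j, rfl⟩
        exact hgb j
      · refine Submodule.subset_span ⟨Sum.inl (Fin.castLE hr i), ?_⟩
        change bB' (Sum.inl (Fin.castLE hr i)) = _
        rw [hbB', hw_lt, hb]
  have hspan' : ⊤ ≤ Submodule.span A (Set.range v) := by
    rw [top_le_iff]
    apply Submodule.map_injective_of_injective P.injective_subtype
    rw [Submodule.map_span, Submodule.map_subtype_top, ← Set.range_comp]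
    exact hspan
  refine ⟨Module.Basis.mk hli hspan', ?_, ?_, ?_⟩
  · intro i
    rw [Module.Basis.mk_apply]
    change bB' (Sum.inl (Fin.castLE hr i)) = _
    rw [hbB', hw_lt, hb]
  · intro i hi
    rw [Module.Basis.mk_apply]
    change bB' (Sum.inl i) = _
    rw [hbB', hw_ge i hi, one_smul, hb]
  · intro k
    rw [Module.Basis.mk_apply]
    change bB' (Sum.inr k) = _
    rw [hbB', hw_inr, one_smul]

end Groth.Agent.S19273
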