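import Groth.Statements.S19275
import Groth.Agent.Lib.Seat95HochBC
import Groth.Agent.Lib.Seat95HochBC2

set_option autoImplicit false
universe u v w
open Hoch

namespace Groth.Agent.S19275

open Groth.Agent.Lib.Seat95.HochBC Groth.Agent.Lib.Seat95.HochBC2

open TensorProduct in
/-- In the case of an affine group scheme over a field (a K-groupoid acting on Spec K itself),
cohomology commutes with arbitrary base change. Precisely: let K be a field, A a commutative Hopf
algebra over K (the coordinate ring of an affine K-group scheme G), V a right A-comodule (a linear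
representation of G) and R any commutative K-algebra. Give R ⊗ V the base-changed comodule structure
over the R-bialgebra R ⊗ A, whose coaction sends r ⊗ v to the image of r ⊗ ρ(v) under the canonical
identification of R ⊗ (V ⊗ A) with (R ⊗ V) ⊗_R (R ⊗ A), and let φ_n : R ⊗ C^n(A, V) → C^n(R ⊗ A, R ⊗
V) be the canonical R-linear maps between the Hochschild cochain modules, determined by φ_0 = id and
φ_{n+1}(r ⊗ (c ⊗ a)) = φ_n(r ⊗ c) ⊗ (1 ⊗ a). Then every φ_n is bijective, the φ_n commute with the
Hochschild differentials, and for every n there is an R-linear isomorphism R ⊗ H^n(A, V) ≅ H^n(R ⊗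
A, R ⊗ V) sending r ⊗ [z] to [φ_n(r ⊗ z)] for every n-cocycle z. (The published statement is for an
affine K-groupoid acting on the spectrum of a finite extension L of K and its coherent
representations, with K of characteristic 0; this is its case L = K, in which the cochain complex of
a representation is the Hochschild complex of the comodule; V is not assumed finite-dimensional and
K may be any field.) -/
theorem result
    (K : Type u) [Field K] (A : Type v) [CommRing A] [HopfAlgebra K A]
    (V : Type v) [AddCommGroup V] [Module K V] [HopfRep.Comod K A V]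
    (R : Type w) [CommRing R] [Algebra K R]
    (φ : ∀ n : ℕ, R ⊗[K] (Hoch.cochain K A V n) →ₗ[R] (Hoch.cochain R (R ⊗[K] A) (R ⊗[K] V) n))
    (hφ0 : ∀ x : R ⊗[K] V, φ 0 x = x)
    (hφs : ∀ (n : ℕ) (r : R) (c : Hoch.cochain K A V n) (a : A),
      φ (n + 1) (r ⊗ₜ[K] (c ⊗ₜ[K] a)) = (φ n (r ⊗ₜ[K] c)) ⊗ₜ[R] ((1 : R) ⊗ₜ[K] a)) :
    letI := CoactBr.Comod.baseChange K R A V
    (∀ n : ℕ, Function.Bijective (φ n)) ∧
    (∀ (n : ℕ) (x : R ⊗[K] (Hoch.cochain K A V n)),
        φ (n + 1) ((Hoch.d K A V n).baseChange R x) = Hoch.d R (R ⊗[K] A) (R ⊗[K] V) n (φ n x)) ∧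
      ∀ n : ℕ, ∃ e : R ⊗[K] Hoch.H K A V n ≃ₗ[R] Hoch.H R (R ⊗[K] A) (R ⊗[K] V) n,
        ∀ (r : R) (z : Hoch.cocycles K A V n)
          (hz : φ n (r ⊗ₜ[K] (z : Hoch.cochain K A V n)) ∈ Hoch.cocycles R (R ⊗[K] A) (R ⊗[K] V) n),
          e (r ⊗ₜ[K] Hoch.H.mk K A V n z) = Hoch.H.mk R (R ⊗[K] A) (R ⊗[K] V) n ⟨φ n (r ⊗ₜ[K] (z : Hoch.cochain K A V n)), hz⟩ := by
  letI := CoactBr.Comod.baseChange K R A V
  have hφ : ∀ n, φ n = Phi K R A V n := eq_Phi K R A V φ hφ0 hφs
  have hbij : ∀ n : ℕ, Function.Bijective (φ n) := fun n => by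
    rw [hφ n]; exact Phi_bijective K R A V n
  have hd : ∀ (n : ℕ) (x : R ⊗[K] (Hoch.cochain K A V n)),
      φ (n + 1) ((Hoch.d K A V n).baseChange R x) =
        Hoch.d R (R ⊗[K] A) (R ⊗[K] V) n (φ n x) := fun n x => by
    rw [hφ n, hφ (n + 1)]; exact Phi_d K R A V n x
  refine ⟨hbij, hd, ?_⟩
  intro n
  -- flat base change of kernels and images
  have hker : ∀ (m : ℕ) (x : R ⊗[K] (Hoch.cochain K A V m)),
      (Hoch.d K A V m).baseChange R x = 0 ↔
        x ∈ LinearMap.range ((Hoch.cocycles K A V m).subtype.baseChange R) := by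
    intro m x
    have hex : Function.Exact ((Hoch.cocycles K A V m).subtype.lTensor R)
        ((Hoch.d K A V m).lTensor R) :=
      Module.Flat.lTensor_exact R (LinearMap.exact_subtype_ker_map (Hoch.d K A V m))
    have h1 : (Hoch.d K A V m).baseChange R x = (Hoch.d K A V m).lTensor R x := by
      rw [LinearMap.baseChange_eq_ltensor]
    rw [h1, hex x]
    constructor
    · rintro ⟨y, hy⟩
      exact ⟨y, by rw [← hy, LinearMap.baseChange_eq_ltensor]⟩
    · rintro ⟨y, hy⟩
      exact ⟨y, by rw [← hy, LinearMap.baseChange_eq_ltensor]⟩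
  have hZ : ∀ x : R ⊗[K] (Hoch.cochain K A V n),
      φ n x ∈ Hoch.cocycles R (R ⊗[K] A) (R ⊗[K] V) n ↔
        x ∈ LinearMap.range ((Hoch.cocycles K A V n).subtype.baseChange R) := by
    intro x
    rw [← hker n x]
    change Hoch.d R (R ⊗[K] A) (R ⊗[K] V) n (φ n x) = 0 ↔ _
    rw [← hd n x]
    constructor
    · intro h
      exact (hbij (n + 1)).1 (by rw [h, map_zero])
    · intro h
      rw [h, map_zero]
  have hB : ∀ x : R ⊗[K] (Hoch.cochain K A V n),
      φ n x ∈ Hoch.coboundaries R (R ⊗[K] A) (R ⊗[K] V) n ↔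
        x ∈ LinearMap.range ((Hoch.coboundaries K A V n).subtype.baseChange R) := by
    intro x
    cases n with
    | zero =>
      change φ 0 x ∈ (⊥ : Submodule R _) ↔
        x ∈ LinearMap.range ((⊥ : Submodule K (Hoch.cochain K A V 0)).subtype.baseChange R)
      rw [Submodule.mem_bot]
      constructor
      · intro h
        have : x = 0 := (hbij 0).1 (by rw [h, map_zero])
        rw [this]
        exact Submodule.zero_mem _
      · rintro ⟨t, rfl⟩
        have : t = 0 := Subsingleton.elim _ _
        rw [this, map_zero, map_zero]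
    | succ m =>
      change φ (m + 1) x ∈ LinearMap.range (Hoch.d R (R ⊗[K] A) (R ⊗[K] V) m) ↔
        x ∈ LinearMap.range ((LinearMap.range (Hoch.d K A V m)).subtype.baseChange R)
      have hr : LinearMap.range ((LinearMap.range (Hoch.d K A V m)).subtype.baseChange R) =
          LinearMap.range ((Hoch.d K A V m).baseChange R) := by
        have hcomp : (Hoch.d K A V m).baseChange R =
            ((LinearMap.range (Hoch.d K A V m)).subtype.baseChange R) ∘ₗ
              ((Hoch.d K A V m).rangeRestrict.baseChange R) := by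
          rw [← LinearMap.baseChange_comp]
          rfl
        have hs : Function.Surjective ((Hoch.d K A V m).rangeRestrict.baseChange R) := by
          rw [LinearMap.baseChange_eq_ltensor]
          exact LinearMap.lTensor_surjective R (LinearMap.surjective_rangeRestrict _)
        rw [hcomp, LinearMap.range_comp_of_range_eq_top _ (LinearMap.range_eq_top.2 hs)]
      rw [hr]
      constructor
      · rintro ⟨y', hy'⟩
        obtain ⟨y, rfl⟩ := (hbij m).2 y'
        rw [← hd m y] at hy'
        exact ⟨y, (hbij (m + 1)).1 hy'⟩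
      · rintro ⟨y, rfl⟩
        exact ⟨φ m y, (hd m y).symm⟩
  exact exists_subquot_equiv K R (Hoch.cocycles K A V n) (Hoch.coboundaries K A V n)
    (Hoch.cocycles R (R ⊗[K] A) (R ⊗[K] V) n) (Hoch.coboundaries R (R ⊗[K] A) (R ⊗[K] V) n)
    (φ n) hZ hB (fun z' _ => (hbij n).2 z')

end Groth.Agent.S19275
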