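-- Statement S19288; see the milestone table for weights.
import Groth.Statements.S19288
import Mathlib

set_option autoImplicit false
universe u
open CategoryTheory CategoryTheory.Limits MonoidalCategory CartesianMonoidalCategory MonObj AlgebraicGeometry
open AbSch

namespace Groth.Agent.S19288

/-- Let S be a scheme, X a commutative S-group scheme which is etale and separated over S (hence locally
of finite presentation), and P a commutative S-group scheme of finite presentation over S all of
whose fibres are connected. Then every homomorphism of S-group schemes from P to X is trivial (it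
factors through the unit section). -/
theorem result {S : Scheme.{u}} (P X : Over S)
    [GrpObj P] [IsCommMonObj P] [GrpObj X] [IsCommMonObj X]
    [Etale X.hom] [IsSeparated X.hom]
    [QuasiCompact P.hom] [QuasiSeparated P.hom] [LocallyOfFinitePresentation P.hom]
    (hP : ∀ s : S, ConnectedSpace ↥(P.hom.fiber s))
    (f : P ⟶ X) [IsMonHom f] : f = 1 := by
  -- the unit sections
  set e : S ⟶ X.left := (η[X] : 𝟙_ (Over S) ⟶ X).left with he
  set eP : S ⟶ P.left := (η[P] : 𝟙_ (Over S) ⟶ P).left with heP
  have he_hom : e ≫ X.hom = 𝟙 S := Over.w (η[X] : 𝟙_ (Over S) ⟶ X)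
  have heP_hom : eP ≫ P.hom = 𝟙 S := Over.w (η[P] : 𝟙_ (Over S) ⟶ P)
  have hf_one : eP ≫ f.left = e := by
    have := IsMonHom.one_hom (f := f)
    rw [he, heP, ← Over.comp_left, this]
  -- `e` is an open and closed immersion
  haveI : IsClosedImmersion (e ≫ X.hom) := by rw [he_hom]; infer_instance
  haveI : IsClosedImmersion e := IsClosedImmersion.of_comp e X.hom
  haveI : Etale (e ≫ X.hom) := by rw [he_hom]; infer_instance
  haveI : Etale e := Etale.of_comp e X.hom
  haveI : Mono e := by
    haveI : IsSplitMono e := ⟨⟨⟨X.hom, he_hom⟩⟩⟩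
    infer_instance
  haveI : IsOpenImmersion e := IsOpenImmersion.of_flat_of_mono e
  -- the clopen set
  have hclopen : IsClopen (Set.range e) :=
    ⟨(IsClosedImmersion.base_closed (f := e)).isClosed_range, e.isOpenEmbedding.isOpen_range⟩
  have hpre : IsClopen (f.left ⁻¹' Set.range e) := hclopen.preimage f.left.continuous
  have hall : ∀ p : P.left, f.left p ∈ Set.range e := by
    intro p
    set s : S := P.hom p with hs
    haveI := hP s
    have hcl : IsClopen ((P.hom.fiberι s) ⁻¹' (f.left ⁻¹' Set.range e)) :=
      hpre.preimage (P.hom.fiberι s).continuous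
    have hne : ((P.hom.fiberι s) ⁻¹' (f.left ⁻¹' Set.range e)).Nonempty := by
      have h1 : eP s ∈ Set.range (P.hom.fiberι s) := by
        rw [Scheme.Hom.range_fiberι]
        change P.hom (eP s) = s
        rw [← Scheme.Hom.comp_apply, heP_hom]
        rfl
      obtain ⟨q, hq⟩ := h1
      refine ⟨q, ?_⟩
      change f.left (P.hom.fiberι s q) ∈ Set.range e
      rw [hq, ← Scheme.Hom.comp_apply, hf_one]
      exact ⟨s, rfl⟩
    have huniv := (isClopen_iff.1 hcl).resolve_left hne.ne_empty
    have h2 : p ∈ Set.range (P.hom.fiberι s) := by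
      rw [Scheme.Hom.range_fiberι]
      rfl
    obtain ⟨q, hq⟩ := h2
    have : q ∈ ((P.hom.fiberι s) ⁻¹' (f.left ⁻¹' Set.range e)) := by rw [huniv]; trivial
    rw [← hq]
    exact this
  have hrange : Set.range f.left ⊆ Set.range e := by
    rintro _ ⟨p, rfl⟩
    exact hall p
  set g : P.left ⟶ S := IsOpenImmersion.lift e f.left hrange with hg
  have hfac : g ≫ e = f.left := IsOpenImmersion.lift_fac e f.left hrange
  have hgP : g = P.hom := by
    have h1 : g = (g ≫ e) ≫ X.hom := by rw [Category.assoc, he_hom, Category.comp_id]
    rw [h1, hfac, Over.w f]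
  rw [Hom.one_def]
  apply Over.OverMorphism.ext
  rw [Over.comp_left, Over.toUnit_left, ← hfac, hgP]

end Groth.Agent.S19288
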