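import Groth.Statements.S1929
import Groth.Agent.Lib.Seat9C1Gysin

set_option autoImplicit false
universe u
open CategoryTheory AlgebraicGeometry
open Cyc

namespace Groth.Agent.S1929

/-- Let (L, s, i : D → X) be an invertible module, a global section and the inclusion of its zero
scheme. If a (k + 1)-cycle α on X is rationally equivalent to zero on X, then i^*α is rationally
equivalent to zero on D. Here i : D → X is the zero scheme of a global section s of the invertible
module L (Cyc.IsZeroSchemeOf), the Gysin map i^* : Z_{k+1}(X) → CH_k(D) is computed on coefficient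
functions as c_1(L) ∩ − with the rational sections taken to be s where it is nonzero
(Cyc.gysinChoice) and restricted to the points of D, and classes on D are compared up to rational
equivalence on D for the restricted dimension function. A pair (X, δ) with Cyc.IsSetup plays the
role of a scheme locally of finite type over a base with a dimension function (X locally Noetherian
with universally catenary local rings, δ a dimension function). -/
theorem result (X D : Scheme.{u}) (δ : X → ℤ) (hX : Cyc.IsSetup X δ) (L : X.Modules) (hL : PicF.IsInvertible L) (s : L.presheaf.obj (Opposite.op ⊤)) (i : D ⟶ X) [IsClosedImmersion i] (hD : Cyc.IsZeroSchemeOf i L s) (k : ℤ) (α : AlgebraicCycle X ℤ) (hα : α ∈ Cyc.Zk X δ (k + 1)) (h0 : Cyc.RatEquivZero δ (k + 1) α) (t : (ξ : X) → Cyc.secFibre L ξ) (ht : ∀ ξ, t ξ ≠ 0) (γ : AlgebraicCycle D ℤ) (hγ : ∀ d : D, γ d = Cyc.c1CapFun δ L ⇑α (Cyc.gysinChoice L s t) (i d)) : Cyc.RatEquivZero (fun d => δ (i d)) k γ := by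
  open Groth.Agent.Lib.Seat9.C1Dict Groth.Agent.Lib.Seat32.CycFin in
  classical
  haveI : IsLocallyNoetherian X := hX.1
  have hδ : IsDimFun X δ := hX.2.2
  obtain ⟨ι, ξ, f, hξ, hf0, hlf, hαf⟩ := h0
  have hv := gysinChoice_ne_zero s t ht
  choose g hg0 hg1 hgfin hg using fun j : ι => gysin_fn_point hX hL s t ht (ξ j) (f j) (hf0 j)
  refine ratEquivZero_comap_of_double_family i hX k γ ξ (fun _ => (1 : ℤ)) ?_ g hg0 ?_ ?_ ?_
  · intro j _
    have := hξ j
    omega
  · intro V hV
    refine finite_pairs (fun j z => z ∈ V ∧ (1 : ℤ) ≠ 0 ∧ z ∈ Cod1 δ (ξ j) ∧ g j z ≠ 1)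
      {j | ξ j ∈ V} (finite_family_in_affine ξ hlf hV) ?_ ?_
    · rintro j z ⟨hzV, -, hz, -⟩
      exact hz.1.mem_open V.2 hzV
    · intro j _
      refine (hgfin j V hV).subset ?_
      rintro z ⟨hzV, -, hz, hne⟩
      exact ⟨hzV, hz, hne⟩
  · intro j z hz hne
    by_contra hnr
    apply hne
    apply hg1 j z hz
    intro h0
    apply hnr
    rw [hD.1]
    exact h0
  · intro d
    rw [hγ d]
    obtain ⟨V, hV, hxV, -⟩ := exists_isAffineOpen_mem_and_subset (U := ⊤) (x := i d) (by simp)
    have e0 : (⇑α : X → ℤ) = fun z => ∑ᶠ j, (1 : ℤ) * divFun δ (ξ j) (f j) z := by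
      funext z
      rw [hαf z]
      refine finsum_congr fun j => ?_
      rw [one_mul]
    rw [e0]
    rw [c1CapFun_finsum L (gysinChoice L s t) (fun _ : ι => (1 : ℤ))
      (fun j => divFun δ (ξ j) (f j)) (i d)]
    · refine finsum_congr fun j => ?_
      rw [hg j (i d)]
    · refine finite_pairs (fun j z => (1 : ℤ) ≠ 0 ∧ divFun δ (ξ j) (f j) z ≠ 0 ∧
        secDivFun δ L z (gysinChoice L s t z) (i d) ≠ 0) {j | ξ j ∈ V}
        (finite_family_in_affine ξ hlf hV) ?_ ?_
      · rintro j z ⟨-, h1, h2⟩
        have hzV : z ∈ V := (secDivFun_ne_zero h2).1.mem_open V.2 hxV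
        exact (DivData.divFun_ne_zero h1).1.mem_open V.2 hzV
      · intro j _
        refine (finite_support_divFun_inter hδ (ξ j) (f j) (hf0 j) hV).subset ?_
        rintro z ⟨-, h1, h2⟩
        exact ⟨(secDivFun_ne_zero h2).1.mem_open V.2 hxV, h1⟩

end Groth.Agent.S1929
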