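import Groth.Statements.S19322
import Groth.Agent.Lib.Seat95SpSeqDim
-- import your own Groth.Agent.* helpers here

set_option autoImplicit false
universe v u
open CategoryTheory CategoryTheory.Limits
open SpSeq

namespace Groth.Agent.S19322

open Groth.Agent.Lib.Seat95.SpSeq Groth.Agent.Lib.Seat95.SpSeqDim in
/-- Let K be a field and E a cohomological spectral sequence of K-vector spaces, pages from r₀,
concentrated in the first quadrant on page r₀ and with all terms of page r₀ finite-dimensional, and
let H be abutment data for E whose filtration in degree n is finite, H n finite-dimensional. If the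
dimensions of the page-r₀ terms E^{s, n-s}, 0 ≤ s ≤ n, add up to the dimension of H n, then every
position of total degree n is stationary from page r₀ on: all differentials into and out of it
vanish on every page. (The printed statement takes r₀ a positive integer and n ≥ 0; neither
restriction is needed.) -/
theorem result
    {K : Type u} [Field K] {r₀ : ℤ}
    (E : CohomologicalSpectralSequence (ModuleCat.{v} K) r₀) (H : ℤ → ModuleCat.{v} K)
    (a : SpSeq.Abutment E H) (n : ℤ) (hfin : a.IsFinite n)
    (hquad : ∀ pq : ℤ × ℤ, pq.1 < 0 ∨ pq.2 < 0 → IsZero ((E.page r₀ le_rfl).X pq))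
    (hfd : ∀ pq : ℤ × ℤ, Module.Finite K ((E.page r₀ le_rfl).X pq))
    (hH : Module.Finite K (H n))
    (hsum : ∑ s ∈ Finset.Icc (0 : ℤ) n, Module.finrank K ((E.page r₀ le_rfl).X (s, n - s)) =
      Module.finrank K (H n)) :
    ∀ s : ℤ, SpSeq.StationaryAt E (s, n - s) r₀ := by
  -- positions outside the first quadrant vanish on all pages
  have hz : ∀ pq : ℤ × ℤ, (pq.1 < 0 ∨ pq.2 < 0) → ∀ (r : ℤ) (hr : r₀ ≤ r),
      IsZero ((E.page r hr).X pq) :=
    fun pq h r hr => isZero_of_le E r₀ le_rfl pq (hquad pq h) r hr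
  -- the limit term has the dimension of the graded piece
  have key : ∀ pq : ℤ × ℤ, pq.1 + pq.2 = n →
      Module.finrank K ((E.page (a.rk pq) (a.stat pq).1).X pq) =
        Module.finrank K (SpSeq.grPiece (a.fil n) (a.anti n) pq.1 : ModuleCat.{v} K) := by
    intro pq hpq
    subst hpq
    exact finrank_eq_of_iso (a.β pq)
  -- comparison of the limit term with the first page
  have hle : ∀ pq : ℤ × ℤ,
      Module.finrank K ((E.page (a.rk pq) (a.stat pq).1).X pq) ≤
        Module.finrank K ((E.page r₀ le_rfl).X pq) := fun pq =>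
    haveI := hfd pq
    (pages_le E r₀ le_rfl pq (a.rk pq) (a.stat pq).1).2.1
  have hgr0 : ∀ p : ℤ, p ∉ Finset.Icc (0 : ℤ) n →
      Module.finrank K (SpSeq.grPiece (a.fil n) (a.anti n) p : ModuleCat.{v} K) = 0 := by
    intro p hp
    have hp' : p < 0 ∨ n - p < 0 := by
      simp only [Finset.mem_Icc, not_and_or, not_le] at hp
      lia
    rw [← key (p, n - p) (by simp)]
    exact finrank_eq_zero_of_isZero (hz (p, n - p) hp' _ _)
  have h1 : Module.finrank K (H n) ≤ ∑ p ∈ Finset.Icc (0 : ℤ) n,
      Module.finrank K (SpSeq.grPiece (a.fil n) (a.anti n) p : ModuleCat.{v} K) :=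
    finrank_le_sum_grPiece (a.fil n) (a.anti n) hfin _ hgr0
  have h2 : ∀ p ∈ Finset.Icc (0 : ℤ) n,
      Module.finrank K (SpSeq.grPiece (a.fil n) (a.anti n) p : ModuleCat.{v} K) ≤
        Module.finrank K ((E.page r₀ le_rfl).X (p, n - p)) := by
    intro p _
    rw [← key (p, n - p) (by simp)]
    exact hle (p, n - p)
  have h3 : ∑ p ∈ Finset.Icc (0 : ℤ) n,
      Module.finrank K (SpSeq.grPiece (a.fil n) (a.anti n) p : ModuleCat.{v} K) =
      ∑ p ∈ Finset.Icc (0 : ℤ) n, Module.finrank K ((E.page r₀ le_rfl).X (p, n - p)) :=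
    le_antisymm (Finset.sum_le_sum h2) (hsum ▸ h1)
  have h4 := (Finset.sum_eq_sum_iff_of_le h2).1 h3
  intro s
  refine ⟨le_rfl, fun r' h₀ _ => ?_⟩
  by_cases hs : s ∈ Finset.Icc (0 : ℤ) n
  · have h5 : Module.finrank K ((E.page (a.rk (s, n - s)) (a.stat (s, n - s)).1).X (s, n - s)) =
        Module.finrank K ((E.page r₀ le_rfl).X (s, n - s)) := by
      rw [key (s, n - s) (by simp)]
      exact h4 s hs
    by_cases hr' : r' < a.rk (s, n - s)
    · have := hfd (s, n - s)
      have h6 := (pages_le E r₀ le_rfl (s, n - s) (a.rk (s, n - s)) (a.stat (s, n - s)).1).2.2 h5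
        r' h₀ hr'
      exact ⟨h6.1 _, h6.2 _⟩
    · exact (a.stat (s, n - s)).2 r' h₀ (by lia)
  · have hp' : s < 0 ∨ n - s < 0 := by
      simp only [Finset.mem_Icc, not_and_or, not_le] at hs
      lia
    have hzero := hz (s, n - s) hp' r' h₀
    exact ⟨hzero.eq_of_tgt _ _, hzero.eq_of_src _ _⟩

end Groth.Agent.S19322
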