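import Groth.Statements.S19323
import Groth.Agent.Lib.Seat95SpSeq
-- import your own Groth.Agent.* helpers here

set_option autoImplicit false
universe v u
open CategoryTheory CategoryTheory.Limits
open SpSeq

namespace Groth.Agent.S19323

open Groth.Agent.Lib.Seat95.SpSeq in
/-- Auxiliary induction: on every page `r ≥ 2`, `φ` is a monomorphism at the positions `(a, b)` with
`r ≤ a`, and all the differentials of `E` vanish. -/
theorem aux
    {C : Type u} [Category.{v} C] [Abelian C]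
    (E E' : E₂CohomologicalSpectralSequence C) (φ : E ⟶ E')
    (hE : ∀ pq : ℤ × ℤ, pq.1 < 0 ∨ pq.2 < 0 → IsZero ((E.page 2 le_rfl).X pq))
    (hd' : ∀ (r : ℤ) (hr : 2 ≤ r) (pq : ℤ × ℤ), pq.1 ≠ 0 →
      (E'.page r hr).d pq (pq + (r, 1 - r)) = 0)
    (hφd : ∀ (r : ℤ) (hr : 2 ≤ r) (pq : ℤ × ℤ),
      (φ.hom r hr).f pq ≫ (E'.page r hr).d pq (pq + (r, 1 - r)) = 0)
    (hmono : ∀ pq : ℤ × ℤ, Mono ((φ.hom 2 le_rfl).f pq)) :
    ∀ (r : ℤ) (hr : 2 ≤ r),
      (∀ pq : ℤ × ℤ, r ≤ pq.1 → Mono ((φ.hom r hr).f pq)) ∧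
      (∀ pq pq' : ℤ × ℤ, (E.page r hr).d pq pq' = 0) := by
  -- vanishing of the left half plane on all pages
  have hzero : ∀ (r : ℤ) (hr : 2 ≤ r) (pq : ℤ × ℤ), pq.1 < 0 → IsZero ((E.page r hr).X pq) :=
    fun r hr pq h => isZero_of_le E 2 le_rfl pq (hE pq (Or.inl h)) r hr
  -- differentials vanish as soon as `φ` is mono at the relevant positions
  have hd : ∀ (r : ℤ) (hr : 2 ≤ r), (∀ pq : ℤ × ℤ, r ≤ pq.1 → Mono ((φ.hom r hr).f pq)) →
      ∀ pq pq' : ℤ × ℤ, (E.page r hr).d pq pq' = 0 := by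
    intro r hr hm pq pq'
    by_cases hrel : (ComplexShape.up' ((r, 1 - r) : ℤ × ℤ)).Rel pq pq'
    · have hpq' : pq + (r, 1 - r) = pq' := hrel
      subst hpq'
      by_cases hneg : pq.1 < 0
      · exact (hzero r hr pq hneg).eq_of_src _ _
      · have : Mono ((φ.hom r hr).f (pq + (r, 1 - r))) := hm _ (by
          simp only [Prod.fst_add]; lia)
        rw [← cancel_mono ((φ.hom r hr).f (pq + (r, 1 - r))), zero_comp,
          ← (φ.hom r hr).comm pq (pq + (r, 1 - r))]
        exact hφd r hr pq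
    · exact (E.page r hr).shape pq pq' hrel
  intro r hr
  induction r, hr using Int.leInduction with
  | base =>
    exact ⟨fun pq _ => hmono pq, hd 2 le_rfl (fun pq _ => hmono pq)⟩
  | succ k hk ih =>
    obtain ⟨ihm, ihd⟩ := ih
    have hm : ∀ pq : ℤ × ℤ, k + 1 ≤ pq.1 → Mono ((φ.hom (k + 1) (by lia)).f pq) := by
      intro pq hpq
      have : Mono ((φ.hom k hk).f pq) := ihm pq (by lia)
      have hK : (E.page k hk).d ((ComplexShape.up' ((k, 1 - k) : ℤ × ℤ)).prev pq) pq = 0 := ihd _ _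
      have hK' : (E'.page k hk).d ((ComplexShape.up' ((k, 1 - k) : ℤ × ℤ)).prev pq) pq = 0 := by
        by_cases hrel : (ComplexShape.up' ((k, 1 - k) : ℤ × ℤ)).Rel
            ((ComplexShape.up' ((k, 1 - k) : ℤ × ℤ)).prev pq) pq
        · have h1 : (ComplexShape.up' ((k, 1 - k) : ℤ × ℤ)).prev pq + (k, 1 - k) = pq := hrel
          have h2 := hd' k hk ((ComplexShape.up' ((k, 1 - k) : ℤ × ℤ)).prev pq) (by
            have h3 := congrArg Prod.fst h1
            simp only [Prod.fst_add] at h3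
            lia)
          rw [h1] at h2
          exact h2
        · exact (E'.page k hk).shape _ _ hrel
      have := mono_homologyMap_of_d_to_eq_zero (φ.hom k hk) pq hK hK'
      rw [hom_next_eq φ k (k + 1) pq rfl hk]
      infer_instance
    exact ⟨hm, hd (k + 1) (by lia) hm⟩

/-- In an abelian category let E and E' be first-quadrant E₂ cohomological spectral sequences and φ : E
⟶ E' a morphism of spectral sequences such that (i) every differential of E' leaving a position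
whose first coordinate is nonzero vanishes, (ii) on every page the map φ at each position followed
by the outgoing differential of E' is zero, and (iii) φ is a monomorphism at every position of page
2. Then E degenerates at page 2. -/
theorem result
    {C : Type u} [Category.{v} C] [Abelian C]
    (E E' : E₂CohomologicalSpectralSequence C) (φ : E ⟶ E')
    (hE : ∀ pq : ℤ × ℤ, pq.1 < 0 ∨ pq.2 < 0 → IsZero ((E.page 2 le_rfl).X pq))
    (hE' : ∀ pq : ℤ × ℤ, pq.1 < 0 ∨ pq.2 < 0 → IsZero ((E'.page 2 le_rfl).X pq))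
    (hd' : ∀ (r : ℤ) (hr : 2 ≤ r) (pq : ℤ × ℤ), pq.1 ≠ 0 →
      (E'.page r hr).d pq (pq + (r, 1 - r)) = 0)
    (hφd : ∀ (r : ℤ) (hr : 2 ≤ r) (pq : ℤ × ℤ),
      (φ.hom r hr).f pq ≫ (E'.page r hr).d pq (pq + (r, 1 - r)) = 0)
    (hmono : ∀ pq : ℤ × ℤ, Mono ((φ.hom 2 le_rfl).f pq)) :
    SpSeq.Degenerates E 2 := by
  refine ⟨le_rfl, fun r' h₀ _ pq pq' => ?_⟩
  exact (aux E E' φ hE hd' hφd hmono r' h₀).2 pq pq'

end Groth.Agent.S19323
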