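import Groth.Statements.S19329
import Groth.Agent.Lib.Seat95MinLocus

set_option autoImplicit false
universe u
open CategoryTheory CategoryTheory.Limits AlgebraicGeometry TopologicalSpace
open ModPair

namespace Groth.Agent.S19329

open nonZeroDivisors Groth.Agent.Lib.Seat95.EffCartierRes Groth.Agent.Lib.Helper20.EffCartier
  Groth.Agent.Lib.Seat95.MinLocus

/-- local data: around any point, `J = (b)`, `K.comap g = (k)` and `b = k * c`. -/
theorem exists_local_data {Y Z : Scheme.{u}} (J : Y.IdealSheafData) (K : Z.IdealSheafData)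
    (hJ : BlowUp.IsEffCartierIdeal J) (hK : BlowUp.IsEffCartierIdeal K) (g : Y ⟶ Z)
    (hg : J ≤ K.comap g) (y : Y) :
    ∃ (V : Y.Opens) (hV : IsAffineOpen V), y ∈ V ∧ ∃ b k c : Γ(Y, V), b ∈ Γ(Y, V)⁰ ∧
      J.ideal ⟨V, hV⟩ = Ideal.span {b} ∧ (K.comap g).ideal ⟨V, hV⟩ = Ideal.span {k} ∧
      b = k * c := by
  obtain ⟨⟨W, hW⟩, hyW, κ, -, hκ⟩ := hK (g y)
  obtain ⟨V, hV, hyV, hVW, b, hb0, hb⟩ :=
    exists_le_of_isEffCartierIdeal hJ y (g ⁻¹ᵁ W) hyW
  have hk : (K.comap g).ideal ⟨V, hV⟩ = Ideal.span {(g.appLE W V hVW).hom κ} := by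
    rw [ideal_comap_eq_map g K hV hW hVW, hκ, Ideal.map_span, Set.image_singleton]
  have hbk : b ∈ Ideal.span {(g.appLE W V hVW).hom κ} := by
    rw [← hk]
    exact hg ⟨V, hV⟩ (hb ▸ Ideal.subset_span rfl)
  obtain ⟨c, hc⟩ := Ideal.mem_span_singleton'.mp hbk
  exact ⟨V, hV, hyV, b, _, c, hb0, hb, hk, by rw [← hc, mul_comm]⟩

set_option backward.isDefEq.respectTransparency.types false in
theorem quasiCompact_eqLocus_ι {Y Z : Scheme.{u}} (J : Y.IdealSheafData) (K : Z.IdealSheafData)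
    (hJ : BlowUp.IsEffCartierIdeal J) (hK : BlowUp.IsEffCartierIdeal K) (g : Y ⟶ Z)
    (hg : J ≤ K.comap g) : QuasiCompact (eqLocus J (K.comap g)).ι := by
  set O := eqLocus J (K.comap g) with hO
  let T : Type u := {V : Y.affineOpens // ∃ b k c : Γ(Y, V.1), b ∈ Γ(Y, V.1)⁰ ∧
      J.ideal V = Ideal.span {b} ∧ (K.comap g).ideal V = Ideal.span {k} ∧ b = k * c}
  apply HasAffineProperty.of_iSup_eq_top (P := @QuasiCompact) (fun j : T => j.1)
  · rw [eq_top_iff]
    intro y _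
    obtain ⟨V, hV, hyV, b, k, c, hb0, hb, hk, hbk⟩ := exists_local_data J K hJ hK g hg y
    exact TopologicalSpace.Opens.mem_iSup.mpr ⟨⟨⟨V, hV⟩, b, k, c, hb0, hb, hk, hbk⟩, hyV⟩
  · rintro ⟨⟨V, hV⟩, b, k, c, hb0, hb, hk, hbk⟩
    show CompactSpace _
    have h1 : O ⊓ V = Y.basicOpen c := eqLocus_inf_eq_basicOpen hV hb0 hb hk hbk
    have h2 : IsCompact ((O ⊓ V : Y.Opens) : Set Y) := by
      rw [h1]
      exact (hV.basicOpen _).isCompact
    have h3 : IsCompact ((O.ι ⁻¹ᵁ V : O.toScheme.Opens) : Set O.toScheme) := by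
      rw [O.ι.isOpenEmbedding.isInducing.isCompact_iff]
      have : (O.ι : O.toScheme → Y) '' ((O.ι ⁻¹ᵁ V : O.toScheme.Opens) : Set O.toScheme) =
          ((O ⊓ V : Y.Opens) : Set Y) := by
        show (O.ι : O.toScheme → Y) '' ((O.ι : O.toScheme → Y) ⁻¹' (V : Set Y)) = _
        rw [Set.image_preimage_eq_inter_range, Scheme.Opens.range_ι, Set.inter_comm]
        rfl
      rw [this]
      exact h2
    exact isCompact_iff_compactSpace.mp h3

/-- two ideal sheaves have the same pullback to the open where they agree -/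
theorem comap_eqLocus_ι {Y : Scheme.{u}} (J J' : Y.IdealSheafData) :
    J.comap (eqLocus J J').ι = J'.comap (eqLocus J J').ι := by
  set O := eqLocus J J' with hO
  let T : Type u := {p : O.toScheme.affineOpens × Y.affineOpens //
    p.1.1 ≤ O.ι ⁻¹ᵁ p.2.1 ∧ J.ideal p.2 = J'.ideal p.2}
  apply Scheme.IdealSheafData.ext_of_iSup_eq_top (fun j : T => j.1.1)
  · rw [eq_top_iff]
    intro u _
    obtain ⟨V, huV, hV⟩ := mem_eqLocus.mp u.2
    obtain ⟨_, ⟨V', hV', rfl⟩, huV', hV'le⟩ :=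
      O.toScheme.isBasis_affineOpens.exists_subset_of_mem_open
        (show u ∈ ((O.ι ⁻¹ᵁ V.1 : O.toScheme.Opens) : Set O.toScheme) from huV)
        (O.ι ⁻¹ᵁ V.1).isOpen
    exact TopologicalSpace.Opens.mem_iSup.mpr ⟨⟨(⟨V', hV'⟩, V), hV'le, hV⟩, huV'⟩
  · rintro ⟨⟨⟨V', hV'⟩, ⟨V, hV⟩⟩, hle, heq⟩
    show (J.comap O.ι).ideal ⟨V', hV'⟩ = (J'.comap O.ι).ideal ⟨V', hV'⟩
    rw [ideal_comap_eq_map O.ι J hV' hV hle, ideal_comap_eq_map O.ι J' hV' hV hle]
    exact congrArg _ heq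

/-- Let (X, I), (Y, J), (Z, K) be modulus pairs, i.e. schemes with quasi-coherent ideal sheaves of
effective Cartier divisors, and let f : X ⟶ Y and g : Y ⟶ Z satisfy the modulus conditions I ≤
J.comap f and J ≤ K.comap g. Suppose the composite X ⟶ Z is minimal, I = K.comap (f ≫ g). Then f is
minimal, and there is an open subset U of Y whose inclusion is quasi-compact, which contains the
image of f, and such that U ⟶ Z is minimal for the modulus of Y restricted to U. -/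
theorem result {X Y Z : Scheme.{u}}
    (I : X.IdealSheafData) (J : Y.IdealSheafData) (K : Z.IdealSheafData)
    (hI : BlowUp.IsEffCartierIdeal I) (hJ : BlowUp.IsEffCartierIdeal J)
    (hK : BlowUp.IsEffCartierIdeal K) (f : X ⟶ Y) (g : Y ⟶ Z)
    (hf : ModPair.IsAmbient I J f) (hg : ModPair.IsAmbient J K g)
    (hfg : ModPair.IsMinimal I K (f ≫ g)) :
    ModPair.IsMinimal I J f ∧
      ∃ U : Y.Opens, QuasiCompact U.ι ∧ Set.range f.base ⊆ (U : Set Y) ∧
        ModPair.IsMinimal (J.comap U.ι) K (U.ι ≫ g) := by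
  have hfg' : I = (K.comap g).comap f := by
    rw [← Scheme.IdealSheafData.comap_comp]; exact hfg
  have hmin : I = J.comap f := by
    apply le_antisymm hf
    rw [hfg']
    exact Scheme.IdealSheafData.comap_mono f hg
  refine ⟨hmin, eqLocus J (K.comap g), quasiCompact_eqLocus_ι J K hJ hK g hg, ?_, ?_⟩
  · rintro _ ⟨x, rfl⟩
    show f x ∈ eqLocus J (K.comap g)
    obtain ⟨V, hV, hyV, b, k, c, hb0, hb, hk, hbk⟩ := exists_local_data J K hJ hK g hg (f x)
    obtain ⟨V', hV', hxV', hV'V, a, ha0, ha⟩ :=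
      exists_le_of_isEffCartierIdeal hI x (f ⁻¹ᵁ V) hyV
    -- the two pulled back ideals on `V'`
    have h1 : Ideal.span {(f.appLE V V' hV'V).hom b} = Ideal.span {a} := by
      rw [← ha, hmin, ideal_comap_eq_map f J hV' hV hV'V, hb, Ideal.map_span,
        Set.image_singleton]
    have h2 : Ideal.span {(f.appLE V V' hV'V).hom k} = Ideal.span {a} := by
      rw [← ha, hfg', ideal_comap_eq_map f (K.comap g) hV' hV hV'V, hk, Ideal.map_span,
        Set.image_singleton]
    have hβ := mem_nonZeroDivisors_of_span_eq ha0 h1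
    have hcu : IsUnit ((f.appLE V V' hV'V).hom c) :=
      isUnit_of_span_eq hβ (by rw [hbk, map_mul]) (h1.trans h2.symm)
    -- hence `x` lies in the preimage of the basic open of `c`
    have h3 : X.basicOpen ((f.appLE V V' hV'V).hom c) = V' ⊓ f ⁻¹ᵁ (Y.basicOpen c) := by
      rw [Scheme.preimage_basicOpen]
      exact Scheme.basicOpen_res X ((f.app V).hom c) (homOfLE hV'V).op
    rw [Scheme.basicOpen_of_isUnit _ hcu] at h3
    have hx : x ∈ V' ⊓ f ⁻¹ᵁ (Y.basicOpen c) := h3 ▸ hxV'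
    have hfx : f x ∈ Y.basicOpen c := hx.2
    have h4 := eqLocus_inf_eq_basicOpen hV hb0 hb hk hbk
    have : f x ∈ eqLocus J (K.comap g) ⊓ V := h4 ▸ hfx
    exact this.1
  · show J.comap (eqLocus J (K.comap g)).ι = K.comap ((eqLocus J (K.comap g)).ι ≫ g)
    rw [Scheme.IdealSheafData.comap_comp]
    exact comap_eqLocus_ι J (K.comap g)

end Groth.Agent.S19329
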