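import Groth.Statements.S19330
import Groth.Agent.Lib.Seat95SchImage
import Groth.Agent.S18732

set_option autoImplicit false
universe u
open CategoryTheory CategoryTheory.Limits AlgebraicGeometry TopologicalSpace
open ModPair

namespace Groth.Agent.S19330

open Groth.Agent.Lib.Seat95.SchImage

/-- Let (S, I) be a modulus pair, i.e. a scheme with the quasi-coherent ideal sheaf of an effective
Cartier divisor, with interior U, and let g_i : V_i ⟶ U be a jointly surjective family of closed
immersions into the interior. Let V̄_i be the scheme-theoretic image of V_i ⟶ U ⟶ S. Then the closed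
immersions V̄_i ⟶ S are jointly surjective, the modulus restricted to each V̄_i is again the ideal
sheaf of an effective Cartier divisor (so that V̄_i ⟶ S is a minimal morphism of modulus pairs), and
the interior of V̄_i is V_i: the canonical morphism V_i ⟶ V̄_i is an open immersion whose image is
the preimage of U. -/
theorem result {S : Scheme.{u}} (I : S.IdealSheafData)
    (hI : BlowUp.IsEffCartierIdeal I) {ι : Type u} (V : ι → Scheme.{u})
    (g : ∀ i, V i ⟶ (ModPair.interior I : Scheme.{u})) [∀ i, IsClosedImmersion (g i)]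
    (hsurj : ∀ u : (ModPair.interior I : Scheme.{u}), ∃ (i : ι) (v : V i), (g i).base v = u) :
    (∀ s : S, ∃ (i : ι) (v : (g i ≫ (ModPair.interior I).ι).image),
        (g i ≫ (ModPair.interior I).ι).imageι.base v = s) ∧
      (∀ i, BlowUp.IsEffCartierIdeal (I.comap (g i ≫ (ModPair.interior I).ι).imageι)) ∧
      ∀ i, IsOpenImmersion (g i ≫ (ModPair.interior I).ι).toImage ∧
        Set.range (g i ≫ (ModPair.interior I).ι).toImage.base =
          (g i ≫ (ModPair.interior I).ι).imageι.base ⁻¹' (ModPair.interior I : Set S) := by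
  haveI hqc : QuasiCompact (ModPair.interior I).ι :=
    Groth.Agent.S18732.quasiCompact_ι I hI (𝟙 S)
  have hpb : ∀ i, IsPullback (g i) (g i ≫ (ModPair.interior I).ι).toImage (ModPair.interior I).ι (g i ≫ (ModPair.interior I).ι).imageι :=
    fun i => isPullback_toImage (ModPair.interior I) (g i)
  have hopen : ∀ i, IsOpenImmersion (g i ≫ (ModPair.interior I).ι).toImage :=
    fun i => MorphismProperty.of_isPullback (hpb i) inferInstance
  have hrange : ∀ i, Set.range (g i ≫ (ModPair.interior I).ι).toImage.base =
      (g i ≫ (ModPair.interior I).ι).imageι.base ⁻¹' (ModPair.interior I : Set S) := by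
    intro i
    ext w
    constructor
    · rintro ⟨v, rfl⟩
      show (g i ≫ (ModPair.interior I).ι).imageι ((g i ≫ (ModPair.interior I).ι).toImage v) ∈ ModPair.interior I
      rw [← Scheme.Hom.comp_apply, Scheme.Hom.toImage_imageι, Scheme.Hom.comp_apply]
      exact (g i v).2
    · intro hw
      have hw' : (g i ≫ (ModPair.interior I).ι).imageι w ∈ ModPair.interior I := hw
      obtain ⟨z, hz1, hz2⟩ := Scheme.Pullback.exists_preimage_pullback
        (f := (ModPair.interior I).ι) (g := (g i ≫ (ModPair.interior I).ι).imageι) ⟨_, hw'⟩ w rfl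
      refine ⟨(hpb i).isoPullback.inv z, ?_⟩
      show ((hpb i).isoPullback.inv ≫ (g i ≫ (ModPair.interior I).ι).toImage) z = w
      rw [(hpb i).isoPullback_inv_snd]
      exact hz2
  refine ⟨?_, ?_, fun i => ⟨hopen i, hrange i⟩⟩
  · intro s
    obtain ⟨u, huU, hus⟩ := exists_specializes_interior I hI s
    obtain ⟨i, v, hv⟩ := hsurj ⟨u, huU⟩
    refine ⟨i, ?_⟩
    have h1 : s ∈ closure (Set.range (g i ≫ (ModPair.interior I).ι)) := by
      have h2 : s ∈ closure ({u} : Set S) := specializes_iff_mem_closure.mp hus
      refine closure_mono ?_ h2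
      rintro x (hx : x = u)
      rw [hx]
      refine ⟨v, ?_⟩
      rw [Scheme.Hom.comp_apply]
      have : (g i) v = ⟨u, huU⟩ := hv
      rw [this]
      rfl
    rw [← Scheme.Hom.support_ker, ← Scheme.IdealSheafData.range_subschemeι] at h1
    obtain ⟨w, hw⟩ := h1
    exact ⟨w, hw⟩
  · intro i
    -- the preimage of the interior is scheme-theoretically dense in the closure
    haveI := hopen i
    have hle : ((g i ≫ (ModPair.interior I).ι).toImage).opensRange ≤ (g i ≫ (ModPair.interior I).ι).imageι ⁻¹ᵁ ModPair.interior I := by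
      intro w hw
      have : w ∈ Set.range (g i ≫ (ModPair.interior I).ι).toImage.base := hw
      rw [hrange i] at this
      exact this
    haveI hdom : IsSchemeTheoreticallyDominant ((g i ≫ (ModPair.interior I).ι).imageι ⁻¹ᵁ ModPair.interior I).ι := by
      rw [isSchemeTheoreticallyDominant_iff, eq_bot_iff]
      have hfac : IsOpenImmersion.lift ((g i ≫ (ModPair.interior I).ι).imageι ⁻¹ᵁ ModPair.interior I).ι (g i ≫ (ModPair.interior I).ι).toImage
          (by
            rw [Scheme.Opens.range_ι]
            rintro _ ⟨v, rfl⟩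
            exact hle ⟨v, rfl⟩) ≫ ((g i ≫ (ModPair.interior I).ι).imageι ⁻¹ᵁ ModPair.interior I).ι = (g i ≫ (ModPair.interior I).ι).toImage :=
        IsOpenImmersion.lift_fac _ _ _
      have h2 := Scheme.Hom.le_ker_comp (IsOpenImmersion.lift ((g i ≫ (ModPair.interior I).ι).imageι ⁻¹ᵁ ModPair.interior I).ι
        (g i ≫ (ModPair.interior I).ι).toImage (by
            rw [Scheme.Opens.range_ι]
            rintro _ ⟨v, rfl⟩
            exact hle ⟨v, rfl⟩)) ((g i ≫ (ModPair.interior I).ι).imageι ⁻¹ᵁ ModPair.interior I).ι
      rw [hfac, ker_toImage_eq_bot] at h2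
      exact h2
    exact (Groth.Agent.S18732.result I hI (g i ≫ (ModPair.interior I).ι).imageι).2

end Groth.Agent.S19330
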