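import Groth.Statements.S19334
import Groth.Agent.Lib.Seat95ValRing
import Groth.Agent.Lib.Seat95ValPt

set_option autoImplicit false
universe u
open CategoryTheory CategoryTheory.Limits AlgebraicGeometry TopologicalSpace
open ModPair

namespace Groth.Agent.S19334

open Groth.Agent.Lib.Seat95.ValRing Groth.Agent.Lib.Seat95.ValPt

/-- Let (X, I) be a modulus pair, i.e. a scheme X with the quasi-coherent ideal sheaf I of an effective
Cartier divisor. Suppose that for every valuation ring R and every morphism p : Spec R ⟶ X along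
which the divisor of I pulls back to an effective Cartier divisor on Spec R (so that p is a minimal
morphism of modulus pairs for the pulled-back modulus), the pulled-back divisor is empty, I.comap p
= ⊤. Then the divisor of I is empty: I = ⊤. -/
theorem result {X : Scheme.{u}}
    (I : X.IdealSheafData) (hI : BlowUp.IsEffCartierIdeal I)
    (h : ∀ (R : Type u) [CommRing R] [IsDomain R] [ValuationRing R]
      (p : Spec (CommRingCat.of R) ⟶ X), BlowUp.IsEffCartierIdeal (I.comap p) → I.comap p = ⊤) :
    I = ⊤ := by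
  let J : Type u := {U : X.affineOpens // ∃ a : Γ(X, U.1), a ∈ nonZeroDivisors Γ(X, U.1) ∧
    I.ideal U = Ideal.span {a}}
  apply Scheme.IdealSheafData.ext_of_iSup_eq_top (fun j : J => j.1)
  · rw [eq_top_iff]
    intro x _
    obtain ⟨U, hxU, a, ha0, ha⟩ := hI x
    exact TopologicalSpace.Opens.mem_iSup.mpr ⟨⟨U, a, ha0, ha⟩, hxU⟩
  · rintro ⟨⟨U, hU⟩, a, ha0, ha⟩
    show I.ideal ⟨U, hU⟩ = ⊤
    by_contra hne
    obtain ⟨𝔪, h𝔪, hle⟩ := Ideal.exists_le_maximal _ hne
    haveI : 𝔪.IsPrime := h𝔪.isPrime
    have ha𝔪 : a ∈ 𝔪 := hle (ha ▸ Ideal.subset_span rfl)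
    obtain ⟨R, iC, iD, iV, φ, hφa, hφ⟩ := exists_valuationRing_map Γ(X, U) 𝔪 a ha0
    have hc : BlowUp.IsEffCartierIdeal (I.comap (specPt hU φ)) :=
      isEffCartier_comap_specPt hU I φ a ha hφa
    have htop := h R (specPt hU φ) hc
    rw [comap_specPt_eq_top_iff, ha, Ideal.map_span, Set.image_singleton,
      Ideal.span_singleton_eq_top] at htop
    exact hφ a ha𝔪 htop

end Groth.Agent.S19334
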