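import Groth.Statements.S19335
import Groth.Agent.Lib.Seat95ValRing
import Groth.Agent.Lib.Seat95ValPt
import Groth.Agent.Lib.Seat95EffCartierRes

set_option autoImplicit false
universe u
open CategoryTheory CategoryTheory.Limits AlgebraicGeometry TopologicalSpace
open ModPair

namespace Groth.Agent.S19335

open Groth.Agent.Lib.Seat95.ValRing Groth.Agent.Lib.Seat95.ValPt
  Groth.Agent.Lib.Seat95.EffCartierRes

/-- Let X be a scheme and I, J quasi-coherent ideal sheaves of effective Cartier divisors D_I ≤ D_J on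
X, i.e. J ≤ I. Suppose that for every valuation ring R and every morphism p : Spec R ⟶ X such that
I.comap p is the ideal sheaf of an effective Cartier divisor on Spec R (so p is a minimal morphism
of modulus pairs for (X, I)) whose open complement consists of the generic point of Spec R only, the
two divisors agree after pull-back, I.comap p = J.comap p. Then I = J. -/
theorem result {X : Scheme.{u}} (I J : X.IdealSheafData)
    (hI : BlowUp.IsEffCartierIdeal I) (hJ : BlowUp.IsEffCartierIdeal J) (hJI : J ≤ I)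
    (h : ∀ (R : Type u) [CommRing R] [IsDomain R] [ValuationRing R]
      (p : Spec (CommRingCat.of R) ⟶ X), BlowUp.IsEffCartierIdeal (I.comap p) →
        (∀ x : Spec (CommRingCat.of R),
          x ∈ (ModPair.interior (I.comap p) : Set (Spec (CommRingCat.of R))) ↔ x.asIdeal = ⊥) →
        I.comap p = J.comap p) :
    I = J := by
  let T : Type u := {U : X.affineOpens // ∃ a b : Γ(X, U.1), a ∈ nonZeroDivisors Γ(X, U.1) ∧
    b ∈ nonZeroDivisors Γ(X, U.1) ∧ I.ideal U = Ideal.span {a} ∧ J.ideal U = Ideal.span {b}}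
  apply Scheme.IdealSheafData.ext_of_iSup_eq_top (fun j : T => j.1)
  · rw [eq_top_iff]
    intro x _
    obtain ⟨U, hU, hxU, a, b, ha0, hb0, ha, hb⟩ := exists_common_affine hI hJ x
    exact TopologicalSpace.Opens.mem_iSup.mpr ⟨⟨⟨U, hU⟩, a, b, ha0, hb0, ha, hb⟩, hxU⟩
  · rintro ⟨⟨U, hU⟩, a, b, ha0, hb0, ha, hb⟩
    show I.ideal ⟨U, hU⟩ = J.ideal ⟨U, hU⟩
    -- `b = a * c`
    have hba : b ∈ Ideal.span {a} := by
      rw [← ha]
      exact hJI ⟨U, hU⟩ (hb ▸ Ideal.subset_span rfl)
    obtain ⟨c, hc⟩ := Ideal.mem_span_singleton'.mp hba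
    have hac : a * c ∈ nonZeroDivisors Γ(X, U) := by rw [mul_comm, hc]; exact hb0
    -- it suffices that `c` is a unit
    suffices hcu : IsUnit c by
      rw [ha, hb, ← hc, mul_comm]
      exact (Ideal.span_singleton_mul_right_unit hcu a).symm
    by_contra hcu
    obtain ⟨𝔪, h𝔪, hle⟩ := Ideal.exists_le_maximal (Ideal.span {c})
      (by rwa [Ne, Ideal.span_singleton_eq_top])
    haveI : 𝔪.IsPrime := h𝔪.isPrime
    have hc𝔪 : c ∈ 𝔪 := hle (Ideal.subset_span rfl)
    obtain ⟨R, iC, iD, iV, φ, hφa, hφP, hφc⟩ :=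
      exists_valuationRing_map_rankOne Γ(X, U) 𝔪 a c hac hc𝔪
    have hcart : BlowUp.IsEffCartierIdeal (I.comap (specPt hU φ)) :=
      isEffCartier_comap_specPt hU I φ a ha hφa
    have hint : ∀ x : Spec (CommRingCat.of R),
        x ∈ (ModPair.interior (I.comap (specPt hU φ)) : Set (Spec (CommRingCat.of R))) ↔
          x.asIdeal = ⊥ := by
      intro x
      rw [mem_interior_comap_specPt hU I φ a ha x]
      exact hφP x.asIdeal x.isPrime
    have heq := h R (specPt hU φ) hcart hint
    rw [comap_specPt_eq_iff, ha, hb, Ideal.map_span, Set.image_singleton, Ideal.map_span,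
      Set.image_singleton, ← hc, map_mul] at heq
    -- `φ a ∈ (φ c * φ a)` so `φ c` is a unit
    have h1 : φ a ∈ Ideal.span {φ c * φ a} := heq ▸ Ideal.subset_span rfl
    obtain ⟨z, hz⟩ := Ideal.mem_span_singleton'.mp h1
    have h2 : φ a * (z * φ c) = φ a * 1 := by
      calc φ a * (z * φ c) = z * (φ c * φ a) := by ring
        _ = φ a := hz
        _ = φ a * 1 := (mul_one _).symm
    have h3 := mul_left_cancel₀ hφa h2
    exact hφc (IsUnit.of_mul_eq_one z (by rw [mul_comm]; exact h3))

end Groth.Agent.S19335
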