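import Groth.Statements.S19336
import Groth.Agent.Lib.Seat82AdmSeparate
import Groth.Agent.Lib.Seat82BlowUpSeparate2
import Groth.Agent.Lib.Seat82BlowUpExists
import Groth.Agent.Lib.Seat82CartierCompl
import Groth.Agent.Lib.Helper20BlowUp

set_option autoImplicit false
universe u
open CategoryTheory CategoryTheory.Limits AlgebraicGeometry TopologicalSpace
open ModPair

namespace Groth.Agent.S19336

/-- Let (S, I) be a modulus pair, i.e. a scheme S with the quasi-coherent ideal sheaf I of an effective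
Cartier divisor, with S quasi-compact and quasi-separated and with interior U, and let (V_i) be a
covering of U by quasi-compact open subsets. Then there are a quasi-coherent ideal sheaf F of finite
type on S whose support is disjoint from U, a blow-up b : Y ⟶ S of S in F (an admissible blow-up)
such that I.comap b is again the ideal sheaf of an effective Cartier divisor, and a covering of Y by
quasi-compact open subsets W_j such that each W_j ∩ b⁻¹(U) is contained in b⁻¹(V_i) for some i: the
Zariski covering of the interior extends, after an admissible blow-up, to a Zariski covering of the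
total space. -/
theorem result {S : Scheme.{u}}
    [CompactSpace S] [QuasiSeparatedSpace S] (I : S.IdealSheafData)
    (hI : BlowUp.IsEffCartierIdeal I) {ι : Type u} (V : ι → S.Opens)
    (hVU : ∀ i, V i ≤ ModPair.interior I) (hVqc : ∀ i, IsCompact (V i : Set S))
    (hcov : ModPair.interior I ≤ ⨆ i, V i) :
    ∃ (F : S.IdealSheafData) (Y : Scheme.{u}) (b : Y ⟶ S) (κ : Type u) (W : κ → Y.Opens),
      BlowUp.IsAdmissibleFor (ModPair.interior I) F ∧ BlowUp.IsBlowUp b F ∧
        BlowUp.IsEffCartierIdeal (I.comap b) ∧ (∀ k, IsCompact (W k : Set Y)) ∧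
        (⨆ k, W k) = ⊤ ∧ ∀ k, ∃ i, W k ⊓ b ⁻¹ᵁ ModPair.interior I ≤ b ⁻¹ᵁ V i := by
  open Groth.Agent.Lib.Seat82 AlgebraicGeometry.Scheme.IdealSheafData TopologicalSpace in
  classical
  set U₀ : S.Opens := ModPair.interior I with hU₀
  have hcoe : (U₀ : Set S) = (I.support : Set S)ᶜ := rfl
  -- the interior is quasi-compact
  have hUc : IsCompact (U₀ : Set S) := by
    have : IsAffineHom U₀.ι := CartierCompl.isAffineHom_ι hI hcoe
    have : CompactSpace U₀.toScheme := QuasiCompact.compactSpace_of_compactSpace U₀.ι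
    exact isCompact_iff_compactSpace.mpr this
  obtain ⟨t, ht⟩ := hUc.elim_finite_subcover (fun i => (V i : Set S)) (fun i => (V i).2)
    (fun x hx => by
      have := hcov hx
      rw [Opens.mem_iSup] at this
      obtain ⟨i, hi⟩ := this
      exact Set.mem_iUnion.2 ⟨i, hi⟩)
  have hF : ∀ i, ∃ 𝓕 : S.IdealSheafData, BlowUp.IsFiniteTypeIdeal 𝓕 ∧
      (𝓕.support : Set S) = (V i : Set S)ᶜ := fun i =>
    AdmSeparate.exists_ft_support_eq (V i : Set S)ᶜ (V i).2.isClosed_compl
      (by rw [compl_compl]; exact hVqc i)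
  choose F hFft hFsupp using hF
  have hGft : ∀ s : Finset ι, BlowUp.IsFiniteTypeIdeal (s.sup F) := by
    intro s
    induction s using Finset.induction_on with
    | empty => rw [Finset.sup_empty]; exact Groth.Agent.Lib.Helper22.FTIdeal.ft_bot
    | insert a s ha ih =>
      rw [Finset.sup_insert]
      exact Groth.Agent.Lib.Helper22.FTIdeal.FT.sup (hFft a) ih
  have hGd : Disjoint ((t.sup F).support : Set S) (U₀ : Set S) := by
    rw [Set.disjoint_left]
    intro x hxG hxU
    obtain ⟨i, hit, hxi⟩ := Set.mem_iUnion₂.1 (ht hxU)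
    have h1 : x ∈ ((F i).support : Set S) := support_antitone (Finset.le_sup hit) hxG
    rw [hFsupp] at h1
    exact h1 hxi
  obtain ⟨Y, b, hb⟩ := BlowUpExists.exists_isBlowUp S (t.sup F)
  have hsep : ∀ y : Y, ∃ i ∈ t, y ∉ closure (b ⁻¹' ((U₀ : Set S) \ (V i : Set S))) :=
    BlowUpSeparate.exists_notMem_closure_of_sup b t F hb.1 (fun i => (U₀ : Set S) \ (V i : Set S))
      (fun i _ x hx => by rw [hFsupp]; exact hx.2)
      (fun i _ => Set.disjoint_left.2 fun x hx hxG => Set.disjoint_left.1 hGd hxG hx.1)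
  choose i hit hi using hsep
  have hW : ∀ y : Y, ∃ W : Y.Opens, IsAffineOpen W ∧ y ∈ W ∧
      (W : Set Y) ⊆ (closure (b ⁻¹' ((U₀ : Set S) \ (V (i y) : Set S))))ᶜ := by
    intro y
    obtain ⟨W, hW, hyW, hle⟩ := exists_isAffineOpen_mem_and_subset (x := y)
      (U := ⟨(closure (b ⁻¹' ((U₀ : Set S) \ (V (i y) : Set S))))ᶜ, isClosed_closure.isOpen_compl⟩)
      (hi y)
    exact ⟨W, hW, hyW, hle⟩
  choose W hWaff hyW hWle using hW
  refine ⟨t.sup F, Y, b, Y, W, ⟨hGft t, hGd⟩, hb,
    Groth.Agent.Lib.Helper20.BlowUpBasic.isEffCartierIdeal_comap _ b hb I hI,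
    fun y => (hWaff y).isCompact, ?_, fun y => ⟨i y, ?_⟩⟩
  · rw [eq_top_iff]
    intro y _
    exact Opens.mem_iSup.2 ⟨y, hyW y⟩
  · rintro y' ⟨hy'W, hy'U⟩
    by_contra hcon
    exact hWle y hy'W (subset_closure ⟨hy'U, hcon⟩)

end Groth.Agent.S19336
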