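import Groth.Statements.S19341
import Mathlib
import Groth.Agent.S18732
import Groth.Agent.S18743

set_option autoImplicit false
universe u
open CategoryTheory CategoryTheory.Limits AlgebraicGeometry TopologicalSpace
open ModPair

namespace Groth.Agent.S19341

/-- a bigger open than a scheme-theoretically dominant one is scheme-theoretically dominant -/
theorem isSchemeTheoreticallyDominant_of_le {Z : Scheme.{u}} {U V : Z.Opens} (hUV : U ≤ V)
    [hU : IsSchemeTheoreticallyDominant U.ι] : IsSchemeTheoreticallyDominant V.ι := by
  rw [isSchemeTheoreticallyDominant_iff, eq_bot_iff]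
  have h1 : Z.homOfLE hUV ≫ V.ι = U.ι := Z.homOfLE_ι hUV
  have h2 := Scheme.Hom.le_ker_comp (Z.homOfLE hUV) V.ι
  rw [h1, hU.ker_eq_bot] at h2
  exact h2

/-- Let (S, I_S), (X, I_X), (T, I_T) be modulus pairs, i.e. schemes with quasi-coherent ideal sheaves of
effective Cartier divisors, and f : X ⟶ S, g : T ⟶ S morphisms satisfying the modulus conditions I_X
≤ I_S.comap f and I_T ≤ I_S.comap g. Suppose that the pulled-back ideals I_X.comap pr₁ and I_T.comap
pr₂ on X ×_S T are again ideal sheaves of effective Cartier divisors. Then the pulled-back base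
modulus I_S.comap (pr₁ ≫ f) is also the ideal sheaf of an effective Cartier divisor, and the
scheme-theoretic closure of pr₁⁻¹(X°) ∩ pr₂⁻¹(T°) is all of X ×_S T: its closed immersion into X ×_S
T is an isomorphism. Consequently the box product of (X, I_X) and (T, I_T) over (S, I_S) has total
space X ×_S T with modulus D_X + D_T − D_S. -/
theorem result {X T S : Scheme.{u}}
    (IS : S.IdealSheafData) (IX : X.IdealSheafData) (IT : T.IdealSheafData)
    (hS : BlowUp.IsEffCartierIdeal IS) (hX : BlowUp.IsEffCartierIdeal IX)
    (hT : BlowUp.IsEffCartierIdeal IT) (f : X ⟶ S) (g : T ⟶ S)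
    (hf : ModPair.IsAmbient IX IS f) (hg : ModPair.IsAmbient IT IS g)
    (h₁ : BlowUp.IsEffCartierIdeal (IX.comap (pullback.fst f g)))
    (h₂ : BlowUp.IsEffCartierIdeal (IT.comap (pullback.snd f g))) :
    BlowUp.IsEffCartierIdeal (IS.comap (pullback.fst f g ≫ f)) ∧
      IsIso (ModPair.mprodι f g IX IT) := by
  -- the two interiors are scheme-theoretically dominant
  haveI d₁ : IsSchemeTheoreticallyDominant
      (ModPair.interior (IX.comap (pullback.fst f g))).ι :=
    Groth.Agent.S18743.isSchemeTheoreticallyDominant_interior _ h₁
  haveI d₂ : IsSchemeTheoreticallyDominant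
      (ModPair.interior (IT.comap (pullback.snd f g))).ι :=
    Groth.Agent.S18743.isSchemeTheoreticallyDominant_interior _ h₂
  constructor
  · -- the preimage of the interior of `IS` contains the interior of `IX.comap pr₁`
    have hle : ModPair.interior (IX.comap (pullback.fst f g)) ≤
        (pullback.fst f g ≫ f) ⁻¹ᵁ ModPair.interior IS := by
      rw [← Groth.Agent.S18743.interior_comap]
      intro x hx
      have hx' : x ∉ (IX.comap (pullback.fst f g)).support := hx
      show x ∉ (IS.comap (pullback.fst f g ≫ f)).support
      intro h
      apply hx'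
      refine Scheme.IdealSheafData.support_antitone ?_ h
      rw [Scheme.IdealSheafData.comap_comp]
      exact Scheme.IdealSheafData.comap_mono _ hf
    haveI : IsSchemeTheoreticallyDominant
        ((pullback.fst f g ≫ f) ⁻¹ᵁ ModPair.interior IS).ι :=
      isSchemeTheoreticallyDominant_of_le hle
    exact (Groth.Agent.S18732.result IS hS (pullback.fst f g ≫ f)).2
  · -- the product interior is scheme-theoretically dominant
    haveI d₂' : IsSchemeTheoreticallyDominant
        ((pullback.snd f g) ⁻¹ᵁ ModPair.interior IT).ι := by
      rw [← Groth.Agent.S18743.interior_comap]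
      exact d₂
    have key := (Groth.Agent.S18732.result IT hT (pullback.snd f g)).1
      (ModPair.interior (IX.comap (pullback.fst f g)))
    have heq : ModPair.prodInterior f g IX IT =
        (pullback.snd f g) ⁻¹ᵁ ModPair.interior IT ⊓
          ModPair.interior (IX.comap (pullback.fst f g)) := by
      rw [Groth.Agent.S18743.interior_comap, inf_comm]
      rfl
    have ha : IsSchemeTheoreticallyDominant (ModPair.prodInterior f g IX IT).ι := by
      rw [heq]
      have h1 : (pullback f g).homOfLE (inf_le_right :
          (pullback.snd f g) ⁻¹ᵁ ModPair.interior IT ⊓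
            ModPair.interior (IX.comap (pullback.fst f g)) ≤
            ModPair.interior (IX.comap (pullback.fst f g))) ≫
          (ModPair.interior (IX.comap (pullback.fst f g))).ι =
          ((pullback.snd f g) ⁻¹ᵁ ModPair.interior IT ⊓
            ModPair.interior (IX.comap (pullback.fst f g))).ι := Scheme.homOfLE_ι _ _
      rw [← h1]
      infer_instance
    show IsIso (ModPair.prodInterior f g IX IT).ι.ker.subschemeι
    rw [Scheme.isIso_subschemeι_iff_eq_bot]
    exact ha.ker_eq_bot

end Groth.Agent.S19341
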