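import Groth.Statements.S19371
import Mathlib
import Groth.Agent.Lib.Seat60FanMaxB

set_option autoImplicit false
universe u v
open CategoryTheory Opposite Instab
open Instab Instab.Fan

namespace Groth.Agent.S19371.Aux

open Filter Topology
open Groth.Agent.S19370.Aux.FanCvx Groth.Agent.Lib.Seat60.FanMax

/-- a local maximum of a continuous strictly quasi-concave function on a compact convex set is a
strict global maximum among points with at least the same value: no other point has value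
`≥ Φ x`. -/
theorem no_other (F : Fan.{u})
    (hF : F.IsQuasiSeparated) [T2Space (Fan.P F)] (U : Set (Fan.P F)) (hUc : IsCompact U)
    (hU : Fan.IsConvex U) {Γ : Type v} [LinearOrder Γ] [TopologicalSpace Γ] [OrderTopology Γ]
    (Φ : U → Γ) (hΦc : Continuous Φ) (hΦ : Fan.IsStrictQuasiConcaveOn U Φ) (x y : U)
    (hx : IsLocalMax Φ x) (hne : x ≠ y) (hxy : Φ x ≤ Φ y) : False := by
  have : CompactSpace U := isCompact_iff_compactSpace.mp hUc
  -- an open neighbourhood of `x` in `U` on which `Φ ≤ Φ x`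
  obtain ⟨A, hAx, hAo, hxA⟩ := eventually_nhds_iff.mp hx
  -- Urysohn function
  have hC : IsClosed (Aᶜ ∪ {y}) := hAo.isClosed_compl.union isClosed_singleton
  have hdisj : Disjoint ({x} : Set U) (Aᶜ ∪ {y}) := by
    rw [Set.disjoint_singleton_left]
    rintro (h | h)
    · exact h hxA
    · exact hne h
  obtain ⟨g, hg0, hg1, hg01⟩ := exists_continuous_zero_one_of_isClosed isClosed_singleton hC hdisj
  have hgx : g x = 0 := hg0 rfl
  have hgy : g y = 1 := hg1 (Or.inr rfl)
  have hA : ∀ q : U, g q < 1 → Φ q ≤ Φ x := by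
    intro q hq
    by_cases hqA : q ∈ A
    · exact hAx q hqA
    · have : g q = 1 := hg1 (Or.inl hqA)
      rw [this] at hq
      exact absurd hq (lt_irrefl _)
  -- the levels c_j = 1 / (j + 2)
  have hlev : ∀ j : ℕ, ∃ p : U, g p = 1 / ((j : ℝ) + 2) ∧ Φ p = Φ x := by
    intro j
    have h0 : (0 : ℝ) < 1 / ((j : ℝ) + 2) := by positivity
    have h1 : 1 / ((j : ℝ) + 2) < 1 := by
      rw [div_lt_one (by positivity)]
      have : (0 : ℝ) ≤ j := Nat.cast_nonneg j
      linarith
    exact exists_level_point U hU Φ hΦc hΦ g g.continuous x y hxy hA hgx hgy _ h0 h1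
  choose p hpg hpΦ using hlev
  have hpinj : Function.Injective fun j => ((p j : U) : Fan.P F) := by
    intro i j hij
    have hij' : p i = p j := Subtype.ext hij
    have h1 : (1 : ℝ) / ((i : ℝ) + 2) = 1 / ((j : ℝ) + 2) := by
      rw [← hpg i, ← hpg j, hij']
    have h2 : ((i : ℝ) + 2) = (j : ℝ) + 2 := by
      have hi : ((i : ℝ) + 2) ≠ 0 := by positivity
      have hj : ((j : ℝ) + 2) ≠ 0 := by positivity
      field_simp at h1
      linarith
    have h3 : (i : ℝ) = j := by linarith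
    exact_mod_cast h3
  have hpg' : ∀ j, g (p j) ≤ 1 / 2 := by
    intro j
    rw [hpg j]
    have : (0 : ℝ) ≤ j := Nat.cast_nonneg j
    rw [div_le_div_iff₀ (by positivity) (by positivity)]
    linarith
  -- infinitely many of the `p j` in one cell
  have hTinf : (Set.range fun j => ((p j : U) : Fan.P F)).Infinite :=
    Set.infinite_range_of_injective hpinj
  have hTU : (Set.range fun j => ((p j : U) : Fan.P F)) ⊆ U := by
    rintro _ ⟨j, rfl⟩
    exact (p j).2
  obtain ⟨n, ξ, hinf⟩ := exists_cell_infinite hF U hUc _ hTU hTinf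
  let e := hinf.natEmbedding
  have hdata : ∀ i : ℕ, ∃ (j : ℕ) (w : Fan.Orth n), ((p j : U) : Fan.P F) = (e i).1 ∧
      w.1 ∈ stdSimplex ℝ (Fin n.dim) ∧ Fan.P.mk ξ w = (e i).1 := by
    intro i
    obtain ⟨⟨j, hj⟩, ⟨w, hw⟩⟩ := (e i).2
    obtain ⟨w', hw'1, hw'2⟩ := exists_normalized ξ w
    exact ⟨j, w', hj, hw'1, hw'2.trans hw⟩
  choose jj w hjj hwS hwe using hdata
  obtain ⟨w₀, φ, hφ, hlim⟩ := exists_subseq_tendsto w hwS
  -- the points b i = p (jj (φ i)) with lifts w (φ i) → w₀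
  have hbmk : ∀ i, Fan.P.mk ξ (w (φ i)) = ((p (jj (φ i)) : U) : Fan.P F) := fun i =>
    (hwe (φ i)).trans (hjj (φ i)).symm
  have hbne : ∀ i, w (φ (i + 1)) ≠ w (φ i) := by
    intro i h
    have h1 : (e (φ (i + 1))).1 = (e (φ i)).1 := by
      rw [← hwe, ← hwe, h]
    have h2 := e.injective (Subtype.ext h1)
    have h3 := hφ.injective h2
    omega
  -- the closed set {g ≤ 1/2} and the open set {g < 1}, pushed to `P F`
  have hKc : IsClosed (Subtype.val '' {u : U | g u ≤ 1 / 2}) := by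
    have hK : IsCompact {u : U | g u ≤ 1 / 2} :=
      (isClosed_le g.continuous continuous_const).isCompact
    exact (hK.image continuous_subtype_val).isClosed
  obtain ⟨O, hOo, hOeq⟩ := isOpen_induced_iff.mp
    (isOpen_lt g.continuous continuous_const : IsOpen {u : U | g u < 1})
  have hl : Fan.P.mk ξ w₀ ∈ Subtype.val '' {u : U | g u ≤ 1 / 2} := by
    refine hKc.mem_of_tendsto (((continuous_mk ξ).tendsto w₀).comp hlim)
      (Eventually.of_forall fun i => ?_)
    exact ⟨p (jj (φ i)), hpg' _, (hbmk i).symm⟩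
  have hlO : Fan.P.mk ξ w₀ ∈ O := by
    obtain ⟨lU, hlU, hlUe⟩ := hl
    have : lU ∈ Subtype.val ⁻¹' O := by
      rw [hOeq]
      show g lU < 1
      have : g lU ≤ 1 / 2 := hlU
      linarith
    rw [← hlUe]
    exact this
  -- midpoints
  have hmid : ∀ i, ∃ m : Fan.Orth n,
      m.1 = (1 / 2 : ℝ) • (w (φ i)).1 + (1 / 2 : ℝ) • (w (φ (i + 1))).1 := by
    intro i
    have h0 : ∀ k, 0 ≤ ((1 / 2 : ℝ) • (w (φ i)).1 + (1 / 2 : ℝ) • (w (φ (i + 1))).1) k := by
      intro k
      show 0 ≤ (1 / 2 : ℝ) * (w (φ i)).1 k + (1 / 2 : ℝ) * (w (φ (i + 1))).1 k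
      have h1 := (w (φ i)).2.1 k
      have h2 := (w (φ (i + 1))).2.1 k
      positivity
    refine ⟨⟨_, h0, ?_⟩, rfl⟩
    intro h
    have hs : ∑ k, ((1 / 2 : ℝ) • (w (φ i)).1 + (1 / 2 : ℝ) • (w (φ (i + 1))).1) k = 1 := by
      show ∑ k, ((1 / 2 : ℝ) * (w (φ i)).1 k + (1 / 2 : ℝ) * (w (φ (i + 1))).1 k) = 1
      rw [Finset.sum_add_distrib, ← Finset.mul_sum, ← Finset.mul_sum]
      have e1 : ∑ k, (w (φ i)).1 k = 1 := (hwS (φ i)).2
      have e2 : ∑ k, (w (φ (i + 1))).1 k = 1 := (hwS (φ (i + 1))).2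
      rw [e1, e2]
      norm_num
    rw [h] at hs
    simp at hs
  choose m hm using hmid
  have hmlim : Tendsto m atTop (𝓝 w₀) := by
    rw [(inducing_val n).tendsto_nhds_iff]
    have h1 : Tendsto (fun i => (w (φ i)).1) atTop (𝓝 w₀.1) :=
      (inducing_val n).tendsto_nhds_iff.mp hlim
    have h2 : Tendsto (fun i => (w (φ (i + 1))).1) atTop (𝓝 w₀.1) :=
      (tendsto_add_atTop_iff_nat (f := fun i => (w (φ i)).1) 1).mpr h1
    have h3 := (h1.const_smul (1 / 2 : ℝ)).add (h2.const_smul (1 / 2 : ℝ))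
    have e : (1 / 2 : ℝ) • w₀.1 + (1 / 2 : ℝ) • w₀.1 = w₀.1 := by
      rw [← add_smul]
      norm_num
    rw [e] at h3
    refine h3.congr fun i => ?_
    exact (hm i).symm
  have hev : ∀ᶠ i in atTop, Fan.P.mk ξ (m i) ∈ O :=
    (((continuous_mk ξ).tendsto w₀).comp hmlim).eventually (hOo.mem_nhds hlO)
  obtain ⟨i, hi⟩ := hev.exists
  -- memberships in U
  have h₀ : Fan.P.mk ξ (w (φ i)) ∈ U := by rw [hbmk i]; exact (p _).2
  have h₂ : Fan.P.mk ξ (w (φ (i + 1))) ∈ U := by rw [hbmk (i + 1)]; exact (p _).2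
  have hab : ∃ a b : ℝ, 0 < a ∧ 0 < b ∧
      (m i).1 = a • (w (φ i)).1 + b • (w (φ (i + 1))).1 :=
    ⟨1 / 2, 1 / 2, by norm_num, by norm_num, hm i⟩
  have h₁ : Fan.P.mk ξ (m i) ∈ U := hU.1 n ξ (w (φ i)) (m i) (w (φ (i + 1))) h₀ h₂ hab
  have hnp : ¬ ∃ c : ℝ, (w (φ (i + 1))).1 = c • (w (φ i)).1 := by
    intro h
    have := eq_of_smul_of_stdSimplex _ _ (hwS (φ i)) (hwS (φ (i + 1))) h
    exact hbne i (Subtype.ext this)
  have hq := hΦ n ξ (w (φ i)) (m i) (w (φ (i + 1))) h₀ h₁ h₂ hnp hab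
  have e₀ : (⟨Fan.P.mk ξ (w (φ i)), h₀⟩ : U) = p (jj (φ i)) := Subtype.ext (hbmk i)
  have e₂ : (⟨Fan.P.mk ξ (w (φ (i + 1))), h₂⟩ : U) = p (jj (φ (i + 1))) :=
    Subtype.ext (hbmk (i + 1))
  rw [e₀, e₂, hpΦ, hpΦ, min_self] at hq
  have hmO : (⟨Fan.P.mk ξ (m i), h₁⟩ : U) ∈ Subtype.val ⁻¹' O := hi
  rw [hOeq] at hmO
  exact absurd (hA _ hmO) (not_le.mpr hq)

end Groth.Agent.S19371.Aux

namespace Groth.Agent.S19371

/-- Let F be a quasi-separated formal fan whose projective realization P F is a Hausdorff space, U ⊆ P F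
a compact convex subset, Γ a totally ordered set with the order topology, and Φ : U → Γ continuous
and strictly quasi-concave. Then any two local maxima of Φ coincide, so the global maximum of Φ
(which exists when U is nonempty, by the extreme value property of upper semicontinuous functions on
compact sets) is its unique local maximum. (The published lemma assumes only that F is
quasi-separated and derives the Hausdorff property of P F from that; this derivation does not hold
in general, and the Hausdorff property, which the published proof uses, is assumed here.) -/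
theorem result (F : Fan.{u})
    (hF : F.IsQuasiSeparated) (hT2 : T2Space (Fan.P F)) (U : Set (Fan.P F)) (hUc : IsCompact U)
    (hU : Fan.IsConvex U) {Γ : Type v} [LinearOrder Γ] [TopologicalSpace Γ] [OrderTopology Γ]
    (Φ : U → Γ) (hΦc : Continuous Φ) (hΦ : Fan.IsStrictQuasiConcaveOn U Φ) (x y : U)
    (hx : IsLocalMax Φ x) (hy : IsLocalMax Φ y) : x = y := by
  by_contra hne
  rcases le_total (Φ x) (Φ y) with h | h
  · exact Aux.no_other F hF U hUc hU Φ hΦc hΦ x y hx hne h
  · exact Aux.no_other F hF U hUc hU Φ hΦc hΦ y x hy (Ne.symm hne) h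

end Groth.Agent.S19371
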