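import Groth.Statements.S19424
import Groth.Agent.Lib.Seat51GoodQuot

set_option autoImplicit false
universe u
open CategoryTheory MonoidalCategory CartesianMonoidalCategory MonObj AlgebraicGeometry Topology
open NRQuot

namespace Groth.Agent.S19424

/-- Let k be an algebraically closed field, G an affine group scheme of finite type over k acting on a
k-scheme X locally of finite type, and φ : X → Y a good quotient (affine and invariant, functions on
every open of Y are exactly the invariant functions on its preimage, invariant closed subsets have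
closed images, and images commute with intersections of families of invariant closed subsets). Then
for two k-points x₁, x₂ of X, the closures of their orbits (the images of the orbit morphisms G → X)
have a common point if and only if x₁ and x₂ have the same image in Y. -/
theorem result
    (k : Type u) [Field k] [IsAlgClosed k]
    (G X Y : Over (Spec (CommRingCat.of k))) [GrpObj G] [IsAffine G.left] [LocallyOfFiniteType G.hom]
    [LocallyOfFiniteType X.hom]
    (a : AlgGrp.Action G X) (φ : X ⟶ Y) (h : NRQuot.IsGoodQuot a φ)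
    (x₁ x₂ : 𝟙_ (Over (Spec (CommRingCat.of k))) ⟶ X) :
    (closure (Set.range (a.orbitMap x₁).left.base) ∩ closure (Set.range (a.orbitMap x₂).left.base)).Nonempty ↔
      x₁ ≫ φ = x₂ ≫ φ := by
  obtain ⟨t⟩ := Groth.Agent.Lib.Seat51.GoodQuot.nonempty_unit (k := k)
  constructor
  · rintro ⟨z, hz₁, hz₂⟩
    have h₁ := Groth.Agent.Lib.Seat51.GoodQuot.image_closure_orbit_subset a φ h.inv x₁ t ⟨z, hz₁, rfl⟩
    have h₂ := Groth.Agent.Lib.Seat51.GoodQuot.image_closure_orbit_subset a φ h.inv x₂ t ⟨z, hz₂, rfl⟩
    rw [Set.mem_singleton_iff] at h₁ h₂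
    exact Groth.Agent.Lib.Seat51.GoodQuot.point_ext _ _ t (h₁.symm.trans h₂)
  · intro hφ
    have hi₁ := Groth.Agent.Lib.Seat51.GoodQuot.isInvariantSet_closure a _
      (Groth.Agent.Lib.Seat51.GoodQuot.isInvariantSet_range_orbitMap a x₁)
      Groth.Agent.Lib.Seat51.GoodQuot.isOpenMap_snd
    have hi₂ := Groth.Agent.Lib.Seat51.GoodQuot.isInvariantSet_closure a _
      (Groth.Agent.Lib.Seat51.GoodQuot.isInvariantSet_range_orbitMap a x₂)
      Groth.Agent.Lib.Seat51.GoodQuot.isOpenMap_snd
    have hy₁ : (x₁ ≫ φ).left.base t ∈
        φ.left.base '' closure (Set.range (a.orbitMap x₁).left.base) :=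
      ⟨x₁.left.base t,
        subset_closure (Groth.Agent.Lib.Seat51.GoodQuot.mem_range_orbitMap a x₁ t), rfl⟩
    have hy₂ : (x₁ ≫ φ).left.base t ∈
        φ.left.base '' closure (Set.range (a.orbitMap x₂).left.base) := by
      rw [hφ]
      exact ⟨x₂.left.base t,
        subset_closure (Groth.Agent.Lib.Seat51.GoodQuot.mem_range_orbitMap a x₂ t), rfl⟩
    exact Groth.Agent.Lib.Seat51.GoodQuot.inter_nonempty_of_image_inter_nonempty h _ _
      isClosed_closure isClosed_closure hi₁ hi₂ _ hy₁ hy₂

end Groth.Agent.S19424
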