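import Groth.Statements.S19437
import Groth.Agent.Lib.Seat95Nodal
-- import your own Groth.Agent.* helpers here

set_option autoImplicit false
universe u
open CAlg

namespace Groth.Agent.S19437

/-- The power series ring in two variables as an instance of the abstract setting. -/
noncomputable def setup (k : Type u) [Field k] :
    Groth.Agent.Lib.Seat95.Nodal.Setup k (MvPowerSeries (Fin 2) k) where
  ε := { MvPowerSeries.constantCoeff (σ := Fin 2) (R := k) with
          commutes' := fun r => MvPowerSeries.constantCoeff_C r }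
  x := MvPowerSeries.X 0
  y := MvPowerSeries.X 1
  unit_of_ne := by
    intro h hh
    rw [MvPowerSeries.isUnit_iff_constantCoeff]
    exact IsUnit.mk0 _ hh
  εx := MvPowerSeries.constantCoeff_X 0
  εy := MvPowerSeries.constantCoeff_X 1
  decomp := by
    intro h hh
    classical
    let hy : MvPowerSeries (Fin 2) k := fun m => if m 0 = 0 then MvPowerSeries.coeff m h else 0
    have hcoeff : ∀ m, MvPowerSeries.coeff m hy = if m 0 = 0 then MvPowerSeries.coeff m h else 0 :=
      fun m => rfl
    have h1 : (MvPowerSeries.X 0 : MvPowerSeries (Fin 2) k) ∣ h - hy := by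
      rw [MvPowerSeries.X_dvd_iff]
      intro m hm
      rw [map_sub, hcoeff, if_pos hm, sub_self]
    have h2 : (MvPowerSeries.X 1 : MvPowerSeries (Fin 2) k) ∣ hy := by
      rw [MvPowerSeries.X_dvd_iff]
      intro m hm
      rw [hcoeff]
      split_ifs with h0
      · have hm0 : m = 0 := by
          ext i
          fin_cases i
          · exact h0
          · exact hm
        rw [hm0]
        exact hh
      · rfl
    obtain ⟨u, hu⟩ := h1
    obtain ⟨v, hv⟩ := h2
    exact ⟨u, v, by rw [← hu, ← hv]; ring⟩

/-- Ideals of colength n of the complete local ring of a node. Let k be a field and J an ideal of the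
power series ring k[[x,y]] in two variables x, y which contains xy and whose quotient is
finite-dimensional over k of dimension n ≥ 2. Then there are integers a, b ≥ 1 such that either a +
b = n + 1 and J is generated by xy, x^a, y^b, or a + b = n and J is generated by xy and x^a + α y^b
for some nonzero scalar α. -/
theorem result (k : Type u) [Field k]
    (J : Ideal (MvPowerSeries (Fin 2) k))
    (hxy : (MvPowerSeries.X 0 * MvPowerSeries.X 1 : MvPowerSeries (Fin 2) k) ∈ J)
    [Module.Finite k (MvPowerSeries (Fin 2) k ⧸ J)] (n : ℕ) (hn : Module.finrank k (MvPowerSeries (Fin 2) k ⧸ J) = n)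
    (h2 : 2 ≤ n) :
    ∃ a b : ℕ, 1 ≤ a ∧ 1 ≤ b ∧
      ((a + b = n + 1 ∧
        J = Ideal.span {MvPowerSeries.X 0 * MvPowerSeries.X 1, MvPowerSeries.X 0 ^ a, MvPowerSeries.X 1 ^ b}) ∨
       (a + b = n ∧ ∃ α : k, α ≠ 0 ∧
        J = Ideal.span {MvPowerSeries.X 0 * MvPowerSeries.X 1,
          MvPowerSeries.X 0 ^ a + MvPowerSeries.C α * MvPowerSeries.X 1 ^ b})) := by
  obtain ⟨a, b, ha, hb, h⟩ := (setup k).classification J hxy n hn h2
  refine ⟨a, b, ha, hb, ?_⟩
  rcases h with ⟨hab, hJ⟩ | ⟨hab, α, hα, hJ⟩
  · exact Or.inl ⟨hab, hJ⟩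
  · exact Or.inr ⟨hab, α, hα, hJ⟩

end Groth.Agent.S19437
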