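import Groth.Statements.S19452
import Groth.Agent.Lib.Seat96DualFlat

set_option autoImplicit false
universe u
attribute [local instance] W4c6puncthilbintro.dualAlgebra
open HilbD

namespace Groth.Agent.S19452

open DualNumber TrivSqZeroExt W4c6puncthilbintro Groth.Agent.Lib.Seat96.DualFlat

section
variable (A : Type u) [CommRing A] (R : Type u) [CommRing R] [Algebra A R]

theorem dualMap_eq (b : DualNumber A) :
    dualMap A R b = inl (algebraMap A R b.fst) + inr (algebraMap A R b.snd) := by
  have : dualMap A R b = Algebra.ofId A (DualNumber R) b.fst + Algebra.ofId A (DualNumber R) b.snd * ε := rfl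
  rw [this, Algebra.ofId_apply, Algebra.ofId_apply, TrivSqZeroExt.algebraMap_eq_inl',
    TrivSqZeroExt.algebraMap_eq_inl']
  ext <;> simp [Algebra.algebraMap_eq_smul_one]

theorem fst_dualMap (b : DualNumber A) : (dualMap A R b).fst = algebraMap A R b.fst := by
  rw [dualMap_eq]; simp

theorem snd_dualMap (b : DualNumber A) : (dualMap A R b).snd = algebraMap A R b.snd := by
  rw [dualMap_eq]; simp [Algebra.algebraMap_eq_smul_one]

theorem smul_def' (b : DualNumber A) (s : DualNumber R) : b • s = dualMap A R b * s := rfl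

end

variable {A : Type u} [CommRing A] {R : Type u} [CommRing R] [Algebra A R]

theorem mem_liftIdeal {I : Ideal R} {φ : I →ₗ[R] R ⧸ I} {x : DualNumber R} :
    x ∈ liftIdeal I φ ↔ ∃ h : x.fst ∈ I, Ideal.Quotient.mk I x.snd = φ ⟨x.fst, h⟩ := Iff.rfl

/-- every element of `I` lifts to `liftIdeal I φ` -/
theorem exists_lift_mem (I : Ideal R) (φ : I →ₗ[R] R ⧸ I) (a : R) (ha : a ∈ I) :
    ∃ b : R, Ideal.Quotient.mk I b = φ ⟨a, ha⟩ ∧ (inl a + inr b : DualNumber R) ∈ liftIdeal I φ := by
  obtain ⟨b, hb⟩ := Ideal.Quotient.mk_surjective (φ ⟨a, ha⟩)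
  refine ⟨b, hb, ?_⟩
  rw [mem_liftIdeal]
  have h1 : (inl a + inr b : DualNumber R).fst = a := by simp
  have h2 : (inl a + inr b : DualNumber R).snd = b := by simp
  refine ⟨by rw [h1]; exact ha, ?_⟩
  rw [h2, hb]
  congr 1
  exact Subtype.ext h1.symm

theorem map_fstHom_eq (A : Type u) [CommRing A] {R : Type u} [CommRing R] [Algebra A R]
    (J : Ideal (DualNumber R)) (a : R) :
    a ∈ Ideal.map (TrivSqZeroExt.fstHom A R R) J ↔ ∃ x ∈ J, x.fst = a := by
  have hs : Function.Surjective (TrivSqZeroExt.fstHom A R R) := fun r => ⟨inl r, by simp⟩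
  rw [Ideal.mem_map_iff_of_surjective _ hs]
  simp

theorem map_fstHom_liftIdeal (I : Ideal R) (φ : I →ₗ[R] R ⧸ I) :
    Ideal.map (TrivSqZeroExt.fstHom A R R) (liftIdeal I φ) = I := by
  ext a
  rw [map_fstHom_eq]
  constructor
  · rintro ⟨x, ⟨hx, -⟩, rfl⟩
    exact hx
  · intro ha
    obtain ⟨b, -, hb⟩ := exists_lift_mem I φ a ha
    exact ⟨_, hb, by simp⟩

/-- The reduction map `R[ε]/J_φ → R/I`. -/
noncomputable def redMap (I : Ideal R) (φ : I →ₗ[R] R ⧸ I) :
    (DualNumber R ⧸ liftIdeal I φ) →+* R ⧸ I :=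
  Ideal.Quotient.lift (liftIdeal I φ)
    ((Ideal.Quotient.mk I).comp (TrivSqZeroExt.fstHom R R R).toRingHom) (by
      rintro x ⟨hx, -⟩
      simpa [Ideal.Quotient.eq_zero_iff_mem] using hx)

theorem redMap_mk (I : Ideal R) (φ : I →ₗ[R] R ⧸ I) (x : DualNumber R) :
    redMap I φ (Ideal.Quotient.mk _ x) = Ideal.Quotient.mk I x.fst := by
  simp [redMap]

theorem flat_quotient_liftIdeal (I : Ideal R) [Module.Flat A (R ⧸ I)] (φ : I →ₗ[R] R ⧸ I) :
    Module.Flat (DualNumber A) (DualNumber R ⧸ liftIdeal I φ) := by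
  refine flat_dualNumber (M₀ := R ⧸ I) (redMap I φ).toAddMonoidHom ?_ ?_ ?_ ?_
  · intro b m
    obtain ⟨s, rfl⟩ := Ideal.Quotient.mk_surjective m
    change redMap I φ (Ideal.Quotient.mk _ (b • s)) = b.fst • redMap I φ (Ideal.Quotient.mk _ s)
    rw [redMap_mk, redMap_mk, smul_def', TrivSqZeroExt.fst_mul, fst_dualMap, Algebra.smul_def]
    rfl
  · intro r
    obtain ⟨r, rfl⟩ := Ideal.Quotient.mk_surjective r
    exact ⟨Ideal.Quotient.mk _ (inl r), by
      change redMap I φ (Ideal.Quotient.mk _ (inl r)) = _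
      rw [redMap_mk]; simp⟩
  · intro m hm
    obtain ⟨s, rfl⟩ := Ideal.Quotient.mk_surjective m
    change redMap I φ (Ideal.Quotient.mk _ s) = 0 at hm
    rw [redMap_mk, Ideal.Quotient.eq_zero_iff_mem] at hm
    obtain ⟨b', -, hb'⟩ := exists_lift_mem I φ s.fst hm
    refine ⟨Ideal.Quotient.mk _ (inl (s.snd - b')), ?_⟩
    change _ = Ideal.Quotient.mk _ ((ε : DualNumber A) • (inl (s.snd - b') : DualNumber R))
    rw [Ideal.Quotient.eq]
    have : s - (ε : DualNumber A) • (inl (s.snd - b') : DualNumber R) = inl s.fst + inr b' := by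
      rw [smul_def', dualMap_eps]
      ext <;> simp
    rw [this]
    exact hb'
  · intro m hm
    obtain ⟨s, rfl⟩ := Ideal.Quotient.mk_surjective m
    change Ideal.Quotient.mk _ ((ε : DualNumber A) • s) = 0 at hm
    rw [Ideal.Quotient.eq_zero_iff_mem, mem_liftIdeal] at hm
    obtain ⟨h0, h1⟩ := hm
    change redMap I φ (Ideal.Quotient.mk _ s) = 0
    rw [redMap_mk]
    have e1 : ((ε : DualNumber A) • s).fst = 0 := by
      rw [smul_def', dualMap_eps]; simp
    have e2 : ((ε : DualNumber A) • s).snd = s.fst := by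
      rw [smul_def', dualMap_eps]; simp
    rw [e2] at h1
    rw [h1]
    have : (⟨((ε : DualNumber A) • s).fst, h0⟩ : I) = 0 := Subtype.ext e1
    rw [this, map_zero]


/-- Abstract form: if `M` is a flat `A[ε]`-module which is a quotient of `R[ε]` and `r ε` dies in `M`,
then `inl r` is congruent modulo the kernel to an element with vanishing `fst`. -/
theorem fst_mem_of_inr_mem_aux {M : Type u} [AddCommGroup M] [Module (DualNumber A) M]
    [Module.Flat (DualNumber A) M] (q : DualNumber R →+ M)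
    (hq : ∀ (b : DualNumber A) (s : DualNumber R), q (dualMap A R b * s) = b • q s)
    (hsurj : Function.Surjective q) (r : R) (hr : q (inr r) = 0) :
    ∃ x : DualNumber R, q x = 0 ∧ x.fst = r := by
  have h00 : (ε : DualNumber A) • q (inl r) = 0 := by
    rw [← hq, dualMap_eps]
    have : (ε : DualNumber R) * inl r = inr r := by ext <;> simp
    rw [this]; exact hr
  let f : Fin 1 → DualNumber A := fun _ => ε
  let x : Fin 1 → M := fun _ => q (inl r)
  have h0 : ∑ i : Fin 1, f i • x i = 0 := by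
    rw [Fin.sum_univ_one]; exact h00
  obtain ⟨k, a, y, h1, h2⟩ := Module.Flat.isTrivialRelation_of_sum_smul_eq_zero h0
  choose t ht using fun j => hsurj (y j)
  have h3 : ∀ j, (a 0 j).fst = 0 := by
    intro j
    have := congrArg TrivSqZeroExt.snd (h2 j)
    simpa [f] using this
  refine ⟨inl r - ∑ j, dualMap A R (a 0 j) * t j, ?_, ?_⟩
  · rw [map_sub, map_sum, sub_eq_zero]
    have := h1 0
    simp only [x] at this
    rw [this]
    refine Finset.sum_congr rfl fun j _ => ?_
    rw [hq, ht j]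
  · rw [TrivSqZeroExt.fst_sub, TrivSqZeroExt.fst_sum]
    have : ∀ j, (dualMap A R (a 0 j) * t j).fst = 0 := by
      intro j
      rw [TrivSqZeroExt.fst_mul, fst_dualMap, h3 j, map_zero, zero_mul]
    simp [this]

/-- If `R[ε]/J` is flat over `A[ε]` and `r ε ∈ J`, then `r` is the `fst` of an element of `J`. -/
theorem fst_mem_of_inr_mem (J : Ideal (DualNumber R)) (hflat : Module.Flat (DualNumber A) (DualNumber R ⧸ J))
    (r : R) (hr : (inr r : DualNumber R) ∈ J) : ∃ x ∈ J, x.fst = r := by
  obtain ⟨x, hx, hx'⟩ := fst_mem_of_inr_mem_aux (A := A) (M := DualNumber R ⧸ J)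
    (Ideal.Quotient.mk J).toAddMonoidHom (fun b s => rfl) Ideal.Quotient.mk_surjective r
    (Ideal.Quotient.eq_zero_iff_mem.2 hr)
  exact ⟨x, Ideal.Quotient.eq_zero_iff_mem.1 hx, hx'⟩

/-- Let A be a commutative ring, R a commutative A-algebra free as an A-module, I an ideal of R with R/I
flat over A, and view the dual numbers R[ε] as an algebra over A[ε] (ε ↦ ε). For φ : I → R/I linear
over R, let J_φ be the ideal of elements a + bε of R[ε] with a ∈ I and b ≡ φ(a) modulo I. Then each
R[ε]/J_φ is flat over A[ε] and J_φ reduces to I modulo ε; the assignment φ ↦ J_φ is injective; and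
every ideal J of R[ε] with R[ε]/J flat over A[ε] which reduces to I modulo ε equals some J_φ. Thus
the first-order liftings of I correspond one-to-one to Hom_R(I, R/I) (the tangent space of the
Hilbert scheme at I). -/
theorem result (A : Type u) [CommRing A] (R : Type u) [CommRing R]
    [Algebra A R] [Module.Free A R] (I : Ideal R) [Module.Flat A (R ⧸ I)] :
    (∀ φ : I →ₗ[R] R ⧸ I,
        Module.Flat (DualNumber A) (DualNumber R ⧸ W4c6puncthilbintro.liftIdeal I φ) ∧
          Ideal.map (TrivSqZeroExt.fstHom A R R) (W4c6puncthilbintro.liftIdeal I φ) = I) ∧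
      Function.Injective (W4c6puncthilbintro.liftIdeal I) ∧
      ∀ J : Ideal (DualNumber R), Module.Flat (DualNumber A) (DualNumber R ⧸ J) →
        Ideal.map (TrivSqZeroExt.fstHom A R R) J = I →
          ∃ φ : I →ₗ[R] R ⧸ I, J = W4c6puncthilbintro.liftIdeal I φ := by
  refine ⟨fun φ => ⟨flat_quotient_liftIdeal I φ, map_fstHom_liftIdeal I φ⟩, ?_, ?_⟩
  · -- injectivity
    intro φ ψ h
    ext ⟨a, ha⟩
    obtain ⟨b, hb, hmem⟩ := exists_lift_mem I φ a ha
    rw [h, mem_liftIdeal] at hmem
    obtain ⟨h0, h1⟩ := hmem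
    have e1 : (inl a + inr b : DualNumber R).fst = a := by simp
    have e2 : (inl a + inr b : DualNumber R).snd = b := by simp
    rw [e2, hb] at h1
    rw [h1]
    congr 1
    exact Subtype.ext e1
  · -- every flat lifting is some `J_φ`
    intro J hflat hJ
    have hfst : ∀ x ∈ J, x.fst ∈ I := by
      intro x hx
      rw [← hJ, map_fstHom_eq]
      exact ⟨x, hx, rfl⟩
    have hex : ∀ a : I, ∃ x ∈ J, x.fst = (a : R) := by
      intro a
      have : (a : R) ∈ Ideal.map (TrivSqZeroExt.fstHom A R R) J := by rw [hJ]; exact a.2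
      rw [map_fstHom_eq] at this
      exact this
    have hinr : ∀ c ∈ I, (inr c : DualNumber R) ∈ J := by
      intro c hc
      obtain ⟨j, hj, rfl⟩ := hex ⟨c, hc⟩
      have : (inr j.fst : DualNumber R) = ε * j := by ext <;> simp
      rw [this]
      exact J.mul_mem_left _ hj
    have key : ∀ x ∈ J, ∀ x' ∈ J, x.fst = x'.fst →
        Ideal.Quotient.mk I x.snd = Ideal.Quotient.mk I x'.snd := by
      intro x hx x' hx' h
      rw [Ideal.Quotient.eq]
      have h1 : (inr (x.snd - x'.snd) : DualNumber R) ∈ J := by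
        have : (inr (x.snd - x'.snd) : DualNumber R) = x - x' := by
          ext <;> simp [h]
        rw [this]; exact J.sub_mem hx hx'
      obtain ⟨w, hw, hw'⟩ := fst_mem_of_inr_mem J hflat _ h1
      rw [← hw']; exact hfst w hw
    choose g hgJ hgfst using hex
    let φ : I →ₗ[R] R ⧸ I :=
      { toFun := fun a => Ideal.Quotient.mk I (g a).snd
        map_add' := by
          intro a b
          rw [← map_add, ← TrivSqZeroExt.snd_add]
          exact key _ (hgJ _) _ (J.add_mem (hgJ a) (hgJ b)) (by simp [hgfst])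
        map_smul' := by
          intro r a
          have h1 : (inl r * g a : DualNumber R) ∈ J := J.mul_mem_left _ (hgJ a)
          have h2 := key _ (hgJ (r • a)) _ h1 (by simp [hgfst])
          rw [h2]
          simp [Algebra.smul_def] }
    refine ⟨φ, ?_⟩
    ext x
    rw [mem_liftIdeal]
    constructor
    · intro hx
      refine ⟨hfst x hx, ?_⟩
      exact key x hx _ (hgJ ⟨x.fst, hfst x hx⟩) (hgfst ⟨x.fst, hfst x hx⟩).symm
    · rintro ⟨h0, h1⟩
      have h2 : Ideal.Quotient.mk I x.snd = Ideal.Quotient.mk I (g ⟨x.fst, h0⟩).snd := h1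
      rw [Ideal.Quotient.eq] at h2
      have h3 := hinr _ h2
      have : x = g ⟨x.fst, h0⟩ + inr (x.snd - (g ⟨x.fst, h0⟩).snd) := by
        ext <;> simp [hgfst]
      rw [this]
      exact J.add_mem (hgJ _) h3

end Groth.Agent.S19452
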