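import Groth.Statements.S19457
import Groth.Agent.Lib.Seat96SecDiv
import Groth.Agent.Lib.Seat96NormFib

set_option autoImplicit false
universe u
open CategoryTheory CategoryTheory.Limits AlgebraicGeometry TopologicalSpace Opposite
open PicF2

namespace Groth.Agent.S19457

open Groth.Agent.Lib.Seat96.ZeroSch Groth.Agent.Lib.Seat96.SecDiv Groth.Agent.Lib.Helper23.SecTw Groth.Agent.Lib.Helper6 in
theorem aux (X : Scheme.{u}) [AlgebraicGeometry.IsIntegral X]
    (L : X.Modules) (hL : PicF.IsInvertible L) (s s' : Coh.structureModule X ⟶ L) (hs : s ≠ 0) (hs' : s' ≠ 0) :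
    PicF2.zeroScheme L s' = PicF2.zeroScheme L s ↔
      ∃ h : Γ(X, ⊤), IsUnit h ∧ (SecTwist.val s' ⊤ : Γ(L, ⊤)) = h • (SecTwist.val s ⊤ : Γ(L, ⊤)) := by
  constructor
  · intro hZ
    have key : ∀ x : X, ∃ w : Γ(X, (frameAt (s := s) hL x).W), IsUnit w ∧
        sv s' (frameAt (s := s) hL x).W = w • sv s (frameAt (s := s) hL x).W := by
      intro x
      have hxF := mem_frameAt (s := s) hL x
      have : Nonempty (frameAt (s := s) hL x).W := ⟨⟨x, hxF⟩⟩
      have hs'F := sv_eq_coef_smul s' (frameAt (s := s) hL x).hgen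
      have I₁ := ideal_zeroScheme_eq_span L hL s ⟨(frameAt (s := s) hL x).W, (frameAt (s := s) hL x).hW⟩
        (frameAt (s := s) hL x).hgen (frameAt (s := s) hL x).hs
      have I₂ := ideal_zeroScheme_eq_span L hL s' ⟨(frameAt (s := s) hL x).W, (frameAt (s := s) hL x).hW⟩
        (frameAt (s := s) hL x).hgen hs'F
      rw [hZ] at I₂
      have hassoc : Associated (frameAt (s := s) hL x).f
          (coef (frameAt (s := s) hL x).hgen le_rfl (sv s' (frameAt (s := s) hL x).W)) :=
        Ideal.span_singleton_eq_span_singleton.1 (I₁.symm.trans I₂)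
      obtain ⟨w, hw⟩ := hassoc
      refine ⟨w, w.isUnit, ?_⟩
      rw [hs'F, ← hw, (frameAt (s := s) hL x).hs, mul_comm, mul_smul]
    choose w hwu hw using key
    have hcompat : ∀ (x y : X) (hy : y ∈ (frameAt (s := s) hL x).W),
        X.presheaf.germ _ y hy (w x) = X.presheaf.germ _ y (mem_frameAt (s := s) hL y) (w y) := by
      intro x y hy
      have hyA : y ∈ (frameAt (s := s) hL x).W ⊓ (frameAt (s := s) hL y).W := ⟨hy, mem_frameAt (s := s) hL y⟩
      have : Nonempty ((frameAt (s := s) hL x).W ⊓ (frameAt (s := s) hL y).W : X.Opens) := ⟨⟨y, hyA⟩⟩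
      have hle₁ : (frameAt (s := s) hL x).W ⊓ (frameAt (s := s) hL y).W ≤ (frameAt (s := s) hL x).W := inf_le_left
      have hle₂ : (frameAt (s := s) hL x).W ⊓ (frameAt (s := s) hL y).W ≤ (frameAt (s := s) hL y).W := inf_le_right
      have e1 : sv s' ((frameAt (s := s) hL x).W ⊓ (frameAt (s := s) hL y).W) =
          resf hle₁ (w x) • sv s ((frameAt (s := s) hL x).W ⊓ (frameAt (s := s) hL y).W) := by
        rw [← res_sv s' hle₁, hw x, res_smul, res_sv]
      have e2 : sv s' ((frameAt (s := s) hL x).W ⊓ (frameAt (s := s) hL y).W) =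
          resf hle₂ (w y) • sv s ((frameAt (s := s) hL x).W ⊓ (frameAt (s := s) hL y).W) := by
        rw [← res_sv s' hle₂, hw y, res_smul, res_sv]
      have e3 := (frameAt (s := s) hL x).sv_res hle₁
      have hb := (frameAt (s := s) hL x).hgen _ hle₁
      have h4 : resf hle₁ (w x) * resf hle₁ (frameAt (s := s) hL x).f =
          resf hle₂ (w y) * resf hle₁ (frameAt (s := s) hL x).f := by
        apply hb.1
        change (resf hle₁ (w x) * resf hle₁ (frameAt (s := s) hL x).f) • res L hle₁ (frameAt (s := s) hL x).e =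
          (resf hle₂ (w y) * resf hle₁ (frameAt (s := s) hL x).f) • res L hle₁ (frameAt (s := s) hL x).e
        rw [mul_smul, mul_smul, ← e3, ← e1, ← e2]
      have hfne : resf hle₁ (frameAt (s := s) hL x).f ≠ 0 := by
        intro h0
        refine (frameAt (s := s) hL x).f_ne_zero hL hs ⟨⟨x, mem_frameAt (s := s) hL x⟩⟩ ?_
        exact map_injective_of_isIntegral X (homOfLE hle₁) (h0.trans (map_zero _).symm)
      have heq : resf hle₁ (w x) = resf hle₂ (w y) := mul_right_cancel₀ hfne h4
      rw [← TopCat.Presheaf.germ_res_apply X.presheaf (homOfLE hle₁) y hyA (w x),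
        ← TopCat.Presheaf.germ_res_apply X.presheaf (homOfLE hle₂) y hyA (w y)]
      exact congrArg _ heq
    obtain ⟨h, hh⟩ := Groth.Agent.Lib.Seat96.NormFib.exists_section_of_germs (⊤ : X.Opens)
      (fun z => X.presheaf.germ _ z (mem_frameAt (s := s) hL z) (w z))
      (fun x _ => ⟨(frameAt (s := s) hL x).W, le_top, mem_frameAt (s := s) hL x, w x,
        fun z hz => hcompat x z hz⟩)
    have hres : ∀ x : X, resf (le_top : (frameAt (s := s) hL x).W ≤ ⊤) h = w x := by
      intro x
      apply TopCat.Presheaf.section_ext X.sheaf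
      intro z hz
      change X.presheaf.germ (frameAt (s := s) hL x).W z hz (resf le_top h) =
        X.presheaf.germ (frameAt (s := s) hL x).W z hz (w x)
      exact (TopCat.Presheaf.germ_res_apply X.presheaf (homOfLE (le_top : (frameAt (s := s) hL x).W ≤ ⊤)) z hz h).trans
        ((hh z trivial).trans (hcompat x z hz).symm)
    refine ⟨h, ?_, ?_⟩
    · apply RingedSpace.isUnit_of_isUnit_germ
      intro z hz
      have := hh z hz
      rw [this]
      exact (hwu z).map _
    · change sv s' ⊤ = h • sv s ⊤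
      refine (modSheaf L).eq_of_locally_eq' (fun x : X => (frameAt (s := s) hL x).W) ⊤ (fun x => homOfLE le_top)
        ?_ _ _ (fun x => ?_)
      · intro x _
        exact Opens.mem_iSup.2 ⟨x, mem_frameAt (s := s) hL x⟩
      · change res L (le_top : (frameAt (s := s) hL x).W ≤ ⊤) (sv s' ⊤) = res L le_top (h • sv s ⊤)
        rw [res_sv, res_smul, res_sv, hw x, hres x]
  · rintro ⟨h, hh, hsv⟩
    rw [zeroScheme_eq, zeroScheme_eq]
    congr 1
    funext U
    refine zI_smul_unit (h := resf (le_top : U.1 ≤ ⊤) h) (hh.map (X.presheaf.map (homOfLE (le_top : U.1 ≤ ⊤)).op).hom) ?_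
    have hsv' : sv s' ⊤ = h • sv s ⊤ := hsv
    rw [← res_sv s' (le_top : U.1 ≤ ⊤), hsv', res_smul, res_sv]

/-- Let X be an integral scheme, L an invertible O_X-module and s, s' two nonzero global sections of L,
given as nonzero morphisms O_X → L. Then the zero schemes Z(s') and Z(s) are equal (as
quasi-coherent ideal sheaves of O_X, that is, as effective Cartier divisors) if and only if s' = h ·
s for some unit h of the ring of global functions Γ(X, O_X). (The published statement is for an
irreducible variety over an algebraically closed field; this row states it for an arbitrary integral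
scheme.) -/
theorem result (X : Scheme.{u}) [AlgebraicGeometry.IsIntegral X]
    (L : X.Modules) (hL : PicF.IsInvertible L) (s s' : Coh.structureModule X ⟶ L) (hs : s ≠ 0) (hs' : s' ≠ 0) :
    PicF2.zeroScheme L s' = PicF2.zeroScheme L s ↔
      ∃ h : Γ(X, ⊤), IsUnit h ∧ (SecTwist.val s' ⊤ : Γ(L, ⊤)) = h • (SecTwist.val s ⊤ : Γ(L, ⊤)) := by
  exact aux X L hL s s' hs hs'

end Groth.Agent.S19457
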