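import Groth.Statements.S19458
import Groth.Agent.Lib.Seat96ZeroSch
import Groth.Agent.Lib.Seat96DivFrames

set_option autoImplicit false
universe u
open CategoryTheory CategoryTheory.Limits AlgebraicGeometry TopologicalSpace Opposite
open Mero

namespace Groth.Agent.S19458

open Groth.Agent.Lib.Seat96.ZeroSch Groth.Agent.Lib.Seat96.DivFrames Groth.Agent.Lib.Helper23.SecTw Groth.Agent.Lib.Helper6 in
theorem aux (X : Scheme.{u}) [AlgebraicGeometry.IsIntegral X]
    (L : X.Modules) (hL : PicF.IsInvertible L) (D : Mero.Divisor X) (hD : Mero.IsEffective D)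
    (e : L ≅ Mero.divMod D) :
    ∃ s : Coh.structureModule X ⟶ L, s ≠ 0 ∧ Mero.IsDivOfIdeal D (PicF2.zeroScheme L s) := by
  set σ₁ : Coh.structureModule X ⟶ Mero.divMod D := secHom (Mero.divMod D) (oneSec D hD ⊤) with hσ₁
  have hsv : ∀ U : X.Opens, sv σ₁ U = oneSec D hD U := fun U => by
    rw [hσ₁, sv_secHom]
    rfl
  refine ⟨σ₁ ≫ e.inv, ?_, ?_⟩
  · intro h0
    have h1 : σ₁ = 0 := by
      have : (σ₁ ≫ e.inv) ≫ e.hom = 0 := by rw [h0, zero_comp]
      rwa [Category.assoc, e.inv_hom_id, Category.comp_id] at this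
    have h2 : sv σ₁ ⊤ = 0 := by rw [h1]; rfl
    obtain ⟨x⟩ : Nonempty X := inferInstance
    have h3 := congrArg (fun t : Γ(Mero.divMod D, ⊤) => t.1 ⟨x, trivial⟩) h2
    rw [hsv] at h3
    exact one_ne_zero (α := Mero.KStalk X x) h3
  · have hz : PicF2.zeroScheme L (σ₁ ≫ e.inv) = PicF2.zeroScheme (Mero.divMod D) σ₁ :=
      zeroScheme_comp_iso e.symm σ₁
    rw [hz]
    intro x
    obtain ⟨U, hxU, u, hu⟩ := D.2 x
    obtain ⟨W, hW, hxW, hWU⟩ := (Opens.isBasis_iff_nbhd.mp X.isBasis_affineOpens) hxU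
    have hgen := isGen_invSec D u hu W hWU
    have hs := sv_eq_coef_smul σ₁ hgen
    set c := coef hgen le_rfl (sv σ₁ W) with hc
    have hpt : ∀ y : W, algebraMap (X.presheaf.stalk y.1) (Mero.KStalk X y.1) (X.presheaf.germ W y.1 y.2 c) =
        (u : Γ(Mero.kmod X, U)).1 ⟨y.1, hWU y.2⟩ := by
      intro y
      have h1 := congrArg (fun t : Γ(Mero.divMod D, W) => t.1 y) hs
      rw [hsv] at h1
      change (1 : Mero.KStalk X y.1) = X.presheaf.germ W y.1 y.2 c •
        ((u⁻¹ : (Γ(Mero.kmod X, U))ˣ) : Γ(Mero.kmod X, U)).1 ⟨y.1, hWU y.2⟩ at h1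
      rw [Algebra.smul_def] at h1
      have h2 := unit_mul_inv_apply u ⟨y.1, hWU y.2⟩
      calc algebraMap (X.presheaf.stalk y.1) (Mero.KStalk X y.1) (X.presheaf.germ W y.1 y.2 c)
          = algebraMap (X.presheaf.stalk y.1) (Mero.KStalk X y.1) (X.presheaf.germ W y.1 y.2 c) *
              ((u : Γ(Mero.kmod X, U)).1 ⟨y.1, hWU y.2⟩ *
                ((u⁻¹ : (Γ(Mero.kmod X, U))ˣ) : Γ(Mero.kmod X, U)).1 ⟨y.1, hWU y.2⟩) := by rw [h2, mul_one]
        _ = (algebraMap (X.presheaf.stalk y.1) (Mero.KStalk X y.1) (X.presheaf.germ W y.1 y.2 c) *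
              ((u⁻¹ : (Γ(Mero.kmod X, U))ˣ) : Γ(Mero.kmod X, U)).1 ⟨y.1, hWU y.2⟩) *
                (u : Γ(Mero.kmod X, U)).1 ⟨y.1, hWU y.2⟩ := by ring
        _ = (u : Γ(Mero.kmod X, U)).1 ⟨y.1, hWU y.2⟩ := by rw [← h1, one_mul]
    have hcreg : c ∈ Mero.regSub X W := by
      intro y
      apply mem_nonZeroDivisors_of_isUnit_algebraMap
      rw [hpt y]
      exact u.isUnit.map (Mero.evalK X U ⟨y.1, hWU y.2⟩)
    refine ⟨⟨W, hW⟩, hxW, c, hcreg,
      ideal_zeroScheme_eq_span (Mero.divMod D) (Groth.Agent.S5096.result X D) σ₁ ⟨W, hW⟩ hgen hs, ?_⟩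
    intro y
    rw [hu ⟨y.1, hWU y.2⟩]
    refine congrArg _ (Units.ext ?_)
    exact (hpt y).symm

/-- Let X be an integral scheme, L an invertible O_X-module and D an effective Cartier divisor on X (a
global section of the sheaf of units of K_X modulo units of O_X whose germ at every point is the
class of a germ of a regular function) such that O_X(D) is isomorphic to L. Then there is a nonzero
global section s of L, given as a nonzero morphism O_X → L, whose zero scheme Z(s) is D: around
every point of X, on some affine open neighbourhood, the ideal of Z(s) is generated by a regular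
function whose classes are the germs of D there. (The published statement is for an irreducible
variety over an algebraically closed field; this row states it for an arbitrary integral scheme.) -/
theorem result (X : Scheme.{u}) [AlgebraicGeometry.IsIntegral X]
    (L : X.Modules) (hL : PicF.IsInvertible L) (D : Mero.Divisor X) (hD : Mero.IsEffective D)
    (e : L ≅ Mero.divMod D) :
    ∃ s : Coh.structureModule X ⟶ L, s ≠ 0 ∧ Mero.IsDivOfIdeal D (PicF2.zeroScheme L s) := by
  exact aux X L hL D hD e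

end Groth.Agent.S19458
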