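import Groth.Statements.S19459
import Groth.Agent.Lib.Seat96ZeroSch

set_option autoImplicit false
universe u
open CategoryTheory CategoryTheory.Limits AlgebraicGeometry TopologicalSpace Opposite
open Mero

namespace Groth.Agent.S19459

open Groth.Agent.Lib.Seat96.ZeroSch Groth.Agent.Lib.Helper23.SecTw Groth.Agent.Lib.Helper6 in
theorem aux (X : Scheme.{u}) [AlgebraicGeometry.IsIntegral X]
    (L₁ L₂ : X.Modules) (hL₁ : PicF.IsInvertible L₁) (hL₂ : PicF.IsInvertible L₂)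
    (s₁ : Coh.structureModule X ⟶ L₁) (s₂ : Coh.structureModule X ⟶ L₂) (hs₁ : s₁ ≠ 0) (hs₂ : s₂ ≠ 0)
    (D₁ D₂ : Mero.Divisor X) (hD₁ : Mero.IsDivOfIdeal D₁ (PicF2.zeroScheme L₁ s₁))
    (hD₂ : Mero.IsDivOfIdeal D₂ (PicF2.zeroScheme L₂ s₂)) :
    Mero.IsDivOfIdeal (D₁ * D₂) (PicF2.zeroScheme (CohB1.tensorMod L₁ L₂) (SecTwist.tmulHom s₁ s₂)) := by
  intro x
  obtain ⟨U₁, hxU₁, f₁, hf₁, hI₁, hD₁'⟩ := hD₁ x
  obtain ⟨U₂, hxU₂, f₂, hf₂, hI₂, hD₂'⟩ := hD₂ x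
  obtain ⟨W₁, e₁, hxW₁, hg₁⟩ := exists_gen L₁ hL₁ x
  obtain ⟨W₂, e₂, hxW₂, hg₂⟩ := exists_gen L₂ hL₂ x
  have hx4 : x ∈ (U₁.1 ⊓ U₂.1) ⊓ (W₁ ⊓ W₂) := ⟨⟨hxU₁, hxU₂⟩, ⟨hxW₁, hxW₂⟩⟩
  obtain ⟨U, hU, hxU, hUle⟩ := (Opens.isBasis_iff_nbhd.mp X.isBasis_affineOpens) hx4
  let Ua : X.affineOpens := ⟨U, hU⟩
  have h1 : U ≤ U₁.1 := fun y hy => (hUle hy).1.1
  have h2 : U ≤ U₂.1 := fun y hy => (hUle hy).1.2
  have h3 : U ≤ W₁ := fun y hy => (hUle hy).2.1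
  have h4 : U ≤ W₂ := fun y hy => (hUle hy).2.2
  have g₁ := hg₁.mono h3
  have g₂ := hg₂.mono h4
  have hs₁ := sv_eq_coef_smul s₁ g₁
  have hs₂ := sv_eq_coef_smul s₂ g₂
  set c₁ := coef g₁ le_rfl (sv s₁ U) with hc₁
  set c₂ := coef g₂ le_rfl (sv s₂ U) with hc₂
  have I₁ : (PicF2.zeroScheme L₁ s₁).ideal Ua = Ideal.span {c₁} :=
    ideal_zeroScheme_eq_span L₁ hL₁ s₁ Ua g₁ hs₁
  have I₂ : (PicF2.zeroScheme L₂ s₂).ideal Ua = Ideal.span {c₂} :=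
    ideal_zeroScheme_eq_span L₂ hL₂ s₂ Ua g₂ hs₂
  have I₁' : (PicF2.zeroScheme L₁ s₁).ideal Ua = Ideal.span {resf h1 f₁} := by
    rw [← Scheme.IdealSheafData.map_ideal (PicF2.zeroScheme L₁ s₁) (U := Ua) (V := U₁) h1, hI₁, Ideal.map_span,
      Set.image_singleton]
    rfl
  have I₂' : (PicF2.zeroScheme L₂ s₂).ideal Ua = Ideal.span {resf h2 f₂} := by
    rw [← Scheme.IdealSheafData.map_ideal (PicF2.zeroScheme L₂ s₂) (U := Ua) (V := U₂) h2, hI₂, Ideal.map_span,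
      Set.image_singleton]
    rfl
  have hs : sv (SecTwist.tmulHom s₁ s₂) U = (c₁ * c₂) • tm L₁ L₂ U (res L₁ h3 e₁) (res L₂ h4 e₂) := by
    rw [sv_tmulHom]
    conv_lhs => rw [hs₁, hs₂]
    rw [tm_smul_left, tm_smul_right, ← mul_smul]
  have I : (PicF2.zeroScheme (CohB1.tensorMod L₁ L₂) (SecTwist.tmulHom s₁ s₂)).ideal Ua = Ideal.span {c₁ * c₂} :=
    ideal_zeroScheme_eq_span _ (isInvertible_tensorMod hL₁ hL₂) _ Ua (isGen_tm L₁ L₂ U _ _ g₁ g₂) hs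
  refine ⟨Ua, hxU, resf h1 f₁ * resf h2 f₂, mul_mem (Mero.regSub_res (homOfLE h1) hf₁) (Mero.regSub_res (homOfLE h2) hf₂),
    ?_, ?_⟩
  · rw [I, ← Ideal.span_singleton_mul_span_singleton, ← I₁, ← I₂, I₁', I₂', Ideal.span_singleton_mul_span_singleton]
  · intro y
    change D₁.1 y.1 * D₂.1 y.1 = _
    rw [hD₁' ⟨y.1, h1 y.2⟩, hD₂' ⟨y.1, h2 y.2⟩, ← QuotientGroup.mk_mul]
    refine congrArg _ (Units.ext ?_)
    rw [Units.val_mul, IsUnit.unit_spec, IsUnit.unit_spec, IsUnit.unit_spec, ← map_mul]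
    refine congrArg _ ?_
    change X.presheaf.germ U₁.1 y.1 (h1 y.2) f₁ * X.presheaf.germ U₂.1 y.1 (h2 y.2) f₂ =
      X.presheaf.germ U y.1 y.2 (resf h1 f₁ * resf h2 f₂)
    rw [map_mul]
    congr 1
    · exact (TopCat.Presheaf.germ_res_apply X.presheaf (homOfLE h1) y.1 y.2 f₁).symm
    · exact (TopCat.Presheaf.germ_res_apply X.presheaf (homOfLE h2) y.1 y.2 f₂).symm

/-- Let X be an integral scheme, L₁ and L₂ invertible O_X-modules with nonzero global sections s₁ and s₂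
(nonzero morphisms O_X → L₁ and O_X → L₂), and let D₁, D₂ be the effective Cartier divisors of the
zero schemes Z(s₁), Z(s₂): divisors on X (global sections of the sheaf of units of K_X modulo units
of O_X) which around every point, on some affine open neighbourhood, are the class of a regular
function generating the ideal of the zero scheme. Then the divisor D₁ · D₂ (multiplicative notation
for the sum D₁ + D₂) is in the same sense the effective Cartier divisor of the zero scheme of the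
global section s₁ ⊗ s₂ of the tensor product L₁ ⊗ L₂; that is, Z(s₁ ⊗ s₂) = Z(s₁) + Z(s₂). (The
published statement is for an irreducible variety over an algebraically closed field; this row
states it for an arbitrary integral scheme.) -/
theorem result (X : Scheme.{u}) [AlgebraicGeometry.IsIntegral X]
    (L₁ L₂ : X.Modules) (hL₁ : PicF.IsInvertible L₁) (hL₂ : PicF.IsInvertible L₂)
    (s₁ : Coh.structureModule X ⟶ L₁) (s₂ : Coh.structureModule X ⟶ L₂) (hs₁ : s₁ ≠ 0) (hs₂ : s₂ ≠ 0)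
    (D₁ D₂ : Mero.Divisor X) (hD₁ : Mero.IsDivOfIdeal D₁ (PicF2.zeroScheme L₁ s₁))
    (hD₂ : Mero.IsDivOfIdeal D₂ (PicF2.zeroScheme L₂ s₂)) :
    Mero.IsDivOfIdeal (D₁ * D₂) (PicF2.zeroScheme (CohB1.tensorMod L₁ L₂) (SecTwist.tmulHom s₁ s₂)) := by
  exact aux X L₁ L₂ hL₁ hL₂ s₁ s₂ hs₁ hs₂ D₁ D₂ hD₁ hD₂

end Groth.Agent.S19459
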