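import Groth.Statements.S19462
import Groth.Agent.Lib.Seat96GrNak

set_option autoImplicit false
set_option linter.unusedSectionVars false
universe u
open GrNak

namespace Groth.Agent.S19462

open DirectSum Groth.Agent.Lib.Seat96.GrNak

section
variable {k : Type u} [Field k] {R : Type u} [CommRing R] [Algebra k R]
    {σ : Type u} [SetLike σ R] [AddSubmonoidClass σ R] (𝒜 : ℤ → σ) [GradedRing 𝒜]
    (hneg : ∀ i : ℤ, i < 0 → ∀ x ∈ 𝒜 i, x = 0)
    (h0 : ∀ x ∈ 𝒜 0, ∃ c : k, algebraMap k R c = x)
    {M : Type u} [AddCommGroup M] [Module R M] [Module.Finite R M]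
    {τ : Type u} [SetLike τ M] [AddSubmonoidClass τ M] (ℳ : ℤ → τ) [DirectSum.Decomposition ℳ]
    [SetLike.GradedSMul 𝒜 ℳ]

include hneg h0 in
/-- `R = k ⊕ R₊` -/
theorem exists_sub_mem_pos (r : R) : ∃ c : k, r - algebraMap k R c ∈ pos 𝒜 := by
  induction r using DirectSum.Decomposition.inductionOn 𝒜 with
  | zero => exact ⟨0, by simp⟩
  | @homogeneous i a =>
    rcases lt_trichotomy i 0 with hi | hi | hi
    · exact ⟨0, by rw [hneg i hi a a.2]; simp⟩
    · subst hi
      obtain ⟨c, hc⟩ := h0 a a.2
      exact ⟨c, by rw [hc]; simp⟩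
    · exact ⟨0, by simpa using mem_pos_of_mem 𝒜 hi a.2⟩
  | add a b ha hb =>
    obtain ⟨c, hc⟩ := ha
    obtain ⟨c', hc'⟩ := hb
    refine ⟨c + c', ?_⟩
    have : a + b - algebraMap k R (c + c') = (a - algebraMap k R c) + (b - algebraMap k R c') := by
      rw [map_add]; ring
    rw [this]
    exact Ideal.add_mem _ hc hc'

/-- the property of being generated by `n` homogeneous elements -/
def GenBy (n : ℕ) : Prop :=
  ∃ m : Fin n → M, (∀ i, SetLike.IsHomogeneousElem ℳ (m i)) ∧ Submodule.span R (Set.range m) = ⊤

theorem exists_genBy : ∃ n, GenBy (R := R) ℳ n := by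
  classical
  obtain ⟨S, hS⟩ := (Module.Finite.fg_top : (⊤ : Submodule R M).FG)
  let S' : Finset M := S.biUnion fun s => (decompose ℳ s).support.image fun i => (decompose ℳ s i : M)
  refine ⟨S'.card, fun i => (S'.equivFin.symm i : M), fun i => ?_, ?_⟩
  · have := (S'.equivFin.symm i).2
    obtain ⟨s, _, hs⟩ := Finset.mem_biUnion.1 this
    obtain ⟨j, _, hj⟩ := Finset.mem_image.1 hs
    refine ⟨j, ?_⟩
    change (S'.equivFin.symm i : M) ∈ ℳ j
    rw [← hj]
    exact (decompose ℳ s j).2
  · rw [eq_top_iff, ← hS, Submodule.span_le]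
    intro s hs
    rw [← DirectSum.sum_support_decompose ℳ s]
    refine Submodule.sum_mem _ fun j hj => ?_
    apply Submodule.subset_span
    have hmem : (decompose ℳ s j : M) ∈ S' :=
      Finset.mem_biUnion.2 ⟨s, hs, Finset.mem_image.2 ⟨j, hj, rfl⟩⟩
    exact ⟨S'.equivFin ⟨_, hmem⟩, by simp⟩

include hneg h0 in
/-- for a minimal homogeneous generating family, all relations have coefficients in `R₊` -/
theorem coeff_mem_pos_of_minimal (n : ℕ) (hmin : ∀ n' < n, ¬ GenBy (R := R) ℳ n')
    (m : Fin n → M) (hm : ∀ i, SetLike.IsHomogeneousElem ℳ (m i))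
    (hspan : Submodule.span R (Set.range m) = ⊤)
    (v : Fin n → R) (hv : ∑ i, v i • m i = 0) (i0 : Fin n) : v i0 ∈ pos 𝒜 := by
  classical
  by_contra hi0
  obtain ⟨n', rfl⟩ : ∃ n', n = n' + 1 := ⟨n - 1, by have := i0.pos; omega⟩
  obtain ⟨c, hc⟩ := exists_sub_mem_pos 𝒜 hneg h0 (v i0)
  have hc0 : c ≠ 0 := by
    rintro rfl
    apply hi0
    simpa using hc
  apply hmin n' (Nat.lt_succ_self n')
  refine ⟨fun j => m (i0.succAbove j), fun j => hm _, ?_⟩
  set N := Submodule.span R (Set.range fun j => m (i0.succAbove j)) with hN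
  apply nakayama 𝒜 ℳ hneg N
  · intro x hx i
    refine comp_mem_span 𝒜 ℳ _ ?_ x hx i
    rintro _ ⟨j, rfl⟩
    exact hm _
  · rw [eq_top_iff]
    have hle : Submodule.span R (Set.range m) ≤ N ⊔ (pos 𝒜) • (⊤ : Submodule R M) := by
      rw [Submodule.span_le]
      rintro _ ⟨i, rfl⟩
      by_cases hi : i = i0
      · subst hi
        -- `c • m i = -(∑_{j ≠ i} v j • m j) - (v i - c) • m i`
        have h1 : ∑ j, v (i.succAbove j) • m (i.succAbove j) ∈ N :=
          Submodule.sum_mem _ fun j _ => Submodule.smul_mem _ _ (Submodule.subset_span ⟨j, rfl⟩)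
        have h2 : (v i - algebraMap k R c) • m i ∈ (pos 𝒜) • (⊤ : Submodule R M) :=
          Submodule.smul_mem_smul hc trivial
        have h3 : algebraMap k R c • m i =
            -(∑ j, v (i.succAbove j) • m (i.succAbove j)) - (v i - algebraMap k R c) • m i := by
          rw [Fin.sum_univ_succAbove _ i] at hv
          have : v i • m i = -(∑ j, v (i.succAbove j) • m (i.succAbove j)) :=
            eq_neg_of_add_eq_zero_left hv
          rw [sub_smul, this]; abel
        have h4 : algebraMap k R c • m i ∈ N ⊔ (pos 𝒜) • (⊤ : Submodule R M) := by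
          rw [h3]
          exact Submodule.sub_mem _ (Submodule.neg_mem _ (Submodule.mem_sup_left h1))
            (Submodule.mem_sup_right h2)
        have h5 : m i = algebraMap k R c⁻¹ • algebraMap k R c • m i := by
          rw [smul_smul, ← map_mul, inv_mul_cancel₀ hc0, map_one, one_smul]
        rw [h5]
        exact Submodule.smul_mem _ _ h4
      · obtain ⟨j, rfl⟩ := Fin.exists_succAbove_eq hi
        exact Submodule.mem_sup_left (Submodule.subset_span ⟨j, rfl⟩)
    exact hspan ▸ hle

end

/-- Let k be a field and R a commutative ℤ-graded k-algebra whose pieces of negative degree vanish and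
whose degree-zero piece is the image of k, and let M be a finitely generated ℤ-graded R-module,
graded compatibly with R. Then M is a projective R-module if and only if M has an R-basis consisting
of homogeneous elements, i.e. M is a free graded module. (The published statement takes R a graded
quotient of a polynomial ring k[x_0, …, x_n] with its standard grading; stated here for any
commutative graded k-algebra concentrated in non-negative degrees with degree-zero part k, to which
the same graded-Nakayama argument applies.) -/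
theorem result {k : Type u} [Field k] {R : Type u} [CommRing R] [Algebra k R]
    {σ : Type u} [SetLike σ R] [AddSubmonoidClass σ R] (𝒜 : ℤ → σ) [GradedRing 𝒜]
    (hneg : ∀ i : ℤ, i < 0 → ∀ x ∈ 𝒜 i, x = 0)
    (hk : ∀ c : k, algebraMap k R c ∈ 𝒜 0) (h0 : ∀ x ∈ 𝒜 0, ∃ c : k, algebraMap k R c = x)
    {M : Type u} [AddCommGroup M] [Module R M] [Module.Finite R M]
    {τ : Type u} [SetLike τ M] [AddSubmonoidClass τ M] (ℳ : ℤ → τ) [DirectSum.Decomposition ℳ]
    [SetLike.GradedSMul 𝒜 ℳ] :
    Module.Projective R M ↔
      ∃ (ι : Type u) (b : Module.Basis ι R M), ∀ i : ι, SetLike.IsHomogeneousElem ℳ (b i) := by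
  classical
  constructor
  · intro hproj
    -- a minimal homogeneous generating family
    have hex := exists_genBy (R := R) ℳ
    set n := Nat.find hex with hn
    obtain ⟨m, hm, hspan⟩ := Nat.find_spec hex
    have hmin : ∀ n' < n, ¬ GenBy (R := R) ℳ n' := fun n' hn' => Nat.find_min hex hn'
    have hrel := coeff_mem_pos_of_minimal 𝒜 hneg h0 ℳ n hmin m hm hspan
    -- the surjection `π : Rⁿ → M` and a section
    let π : (Fin n → R) →ₗ[R] M := Fintype.linearCombination R m
    have hπs : Function.Surjective π := by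
      rw [← LinearMap.range_eq_top, Fintype.range_linearCombination]; exact hspan
    obtain ⟨s, hs⟩ := Module.projective_lifting_property π LinearMap.id hπs
    let Q : (Fin n → R) →ₗ[R] (Fin n → R) := LinearMap.id - s ∘ₗ π
    have hπQ : ∀ v, π (Q v) = 0 := by
      intro v
      have : π (s (π v)) = π v := LinearMap.congr_fun hs (π v)
      simp [Q, this]
    have hQQ : ∀ v, Q (Q v) = Q v := by
      intro v
      have h1 : s (π (Q v)) = 0 := by rw [hπQ v, map_zero]
      change Q v - s (π (Q v)) = Q v
      rw [h1, sub_zero]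
    have hQ1 : ∀ v i, (Q v) i ∈ pos 𝒜 := fun v i => hrel (Q v) (hπQ v) i
    have hQt : ∀ t : ℕ, ∀ v i, (Q v) i ∈ (pos 𝒜) ^ t := by
      intro t
      induction t with
      | zero => intro v i; simp
      | succ t ih =>
        intro v i
        rw [← hQQ v, LinearMap.pi_apply_eq_sum_univ Q (Q v), Finset.sum_apply]
        refine Submodule.sum_mem _ fun j _ => ?_
        rw [Pi.smul_apply, smul_eq_mul, pow_succ]
        exact Ideal.mul_mem_mul (ih v j) (hQ1 _ i)
    have hQ0 : ∀ v, Q v = 0 := by
      intro v
      funext i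
      exact eq_zero_of_forall_mem_pos_pow 𝒜 hneg fun t => hQt t v i
    have hsπ : ∀ v, s (π v) = v := by
      intro v
      have := hQ0 v
      simp only [Q, LinearMap.sub_apply, LinearMap.id_apply, LinearMap.comp_apply] at this
      exact (sub_eq_zero.1 this).symm
    have hπi : Function.Injective π := Function.LeftInverse.injective hsπ
    let e : (Fin n → R) ≃ₗ[R] M := LinearEquiv.ofBijective π ⟨hπi, hπs⟩
    let b : Module.Basis (Fin n) R M := Module.Basis.ofEquivFun e.symm
    have hb : ∀ i, b i = m i := by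
      intro i
      simp only [b, Module.Basis.coe_ofEquivFun, LinearEquiv.symm_symm]
      change π (Pi.single i 1) = m i
      rw [Fintype.linearCombination_apply_single, one_smul]
    refine ⟨ULift.{u} (Fin n), b.reindex Equiv.ulift.symm, fun i => ?_⟩
    rw [Module.Basis.reindex_apply, hb]
    exact hm _
  · rintro ⟨ι, b, -⟩
    exact Module.Projective.of_basis b

end Groth.Agent.S19462
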