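import Groth.Statements.S19488
import Mathlib.Algebra.Homology.ShortComplex.ExactFunctor
import Mathlib.CategoryTheory.Abelian.Exact

set_option autoImplicit false
universe u
open CategoryTheory CategoryTheory.Limits AlgebraicGeometry
open W4c1frobunstiva

namespace Groth.Agent.S19488

/-- The pushforward of modules along a morphism which is a topological inducing map is faithful. -/
theorem pushforward_faithful_of_isInducing {S T : Scheme.{u}} (f : S ⟶ T)
    (hf : Topology.IsInducing f.base) : (Scheme.Modules.pushforward f).Faithful := by
  constructor
  intro M N φ ψ h
  ext U : 1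
  obtain ⟨V, hV, hVU⟩ := (hf.isOpen_iff).1 U.2
  obtain rfl : U = f ⁻¹ᵁ ⟨V, hV⟩ := by
    ext x
    have : x ∈ U.carrier ↔ x ∈ f.base ⁻¹' V := by rw [hVU]
    exact this
  have := congr(Scheme.Modules.Hom.app $h ⟨V, hV⟩)
  simpa [Scheme.Modules.pushforward_map_app] using this

/-- Fix a closed immersion of schemes f : S → T, an O_T-module G, an O_S-module E and an epimorphism ψ :
G → f_*E. Then the morphism ψ′ : f^*G → E that corresponds to ψ under the adjunction between
pullback and pushforward (it is the pullback f^*ψ followed by the counit f^*f_*E → E, an isomorphism
for a closed immersion) is an epimorphism, and the canonical map f^*(ker ψ) → ker(f^*ψ) is an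
epimorphism. (The published statement takes G and E locally free, which these two assertions do not
use.) -/
theorem result
    {S T : Scheme.{u}} (f : S ⟶ T) [IsClosedImmersion f] (G : T.Modules) (E : S.Modules)
    (ψ : G ⟶ (Scheme.Modules.pushforward f).obj E) [Epi ψ] :
    Epi (((Scheme.Modules.pullbackPushforwardAdjunction f).homEquiv G E).symm ψ) ∧
      Epi (kernelComparison ψ (Scheme.Modules.pullback f)) := by
  constructor
  · -- the adjoint is `f^*ψ ≫ counit`, both epimorphisms
    have hfaith : (Scheme.Modules.pushforward f).Faithful :=
      pushforward_faithful_of_isInducing f f.isClosedEmbedding.isInducing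
    set adj := Scheme.Modules.pullbackPushforwardAdjunction f with hadj
    have hcounit : Epi (adj.counit.app E) := by
      apply (Scheme.Modules.pushforward f).epi_of_epi_map
      have h := adj.right_triangle_components E
      exact SplitEpi.epi ⟨_, h⟩
    rw [Adjunction.homEquiv_counit]
    infer_instance
  · -- right exactness of `f^*`
    let Sc : ShortComplex T.Modules := ShortComplex.mk (kernel.ι ψ) ψ (kernel.condition ψ)
    have hSc : Sc.Exact := ShortComplex.exact_of_f_is_kernel _ (kernelIsKernel ψ)
    have hex : (Sc.map (Scheme.Modules.pullback f)).Exact :=
      hSc.map_of_epi_of_preservesCokernel (Scheme.Modules.pullback f) (inferInstanceAs (Epi ψ))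
        inferInstance
    have := (ShortComplex.exact_iff_epi_kernel_lift _).1 hex
    exact this

end Groth.Agent.S19488
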