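import Groth.Statements.S19514
import Groth.Agent.Lib.Seat96FibBC
import Mathlib.AlgebraicGeometry.Morphisms.Proper
import Mathlib.AlgebraicGeometry.Geometrically.Integral

set_option autoImplicit false
universe u
open CategoryTheory CategoryTheory.Limits AlgebraicGeometry
open Variety

namespace Groth.Agent.S19514

/-- Let k be a field and f : X → Y a k-morphism between proper k-schemes which is a fibration, i.e. O_Y
→ f_*O_X is an isomorphism (Γ(V, O_Y) → Γ(f⁻¹V, O_X) bijective for every open V ⊆ Y). If X is
geometrically integral over k, then so is Y. (The assertion of (iii) for geometric normality is not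
stated here.) -/
theorem result (k : Type u) [Field k] (X Y : Scheme.{u})
    [X.Over (Spec (CommRingCat.of k))] [Y.Over (Spec (CommRingCat.of k))] [IsProper (X ↘ Spec (CommRingCat.of k))] [IsProper (Y ↘ Spec (CommRingCat.of k))]
    (f : X ⟶ Y) (hf : f ≫ (Y ↘ Spec (CommRingCat.of k)) = X ↘ Spec (CommRingCat.of k)) (hfib : ∀ V : Y.Opens, IsIso (f.app V))
    [GeometricallyIntegral (X ↘ Spec (CommRingCat.of k))] : GeometricallyIntegral (Y ↘ Spec (CommRingCat.of k)) := by
  have h1 : IsProper (f ≫ (Y ↘ Spec (CommRingCat.of k))) := by rw [hf]; infer_instance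
  have hfp : IsProper f := IsProper.of_comp f (Y ↘ Spec (CommRingCat.of k))
  refine ⟨fun K _ y Z fst snd hZ => ?_⟩
  have hX' : IsIntegral (pullback (X ↘ Spec (CommRingCat.of k)) y) :=
    GeometricallyIntegral.geometrically_isIntegral y _ _ (IsPullback.of_hasPullback _ _)
  have hflat : Flat y := by
    rw [← Spec.map_preimage y, Flat.SpecMap_iff]
    let _ := (Spec.preimage y).hom.toAlgebra
    exact (inferInstance : Module.Flat k K)
  let φ' : pullback (X ↘ Spec (CommRingCat.of k)) y ⟶ Z :=
    hZ.lift (pullback.fst _ _ ≫ f) (pullback.snd _ _) (by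
      rw [Category.assoc, hf, pullback.condition])
  have HX : IsPullback (pullback.fst (X ↘ Spec (CommRingCat.of k)) y)
      (pullback.snd (X ↘ Spec (CommRingCat.of k)) y) (f ≫ (Y ↘ Spec (CommRingCat.of k))) y := by
    rw [hf]
    exact IsPullback.of_hasPullback _ _
  have hfib' : ∀ V', IsIso (φ'.app V') :=
    Groth.Agent.Lib.Seat96.FibBC.isIso_app_of_flat_baseChange f (Y ↘ Spec (CommRingCat.of k)) y
      (pullback.fst _ _) (pullback.snd _ _) fst snd HX hZ φ' (hZ.lift_fst _ _ _)
      (hZ.lift_snd _ _ _) hfib
  exact Groth.Agent.Lib.Seat96.FibBC.isIntegral_of_fibration φ' hfib'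

end Groth.Agent.S19514
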