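import Groth.Statements.S19515
import Groth.Agent.Lib.Seat96NormFib
import Groth.Agent.Lib.Seat96FibBC
import Mathlib.AlgebraicGeometry.Morphisms.Proper

set_option autoImplicit false
universe u
open CategoryTheory CategoryTheory.Limits AlgebraicGeometry
open Variety

namespace Groth.Agent.S19515

/-- Let k be a field and f : X → Y a k-morphism between proper k-schemes which is a fibration, i.e. O_Y
→ f_*O_X is an isomorphism (Γ(V, O_Y) → Γ(f⁻¹V, O_X) bijective for every open V ⊆ Y). If X is
geometrically normal, i.e. its base change to every algebraic closure of k has all local rings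
integrally closed domains, then Y is geometrically normal in the same sense. -/
theorem result (k : Type u) [Field k] (X Y : Scheme.{u})
    [X.Over (Spec (CommRingCat.of k))] [Y.Over (Spec (CommRingCat.of k))] [IsProper (X ↘ Spec (CommRingCat.of k))] [IsProper (Y ↘ Spec (CommRingCat.of k))]
    (f : X ⟶ Y) (hf : f ≫ (Y ↘ Spec (CommRingCat.of k)) = X ↘ Spec (CommRingCat.of k)) (hfib : ∀ V : Y.Opens, IsIso (f.app V))
    (hX : ∀ (K : Type u) [Field K] [Algebra k K] [IsAlgClosure k K],
      Pi1.IsNormalScheme (pullback (X ↘ Spec (CommRingCat.of k)) (Spec.map (CommRingCat.ofHom (algebraMap k K)))))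
    (K : Type u) [Field K] [Algebra k K] [IsAlgClosure k K] :
    Pi1.IsNormalScheme (pullback (Y ↘ Spec (CommRingCat.of k)) (Spec.map (CommRingCat.ofHom (algebraMap k K)))) := by
  have h1 : IsProper (f ≫ (Y ↘ Spec (CommRingCat.of k))) := by rw [hf]; infer_instance
  have hfp : IsProper f := IsProper.of_comp f (Y ↘ Spec (CommRingCat.of k))
  set fT : Spec (CommRingCat.of K) ⟶ Spec (CommRingCat.of k) :=
    Spec.map (CommRingCat.ofHom (algebraMap k K)) with hfT
  have hflat : Flat fT := by
    rw [hfT, Flat.SpecMap_iff]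
    change (algebraMap k K).Flat
    rw [RingHom.flat_algebraMap_iff]
    infer_instance
  let φ' : pullback (X ↘ Spec (CommRingCat.of k)) fT ⟶ pullback (Y ↘ Spec (CommRingCat.of k)) fT :=
    pullback.map _ _ _ _ f (𝟙 _) (𝟙 _) (by rw [Category.comp_id, hf]) (by rw [Category.comp_id, Category.id_comp])
  have HX : IsPullback (pullback.fst (X ↘ Spec (CommRingCat.of k)) fT)
      (pullback.snd (X ↘ Spec (CommRingCat.of k)) fT) (f ≫ (Y ↘ Spec (CommRingCat.of k))) fT := by
    rw [hf]
    exact IsPullback.of_hasPullback _ _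
  have hfib' : ∀ V', IsIso (φ'.app V') :=
    Groth.Agent.Lib.Seat96.FibBC.isIso_app_of_flat_baseChange f (Y ↘ Spec (CommRingCat.of k)) fT
      (pullback.fst _ _) (pullback.snd _ _) (pullback.fst _ _) (pullback.snd _ _) HX
      (IsPullback.of_hasPullback _ _) φ' (pullback.lift_fst _ _ _)
      ((pullback.lift_snd _ _ _).trans (Category.comp_id _)) hfib
  have : IsLocallyNoetherian (pullback (X ↘ Spec (CommRingCat.of k)) fT) :=
    LocallyOfFiniteType.isLocallyNoetherian (pullback.snd (X ↘ Spec (CommRingCat.of k)) fT)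
  exact Groth.Agent.Lib.Seat96.NormFib.isNormalScheme_of_fibration φ' hfib' (hX K)

end Groth.Agent.S19515
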