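import Groth.Statements.S19530
import Groth.Agent.Lib.Seat96ValChain
import Groth.Agent.Lib.Helper10SubtrVal2

set_option autoImplicit false
universe u
open CategoryTheory CategoryTheory.Limits AlgebraicGeometry
open Subtr

namespace Groth.Agent.S19530

open Groth.Agent.Lib.Seat96.ValChain Groth.Agent.Lib.Helper10.SubtrVal

/-- Let f : X ⟶ Y be a morphism of schemes such that every base change of f has the lifting property for
ordered pairs of points (every point together with a specialization of it is the image of such a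
pair). Then every finite chain of points y_0, y_1, …, y_n of Y, in which y_j is a specialization of
y_i whenever i ≤ j, lifts to a chain in X: there are points x_0, …, x_n of X with x_j a
specialization of x_i for i ≤ j and f(x_i) = y_i for every i. (The published statement is for
universally subtrusive f, which adds submersiveness for the constructible topologies, and for
arbitrary chains having a lower bound in Y; this row keeps the pair-lifting property alone and
finite chains, whose most special member is a lower bound.) -/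
theorem result {X Y : Scheme.{u}} (f : X ⟶ Y)
    (hf : Subtr.UnivSSubtrusive f) (n : ℕ) (y : Fin (n + 1) → Y)
    (hy : ∀ i j : Fin (n + 1), i ≤ j → y i ⤳ y j) :
    ∃ x : Fin (n + 1) → X, (∀ i j : Fin (n + 1), i ≤ j → x i ⤳ x j) ∧ ∀ i, f (x i) = y i := by
  classical
  set yl := y (Fin.last n) with hyl
  -- points of `Spec O_{Y, yl}` over the `y i`
  have h1 : ∀ i : Fin (n + 1), ∃ P : Spec (Y.presheaf.stalk yl), Y.fromSpecStalk yl P = y i := by
    intro i
    have : y i ∈ Set.range (Y.fromSpecStalk yl) := by
      rw [Scheme.range_fromSpecStalk]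
      exact hy i (Fin.last n) (Fin.le_last i)
    exact this
  choose P hP using h1
  have hPmono : ∀ i j : Fin (n + 1), i ≤ j → P i ⤳ P j := by
    intro i j hij
    rw [← (Y.fromSpecStalk yl).isEmbedding.isInducing.specializes_iff, hP, hP]
    exact hy i j hij
  let idx : ℕ → Fin (n + 1) := fun i => ⟨min i n, by omega⟩
  have hidx : ∀ i : Fin (n + 1), idx i = i := fun i => Fin.ext (min_eq_left (Nat.lt_succ_iff.mp i.2))
  let p : ℕ → PrimeSpectrum (Y.presheaf.stalk yl) := fun i => P (idx i)
  have hp : Monotone p := by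
    intro i j hij
    refine (PrimeSpectrum.le_iff_specializes _ _).mpr (hPmono _ _ ?_)
    show min i n ≤ min j n
    omega
  obtain ⟨A, φ, hq, -⟩ := exists_chain p hp n
  let g : Spec (CommRingCat.of A) ⟶ Y := Spec.map (CommRingCat.ofHom φ) ≫ Y.fromSpecStalk yl
  obtain ⟨V', _, _, _, a, b, hb, hab⟩ := (main2 f).mp hf A g
  have hfab : ∀ w : Spec (CommRingCat.of V'), f (a w) = g (b w) := fun w =>
    congrArg (fun m : Spec (CommRingCat.of V') ⟶ Y => m w) hab
  have h2 : ∀ i : Fin (n + 1), ∃ w : Spec (CommRingCat.of V'), g (b w) = y i := by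
    intro i
    obtain ⟨q, hqp, hqc⟩ := hq i (Nat.lt_succ_iff.mp i.2)
    let Q : Spec (CommRingCat.of A) := (⟨q, hqp⟩ : PrimeSpectrum A)
    obtain ⟨w, hw⟩ := hb.surj Q
    refine ⟨w, ?_⟩
    rw [hw]
    have h3 : Spec.map (CommRingCat.ofHom φ) Q = P i := by
      apply PrimeSpectrum.ext
      change q.comap φ = (P i).asIdeal
      rw [hqc]
      show (P (idx i)).asIdeal = _
      rw [hidx]
    change Y.fromSpecStalk yl (Spec.map (CommRingCat.ofHom φ) Q) = y i
    rw [h3, hP]
  choose c hc using h2
  let cN : ℕ → Spec (CommRingCat.of V') := fun i => c (idx i)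
  let w : ℕ → Spec (CommRingCat.of V') := fun i =>
    Nat.rec (cN 0) (fun k wk => if wk ⤳ cN (k + 1) then cN (k + 1) else wk) i
  have hw0 : w 0 = cN 0 := rfl
  have hws : ∀ k, w (k + 1) = if w k ⤳ cN (k + 1) then cN (k + 1) else w k := fun k => rfl
  have hw_succ : ∀ k, w k ⤳ w (k + 1) := by
    intro k
    rw [hws]
    split_ifs with h
    · exact h
    · exact specializes_rfl
  have hw_mono : ∀ i j : ℕ, i ≤ j → w i ⤳ w j := by
    intro i j hij
    induction hij with
    | refl => exact specializes_rfl
    | step _ ih => exact ih.trans (hw_succ _)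
  have htotal : ∀ u v : Spec (CommRingCat.of V'), u ⤳ v ∨ v ⤳ u := by
    intro u v
    rcases (ValuationRing.le_total_ideal (A := V')).total (u : PrimeSpectrum V').asIdeal
      (v : PrimeSpectrum V').asIdeal with h | h
    · exact Or.inl ((PrimeSpectrum.le_iff_specializes (u : PrimeSpectrum V') v).mp h)
    · exact Or.inr ((PrimeSpectrum.le_iff_specializes (v : PrimeSpectrum V') u).mp h)
  have hw_val : ∀ (k : ℕ) (hk : k ≤ n), g (b (w k)) = y ⟨k, Nat.lt_succ_of_le hk⟩ := by
    intro k
    induction k with
    | zero =>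
      intro hk
      rw [hw0]
      have := hc (idx 0)
      rw [hidx ⟨0, Nat.lt_succ_of_le hk⟩] at this
      exact this
    | succ k ih =>
      intro hk
      have e2 : g (b (cN (k + 1))) = y ⟨k + 1, Nat.lt_succ_of_le hk⟩ := by
        rw [show cN (k + 1) = c ⟨k + 1, Nat.lt_succ_of_le hk⟩ from
          congrArg c (hidx ⟨k + 1, Nat.lt_succ_of_le hk⟩)]
        exact hc _
      rw [hws]
      split_ifs with h
      · exact e2
      · have htot : cN (k + 1) ⤳ w k := (htotal (w k) (cN (k + 1))).resolve_left h
        have e1 := ih (Nat.le_of_succ_le hk)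
        have s1 : y ⟨k + 1, Nat.lt_succ_of_le hk⟩ ⤳ y ⟨k, Nat.lt_succ_of_le (Nat.le_of_succ_le hk)⟩ := by
          rw [← e1, ← e2]
          exact (htot.map b.continuous).map g.continuous
        have s2 : y ⟨k, Nat.lt_succ_of_le (Nat.le_of_succ_le hk)⟩ ⤳ y ⟨k + 1, Nat.lt_succ_of_le hk⟩ :=
          hy _ _ (by simp [Fin.le_def])
        rw [e1]
        exact (s2.antisymm s1).eq
  refine ⟨fun i => a (w i), fun i j hij => (hw_mono i j hij).map a.continuous, fun i => ?_⟩
  exact (hfab (w i)).trans (hw_val i (Nat.lt_succ_iff.mp i.2))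

end Groth.Agent.S19530
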