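import Groth.Statements.S19548

set_option autoImplicit false
universe u
open CategoryTheory AlgebraicGeometry
open RedSub

namespace Groth.Agent.S19548

variable {idx M N : Type} [AddCommGroup M] [AddCommGroup N]

/-- elements of the submonoid generated by the simple roots are natural combinations of them -/
theorem exists_sum_nat (P : RootPairing idx ℤ M N) (b : P.Base) (m : M)
    (hm : m ∈ AddSubmonoid.closure (P.root '' (b.support : Set idx))) :
    ∃ f : idx → ℕ, m = ∑ j ∈ b.support, f j • P.root j := by
  classical
  refine AddSubmonoid.closure_induction ?_ ⟨0, by simp⟩ ?_ hm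
  · rintro - ⟨j, hj, rfl⟩
    refine ⟨Pi.single j 1, ?_⟩
    rw [Finset.sum_eq_single_of_mem j hj]
    · simp
    · intro k _ hk
      simp [hk]
  · intro _ _ _ _ ⟨f, hf⟩ ⟨g, hg⟩
    exact ⟨f + g, by simp [hf, hg, add_smul, Finset.sum_add_distrib]⟩

theorem height_nonneg_of_mem (P : RootPairing idx ℤ M N) (b : P.Base) (a : idx)
    (ha : a ∈ posRoots P b) : 0 ≤ b.height a := by
  obtain ⟨f, hf⟩ := exists_sum_nat P b _ ha
  have h : P.root a = ∑ j ∈ b.support, ((f j : ℕ) : ℤ) • P.root j := by
    rw [hf]; simp
  rw [RootPairing.Base.height_eq_sum h]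
  exact Finset.sum_nonneg fun j _ => by positivity

theorem height_nonpos_of_mem (P : RootPairing idx ℤ M N) (b : P.Base) (a : idx)
    (ha : a ∈ negRoots P b) : b.height a ≤ 0 := by
  obtain ⟨f, hf⟩ := exists_sum_nat P b _ ha
  have h : P.root a = ∑ j ∈ b.support, (-((f j : ℕ) : ℤ)) • P.root j := by
    rw [← neg_eq_iff_eq_neg.mpr hf.symm]
    simp
  rw [RootPairing.Base.height_eq_sum h]
  exact Finset.sum_nonpos fun j _ => by simp

theorem isPos_of_mem_posRoots (P : RootPairing idx ℤ M N) (b : P.Base) (a : idx)
    (ha : a ∈ posRoots P b) : b.IsPos a := by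
  rw [RootPairing.Base.isPos_iff']
  exact height_nonneg_of_mem P b a ha

theorem not_isPos_of_mem_negRoots (P : RootPairing idx ℤ M N) (b : P.Base) (a : idx)
    (ha : a ∈ negRoots P b) : ¬ b.IsPos a := by
  rw [RootPairing.Base.isPos_iff]
  have := height_nonpos_of_mem P b a ha
  omega

theorem reflectionPerm_reflectionPerm (P : RootPairing idx ℤ M N) (i j : idx) :
    P.reflectionPerm (P.reflectionPerm j i) = P.reflectionPerm j * P.reflectionPerm i * P.reflectionPerm j := by
  ext k
  apply P.root.injective
  simp only [Equiv.Perm.mul_apply, RootPairing.root_reflectionPerm]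
  rw [RootPairing.reflection_reflectionPerm]
  rfl

theorem wordPerm_nil (P : RootPairing idx ℤ M N) : wordPerm P [] = 1 := rfl

theorem wordPerm_cons (P : RootPairing idx ℤ M N) (a : idx) (l : List idx) :
    wordPerm P (a :: l) = P.reflectionPerm a * wordPerm P l := by
  simp [wordPerm]

theorem wordPerm_append (P : RootPairing idx ℤ M N) (l l' : List idx) :
    wordPerm P (l ++ l') = wordPerm P l * wordPerm P l' := by
  simp [wordPerm]

theorem reflectionPerm_wordPerm (P : RootPairing idx ℤ M N) (l : List idx) (a : idx) :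
    P.reflectionPerm (wordPerm P l a) = wordPerm P l * P.reflectionPerm a * (wordPerm P l)⁻¹ := by
  induction l with
  | nil => simp [wordPerm_nil]
  | cons x l ih =>
    rw [wordPerm_cons, Equiv.Perm.mul_apply, reflectionPerm_reflectionPerm, ih, mul_inv_rev,
      RootPairing.reflectionPerm_inv]
    simp only [mul_assoc]

theorem exists_step (p : ℕ → Prop) (n : ℕ) (h0 : p 0) (hn : ¬ p n) :
    ∃ i, i < n ∧ p i ∧ ¬ p (i + 1) := by
  induction n with
  | zero => exact absurd h0 hn
  | succ n ih =>
    by_cases h : p n
    · exact ⟨n, Nat.lt_succ_self n, h, hn⟩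
    · obtain ⟨i, hi, h1, h2⟩ := ih h
      exact ⟨i, Nat.lt_succ_of_lt hi, h1, h2⟩

/-- Let Φ be a finite reduced root system (a reduced root pairing over ℤ on a finite index set) with a
base b, let w = σ_{α_1} ⋯ σ_{α_ℓ} be a reduced decomposition of a Weyl group element into simple
reflections (every α_j in the base, and no shorter word in the simple reflections gives the same
permutation of the roots), and let γ be a positive root with w⁻¹(γ) negative. Then for some i with 1
≤ i ≤ ℓ one has σ_γ σ_{α_1} ⋯ σ_{α_i} = σ_{α_1} ⋯ σ_{α_{i-1}}. (Indices are shifted by one below: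
the word is a list and the prefixes are its first i + 1 and first i letters.) -/
theorem result {idx M N : Type}
    [AddCommGroup M] [AddCommGroup N] [Finite idx]
    (P : RootPairing idx ℤ M N) [P.IsReduced] (b : P.Base) (l : List idx)
    (hl : ∀ a ∈ l, a ∈ b.support)
    (hred : ∀ l' : List idx, (∀ a ∈ l', a ∈ b.support) →
      RedSub.wordPerm P l' = RedSub.wordPerm P l → l.length ≤ l'.length)
    (c : idx) (hc : c ∈ RedSub.posRoots P b) (hneg : (RedSub.wordPerm P l).symm c ∈ RedSub.negRoots P b) :
    ∃ i : ℕ, i < l.length ∧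
      P.reflectionPerm c * RedSub.wordPerm P (l.take (i + 1)) = RedSub.wordPerm P (l.take i) := by
  have h0 : b.IsPos ((wordPerm P (l.take 0)).symm c) := by
    rw [List.take_zero, wordPerm_nil]
    exact isPos_of_mem_posRoots P b c hc
  have hn : ¬ b.IsPos ((wordPerm P (l.take l.length)).symm c) := by
    rw [List.take_length]
    exact not_isPos_of_mem_negRoots P b _ hneg
  obtain ⟨i, hi, h1, h2⟩ := exists_step (fun k => b.IsPos ((wordPerm P (l.take k)).symm c)) l.length h0 hn
  refine ⟨i, hi, ?_⟩
  have htake : l.take (i + 1) = l.take i ++ [l[i]] := by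
    rw [List.take_succ_eq_append_getElem hi]
  have hw : wordPerm P (l.take (i + 1)) = wordPerm P (l.take i) * P.reflectionPerm l[i] := by
    rw [htake, wordPerm_append, wordPerm_cons, wordPerm_nil, mul_one]
  have hli : l[i] ∈ b.support := hl _ (List.getElem_mem hi)
  set g := (wordPerm P (l.take i)).symm c with hg
  have hg1 : (wordPerm P (l.take (i + 1))).symm c = P.reflectionPerm l[i] g := by
    rw [hw]
    change ((wordPerm P (l.take i) * P.reflectionPerm l[i])⁻¹) c = _
    rw [mul_inv_rev, RootPairing.reflectionPerm_inv]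
    rfl
  have hgi : g = l[i] := by
    by_contra hne
    apply h2
    change b.IsPos ((wordPerm P (l.take (i + 1))).symm c)
    rw [hg1]
    exact RootPairing.Base.IsPos.reflectionPerm h1 hli hne
  have hcw : c = wordPerm P (l.take i) l[i] := by
    rw [← hgi, hg]
    simp
  rw [hw, hcw, reflectionPerm_wordPerm]
  have hsq : P.reflectionPerm l[i] * P.reflectionPerm l[i] = 1 := by
    rw [← sq, RootPairing.reflectionPerm_sq]
  calc wordPerm P (l.take i) * P.reflectionPerm l[i] * (wordPerm P (l.take i))⁻¹ *
        (wordPerm P (l.take i) * P.reflectionPerm l[i])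
      = wordPerm P (l.take i) * (P.reflectionPerm l[i] * P.reflectionPerm l[i]) := by group
    _ = wordPerm P (l.take i) := by rw [hsq, mul_one]

end Groth.Agent.S19548
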