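import Groth.Statements.S19552
import Groth.Agent.Lib.Seat14BassCancel

set_option autoImplicit false
universe u
open CAlg

namespace Groth.Agent.S19552

/-- Let R be a Noetherian ring of Krull dimension d and P, Q finitely generated projective R-modules of
constant rank at every prime which have the same class in the Grothendieck group, i.e. are stably
isomorphic: P ⊕ R^m ≅ Q ⊕ R^m for some m. Then there is a positive integer N with P^N ≅ Q^N. (The
two exponents in the published display are read as the same integer N; for modules of positive rank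
an isomorphism between direct powers forces equal exponents.) -/
theorem result (R : Type u) [CommRing R] [IsNoetherianRing R]
    (d n : ℕ) (hdim : ringKrullDim R = d)
    (P Q : Type u) [AddCommGroup P] [Module R P] [Module.Finite R P] [Module.Projective R P]
    [AddCommGroup Q] [Module R Q] [Module.Finite R Q] [Module.Projective R Q]
    (hrk : ∀ p : PrimeSpectrum R, Module.rankAtStalk (R := R) P p = n)
    (hrk' : ∀ p : PrimeSpectrum R, Module.rankAtStalk (R := R) Q p = n)
    (m : ℕ) (e : (P × (Fin m → R)) ≃ₗ[R] (Q × (Fin m → R))) :
    ∃ N : ℕ, 1 ≤ N ∧ Nonempty ((Fin N → P) ≃ₗ[R] (Fin N → Q)) := by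
  rcases Nat.eq_zero_or_pos n with hn | hn
  · have hP : Subsingleton P := Module.rankAtStalk_eq_zero_iff_subsingleton.mp
      (funext fun p => by rw [hrk p, hn]; rfl)
    have hQ : Subsingleton Q := Module.rankAtStalk_eq_zero_iff_subsingleton.mp
      (funext fun p => by rw [hrk' p, hn]; rfl)
    exact ⟨1, le_rfl, ⟨LinearEquiv.ofSubsingleton _ _⟩⟩
  · refine ⟨d + 1, Nat.le_add_left 1 d, ?_⟩
    refine Groth.Agent.Lib.Seat14.BassCancel.pow_equiv d hdim.le (d + 1) P Q (fun p => ?_) m e
    rw [hrk p]
    exact Nat.le_mul_of_pos_right _ hn

end Groth.Agent.S19552
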