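import Groth.Statements.S19569
import Mathlib.RingTheory.Smooth.NoetherianDescent
import Mathlib.RingTheory.FinitePresentation
import Mathlib.RingTheory.TensorProduct.Maps
import Mathlib.Order.Preorder.Finite

set_option autoImplicit false
universe u
open CAlg

namespace Groth.Agent.S19569

open TensorProduct

section
variable {ι : Type u} [Preorder ι] [IsDirected ι (· ≤ ·)] [Nonempty ι]
    (G : ι → Type u) [∀ i, CommRing (G i)] (f : ∀ i j, i ≤ j → (G i →+* G j))
    (A : Type u) [CommRing A] (g : ∀ i, G i →+* A) (hg : ∀ i j (h : i ≤ j), (g j).comp (f i j h) = g i)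
    (hsurj : ∀ a : A, ∃ i, ∃ x : G i, g i x = a)
    (hker : ∀ i (x : G i), g i x = 0 → ∃ j, ∃ h : i ≤ j, f i j h x = 0)

include hg hsurj in
/-- finitely many elements of the colimit lift to a common stage -/
theorem exists_lift_fin (n : ℕ) (x : Fin n → A) : ∃ i, ∃ y : Fin n → G i, ∀ k, g i (y k) = x k := by
  choose i0 y0 hy0 using fun k => hsurj (x k)
  obtain ⟨M, hM⟩ := Finite.exists_le i0
  refine ⟨M, fun k => f (i0 k) M (hM k) (y0 k), fun k => ?_⟩
  rw [← hy0 k, ← hg (i0 k) M (hM k)]
  rfl

include hg hker in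
/-- a ring map to a stage, whose composite to the colimit kills a finite set, can be moved to a later stage
killing that finite set -/
theorem exists_kill {P : Type*} [CommRing P] (χ : P →+* A) (s : Finset P) (hs : ∀ r ∈ s, χ r = 0)
    (i : ι) (ψ : P →+* G i) (hψ : (g i).comp ψ = χ) :
    ∃ (j : ι) (ψ' : P →+* G j), (g j).comp ψ' = χ ∧ ∀ r ∈ s, ψ' r = 0 := by
  classical
  induction s using Finset.induction_on with
  | empty => exact ⟨i, ψ, hψ, by simp⟩
  | insert r s hr ih =>
    obtain ⟨j, ψ', h1, h2⟩ := ih (fun r' hr' => hs r' (Finset.mem_insert_of_mem hr'))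
    have h3 : g j (ψ' r) = 0 := by
      have := hs r (Finset.mem_insert_self r s)
      rw [← h1] at this
      exact this
    obtain ⟨j', hjj', h4⟩ := hker j (ψ' r) h3
    refine ⟨j', (f j j' hjj').comp ψ', ?_, ?_⟩
    · rw [← RingHom.comp_assoc, hg, h1]
    · intro r' hr'
      rcases Finset.mem_insert.1 hr' with rfl | hr'
      · exact h4
      · simp [h2 r' hr']

end

/-- Let A be the colimit of a directed system of rings (A_i), given by compatible ring maps A_i → A
which are jointly surjective and such that an element of some A_i mapping to zero in A already maps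
to zero in some later A_j, and let B be an étale A-algebra. Then for some index i there is an étale
A_i-algebra B_i such that B is isomorphic, as an A-algebra, to the base change A ⊗_{A_i} B_i
(existence of an isomorphism). (Stated for a system indexed by a directed preordered set.) -/
theorem result {ι : Type u} [Preorder ι] [IsDirected ι (· ≤ ·)] [Nonempty ι]
    (G : ι → Type u) [∀ i, CommRing (G i)] (f : ∀ i j, i ≤ j → (G i →+* G j))
    (A : Type u) [CommRing A] (g : ∀ i, G i →+* A) (hg : ∀ i j (h : i ≤ j), (g j).comp (f i j h) = g i)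
    (hsurj : ∀ a : A, ∃ i, ∃ x : G i, g i x = a)
    (hker : ∀ i (x : G i), g i x = 0 → ∃ j, ∃ h : i ≤ j, f i j h x = 0)
    (B : Type u) [CommRing B] [Algebra A B] [Algebra.Etale A B] :
    ∃ (i : ι) (Bi : Type u) (_ : CommRing Bi) (_ : Algebra (G i) Bi), Algebra.Etale (G i) Bi ∧
      letI : Algebra (G i) A := (g i).toAlgebra
      Nonempty (B ≃ₐ[A] A ⊗[G i] Bi) := by
  classical
  obtain ⟨A₀, B₀, _, _, hfg, hEt, ⟨e⟩⟩ := Algebra.Etale.exists_subalgebra_fg ℤ A B
  have hFT : Algebra.FiniteType ℤ A₀ := (Subalgebra.fg_iff_finiteType A₀).mp hfg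
  have hFP : Algebra.FinitePresentation ℤ A₀ := Algebra.FinitePresentation.of_finiteType.mp hFT
  obtain ⟨n, φ, hφs, hφk⟩ := hFP
  obtain ⟨s, hs⟩ := hφk
  -- the composite `P → A₀ → A`
  let χ : MvPolynomial (Fin n) ℤ →+* A := (algebraMap A₀ A).comp φ.toRingHom
  -- lift the generators to a stage
  obtain ⟨i, y, hy⟩ := exists_lift_fin G f A g hg hsurj n (fun k => χ (MvPolynomial.X k))
  let ψ : MvPolynomial (Fin n) ℤ →+* G i := (MvPolynomial.aeval y : MvPolynomial (Fin n) ℤ →ₐ[ℤ] G i).toRingHom
  have hψ : (g i).comp ψ = χ := by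
    apply MvPolynomial.ringHom_ext
    · intro z
      simp
    · intro k
      simp only [RingHom.comp_apply, ψ]
      rw [← hy k]
      simp
  have hs0 : ∀ r ∈ s, χ r = 0 := by
    intro r hr
    have : r ∈ RingHom.ker φ.toRingHom := by
      rw [← hs]; exact Ideal.subset_span hr
    rw [RingHom.mem_ker] at this
    simp only [χ, RingHom.comp_apply, this, map_zero]
  obtain ⟨j, ψ', h1, h2⟩ := exists_kill G f A g hg hker χ s hs0 i ψ hψ
  have hkerle : RingHom.ker φ.toRingHom ≤ RingHom.ker ψ' := by
    rw [← hs, Ideal.span_le]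
    intro r hr
    exact RingHom.mem_ker.2 (h2 r hr)
  let θ : A₀ →+* G j := φ.toRingHom.liftOfSurjective hφs ⟨ψ', hkerle⟩
  have hθ : θ.comp φ.toRingHom = ψ' := RingHom.liftOfRightInverse_comp _ _ _ _
  have hθg : (g j).comp θ = algebraMap A₀ A := by
    apply RingHom.ext
    intro a
    obtain ⟨p, rfl⟩ := hφs a
    have e1 : θ (φ p) = ψ' p := RingHom.congr_fun hθ p
    have e2 : g j (ψ' p) = χ p := RingHom.congr_fun h1 p
    simp only [RingHom.comp_apply]
    rw [e1, e2]
    rfl
  letI algθ : Algebra A₀ (G j) := θ.toAlgebra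
  letI algg : Algebra (G j) A := (g j).toAlgebra
  haveI : IsScalarTower A₀ (G j) A := IsScalarTower.of_algebraMap_eq fun a => by
    have := RingHom.congr_fun hθg a
    exact this.symm
  refine ⟨j, G j ⊗[A₀] B₀, inferInstance, inferInstance, inferInstance, ?_⟩
  exact ⟨e.trans (Algebra.TensorProduct.cancelBaseChange A₀ (G j) A A B₀).symm⟩

end Groth.Agent.S19569
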