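import Groth.Statements.S19583
import Groth.Agent.Lib.Seat82FlatClosure

set_option autoImplicit false
universe u
open Cyc

namespace Groth.Agent.S19583

open CategoryTheory CategoryTheory.Limits AlgebraicGeometry in
/-- Let S be a separated Noetherian scheme, p : X → S a morphism from a separated scheme X (no
finiteness condition), ι : Z → X a closed immersion, and b : S' → S a blowing up of S in a
quasi-coherent ideal with support S₀ such that (1) b restricts to a bijection between the generic
points of the irreducible components of S' and of S and (2) the strict transform Z~ of Z — the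
closed subscheme of Z ×_S S' whose ideal consists, on each affine open, of the functions annihilated
by a power of the pulled-back centre — is flat over S'. Let R be a discrete valuation ring with
fraction field K and f : Spec R → S a morphism sending the generic point of Spec R into S ∖ S₀. Then
f factors uniquely through b, and for the factorisation f' : Spec R → S' the flat closure φ_f(Z) ⊆ Z
×_S Spec R (the scheme-theoretic image of Z ×_S Spec K) coincides with Spec R ×_{S'} Z~: its ideal
sheaf equals the inverse image of the ideal of Z~ under the map Z ×_S Spec R → Z ×_S S' induced by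
f'. -/
theorem result {X S Z S' : Scheme.{u}} [IsNoetherian S] [S.IsSeparated] [X.IsSeparated]
    (p : X ⟶ S) (ι : Z ⟶ X) [IsClosedImmersion ι]
    (𝓘 : S.IdealSheafData) (b : S' ⟶ S) (hb : BlowUp.IsBlowUp b 𝓘)
    (hgen : Set.BijOn b.base {s' : ↥S' | closure {s'} ∈ irreducibleComponents ↥S'} {s : ↥S | closure {s} ∈ irreducibleComponents ↥S})
    (𝒥 : (pullback (ι ≫ p) b).IdealSheafData)
    (h𝒥 : ∀ (V : (pullback (ι ≫ p) b).affineOpens) (a : Γ(pullback (ι ≫ p) b, V.1)), a ∈ 𝒥.ideal V ↔
      BlowUp.KilledByPowerNear ((𝓘.comap (ι ≫ p)).comap (pullback.fst (ι ≫ p) b)) (Coh.structureModule (pullback (ι ≫ p) b)) V a)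
    [Flat (𝒥.subschemeι ≫ pullback.snd (ι ≫ p) b)]
    (R : Type u) [CommRing R] [IsDomain R] [IsDiscreteValuationRing R] (f : Spec (CommRingCat.of R) ⟶ S)
    (hf : f.base ⟨⊥, Ideal.isPrime_bot⟩ ∉ (𝓘.support : Set ↥S)) :
    (∃! f' : Spec (CommRingCat.of R) ⟶ S', f' ≫ b = f) ∧
      ∀ (f' : Spec (CommRingCat.of R) ⟶ S') (hf' : f' ≫ b = f),
        (pullback.map (ι ≫ p) (Spec.map (CommRingCat.ofHom (algebraMap R (FractionRing R))) ≫ f) (ι ≫ p) f (𝟙 Z) (Spec.map (CommRingCat.ofHom (algebraMap R (FractionRing R)))) (𝟙 S) ((Category.comp_id _).trans (Category.id_comp _).symm) (Category.comp_id _)).ker = 𝒥.comap (pullback.map (ι ≫ p) f (ι ≫ p) b (𝟙 Z) f' (𝟙 S) ((Category.comp_id _).trans (Category.id_comp _).symm) ((Category.comp_id f).trans hf'.symm)) := by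
  classical
  have hgenpt : ∀ y : Spec (CommRingCat.of (FractionRing R)),
      (Spec.map (CommRingCat.ofHom (algebraMap R (FractionRing R)))).base y = ⟨⊥, Ideal.isPrime_bot⟩ := by
    intro y
    apply PrimeSpectrum.ext
    have hy : y.asIdeal = ⊥ := by
      rcases Ideal.eq_bot_or_top y.asIdeal with h | h
      · exact h
      · exact absurd h y.isPrime.ne_top
    change Ideal.comap (algebraMap R (FractionRing R)) y.asIdeal = ⊥
    rw [hy]
    exact Ideal.comap_bot_of_injective _ (IsFractionRing.injective R (FractionRing R))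
  have hE : BlowUp.IsEffCartierIdeal (𝓘.comap f) := by
    apply Groth.Agent.Lib.Seat82.FlatClosure.isEffCartierIdeal_of_generic_notMem
    rw [Scheme.IdealSheafData.support_comap]
    exact hf
  refine ⟨hb.2 _ f hE, ?_⟩
  intro f' hf'
  have : IsSchemeTheoreticallyDominant (Spec.map (CommRingCat.ofHom (algebraMap R (FractionRing R)))) :=
    Groth.Agent.Lib.Seat82.FlatClosure.isSchemeTheoreticallyDominant_Spec_map _
      (IsFractionRing.injective R (FractionRing R))
  have hη : 𝓘.comap (Spec.map (CommRingCat.ofHom (algebraMap R (FractionRing R))) ≫ f) = ⊤ := by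
    rw [← Scheme.IdealSheafData.support_eq_bot_iff, Scheme.IdealSheafData.support_comap]
    ext1
    rw [TopologicalSpace.Closeds.coe_preimage, TopologicalSpace.Closeds.coe_bot, Set.eq_empty_iff_forall_notMem]
    intro y hy
    apply hf
    rw [← hgenpt y]
    exact hy
  exact Groth.Agent.Lib.Seat82.FlatClosure.ker_pullback_map_eq_comap (ι ≫ p) b 𝓘 𝒥 h𝒥 f _ hη f' hf' _ _ _ _


end Groth.Agent.S19583
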