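import Groth.Statements.S19595
import Groth.Agent.Lib.Seat71PSLen

set_option autoImplicit false
universe u
open ArLef

namespace Groth.Agent.S19595

/-- In the case of a smooth point lying on the divisorial part of the fixed locus with multiplicity i
strictly between 0 and j, let B be a discrete valuation ring with uniformizer π and residue field k,
B[[t]] the complete local ring of a semi-stable arithmetic surface over B at a point x where the
closed fibre is smooth, and σ a ring automorphism of B[[t]] with σ(π) = π + γ π^j (γ a unit of B, j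
≥ 1) and σ(b) - b ∈ π^j B[[t]] for all b ∈ B (σ lies over an automorphism τ of B with v(τ(π) - π) =
j). Suppose σ(t) - t = π^i f with 0 < i < j and π not dividing f, so that the fixed-point ideal I of
σ is (π^j, π^i f) and its divisorial part near x is the closed fibre with multiplicity i. Then the
residual fixed-point scheme, with ideal (I : π^i), has length (j - i) m at x, where m is the length
of k[[t]]/(f mod π) (the order at x of the derivation induced by σ on the closed fibre). -/
theorem result (B : Type u) [CommRing B] [IsDomain B] [IsDiscreteValuationRing B] (π : B) (hπ : Irreducible π)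
    (j i : ℕ) (hi : 0 < i) (hij : i < j) (γ : B) (hγ : IsUnit γ)
    (σ : PowerSeries B ≃+* PowerSeries B)
    (hσB : ∀ b : B, σ (algebraMap B (PowerSeries B) b) - algebraMap B (PowerSeries B) b ∈
      Ideal.span ({algebraMap B (PowerSeries B) (π ^ j)} : Set (PowerSeries B)))
    (hσπ : σ (algebraMap B (PowerSeries B) π) = algebraMap B (PowerSeries B) (π + γ * π ^ j))
    (f : PowerSeries B) (hf : σ PowerSeries.X - PowerSeries.X = algebraMap B (PowerSeries B) (π ^ i) * f)
    (hfπ : ¬ (algebraMap B (PowerSeries B) π ∣ f)) :
    Module.length (PowerSeries B) (PowerSeries B ⧸ (ArLef.fixIdeal σ).colon ({algebraMap B (PowerSeries B) (π ^ i)} : Set (PowerSeries B))) =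
      ((j - i : ℕ) : ℕ∞) * Module.length (PowerSeries (IsLocalRing.ResidueField B)) (PowerSeries (IsLocalRing.ResidueField B) ⧸
        Ideal.span ({PowerSeries.map (IsLocalRing.residue B) f} : Set (PowerSeries (IsLocalRing.ResidueField B)))) := by
  classical
  have hC : ∀ b : B, algebraMap B (PowerSeries B) b = PowerSeries.C b := fun b => rfl
  set P : PowerSeries B := PowerSeries.C π with hP
  have hPne : P ≠ 0 := Groth.Agent.Lib.Seat71.PSLen.C_ne_zero hπ
  have hf' : σ PowerSeries.X - PowerSeries.X = P ^ i * f := by
    rw [hf, hC, map_pow]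
  have hI : ArLef.fixIdeal σ =
      Ideal.span {P ^ i * f} ⊔ Ideal.span {P ^ j} := by
    apply le_antisymm
    · unfold ArLef.fixIdeal
      rw [Ideal.span_le]
      rintro _ ⟨r, rfl⟩
      refine Groth.Agent.Lib.Seat71.PSFix.sub_mem_of_generators
        (σ : PowerSeries B →+* PowerSeries B) ?_ _ ?_ ?_ r
      · show σ PowerSeries.X ∈ _
        rw [IsLocalRing.mem_maximalIdeal, mem_nonunits_iff]
        intro h
        have h1 : IsUnit (σ.symm (σ PowerSeries.X)) := h.map σ.symm
        rw [RingEquiv.symm_apply_apply] at h1
        have := PowerSeries.isUnit_iff_constantCoeff.1 h1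
        rw [PowerSeries.constantCoeff_X] at this
        exact not_isUnit_zero this
      · intro b
        have h1 := hσB b
        rw [hC, hC, map_pow] at h1
        exact Ideal.mem_sup_right h1
      · show σ PowerSeries.X - PowerSeries.X ∈ _
        rw [hf']
        exact Ideal.mem_sup_left (Ideal.mem_span_singleton_self _)
    · refine sup_le ?_ ?_
      · rw [Ideal.span_singleton_le_iff_mem, ← hf']
        exact Ideal.subset_span ⟨PowerSeries.X, rfl⟩
      · rw [Ideal.span_singleton_le_iff_mem]
        have h1 : σ (PowerSeries.C π) - PowerSeries.C π ∈ ArLef.fixIdeal σ :=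
          Ideal.subset_span ⟨PowerSeries.C π, rfl⟩
        have h2 : σ (PowerSeries.C π) - PowerSeries.C π =
            PowerSeries.C γ * P ^ j := by
          have := hσπ
          rw [hC, hC] at this
          rw [this, map_add, map_mul, map_pow]; ring
        rw [h2] at h1
        have hu : IsUnit (PowerSeries.C γ : PowerSeries B) := hγ.map _
        exact (Ideal.unit_mul_mem_iff_mem _ hu).1 h1
  have hcolon : (ArLef.fixIdeal σ).colon
      ({algebraMap B (PowerSeries B) (π ^ i)} : Set (PowerSeries B)) =
      Ideal.span {f} ⊔ Ideal.span {P ^ (j - i)} := by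
    have hji : P ^ j = P ^ i * P ^ (j - i) := by
      rw [← pow_add]; congr 1; omega
    ext r
    rw [Submodule.mem_colon_singleton, hC, map_pow, smul_eq_mul, hI]
    constructor
    · intro h
      obtain ⟨x, hx, y, hy, hxy⟩ := Submodule.mem_sup.1 h
      obtain ⟨a, rfl⟩ := Ideal.mem_span_singleton'.1 hx
      obtain ⟨b, rfl⟩ := Ideal.mem_span_singleton'.1 hy
      have h1 : P ^ i * r = P ^ i * (a * f + b * P ^ (j - i)) := by
        have : r * P ^ i = P ^ i * r := mul_comm _ _
        rw [← this, ← hxy, hji]; ring
      have h2 := mul_left_cancel₀ (pow_ne_zero i hPne) h1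
      rw [h2]
      exact Submodule.add_mem_sup (Ideal.mul_mem_left _ _ (Ideal.mem_span_singleton_self _))
        (Ideal.mul_mem_left _ _ (Ideal.mem_span_singleton_self _))
    · intro h
      obtain ⟨x, hx, y, hy, rfl⟩ := Submodule.mem_sup.1 h
      obtain ⟨a, rfl⟩ := Ideal.mem_span_singleton'.1 hx
      obtain ⟨b, rfl⟩ := Ideal.mem_span_singleton'.1 hy
      have h1 : (a * f + b * P ^ (j - i)) * P ^ i = a * (P ^ i * f) + b * P ^ j := by
        rw [hji]; ring
      rw [h1]
      exact Submodule.add_mem_sup (Ideal.mul_mem_left _ _ (Ideal.mem_span_singleton_self _))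
        (Ideal.mul_mem_left _ _ (Ideal.mem_span_singleton_self _))
  rw [hcolon]
  refine Groth.Agent.Lib.Seat71.PSLen.length_quot_span_sup_pow hπ f ?_ (j - i)
  rw [← hC]
  exact hfπ

end Groth.Agent.S19595
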