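import Groth.Statements.S19596
import Groth.Agent.Lib.Seat71NodeStab2

set_option autoImplicit false
universe u
open ArLef ArLef.NodeAlg

namespace Groth.Agent.S19596

/-- In the cases where σ fixes the two branches through the point, these lie on different components,
and the second branch lies in the divisorial part of the fixed locus with multiplicity i₂ strictly
between 0 and j while the first has multiplicity i₁ ≤ i₂, let B be a discrete valuation ring with
uniformizer π, N = B[[t, e]]/(te - π) the complete local ring of a semi-stable arithmetic surface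
over B at a singular point x of the closed fibre, and σ a ring automorphism of N with σ(π) = π + γ
π^j (γ a unit of B, j ≥ 1) and σ(c) - c ∈ π^j N for all c ∈ B. Suppose σ(t) = α t and σ(e) = β e
with units α, β, and α - 1 = t^{i₁} e^{i₂} a, β - 1 = t^{i₁} e^{i₂} b with i₁ ≤ i₂, 0 < i₂ < j, e
not dividing a and t not dividing b. Then, I being the fixed-point ideal of σ, whose divisorial part
near x is t^{i₁} e^{i₂}, the residual fixed-point scheme with ideal (I : t^{i₁} e^{i₂}) has length 1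
+ (j - i₁)·Leng N/(t, b) + (j - i₂)·Leng N/(e, a) at x; here Leng N/(t, b) + i₂ + 1 and Leng N/(e,
a) + i₁ + 1 are the orders at x of the derivations σ induces on the two components (the fixed-point
multiplicities when the component is outside the divisorial part). -/
theorem result (B : Type u) [CommRing B] [IsDomain B] [IsDiscreteValuationRing B] (π : B) (hπ : Irreducible π)
    (j i₁ i₂ : ℕ) (h12 : i₁ ≤ i₂) (h2 : 0 < i₂) (h2j : i₂ < j) (γ : B) (hγ : IsUnit γ)
    (σ : ArLef.NodeAlg B π ≃+* ArLef.NodeAlg B π)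
    (hσB : ∀ c : B, σ (algebraMap B (ArLef.NodeAlg B π) c) - algebraMap B (ArLef.NodeAlg B π) c ∈
      Ideal.span ({algebraMap B (ArLef.NodeAlg B π) (π ^ j)} : Set (ArLef.NodeAlg B π)))
    (hσπ : σ (algebraMap B (ArLef.NodeAlg B π) π) = algebraMap B (ArLef.NodeAlg B π) (π + γ * π ^ j))
    (α β : (ArLef.NodeAlg B π)ˣ) (ht : σ (ArLef.NodeAlg.t π) = (α : ArLef.NodeAlg B π) * ArLef.NodeAlg.t π) (he : σ (ArLef.NodeAlg.e π) = (β : ArLef.NodeAlg B π) * ArLef.NodeAlg.e π)
    (a b : ArLef.NodeAlg B π) (ha : (α : ArLef.NodeAlg B π) - 1 = ArLef.NodeAlg.t π ^ i₁ * ArLef.NodeAlg.e π ^ i₂ * a) (hb : (β : ArLef.NodeAlg B π) - 1 = ArLef.NodeAlg.t π ^ i₁ * ArLef.NodeAlg.e π ^ i₂ * b)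
    (hea : ¬ (ArLef.NodeAlg.e π ∣ a)) (htb : ¬ (ArLef.NodeAlg.t π ∣ b)) :
    Module.length (ArLef.NodeAlg B π) (ArLef.NodeAlg B π ⧸ (ArLef.fixIdeal σ).colon ({ArLef.NodeAlg.t π ^ i₁ * ArLef.NodeAlg.e π ^ i₂} : Set (ArLef.NodeAlg B π))) =
      1 + ((j - i₁ : ℕ) : ℕ∞) * Module.length (ArLef.NodeAlg B π) (ArLef.NodeAlg B π ⧸ Ideal.span ({ArLef.NodeAlg.t π, b} : Set (ArLef.NodeAlg B π))) +
        ((j - i₂ : ℕ) : ℕ∞) * Module.length (ArLef.NodeAlg B π) (ArLef.NodeAlg B π ⧸ Ideal.span ({ArLef.NodeAlg.e π, a} : Set (ArLef.NodeAlg B π))) := by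
  classical
  have hj : 1 ≤ j := by omega
  have hdom : IsDomain (ArLef.NodeAlg B π) := Groth.Agent.Lib.Seat71.Node.nodeAlg_isDomain π hπ
  have tp := Groth.Agent.Lib.Seat71.Node.t_prime π hπ
  have ep := Groth.Agent.Lib.Seat71.Node.e_prime π hπ
  have hαβ := Groth.Agent.Lib.Seat71.Node.stab_mul_eq π hπ j hj γ σ hσπ α β ht he
  have hI := Groth.Agent.Lib.Seat71.Node.stab_fixIdeal π hπ j hj γ hγ σ hσB hσπ α β ht he
  have hte : ArLef.NodeAlg.t π * ArLef.NodeAlg.e π = algebraMap B (ArLef.NodeAlg B π) π :=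
    Groth.Agent.Lib.Seat71.Node.t_mul_e π
  set P : ArLef.NodeAlg B π := algebraMap B (ArLef.NodeAlg B π) π with hP
  set G : ArLef.NodeAlg B π := algebraMap B (ArLef.NodeAlg B π) γ with hG
  set tt : ArLef.NodeAlg B π := ArLef.NodeAlg.t π with htt
  set ee : ArLef.NodeAlg B π := ArLef.NodeAlg.e π with hee
  set D : ArLef.NodeAlg B π := tt ^ i₁ * ee ^ i₂ with hD
  have hGu : IsUnit G := hγ.map _
  have hD0 : D ≠ 0 := mul_ne_zero (pow_ne_zero _ tp.ne_zero) (pow_ne_zero _ ep.ne_zero)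
  set m1 : ℕ := j - 1 - i₁ with hm1
  set m2 : ℕ := j - 1 - i₂ with hm2
  have hPM : P ^ (j - 1) = D * (tt ^ m1 * ee ^ m2) := by
    have e1 : tt ^ (j - 1) = tt ^ i₁ * tt ^ m1 := by rw [← pow_add]; congr 1; omega
    have e2 : ee ^ (j - 1) = ee ^ i₂ * ee ^ m2 := by rw [← pow_add]; congr 1; omega
    rw [← hte, mul_pow, e1, e2, hD]; ring
  have h1 : a * β = G * (tt ^ m1 * ee ^ m2) - b := by
    apply mul_left_cancel₀ hD0
    have : D * (a * β) = G * P ^ (j - 1) - D * b := by
      linear_combination hαβ - (β : ArLef.NodeAlg B π) * ha - hb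
    rw [this, hPM]; ring
  have h2 : b * α = G * (tt ^ m1 * ee ^ m2) - a := by
    apply mul_left_cancel₀ hD0
    have : D * (b * α) = G * P ^ (j - 1) - D * a := by
      linear_combination hαβ - (α : ArLef.NodeAlg B π) * hb - ha
    rw [this, hPM]; ring
  have key := Groth.Agent.Lib.Seat71.Node.L_stab π hπ a b α β G α.isUnit β.isUnit hGu m1 m2
    h1 h2 hea htb
  have hI2 : ArLef.fixIdeal σ = Ideal.span {D * (tt * a)} ⊔ Ideal.span {D * (ee * b)} := by
    rw [hI, ha, hb]
    congr 2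
    · ring_nf
    · ring_nf
  rw [hI2, Groth.Agent.Lib.Seat71.Node.colon_span_mul_sup_span_mul hD0,
    Groth.Agent.Lib.Seat71.Len.L_pair, Groth.Agent.Lib.Seat71.Len.L_pair,
    ← Groth.Agent.Lib.Seat71.Len.L_def, key]
  have e1 : j - i₁ = m1 + 1 := by omega
  have e2 : j - i₂ = m2 + 1 := by omega
  rw [e1, e2]
  push_cast
  ring

end Groth.Agent.S19596
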