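import Groth.Statements.S19597
import Groth.Agent.Lib.Seat71NodeStab2

set_option autoImplicit false
universe u
open ArLef ArLef.NodeAlg

namespace Groth.Agent.S19597

/-- In the cases where σ fixes the two branches through the point, these lie on different components,
the second lies in the divisorial part of the fixed locus with the maximal multiplicity j and the
first with multiplicity i₁ < j, let B be a discrete valuation ring with uniformizer π, N = B[[t,
e]]/(te - π) the complete local ring of a semi-stable arithmetic surface over B at a singular point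
x of the closed fibre, and σ a ring automorphism of N with σ(π) = π + γ π^j (γ a unit of B, j ≥ 1)
and σ(c) - c ∈ π^j N for all c ∈ B. Suppose σ(t) = α t and σ(e) = β e with units α, β, that α - 1 =
t^{i₁} e^j a and β - 1 = t^{i₁} e^{j-1} b with i₁ < j and t not dividing b. Then, I being the
fixed-point ideal of σ, whose divisorial part near x is t^{i₁} e^j, the length l of the residual
fixed-point scheme with ideal (I : t^{i₁} e^j) satisfies l + (j - 1 - i₁) = (j - i₁)·Leng N/(t, b);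
for i₁ = 0, Leng N/(t, b) + j is the fixed-point multiplicity s₁ of σ at x on the first component
and l = j (s₁ - j - 1) + 1. -/
theorem result (B : Type u) [CommRing B] [IsDomain B] [IsDiscreteValuationRing B] (π : B) (hπ : Irreducible π)
    (j i₁ : ℕ) (h1 : i₁ < j) (γ : B) (hγ : IsUnit γ)
    (σ : ArLef.NodeAlg B π ≃+* ArLef.NodeAlg B π)
    (hσB : ∀ c : B, σ (algebraMap B (ArLef.NodeAlg B π) c) - algebraMap B (ArLef.NodeAlg B π) c ∈
      Ideal.span ({algebraMap B (ArLef.NodeAlg B π) (π ^ j)} : Set (ArLef.NodeAlg B π)))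
    (hσπ : σ (algebraMap B (ArLef.NodeAlg B π) π) = algebraMap B (ArLef.NodeAlg B π) (π + γ * π ^ j))
    (α β : (ArLef.NodeAlg B π)ˣ) (ht : σ (ArLef.NodeAlg.t π) = (α : ArLef.NodeAlg B π) * ArLef.NodeAlg.t π) (he : σ (ArLef.NodeAlg.e π) = (β : ArLef.NodeAlg B π) * ArLef.NodeAlg.e π)
    (a b : ArLef.NodeAlg B π) (ha : (α : ArLef.NodeAlg B π) - 1 = ArLef.NodeAlg.t π ^ i₁ * ArLef.NodeAlg.e π ^ j * a) (hb : (β : ArLef.NodeAlg B π) - 1 = ArLef.NodeAlg.t π ^ i₁ * ArLef.NodeAlg.e π ^ (j - 1) * b)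
    (htb : ¬ (ArLef.NodeAlg.t π ∣ b)) :
    Module.length (ArLef.NodeAlg B π) (ArLef.NodeAlg B π ⧸ (ArLef.fixIdeal σ).colon ({ArLef.NodeAlg.t π ^ i₁ * ArLef.NodeAlg.e π ^ j} : Set (ArLef.NodeAlg B π))) + ((j - 1 - i₁ : ℕ) : ℕ∞) =
      ((j - i₁ : ℕ) : ℕ∞) * Module.length (ArLef.NodeAlg B π) (ArLef.NodeAlg B π ⧸ Ideal.span ({ArLef.NodeAlg.t π, b} : Set (ArLef.NodeAlg B π))) := by
  classical
  have hj : 1 ≤ j := by omega
  have hdom : IsDomain (ArLef.NodeAlg B π) := Groth.Agent.Lib.Seat71.Node.nodeAlg_isDomain π hπ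
  have tp := Groth.Agent.Lib.Seat71.Node.t_prime π hπ
  have ep := Groth.Agent.Lib.Seat71.Node.e_prime π hπ
  have hαβ := Groth.Agent.Lib.Seat71.Node.stab_mul_eq π hπ j hj γ σ hσπ α β ht he
  have hI := Groth.Agent.Lib.Seat71.Node.stab_fixIdeal π hπ j hj γ hγ σ hσB hσπ α β ht he
  have hte : ArLef.NodeAlg.t π * ArLef.NodeAlg.e π = algebraMap B (ArLef.NodeAlg B π) π :=
    Groth.Agent.Lib.Seat71.Node.t_mul_e π
  set P : ArLef.NodeAlg B π := algebraMap B (ArLef.NodeAlg B π) π with hP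
  set G : ArLef.NodeAlg B π := algebraMap B (ArLef.NodeAlg B π) γ with hG
  set tt : ArLef.NodeAlg B π := ArLef.NodeAlg.t π with htt
  set ee : ArLef.NodeAlg B π := ArLef.NodeAlg.e π with hee
  have hGu : IsUnit G := hγ.map _
  have hej : ee ^ j = ee ^ (j - 1) * ee := by
    rw [← pow_succ]; congr 1; omega
  set D0 : ArLef.NodeAlg B π := tt ^ i₁ * ee ^ (j - 1) with hD0
  have hD00 : D0 ≠ 0 := mul_ne_zero (pow_ne_zero _ tp.ne_zero) (pow_ne_zero _ ep.ne_zero)
  have hD : tt ^ i₁ * ee ^ j = D0 * ee := by rw [hD0, hej]; ring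
  have hD1 : D0 * ee ≠ 0 := mul_ne_zero hD00 ep.ne_zero
  have ha' : (α : ArLef.NodeAlg B π) - 1 = D0 * (ee * a) := by rw [ha, hD]; ring
  set m : ℕ := j - 1 - i₁ with hm
  have hPM : P ^ (j - 1) = D0 * tt ^ m := by
    have e1 : tt ^ (j - 1) = tt ^ i₁ * tt ^ m := by rw [← pow_add]; congr 1; omega
    rw [← hte, mul_pow, e1, hD0]; ring
  have h1 : (ee * a) * β = G * tt ^ m - b := by
    apply mul_left_cancel₀ hD00
    have : D0 * ((ee * a) * β) = G * P ^ (j - 1) - D0 * b := by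
      linear_combination hαβ - (β : ArLef.NodeAlg B π) * ha' - hb
    rw [this, hPM]; ring
  have h2 : b * α = G * tt ^ m - ee * a := by
    apply mul_left_cancel₀ hD00
    have : D0 * (b * α) = G * P ^ (j - 1) - D0 * (ee * a) := by
      linear_combination hαβ - (α : ArLef.NodeAlg B π) * hb - ha'
    rw [this, hPM]; ring
  have hI2 : ArLef.fixIdeal σ = Ideal.span {(D0 * ee) * (tt * a)} ⊔ Ideal.span {(D0 * ee) * b} := by
    rw [hI, ha', hb]
    congr 2
    · ring_nf
    · ring_nf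
  have treg := Groth.Agent.Lib.Seat71.Node.t_reg_of_not_dvd π hπ htb
  have heb : ¬ ee ∣ b := by
    intro hb'
    have h3 : ee ∣ G * tt ^ m := by
      have : G * tt ^ m = b * α + ee * a := by rw [h2]; ring
      rw [this]
      exact dvd_add (dvd_mul_of_dvd_left hb' _) (dvd_mul_right _ _)
    rcases ep.dvd_or_dvd h3 with h4 | h4
    · exact ep.not_unit (isUnit_of_dvd_unit h4 hGu)
    · exact Groth.Agent.Lib.Seat71.Node.not_e_dvd_t_pow π hπ m h4
  have ereg := Groth.Agent.Lib.Seat71.Node.e_reg_of_not_dvd π hπ heb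
  have s1 : Groth.Agent.Lib.Seat71.Len.L (tt * a) b =
      Groth.Agent.Lib.Seat71.Len.L b tt + Groth.Agent.Lib.Seat71.Len.L b a := by
    rw [Groth.Agent.Lib.Seat71.Len.L_comm, Groth.Agent.Lib.Seat71.Len.L_mul_right b tt a treg]
  have s2 : Groth.Agent.Lib.Seat71.Len.L b (ee * a) =
      Groth.Agent.Lib.Seat71.Len.L b ee + Groth.Agent.Lib.Seat71.Len.L b a :=
    Groth.Agent.Lib.Seat71.Len.L_mul_right b ee a ereg
  have s3 : Groth.Agent.Lib.Seat71.Len.L b (ee * a) = (m : ℕ∞) * Groth.Agent.Lib.Seat71.Len.L b tt := by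
    rw [← Groth.Agent.Lib.Seat71.Len.L_pow_right b tt treg m]
    refine Groth.Agent.Lib.Seat71.Len.L_eq_of_eq_unit_mul_add b
      (u := (↑β⁻¹ : ArLef.NodeAlg B π) * G)
      (i := -(↑β⁻¹ : ArLef.NodeAlg B π) * b) ((β⁻¹).isUnit.mul hGu) ?_ ?_
    · exact Ideal.mul_mem_left _ _ (Ideal.mem_span_singleton_self _)
    · have h3 : ee * a = ((ee * a) * (β : ArLef.NodeAlg B π)) * (↑β⁻¹ : ArLef.NodeAlg B π) := by
        rw [mul_assoc, Units.mul_inv, mul_one]
      rw [h3, h1]; ring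
  have s4 : Groth.Agent.Lib.Seat71.Len.L b ee = (m : ℕ∞) := by
    rw [Groth.Agent.Lib.Seat71.Len.L_comm]
    have h3 : Groth.Agent.Lib.Seat71.Len.L ee b = Groth.Agent.Lib.Seat71.Len.L ee (tt ^ m) := by
      refine Groth.Agent.Lib.Seat71.Len.L_eq_of_eq_unit_mul_add ee
        (u := (↑α⁻¹ : ArLef.NodeAlg B π) * G)
        (i := -(↑α⁻¹ : ArLef.NodeAlg B π) * a * ee) ((α⁻¹).isUnit.mul hGu) ?_ ?_
      · exact Ideal.mul_mem_left _ _ (Ideal.mem_span_singleton_self _)
      · have h3 : b = (b * (α : ArLef.NodeAlg B π)) * (↑α⁻¹ : ArLef.NodeAlg B π) := by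
          rw [mul_assoc, Units.mul_inv, mul_one]
        rw [h3, h2]; ring
    rw [h3, Groth.Agent.Lib.Seat71.Len.L_pow_right ee tt
      (Groth.Agent.Lib.Seat71.Node.t_reg_span_e π hπ) m, Groth.Agent.Lib.Seat71.Node.L_e_t π hπ,
      mul_one]
  rw [hD, hI2, Groth.Agent.Lib.Seat71.Node.colon_span_mul_sup_span_mul hD1,
    Groth.Agent.Lib.Seat71.Len.L_pair,
    ← Groth.Agent.Lib.Seat71.Len.L_def, s1, Groth.Agent.Lib.Seat71.Len.L_comm tt b]
  have e1 : j - i₁ = m + 1 := by omega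
  rw [e1]
  have s5 : Groth.Agent.Lib.Seat71.Len.L b a + (m : ℕ∞) =
      (m : ℕ∞) * Groth.Agent.Lib.Seat71.Len.L b tt := by
    rw [← s3, s2, s4, add_comm]
  rw [add_assoc, s5]
  push_cast
  ring

end Groth.Agent.S19597
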