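import Groth.Statements.S19605
import Groth.Agent.Lib.Seat64CMMult2
import Groth.Agent.S12453
import Groth.Agent.Lib.Seat98PicCalc

set_option autoImplicit false
universe u
open CategoryTheory CategoryTheory.Limits AlgebraicGeometry
open Variety

namespace Groth.Agent.S19605

/-- Let F be an m-regular coherent module on projective n-space over a field k. Then for all integers d
≥ m and e ≥ 0 the multiplication map H^0(F(d)) ⊗_k H^0(O(e)) → H^0(F(d+e)) is surjective. The target
is written as the global sections of F(d) ⊗ O(e) and the map as the canonical map from the global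
sections of the sectionwise tensor product presheaf (these are H^0(F(d)) ⊗ H^0(O(e)), the tensor
being over the global functions, a field) to the global sections of its sheafification. -/
theorem result (k : Type u) [Field k] (n : ℕ)
    (F : (CohB1.ProjSpace n k).Modules) (hF : Coh.IsCoh F) (m d : ℤ) (hd : m ≤ d) (h : Curv2.IsMRegular k n F m)
    (e : ℕ) :
    Function.Surjective
      ((toSheafify (Opens.grothendieckTopology (CohB1.ProjSpace n k))
        (CohB1.tensorPre (CohB1.tensorMod F (Twist.twistProjSpace n k d))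
          (Twist.twistProjSpace n k (e : ℤ))).presheaf).app (Opposite.op ⊤)) := by
  haveI : F.IsQuasicoherent := hF.1
  have hcov : (⨆ f : CohB1.polyGrading n k 1, Proj.basicOpen (CohB1.polyGrading n k)
      (f : MvPolynomial (Fin (n + 1)) k)) = ⊤ := by
    rw [eq_top_iff, ← Groth.Agent.Lib.Helper27PnChart.iSup_basicOpen_X n k]
    refine iSup_le fun j => ?_
    exact le_iSup (fun f : CohB1.polyGrading n k 1 => Proj.basicOpen (CohB1.polyGrading n k)
      (f : MvPolynomial (Fin (n + 1)) k)) ⟨MvPolynomial.X j, Groth.Agent.Lib.Helper27PnChart.X_mem_one n k j⟩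
  have hmul : ∀ a b : ℤ, Nonempty (CohB1.tensorMod (Twist.twistProjSpace n k a)
      (Twist.twistProjSpace n k b) ≅ Twist.twistProjSpace n k (a + b)) := fun a b =>
    (Groth.Agent.S12453.result (CohB1.polyGrading n k) hcov).2.1 a b
  have hall := Groth.Agent.Lib.Seat64.CMReg.regular_ge n k F m
    (Groth.Agent.Lib.Seat64.CMReg.regular_all_of_le n k F m h)
  have hG : ∀ (z t : ℕ), 1 ≤ t → t ≤ n → Subsingleton (Coh.HH (CohB1.ProjSpace n k)
      (CohB1.tensorMod (CohB1.tensorMod F (Twist.twistProjSpace n k d))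
        (Twist.twistProjSpace n k ((z : ℤ) - (t : ℤ)))) t) := by
    intro z t ht1 _
    obtain ⟨e'⟩ := hmul d ((z : ℤ) - (t : ℤ))
    let φ : CohB1.tensorMod (CohB1.tensorMod F (Twist.twistProjSpace n k d))
        (Twist.twistProjSpace n k ((z : ℤ) - (t : ℤ))) ≅
        CohB1.tensorMod F (Twist.twistProjSpace n k (d + ((z : ℤ) - (t : ℤ)))) :=
      Groth.Agent.Lib.Seat98.PicCalc.tAssoc _ _ _ ≪≫
        Groth.Agent.Lib.Seat98.PicCalc.tIso (Iso.refl F) e'
    exact Groth.Agent.Lib.Seat64.TwistSES.subsingleton_HH_of_iso φ t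
      (hall t (d + ((z : ℤ) - (t : ℤ))) ht1 (by omega))
  simp only [Groth.Agent.Lib.Seat54.PnVanish.twist_eq_tilde] at hG
  have key := Groth.Agent.Lib.Seat64.CMMult.P_nat n k
    (CohB1.tensorMod F (Twist.twistProjSpace n k d)) hG e
  rw [Groth.Agent.Lib.Seat54.PnVanish.twist_eq_tilde n k (e : ℤ)]
  intro y
  obtain ⟨p, hp⟩ := key y
  exact ⟨p, hp⟩

end Groth.Agent.S19605
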