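import Groth.Statements.S19606
import Groth.Agent.Lib.Seat96ModSec

set_option autoImplicit false
universe u
open CategoryTheory CategoryTheory.Limits AlgebraicGeometry
open ClSub

namespace Groth.Agent.S19606

open Groth.Agent.Lib.Seat96.ModSec

/-- Let X be a scheme and I₁, I₂ quasi-coherent ideal sheaves with I₁ ⊓ I₂ = 0, cutting out closed
subschemes X₁, X₂ and X₁ ∩ X₂ (ideal I₁ + I₂). Then 0 → O_X → O_X/I₁ ⊕ O_X/I₂ → O_X/(I₁ + I₂) → 0 is
an exact sequence of O_X-modules, the maps being the two restrictions and the difference of the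
restrictions q₁, q₂ (the module maps compatible with the quotient maps from O_X). The published
statement is for a locally free sheaf E on a reduced scheme with two irreducible components X₁, X₂
(whose ideals meet in zero); this row is the case E = O_X for any two ideals with zero intersection,
which is what the local argument uses. -/
theorem result (X : Scheme.{u}) (I₁ I₂ : X.IdealSheafData)
    (h : I₁ ⊓ I₂ = ⊥)
    (q₁ : ClSub.quotMod I₁ ⟶ ClSub.quotMod (I₁ ⊔ I₂)) (q₂ : ClSub.quotMod I₂ ⟶ ClSub.quotMod (I₁ ⊔ I₂))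
    (hq₁ : ClSub.toSubscheme I₁ ≫ q₁ = ClSub.toSubscheme (I₁ ⊔ I₂))
    (hq₂ : ClSub.toSubscheme I₂ ≫ q₂ = ClSub.toSubscheme (I₁ ⊔ I₂)) :
    Epi (biprod.desc q₁ (-q₂)) ∧
      ∃ w : biprod.lift (ClSub.toSubscheme I₁) (ClSub.toSubscheme I₂) ≫ biprod.desc q₁ (-q₂) = 0,
        Nonempty (IsLimit (KernelFork.ofι (biprod.lift (ClSub.toSubscheme I₁) (ClSub.toSubscheme I₂)) w)) := by
  have hepi₁ : Epi q₁ := epi_of_epi_fac hq₁
  have hepi : Epi (biprod.desc q₁ (-q₂)) := by
    have h1 : biprod.inl ≫ biprod.desc q₁ (-q₂) = q₁ := biprod.inl_desc _ _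
    exact epi_of_epi_fac h1
  have w : biprod.lift (ClSub.toSubscheme I₁) (ClSub.toSubscheme I₂) ≫ biprod.desc q₁ (-q₂) = 0 := by
    rw [biprod.lift_desc, hq₁, Preadditive.comp_neg, hq₂, add_neg_cancel]
  refine ⟨hepi, w, ⟨?_⟩⟩
  set L := biprod.lift (ClSub.toSubscheme I₁) (ClSub.toSubscheme I₂) with hL
  set D := biprod.desc q₁ (-q₂) with hD
  let k := kernel.lift D L w
  have hkι : k ≫ kernel.ι D = L := kernel.lift_ι _ _ _
  have hL1 : L ≫ biprod.fst = ClSub.toSubscheme I₁ := biprod.lift_fst _ _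
  have hL2 : L ≫ biprod.snd = ClSub.toSubscheme I₂ := biprod.lift_snd _ _
  have hk : IsIso k := by
    apply isIso_of_bijective_on_affines
    intro U
    constructor
    · intro s s' hss
      have e1 : L.app U.1 s = L.app U.1 s' := by
        have := congrArg ((kernel.ι D).app U.1) hss
        rwa [← comp_app_apply, ← comp_app_apply, hkι] at this
      have e2 : (ClSub.toSubscheme I₁).app U.1 s = (ClSub.toSubscheme I₁).app U.1 s' := by
        have := congrArg ((biprod.fst : ClSub.quotMod I₁ ⊞ ClSub.quotMod I₂ ⟶ _).app U.1) e1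
        rwa [← comp_app_apply, ← comp_app_apply, hL1] at this
      have e3 : (ClSub.toSubscheme I₂).app U.1 s = (ClSub.toSubscheme I₂).app U.1 s' := by
        have := congrArg ((biprod.snd : ClSub.quotMod I₁ ⊞ ClSub.quotMod I₂ ⟶ _).app U.1) e1
        rwa [← comp_app_apply, ← comp_app_apply, hL2] at this
      let a : Γ(X, U.1) := s
      let a' : Γ(X, U.1) := s'
      have m1 : a - a' ∈ I₁.ideal U := by
        refine (toSubscheme_app_eq_zero_iff I₁ U (a - a')).mp ?_
        exact (map_sub ((ClSub.toSubscheme I₁).app U.1).hom s s').trans (sub_eq_zero.mpr e2)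
      have m2 : a - a' ∈ I₂.ideal U := by
        refine (toSubscheme_app_eq_zero_iff I₂ U (a - a')).mp ?_
        exact (map_sub ((ClSub.toSubscheme I₂).app U.1).hom s s').trans (sub_eq_zero.mpr e3)
      have m3 : a - a' ∈ (I₁ ⊓ I₂).ideal U := ⟨m1, m2⟩
      rw [h] at m3
      exact sub_eq_zero.mp m3
    · intro y
      set x := (kernel.ι D).app U.1 y with hx
      obtain ⟨s₁, hs₁⟩ := toSubscheme_app_surjective I₁ U
        ((biprod.fst : ClSub.quotMod I₁ ⊞ ClSub.quotMod I₂ ⟶ _).app U.1 x)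
      obtain ⟨s₂, hs₂⟩ := toSubscheme_app_surjective I₂ U
        ((biprod.snd : ClSub.quotMod I₁ ⊞ ClSub.quotMod I₂ ⟶ _).app U.1 x)
      have hDx : D.app U.1 x = 0 := by
        have := app_congr (kernel.condition D) U.1 y
        rwa [comp_app_apply, zero_app_apply] at this
      have hD' : D.app U.1 x =
          q₁.app U.1 ((biprod.fst : ClSub.quotMod I₁ ⊞ ClSub.quotMod I₂ ⟶ _).app U.1 x) -
          q₂.app U.1 ((biprod.snd : ClSub.quotMod I₁ ⊞ ClSub.quotMod I₂ ⟶ _).app U.1 x) := by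
        have hDD : D = biprod.fst ≫ q₁ + biprod.snd ≫ (-q₂) := biprod.desc_eq
        rw [app_congr hDD, add_app_apply, comp_app_apply, comp_app_apply, neg_app_apply,
          sub_eq_add_neg]
      have e : (ClSub.toSubscheme (I₁ ⊔ I₂)).app U.1 s₁ = (ClSub.toSubscheme (I₁ ⊔ I₂)).app U.1 s₂ := by
        rw [← app_congr hq₁, ← app_congr hq₂, comp_app_apply, comp_app_apply, hs₁, hs₂]
        exact sub_eq_zero.mp (hD'.symm.trans hDx)
      let a₁ : Γ(X, U.1) := s₁
      let a₂ : Γ(X, U.1) := s₂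
      have m : a₁ - a₂ ∈ (I₁ ⊔ I₂).ideal U := by
        refine (toSubscheme_app_eq_zero_iff (I₁ ⊔ I₂) U (a₁ - a₂)).mp ?_
        exact (map_sub ((ClSub.toSubscheme (I₁ ⊔ I₂)).app U.1).hom s₁ s₂).trans (sub_eq_zero.mpr e)
      have m' : a₁ - a₂ ∈ I₁.ideal U ⊔ I₂.ideal U := m
      obtain ⟨b₁, hb₁, b₂, hb₂, hb⟩ := Submodule.mem_sup.mp m'
      have z₁ : (ClSub.toSubscheme I₁).app U.1 (b₁ : Γ(Coh.structureModule X, U.1)) = 0 :=
        (toSubscheme_app_eq_zero_iff I₁ U b₁).mpr hb₁
      have z₂ : (ClSub.toSubscheme I₂).app U.1 (b₂ : Γ(Coh.structureModule X, U.1)) = 0 :=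
        (toSubscheme_app_eq_zero_iff I₂ U b₂).mpr hb₂
      have hs : a₁ - b₁ = a₂ + b₂ := by
        have : a₁ = a₂ + (b₁ + b₂) := by rw [hb]; ring
        rw [this]; ring
      refine ⟨(a₁ - b₁ : Γ(X, U.1)), ?_⟩
      apply injective_app_of_mono (kernel.ι D) U.1
      rw [← comp_app_apply, hkι]
      apply biprod_ext_apply
      · rw [← comp_app_apply, hL1, ← hs₁]
        refine (map_sub ((ClSub.toSubscheme I₁).app U.1).hom s₁ b₁).trans ?_
        rw [show ((ClSub.toSubscheme I₁).app U.1).hom b₁ = 0 from z₁, sub_zero]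
      · rw [← comp_app_apply, hL2, ← hs₂, hs]
        refine (map_add ((ClSub.toSubscheme I₂).app U.1).hom s₂ b₂).trans ?_
        rw [show ((ClSub.toSubscheme I₂).app U.1).hom b₂ = 0 from z₂, add_zero]
  exact IsLimit.ofIsoLimit (kernelIsKernel D) (Fork.ext (asIso k).symm (by
    simp only [Iso.symm_hom, asIso_inv, IsIso.inv_comp_eq]
    exact hkι.symm))

end Groth.Agent.S19606
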