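import Groth.Statements.S19613
import Groth.Agent.Lib.Helper22ThickAffine
import Groth.Agent.Lib.Helper23FinTypeLocal

set_option autoImplicit false
universe u
open CategoryTheory AlgebraicGeometry TopologicalSpace
open CartMod

namespace Groth.Agent.S19613


/-- a closed immersion with nilpotent kernel is surjective on points -/
theorem surj_of_nil {T Tc : Scheme.{u}} (i : T ⟶ Tc) [IsClosedImmersion i]
    (hnil : ∃ n : ℕ, ∀ V : Tc.affineOpens, i.ker.ideal V ^ n = ⊥) :
    Function.Surjective i := by
  obtain ⟨n, hn⟩ := hnil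
  intro x
  have hx : x ∈ i.ker.support := by
    obtain ⟨V, hV, hxV, -⟩ := AlgebraicGeometry.exists_isAffineOpen_mem_and_subset (X := Tc) (U := ⊤) (x := x) trivial
    rw [Scheme.IdealSheafData.mem_support_iff_of_mem (U := ⟨V, hV⟩) hxV, Scheme.mem_zeroLocus_iff]
    intro f hf hxf
    have h0 : f ^ (n + 1) = 0 := by
      have : f ^ (n + 1) ∈ i.ker.ideal ⟨V, hV⟩ ^ (n + 1) := Ideal.pow_mem_pow hf _
      rw [pow_succ, hn ⟨V, hV⟩] at this
      simpa using this
    have : Tc.basicOpen f = ⊥ := by
      rw [← Scheme.basicOpen_pow (X := Tc) (f := f) (n := n + 1) (Nat.succ_pos n), h0, Scheme.basicOpen_zero]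
    rw [this] at hxf
    exact hxf
  have h2 : x ∈ (i.ker.support : Set Tc) := hx
  rw [Scheme.Hom.support_ker, i.isClosedEmbedding.isClosed_range.closure_eq] at h2
  exact h2


/-- preimages under `g` of affine opens of `U` are affine opens of the thickening -/
theorem isAffineOpen_preimage {T Tc U : Scheme.{u}} (i : T ⟶ Tc) [IsClosedImmersion i]
    (hsurj : Function.Surjective i)
    (u : T ⟶ U) [IsAffineHom u] (g : Tc.carrier ⟶ U.carrier) (hg : i.base ≫ g = u.base)
    {V : U.Opens} (hV : IsAffineOpen V) : IsAffineOpen ((Opens.map g).obj V) := by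
  set W : Tc.Opens := (Opens.map g).obj V with hWdef
  have hW : i ⁻¹ᵁ W = u ⁻¹ᵁ V := by
    ext x
    have h1 : g (i x) = u x := by
      have := congrArg (fun f : T.carrier ⟶ U.carrier => f x) hg
      simpa using this
    change g (i x) ∈ V ↔ u x ∈ V
    rw [h1]
  have hA : IsAffineOpen (i ⁻¹ᵁ W) := hW ▸ hV.preimage u
  have : IsAffine (i ⁻¹ᵁ W).toScheme := hA
  have : IsClosedImmersion (i ∣_ W) := inferInstance
  have hs : Function.Surjective (i ∣_ W) := by
    rintro ⟨y, hy⟩
    obtain ⟨x, rfl⟩ := hsurj y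
    refine ⟨⟨x, hy⟩, Subtype.ext ?_⟩
    rw [morphismRestrict_base_coe]
  exact Groth.Agent.Lib.Helper22.ThickAffine.isAffine_of_thickening (i ∣_ W) hs


open Opposite in
theorem aux
    {T Tc U : Scheme.{u}} (i : T ⟶ Tc) [IsClosedImmersion i]
    (hnil : ∃ n : ℕ, ∀ V : Tc.affineOpens, i.ker.ideal V ^ n = ⊥)
    (u : T ⟶ U) [IsAffineHom u] (g : Tc.carrier ⟶ U.carrier) (hg : i.base ≫ g = u.base)
    (M N : Tc.Modules) [M.IsQuasicoherent] [N.IsQuasicoherent] (φ : M ⟶ N) [Epi φ] :
    Epi ((SheafOfModules.pushforward (F := Opens.map g) (R := Tc.ringCatSheaf)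
      (𝟙 (((Opens.map g).sheafPushforwardContinuous RingCat.{u} (Opens.grothendieckTopology U)
        (Opens.grothendieckTopology Tc)).obj Tc.ringCatSheaf))).map φ) := by
  have hsurj := surj_of_nil i hnil
  set R' := ((Opens.map g).sheafPushforwardContinuous RingCat.{u} (Opens.grothendieckTopology U)
        (Opens.grothendieckTopology Tc)).obj Tc.ringCatSheaf with hR'
  set ψ := (SheafOfModules.pushforward (F := Opens.map g) (R := Tc.ringCatSheaf) (𝟙 R')).map φ
    with hψ
  have hloc : Presheaf.IsLocallySurjective (Opens.grothendieckTopology U)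
      ((PresheafOfModules.toPresheaf _).map ψ.val) := by
    refine ⟨fun {V} s => ?_⟩
    intro x hx
    obtain ⟨V', hV', hxV', hV'V⟩ :=
      AlgebraicGeometry.exists_isAffineOpen_mem_and_subset (X := U) (U := V) (x := x) hx
    have hW := isAffineOpen_preimage i hsurj u g hg hV'
    have hle : (Opens.map g).obj V' ≤ (Opens.map g).obj V := fun y hy => hV'V hy
    obtain ⟨t, ht⟩ := Groth.Agent.Lib.Helper23.FinType.surjective_app_of_epi φ hW
      (N.presheaf.map (homOfLE hle).op s)
    exact ⟨V', homOfLE hV'V, ⟨t, ht⟩, hxV'⟩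
  have : Sheaf.IsLocallySurjective ((SheafOfModules.toSheaf R').map ψ) := hloc
  have : Epi ((SheafOfModules.toSheaf R').map ψ) :=
    (Sheaf.isLocallySurjective_iff_epi' AddCommGrpCat.{u} _).1 inferInstance
  exact (SheafOfModules.toSheaf R').epi_of_epi_map inferInstance

/-- Let u : T → U be an affine morphism of schemes and i : T → T♮ a nilpotent closed immersion (its
ideal has a vanishing power), so that |T♮| = |T|; let g : |T♮| → |U| be the continuous map
underlying u, and v : (T♮, O_{T♮}) → (U, g_*O_{T♮}) the induced morphism of ringed spaces (identity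
on structure rings), with direct image v_* (sections over g⁻¹ of an open) and inverse image v^* its
left adjoint. Then the restriction of v_* to quasi-coherent O_{T♮}-modules is exact; since v_* is a
right adjoint, the content is that v_* of an epimorphism between quasi-coherent O_{T♮}-modules is an
epimorphism of sheaves of g_*O_{T♮}-modules on U, which is what is stated. -/
theorem result
    {T Tc U : Scheme.{u}} (i : T ⟶ Tc) [IsClosedImmersion i]
    (hnil : ∃ n : ℕ, ∀ V : Tc.affineOpens, i.ker.ideal V ^ n = ⊥)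
    (u : T ⟶ U) [IsAffineHom u] (g : Tc.carrier ⟶ U.carrier) (hg : i.base ≫ g = u.base)
    (M N : Tc.Modules) [M.IsQuasicoherent] [N.IsQuasicoherent] (φ : M ⟶ N) [Epi φ] :
    Epi ((SheafOfModules.pushforward (F := Opens.map g) (R := Tc.ringCatSheaf)
      (𝟙 (((Opens.map g).sheafPushforwardContinuous RingCat.{u} (Opens.grothendieckTopology U)
        (Opens.grothendieckTopology Tc)).obj Tc.ringCatSheaf))).map φ) :=
  aux i hnil u g hg M N φ

end Groth.Agent.S19613
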