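import Groth.Statements.S19616
import Groth.Agent.Lib.Seat96Dilat

set_option autoImplicit false
universe u
open CartMod

namespace Groth.Agent.S19616

open Groth.Agent.Lib.Seat96.Dilat AdicCompletion

/-- Let p be a prime, A a commutative ring which is complete and separated for the p-adic topology and
has no p-torsion, and a_1, …, a_n elements of A (so that (p, a_1, …, a_n) is an open ideal
containing p). Then there is a commutative A-algebra D, complete and separated for the p-adic
topology and without p-torsion, in which each a_i is divisible by p, with the following universal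
property: for every A-algebra B which is p-adically complete and separated, has no p-torsion, and in
which each a_i is divisible by p, there is exactly one A-algebra homomorphism D → B; moreover this
homomorphism is surjective whenever A → B is. (D is the coordinate ring of the dilatation of Spf A
with respect to p along the closed subscheme defined by (p, a_1, …, a_n). The published statement is
for flat p-adic formal schemes locally of finite type over the Witt vectors of a perfect field; this
row is its affine, ring-level case without a finiteness hypothesis.) -/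
theorem result (p : ℕ) [Fact p.Prime]
    (A : Type u) [CommRing A] [IsAdicComplete (Ideal.span {(p : A)}) A]
    (hA : IsSMulRegular A (p : A)) {n : ℕ} (a : Fin n → A) :
    ∃ (D : Type u) (_ : CommRing D) (_ : Algebra A D),
      IsAdicComplete (Ideal.span {(p : D)}) D ∧ IsSMulRegular D (p : D) ∧
      (∀ i, algebraMap A D (a i) ∈ Ideal.span {(p : D)}) ∧
      ∀ (B : Type u) [CommRing B] [Algebra A B] [IsAdicComplete (Ideal.span {(p : B)}) B],
        IsSMulRegular B (p : B) → (∀ i, algebraMap A B (a i) ∈ Ideal.span {(p : B)}) →
          Nonempty (D →ₐ[A] B) ∧ Subsingleton (D →ₐ[A] B) ∧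
            (Function.Surjective (algebraMap A B) → ∀ f : D →ₐ[A] B, Function.Surjective f) := by
  have hp : algebraMap (D1 p a) (Cpl (p : D1 p a)) (p : D1 p a) = (p : Cpl (p : D1 p a)) :=
    map_natCast _ p
  refine ⟨Cpl (p : D1 p a), inferInstance, inferInstance, ?_, ?_, ?_, ?_⟩
  · have := isAdicComplete_Cpl (p : D1 p a)
    rwa [hp] at this
  · have := isSMulRegular_Cpl (p : D1 p a) (isSMulRegular_D1 p a)
    rwa [hp] at this
  · intro i
    have h1 : algebraMap A (Cpl (p : D1 p a)) (a i)
        = algebraMap (D1 p a) (Cpl (p : D1 p a)) (algebraMap A (D1 p a) (a i)) := rfl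
    rw [h1, algebraMap_a, map_mul, hp]
    exact Ideal.mem_span_singleton'.2 ⟨_, mul_comm _ _⟩
  · intro B _ _ _ hB hb
    have hb' : ∀ i, ∃ c : B, algebraMap A B (a i) = (p : B) * c := by
      intro i
      obtain ⟨c, hc⟩ := Ideal.mem_span_singleton'.1 (hb i)
      exact ⟨c, by rw [← hc, mul_comm]⟩
    choose b hb2 using hb'
    obtain ⟨φ₁, -⟩ := exists_algHom p a hB b hb2
    have hφ₁ : φ₁ (p : D1 p a) = (p : B) := map_natCast φ₁ p
    refine ⟨exists_lift (p : D1 p a) (p : B) φ₁ hφ₁, ⟨fun ψ ψ' => ?_⟩, ?_⟩
    · have hψ : ∀ ψ : Cpl (p : D1 p a) →ₐ[A] B,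
          ψ (algebraMap (D1 p a) (Cpl (p : D1 p a)) (p : D1 p a)) = (p : B) := by
        intro ψ; rw [hp]; exact map_natCast ψ p
      refine ext_of_comp_of (p : D1 p a) (p : B) ψ ψ' (hψ ψ) (hψ ψ') fun d => ?_
      let ι : D1 p a →ₐ[A] Cpl (p : D1 p a) :=
        { toRingHom := algebraMap (D1 p a) (Cpl (p : D1 p a))
          commutes' := fun r => rfl }
      have := Groth.Agent.Lib.Seat96.Dilat.algHom_ext p a hB (ψ.comp ι) (ψ'.comp ι)
      exact DFunLike.congr_fun this d
    · intro hs f y
      obtain ⟨r, rfl⟩ := hs y
      exact ⟨algebraMap A _ r, f.commutes r⟩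

end Groth.Agent.S19616
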