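import Groth.Statements.S19618
import Mathlib.RingTheory.Ideal.KrullsHeightTheorem
import Mathlib.AlgebraicGeometry.AffineScheme

set_option autoImplicit false
universe u
open CategoryTheory CategoryTheory.Limits AlgebraicGeometry
open BlowUp

namespace Groth.Agent.S19618

/-- A point of the support of an effective Cartier ideal has a local ring of dimension at least one. -/
theorem one_le_dim_of_mem_support {X : Scheme.{u}} (𝓘 : X.IdealSheafData)
    (hY : BlowUp.IsEffCartierIdeal 𝓘) (y : X) (hy : y ∈ 𝓘.support) :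
    (1 : WithBot ℕ∞) ≤ ringKrullDim ↑(X.presheaf.stalk y) := by
  obtain ⟨U, hyU, f, hf, hI⟩ := hY y
  have hU : IsAffineOpen U.1 := U.2
  rw [Scheme.IdealSheafData.mem_support_iff_of_mem hyU, Scheme.mem_zeroLocus_iff] at hy
  have hfy : y ∉ X.basicOpen f := hy f (by rw [hI]; exact Ideal.mem_span_singleton_self f)
  -- the germ of `f` at `y`
  set g := X.presheaf.germ U.1 y hyU f with hg
  have hgm : g ∈ IsLocalRing.maximalIdeal (X.presheaf.stalk y) := by
    rw [IsLocalRing.mem_maximalIdeal, mem_nonunits_iff]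
    intro hu
    exact hfy ((X.mem_basicOpen f y hyU).2 hu)
  have hloc := hU.isLocalization_stalk ⟨y, hyU⟩
  let _ : Algebra Γ(X, U.1) (X.presheaf.stalk y) := (X.presheaf.germ U.1 y hyU).hom.toAlgebra
  have hgnzd : g ∈ nonZeroDivisors (X.presheaf.stalk y) := by
    have := IsLocalization.map_nonZeroDivisors_le (hU.primeIdealOf ⟨y, hyU⟩).asIdeal.primeCompl
      (X.presheaf.stalk y)
    exact this ⟨f, hf, rfl⟩
  have h1 := Ideal.one_le_height_span_singleton_of_mem_nonZeroDivisors hgnzd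
  have h2 : (Ideal.span {g}).height ≤ (IsLocalRing.maximalIdeal (X.presheaf.stalk y)).height :=
    Ideal.height_mono ((Ideal.span_singleton_le_iff_mem _).2 hgm)
  have h3 := Ideal.height_le_ringKrullDim_of_ne_top
    (I := IsLocalRing.maximalIdeal (X.presheaf.stalk y)) Ideal.IsPrime.ne_top'
  calc (1 : WithBot ℕ∞) = ((1 : ℕ∞) : WithBot ℕ∞) := rfl
    _ ≤ ((IsLocalRing.maximalIdeal (X.presheaf.stalk y)).height : WithBot ℕ∞) := by
        exact_mod_cast h1.trans h2
    _ ≤ _ := h3

/-- Let X be a locally Noetherian scheme, Y an effective Cartier divisor on X (a quasi-coherent ideal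
sheaf which, near every point, is generated on some affine open by one nonzerodivisor; Y is its
support) and Z a closed integral subscheme (a closed immersion i from an integral scheme with
generic point ξ). If Y and Z intersect properly — every point ζ of Y ∩ Z which is maximal under
generization inside Y ∩ Z satisfies dim O_{X,ζ} = codim(Y,X) + codim(Z,X), where codim(Y,X) is the
infimum over y ∈ Y of dim O_{X,y} and codim(Z,X) = dim O_{X,i(ξ)} — then Z is not contained in Y. -/
theorem result {X Z : Scheme.{u}}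
    [IsLocallyNoetherian X] (𝓘 : X.IdealSheafData) (hY : BlowUp.IsEffCartierIdeal 𝓘)
    (i : Z ⟶ X) [IsClosedImmersion i] [IsIntegral Z]
    (hprop : ∀ ζ : ↥X, ζ ∈ (𝓘.support : Set ↥X) ∩ Set.range i.base →
        (∀ ζ' : ↥X, ζ' ∈ (𝓘.support : Set ↥X) ∩ Set.range i.base → ζ' ⤳ ζ → ζ' = ζ) →
        ringKrullDim ↑(X.presheaf.stalk ζ) =
          (⨅ y : (𝓘.support : Set ↥X), ringKrullDim ↑(X.presheaf.stalk y.1)) +
            ringKrullDim ↑(X.presheaf.stalk (i (genericPoint ↥Z)))) :
    ¬ Set.range i.base ⊆ (𝓘.support : Set ↥X) := by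
  intro hsub
  set ξ : X := i (genericPoint ↥Z) with hξ
  have hξr : ξ ∈ Set.range i.base := ⟨genericPoint ↥Z, rfl⟩
  have hξs : ξ ∈ (𝓘.support : Set ↥X) := hsub hξr
  have hmax : ∀ ζ' : ↥X, ζ' ∈ (𝓘.support : Set ↥X) ∩ Set.range i.base → ζ' ⤳ ξ → ζ' = ξ := by
    rintro ζ' ⟨-, z, rfl⟩ hsp
    have h1 : genericPoint ↥Z ⤳ z := genericPoint_specializes z
    have h2 : ξ ⤳ i.base z := h1.map i.base.hom.continuous
    exact (hsp.antisymm h2).eq
  have key := hprop ξ ⟨hξs, hξr⟩ hmax
  have hinf : (1 : WithBot ℕ∞) ≤ ⨅ y : (𝓘.support : Set ↥X), ringKrullDim ↑(X.presheaf.stalk y.1) :=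
    le_iInf fun y => one_le_dim_of_mem_support 𝓘 hY y.1 y.2
  have hne_top : ringKrullDim ↑(X.presheaf.stalk ξ) ≠ ⊤ := ringKrullDim_ne_top
  have hne_bot : ringKrullDim ↑(X.presheaf.stalk ξ) ≠ ⊥ := ringKrullDim_ne_bot
  -- `a = c + a` with `1 ≤ c` and `a` finite is impossible
  obtain ⟨a, ha⟩ : ∃ a : ℕ, ringKrullDim ↑(X.presheaf.stalk ξ) = (a : WithBot ℕ∞) := by
    generalize ringKrullDim ↑(X.presheaf.stalk ξ) = d at hne_top hne_bot
    induction d with
    | bot => exact absurd rfl hne_bot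
    | coe d =>
      induction d with
      | top => exact absurd rfl hne_top
      | coe n => exact ⟨n, rfl⟩
  have h4 : (1 : WithBot ℕ∞) + ringKrullDim ↑(X.presheaf.stalk ξ) ≤ ringKrullDim ↑(X.presheaf.stalk ξ) := by
    calc (1 : WithBot ℕ∞) + ringKrullDim ↑(X.presheaf.stalk ξ)
        ≤ (⨅ y : (𝓘.support : Set ↥X), ringKrullDim ↑(X.presheaf.stalk y.1)) +
            ringKrullDim ↑(X.presheaf.stalk ξ) := by gcongr
      _ = ringKrullDim ↑(X.presheaf.stalk ξ) := key.symm
  rw [ha] at h4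
  have h5 : ((1 + a : ℕ) : WithBot ℕ∞) ≤ (a : WithBot ℕ∞) := by
    simpa using h4
  have h6 : (1 + a : ℕ) ≤ a := by exact_mod_cast h5
  omega

end Groth.Agent.S19618
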