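import Groth.Statements.S6508
import Groth.Agent.Lib.Seat28RD2

set_option autoImplicit false
universe u
open CategoryTheory
attribute [local instance] HasDerivedCategory.standard
open DCoh

namespace Groth.Agent.S6508

open AlgebraicGeometry CategoryTheory.Limits in
/-- Let f : X → Y be a morphism of schemes, V ⊆ Y open, U = f⁻¹(V) and g : U → V the induced morphism.
Then (Rf_* E)|_V ≅ Rg_*(E|_U) naturally in E ∈ D(O_X); asserted here as the existence of an
isomorphism between the two composite functors D(O_X) → D(O_V), the derived functors being assumed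
to exist. (The published statement is for ringed spaces; this row is for schemes.) -/
theorem result {X Y : Scheme.{u}} (f : X ⟶ Y) (V : Y.Opens)
    [DCoh.HasRpush f] [DCoh.HasRpush (f ∣_ V)]
    [PreservesFiniteLimits (Scheme.Modules.restrictFunctor V.ι)]
    [PreservesFiniteLimits (Scheme.Modules.restrictFunctor (f ⁻¹ᵁ V).ι)] :
    Nonempty (DCoh.Rpush f ⋙ DCoh.restrictD V.ι ≅ DCoh.restrictD (f ⁻¹ᵁ V).ι ⋙ DCoh.Rpush (f ∣_ V)) := by
  open Groth.Agent.Lib.Seat28.RD Groth.Agent.Lib.Seat28.OpenBC Groth.Agent.Lib.Helper17.KInj in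
  -- the two functors on complexes
  let F₁ : CochainComplex X.Modules ℤ ⥤ DCoh.D (V : Scheme.{u}) :=
    ((Scheme.Modules.pushforward f).mapHomologicalComplex (ComplexShape.up ℤ) ⋙
      DerivedCategory.Q) ⋙ (Scheme.Modules.restrictFunctor V.ι).mapDerivedCategory
  let F₂ : CochainComplex X.Modules ℤ ⥤ DCoh.D (V : Scheme.{u}) :=
    (Scheme.Modules.restrictFunctor (f ⁻¹ᵁ V).ι).mapHomologicalComplex (ComplexShape.up ℤ) ⋙
      ((Scheme.Modules.pushforward (f ∣_ V)).mapHomologicalComplex (ComplexShape.up ℤ) ⋙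
        DerivedCategory.Q)
  let e : F₁ ≅ F₂ :=
    Functor.associator _ _ _ ≪≫
    Functor.isoWhiskerLeft _ (Scheme.Modules.restrictFunctor V.ι).mapDerivedCategoryFactors ≪≫
    (Functor.associator _ _ _).symm ≪≫
    Functor.isoWhiskerRight
      (Functor.mapHomologicalComplexCompIso (bcIso f V) (ComplexShape.up ℤ) ≪≫
      (Functor.mapHomologicalComplexCompIso
        (Iso.refl (Scheme.Modules.restrictFunctor (f ⁻¹ᵁ V).ι ⋙
          Scheme.Modules.pushforward (f ∣_ V))) (ComplexShape.up ℤ)).symm) DerivedCategory.Q ≪≫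
    Functor.associator _ _ _
  have hF₁ : (HomologicalComplex.homotopyEquivalences X.Modules (ComplexShape.up ℤ)).IsInvertedBy
      F₁ :=
    isInvertedBy_comp (isInvertedBy_mapHomologicalComplex_comp_Q (Scheme.Modules.pushforward f))
      (Scheme.Modules.restrictFunctor V.ι).mapDerivedCategory
  have hF₂ : (HomologicalComplex.homotopyEquivalences X.Modules (ComplexShape.up ℤ)).IsInvertedBy
      F₂ := (MorphismProperty.IsInvertedBy.iff_of_iso _ e).1 hF₁
  have h₁ := isRightDerivedFunctor_post.{u} (Scheme.Modules.pushforward f)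
    (Scheme.Modules.restrictFunctor V.ι)
  have h₂ := isRightDerivedFunctor_pre.{u} (Scheme.Modules.pushforward (f ∣_ V))
    (Scheme.Modules.restrictFunctor (f ⁻¹ᵁ V).ι) hF₂
    (fun I hI => by have := hI; exact isKInjective_restrict (f ⁻¹ᵁ V) I)
  exact ⟨Functor.rightDerivedNatIso (DCoh.Rpush f ⋙ DCoh.restrictD V.ι)
    (DCoh.restrictD (f ⁻¹ᵁ V).ι ⋙ DCoh.Rpush (f ∣_ V))
    (Functor.whiskerRight (unitC (Scheme.Modules.pushforward f))
      (Scheme.Modules.restrictFunctor V.ι).mapDerivedCategory ≫ (Functor.associator _ _ _).hom)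
    (unitPre (Scheme.Modules.pushforward (f ∣_ V)) (Scheme.Modules.restrictFunctor (f ⁻¹ᵁ V).ι))
    (HomologicalComplex.quasiIso X.Modules (ComplexShape.up ℤ)) e⟩

end Groth.Agent.S6508
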