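import Groth.Statements.S19620
import Groth.Agent.S6508
import Groth.Agent.Lib.Seat28Supp
import Groth.Agent.Lib.Seat28SuppRpush
import Groth.Agent.Lib.Seat28RpushAdd
import Groth.Agent.Lib.Seat28RDExist

set_option autoImplicit false
universe u
open CategoryTheory CategoryTheory.Limits AlgebraicGeometry
attribute [local instance] HasDerivedCategory.standard
open DCoh

namespace Groth.Agent.S19620

theorem subsingleton_stalk_of_isZero {X : Scheme.{u}} {M : X.Modules} (hz : IsZero M) (x : X) :
    Subsingleton (M.presheaf.stalk x) := by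
  refine ⟨fun a b => ?_⟩
  obtain ⟨U, hxU, s, rfl⟩ := M.presheaf.exists_germ_eq a
  obtain ⟨V, hxV, t, rfl⟩ := M.presheaf.exists_germ_eq b
  have hU := Groth.Agent.Lib.Helper20.OmegaUnr.subsingleton_sections_of_isZero hz U
  have hV := Groth.Agent.Lib.Helper20.OmegaUnr.subsingleton_sections_of_isZero hz V
  rw [Subsingleton.elim s 0, Subsingleton.elim t 0, map_zero, map_zero]

/-- Let f : X → Y be a proper morphism of schemes, with Rf_* the total right derived functor of f_* on
the unbounded derived categories of modules (assumed to exist), let Z ⊆ X be a closed subset and E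
an object of D(O_X) whose cohomology sheaves are all supported in Z (every stalk at a point outside
Z is trivial). Then the cohomology sheaves of Rf_*E are supported in the closed subset f(Z) of Y.
(The published statement, made in a setting where all schemes are separated and of finite type over
a regular base, takes f proper and perfect and concludes that Rf_* carries perfect complexes acyclic
outside Z to perfect complexes acyclic outside f(Z); the perfectness of Rf_*E is a separate result,
and the support inclusion, which is what the published proof establishes, holds for every proper f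
and every E and is stated in that generality.) -/
theorem result {X Y : Scheme.{u}} (f : X ⟶ Y) [IsProper f]
    [DCoh.HasRpush f] (Z : Set ↥X) (hZ : IsClosed Z) (E : DCoh.D X)
    (hE : ∀ i : ℤ, CohB1.support (DCoh.HD E i) ⊆ Z) (i : ℤ) :
    CohB1.support (DCoh.HD ((DCoh.Rpush f).obj E) i) ⊆ f.base '' Z := by
  open Groth.Agent.Lib.Seat28.RD Groth.Agent.Lib.Seat28.Supp in
  have hcl : IsClosed (f.base '' Z) := f.isClosedMap _ hZ
  let V : Y.Opens := ⟨(f.base '' Z)ᶜ, hcl.isOpen_compl⟩
  have : DCoh.HasRpush (f ∣_ V) := Groth.Agent.Lib.Seat28.RDExist.hasRpush _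
  obtain ⟨e⟩ := Groth.Agent.S6508.result f V
  intro y hy
  by_contra hyZ
  apply hy
  have hyV : y ∈ V := hyZ
  -- the restriction of `E` to `f⁻¹ V` vanishes
  have h0 : IsZero ((DCoh.restrictD (f ⁻¹ᵁ V).ι).obj E) := by
    apply isZero_restrictD
    intro i x hx
    apply subsingleton_stalk_of_notMem_support
    intro hxs
    exact hx ⟨x, hE i hxs, rfl⟩
  have h1 : IsZero ((DCoh.restrictD V.ι).obj ((DCoh.Rpush f).obj E)) :=
    IsZero.of_iso (isZero_rpush_obj (f ∣_ V) h0) (e.app E)
  have h2 : IsZero ((Scheme.Modules.restrictFunctor V.ι).obj (DCoh.HD ((DCoh.Rpush f).obj E) i)) :=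
    IsZero.of_iso ((DerivedCategory.homologyFunctor _ i).map_isZero h1)
      (Groth.Agent.Lib.Helper17.AdjWay.homologyIso (Scheme.Modules.restrictFunctor V.ι)
        ((DCoh.Rpush f).obj E) i).symm
  have h3 := subsingleton_stalk_of_isZero h2 ⟨y, hyV⟩
  let e' := (Scheme.Modules.restrictStalkNatIso V.ι ⟨y, hyV⟩).app
    (DCoh.HD ((DCoh.Rpush f).obj E) i)
  refine ⟨fun a b => ?_⟩
  have hab : e'.inv a = e'.inv b := Subsingleton.elim (h := h3) _ _
  have h4 : ∀ c, e'.hom (e'.inv c) = c := fun c => by
    rw [← ConcreteCategory.comp_apply, e'.inv_hom_id]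
    rfl
  rw [← h4 a, ← h4 b, hab]

end Groth.Agent.S19620
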