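import Groth.Statements.S19628
import Groth.Agent.Lib.Seat97DRBaseChange

set_option autoImplicit false
universe u
open DeRham

namespace Groth.Agent.S19628

open Groth.Agent.Lib.Seat97.DRBC TensorProduct exteriorPower

section aux

variable (k K : Type u) [Field k] [Field K] [Algebra k K]
    (A A' : Type u) [CommRing A] [CommRing A'] [Algebra k A]
    [Algebra A A'] [Algebra k A'] [IsScalarTower k A A'] [Algebra K A'] [IsScalarTower k K A']
    [Algebra.IsPushout k K A A']
    (d : ∀ p : ℕ, ↥(⋀[A]^p (Ω[A⁄k])) →ₗ[k] ↥(⋀[A]^(p + 1) (Ω[A⁄k])))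
    (d' : ∀ p : ℕ, ↥(⋀[A']^p (Ω[A'⁄K])) →ₗ[K] ↥(⋀[A']^(p + 1) (Ω[A'⁄K])))
    (hcomm : ∀ (p : ℕ) (x : ↥(⋀[A]^p (Ω[A⁄k]))),
      psi0 k K A A' (p + 1) (d p x) = d' p (psi0 k K A A' p x))

include hcomm in
theorem d'_Psi (p : ℕ) (t : K ⊗[k] ↥(⋀[A]^p (Ω[A⁄k]))) :
    d' p (Psi k K A A' p t) = Psi k K A A' (p + 1) ((d p).lTensor K t) := by
  induction t using TensorProduct.induction_on with
  | zero => simp
  | tmul c v =>
    rw [Psi_tmul, map_smul, LinearMap.lTensor_tmul, Psi_tmul, hcomm]
  | add x y hx hy => rw [map_add, map_add, hx, hy, map_add, map_add]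

theorem Psi_lTensor_subtype_mem (p : ℕ) (Z : Submodule k ↥(⋀[A]^p (Ω[A⁄k]))) (s : K ⊗[k] ↥Z) :
    Psi k K A A' p (Z.subtype.lTensor K s) ∈
      Submodule.span K ((psi0 k K A A' p) '' (Z : Set ↥(⋀[A]^p (Ω[A⁄k])))) := by
  induction s using TensorProduct.induction_on with
  | zero => simp
  | tmul c z =>
    rw [LinearMap.lTensor_tmul, Psi_tmul]
    exact Submodule.smul_mem _ _ (Submodule.subset_span ⟨z.1, z.2, rfl⟩)
  | add x y hx hy =>
    rw [map_add, map_add]
    exact Submodule.add_mem _ hx hy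

end aux

theorem exists_of_lTensor_eq_zero {k K V W : Type u} [Field k] [CommRing K] [Algebra k K]
    [AddCommGroup V] [Module k V] [AddCommGroup W] [Module k W] (f : V →ₗ[k] W)
    (t : K ⊗[k] V) (ht : f.lTensor K t = 0) :
    ∃ s : K ⊗[k] ↥(LinearMap.ker f), (LinearMap.ker f).subtype.lTensor K s = t := by
  have hex0 : Function.Exact (LinearMap.ker f).subtype f := by
    intro x
    constructor
    · intro hx; exact ⟨⟨x, hx⟩, rfl⟩
    · rintro ⟨y, rfl⟩; exact y.2
  have hex : Function.Exact ((LinearMap.ker f).subtype.lTensor K) (f.lTensor K) :=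
    Module.Flat.lTensor_exact (R := k) K hex0
  exact (hex t).mp ht

open exteriorPower in
/-- In the affine case, at ring level, let k ⊆ K be an extension of fields of characteristic zero, A a
smooth k-algebra and A' = K ⊗_k A (a pushout square of commutative rings with the scalar-tower
conventions). Let d be the de Rham differential of A over k, d' that of A' over K, and ψ the map of
de Rham complexes induced by A → A', assumed compatible with d and d'. Then for every p the K-span
of ψ(closed p-forms of A/k) is the module of closed p-forms of A'/K, and the K-span of ψ(exact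
p-forms of A/k) is the module of exact p-forms of A'/K. Together with the degreewise base-change
bijection for exterior powers of differentials, this says that the natural map H^p_dR(A/k) ⊗_k K →
H^p_dR(A'/K) is an isomorphism. (The source states the isomorphism H^i_dR(X) ⊗_k K ≅ H^i_dR(X_K) for
a smooth variety X, induced by a quasi-isomorphism of complexes; this row is the case of an affine
X, phrased through closed and exact forms.) -/
theorem result
    (k K : Type u) [Field k] [Field K] [CharZero k] [Algebra k K]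
    (A A' : Type u) [CommRing A] [CommRing A'] [Algebra k A] [Algebra.Smooth k A]
    [Algebra A A'] [Algebra k A'] [IsScalarTower k A A'] [Algebra K A'] [IsScalarTower k K A']
    [Algebra.IsPushout k K A A']
    (d : ∀ p : ℕ, ↥(⋀[A]^p (Ω[A⁄k])) →ₗ[k] ↥(⋀[A]^(p + 1) (Ω[A⁄k])))
    (hd : DeRham.IsDiff (KaehlerDifferential.D k A) d)
    (d' : ∀ p : ℕ, ↥(⋀[A']^p (Ω[A'⁄K])) →ₗ[K] ↥(⋀[A']^(p + 1) (Ω[A'⁄K])))
    (hd' : DeRham.IsDiff (KaehlerDifferential.D K A') d')
    (ψ : ∀ p : ℕ, ↥(⋀[A]^p (Ω[A⁄k])) →+ ↥(⋀[A']^p (Ω[A'⁄K])))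
    (hψ : DeRham.IsCxMap (KaehlerDifferential.D k A) (KaehlerDifferential.D K A') (algebraMap A A') ψ)
    (hcomm : ∀ (p : ℕ) (x : ↥(⋀[A]^p (Ω[A⁄k]))), ψ (p + 1) (d p x) = d' p (ψ p x))
    (p : ℕ) :
    Submodule.span K (ψ p '' (DeRham.cocycles d p : Set ↥(⋀[A]^p (Ω[A⁄k])))) = DeRham.cocycles d' p ∧
      Submodule.span K (ψ p '' (DeRham.coboundaries d p : Set ↥(⋀[A]^p (Ω[A⁄k])))) =
        DeRham.coboundaries d' p := by
  classical
  have hψ0 : ∀ (q : ℕ) (x : ↥(⋀[A]^q (Ω[A⁄k]))), ψ q x = psi0 k K A A' q x :=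
    fun q x => eq_psi0 k K A A' ψ hψ q x
  have hcomm0 : ∀ (q : ℕ) (x : ↥(⋀[A]^q (Ω[A⁄k]))),
      psi0 k K A A' (q + 1) (d q x) = d' q (psi0 k K A A' q x) := by
    intro q x
    rw [← hψ0, ← hψ0, hcomm]
  have himg : ∀ (q : ℕ) (Z : Set ↥(⋀[A]^q (Ω[A⁄k]))), ψ q '' Z = (psi0 k K A A' q) '' Z := by
    intro q Z
    ext w
    constructor
    · rintro ⟨z, hz, rfl⟩; exact ⟨z, hz, (hψ0 q z).symm⟩
    · rintro ⟨z, hz, rfl⟩; exact ⟨z, hz, hψ0 q z⟩
  constructor
  · -- cocycles
    rw [himg]
    apply le_antisymm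
    · rw [Submodule.span_le]
      rintro _ ⟨z, hz, rfl⟩
      have hz' : d p z = 0 := hz
      show d' p (psi0 k K A A' p z) = 0
      rw [← hcomm0, hz', map_zero]
    · intro w hw
      have hw' : d' p w = 0 := hw
      obtain ⟨t, rfl⟩ := (Psi_bijective k K A A' p).2 w
      rw [d'_Psi k K A A' d d' hcomm0] at hw'
      have ht : (d p).lTensor K t = 0 := by
        apply (Psi_bijective k K A A' (p + 1)).1
        rw [hw', map_zero]
      obtain ⟨s, rfl⟩ := exists_of_lTensor_eq_zero (d p) t ht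
      exact Psi_lTensor_subtype_mem k K A A' p (LinearMap.ker (d p)) s
  · -- coboundaries
    rw [himg]
    cases p with
    | zero =>
      show Submodule.span K ((psi0 k K A A' 0) ''
        (((⊥ : Submodule k ↥(⋀[A]^0 (Ω[A⁄k]))) : Set ↥(⋀[A]^0 (Ω[A⁄k]))))) = ⊥
      rw [Submodule.span_eq_bot]
      rintro _ ⟨z, hz, rfl⟩
      rw [(Submodule.mem_bot k).mp hz, map_zero]
    | succ q =>
      show Submodule.span K ((psi0 k K A A' (q + 1)) '' (LinearMap.range (d q) : Set _)) =
        LinearMap.range (d' q)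
      apply le_antisymm
      · rw [Submodule.span_le]
        rintro _ ⟨_, ⟨v, rfl⟩, rfl⟩
        exact ⟨psi0 k K A A' q v, (hcomm0 q v).symm⟩
      · rintro _ ⟨x, rfl⟩
        obtain ⟨t, rfl⟩ := (Psi_bijective k K A A' q).2 x
        induction t using TensorProduct.induction_on with
        | zero => simp
        | tmul c v =>
          rw [Psi_tmul, map_smul, ← hcomm0]
          exact Submodule.smul_mem _ _ (Submodule.subset_span ⟨d q v, ⟨v, rfl⟩, rfl⟩)
        | add x y hx hy =>
          rw [map_add, map_add]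
          exact Submodule.add_mem _ hx hy

end Groth.Agent.S19628
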