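import Groth.Statements.S19633
import Groth.Agent.Lib.Seat97Laurent

set_option autoImplicit false
universe u
open DeRham

namespace Groth.Agent.S19633

open Groth.Agent.Lib.Seat97.Laurent LaurentPolynomial exteriorPower

/-- The residue functional on `1`-forms: `f dT ↦` the coefficient of `T⁻¹` in `f`. -/
noncomputable def res (k : Type u) [Field k] :
    ↥(⋀[LaurentPolynomial k]^1 (Ω[LaurentPolynomial k⁄k])) →ₗ[k] k :=
  (Finsupp.lapply (0 : ℤ)) ∘ₗ (AddMonoidAlgebra.coeffLinearEquiv k).toLinearMap ∘ₗ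
    ((Lmap k).restrictScalars k) ∘ₗ
    ((oneEquiv (LaurentPolynomial k) (Ω[LaurentPolynomial k⁄k])).toLinearMap.restrictScalars k)

theorem res_apply (k : Type u) [Field k]
    (x : ↥(⋀[LaurentPolynomial k]^1 (Ω[LaurentPolynomial k⁄k]))) :
    res k x = (Lmap k (oneEquiv (LaurentPolynomial k) (Ω[LaurentPolynomial k⁄k]) x)).coeff 0 := rfl


section main

variable (k : Type u) [Field k]

local notation "A" => LaurentPolynomial k
local notation "ΩA" => Ω[LaurentPolynomial k⁄k]
local notation "DD" => KaehlerDifferential.D k (LaurentPolynomial k)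

theorem res_ιMulti_D (f : A) : res k (ιMulti A 1 (fun _ : Fin 1 => DD f)) = 0 := by
  rw [res_apply, oneEquiv_ιMulti, Lmap_D, euler_coeff]
  simp

theorem one_form_eq (x : ↥(⋀[A]^1 ΩA)) (ω : ΩA) (h : oneEquiv A ΩA x = ω) :
    x = ιMulti A 1 (fun _ : Fin 1 => ω) := by
  apply (oneEquiv A ΩA).injective
  rw [oneEquiv_ιMulti, h]

theorem genT_eq : DeRham.gen DD 1 (T (-1)) (fun _ => T 1) =
    (T (-1) : A) • ιMulti A 1 (fun _ : Fin 1 => DD (T 1)) := rfl

theorem res_genT : res k (DeRham.gen DD 1 (T (-1)) (fun _ => T 1)) = 1 := by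
  rw [genT_eq, res_apply, map_smul, oneEquiv_ιMulti, map_smul, Lmap_dT, smul_eq_mul, ← T_add]
  norm_num

variable {k}

theorem range_d0 (d : ∀ p : ℕ, ↥(⋀[A]^p ΩA) →ₗ[k] ↥(⋀[A]^(p + 1) ΩA))
    (hd : DeRham.IsDiff DD d) (x : ↥(⋀[A]^0 ΩA)) :
    ∃ f : A, d 0 x = ιMulti A 1 (fun _ : Fin 1 => DD f) := by
  refine ⟨zeroEquiv A ΩA x, ?_⟩
  have hx : x = DeRham.gen DD 0 (zeroEquiv A ΩA x) Fin.elim0 := by
    apply (zeroEquiv A ΩA).injective
    unfold DeRham.gen
    rw [map_smul, zeroEquiv_ιMulti, smul_eq_mul, mul_one]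
  conv_lhs => rw [hx]
  rw [hd.1 0]
  congr 1
  funext i
  fin_cases i
  rfl

theorem mem_range_d0 (d : ∀ p : ℕ, ↥(⋀[A]^p ΩA) →ₗ[k] ↥(⋀[A]^(p + 1) ΩA))
    (hd : DeRham.IsDiff DD d) (f : A) :
    ιMulti A 1 (fun _ : Fin 1 => DD f) ∈ LinearMap.range (d 0) := by
  refine ⟨DeRham.gen DD 0 f Fin.elim0, ?_⟩
  rw [hd.1 0]
  congr 1
  funext i
  fin_cases i
  rfl

end main

open exteriorPower in
/-- Let k be a field of characteristic zero, G_m = Spec k[t, t⁻¹], and d the de Rham differential of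
k[t, t⁻¹] over k. Then: every 1-form is closed; the exact 1-forms and the k-line spanned by t⁻¹ dt
are complementary subspaces of the 1-forms, and t⁻¹ dt is not exact — so H^1_dR(G_m/k) is
one-dimensional, generated by the class of dt/t (the isomorphism with k being the residue); and for
every i ≥ 2 the closed i-forms are exact, so H^i_dR(G_m/k) = 0 for i > 1. (Characteristic zero is
used in the computation of the exact forms.) -/
theorem result (k : Type u) [Field k] [CharZero k]
    (d : ∀ p : ℕ, ↥(⋀[LaurentPolynomial k]^p (Ω[LaurentPolynomial k⁄k])) →ₗ[k] ↥(⋀[LaurentPolynomial k]^(p + 1) (Ω[LaurentPolynomial k⁄k])))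
    (hd : DeRham.IsDiff (KaehlerDifferential.D k (LaurentPolynomial k)) d) :
    DeRham.cocycles d 1 = ⊤ ∧
    IsCompl (DeRham.coboundaries d 1)
      (Submodule.span k {DeRham.gen (KaehlerDifferential.D k (LaurentPolynomial k)) 1
        (LaurentPolynomial.T (-1)) (fun _ => LaurentPolynomial.T 1)}) ∧
    DeRham.gen (KaehlerDifferential.D k (LaurentPolynomial k)) 1
        (LaurentPolynomial.T (-1)) (fun _ => LaurentPolynomial.T 1) ∉ DeRham.coboundaries d 1 ∧
    ∀ i : ℕ, DeRham.cocycles d (i + 2) ≤ DeRham.coboundaries d (i + 2) := by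
  classical
  have hsub : ∀ i : ℕ, Subsingleton ↥(⋀[LaurentPolynomial k]^(i + 2) (Ω[LaurentPolynomial k⁄k])) :=
    fun i => extPow_subsingleton_of_span_singleton
      (KaehlerDifferential.D k (LaurentPolynomial k) (T 1)) (exists_eq_smul_dT k) (i + 2) (by omega)
  have hnot : ∀ x : ↥(⋀[LaurentPolynomial k]^1 (Ω[LaurentPolynomial k⁄k])),
      x ∈ LinearMap.range (d 0) → res k x = 0 := by
    rintro _ ⟨y, rfl⟩
    obtain ⟨f, hf⟩ := range_d0 d hd y
    rw [hf, res_ιMulti_D]
  refine ⟨?_, ⟨?_, ?_⟩, ?_, ?_⟩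
  · -- all 1-forms are closed
    rw [eq_top_iff]
    intro x _
    have := hsub 0
    exact Subsingleton.elim _ _
  · -- disjoint
    rw [Submodule.disjoint_def]
    intro x hx hx'
    obtain ⟨c, rfl⟩ := Submodule.mem_span_singleton.mp hx'
    have h0 := hnot _ hx
    rw [map_smul, res_genT, smul_eq_mul, mul_one] at h0
    rw [h0, zero_smul]
  · -- codisjoint
    rw [codisjoint_iff, eq_top_iff]
    intro x _
    obtain ⟨a, ha⟩ := exists_eq_smul_dT k (oneEquiv (LaurentPolynomial k) (Ω[LaurentPolynomial k⁄k]) x)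
    obtain ⟨f, c, hfc⟩ := exists_euler_add_C k (a * T 1)
    rw [Submodule.mem_sup]
    refine ⟨_, mem_range_d0 d hd f, c • DeRham.gen (KaehlerDifferential.D k (LaurentPolynomial k)) 1
        (LaurentPolynomial.T (-1)) (fun _ => LaurentPolynomial.T 1),
      Submodule.smul_mem _ _ (Submodule.subset_span rfl), ?_⟩
    have hc : c • DeRham.gen (KaehlerDifferential.D k (LaurentPolynomial k)) 1
        (LaurentPolynomial.T (-1)) (fun _ => LaurentPolynomial.T 1) =
        (algebraMap k (LaurentPolynomial k) c) • DeRham.gen (KaehlerDifferential.D k (LaurentPolynomial k)) 1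
        (LaurentPolynomial.T (-1)) (fun _ => LaurentPolynomial.T 1) := (algebraMap_smul _ c _).symm
    apply (oneEquiv (LaurentPolynomial k) (Ω[LaurentPolynomial k⁄k])).injective
    apply Lmap_injective k
    rw [ha, hc, map_add, map_add, oneEquiv_ιMulti, Lmap_D, genT_eq, map_smul, map_smul, map_smul,
      map_smul, oneEquiv_ιMulti, map_smul, Lmap_dT, smul_eq_mul, smul_eq_mul, smul_eq_mul, hfc,
      ← T_add]
    norm_num
  · -- `T⁻¹ dT` is not exact
    intro h
    have h0 := hnot _ h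
    rw [res_genT] at h0
    exact one_ne_zero h0
  · intro i x _
    have := hsub i
    rw [Subsingleton.elim x 0]
    exact Submodule.zero_mem _

end Groth.Agent.S19633
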