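import Groth.Statements.S19647
import Groth.Agent.Lib.Seat89PureFin

set_option autoImplicit false
universe u
open CategoryTheory MonoidalCategory CartesianMonoidalCategory AlgebraicGeometry Opposite
open Magnet

namespace Groth.Agent.S19647

/-- Let S be a quasi-compact scheme, M a commutative monoid and X an S-scheme affine and of finite
presentation over S with an action of the diagonalizable monoid scheme A(M)_S. Call a submonoid
(magnet) N of M pure when every submonoid L whose attractor X^L has the same image in X as X^N (on
T-points, for every S-scheme T) contains N. Then the set of pure magnets is finite. (The published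
statement carries no quasi-compactness assumption on the base. Over the disjoint union S of
countably many copies of Spec ℚ indexed by n ≥ 1, let the multiplicative group act on the affine
line over the n-th copy with weight n: this X is affine and of finite presentation over S, yet the
submonoids dℕ of ℤ, d ≥ 1, are pairwise distinct pure magnets; the finite set of generating degrees
used in the published argument exists only over a quasi-compact base, so S is taken quasi-compact
here. The source allows X an algebraic space; here X is a scheme.) -/
theorem result (S : Scheme.{u}) [CompactSpace S] (M : Type) [AddCommMonoid M]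
    {X : Over S} [IsAffineHom X.hom] [LocallyOfFinitePresentation X.hom]
    (a : Magnet.MonAct (Magnet.AMonS S M) X) :
    Set.Finite {N : AddSubmonoid M | ∀ L : AddSubmonoid M,
      (∀ T : Over S, Set.range (fun φ => (Magnet.attrToX a N).app (op T) φ) =
        Set.range (fun φ => (Magnet.attrToX a L).app (op T) φ)) → N ≤ L} := by
  classical
  obtain ⟨D, hD⟩ := Groth.Agent.Lib.Seat89.PureFin.exists_finset_degrees_global a
  apply Set.Finite.subset ((D.powerset.finite_toSet).image (fun s : Finset M => AddSubmonoid.closure (s : Set M)))
  intro N hN
  obtain ⟨L, hL⟩ : ∃ L : AddSubmonoid M, L = AddSubmonoid.closure ((D.filter (· ∈ N) : Finset M) : Set M) := ⟨_, rfl⟩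
  have hLN : L ≤ N := by
    rw [hL]
    exact (AddSubmonoid.closure_le).2 (fun d hd => (Finset.mem_filter.1 (Finset.mem_coe.1 hd)).2)
  have hNL : N ≤ L := by
    refine hN L (fun T => ?_)
    ext x
    constructor
    · rintro ⟨φ, rfl⟩
      have h1 : Groth.Agent.Lib.Seat89.AttrDesc.InAttr a N ((Magnet.attrToX a N).app (op T) φ) := ⟨φ, rfl⟩
      rw [← Groth.Agent.Lib.Seat89.AttrDesc.P_iff] at h1
      have h2 := hD N L (fun d hd hdN => by
        rw [hL]
        exact AddSubmonoid.subset_closure (Finset.mem_coe.2 (Finset.mem_filter.2 ⟨hd, hdN⟩))) _ h1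
      rw [Groth.Agent.Lib.Seat89.AttrDesc.P_iff] at h2
      exact h2
    · rintro ⟨φ, rfl⟩
      refine ⟨(Magnet.attrMap a hLN).app (op T) φ, ?_⟩
      change lift (toUnit T ≫ MonObj.one) (𝟙 T) ≫ ((Magnet.attrMap a hLN).app (op T) φ).1 =
        lift (toUnit T ≫ MonObj.one) (𝟙 T) ≫ φ.1
      change lift (toUnit T ≫ MonObj.one) (𝟙 T) ≫ (Magnet.AMonS.map S (AddSubmonoid.inclusion hLN) ▷ T) ≫ φ.1 = _
      rw [lift_whiskerRight_assoc, Category.assoc, IsMonHom.one_hom]
  refine ⟨D.filter (· ∈ N), ?_, ?_⟩
  · exact Finset.mem_coe.2 (Finset.mem_powerset.2 (Finset.filter_subset _ _))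
  · change AddSubmonoid.closure ((D.filter (· ∈ N) : Finset M) : Set M) = N
    rw [← hL]
    exact le_antisymm hLN hNL

end Groth.Agent.S19647
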