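import Groth.Statements.S19741
import Mathlib

set_option autoImplicit false
universe w u
open EssDim

namespace Groth.Agent.S19741

open Cardinal CategoryTheory AlgebraicGeometry Opposite in
theorem trdeg_adjoin_le (k K L : Type u) [Field k] [Field K] [Field L] [Algebra k K] [Algebra K L]
    [Algebra k L] [IsScalarTower k K L] (E : IntermediateField k L) :
    Algebra.trdeg K (IntermediateField.adjoin K (E : Set L)) ≤ Algebra.trdeg k E := by
  classical
  obtain ⟨s, hs⟩ := exists_isTranscendenceBasis k E
  rw [← hs.cardinalMk_eq_trdeg]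
  set F := IntermediateField.adjoin K (E : Set L) with hF
  -- the inclusion `E → F`
  let g : E →+* F :=
    { toFun := fun e => ⟨e.1, IntermediateField.subset_adjoin K _ e.2⟩
      map_one' := rfl
      map_mul' := fun _ _ => rfl
      map_zero' := rfl
      map_add' := fun _ _ => rfl }
  have hg : Function.Injective g := fun a b h => Subtype.ext (congrArg (fun x : F => (x : L)) h)
  let t : Set F := g '' s
  have hts : #t ≤ #s := Cardinal.mk_image_le
  refine le_trans ?_ hts
  -- `F` is algebraic over `K[t]`
  set C := Algebra.adjoin K t with hC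
  set C₀ := Algebra.adjoin k (Set.range ((↑) : s → E)) with hC₀
  have hmap : ∀ c : E, c ∈ C₀ → g c ∈ C := by
    intro c hc
    induction hc using Algebra.adjoin_induction with
    | mem x hx =>
      obtain ⟨y, rfl⟩ := hx
      exact Algebra.subset_adjoin ⟨y.1, y.2, rfl⟩
    | algebraMap r =>
      have : g (algebraMap k E r) = algebraMap K F (algebraMap k K r) := by
        apply Subtype.ext
        show (algebraMap k L r) = algebraMap K L (algebraMap k K r)
        rw [← IsScalarTower.algebraMap_apply]
      rw [this]
      exact Subalgebra.algebraMap_mem _ _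
    | add x y _ _ hx hy => rw [map_add]; exact add_mem hx hy
    | mul x y _ _ hx hy => rw [map_mul]; exact mul_mem hx hy
  let f : C₀ →+* C :=
    { toFun := fun c => ⟨g c.1, hmap c.1 c.2⟩
      map_one' := Subtype.ext (map_one g)
      map_mul' := fun a b => Subtype.ext (map_mul g a.1 b.1)
      map_zero' := Subtype.ext (map_zero g)
      map_add' := fun a b => Subtype.ext (map_add g a.1 b.1) }
  have hf : Function.Injective f := fun a b h =>
    Subtype.ext (hg (congrArg (fun x : C => (x : F)) h))
  have halgE : ∀ e : E, IsAlgebraic C (g e) := by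
    intro e
    have h1 : IsAlgebraic C₀ e := (hs.isAlgebraic).isAlgebraic e
    exact h1.ringHom_of_comp_eq f g hf (by ext c; rfl)
  have halg : Algebra.IsAlgebraic C F := by
    refine ⟨fun x => ?_⟩
    obtain ⟨x, hx⟩ := x
    induction hx using IntermediateField.adjoin_induction with
    | mem x hx => exact halgE ⟨x, hx⟩
    | algebraMap r =>
      exact isAlgebraic_algebraMap (R := C) (A := F) ⟨algebraMap K F r, Subalgebra.algebraMap_mem _ _⟩
    | add x y hx hy ihx ihy => exact ihx.add ihy
    | inv x hx ih => exact (IsAlgebraic.inv_iff (x := (⟨x, hx⟩ : F))).mpr ih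
    | mul x y hx hy ihx ihy => exact ihx.mul ihy
  exact Algebra.IsAlgebraic.trdeg_le_cardinalMk K t

open Cardinal CategoryTheory AlgebraicGeometry Opposite in
theorem hdesc_aux (k : Type u) [Field k] (K : Type u) [Field K] [Algebra k K]
    (P : (Over (Spec (CommRingCat.of k)))ᵒᵖ ⥤ Type w) (L : Type u) [Field L] [Algebra K L]
    [Algebra k L] [IsScalarTower k K L]
    (iL : (Over.map (Spec.map (CommRingCat.ofHom (algebraMap k K)))).obj (SGA7.pt (K := K) L) ≅
      SGA7.pt (K := k) L) (hiL : iL.hom.left = 𝟙 _)
    (ξ : EssDim.FPt ((Over.map (Spec.map (CommRingCat.ofHom (algebraMap k K)))).op ⋙ P) L)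
    (ξ' : EssDim.FPt P L) (hξ : P.map iL.hom.op ξ' = ξ)
    (E : IntermediateField k L) (hE : EssDim.Descends P ξ' E) :
    EssDim.Descends ((Over.map (Spec.map (CommRingCat.ofHom (algebraMap k K)))).op ⋙ P) ξ
        (IntermediateField.adjoin K (E : Set L)) := by
  obtain ⟨ξ₀, hξ₀⟩ := hE
  let incl : E →+* (IntermediateField.adjoin K (E : Set L)) :=
    { toFun := fun e => ⟨e.1, IntermediateField.subset_adjoin K _ e.2⟩
      map_one' := rfl
      map_mul' := fun _ _ => rfl
      map_zero' := rfl
      map_add' := fun _ _ => rfl }
  have hincl : incl.comp (algebraMap k E) =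
      (algebraMap K (IntermediateField.adjoin K (E : Set L))).comp (algebraMap k K) := by
    ext r
    show algebraMap k L r = algebraMap K L (algebraMap k K r)
    rw [← IsScalarTower.algebraMap_apply]
  let m : (Over.map (Spec.map (CommRingCat.ofHom (algebraMap k K)))).obj
      (SGA7.pt (K := K) (IntermediateField.adjoin K (E : Set L))) ⟶ SGA7.pt (K := k) E :=
    Over.homMk (Spec.map (CommRingCat.ofHom incl)) (by
      change Spec.map _ ≫ Spec.map _ = Spec.map _ ≫ Spec.map _
      rw [← Spec.map_comp, ← Spec.map_comp, ← CommRingCat.ofHom_comp, ← CommRingCat.ofHom_comp, hincl])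
  refine ⟨P.map m.op ξ₀, ?_⟩
  have hcomm : (Over.map (Spec.map (CommRingCat.ofHom (algebraMap k K)))).map
      (EssDim.resPt (IntermediateField.adjoin K (E : Set L)).val) ≫ m = iL.hom ≫ EssDim.resPt E.val := by
    ext : 1
    simp only [Over.comp_left, Over.map_map_left, EssDim.resPt_left, hiL, Category.id_comp]
    change Spec.map _ ≫ Spec.map _ = Spec.map _
    rw [← Spec.map_comp, ← CommRingCat.ofHom_comp]
    rfl
  rw [← hξ, ← hξ₀]
  change (P.map m.op ≫ P.map ((Over.map _).map (EssDim.resPt _)).op) ξ₀ =
    (P.map (EssDim.resPt E.val).op ≫ P.map iL.hom.op) ξ₀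
  rw [← P.map_comp, ← P.map_comp, ← op_comp, ← op_comp, hcomm]


open CategoryTheory AlgebraicGeometry in
/-- For a field extension `K` of `k` and a presheaf of sets `P` on schemes over `k`, restrict `P` to
schemes over `K` by viewing a scheme over `Spec K` as a scheme over `Spec k`; then the essential
dimension over `K` of the restricted presheaf is at most the essential dimension of `P` over `k`.
(The source states this for an algebraic stack over `k` and its base change to `K`, through the
presheaf of isomorphism classes of objects, whose restriction to schemes over `K` is the presheaf of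
classes of the base-changed stack; the inequality is stated here for an arbitrary presheaf, which is
what the argument with composita of fields of definition gives.) -/
theorem result (k : Type u) [Field k] (K : Type u) [Field K] [Algebra k K]
    (P : (Over (Spec (CommRingCat.of k)))ᵒᵖ ⥤ Type w) :
    EssDim.ed (k := K) ((Over.map (Spec.map (CommRingCat.ofHom (algebraMap k K)))).op ⋙ P) ≤ EssDim.ed P := by
  classical
  refine iSup_le fun L => iSup_le fun hL => iSup_le fun hKL => iSup_le fun ξ => ?_
  letI : Algebra k L := ((algebraMap K L).comp (algebraMap k K)).toAlgebra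
  haveI : IsScalarTower k K L := IsScalarTower.of_algebraMap_eq (fun _ => rfl)
  -- identify `Spec L` over `K`, viewed over `k`, with `Spec L` over `k`
  have hcomp : Spec.map (CommRingCat.ofHom (algebraMap k L)) =
      Spec.map (CommRingCat.ofHom (algebraMap K L)) ≫ Spec.map (CommRingCat.ofHom (algebraMap k K)) := by
    rw [← Spec.map_comp, ← CommRingCat.ofHom_comp]
  let iL : (Over.map (Spec.map (CommRingCat.ofHom (algebraMap k K)))).obj (SGA7.pt (K := K) L) ≅
      SGA7.pt (K := k) L :=
    Over.isoMk (Iso.refl _) (by
      simp only [Iso.refl_hom, Category.id_comp]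
      exact hcomp)
  let ξ' : EssDim.FPt P L := P.map iL.inv.op ξ
  have hξ : P.map iL.hom.op ξ' = ξ := by
    change (P.map iL.inv.op ≫ P.map iL.hom.op) ξ = ξ
    rw [← P.map_comp, ← op_comp, iL.hom_inv_id, op_id, P.map_id]
    rfl
  have key : EssDim.edAt ((Over.map (Spec.map (CommRingCat.ofHom (algebraMap k K)))).op ⋙ P) ξ ≤
      EssDim.edAt P ξ' := by
    refine le_iInf fun E' => ?_
    obtain ⟨E, hE⟩ := E'
    have hdesc := hdesc_aux k K P L iL rfl ξ ξ' hξ E hE
    refine (EssDim.edAt_le_of_descends hdesc).trans ?_
    exact Cardinal.toENat.monotone' (trdeg_adjoin_le k K L E)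
  exact le_trans (WithBot.coe_le_coe.mpr key) (EssDim.edAt_le_ed ξ')

end Groth.Agent.S19741
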