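import Groth.Statements.S19763
import Groth.Agent.Lib.Seat97SegreBridge
import Groth.Agent.Lib.Seat97GrCMMod
import Groth.Agent.S18647

set_option autoImplicit false
universe u
open scoped TensorProduct
attribute [local instance] MvPolynomial.weightedGradedAlgebra
open GrSegre

namespace Groth.Agent.S19763

open Groth.Agent.Lib.Seat97.SegreBridge Groth.Agent.Lib.Seat97.SegreDepth
  Groth.Agent.Lib.Seat97.WtPoly Groth.Agent.Lib.Seat97.GrCMMod Groth.Agent.Lib.Seat97.SegreLine
  Groth.Agent.Lib.Helper28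

/-- Let R = k[X_1, …, X_r] and S = k[Y_1, …, Y_s] be polynomial rings over a field k with every variable
of degree 1, r ≥ 2 and s ≥ 2, T = R # S, and M = R(a), N = S(b) for integers a, b. Then (a) M # N is
a Cohen–Macaulay T-module if and only if s > a − b > −r; (b) if a − b ≥ s then depth (M # N) = s;
(c) if a − b ≤ −r then depth (M # N) = r. Here the polynomial rings carry the standard grading by
k-subspaces of homogeneous polynomials (indexed by ℤ, all variables of weight 1); the Segre product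
T = R # S = ⊕_n R_n ⊗_k S_n is presented abstractly as a graded k-algebra T with an injective
k-algebra homomorphism ψ : T → R ⊗_k S carrying T_n onto the k-span of the elementary tensors of
bidegree (n, n), T_+ is the ideal spanned by the T_n with n > 0, and R(a) # S(b) = ⊕_n R_{n+a} ⊗_k
S_{n+b} is presented abstractly as a graded T-module P with an injective k-linear map φ : P → R ⊗_k
S carrying P_n onto the k-span of the tensors x ⊗ y with x ∈ R_{n+a}, y ∈ S_{n+b} and turning the
action of t ∈ T into that of ψ(t); a module over a ring is called Cohen–Macaulay when each of its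
localizations at a prime ideal is zero or a Cohen–Macaulay module over the local ring (dimension of
the support equal to the depth), and the dimension of a module is the Krull dimension of its
support; the depth of P is its grade with respect to T_+ (the common length of the maximal P-regular
sequences in T_+). -/
theorem result (k : Type u) [Field k] (r s : ℕ) (h2r : 2 ≤ r) (h2s : 2 ≤ s) (T : Type u) [CommRing T] [Algebra k T] (𝒯 : ℤ → Submodule k T) [GradedAlgebra 𝒯] (ψ : T →ₐ[k] TensorProduct k (MvPolynomial (Fin r) k) (MvPolynomial (Fin s) k)) (hT : GrSeg.IsSegreRing (MvPolynomial.weightedHomogeneousSubmodule k (fun _ : Fin r => (1 : ℤ))) (MvPolynomial.weightedHomogeneousSubmodule k (fun _ : Fin s => (1 : ℤ))) 𝒯 ψ) (mT : HomogeneousIdeal 𝒯) (hmT : mT.toIdeal = Ideal.span (⋃ n ∈ Set.Ioi (0 : ℤ), (𝒯 n : Set T))) (a b : ℤ) (P : Type u) [AddCommGroup P] [Module T P] [Module k P] [IsScalarTower k T P] (𝒬 : ℤ → AddSubgroup P) [DirectSum.Decomposition 𝒬] (φ : P →ₗ[k] TensorProduct k (MvPolynomial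 (Fin r) k) (MvPolynomial (Fin s) k)) (hP : GrSeg.IsSegreMod ψ (fun n : ℤ => (MvPolynomial.weightedHomogeneousSubmodule k (fun _ : Fin r => (1 : ℤ))) (n + a)) (fun n : ℤ => (MvPolynomial.weightedHomogeneousSubmodule k (fun _ : Fin s => (1 : ℤ))) (n + b)) 𝒬 φ) : ((∀ (q : Ideal T) [q.IsPrime], Subsingleton (LocalizedModule q.primeCompl P) ∨ LocCoh.IsCohenMacaulayModule (Localization.AtPrime q) (LocalizedModule q.primeCompl P)) ↔ (a - b < (s : ℤ) ∧ -(r : ℤ) < a - b)) ∧ ((s : ℤ) ≤ a - b → LocCoh.idealDepth mT.toIdeal P = (s : ℕ∞)) ∧ (a - b ≤ -(r : ℤ) → LocCoh.idealDepth mT.toIdeal P = (r : ℕ∞)) := by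
  classical
  have hirr : mT.toIdeal = Ideal.span (⋃ n ∈ Set.Ioi (0 : ℤ), (𝒯 n : Set T)) := hmT
  obtain ⟨hlow, hupS, hupR⟩ := claims k (r + s) (wt r s) (wt_cases r s) r s rfl (cnt_wt_one r s)
    (cnt_wt_neg_one r s) (by omega) (by omega)
  have hdepth : LocCoh.idealDepth mT.toIdeal P = dp k (wt r s) (a - b) := by
    rw [hirr]; exact idealDepth_eq 𝒯 ψ hT 𝒬 a b φ hP
  have hdepthT : LocCoh.idealDepth mT.toIdeal T = dp k (wt r s) 0 := by
    rw [hirr]; exact idealDepth_self_eq 𝒯 ψ hT
  have hmax : mT.toIdeal.IsMaximal := by rw [hirr]; exact irr_isMaximal 𝒯 ψ hT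
  have hN : IsNoetherianRing T := isNoetherianRing_T 𝒯 ψ hT
  have hF : Module.Finite T P := finite_P 𝒯 ψ hT 𝒬 a b φ hP
  have hnt : Nontrivial P := nontrivial_P ψ 𝒬 a b φ hP (by omega) (by omega)
  obtain ⟨m₀, hm₀ne⟩ := exists_ne (0 : P)
  have hm₀ : ∀ t : T, t • m₀ = 0 → t = 0 := fun t ht =>
    (smul_eq_zero_imp 𝒯 ψ hT 𝒬 a b φ hP ht).resolve_right hm₀ne
  -- parts (b), (c)
  have hb : (s : ℤ) ≤ a - b → LocCoh.idealDepth mT.toIdeal P = (s : ℕ∞) := by
    intro h
    rw [hdepth]
    refine le_antisymm (hupS _ h) ?_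
    have h1 := hlow (a - b)
    have hee : ee r s (a - b) = s := by unfold ee; rw [if_pos h]
    rwa [hee] at h1
  have hc : a - b ≤ -(r : ℤ) → LocCoh.idealDepth mT.toIdeal P = (r : ℕ∞) := by
    intro h
    rw [hdepth]
    refine le_antisymm (hupR _ h) ?_
    have h1 := hlow (a - b)
    have hee : ee r s (a - b) = r := by
      unfold ee
      rw [if_neg (by omega), if_pos h]
    rwa [hee] at h1
  refine ⟨?_, hb, hc⟩
  -- the height of the irrelevant ideal
  have hkr : ringKrullDim (MvPolynomial (Fin r) k) = r := by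
    rw [MvPolynomial.ringKrullDim_of_isNoetherianRing, ringKrullDim_eq_zero_of_field, Nat.card_fin,
      zero_add]
  have hks : ringKrullDim (MvPolynomial (Fin s) k) = s := by
    rw [MvPolynomial.ringKrullDim_of_isNoetherianRing, ringKrullDim_eq_zero_of_field, Nat.card_fin,
      zero_add]
  have hdimT : ringKrullDim T = ((r + s - 1 : ℕ) : WithBot ℕ∞) :=
    Groth.Agent.S18647.result k (MvPolynomial (Fin r) k) (gB k r) (gB_neg' r) (gB_zero r)
      (MvPolynomial (Fin s) k) (gB k s) (gB_neg' s) (gB_zero s) T 𝒯 ψ hT.1 hT.2 r s hkr hks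
      (by omega) (by omega)
  have hloc_ht : ringKrullDim (Localization.AtPrime mT.toIdeal) =
      ((mT.toIdeal.height : ℕ∞) : WithBot ℕ∞) :=
    IsLocalization.AtPrime.ringKrullDim_eq_height mT.toIdeal (Localization.AtPrime mT.toIdeal)
  have hht_le : mT.toIdeal.height ≤ ((r + s - 1 : ℕ) : ℕ∞) := by
    have h1 := Ideal.height_le_ringKrullDim_of_ne_top hmax.ne_top
    rw [hdimT] at h1
    exact WithBot.coe_le_coe.mp h1
  have hle_ht : ((r + s - 1 : ℕ) : ℕ∞) ≤ mT.toIdeal.height := by
    have h0 : ((ee r s 0 : ℕ) : ℕ∞) ≤ dp k (wt r s) 0 := hlow 0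
    have hee : ee r s 0 = r + s - 1 := by
      unfold ee
      rw [if_neg (by omega), if_neg (by omega)]
    rw [hee, ← hdepthT] at h0
    have hsuppT : (⟨mT.toIdeal, hmax.isPrime⟩ : PrimeSpectrum T) ∈ Module.support T T :=
      mem_support_of_torsionFree T (1 : T) (fun t ht => by simpa using ht) _
    have h1 := idealDepth_le_supportDim_localization (I := mT.toIdeal) (M := T)
      ⟨mT.toIdeal, hmax.isPrime⟩ le_rfl hsuppT
    have h2 := Module.supportDim_le_ringKrullDim (Localization.AtPrime mT.toIdeal)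
      (LocalizedModule mT.toIdeal.primeCompl T)
    rw [hloc_ht] at h2
    exact WithBot.coe_le_coe.mp ((WithBot.coe_le_coe.mpr h0).trans (h1.trans h2))
  constructor
  · -- Cohen–Macaulay implies the inequalities
    intro hCM
    by_contra hcon
    rw [not_and_or, not_lt, not_lt] at hcon
    rcases hcon with h | h
    · have hlt : ((s : ℕ) : ℕ∞) < mT.toIdeal.height := by
        refine lt_of_lt_of_le ?_ hle_ht
        exact_mod_cast (by omega : s < r + s - 1)
      exact not_cm_of_idealDepth_lt_height P mT.toIdeal m₀ hm₀ s (hb h) hlt (hCM mT.toIdeal)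
    · have hlt : ((r : ℕ) : ℕ∞) < mT.toIdeal.height := by
        refine lt_of_lt_of_le ?_ hle_ht
        exact_mod_cast (by omega : r < r + s - 1)
      exact not_cm_of_idealDepth_lt_height P mT.toIdeal m₀ hm₀ r (hc h) hlt (hCM mT.toIdeal)
  · -- the inequalities imply Cohen–Macaulay
    rintro ⟨h1, h2⟩ q hq
    have hee : ee r s (a - b) = r + s - 1 := by
      unfold ee
      rw [if_neg (by omega), if_neg (by omega)]
    have hd : ((r + s - 1 : ℕ) : ℕ∞) ≤ LocCoh.idealDepth mT.toIdeal P := by
      rw [hdepth, ← hee]; exact hlow _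
    have hsuppP := mem_support_of_torsionFree P m₀ hm₀
    have : Nontrivial (LocalizedModule mT.toIdeal.primeCompl P) :=
      Module.mem_support_iff.mp (hsuppP ⟨mT.toIdeal, hmax.isPrime⟩)
    have : IsNoetherianRing (Localization.AtPrime mT.toIdeal) :=
      IsLocalization.isNoetherianRing mT.toIdeal.primeCompl _ inferInstance
    have hdl := idealDepth_le_depth_localization mT.toIdeal P (le_refl mT.toIdeal)
    have hds := depth_le_supportDim (R := Localization.AtPrime mT.toIdeal)
      (M := LocalizedModule mT.toIdeal.primeCompl P)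
    have hsd := Module.supportDim_le_ringKrullDim (Localization.AtPrime mT.toIdeal)
      (LocalizedModule mT.toIdeal.primeCompl P)
    rw [hloc_ht] at hsd
    have hchain : ((mT.toIdeal.height : ℕ∞) : WithBot ℕ∞) ≤
        ((LocCoh.depth (Localization.AtPrime mT.toIdeal)
          (LocalizedModule mT.toIdeal.primeCompl P) : ℕ∞) : WithBot ℕ∞) :=
      WithBot.coe_le_coe.mpr (hht_le.trans (hd.trans hdl))
    have hCM : LocCoh.IsCohenMacaulayModule (Localization.AtPrime mT.toIdeal)
        (LocalizedModule mT.toIdeal.primeCompl P) :=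
      le_antisymm (hsd.trans hchain) hds
    have hdim : ((mT.toIdeal.height : ℕ∞) : WithBot ℕ∞) ≤
        Module.supportDim (Localization.AtPrime mT.toIdeal)
          (LocalizedModule mT.toIdeal.primeCompl P) := hchain.trans hds
    have hG := gradedSMul 𝒯 ψ hT 𝒬 a b φ hP
    have : SetLike.GradedSMul (sgr 𝒯) 𝒬 :=
      ⟨fun {i j t p} ht hp => hG.smul_mem ht hp⟩
    have hmaxhom : ∀ J : Ideal T, J.IsHomogeneous (sgr 𝒯) → J ≠ ⊤ → J ≤ mT.toIdeal := by
      intro J hJ hne
      rw [hirr]
      exact Groth.Agent.Lib.Seat91.GrIrr.le_irr_of_isHomogeneous 𝒯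
        (Groth.Agent.Lib.Seat97.SegreBridge.neg_eq_bot 𝒯 ψ hT)
        (Groth.Agent.Lib.Seat97.SegreBridge.zero_eq 𝒯 ψ hT)
        ((isHomogeneous_sgr_iff 𝒯 J).mp hJ) hne
    exact cm_of_cm_at_irrelevant (sgr 𝒯) P 𝒬 mT.toIdeal hmaxhom hCM hdim q

end Groth.Agent.S19763
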