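import Groth.Statements.S7151
import Groth.Agent.Lib.Helper14Japanese
import Groth.Agent.Lib.Seat10SepStepE
import Groth.Agent.Lib.Seat10SepStepN
import Groth.Agent.Lib.Seat10SepStepO

set_option autoImplicit false
universe u
open EtAlg

namespace Groth.Agent.S7151

/-- Let p be a prime and A → B an injective local homomorphism of discrete valuation rings whose fields
of fractions are K ⊆ L, where K has characteristic p, L is separable (geometrically reduced) over K
and B is a Nagata ring. Let K ⊆ K₁ ⊆ K₂ be finite extensions such that K₂ is a solution for A ⊆ B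
and K₂/K₁ is purely inseparable of degree p. Then some finite separable extension K₃/K₁ is also a
solution for A ⊆ B. -/
theorem result (p : ℕ) (hp : p.Prime) (A B K L : Type u)
    [CommRing A] [IsDomain A] [IsDiscreteValuationRing A] [CommRing B] [IsDomain B] [IsDiscreteValuationRing B]
    [Algebra A B] (hinj : Function.Injective (algebraMap A B)) [IsLocalHom (algebraMap A B)]
    [Field K] [Field L] [Algebra A K] [IsFractionRing A K] [Algebra B L] [IsFractionRing B L]
    [Algebra K L] [Algebra A L] [IsScalarTower A K L] [IsScalarTower A B L] [CharP K p]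
    [Algebra.IsGeometricallyReduced K L] (hB : CAlg.IsNagata B)
    (K₁ K₂ : Type u) [Field K₁] [Field K₂] [Algebra K K₁] [Algebra K K₂] [Algebra K₁ K₂] [IsScalarTower K K₁ K₂]
    [FiniteDimensional K K₁] [FiniteDimensional K₁ K₂] (hsol : EtRam.IsSolution B K L K₂)
    [IsPurelyInseparable K₁ K₂] (hdeg : Module.finrank K₁ K₂ = p) :
    ∃ (K₃ : Type u) (_ : Field K₃) (_ : Algebra K K₃) (_ : Algebra K₁ K₃) (_ : IsScalarTower K K₁ K₃),
      FiniteDimensional K₁ K₃ ∧ Algebra.IsSeparable K₁ K₃ ∧ EtRam.IsSolution B K L K₃ := by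
  classical
  have hfact : Fact p.Prime := ⟨hp⟩
  have hN2 : CAlg.IsN2 B :=
    Groth.Agent.Lib.Helper14.isN2_of_ringEquiv (RingEquiv.quotientBot B) (hB.2 ⊥)
  -- algebra structures over `A`
  letI algAK₁ : Algebra A K₁ := ((algebraMap K K₁).comp (algebraMap A K)).toAlgebra
  haveI tAKK₁ : IsScalarTower A K K₁ := IsScalarTower.of_algebraMap_eq fun _ => rfl
  letI algAK₂ : Algebra A K₂ := ((algebraMap K K₂).comp (algebraMap A K)).toAlgebra
  haveI tAKK₂ : IsScalarTower A K K₂ := IsScalarTower.of_algebraMap_eq fun _ => rfl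
  haveI tAK₁K₂ : IsScalarTower A K₁ K₂ := IsScalarTower.of_algebraMap_eq fun x => by
    show algebraMap K K₂ (algebraMap A K x) = algebraMap K₁ K₂ (algebraMap K K₁ (algebraMap A K x))
    rw [← IsScalarTower.algebraMap_apply K K₁ K₂]
  have hfinKK₂ : FiniteDimensional K K₂ := FiniteDimensional.trans K K₁ K₂
  have hcharK₁ : CharP K₁ p := charP_of_injective_algebraMap (algebraMap K K₁).injective p
  have hfinA₂ : Module.Finite A (integralClosure A K₂) :=
    Groth.Agent.Lib.Seat10.SepStep.finite_integralClosure_of_isGeometricallyReduced A B K L hN2 K₂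
  have hpowK : ∀ k : K₂, ∃ k₁ : K₁, algebraMap K₁ K₂ k₁ = k ^ p := fun k =>
    Groth.Agent.Lib.Seat10.Insep.pow_mem_range_field (L := K₁) (M := K₂) p hp hdeg k
  obtain ⟨α, hαint, a, hαp, ha⟩ :=
    Groth.Agent.Lib.Seat10.SepStep.exists_generator A K (K₁ := K₁) (K₂ := K₂) p hp hdeg
  obtain ⟨s, bas, hbas⟩ := FiniteDimensional.exists_is_basis_integral A K K₁
  obtain ⟨πA, hπA⟩ := IsDiscreteValuationRing.exists_irreducible A
  have hπAm : πA ∈ IsLocalRing.maximalIdeal A := by
    rw [hπA.maximalIdeal_eq]; exact Ideal.mem_span_singleton_self _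
  have hπBm : algebraMap A B πA ∈ IsLocalRing.maximalIdeal B := by
    rw [IsLocalRing.mem_maximalIdeal, mem_nonunits_iff]
    intro hu
    exact hπA.not_isUnit (isUnit_of_map_unit (algebraMap A B) πA hu)
  -- the spanning family
  have he := Groth.Agent.Lib.Seat10.SepStep.span_mul_pow_eq_top bas p hp hdeg α a hαp ha
  obtain ⟨cB, hcB⟩ := Groth.Agent.Lib.Seat10.SepStep.exists_conductor (L := L) hN2 _ he
    (algebraMap A B πA) hπBm
  have hDA := (Groth.Agent.Lib.Helper14.finite_integralClosure_iff_fg A K₂).mp hfinA₂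
  obtain ⟨cA, hcA⟩ := Groth.Agent.Lib.Seat10.SepStep.exists_pow_smul_mem_span (B := A) (L := K)
    (F := K₂) _ he _ hDA πA hπAm
  -- the separable extension
  have hc0 : algebraMap A K₁ (πA ^ (p * (cA + cB + 2))) ≠ 0 := by
    intro h
    rw [IsScalarTower.algebraMap_apply A K K₁, map_eq_zero] at h
    exact pow_ne_zero _ hπA.ne_zero (IsFractionRing.injective A K (h.trans (map_zero _).symm))
  obtain ⟨K₃, instF, instA, hfin₃, hsep₃, hdeg₃, β, hβ⟩ :=
    Groth.Agent.Lib.Seat10.SepStep.exists_separable_root p hp a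
      (algebraMap A K₁ (πA ^ (p * (cA + cB + 2)))) hc0
  letI algKK₃ : Algebra K K₃ := ((algebraMap K₁ K₃).comp (algebraMap K K₁)).toAlgebra
  haveI tKK₁K₃ : IsScalarTower K K₁ K₃ := IsScalarTower.of_algebraMap_eq fun _ => rfl
  have ha₃ : ∀ b : K₃, b ^ p ≠ algebraMap K₁ K₃ a :=
    Groth.Agent.Lib.Seat10.SepStep.pow_ne_of_isSeparable p hp a ha
  refine ⟨K₃, instF, algKK₃, instA, tKK₁K₃, hfin₃, hsep₃, ?_⟩
  refine Groth.Agent.Lib.Seat10.SepStep.local_step p hp hinj hN2 hsol hdeg hpowK hfinA₂ hdeg₃ πA hπA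
    (fun j => bas j) hbas α hαint a hαp ha₃ (cA + cB) ?_ ?_ β hβ
  · intro E _ _ _ _ _ _ _ _ y hy hyint
    obtain ⟨b, hb⟩ := hcB E y hy hyint
    refine ⟨fun ij => (algebraMap A B πA) ^ cA * b ij, ?_⟩
    rw [pow_add, map_mul, mul_assoc, hb, Finset.mul_sum]
    refine Finset.sum_congr rfl fun ij _ => ?_
    show _ = algebraMap B E ((algebraMap A B πA) ^ cA * b ij) * _
    rw [map_mul (algebraMap B E), mul_assoc]
  · intro y hy
    obtain ⟨b, hb⟩ := hcA y hy
    refine ⟨fun ij => πA ^ cB * b ij, ?_⟩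
    simp only [Algebra.smul_def] at hb
    rw [pow_add, mul_comm (πA ^ cA), map_mul, mul_assoc, hb, Finset.mul_sum]
    refine Finset.sum_congr rfl fun ij _ => ?_
    show _ = algebraMap A K₂ (πA ^ cB * b ij) * _
    rw [map_mul (algebraMap A K₂), mul_assoc]

end Groth.Agent.S7151
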