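import Groth.Statements.S1986
import Groth.Agent.S7151
import Groth.Agent.Lib.Seat36SepClosure
import Groth.Agent.Lib.Seat10SepStepP

set_option autoImplicit false
universe u
open EtAlg

namespace Groth.Agent.S1986

/-- Let A -> B be an extension of discrete valuation rings with separable extension of fraction fields
L/K and B a Nagata ring. If some finite extension of K is a solution for A -> B, then some finite
separable extension of K is a solution as well. -/
theorem result (A B K L : Type u) [CommRing A] [IsDomain A] [IsDiscreteValuationRing A]
    [CommRing B] [IsDomain B] [IsDiscreteValuationRing B] [Algebra A B] [IsLocalHom (algebraMap A B)]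
    (hinj : Function.Injective (algebraMap A B))
    [Field K] [Field L] [Algebra A K] [IsFractionRing A K] [Algebra B L] [IsFractionRing B L]
    [Algebra K L] [Algebra A L] [IsScalarTower A K L] [IsScalarTower A B L] [Algebra.IsSeparable K L] (hB : CAlg.IsNagata B)
    (K₂ : Type u) [Field K₂] [Algebra K K₂] [FiniteDimensional K K₂] (h₂ : EtRam.IsSolution B K L K₂) :
    ∃ (K₃ : Type u) (_ : Field K₃) (_ : Algebra K K₃) (_ : FiniteDimensional K K₃) (_ : Algebra.IsSeparable K K₃),
      EtRam.IsSolution B K L K₃ := by
  classical
  obtain ⟨p, hexp⟩ := ExpChar.exists K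
  haveI := hexp
  haveI hgr : Algebra.IsGeometricallyReduced K L :=
    Groth.Agent.Lib.Seat36.SepClosure.isGeometricallyReduced_of_isSeparable K L
  -- general claim by strong induction on the inseparable degree
  have key : ∀ (d : ℕ) (K₂ : Type u) [Field K₂] [Algebra K K₂] [FiniteDimensional K K₂],
      Field.finInsepDegree K K₂ = d → EtRam.IsSolution B K L K₂ →
      ∃ (K₃ : Type u) (_ : Field K₃) (_ : Algebra K K₃) (_ : FiniteDimensional K K₃)
        (_ : Algebra.IsSeparable K K₃), EtRam.IsSolution B K L K₃ := by
    intro d
    induction d using Nat.strong_induction_on with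
    | _ d ih =>
      intro K₂ _ _ _ hd h₂
      by_cases hsep : Algebra.IsSeparable K K₂
      · exact ⟨K₂, inferInstance, inferInstance, inferInstance, hsep, h₂⟩
      · obtain ⟨hp, F, hFpi, hFdeg⟩ :=
          Groth.Agent.Lib.Seat10.SepStep.exists_index_p K K₂ p hsep
        haveI hcharK : CharP K p := by
          cases hexp with
          | zero => exact absurd hp Nat.not_prime_one
          | prime hq => assumption
        haveI := hFpi
        obtain ⟨K₃, fK₃, aKK₃, aFK₃, tK₃, hfin, hsep₃, hsol₃⟩ :=
          Groth.Agent.S7151.result p hp A B K L hinj hB F K₂ h₂ hFdeg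
        haveI := hfin
        haveI := hsep₃
        haveI hfinK₃ : FiniteDimensional K K₃ := FiniteDimensional.trans K F K₃
        have h1 : Field.finInsepDegree K F * Field.finInsepDegree F K₃ = Field.finInsepDegree K K₃ :=
          Field.finInsepDegree_mul_finInsepDegree_of_isAlgebraic K F K₃
        have h2 : Field.finInsepDegree K F * Field.finInsepDegree F K₂ = Field.finInsepDegree K K₂ :=
          Field.finInsepDegree_mul_finInsepDegree_of_isAlgebraic K F K₂
        have h3 : Field.finInsepDegree F K₃ = 1 := Algebra.IsSeparable.finInsepDegree_eq F K₃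
        have h4 : Field.finInsepDegree F K₂ = p := by
          rw [IsPurelyInseparable.finInsepDegree_eq, hFdeg]
        have hpos : 0 < Field.finInsepDegree K F := Nat.pos_of_ne_zero (NeZero.ne _)
        have hlt : Field.finInsepDegree K K₃ < d := by
          rw [← hd, ← h1, ← h2, h3, h4, mul_one]
          have h2p := hp.two_le
          nlinarith
        exact ih (Field.finInsepDegree K K₃) hlt K₃ rfl hsol₃
  exact key _ K₂ rfl h₂

end Groth.Agent.S1986
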