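import Groth.Statements.S19879
import Groth.Agent.S18397
import Groth.Agent.S19878
import Groth.Agent.Lib.Seat90NoethTop

set_option autoImplicit false
universe u
open LVCorr

namespace Groth.Agent.S19879

open AlgebraicGeometry CategoryTheory CategoryTheory.Limits in
/-- Let k₀ be a finite field with p^e elements, K an algebraic closure of k₀, C₀ a scheme of finite type
over k₀, C = C₀ ×_{k₀} Spec K with its projections, and Fr : C → C the n-th power of the geometric
Frobenius (over K, compatible with the (e·n)-th power of the absolute p-Frobenius of C₀). Let X be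
locally of finite type over K and c₁, c₂ : C → X morphisms over K with c₂ locally quasi-finite, and
let d < p^(e n) be such that for every closed point x of X, with J_x the inverse image under c₂ of
the ideal sheaf of the reduced point x, one has (√J_x)^d ⊂ J_x (so p^(e n) exceeds the ramification
degree of c₂). Then the scheme of fixed points of the twisted correspondence (c₁ ∘ Fr, c₂), namely
the pullback of (c₁ ∘ Fr, c₂) : C → X ×_K X along the diagonal of X, has finite and discrete
underlying topological space. (In the source X, c₁ and c₂ are also defined over k₀ and all schemes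
are separated; neither is needed here.) -/
theorem result {C C₀ X Fx : Scheme.{u}}
    (p : ℕ) [Fact p.Prime] (k₀ : Type u) [Field k₀] [Fintype k₀] [CharP k₀ p] (e : ℕ)
    (hq : Fintype.card k₀ = p ^ e) (K : Type u) [Field K] [Algebra k₀ K] [IsAlgClosure k₀ K]
    (f₀ : C₀ ⟶ Spec (CommRingCat.of k₀)) [LocallyOfFiniteType f₀] [QuasiCompact f₀] [FrobSch.IsCharP C₀ p]
    (πC₀ : C ⟶ C₀) (πK : C ⟶ Spec (CommRingCat.of K))
    (hC : IsPullback πC₀ πK f₀ (Spec.map (CommRingCat.ofHom (algebraMap k₀ K))))
    (n : ℕ) (Fr : C ⟶ C)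
    (hFr₀ : Fr ≫ πC₀ = πC₀ ≫ End.asHom (End.of (FrobSch.frob C₀ p) ^ (e * n)))
    (hFrK : Fr ≫ πK = πK)
    (pX : X ⟶ Spec (CommRingCat.of K)) [LocallyOfFiniteType pX]
    (c₁ c₂ : C ⟶ X) (hc₁ : c₁ ≫ pX = πK) (hc₂ : c₂ ≫ pX = πK)
    [LocallyQuasiFinite c₂] [LocallyOfFiniteType c₂]
    (hcomm : (Fr ≫ c₁) ≫ pX = c₂ ≫ pX) (d : ℕ) (hn : d < p ^ (e * n))
    (hd : ∀ (x : X) (hx : IsClosed ({x} : Set X)),
      ((Scheme.IdealSheafData.vanishingIdeal ⟨{x}, hx⟩).comap c₂).radical ^ d ≤
        (Scheme.IdealSheafData.vanishingIdeal ⟨{x}, hx⟩).comap c₂)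
    (i : Fx ⟶ C) (δ : Fx ⟶ X) (hF : IsPullback i δ (pullback.lift (Fr ≫ c₁) c₂ hcomm) (pullback.diagonal pX)) :
    Finite Fx ∧ DiscreteTopology Fx := by
  -- finiteness properties of `C`
  have hftK : LocallyOfFiniteType πK := MorphismProperty.of_isPullback hC inferInstance
  have hqcK : QuasiCompact πK := MorphismProperty.of_isPullback hC inferInstance
  have hLN : IsLocallyNoetherian C := LocallyOfFiniteType.isLocallyNoetherian πK
  have hcpt : CompactSpace C := QuasiCompact.compactSpace_of_compactSpace πK
  have hNC : IsNoetherian C := { }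
  have hNS : TopologicalSpace.NoetherianSpace C := inferInstance
  -- `i` is an immersion
  have hi : IsImmersion i := MorphismProperty.of_isPullback hF.flip inferInstance
  have hNF : TopologicalSpace.NoetherianSpace Fx := i.isEmbedding.isInducing.noetherianSpace
  have hδ : i ≫ c₂ = δ := by
    have := congrArg (fun g => g ≫ pullback.snd pX pX) hF.w
    simp only [Category.assoc, pullback.lift_snd, pullback.diagonal_snd, Category.comp_id] at this
    exact this
  have hftδ : LocallyOfFiniteType δ := by rw [← hδ]; infer_instance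
  have hJX : JacobsonSpace X := LocallyOfFiniteType.jacobsonSpace pX
  -- the fixed points lie in `W`
  have hrange : ∀ W : C.Opens,
      (pullback.lift (Fr ≫ c₁) c₂ hcomm).base ⁻¹' Set.range (pullback.diagonal pX).base ⊆ (W : Set C) →
      Set.range i.base ⊆ (W : Set C) := by
    rintro W hW _ ⟨f, rfl⟩
    apply hW
    refine ⟨δ.base f, ?_⟩
    have := congrArg (fun g : Fx ⟶ pullback pX pX => g.base f) hF.w
    simpa using this.symm
  -- closed points are open
  have hopen : ∀ f : Fx, IsClosed ({f} : Set Fx) → IsOpen ({f} : Set Fx) := by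
    intro f hf
    have hx : IsClosed ({δ.base f} : Set X) :=
      δ.closePoints_subset_preimage_closedPoints hf
    obtain ⟨W, hW1, hW2, k, hW3⟩ := Groth.Agent.S18397.result p k₀ e hq K f₀ πC₀ πK hC n Fr hFr₀ hFrK
      pX c₁ c₂ hc₁ hc₂ hcomm d hn hd (δ.base f) hx
    obtain ⟨β, hβo, hfβ, hβc⟩ := Groth.Agent.Lib.Seat90.NoethTop.exists_isOpen_isConnected f
    have hsupp : ((Scheme.IdealSheafData.vanishingIdeal ⟨{δ.base f}, hx⟩).support : Set X) =
        {δ.base f} := Scheme.IdealSheafData.coe_support_vanishingIdeal _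
    have hβsub := Groth.Agent.S19878.result K πK pX (Fr ≫ c₁) c₂ hcomm i δ hF
      (Scheme.IdealSheafData.vanishingIdeal ⟨{δ.base f}, hx⟩) W (hrange W hW1) hW2 k hW3
      ⟨β, hβo⟩ hβc (by
        refine ⟨δ.base f, ⟨f, hfβ, rfl⟩, ?_⟩
        rw [hsupp]
        exact Set.mem_singleton _)
    rw [hsupp] at hβsub
    -- the fibre of `c₂` is discrete
    have hD : _root_.IsDiscrete (c₂.base ⁻¹' {δ.base f}) := c₂.isDiscrete_preimage_singleton _
    have hfD : i.base f ∈ c₂.base ⁻¹' {δ.base f} := by
      change c₂.base (i.base f) = δ.base f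
      rw [← hδ]
      rfl
    have hDT := hD.to_subtype
    have h1 : IsOpen ({⟨i.base f, hfD⟩} : Set (c₂.base ⁻¹' {δ.base f} : Set C)) :=
      isOpen_discrete _
    obtain ⟨V, hV, hVeq⟩ := isOpen_induced_iff.mp h1
    have h2 : ({f} : Set Fx) = (i.base ⁻¹' V) ∩ β := by
      ext f'
      constructor
      · intro hf'
        rw [Set.mem_singleton_iff] at hf'
        subst hf'
        refine ⟨?_, hfβ⟩
        have : (⟨i.base f', hfD⟩ : (c₂.base ⁻¹' {δ.base f'} : Set C)) ∈ Subtype.val ⁻¹' V := by
          rw [hVeq]; exact Set.mem_singleton _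
        exact this
      · rintro ⟨hf'V, hf'β⟩
        have hf'D : i.base f' ∈ c₂.base ⁻¹' {δ.base f} := by
          have h3 : δ.base f' = δ.base f := hβsub hf'β
          have h4 : δ.base f' = c₂.base (i.base f') := by rw [← hδ]; rfl
          change c₂.base (i.base f') = δ.base f
          rw [← h4, h3]
        have : (⟨i.base f', hf'D⟩ : (c₂.base ⁻¹' {δ.base f} : Set C)) ∈ Subtype.val ⁻¹' V := hf'V
        rw [hVeq, Set.mem_singleton_iff] at this
        have := congrArg Subtype.val this
        exact i.isEmbedding.injective this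
    rw [h2]
    exact (hV.preimage i.continuous).inter hβo
  have hdisc : DiscreteTopology Fx :=
    Groth.Agent.Lib.Seat90.NoethTop.discreteTopology_of_closed_points_open hopen
  exact ⟨finite_of_compact_of_discrete, hdisc⟩

end Groth.Agent.S19879
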