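import Groth.Statements.S1988
import Groth.Agent.Lib.Seat10TowerC

set_option autoImplicit false
universe u
open EtAlg

namespace Groth.Agent.S1988

/-- Let A -> B -> C be extensions of discrete valuation rings (local injective maps) with fraction
fields K ⊂ L ⊂ M₀ and K₁/K a finite extension. (The solution predicates mention only B, C and the
fields: in them the bottom ring is recovered as B ∩ K, which the hypotheses on A force to be A.) If
K₁ is a weak solution (resp. a solution) for A -> C then it is a weak solution (resp. a solution)
for A -> B. -/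
theorem result (A B C K L M₀ K₁ : Type u) [CommRing A] [IsDomain A] [IsDiscreteValuationRing A]
    [CommRing B] [IsDomain B] [IsDiscreteValuationRing B] [Algebra A B] [IsLocalHom (algebraMap A B)]
    (hinjA : Function.Injective (algebraMap A B))
    [CommRing C] [IsDomain C] [IsDiscreteValuationRing C] [Algebra B C] [IsLocalHom (algebraMap B C)]
    (hinj : Function.Injective (algebraMap B C))
    [Field K] [Field L] [Field M₀] [Field K₁] [Algebra K L] [Algebra K M₀] [Algebra L M₀] [IsScalarTower K L M₀]
    [Algebra K K₁] [FiniteDimensional K K₁] [Algebra A K] [IsFractionRing A K]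
    [Algebra B L] [IsFractionRing B L] [Algebra A L] [IsScalarTower A K L] [IsScalarTower A B L]
    [Algebra C M₀] [IsFractionRing C M₀] [Algebra B M₀]
    [IsScalarTower B C M₀] [IsScalarTower B L M₀] :
    (EtRam.IsWeakSolution C K M₀ K₁ → EtRam.IsWeakSolution B K L K₁) ∧
    (EtRam.IsSolution C K M₀ K₁ → EtRam.IsSolution B K L K₁) := by
  have hBLinj : Function.Injective (algebraMap B L) := IsFractionRing.injective B L
  have key : ∀ (P : ∀ (M : Type u) [Field M], ValuationSubring M → (K₁ →+* M) → Prop),
      (∀ (M M' : Type u) [Field M] [Field M'] (W' : ValuationSubring M') (j : M →+* M')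
        (f : K₁ →+* M), P M' W' (j.comp f) → P M (W'.comap j) f) →
      EtRam.ForallLocalExt C K M₀ K₁ P → EtRam.ForallLocalExt B K L K₁ P := by
    intro P hP h M _ _ _ _ _ _ hadj W hW
    obtain ⟨M', hM', j, i, W', hcompat, hcomap, hdom, hclos⟩ :=
      Groth.Agent.Lib.Seat10.Tower.exists_compositum hinj (M₀ := M₀)
        ((algebraMap L M).comp (algebraMap B L))
        ((algebraMap L M).injective.comp hBLinj) W hW
    subst hcomap
    let _ : Algebra M₀ M' := i.toAlgebra
    let _ : Algebra K₁ M' := (j.comp (algebraMap K₁ M)).toAlgebra
    let _ : Algebra K M' := (i.comp (algebraMap K M₀)).toAlgebra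
    have : IsScalarTower K M₀ M' := IsScalarTower.of_algebraMap_eq (fun _ => rfl)
    have hLcompat' : j.comp (algebraMap L M) = i.comp (algebraMap L M₀) := by
      apply IsLocalization.ringHom_ext (nonZeroDivisors B)
      ext b
      have := hcompat b
      simp only [RingHom.comp_apply] at this ⊢
      rw [this, ← IsScalarTower.algebraMap_apply B C M₀, IsScalarTower.algebraMap_apply B L M₀]
    have hLcompat : ∀ l : L, j (algebraMap L M l) = i (algebraMap L M₀ l) :=
      fun l => RingHom.congr_fun hLcompat' l
    have : IsScalarTower K K₁ M' := IsScalarTower.of_algebraMap_eq (fun k => by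
      show i (algebraMap K M₀ k) = j (algebraMap K₁ M (algebraMap K K₁ k))
      rw [← IsScalarTower.algebraMap_apply K K₁ M, IsScalarTower.algebraMap_apply K L M,
        hLcompat, ← IsScalarTower.algebraMap_apply K L M₀])
    have halg : ∀ x ∈ Set.range (algebraMap K₁ M'), IsAlgebraic M₀ x := by
      rintro _ ⟨k, rfl⟩
      have h1 : IsAlgebraic K k := Algebra.IsAlgebraic.isAlgebraic k
      have h2 : IsAlgebraic K (algebraMap K₁ M' k) := h1.algebraMap
      exact h2.tower_top M₀
    have hadj' : Algebra.adjoin M₀ (Set.range (algebraMap K₁ M')) = ⊤ := by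
      rw [← IntermediateField.adjoin_toSubalgebra_of_isAlgebraic halg, eq_top_iff]
      intro x _
      have hx : x ∈ Subfield.closure (Set.range j ∪ Set.range i) := hclos ▸ Subfield.mem_top x
      have hle : Subfield.closure (Set.range j ∪ Set.range i) ≤
          (IntermediateField.adjoin M₀ (Set.range (algebraMap K₁ M'))).toSubfield := by
        rw [Subfield.closure_le]
        rintro _ (⟨m, rfl⟩ | ⟨y, rfl⟩)
        · have hm : m ∈ Algebra.adjoin L (Set.range (algebraMap K₁ M)) := hadj ▸ Algebra.mem_top
          induction hm using Algebra.adjoin_induction with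
          | mem x hx =>
            obtain ⟨k, rfl⟩ := hx
            exact IntermediateField.subset_adjoin _ _ ⟨k, rfl⟩
          | algebraMap l =>
            rw [hLcompat]
            exact IntermediateField.algebraMap_mem _ (algebraMap L M₀ l)
          | add x y _ _ hx hy => rw [map_add]; exact add_mem hx hy
          | mul x y _ _ hx hy => rw [map_mul]; exact mul_mem hx hy
        · exact IntermediateField.algebraMap_mem _ y
      exact hle hx
    exact hP M M' W' j (algebraMap K₁ M) (h M' hadj' W' hdom)
  refine ⟨key _ (fun M M' _ _ W' j f h => ?_), key _ (fun M M' _ _ W' j f h => ?_)⟩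
  · exact Groth.Agent.Lib.Seat10.Tower.isWeaklyUnramified_comap W' j f h
  · exact ⟨Groth.Agent.Lib.Seat10.Tower.isWeaklyUnramified_comap W' j f h.1,
      Groth.Agent.Lib.Seat10.Tower.isGeometricallyReduced_comap W' j f h.2⟩

end Groth.Agent.S1988
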