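import Groth.Statements.S19881
import Groth.Agent.S17772
import Groth.Agent.Lib.Seat67PolyArt
import Groth.Agent.Lib.Seat67LinSeq
import Groth.Agent.Lib.Seat67Deg0Local
import Groth.Agent.Lib.Seat91CompGrading
import Groth.Agent.Lib.Seat97GrAInvHilb

set_option autoImplicit false
universe u
open GrLC

namespace Groth.Agent.S19881

/-- Let R = ⊕_{n ≥ 0} R_n be a (Noetherian) positively ℤ-graded ring which is standard graded
(irrelevant ideal generated by R_1), with R_0 Artinian, *local with unique homogeneous maximal ideal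
m, Cohen–Macaulay of Krull dimension d, and with infinite residue field R/m. If the a-invariant of R
equals −d, i.e. the end (largest nonzero degree) of the graded local cohomology module H^d_m(R),
computed from any *injective resolution of R in the graded category, is −d, then R is a polynomial
ring over R_0 in d variables of degree one: there is an R_0-algebra isomorphism R_0[T_1, …, T_d] ≅ R
mapping every variable into R_1. (The published statement asserts the equivalence of a(R) = −d with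
R ≅ R_0[T_1, …, T_d] without the residue-field hypothesis; its argument treats the case of an
infinite residue field, which is the case stated here, and only the forward implication is stated.) -/
theorem result (R : Type u) [CommRing R]
    [LocCoh.IsCohenMacaulayRing R] (𝒜 : ℤ → AddSubgroup R) [GradedRing 𝒜]
    (hpos : ∀ n : ℤ, n < 0 → 𝒜 n = ⊥)
    (hstd : Ideal.span (⋃ n ∈ Set.Ioi (0 : ℤ), (𝒜 n : Set R)) = Ideal.span ((𝒜 1 : AddSubgroup R) : Set R))
    [IsArtinianRing (GrLC.deg0 𝒜)] (m : HomogeneousIdeal 𝒜) (hm : GrLC.IsStarLocal 𝒜 m)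
    (hinf : Infinite (R ⧸ m.toIdeal)) (d : ℕ) (hd : ringKrullDim R = d) (I : GrLC.StarInjRes 𝒜 𝒜)
    (ha : GrLC.endDeg (I.Hgr m d) = (((-(d : ℤ) : ℤ) : WithTop ℤ) : WithBot (WithTop ℤ))) :
    ∃ e : MvPolynomial (Fin d) (GrLC.deg0 𝒜) ≃ₐ[GrLC.deg0 𝒜] R, ∀ t : Fin d, e (MvPolynomial.X t) ∈ 𝒜 1 := by
  classical
  haveI hnt : Nontrivial R := Groth.Agent.Lib.Seat67.Deg0Local.nontrivial_of_isStarLocal 𝒜 hm
  haveI hloc : IsLocalRing (GrLC.deg0 𝒜) := Groth.Agent.Lib.Seat67.Deg0Local.isLocalRing_deg0 𝒜 hm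
  letI : GradedAlgebra (GrLC.comp 𝒜 𝒜) := Groth.Agent.Lib.Seat91.CompGrading.compGradedAlgebra 𝒜
  have hpos' : ∀ n : ℤ, n < 0 → GrLC.comp 𝒜 𝒜 n = ⊥ := fun n hn =>
    Groth.Agent.Lib.Seat91.CompGrading.comp_eq_bot 𝒜 (hpos n hn)
  have h0' : GrLC.comp 𝒜 𝒜 0 = Submodule.span (GrLC.deg0 𝒜) {(1 : R)} :=
    Groth.Agent.Lib.Seat91.CompGrading.comp_zero_eq 𝒜
  have hstd' : Ideal.span (⋃ j ∈ Set.Ioi (0 : ℤ), (GrLC.comp 𝒜 𝒜 j : Set R)) =
      Ideal.span ((GrLC.comp 𝒜 𝒜 1 : Submodule (GrLC.deg0 𝒜) R) : Set R) := hstd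
  obtain ⟨P, N, hPN⟩ := Groth.Agent.Lib.Seat67.HilbArt.exists_hilbPoly (GrLC.comp 𝒜 𝒜) hpos' h0'
    hstd'
  have hP : ∃ N : ℤ, ∀ n : ℤ, N ≤ n → P.eval (n : ℚ) =
      ((Module.length (GrLC.deg0 𝒜) (GrLC.comp 𝒜 𝒜 n)).toNat : ℚ) := by
    refine ⟨(N : ℤ), fun j hj => ?_⟩
    obtain ⟨k, rfl⟩ := Int.eq_ofNat_of_zero_le (le_trans (Int.natCast_nonneg N) hj)
    have := hPN k (by exact_mod_cast hj)
    exact_mod_cast this
  have hsup := Groth.Agent.S17772.result R 𝒜 hpos hstd m hm d hd I P hP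
  rw [ha] at hsup
  -- the Hilbert polynomial agrees with the Hilbert function above `-d`
  have hev : ∀ j : ℤ, -(d : ℤ) < j → P.eval (j : ℚ) =
      ((Module.length (GrLC.deg0 𝒜) (GrLC.comp 𝒜 𝒜 j)).toNat : ℚ) := by
    intro j hj
    by_contra hne
    have hle : ((j : WithTop ℤ) : WithBot (WithTop ℤ)) ≤
        ⨆ (n : ℤ) (_ : P.eval (n : ℚ) ≠
          ((Module.length (GrLC.deg0 𝒜) (GrLC.comp 𝒜 𝒜 n)).toNat : ℚ)),
          ((n : WithTop ℤ) : WithBot (WithTop ℤ)) :=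
      le_iSup₂ (f := fun (n : ℤ) (_ : P.eval (n : ℚ) ≠
          ((Module.length (GrLC.deg0 𝒜) (GrLC.comp 𝒜 𝒜 n)).toNat : ℚ)) =>
          ((n : WithTop ℤ) : WithBot (WithTop ℤ))) j hne
    rw [← hsup] at hle
    have hle' : j ≤ -(d : ℤ) := WithTop.coe_le_coe.1 (WithBot.coe_le_coe.1 hle)
    omega
  have hinj : Function.Injective (algebraMap (GrLC.deg0 𝒜) R) := Subtype.val_injective
  have hlen := Groth.Agent.Lib.Seat67.PolyArt.length_eq_multichoose (GrLC.comp 𝒜 𝒜) hpos' h0' hstd'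
    hinj d hd P N hPN hev
  have hLtop : Module.length (GrLC.deg0 𝒜) (GrLC.deg0 𝒜) ≠ ⊤ := Module.length_ne_top
  -- the Hilbert function of `R`
  set L : ℚ := ((Module.length (GrLC.deg0 𝒜) (GrLC.deg0 𝒜)).toNat : ℚ) with hL
  have hhilb : Groth.Agent.Lib.Seat86.GrSerreB.hilb 𝒜 𝒜 = Groth.Agent.Lib.Seat67.LinSeq.mc L d := by
    funext n
    unfold Groth.Agent.Lib.Seat86.GrSerreB.hilb Groth.Agent.Lib.Seat67.LinSeq.mc
    rcases lt_or_ge n 0 with hn | hn
    · rw [if_pos hn, hpos' n hn]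
      have : Module.length (GrLC.deg0 𝒜) (⊥ : Submodule (GrLC.deg0 𝒜) R) = 0 :=
        Module.length_eq_zero
      rw [this]
      simp
    · rw [if_neg (by omega)]
      obtain ⟨k, rfl⟩ := Int.eq_ofNat_of_zero_le hn
      rw [hlen k, Int.toNat_natCast, ENat.toNat_mul, ENat.toNat_natCast]
      push_cast
      ring
  -- a linear regular sequence of length `d`
  have hdepth : ∀ i : ℕ, i < d → Subsingleton (I.H m i) := fun i hi =>
    Groth.Agent.Lib.Seat97.GrAInvHilb.subsingleton_H_of_lt 𝒜 hpos m hm d hd I i hi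
  obtain ⟨f, hf1, -, hH⟩ := Groth.Agent.Lib.Seat67.LinSeq.exists_seq hpos hstd hm hinf I d hdepth d
    le_rfl
  -- the quotient by the sequence vanishes in degree one
  let J : Submodule R R := Ideal.span (Set.range f)
  have hJhom : J.IsHomogeneous 𝒜 := by
    apply Ideal.homogeneous_span
    rintro _ ⟨i, rfl⟩
    exact ⟨1, hf1 i⟩
  letI : DirectSum.Decomposition (Groth.Agent.Lib.Helper29GrQuot.quotGr 𝒜 J) :=
    Groth.Agent.Lib.Helper29GrQuot.quotDecomposition 𝒜 J hJhom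
  letI : SetLike.GradedSMul 𝒜 (Groth.Agent.Lib.Helper29GrQuot.quotGr 𝒜 J) :=
    Groth.Agent.Lib.Helper29GrQuot.quot_gradedSMul 𝒜 J 𝒜
  have hmk : GrLC.IsGrHom 𝒜 (Groth.Agent.Lib.Helper29GrQuot.quotGr 𝒜 J) J.mkQ :=
    fun k r hr => ⟨r, hr, rfl⟩
  have hkermk : LinearMap.ker J.mkQ = Ideal.span (Set.range f) := J.ker_mkQ
  have h1 := hH (R ⧸ J) (Groth.Agent.Lib.Helper29GrQuot.quotGr 𝒜 J) J.mkQ hmk J.mkQ_surjective
    hkermk 1
  rw [hhilb] at h1
  have h2 := Groth.Agent.Lib.Seat67.LinSeq.iterate_D_mc L d 0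
  rw [zero_add] at h2
  rw [h2, Groth.Agent.Lib.Seat67.LinSeq.mc_zero_one] at h1
  have hbot : GrLC.comp 𝒜 (Groth.Agent.Lib.Helper29GrQuot.quotGr 𝒜 J) 1 = ⊥ := by
    unfold Groth.Agent.Lib.Seat86.GrSerreB.hilb at h1
    have h3 : (Module.length (GrLC.deg0 𝒜)
        (GrLC.comp 𝒜 (Groth.Agent.Lib.Helper29GrQuot.quotGr 𝒜 J) 1)).toNat = 0 := by
      exact_mod_cast h1
    have h4 := Groth.Agent.Lib.Seat86.GrLen.length_comp_ne_top 𝒜
      (Groth.Agent.Lib.Helper29GrQuot.quotGr 𝒜 J) (1 : ℤ)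
    rw [ENat.toNat_eq_zero] at h3
    rcases h3 with h3 | h3
    · rw [Module.length_eq_zero_iff] at h3
      exact Submodule.subsingleton_iff_eq_bot.1 h3
    · exact absurd h3 h4
  have hsub : ∀ r ∈ 𝒜 1, r ∈ Ideal.span (Set.range f) := by
    intro r hr
    have h3 : J.mkQ r ∈ GrLC.comp 𝒜 (Groth.Agent.Lib.Helper29GrQuot.quotGr 𝒜 J) 1 :=
      hmk 1 r hr
    rw [hbot] at h3
    have h4 : J.mkQ r = 0 := (Submodule.mem_bot _).1 h3
    rw [← hkermk]
    exact h4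
  have hspan : GrLC.comp 𝒜 𝒜 1 ≤ Submodule.span (GrLC.deg0 𝒜) (Set.range f) := by
    intro r hr
    exact Groth.Agent.Lib.Seat67.PolyArt.mem_span_of_mem_ideal_span (GrLC.comp 𝒜 𝒜) h0' f hf1 hr
      (hsub r hr)
  have hbij := Groth.Agent.Lib.Seat67.PolyArt.aeval_bijective_of_length (GrLC.comp 𝒜 𝒜) hpos' h0'
    hstd' f hf1 hspan hlen hLtop
  refine ⟨AlgEquiv.ofBijective (MvPolynomial.aeval f) hbij, fun t => ?_⟩
  show MvPolynomial.aeval f (MvPolynomial.X t) ∈ 𝒜 1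
  rw [MvPolynomial.aeval_X]
  exact hf1 t

end Groth.Agent.S19881
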