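import Groth.Statements.S1990
import Groth.Agent.Lib.Seat10ValDomD

set_option autoImplicit false
universe u
open EtAlg

namespace Groth.Agent.S1990

open Groth.Agent.Lib.Seat10.ValDom IsLocalRing

/-- Let K be the fraction field of a discrete valuation ring A, and K ⊂ L ⊂ M finite separable
extensions. If L/K is tamely ramified (resp. unramified) with respect to A and M/L is tamely
ramified (resp. unramified) with respect to every valuation subring of L dominating A, then M/K is
tamely ramified (resp. unramified) with respect to A. -/
theorem result (A K : Type u) [CommRing A] [IsDomain A] [IsDiscreteValuationRing A] [Field K] [Algebra A K] [IsFractionRing A K] (L M : Type u) [Field L] [Field M]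
    [Algebra K L] [Algebra K M] [Algebra L M] [IsScalarTower K L M] [FiniteDimensional K M] [Algebra.IsSeparable K M] :
    (EtRam.IsTamelyRamified A ((algebraMap K L).comp (algebraMap A K)) →
      (∀ (V : ValuationSubring L), EtRam.Dominates A ((algebraMap K L).comp (algebraMap A K)) V →
        EtRam.IsTamelyRamified V ((algebraMap L M).comp V.subtype)) →
      EtRam.IsTamelyRamified A ((algebraMap K M).comp (algebraMap A K))) ∧
    (EtRam.IsUnramifiedExt A ((algebraMap K L).comp (algebraMap A K)) →
      (∀ (V : ValuationSubring L), EtRam.Dominates A ((algebraMap K L).comp (algebraMap A K)) V →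
        EtRam.IsUnramifiedExt V ((algebraMap L M).comp V.subtype)) →
      EtRam.IsUnramifiedExt A ((algebraMap K M).comp (algebraMap A K))) := by
  have hfg : (algebraMap L M).comp ((algebraMap K L).comp (algebraMap A K)) =
      (algebraMap K M).comp (algebraMap A K) := by
    ext a
    simp only [RingHom.comp_apply]
    rw [← IsScalarTower.algebraMap_apply K L M]
  have hfinL : FiniteDimensional K L := FiniteDimensional.left K L M
  have hsepL : Algebra.IsSeparable K L := Algebra.isSeparable_tower_bot_of_isSeparable K L M
  -- the common construction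
  have key : ∀ (W : ValuationSubring M)
      (hW : EtRam.Dominates A ((algebraMap K M).comp (algebraMap A K)) W),
      ∃ (V : ValuationSubring L)
        (hV : EtRam.Dominates A ((algebraMap K L).comp (algebraMap A K)) V)
        (hVW : EtRam.Dominates V ((algebraMap L M).comp V.subtype) W),
        letI : Algebra A V := (RingHom.codRestrict _ V hV.1).toAlgebra
        letI : Algebra A W := (RingHom.codRestrict _ W hW.1).toAlgebra
        letI : Algebra V W := (RingHom.codRestrict _ W hVW.1).toAlgebra
        IsLocalHom (algebraMap A V) ∧ IsLocalHom (algebraMap V W) ∧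
        ∀ [IsLocalHom (algebraMap A W)] [IsLocalHom (algebraMap A V)] [IsLocalHom (algebraMap V W)],
        (Algebra.IsSeparable (ResidueField A) (ResidueField V) →
          Algebra.IsSeparable (ResidueField V) (ResidueField W) →
          Algebra.IsSeparable (ResidueField A) (ResidueField W)) ∧
        (Ideal.ramificationIdx' (maximalIdeal A) (maximalIdeal W) =
          Ideal.ramificationIdx' (maximalIdeal A) (maximalIdeal V) *
          Ideal.ramificationIdx' (maximalIdeal V) (maximalIdeal W)) ∧
        (EtRam.IsWeaklyUnramified A V → EtRam.IsWeaklyUnramified V W →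
          EtRam.IsWeaklyUnramified A W) ∧
        (∀ p : ℕ, CharP (ResidueField A) p → CharP (ResidueField V) p) := by
    intro W hW
    have hV : EtRam.Dominates A ((algebraMap K L).comp (algebraMap A K))
        (W.comap (algebraMap L M)) := by
      rw [← dominates_comp_iff, hfg]
      exact hW
    have hVW : EtRam.Dominates (W.comap (algebraMap L M))
        ((algebraMap L M).comp (W.comap (algebraMap L M)).subtype) W := by
      refine ⟨fun v => v.2, fun v hv => ?_⟩
      rw [ValuationSubring.valuation_lt_one_iff, valuation_comap_lt_one_iff] at hv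
      exact hv
    refine ⟨W.comap (algebraMap L M), hV, hVW, ?_⟩
    set V := W.comap (algebraMap L M) with hVdef
    let algAV : Algebra A V := (RingHom.codRestrict _ V hV.1).toAlgebra
    let algAW : Algebra A W := (RingHom.codRestrict _ W hW.1).toAlgebra
    let algVW : Algebra V W := (RingHom.codRestrict _ W hVW.1).toAlgebra
    have htower : IsScalarTower A V W := by
      refine IsScalarTower.of_algebraMap_eq (fun a => Subtype.ext ?_)
      exact (RingHom.congr_fun hfg a).symm
    have hlocAV : IsLocalHom (algebraMap A V) := isLocalHom_toVal hV
    have hlocVW : IsLocalHom (algebraMap V W) := isLocalHom_toVal hVW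
    have hdvrV : IsDiscreteValuationRing V := isDiscreteValuationRing_of_dominates A K V hV
    have hdvrW : IsDiscreteValuationRing W := isDiscreteValuationRing_of_dominates A K W hW
    refine ⟨hlocAV, hlocVW, ?_⟩
    intro hlocAW _ _
    refine ⟨fun h1 h2 => isSeparable_residueField_trans (A := A) (V := V) (W := W) h1 h2,
      ?_, ?_, ?_⟩
    · have hgL : Function.Injective ((algebraMap K L).comp (algebraMap A K)) :=
        (algebraMap K L).injective.comp (IsFractionRing.injective A K)
      have hinjAV : Function.Injective (algebraMap A V) := toVal_injective hV hgL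
      have hinjVW : Function.Injective (algebraMap V W) :=
        toVal_injective hVW ((algebraMap L M).injective.comp Subtype.val_injective)
      exact ramificationIdx'_tower (A := A) (V := V) (W := W) hinjAV hinjVW
    · intro h1 h2
      unfold EtRam.IsWeaklyUnramified at h1 h2 ⊢
      rw [IsScalarTower.algebraMap_eq A V W, ← Ideal.map_map, h1, h2]
    · intro p hp
      exact charP_of_injective_algebraMap (algebraMap (ResidueField A) (ResidueField V)).injective p
  constructor
  · intro hL hML W hW hloc
    obtain ⟨V, hV, hVW, hlocAV, hlocVW, hkey⟩ := key W hW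
    obtain ⟨hsepV, hpV⟩ := @hL V hV hlocAV
    obtain ⟨hsepW, hpW⟩ := @hML V hV W hVW hlocVW
    obtain ⟨k1, k2, -, k4⟩ := @hkey hloc hlocAV hlocVW
    refine ⟨k1 hsepV hsepW, fun p hp hchar hdvd => ?_⟩
    rw [k2, hp.dvd_mul] at hdvd
    rcases hdvd with hd | hd
    · exact hpV p hp hchar hd
    · exact hpW p hp (k4 p hchar) hd
  · intro hL hML W hW hloc
    obtain ⟨V, hV, hVW, hlocAV, hlocVW, hkey⟩ := key W hW
    obtain ⟨hwV, hsepV⟩ := @hL V hV hlocAV
    obtain ⟨hwW, hsepW⟩ := @hML V hV W hVW hlocVW
    obtain ⟨k1, -, k3, -⟩ := @hkey hloc hlocAV hlocVW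
    exact ⟨k3 hwV hwW, k1 hsepV hsepW⟩

end Groth.Agent.S1990
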