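import Groth.Statements.S19901
import Groth.Agent.Lib.Seat47LciSmLocal
import Groth.Agent.Lib.Helper15GoodComp
import Groth.Agent.Lib.Seat59LocQFlat

set_option autoImplicit false
universe u
open CategoryTheory AlgebraicGeometry
open AlgSt

namespace Groth.Agent.S19901

/-- Let f : 𝒳 → 𝒴, q : 𝒴 → 𝒵 and p : 𝒳 → 𝒵 be morphisms of algebraic stacks forming a 2-commutative
triangle (a 2-isomorphism between q ∘ f and p is given). If q is smooth and p is a local complete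
intersection morphism (Koszul), then f is a local complete intersection morphism. Smooth and local
complete intersection morphisms of algebraic stacks are read on one square of smooth scheme charts. -/
theorem result
    (S : Scheme.{u}) (𝒳 : AlgSt.Cat S) (𝒴 : AlgSt.Cat S) (𝒵 : AlgSt.Cat S)
    (h𝒳 : AlgSt.IsAlgStack Scheme.fppfPrecoverage 𝒳)
    (h𝒴 : AlgSt.IsAlgStack Scheme.fppfPrecoverage 𝒴)
    (h𝒵 : AlgSt.IsAlgStack Scheme.fppfPrecoverage 𝒵)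
    (f : 𝒳 ⥤ᵇ 𝒴) (q : 𝒴 ⥤ᵇ 𝒵) (p : 𝒳 ⥤ᵇ 𝒵) (e : BasedFunctor.comp f q ≅ p)
    (hq : AlgSt.LocQ (AlgSp.LocP @Smooth) q) (hp : AlgSt.LocQ AlgSp.IsLCIMor p) :
    AlgSt.LocQ AlgSp.IsLCIMor f := by
  open Groth.Agent.Lib.Helper15GoodComp Groth.Agent.Lib.Helper15LocQEngine
    Groth.Agent.Lib.Helper15LocQProps in
  have hfq : AlgSt.LocQ AlgSp.IsLCIMor (BasedFunctor.comp f q) :=
    Groth.Agent.Lib.Seat59.LocQFlat.locQ_of_iso _ e.symm hp
  obtain ⟨U, V, W, x, y, z, h, k, α, β, hx₁, hx₂, hy₁, hy₂, hz₁, hz₂, hα₁, hα₂, hβ₁, hβ₂, hγ⟩ :=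
    exists_good_squares h𝒳 h𝒴 h𝒵 f q
  have hP : AlgSp.IsLCIMor ((AlgSp.yon S).map (h ≫ k)) :=
    (locQ_iff_forall_good _ Groth.Agent.Lib.Seat47.LciSmLocal.isSmoothLocalST_isLCIMor h𝒳 h𝒵
      (BasedFunctor.comp f q)).1 hfq U W x z (h ≫ k) _ hx₁ hz₁ hγ
  have hPk : AlgSp.LocP @Smooth ((AlgSp.yon S).map k) :=
    (locQ_iff_forall_good _ isSmoothLocalST_smooth h𝒴 h𝒵 q).1 hq V W y z k β hy₁ hz₁ hβ₁
  rw [Functor.map_comp] at hP
  exact ⟨U, V, x, y, h, α, hx₁, hx₂, hy₁,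
    Groth.Agent.Lib.Seat47.LciSp.isLCIMor_of_comp_smooth (AlgSp.IsAlgSpace.yon_obj W)
      ((AlgSp.yon S).map h) ((AlgSp.yon S).map k) hPk hP⟩

end Groth.Agent.S19901
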