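import Groth.Statements.S19917
import Groth.Agent.Lib.Seat73TameA
import Groth.Agent.Lib.Seat73TameB
import Groth.Agent.Lib.Seat73TameC

set_option autoImplicit false
universe u
open CategoryTheory CategoryTheory.Limits AlgebraicGeometry MonObj
open SGA7

namespace Groth.Agent.S19917

/-- Let R be a discrete valuation ring with fraction field K and residue field k, Ω a separable closure
of K and W a valuation subring of Ω lying over R. Assume that every K-automorphism of Ω belongs to
the inertia group at W, i.e. K coincides with its maximal extension inside Ω at which the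
restriction of W is unramified over R. Let r ≥ 1 be an integer whose image in k is non-zero. Then
there is exactly one intermediate field L of Ω over K with [L : K] = r and L Galois over K; moreover
every such L is totally (and tamely) ramified over R: every maximal ideal of the integral closure of
R in L has ramification index r over R. -/
theorem result (R K Ω : Type u) [CommRing R] [IsDomain R]
    [IsDiscreteValuationRing R] [Field K] [Algebra R K] [IsFractionRing R K] [Field Ω] [Algebra K Ω]
    [IsSepClosure K Ω] [Algebra R Ω] [IsScalarTower R K Ω]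
    (W : ValuationSubring Ω) (hW : SGA7.LiesOver K R W)
    (hI : ∀ σ : Ω ≃ₐ[K] Ω, SGA7.IsInertia W σ)
    (r : ℕ) (hr : 0 < r) (hrk : (r : IsLocalRing.ResidueField R) ≠ 0) :
    (∃! L : IntermediateField K Ω, Module.finrank K L = r ∧ IsGalois K L) ∧
      ∀ L : IntermediateField K Ω, Module.finrank K L = r → IsGalois K L →
        ∀ P : Ideal (integralClosure R L), P.IsMaximal → P.ramificationIdx R = r := by
  classical
  open IntermediateField Groth.Agent.Lib.Seat73.TameA Groth.Agent.Lib.Seat73.TameB
    Groth.Agent.Lib.Seat73.TameC in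
  have hW1 : ∀ a : R, algebraMap R Ω a ∈ W := by
    intro a
    rw [IsScalarTower.algebraMap_apply R K Ω]
    exact hW.1 a
  have hW2 : ∀ a ∈ IsLocalRing.maximalIdeal R, W.valuation (algebraMap R Ω a) < 1 := by
    intro a ha
    rw [IsScalarTower.algebraMap_apply R K Ω]
    exact hW.2 a ha
  have hI' : ∀ (σ : Ω ≃ₐ[K] Ω) (x : Ω), x ∈ W → σ x ∈ W ∧ W.valuation (σ x - x) < 1 :=
    fun σ x hx => hI σ x hx
  obtain ⟨π, hπ⟩ := IsDiscreteValuationRing.exists_irreducible R
  have hrW : W.valuation ((r : ℕ) : Ω) = 1 := val_natCast W hW1 hrk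
  have hsc : IsSepClosed Ω := IsSepClosure.sep_closed K
  have hne : NeZero ((r : ℕ) : Ω) := ⟨by
    intro h
    rw [h, map_zero] at hrW
    exact zero_ne_one hrW⟩
  obtain ⟨α, hα⟩ := IsSepClosed.exists_pow_nat_eq (algebraMap R Ω π) r
  have hμ : ∀ ζ : Ω, ζ ^ r = 1 → ζ ∈ Set.range (algebraMap K Ω) :=
    fun ζ h => root_of_unity_mem W hI' hr.ne' hrW h
  -- every Galois subextension of degree `r` is `K(α)`
  have huniq : ∀ L : IntermediateField K Ω, Module.finrank K L = r → IsGalois K L →
      L = K⟮α⟯ := by
    intro L hL hgal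
    have hfd : FiniteDimensional K L := Module.finite_of_finrank_pos (hL ▸ hr)
    obtain ⟨β, hβ⟩ := exists_root (L := L) (W := W) hW1 hW2 hI' (by rw [hL]; exact hrk) hπ
    rw [hL] at hβ
    have hβ' : (β : Ω) ^ r = algebraMap R Ω π := by
      have h := congrArg (fun z : L => (z : Ω)) hβ
      have h2 : ((algebraMap R L π : L) : Ω) = algebraMap R Ω π := rfl
      rw [← h2, ← h]
      simp
    rw [← adjoin_root_eq hπ hr hμ hα hβ']
    symm
    refine IntermediateField.eq_of_le_of_finrank_eq ?_ ?_
    · rw [IntermediateField.adjoin_simple_le_iff]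
      exact β.2
    · rw [finrank_adjoin_root hπ hr hβ', hL]
  refine ⟨⟨K⟮α⟯, ⟨finrank_adjoin_root hπ hr hα, isGalois_adjoin_root hπ hr hμ hα⟩,
    fun L hL => huniq L hL.1 hL.2⟩, ?_⟩
  intro L hL hgal P hP
  have hfd : FiniteDimensional K L := Module.finite_of_finrank_pos (hL ▸ hr)
  rw [ramificationIdx_eq_finrank (L := L) (W := W) hW1 hW2 hI' (by rw [hL]; exact hrk) P, hL]

end Groth.Agent.S19917
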