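import Groth.Statements.S19994
import Groth.Agent.Lib.Seat73WildFin
import Groth.Agent.Lib.Seat73FlatSplit
import Groth.Agent.Lib.Helper28RegDescent
import Groth.Agent.Lib.Helper5RLR

set_option autoImplicit false
universe u v w
open WildQuot

namespace Groth.Agent.S19994

/-- Let `A` be a complete regular local ring of Krull dimension at least `2` and prime characteristic
`p`, with maximal ideal `m`; let `k` be a field with a ring map `k → A` whose composite with `A →
A/m` is onto; let `G` be a group of order `p` acting on `A` by ring automorphisms fixing the image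
of `k` and ramified precisely at the origin (for every prime `P ≠ m`, the inertia subgroup of `P`,
i.e. the elements of `G` fixing every element modulo `P`, is trivial). Then the singular locus of
`Spec A^G` is contained in the closed point: for every non-maximal prime ideal `P` of the invariant
ring `A^G`, the localization `(A^G)_P` is a regular local ring. (The published statement also
asserts that the punctured spectrum of `A` is a `G`-torsor over the punctured spectrum of `A^G`;
this row omits that clause. Together with the non-regularity of `A^G` itself, the singular locus is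
exactly the closed point.) -/
theorem result
    (p : ℕ) [Fact p.Prime] (A : Type u) [CommRing A] [IsRegularLocalRing A] [CharP A p]
    [IsAdicComplete (IsLocalRing.maximalIdeal A) A] (hdim : 2 ≤ ringKrullDim A)
    (k : Type v) [Field k] [Algebra k A]
    (hk : Function.Surjective (IsLocalRing.residue A ∘ algebraMap k A))
    (G : Type w) [Group G] [Finite G] [MulSemiringAction G A] (hcard : Nat.card G = p)
    (hGk : ∀ (σ : G) (c : k), σ • algebraMap k A c = algebraMap k A c)
    (hram : ∀ P : Ideal A, P.IsPrime → P ≠ IsLocalRing.maximalIdeal A → P.inertia G = ⊥)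
    (P : Ideal (FixedPoints.subring A G)) [P.IsPrime] (hP : ¬ P.IsMaximal) :
    IsRegularLocalRing (Localization.AtPrime P) := by
  classical
  have _ft : Fintype G := Fintype.ofFinite G
  have hp : p.Prime := Fact.out
  have hG : IsPGroup p G := IsPGroup.of_card (n := 1) (by rw [hcard, pow_one])
  have hfin := Groth.Agent.Lib.Seat73.WildFin.finite_fixedPoints p A k hk G hG hGk
  have hnoeth := Groth.Agent.Lib.Seat73.WildFin.isNoetherianRing_fixedPoints p A k hk G hG hGk
  have hint : Algebra.IsIntegral (FixedPoints.subring A G) A := inferInstance
  -- a prime of `A` over `P`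
  obtain ⟨Q, -, hQprime, hQP⟩ := Ideal.exists_ideal_over_prime_of_isIntegral P (⊥ : Ideal A) (by
    intro x hx
    rw [Ideal.mem_comap, Ideal.mem_bot] at hx
    have : x = 0 := Subtype.ext hx
    rw [this]
    exact zero_mem _)
  have hQm : Q ≠ IsLocalRing.maximalIdeal A := by
    intro h
    apply hP
    rw [← hQP, h]
    exact Ideal.isMaximal_comap_of_isIntegral_of_isMaximal _
  -- the Galois identity at `Q`
  obtain ⟨f, hfinv, hfQ, l, hl⟩ := Groth.Agent.Lib.Seat73.GalId.exists_identity (G := G) Q
    (fun τ σ hσ => by
      have hpr := Ideal.comap_isPrime (MulSemiringAction.toRingHom G A τ) Q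
      have hne := Groth.Agent.Lib.Seat73.PurityFree.comap_ne_maximalIdeal τ Q hQm
      have hI := hram _ hpr hne
      by_contra hall
      push Not at hall
      have hσI : σ ∈ (Ideal.comap (MulSemiringAction.toRingHom G A τ) Q).inertia G := by
        intro a
        exact hall a
      rw [hI, Subgroup.mem_bot] at hσI
      exact hσ hσI)
  -- flatness of `A_Q` over the invariants
  let α : A →ₗ[FixedPoints.subring A G] (Fin l.length → FixedPoints.subring A G) :=
    LinearMap.pi fun j => (Groth.Agent.Lib.Seat73.PurityFree.trL A G).comp
      (LinearMap.mulLeft (FixedPoints.subring A G) (l[j.1]).2)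
  let β : (Fin l.length → FixedPoints.subring A G) →ₗ[FixedPoints.subring A G] A :=
    Fintype.linearCombination (FixedPoints.subring A G) (fun j : Fin l.length => (l[j.1]).1)
  have hβα : ∀ a : A, β (α a) = (⟨f, hfinv⟩ : FixedPoints.subring A G) • a := by
    intro a
    have h1 := Groth.Agent.Lib.Seat73.PurityFree.identity_apply f l hl a
    change ∑ j : Fin l.length,
      (Groth.Agent.Lib.Seat73.PurityFree.trL A G ((l[j.1]).2 * a)) • (l[j.1]).1 = f * a
    rw [h1]
    exact Fin.sum_univ_fun_getElem l
      (fun q : A × A => (Groth.Agent.Lib.Seat73.PurityFree.trL A G (q.2 * a)) • q.1)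
  have hfsurj : ∀ m : Localization.AtPrime Q, ∃ m' : Localization.AtPrime Q,
      (⟨f, hfinv⟩ : FixedPoints.subring A G) • m' = m := by
    intro m
    have hu : IsUnit (algebraMap A (Localization.AtPrime Q) f) :=
      IsLocalization.map_units (Localization.AtPrime Q) (⟨f, hfQ⟩ : Q.primeCompl)
    obtain ⟨u, hu'⟩ := hu
    refine ⟨(↑u⁻¹ : Localization.AtPrime Q) * m, ?_⟩
    rw [Algebra.smul_def, IsScalarTower.algebraMap_apply (FixedPoints.subring A G) A
      (Localization.AtPrime Q)]
    change algebraMap A (Localization.AtPrime Q) f * _ = m
    rw [← hu', ← mul_assoc, Units.mul_inv, one_mul]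
  have hflat : Module.Flat (FixedPoints.subring A G) (Localization.AtPrime Q) :=
    Groth.Agent.Lib.Seat73.FlatSplit.flat_of_factor α β ⟨f, hfinv⟩ hβα hfsurj
  -- regularity
  have hregQ : IsRegularLocalRing (Localization.AtPrime Q) :=
    Groth.Agent.Lib.Helper28.isRegularLocalRing_localization_of_isRegularLocalRing A Q
  have hreg2 : IsRegularLocalRing (Localization.AtPrime
      (IsLocalRing.maximalIdeal (Localization.AtPrime Q))) :=
    Groth.Agent.Lib.Helper28.isRegularLocalRing_localization_of_isRegularLocalRing _ _
  have hmain := Groth.Agent.Lib.Helper28.isRegularLocalRing_localization_comap_of_flat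
    (R := FixedPoints.subring A G) (S := Localization.AtPrime Q)
    (IsLocalRing.maximalIdeal (Localization.AtPrime Q))
  have hcomap : (IsLocalRing.maximalIdeal (Localization.AtPrime Q)).comap
      (algebraMap (FixedPoints.subring A G) (Localization.AtPrime Q)) = P := by
    have h2 : Ideal.comap (algebraMap A (Localization.AtPrime Q))
        (IsLocalRing.maximalIdeal (Localization.AtPrime Q)) = Q :=
      IsLocalization.AtPrime.under_maximalIdeal (Localization.AtPrime Q) Q
    rw [IsScalarTower.algebraMap_eq (FixedPoints.subring A G) A (Localization.AtPrime Q),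
      ← Ideal.comap_comap, h2]
    exact hQP
  exact (Groth.Agent.Lib.Helper28.isRegularLocalRing_congr_ideal hcomap).mp hmain

end Groth.Agent.S19994
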