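import Groth.Statements.S19997
import Groth.Agent.Lib.Seat99ASInv
import Mathlib.RingTheory.MvPolynomial.Basic
import Mathlib.Algebra.CharP.Lemmas

set_option autoImplicit false
universe u
open WildQuot

namespace Groth.Agent.S19997

open MvPolynomial in
/-- Let `k` be a field of characteristic `p > 0`, `n ≥ 2`, `R = k[[x_1, …, x_n]]`, `a_1, …, a_n ∈ R`
with zero constant term and pairwise coprime, `μ ∈ R` nonzero and coprime to each `a_i`, `A = R[u_1,
…, u_n] / (u_i ^ p - (μ a_i) ^ (p-1) u_i - x_i : i = 1..n)`, and `σ` the `R`-algebra automorphism of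
`A` with `σ u_i = u_i + μ a_i` for every `i` (it generates a group `G` of order `p`). Fix an index
`i₀` and let `A_ci ⊆ A` be the `R`-subalgebra generated by the minor elements `z_j = a_{i₀} u_j -
a_j u_{i₀}`, `j ≠ i₀` (these are `σ`-invariant). Then `A_ci[1/(μ a_{i₀})] = A^G[1/(μ a_{i₀})]`: for
every `σ`-invariant `t ∈ A` some power `(μ a_{i₀}) ^ N t` lies in `A_ci`. (The published statement
uses the first index for `i₀`.) -/
theorem result
    (p : ℕ) [Fact p.Prime] (k : Type u) [Field k] [CharP k p] (n : ℕ) (hn : 2 ≤ n)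
    (a : Fin n → MvPowerSeries (Fin n) k) (μ : MvPowerSeries (Fin n) k)
    (ham : ∀ i, MvPowerSeries.constantCoeff (a i) = 0) (hcop : ∀ i j, i ≠ j → IsRelPrime (a i) (a j))
    (hμ : μ ≠ 0) (hμa : ∀ i, IsRelPrime μ (a i)) (i₀ : Fin n) :
    let R := MvPowerSeries (Fin n) k
    let I : Ideal (MvPolynomial (Fin n) R) :=
      Ideal.span (Set.range fun i : Fin n =>
        X i ^ p - C ((μ * a i) ^ (p - 1)) * X i - C (MvPowerSeries.X i))
    let A := MvPolynomial (Fin n) R ⧸ I
    let u : Fin n → A := fun i => Ideal.Quotient.mk I (X i)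
    let z : {j : Fin n // j ≠ i₀} → A := fun j =>
      algebraMap R A (a i₀) * u j.1 - algebraMap R A (a j.1) * u i₀
    ∀ σ : A ≃ₐ[R] A, (∀ i, σ (u i) = u i + algebraMap R A (μ * a i)) →
      ∀ t : A, σ t = t →
        ∃ N : ℕ, algebraMap R A (μ * a i₀) ^ N * t ∈ Algebra.adjoin R (Set.range z) := by
  intro R I A u z σ hσ t ht
  have hp : p.Prime := Fact.out
  have hunit : ∀ i : ℕ, 0 < i → i < p → IsUnit ((i : ℕ) : A) := by
    intro i hi0 hip
    have h1 : ((i : ℕ) : k) ≠ 0 := by
      rw [Ne, CharP.cast_eq_zero_iff k p]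
      exact Nat.not_dvd_of_pos_of_lt hi0 hip
    have h2 : IsUnit ((i : ℕ) : k) := isUnit_iff_ne_zero.mpr h1
    have h3 : IsUnit ((i : ℕ) : R) := by
      have := h2.map (MvPowerSeries.C (σ := Fin n) (R := k))
      rwa [map_natCast] at this
    have := h3.map (algebraMap R A)
    rwa [map_natCast] at this
  have hgen : Algebra.adjoin R (Set.range u) = ⊤ := by
    have h1 : Algebra.adjoin R (Set.range (X : Fin n → MvPolynomial (Fin n) R)) = ⊤ :=
      MvPolynomial.adjoin_range_X
    have h2 : Set.range u = (Ideal.Quotient.mkₐ R I) '' Set.range (X : Fin n → MvPolynomial (Fin n) R) := by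
      rw [← Set.range_comp]; rfl
    rw [h2, ← AlgHom.map_adjoin, h1, Algebra.map_top, AlgHom.range_eq_top]
    exact Ideal.Quotient.mkₐ_surjective R I
  have hrel : u i₀ ^ p = algebraMap R A ((μ * a i₀) ^ (p - 1)) * u i₀ +
      algebraMap R A (MvPowerSeries.X i₀) := by
    have hmem : X i₀ ^ p - C ((μ * a i₀) ^ (p - 1)) * X i₀ - C (MvPowerSeries.X i₀) ∈ I :=
      Ideal.subset_span ⟨i₀, rfl⟩
    have := Ideal.Quotient.eq_zero_iff_mem.mpr hmem
    rw [map_sub, map_sub, sub_sub, sub_eq_zero, map_pow, map_mul] at this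
    exact this
  exact Groth.Agent.Lib.Seat99.ASInv.exists_pow_mul_mem_adjoin (u := u) (a := a) (μ := μ)
    (i₀ := i₀) hp hunit hgen (MvPowerSeries.X i₀) hrel σ hσ t ht

end Groth.Agent.S19997
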