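import Groth.Statements.S19998
import Groth.Agent.Lib.Seat73ASFixedIdeal
-- import your own Groth.Agent.* helpers here

set_option autoImplicit false
universe u
open WildQuot

namespace Groth.Agent.S19998

open MvPolynomial in
/-- Let `k` be a field of characteristic `p > 0`, `n ≥ 2`, `R = k[[x_1, …, x_n]]`, `a_1, …, a_n ∈ R`
with zero constant term, `A = R[u_1, …, u_n] / (u_i ^ p - a_i ^ (p-1) u_i - x_i : i = 1..n)`, and
`σ` the `R`-algebra automorphism of `A` with `σ u_i = u_i + a_i` for every `i` (when some `a_i` is
non-zero it generates a group `G` of order `p`). Let `I ⊆ A` be the ideal generated by the elements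
`σ t - t`, `t ∈ A`, which defines the fixed-point scheme of `G`. Then `I ⊆ (u_1, …, u_n) ^ p` (the
`p`-th power of the maximal ideal of `A`), and the length of `A / I` over `A` equals `p ^ n` times
the length of `R / (a_1, …, a_n)` over `R`; in particular it is a multiple of `p ^ n`. (The
published statement is for an arbitrary moderately ramified action, which has this normal form with
`a_1, …, a_n` a system of parameters of `R`, and records only divisibility by `p ^ n`; here the
`a_i` are arbitrary non-units, both lengths being infinite when `(a_1, …, a_n)` is not primary to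
the maximal ideal of `R`.) -/
theorem result
    (p : ℕ) [Fact p.Prime] (k : Type u) [Field k] [CharP k p] (n : ℕ) (hn : 2 ≤ n)
    (a : Fin n → MvPowerSeries (Fin n) k)
    (ham : ∀ i, MvPowerSeries.constantCoeff (a i) = 0) :
    let R := MvPowerSeries (Fin n) k
    let I : Ideal (MvPolynomial (Fin n) R) :=
      Ideal.span (Set.range fun i : Fin n =>
        X i ^ p - C (a i ^ (p - 1)) * X i - C (MvPowerSeries.X i))
    let A := MvPolynomial (Fin n) R ⧸ I
    let u : Fin n → A := fun i => Ideal.Quotient.mk I (X i)
    ∀ σ : A ≃ₐ[R] A, (∀ i, σ (u i) = u i + algebraMap R A (a i)) →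
      Ideal.span (Set.range fun t : A => σ t - t) ≤ Ideal.span (Set.range u) ^ p ∧
        Module.length A (A ⧸ Ideal.span (Set.range fun t : A => σ t - t)) =
          (p ^ n : ℕ∞) * Module.length R (R ⧸ Ideal.span (Set.range a)) := by
  intro R I A u σ hσ
  open Groth.Agent.Lib.Seat73.ArtinSchreier Groth.Agent.Lib.Seat73.ASFixedIdeal in
  have hp : 2 ≤ p := (Fact.out : p.Prime).two_le
  have ha : ∀ i, a i ∈ IsLocalRing.maximalIdeal (MvPowerSeries (Fin n) k) := fun i =>
    (mem_maximalIdeal_iff_constantCoeff k n (a i)).2 (ham i)
  have hx := X_mem_maximalIdeal k n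
  have hspan := maximalIdeal_le_span_X k n
  have _loc : IsLocalRing (MvPolynomial (Fin n) (MvPowerSeries (Fin n) k) ⧸
      asIdeal p n a MvPowerSeries.X) := isLocalRing p n a MvPowerSeries.X hp ha hx hspan
  have hkR : Function.Surjective (IsLocalRing.residue (MvPowerSeries (Fin n) k) ∘
      algebraMap k (MvPowerSeries (Fin n) k)) := by
    intro y
    obtain ⟨r, rfl⟩ := IsLocalRing.residue_surjective y
    refine ⟨MvPowerSeries.constantCoeff r, ?_⟩
    rw [Function.comp_apply, ← sub_eq_zero, ← map_sub, IsLocalRing.residue_eq_zero_iff,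
      mem_maximalIdeal_iff_constantCoeff, map_sub, MvPowerSeries.algebraMap_apply,
      MvPowerSeries.constantCoeff_C]
    simp
  have hI := span_range_sub_eq p n a MvPowerSeries.X σ hσ
  have hcongr : ∀ J J' : Ideal A, J = J' → Module.length A (A ⧸ J) = Module.length A (A ⧸ J') := by
    rintro J J' rfl; rfl
  refine ⟨?_, ?_⟩
  · rw [hI]
    exact map_span_le_pow p n a MvPowerSeries.X hp ha hx hspan
  · rw [hcongr _ _ hI]
    exact length_quot_map_span p n a MvPowerSeries.X hp ha hx hspan hkR _

end Groth.Agent.S19998
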