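import Groth.Statements.S2013
import Groth.Agent.Lib.Seat10PrincRadE

set_option autoImplicit false
universe u
open EtAlg

namespace Groth.Agent.S2013

/-- Let R be a catenary Noetherian local normal domain and J a nonzero radical ideal of R. Then J
contains a nonzero element f such that R/fR is reduced. (The source does not say 'nonzero ideal' but
its conclusion requires it.) -/
theorem result (R : Type u) [CommRing R] [IsDomain R] [IsNoetherianRing R]
    [IsLocalRing R] [IsIntegrallyClosed R] (hc : CAlg.IsCatenary R) (J : Ideal R) (hJ : J.IsRadical) (hJ0 : J ≠ ⊥) :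
    ∃ f ∈ J, f ≠ 0 ∧ IsReduced (R ⧸ Ideal.span {f}) := by
  classical
  by_cases hht : 1 < (IsLocalRing.maximalIdeal R).height
  · obtain ⟨x₀, hx₀J, hx₀0⟩ := Submodule.exists_mem_ne_zero_of_ne_bot hJ0
    have hfin : (Ideal.span {x₀}).minimalPrimes.Finite :=
      Ideal.finite_minimalPrimes_of_isNoetherianRing R _
    obtain ⟨f, hf0, hfs, hrad⟩ :=
      Groth.Agent.Lib.Seat10.PrincRad.exists_of_catenary hc hht hfin.toFinset
        (fun q hq => ⟨(hfin.mem_toFinset.mp hq).1.1,
          Groth.Agent.Lib.Seat10.PrincRad.height_eq_one_of_mem_minimalPrimes hx₀0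
            (hfin.mem_toFinset.mp hq)⟩)
    refine ⟨f, ?_, hf0, (Ideal.isRadical_iff_quotient_reduced _).mp hrad⟩
    have hfrad : f ∈ (Ideal.span {x₀}).radical := by
      rw [← Ideal.sInf_minimalPrimes, Ideal.mem_sInf]
      intro q hq
      exact hfs q (hfin.mem_toFinset.mpr hq)
    have hle : (Ideal.span {x₀}).radical ≤ J.radical :=
      Ideal.radical_mono ((Ideal.span_singleton_le_iff_mem _).mpr hx₀J)
    exact hJ (hle hfrad)
  · -- dimension at most one: `R` is a principal ideal ring
    have hht' : (IsLocalRing.maximalIdeal R).height ≤ 1 := not_lt.mp hht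
    have hpir : IsPrincipalIdealRing R := by
      have h03 : IsPrincipalIdealRing R ↔ (IsIntegrallyClosed R ∧
          ∀ P : Ideal R, P ≠ ⊥ → P.IsPrime → P = IsLocalRing.maximalIdeal R) :=
        (tfae_of_isNoetherianRing_of_isLocalRing_of_isDomain R).out 0 3
      refine h03.mpr ⟨inferInstance, fun P hP0 hPp => ?_⟩
      exact Groth.Agent.Lib.Seat10.PrincRad.eq_of_le_of_height_le_one hht'
        (IsLocalRing.le_maximalIdeal hPp.ne_top) hP0
    have hprin : J.IsPrincipal := IsPrincipalIdealRing.principal J
    have hJeq : Ideal.span {Submodule.IsPrincipal.generator J} = J :=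
      Ideal.span_singleton_generator J
    refine ⟨Submodule.IsPrincipal.generator J, Submodule.IsPrincipal.generator_mem J, ?_, ?_⟩
    · intro h0
      apply hJ0
      rw [← hJeq, h0]
      exact Ideal.span_singleton_eq_bot.mpr rfl
    · rw [hJeq]
      exact (Ideal.isRadical_iff_quotient_reduced _).mp hJ

end Groth.Agent.S2013
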