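import Groth.Statements.S2030
import Groth.Agent.Lib.Seat99StdOmega
import Groth.Agent.Lib.Seat10StdSmD

set_option autoImplicit false
universe u
open Smoothing

namespace Groth.Agent.S2030

/-- If `a` is strictly standard in the finitely presented `R`-algebra `A`, then the localization `A_a`
is smooth over `R` and its module of Kaehler differentials over `R` is stably free (free after
adding a finite free module). -/
theorem result {R A : Type u} [CommRing R] [CommRing A]
    [Algebra R A] (a : A) (ha : Smoothing.IsStrictlyStandard R A a) :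
    Algebra.Smooth R (Localization.Away a) ∧
      ∃ p q : ℕ, Nonempty ((Ω[Localization.Away a⁄R] × (Fin p → Localization.Away a)) ≃ₗ[Localization.Away a]
        (Fin q → Localization.Away a)) := by
  classical
  have ha' := ha
  obtain ⟨P, hspan, hk⟩ := ha
  -- `A` is finitely presented
  have hfp : Algebra.FinitePresentation R A := by
    refine Algebra.FinitePresentation.of_surjective (f := P.hom) P.surj ?_
    rw [P.ker_eq]
    exact Submodule.fg_span (Set.finite_range P.rel)
  have hmemI : ∀ y : MvPolynomial (Fin P.n) R, y ∈ Ideal.span (Set.range P.rel) ↔ P.hom y = 0 := by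
    intro y
    rw [← P.ker_eq, RingHom.mem_ker]
    rfl
  have hrel : ∀ j, P.hom (P.rel j) = 0 := fun j =>
    (hmemI _).mp (Ideal.subset_span ⟨j, rfl⟩)
  refine ⟨?_, P.c, P.n, ?_⟩
  · rw [← Algebra.basicOpen_subset_smoothLocus_iff_smooth]
    intro q hq
    exact Groth.Agent.Lib.Seat10.StdSm.isSmoothAt_of_isStrictlyStandard a ha' q.asIdeal hq
  · refine Groth.Agent.Lib.Seat99.StdOmega.stablyFree_of_rows P.hom P.surj a
      (fun i => P.rel (Fin.castLE P.hcm i)) (fun i => hrel _) ?_ ?_ (Localization.Away a)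
    · -- the tail rows are killed by `a`
      set S : Submodule A (Fin P.n → A) := Submodule.span A (Set.range fun i : Fin P.c =>
        Groth.Agent.Lib.Seat99.StdOmega.rowsOf P.hom (P.rel (Fin.castLE P.hcm i))) with hS
      intro y hy
      have hy' : y ∈ Ideal.span (Set.range P.rel) := (hmemI y).mpr hy
      have key := Groth.Agent.Lib.Seat99.StdOmega.rowsOf_mem_of_mem_span P.hom
        (S.comap (LinearMap.lsmul A (Fin P.n → A) a)) (Set.range P.rel) ?_ y hy'
      · exact key.2
      rintro _ ⟨j, rfl⟩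
      refine ⟨hrel j, ?_⟩
      change a • Groth.Agent.Lib.Seat99.StdOmega.rowsOf P.hom (P.rel j) ∈ S
      by_cases hj : (j : ℕ) < P.c
      · refine S.smul_mem _ (Submodule.subset_span ⟨⟨j, hj⟩, ?_⟩)
        change Groth.Agent.Lib.Seat99.StdOmega.rowsOf P.hom (P.rel (Fin.castLE P.hcm ⟨j, hj⟩)) = _
        congr 2
      · obtain ⟨s, hs⟩ := P.surj a
        have h1 := hk s hs j (not_lt.mp hj)
        obtain ⟨y1, hy1, y2, hy2, hsum⟩ := Submodule.mem_sup.mp h1
        have h2 : a • Groth.Agent.Lib.Seat99.StdOmega.rowsOf P.hom (P.rel j) =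
            Groth.Agent.Lib.Seat99.StdOmega.rowsOf P.hom (s * P.rel j) := by
          rw [Groth.Agent.Lib.Seat99.StdOmega.rowsOf_mul, hrel j, zero_smul, add_zero, hs]
        rw [h2, ← hsum, Groth.Agent.Lib.Seat99.StdOmega.rowsOf_add,
          Groth.Agent.Lib.Seat99.StdOmega.rowsOf_eq_zero_of_mem_sq P.hom _
            (fun y hy => (hmemI y).mp hy) y2 hy2, add_zero]
        refine (Groth.Agent.Lib.Seat99.StdOmega.rowsOf_mem_of_mem_span P.hom S _ ?_ y1 hy1).2
        rintro _ ⟨j', hj', rfl⟩
        refine ⟨hrel j', Submodule.subset_span ⟨⟨j', hj'⟩, ?_⟩⟩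
        change Groth.Agent.Lib.Seat99.StdOmega.rowsOf P.hom (P.rel (Fin.castLE P.hcm ⟨j', hj'⟩)) = _
        congr 2
    · exact hspan

end Groth.Agent.S2030
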