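import Groth.Statements.S2055
import Groth.Agent.Lib.Seat10GluePairA

set_option autoImplicit false
universe u
open CAlg

namespace Groth.Agent.S2055

open Groth.Agent.Lib.Seat10.GluePair

open TensorProduct in
/-- Let `R → S` be flat and `I ⊆ R` a finitely generated ideal with `R/I → S/IS` bijective. If one of
the `R`-modules `M`, `N` has every element killed by a power of `I`, then base change of linear maps
`Hom_R(M, N) → Hom_S(S ⊗ M, S ⊗ N)` is bijective. -/
theorem result {R S M N : Type u} [CommRing R] [CommRing S]
    [Algebra R S] [Module.Flat R S] (I : Ideal R) (hI : I.FG)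
    (hq : Function.Bijective (algebraMap (R ⧸ I) (S ⧸ I.map (algebraMap R S))))
    [AddCommGroup M] [Module R M] [AddCommGroup N] [Module R N]
    (hMN : (∀ x : M, ∃ n : ℕ, ∀ a ∈ I ^ n, a • x = 0) ∨ (∀ y : N, ∃ n : ℕ, ∀ a ∈ I ^ n, a • y = 0)) :
    Function.Bijective (fun f : M →ₗ[R] N => LinearMap.baseChange S f) := by
  have hq' : Function.Bijective
    (Ideal.quotientMap (I.map (algebraMap R S)) (algebraMap R S) Ideal.le_comap_map) := hq
  -- base change is determined by values on `1 ⊗ m`
  have hext : ∀ g g' : S ⊗[R] M →ₗ[S] S ⊗[R] N,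
      (∀ m : M, g (1 ⊗ₜ m) = g' (1 ⊗ₜ m)) → g = g' := by
    intro g g' h
    apply TensorProduct.AlgebraTensorModule.ext
    intro s m
    have : s ⊗ₜ[R] m = s • ((1 : S) ⊗ₜ[R] m) := by
      rw [TensorProduct.smul_tmul', smul_eq_mul, mul_one]
    rw [this, map_smul, map_smul, h]
  rcases hMN with hM | hN
  · -- `M` torsion
    constructor
    · intro f f' hff
      ext m
      have h1 : (1 : S) ⊗ₜ[R] (f m - f' m) = 0 := by
        have := LinearMap.congr_fun hff ((1 : S) ⊗ₜ[R] m)
        simp only [LinearMap.baseChange_tmul] at this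
        rw [TensorProduct.tmul_sub, this, sub_self]
      have h2 : IsTors R I (f m - f' m) := by
        obtain ⟨n, hn⟩ := hM m
        refine ⟨n, fun a ha => ?_⟩
        rw [smul_sub, ← map_smul, ← map_smul, hn a ha, map_zero, map_zero, sub_zero]
      exact sub_eq_zero.mp (eq_zero_of_tmul_eq_zero R S I hq' N _ h2 h1)
    · intro g
      have hg : ∀ m : M, ∃ x : N, IsTors R I x ∧ (1 : S) ⊗ₜ[R] x = g (1 ⊗ₜ m) := by
        intro m
        apply exists_tmul_eq_of_isTors R S I hq' hI N
        obtain ⟨n, hn⟩ := hM m
        refine ⟨n, fun a ha => ?_⟩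
        rw [← algebraMap_smul S a (g (1 ⊗ₜ[R] m)), ← map_smul, algebraMap_smul,
          ← TensorProduct.tmul_smul, hn a ha, TensorProduct.tmul_zero, map_zero]
      choose F hF1 hF2 using hg
      have huniq : ∀ x x' : N, IsTors R I x → IsTors R I x' →
          (1 : S) ⊗ₜ[R] x = (1 : S) ⊗ₜ[R] x' → x = x' := by
        intro x x' hx hx' h
        have h1 : IsTors R I (x - x') := (torsionSub R I N).sub_mem hx hx'
        have h2 : (1 : S) ⊗ₜ[R] (x - x') = 0 := by rw [TensorProduct.tmul_sub, h, sub_self]
        exact sub_eq_zero.mp (eq_zero_of_tmul_eq_zero R S I hq' N _ h1 h2)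
      let f : M →ₗ[R] N :=
        { toFun := F
          map_add' := by
            intro m m'
            apply huniq _ _ (hF1 _) ((torsionSub R I N).add_mem (hF1 m) (hF1 m'))
            rw [hF2 (m + m'), TensorProduct.tmul_add, map_add, TensorProduct.tmul_add, hF2, hF2]
          map_smul' := by
            intro r m
            apply huniq _ _ (hF1 _) ((torsionSub R I N).smul_mem r (hF1 m))
            rw [hF2, TensorProduct.tmul_smul, TensorProduct.tmul_smul, hF2]
            exact LinearMap.map_smul_of_tower g r _ }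
      refine ⟨f, ?_⟩
      apply hext
      intro m
      show (LinearMap.baseChange S f) (1 ⊗ₜ m) = _
      rw [LinearMap.baseChange_tmul]
      exact hF2 m
  · -- `N` torsion
    have hbij := mk_bijective R S I hq' N hN
    constructor
    · intro f f' hff
      ext m
      apply hbij.1
      have := LinearMap.congr_fun hff ((1 : S) ⊗ₜ[R] m)
      simp only [LinearMap.baseChange_tmul] at this
      exact this
    · intro g
      let e : N ≃ₗ[R] S ⊗[R] N := LinearEquiv.ofBijective (TensorProduct.mk R S N 1) hbij
      let f : M →ₗ[R] N := e.symm.toLinearMap ∘ₗ (g.restrictScalars R) ∘ₗ (TensorProduct.mk R S M 1)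
      refine ⟨f, ?_⟩
      apply hext
      intro m
      show (LinearMap.baseChange S f) (1 ⊗ₜ m) = _
      rw [LinearMap.baseChange_tmul]
      have : (1 : S) ⊗ₜ[R] f m = e (f m) := rfl
      rw [this]
      simp only [f, LinearMap.comp_apply, LinearEquiv.coe_coe, LinearEquiv.apply_symm_apply,
        LinearMap.restrictScalars_apply, TensorProduct.mk_apply]

end Groth.Agent.S2055
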