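import Groth.Statements.S2058
import Groth.Agent.Lib.Seat62Tetra

set_option autoImplicit false
universe u
open CAlg

namespace Groth.Agent.S2058

/-- Let R be a Noetherian local ring which is not Artinian, is not a regular local ring of dimension
one, and has depth at most one. Then there is a finite ring map R → R' with R' ≠ 0, not bijective,
whose kernel and cokernel are killed by a power of the maximal ideal of R, such that the maximal
ideal of R is not an associated prime of the R-module R'. (This says that the four cases for a
Noetherian local ring — Artinian, regular of dimension one, depth at least two, or admitting such a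
map — cover everything; that they are mutually exclusive is not asserted.) -/
theorem result {R : Type u} [CommRing R] [IsLocalRing R] [IsNoetherianRing R]
    (h1 : ¬ IsArtinianRing R) (h2 : ¬ (IsRegularLocalRing R ∧ ringKrullDim R = 1))
    (h3 : LocCoh.depth R R ≤ 1) :
    ∃ (R' : Type u) (_ : CommRing R') (_ : Algebra R R'), Nontrivial R' ∧ Module.Finite R R' ∧
      ¬ Function.Bijective (algebraMap R R') ∧
      (∃ n : ℕ, (∀ x : R, algebraMap R R' x = 0 → ∀ a ∈ IsLocalRing.maximalIdeal R ^ n, a * x = 0) ∧
        (∀ y : R', ∀ a ∈ IsLocalRing.maximalIdeal R ^ n, a • y ∈ Set.range (algebraMap R R'))) ∧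
      IsLocalRing.maximalIdeal R ∉ associatedPrimes R R' := by
  refine Groth.Agent.Lib.Seat62.Tetra.main h1 h2 ?_
  intro f hf hreg g hg hgreg
  have hw : RingTheory.Sequence.IsWeaklyRegular R [f, g] := by
    rw [RingTheory.Sequence.isWeaklyRegular_cons_iff]
    refine ⟨hreg, ?_⟩
    rw [RingTheory.Sequence.isWeaklyRegular_cons_iff]
    exact ⟨hgreg, RingTheory.Sequence.IsWeaklyRegular.nil _ _⟩
  have hne : IsLocalRing.maximalIdeal R • (⊤ : Submodule R R) ≠ ⊤ := by
    rw [Ideal.smul_top_eq_map, Algebra.algebraMap_self, Ideal.map_id]
    intro h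
    exact (IsLocalRing.maximalIdeal.isMaximal R).ne_top (by simpa using h)
  have h2le : (2 : ℕ∞) ≤ LocCoh.depth R R := by
    classical
    unfold LocCoh.depth LocCoh.idealDepth
    rw [if_neg hne]
    refine le_iSup₂_of_le [f, g] ⟨hw, ?_⟩ le_rfl
    intro r hr
    simp only [List.mem_cons, List.not_mem_nil, or_false] at hr
    rcases hr with rfl | rfl
    · exact hf
    · exact hg
  have : (2 : ℕ∞) ≤ 1 := h2le.trans h3
  exact absurd this (by decide)

end Groth.Agent.S2058
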