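import Groth.Statements.S2106
import Groth.Agent.Lib.Seat35EssFPCancel
import Groth.Agent.Lib.Seat22LocCritC
import Groth.Agent.Lib.Helper5LocalFlat
import Groth.Agent.Lib.Helper2FibreCrit

set_option autoImplicit false
universe u
open CAlg

namespace Groth.Agent.S2106

/-- Let `R → S → S'` be local homomorphisms of local rings with `S` and `S'` essentially of finite
presentation over `R`, and `M` a nonzero finitely presented `S'`-module which is flat over `R` and
such that `M/𝔪_R M` is flat over `S/𝔪_R S`. Then `S` is flat over `R` and `M` is flat over `S`. -/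
theorem result {R S S' M : Type u} [CommRing R] [CommRing S] [CommRing S']
    [IsLocalRing R] [IsLocalRing S] [IsLocalRing S'] [Algebra R S] [Algebra S S'] [Algebra R S'] [IsScalarTower R S S']
    [IsLocalHom (algebraMap R S)] [IsLocalHom (algebraMap S S')]
    (hS : CAlgX.IsEssFinitePresentation R S) (hS' : CAlgX.IsEssFinitePresentation R S')
    [AddCommGroup M] [Module S' M] [Module S M] [Module R M] [IsScalarTower S S' M] [IsScalarTower R S' M]
    [IsScalarTower R S M] [Module.FinitePresentation S' M] [Nontrivial M] [Module.Flat R M]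
    (hfib : Module.Flat (S ⧸ (IsLocalRing.maximalIdeal R).map (algebraMap R S))
      (M ⧸ (IsLocalRing.maximalIdeal R).map (algebraMap R S) • (⊤ : Submodule S M))) :
    Module.Flat R S ∧ Module.Flat S M := by
  have hIS : (IsLocalRing.maximalIdeal R).map (algebraMap R S) ≤ IsLocalRing.maximalIdeal S :=
    IsLocalRing.map_maximalIdeal_le (algebraMap R S)
  have hSS' : (IsLocalRing.maximalIdeal S).map (algebraMap S S') ≤ IsLocalRing.maximalIdeal S' :=
    IsLocalRing.map_maximalIdeal_le (algebraMap S S')
  have hcancel := Groth.Agent.Lib.Seat35.EssFPCancel.essFP_cancel (R := R) (S := S) (S' := S')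
    hS hS'
  have h : Module.Flat (S ⧸ (IsLocalRing.maximalIdeal R).map (algebraMap R S))
      (TensorProduct (S) (S ⧸ (IsLocalRing.maximalIdeal R).map (algebraMap R S)) M) :=
    Module.Flat.of_linearEquiv (Groth.Agent.Lib.Helper2.FibreCrit.quotTensorEquiv _ M)
  have H1 := Groth.Agent.Lib.Helper5.lTensor_map_subtype_injective_of_flat (R := R) (S := S) M
    (IsLocalRing.maximalIdeal R)
  have H2 := Groth.Agent.Lib.Helper5.lTensor_restrictScalars_subtype_injective_of_flat_baseChange
    _ h
  have hT : Function.Injective ((IsLocalRing.maximalIdeal S).subtype.lTensor M) :=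
    (Groth.Agent.Lib.Helper5.tor1Vanish_quotient_of_le _ H1 H2 (IsLocalRing.maximalIdeal S)
      hIS).lTensor_subtype_injective
  have hcomap : IsLocalRing.maximalIdeal S =
      (IsLocalRing.maximalIdeal S').comap (algebraMap S S') := by
    have h04 := (IsLocalRing.local_hom_TFAE (algebraMap S S')).out 0 4
    exact (h04.mp ‹IsLocalHom (algebraMap S S')›).symm
  have hflatS : Module.Flat S M :=
    Groth.Agent.Lib.Seat22.LocCritC.flat_of_lTensor_injective_of_essFP (R := S) (S := S') hcancel M
      (IsLocalRing.maximalIdeal S) hcomap hT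
  have hff : Module.FaithfullyFlat S M := by
    refine ⟨fun m hm htop => ?_⟩
    have hm' : m = IsLocalRing.maximalIdeal S := IsLocalRing.eq_maximalIdeal hm
    subst hm'
    have h1 : (⊤ : Submodule S' M) ≤ (IsLocalRing.maximalIdeal S') • (⊤ : Submodule S' M) := by
      rintro x -
      have hx : x ∈ (IsLocalRing.maximalIdeal S) • (⊤ : Submodule S M) := by rw [htop]; trivial
      refine Submodule.smul_induction_on hx ?_ ?_
      · intro a ha y _
        rw [← algebraMap_smul S' a y]
        exact Submodule.smul_mem_smul (hSS' (Ideal.mem_map_of_mem _ ha)) trivial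
      · intro y₁ y₂ h₁ h₂
        exact Submodule.add_mem _ h₁ h₂
    have hfin : Module.Finite S' M := inferInstance
    have h2 := Submodule.eq_bot_of_le_smul_of_le_jacobson_bot (IsLocalRing.maximalIdeal S')
      (⊤ : Submodule S' M) Module.Finite.fg_top h1
      (by rw [IsLocalRing.jacobson_eq_maximalIdeal ⊥ bot_ne_top])
    have h3 : Subsingleton M := by
      rw [← Submodule.subsingleton_iff S', ← subsingleton_iff_bot_eq_top]
      exact h2.symm
    exact not_subsingleton M h3
  exact ⟨Groth.Agent.Lib.Helper5.flat_of_faithfullyFlat_of_flat M, hflatS⟩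

end Groth.Agent.S2106
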