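import Groth.Statements.S2118
import Groth.Agent.Lib.Seat69Lazard

set_option autoImplicit false
universe u
open CategoryTheory
open CAlg

namespace Groth.Agent.S2118

/-- An `R`-module `M` is flat if and only if it is isomorphic to the colimit of a diagram of finite free
`R`-modules indexed by a nonempty directed preorder (in the same universe). -/
theorem result {R : Type u} [CommRing R] (M : Type u) [AddCommGroup M] [Module R M] :
    Module.Flat R M ↔
      ∃ (J : Type u) (_ : Preorder J) (_ : IsDirected J (fun a b => a ≤ b)) (_ : Nonempty J)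
        (F : J ⥤ ModuleCat.{u} R), (∀ j, Module.Finite R (F.obj j) ∧ Module.Free R (F.obj j)) ∧
        Nonempty (Limits.colimit F ≅ ModuleCat.of R M) := by
  constructor
  · intro hM
    obtain ⟨α, iα, hdir, hne, Fα, hfinal⟩ :=
      IsFiltered.exists_directed (Groth.Agent.Lib.Seat69.Lazard.Obj R M)
    refine ⟨α, iα.toPreorder, hdir, hne, Fα ⋙ Groth.Agent.Lib.Seat69.Lazard.G R M,
      fun j => ⟨?_, ?_⟩, ⟨?_⟩⟩
    · change Module.Finite R (Fin (Fα.obj j).n →₀ R)
      infer_instance
    · change Module.Free R (Fin (Fα.obj j).n →₀ R)
      infer_instance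
    · exact (Functor.Final.colimitIso Fα (Groth.Agent.Lib.Seat69.Lazard.G R M)).trans
        (Limits.IsColimit.coconePointUniqueUpToIso (Limits.colimit.isColimit _)
          (Groth.Agent.Lib.Seat69.Lazard.isColimitCoconeObj R M))
  · rintro ⟨J, iJ, hdir, hne, F, hF, ⟨e⟩⟩
    have : IsFiltered J := isFiltered_of_directed_le_nonempty J
    have h1 : Module.Flat R (Limits.colimit F : ModuleCat.{u} R) :=
      Groth.Agent.Lib.Seat69.Lazard.flat_of_isColimit F (Limits.colimit.cocone F) (Limits.colimit.isColimit F)
        (fun j => by
          have := (hF j).2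
          infer_instance)
    exact Module.Flat.of_linearEquiv e.toLinearEquiv.symm

end Groth.Agent.S2118
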