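import Groth.Statements.S2147
import Groth.Agent.Lib.Seat92ProperApprox
import Groth.Agent.Lib.Helper22NA10

set_option autoImplicit false
set_option linter.style.haveILetI false
universe u
open CategoryTheory AlgebraicGeometry
open Lim

namespace Groth.Agent.S2147

/-- Let `f : X → S` be proper with `S` quasi-compact and quasi-separated. Then `f` is a limit of proper
morphisms `f_i : X_i → S_i` with `S_i` of finite type over `ℤ`: there are cofiltered diagrams of
schemes `X_i`, `S_i` with affine transition morphisms, a natural transformation with proper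
components, and limit cones identified with `X` and `S` compatibly with `f`. -/
theorem result {X S : Scheme.{u}} (f : X ⟶ S) [IsProper f] [CompactSpace S]
    [QuasiSeparatedSpace S] :
    ∃ (I : Type u) (_ : SmallCategory I) (_ : IsCofiltered I) (DX DS : I ⥤ Scheme.{u}) (φ : DX ⟶ DS)
      (cX : Limits.Cone DX) (cS : Limits.Cone DS) (_ : Limits.IsLimit cX) (_ : Limits.IsLimit cS)
      (eX : cX.pt ≅ X) (eS : cS.pt ≅ S),
      (∀ (i j : I) (a : i ⟶ j), IsAffineHom (DX.map a) ∧ IsAffineHom (DS.map a)) ∧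
      (∀ i, IsProper (φ.app i) ∧ CompactSpace (DS.obj i) ∧
        LocallyOfFiniteType (Limits.IsTerminal.from specULiftZIsTerminal (DS.obj i))) ∧
      (∀ i, cX.π.app i ≫ φ.app i = eX.hom ≫ f ≫ eS.inv ≫ cS.π.app i) := by
  obtain ⟨A, instA, DA, cA, hcA, eA, hgood⟩ :=
    Groth.Agent.Lib.Helper22.NA10.exists_goodSys S
  haveI := hgood.dir
  haveI := hgood.ne
  haveI : IsCofiltered Aᵒᵖ := inferInstance
  haveI : ∀ (i j : Aᵒᵖ) (a : i ⟶ j), IsAffineHom (DA.map a) := fun _ _ a => hgood.aff a
  haveI : ∀ i, CompactSpace (DA.obj i) := hgood.cpt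
  haveI : ∀ i, LocallyOfFiniteType (specULiftZIsTerminal.from (DA.obj i)) := hgood.lft
  haveI : ∀ i, QuasiSeparatedSpace (DA.obj i) := fun i =>
    Groth.Agent.Lib.Helper22.NA4.quasiSeparatedSpace_of_lft _
  haveI : CompactSpace cA.pt := QuasiCompact.compactSpace_of_compactSpace eA.hom
  haveI : QuasiSeparatedSpace cA.pt := quasiSeparatedSpace_of_quasiSeparated eA.hom
  obtain ⟨i₀, DX, φ, cX, hcX, eX, h1, h2, h3⟩ :=
    Groth.Agent.Lib.Seat92.ProperApprox.exists_proper_system DA cA hcA (f ≫ eA.inv)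
  refine ⟨Over i₀, inferInstance, inferInstance, DX, Over.forget i₀ ⋙ DA, φ, cX,
    cA.whisker (Over.forget i₀), hcX,
    (Functor.Initial.isLimitWhiskerEquiv (Over.forget i₀) cA).symm hcA, eX, eA,
    fun i j a => ⟨h1 i j a, ?_⟩, fun i => ⟨h2 i, ?_, ?_⟩, fun i => ?_⟩
  · exact hgood.aff _
  · exact hgood.cpt _
  · exact hgood.lft _
  · rw [h3 i]
    simp

end Groth.Agent.S2147
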