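import Groth.Statements.S2184
import Groth.Agent.Lib.Seat37NumType768

set_option autoImplicit false
open Finset
open Models Models.NumericalType

namespace Groth.Agent.S2184

/-- For a minimal numerical type of genus g at least 2 one has m i * |a i j| at most 768 g for all
indices i, j. -/
theorem result {n : ℕ} (T : Models.NumericalType n) (hmin : T.IsMinimal) (hg : 2 ≤ T.genus) (i j : Fin n) :
    T.m i * |T.a i j| ≤ 768 * T.genus := by
  have hmi := T.m_pos i
  rcases Nat.lt_or_ge 1 n with hn | hn
  · obtain ⟨-, h83⟩ := Groth.Agent.S2183.result T hmin hn hg
    -- the bound on the diagonal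
    have hdiag : ∀ l, T.m l * |T.a l l| ≤ 768 * T.genus := by
      intro l
      by_cases hl : T.IsMinusTwo l
      · have h1 := Groth.Agent.Lib.Seat37.NumType768.f_le T hmin hn hg l hl
        unfold Groth.Agent.Lib.Seat37.NumType768.f at h1
        have hw := T.w_pos l
        rw [hl.2, abs_of_nonpos (by linarith)]
        nlinarith
      · have := (h83 l hl).2.1
        linarith
    by_cases hij : i = j
    · subst hij
      exact hdiag i
    · have h0 := T.offDiag_nonneg i j hij
      rw [abs_of_nonneg h0]
      rcases h0.eq_or_lt with h0 | h0
      · rw [← h0]; linarith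
      · have := (Groth.Agent.S2182.result T i j h0).1
        linarith [hdiag j]
  · -- a single index: the row relation forces `a = 0`
    have hn1 : n = 1 := by have := T.pos; omega
    subst hn1
    have h := Groth.Agent.Lib.Helper11.row_sum T i
    rw [Fin.sum_univ_one] at h
    have ei : i = 0 := Subsingleton.elim _ _
    have ej : j = 0 := Subsingleton.elim _ _
    subst ei ej
    have h0 : T.a 0 0 = 0 := by
      rcases mul_eq_zero.mp h with h' | h'
      · exact h'
      · have := T.m_pos 0; omega
    rw [h0]
    simp only [abs_zero, mul_zero]
    linarith

end Groth.Agent.S2184
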