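import Groth.Statements.S2187
import Mathlib
import Groth.Agent.Lib.Helper13Vasc2

set_option autoImplicit false
universe u
open CategoryTheory
open LCI

namespace Groth.Agent.S2187

/-- Let R be a Noetherian local ring and I an ideal of finite projective dimension as an R-module. If F
is a direct summand of the conormal module I/I^2 which is isomorphic to R/I, then there is a
nonzerodivisor x in I whose class in I/I^2 generates F. -/
theorem result {R : Type u} [CommRing R]
    [IsNoetherianRing R] [IsLocalRing R] (I : Ideal R) (n : ℕ)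
    (hpd : HasProjectiveDimensionLT (ModuleCat.of R I) n)
    (F G : Submodule (R ⧸ I) I.Cotangent) (hFG : IsCompl F G) (e : F ≃ₗ[R ⧸ I] (R ⧸ I)) :
    ∃ (x : R) (hx : x ∈ I), x ∈ nonZeroDivisors R ∧
      Submodule.span (R ⧸ I) {I.toCotangent ⟨x, hx⟩} = F := by
  classical
  by_cases hItop : I = ⊤
  · subst hItop
    have : Subsingleton (R ⧸ (⊤ : Ideal R)) := Ideal.Quotient.subsingleton_iff.2 rfl
    have : Subsingleton ((⊤ : Ideal R).Cotangent) :=
      Module.subsingleton (R ⧸ (⊤ : Ideal R)) _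
    refine ⟨1, Submodule.mem_top, one_mem _, ?_⟩
    exact Subsingleton.elim _ _
  have : Nontrivial (R ⧸ I) := Ideal.Quotient.nontrivial_iff.2 hItop
  have hIm : I ≤ IsLocalRing.maximalIdeal R := IsLocalRing.le_maximalIdeal hItop
  -- the generator of `F`
  obtain ⟨⟨x₀, hx₀⟩, hx₀f⟩ := I.toCotangent_surjective ((e.symm 1 : F) : I.Cotangent)
  have hFspan : F = Submodule.span (R ⧸ I) {I.toCotangent ⟨x₀, hx₀⟩} := by
    rw [hx₀f]
    apply le_antisymm
    · intro y hy
      have h1 : (⟨y, hy⟩ : F) = (e ⟨y, hy⟩) • e.symm 1 := by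
        rw [← map_smul, smul_eq_mul, mul_one, LinearEquiv.symm_apply_apply]
      have h2 : y = (e ⟨y, hy⟩) • ((e.symm 1 : F) : I.Cotangent) := by
        have := congrArg (fun z : F => (z : I.Cotangent)) h1
        simpa using this
      rw [h2]
      exact Submodule.smul_mem _ _ (Submodule.mem_span_singleton_self _)
    · rw [Submodule.span_le, Set.singleton_subset_iff]
      exact (e.symm 1).2
  have hx₀sq : x₀ ∉ I ^ 2 := by
    intro h
    have h0 : I.toCotangent ⟨x₀, hx₀⟩ = 0 := (Ideal.toCotangent_eq_zero I ⟨x₀, hx₀⟩).2 h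
    rw [hx₀f] at h0
    have h1 : (e.symm 1 : F) = 0 := Subtype.ext h0
    have h2 : (1 : R ⧸ I) = 0 := by
      have := congrArg e h1
      simpa using this
    exact one_ne_zero h2
  have hI0 : I ≠ ⊥ := by
    intro h0
    apply hx₀sq
    have : x₀ = 0 := by
      rw [h0] at hx₀
      exact hx₀
    rw [this]
    exact Ideal.zero_mem _
  -- a regular element of `I`
  have hn1 : HasProjectiveDimensionLT (ModuleCat.of R ↥I) (n + 1) :=
    hasProjectiveDimensionLT_of_ge _ n (n + 1) (Nat.le_succ n)
  have hpdq : HasProjectiveDimensionLT (ModuleCat.of R (R ⧸ I)) (n + 1 + 1) :=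
    (Groth.Agent.Lib.Helper21.PdLoc.pdLT_succ_iff_of_ses I.subtype (Submodule.mkQ I)
      (Submodule.injective_subtype _) (Submodule.mkQ_surjective _)
      (LinearMap.exact_subtype_mkQ _) n).mpr hn1
  obtain ⟨y₀, hy₀I, hy₀reg⟩ :=
    Groth.Agent.Helper13Vasc.exists_isSMulRegular_mem I hI0 (n + 1) hpdq
  -- prime avoidance
  have hex : ∃ x ∈ Ideal.span {x₀} ⊔ I ^ 2,
      x ∉ IsLocalRing.maximalIdeal R * Ideal.span {x₀} ⊔ I ^ 2 ∧ IsSMulRegular R x := by
    by_contra hcon
    push Not at hcon
    have hfin : (associatedPrimes R R).Finite := associatedPrimes.finite R R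
    let T : Finset (Ideal R) :=
      insert (IsLocalRing.maximalIdeal R * Ideal.span {x₀} ⊔ I ^ 2) hfin.toFinset
    have hsub : ((Ideal.span {x₀} ⊔ I ^ 2 : Ideal R) : Set R) ⊆
        ⋃ i ∈ (↑T : Set (Ideal R)), ((id i : Ideal R) : Set R) := by
      intro x hx
      by_cases hx2 : x ∈ IsLocalRing.maximalIdeal R * Ideal.span {x₀} ⊔ I ^ 2
      · refine Set.mem_biUnion
          (x := IsLocalRing.maximalIdeal R * Ideal.span {x₀} ⊔ I ^ 2) ?_ hx2
        exact Finset.mem_coe.mpr (Finset.mem_insert_self _ _)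
      · have hnr := hcon x hx hx2
        have : x ∈ ⋃ p ∈ associatedPrimes R R, (p : Set R) := by
          rw [biUnion_associatedPrimes_eq_compl_regular]
          exact hnr
        obtain ⟨p, hp, hxp⟩ := Set.mem_iUnion₂.mp this
        refine Set.mem_biUnion (x := p) ?_ hxp
        exact Finset.mem_coe.mpr
          (Finset.mem_insert_of_mem ((Set.Finite.mem_toFinset _).mpr hp))
    rw [Ideal.subset_union_prime (IsLocalRing.maximalIdeal R * Ideal.span {x₀} ⊔ I ^ 2)
      (IsLocalRing.maximalIdeal R * Ideal.span {x₀} ⊔ I ^ 2)] at hsub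
    · obtain ⟨i, hi, hle⟩ := hsub
      rw [Finset.mem_insert] at hi
      rcases hi with rfl | hi
      · -- `x₀ ∈ 𝔪 x₀ + I²`
        have h1 : x₀ ∈ IsLocalRing.maximalIdeal R * Ideal.span {x₀} ⊔ I ^ 2 :=
          hle (Ideal.mem_sup_left (Ideal.mem_span_singleton_self x₀))
        obtain ⟨z, hz, y, hy, hzy⟩ := Submodule.mem_sup.1 h1
        obtain ⟨m, hm, rfl⟩ := Ideal.mem_mul_span_singleton.1 hz
        have hunit : IsUnit (1 - m) := by
          by_contra hnu
          have h2 : 1 - m ∈ IsLocalRing.maximalIdeal R := (IsLocalRing.mem_maximalIdeal _).2 hnu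
          have h3 : (1 : R) ∈ IsLocalRing.maximalIdeal R := by
            have := Ideal.add_mem _ h2 hm
            simpa using this
          exact (IsLocalRing.maximalIdeal.isMaximal R).ne_top ((Ideal.eq_top_iff_one _).2 h3)
        obtain ⟨u, hu⟩ := hunit
        apply hx₀sq
        have h4 : (1 - m) * x₀ = y := by
          linear_combination (-1 : R) * hzy
        have h5 : x₀ = (↑u⁻¹ : R) * y := by
          rw [← h4, ← hu, ← mul_assoc, Units.inv_mul, one_mul]
        rw [h5]
        exact Ideal.mul_mem_left _ _ hy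
      · rw [Set.Finite.mem_toFinset] at hi
        have hprime : (id i : Ideal R).IsPrime := hi.isPrime
        have h1 : I ^ 2 ≤ id i := le_trans le_sup_right hle
        have h2 : I ≤ id i := hprime.le_of_pow_le h1
        have : y₀ ∈ ⋃ p ∈ associatedPrimes R R, (p : Set R) :=
          Set.mem_biUnion hi (h2 hy₀I)
        rw [biUnion_associatedPrimes_eq_compl_regular] at this
        exact this hy₀reg
    · intro i hi hne _
      rw [Finset.mem_insert] at hi
      rcases hi with rfl | hi
      · exact absurd rfl hne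
      · rw [Set.Finite.mem_toFinset] at hi
        exact hi.isPrime
  obtain ⟨x, hxF, hxF', hxreg⟩ := hex
  obtain ⟨z, hz, y, hy, hzy⟩ := Submodule.mem_sup.1 hxF
  obtain ⟨c, rfl⟩ := Ideal.mem_span_singleton'.1 hz
  have hcunit : IsUnit c := by
    by_contra hnu
    apply hxF'
    rw [← hzy]
    refine Ideal.add_mem _ (Ideal.mem_sup_left ?_) (Ideal.mem_sup_right hy)
    exact Ideal.mul_mem_mul ((IsLocalRing.mem_maximalIdeal _).2 hnu)
      (Ideal.mem_span_singleton_self x₀)
  have hyI : y ∈ I := Ideal.pow_le_self (by norm_num) hy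
  have hxI : x ∈ I := by
    rw [← hzy]
    exact Ideal.add_mem _ (Ideal.mul_mem_left _ _ hx₀) hyI
  refine ⟨x, hxI, ?_, ?_⟩
  · rw [mem_nonZeroDivisors_iff_right]
    intro w hw
    apply hxreg
    simp only [smul_eq_mul, mul_zero]
    rw [mul_comm]
    exact hw
  · have h1 : I.toCotangent ⟨x, hxI⟩ =
        (Ideal.Quotient.mk I c) • I.toCotangent ⟨x₀, hx₀⟩ := by
      have h2 : (⟨x, hxI⟩ : I) = c • ⟨x₀, hx₀⟩ + ⟨y, hyI⟩ := by
        apply Subtype.ext
        simp [← hzy]
      rw [h2, map_add, map_smul, (Ideal.toCotangent_eq_zero I ⟨y, hyI⟩).2 hy, add_zero]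
      rfl
    rw [h1, hFspan]
    exact Submodule.span_singleton_smul_eq (hcunit.map (Ideal.Quotient.mk I)) _

end Groth.Agent.S2187
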