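import Groth.Statements.S2188
import Mathlib
import Groth.Agent.Lib.Seat99VascSummand

set_option autoImplicit false
universe u
open CategoryTheory
open LCI

namespace Groth.Agent.S2188

/-- Let R be a Noetherian local ring and I an ideal of finite projective dimension as an R-module. If F
is a direct summand of I/I^2 which is free of rank r over R/I, then there is a regular sequence x_1,
..., x_r of R inside I whose classes in I/I^2 generate F. -/
theorem result {R : Type u} [CommRing R]
    [IsNoetherianRing R] [IsLocalRing R] (I : Ideal R) (hI : I ≠ ⊤) (n : ℕ)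
    (hpd : HasProjectiveDimensionLT (ModuleCat.of R I) n)
    (F G : Submodule (R ⧸ I) I.Cotangent) (hFG : IsCompl F G) (r : ℕ)
    (e : F ≃ₗ[R ⧸ I] (Fin r → R ⧸ I)) :
    ∃ (x : Fin r → R) (hx : ∀ i, x i ∈ I), RingTheory.Sequence.IsRegular R (List.ofFn x) ∧
      Submodule.span (R ⧸ I) (Set.range fun i => I.toCotangent ⟨x i, hx i⟩) = F := by
  classical
  have hIm : I ≤ IsLocalRing.maximalIdeal R := IsLocalRing.le_maximalIdeal hI
  -- the basis of `F`
  let bas : Module.Basis (Fin r) (R ⧸ I) F := Module.Basis.ofEquivFun e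
  have hF : F = Submodule.span (R ⧸ I) (Set.range fun i => ((bas i : F) : I.Cotangent)) := by
    have h1 := bas.span_eq
    have h2 := congrArg (Submodule.map F.subtype) h1
    rw [Submodule.map_span, Submodule.map_subtype_top, ← Set.range_comp] at h2
    exact h2.symm
  -- lifts of the basis
  have hlift : ∀ i, ∃ w : I, I.toCotangent w = ((bas i : F) : I.Cotangent) :=
    fun i => I.toCotangent_surjective _
  choose x' hx' using hlift
  -- the dual functionals
  let π : I.Cotangent →ₗ[R ⧸ I] F := Submodule.projectionOnto F G hFG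
  let ψ : Fin r → (↥I →ₗ[R] R ⧸ I) := fun i =>
    ((LinearMap.proj i ∘ₗ e.toLinearMap ∘ₗ π).restrictScalars R) ∘ₗ I.toCotangent
  have hψ : ∀ i j, ψ i ⟨(x' j : R), (x' j).2⟩ = if i = j then 1 else 0 := by
    intro i j
    show (e (π (I.toCotangent ⟨(x' j : R), (x' j).2⟩))) i = _
    have h1 : I.toCotangent ⟨(x' j : R), (x' j).2⟩ = ((bas j : F) : I.Cotangent) := hx' j
    have h0 : π ((bas j : F) : I.Cotangent) = bas j := Submodule.projectionOnto_apply_left hFG (bas j)
    rw [h1, h0]
    have h2 : bas j = e.symm (Pi.single j 1) := by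
      rw [Module.Basis.coe_ofEquivFun]
    rw [h2, LinearEquiv.apply_symm_apply, Pi.single_apply]
  obtain ⟨y, hyI, hyreg, hspan⟩ :=
    Groth.Agent.Lib.Seat99.VascSummand.exists_regular_of_functionals r R I hIm ⟨n, hpd⟩
      (fun i => (x' i : R)) (fun i => (x' i).2) ψ hψ
  refine ⟨y, hyI, ?_, ?_⟩
  · refine RingTheory.Sequence.IsRegular.of_isWeaklyRegular_of_mem_maximalIdeal R ?_ hyreg
    intro a ha
    rw [List.mem_ofFn] at ha
    obtain ⟨i, rfl⟩ := ha
    exact hIm (hyI i)
  · have hFx : F = Submodule.span (R ⧸ I)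
        (Set.range fun i => I.toCotangent ⟨(x' i : R), (x' i).2⟩) := by
      rw [hF]
      congr 2
      funext i
      exact (hx' i).symm
    rw [hFx]
    apply le_antisymm
    · apply Groth.Agent.Lib.Seat99.VascSummand.span_toCotangent_le
      rw [← hspan]
      exact le_sup_left
    · apply Groth.Agent.Lib.Seat99.VascSummand.span_toCotangent_le
      rw [hspan]
      exact le_sup_left

end Groth.Agent.S2188
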