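import Mathlib
import Groth.Prelude
import Groth.Statements.S2205
import Groth.Agent.S2196
import Groth.Agent.S2215
import Groth.Agent.Lib.Seat90DiscUnram

set_option autoImplicit false
universe u v
open Disc

namespace Groth.Agent.S2205

/-- Special case: affine, with B finite free over the Noetherian ring A (the source allows flat
quasi-finite morphisms of Noetherian schemes); then the relative dualizing module is Hom_A(B, A) and
the trace element is the usual trace. A prime q of B contains the different (the set of b with b
Hom_A(B, A) inside B Trace) if and only if A -> B is not unramified at q; for such maps unramified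
and etale at q agree. -/
theorem result {A : Type u} {B : Type v} [CommRing A]
    [CommRing B] [Algebra A B] [IsNoetherianRing A] [Module.Finite A B] [Module.Free A B]
    (q : Ideal B) [q.IsPrime] :
    Disc.differentSet A B ⊆ q ↔ ¬Algebra.IsUnramifiedAt A q := by
  open Groth.Agent.Lib.Seat90.DiscUnram in
  have h196 := Groth.Agent.S2196.result (A := A) (B := B)
  have hmem : (Disc.noetherDifferent A B ≤ q) ↔ ¬ Algebra.IsUnramifiedAt A q := by
    have := Set.ext_iff.mp h196 ⟨q, inferInstance⟩
    simpa [Algebra.unramifiedLocus] using this
  rw [← hmem]
  constructor
  · intro hsub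
    unfold Disc.noetherDifferent
    rw [Ideal.map_le_iff_le_comap]
    intro ξ hξ
    exact hsub (lmul_mem_differentSet ξ hξ)
  · intro hle x hx
    obtain ⟨ψ, hψ⟩ := exists_hom_sq x hx
    have h1 : x * x ∈ (Disc.noetherDifferent A B : Set B) := by
      rw [Groth.Agent.S2215.result]
      exact ⟨ψ, hψ⟩
    have h2 : x * x ∈ q := hle h1
    exact (Ideal.IsPrime.mem_or_mem inferInstance h2).elim id id

end Groth.Agent.S2205
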