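import Mathlib
import Groth.Prelude
import Groth.Statements.S2210
import Groth.Agent.Lib.Seat56RelGCI5
import Groth.Agent.Lib.Seat56RelGCI6
import Groth.Agent.Lib.Seat90S2210Aux

set_option autoImplicit false
universe u
open Disc

namespace Groth.Agent.S2210

/-- Parts (1) (flatness) and (3), in the case h = 1: let A be a ring, n at least 1, f_1, ..., f_n
polynomials in A[x_1, ..., x_n] and B = A[x_1, ..., x_n]/(f_1, ..., f_n). When B is quasi-finite
over A, it is A-flat, and its Noether different over A is the principal ideal generated by the image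
of the Jacobian determinant det(d f_i / d x_j). -/
theorem result {A : Type u} [CommRing A] {n : ℕ}
    (hn : 1 ≤ n) (f : Fin n → MvPolynomial (Fin n) A)
    [Algebra.QuasiFinite A (MvPolynomial (Fin n) A ⧸ Ideal.span (Set.range f))] :
    Module.Flat A (MvPolynomial (Fin n) A ⧸ Ideal.span (Set.range f)) ∧
      Disc.noetherDifferent A (MvPolynomial (Fin n) A ⧸ Ideal.span (Set.range f)) =
        Ideal.span {Ideal.Quotient.mk (Ideal.span (Set.range f))
          (Matrix.det (Matrix.of fun i j => MvPolynomial.pderiv j (f i)))} := by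
  classical
  have hgci : Synt.IsRelGCI A n n f := by
    intro p hnt
    refine ⟨le_refl n, ?_⟩
    have := hnt
    rw [Nat.sub_self, Nat.cast_zero]
    have h1 : IsArtinianRing
        (p.asIdeal.Fiber (MvPolynomial (Fin n) A ⧸ Ideal.span (Set.range f))) := inferInstance
    have h2 := (isArtinianRing_iff_isNoetherianRing_krullDimLE_zero
      (R := p.asIdeal.Fiber (MvPolynomial (Fin n) A ⧸ Ideal.span (Set.range f)))).1 h1
    have h3 := (ringKrullDimZero_iff_ringKrullDim_eq_zero
      (R := p.asIdeal.Fiber (MvPolynomial (Fin n) A ⧸ Ideal.span (Set.range f)))).1 h2.2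
    exact h3
  have hflat : Module.Flat A (MvPolynomial (Fin n) A ⧸ Ideal.span (Set.range f)) :=
    Groth.Agent.Lib.Seat56.RelGCI.flat_of_isRelGCI hgci
  have hkr : LCI.IsKoszulRegularSeq (MvPolynomial (Fin n) A) (List.ofFn f) :=
    Groth.Agent.Lib.Seat56.RelGCI.isKoszulRegularSeq_of_isRelGCI hgci
  refine ⟨hflat, ?_⟩
  have := hflat
  have hK := Groth.Agent.Lib.Seat90.S2235Aux.kExact_tensor (A := A) f hkr
  set q := Ideal.Quotient.mkₐ A (Ideal.span (Set.range f)) with hq
  have hqf : ∀ i, q (f i) = 0 := fun i =>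
    Ideal.Quotient.eq_zero_iff_mem.2 (Ideal.subset_span ⟨i, rfl⟩)
  obtain ⟨c, hc, hd⟩ := Groth.Agent.Lib.Seat90.S2210Aux.exists_matrix q f hqf
  have hmain := Groth.Agent.Lib.Seat90.S2235Aux.main (A := A) f
    (Groth.Agent.Lib.Seat90.S2210Aux.gen q)
    (Groth.Agent.Lib.Seat90.S2210Aux.span_gen_eq_ker q) c hc hK
  rw [Disc.noetherDifferent, hmain, Ideal.map_span, Set.image_singleton]
  congr 2
  have h1 : Algebra.TensorProduct.lmul' (S := MvPolynomial (Fin n) A ⧸ Ideal.span (Set.range f)) A
      (Algebra.TensorProduct.map q (AlgHom.id A _) c.det) =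
      Groth.Agent.Lib.Seat90.S2210Aux.ev q c.det := by
    rw [Groth.Agent.Lib.Seat90.S2210Aux.ev, Algebra.TensorProduct.productMap_eq_comp_map]
    rfl
  rw [h1, AlgHom.map_det]
  change _ = q _
  rw [AlgHom.map_det]
  congr 1
  ext i j
  simp only [AlgHom.mapMatrix_apply, Matrix.map_apply, Matrix.of_apply]
  exact hd i j

end Groth.Agent.S2210
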