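import Groth.Statements.S2470
import Groth.Agent.Lib.Seat11RegHom

set_option autoImplicit false
universe u
open EGA41

namespace Groth.Agent.S2470

open IsLocalRing in
/-- Let A → B be a local homomorphism of Noetherian local rings with maximal ideals 𝔪, 𝔫 and residue
fields k, k', and let B₀ = B/𝔪B be the closed fibre. The following are equivalent: (a) B is regular
and the canonical map (𝔪/𝔪²) ⊗_k k' → 𝔫/𝔫² is injective — stated here through dimensions, as
rank_{k'} 𝔫/𝔫² = rank_k 𝔪/𝔪² + rank_{k'} of the cotangent space of B₀, which is equivalent since the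
cokernel of that map is the cotangent space of B₀; (c) B and B₀ are regular and B is flat over A;
(d) A and B₀ are regular and B is flat over A; (e) A and B₀ are regular and dim B = dim A + dim B₀.
(Condition (b) of the source, on regular systems of parameters, is not stated.) -/
theorem result {A B : Type u} [CommRing A] [IsLocalRing A] [IsNoetherianRing A] [CommRing B] [IsLocalRing B] [IsNoetherianRing B]
    [Algebra A B] [IsLocalHom (algebraMap A B)] [IsLocalRing (B ⧸ (maximalIdeal A).map (algebraMap A B))] :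
    [IsRegularLocalRing B ∧
       Module.finrank (ResidueField B) (CotangentSpace B) =
         Module.finrank (ResidueField A) (CotangentSpace A) +
           Module.finrank (ResidueField (B ⧸ (maximalIdeal A).map (algebraMap A B))) (CotangentSpace (B ⧸ (maximalIdeal A).map (algebraMap A B))),
     IsRegularLocalRing B ∧ IsRegularLocalRing (B ⧸ (maximalIdeal A).map (algebraMap A B)) ∧ Module.Flat A B,
     IsRegularLocalRing A ∧ IsRegularLocalRing (B ⧸ (maximalIdeal A).map (algebraMap A B)) ∧ Module.Flat A B,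
     IsRegularLocalRing A ∧ IsRegularLocalRing (B ⧸ (maximalIdeal A).map (algebraMap A B)) ∧
       ringKrullDim B = ringKrullDim A + ringKrullDim (B ⧸ (maximalIdeal A).map (algebraMap A B))].TFAE := by
  classical
  have hN0 : IsNoetherianRing (B ⧸ (maximalIdeal A).map (algebraMap A B)) := inferInstance
  -- numerical data
  obtain ⟨dA, hdA⟩ := Groth.Agent.Lib.Helper5.exists_nat_ringKrullDim_eq A
  obtain ⟨dB, hdB⟩ := Groth.Agent.Lib.Helper5.exists_nat_ringKrullDim_eq B
  obtain ⟨d0, hd0⟩ := Groth.Agent.Lib.Helper5.exists_nat_ringKrullDim_eq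
    (B ⧸ (maximalIdeal A).map (algebraMap A B))
  have hF1A := ringKrullDim_le_spanFinrank_maximalIdeal A
  have hF1B := ringKrullDim_le_spanFinrank_maximalIdeal B
  have hF10 := ringKrullDim_le_spanFinrank_maximalIdeal (B ⧸ (maximalIdeal A).map (algebraMap A B))
  have hF2 := Groth.Agent.Lib.Seat11.RegHom.spanFinrank_maximalIdeal_le_add (A := A) (B := B)
  have hF3 := Groth.Agent.Lib.Seat11.RegHom.ringKrullDim_le_add (A := A) (B := B)
  rw [hdA] at hF1A
  rw [hdB] at hF1B
  rw [hd0] at hF10
  rw [hdA, hdB, hd0] at hF3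
  have hF1A' : dA ≤ (maximalIdeal A).spanFinrank := by exact_mod_cast hF1A
  have hF1B' : dB ≤ (maximalIdeal B).spanFinrank := by exact_mod_cast hF1B
  have hF10' : d0 ≤ (maximalIdeal (B ⧸ (maximalIdeal A).map (algebraMap A B))).spanFinrank := by
    exact_mod_cast hF10
  have hF3' : dB ≤ dA + d0 := by exact_mod_cast hF3
  have hregA : IsRegularLocalRing A ↔ (maximalIdeal A).spanFinrank = dA := by
    rw [isRegularLocalRing_iff, hdA]; exact_mod_cast Iff.rfl
  have hregB : IsRegularLocalRing B ↔ (maximalIdeal B).spanFinrank = dB := by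
    rw [isRegularLocalRing_iff, hdB]; exact_mod_cast Iff.rfl
  have hreg0 : IsRegularLocalRing (B ⧸ (maximalIdeal A).map (algebraMap A B)) ↔
      (maximalIdeal (B ⧸ (maximalIdeal A).map (algebraMap A B))).spanFinrank = d0 := by
    rw [isRegularLocalRing_iff, hd0]; exact_mod_cast Iff.rfl
  have hdimeq : ringKrullDim B = ringKrullDim A +
      ringKrullDim (B ⧸ (maximalIdeal A).map (algebraMap A B)) ↔ dB = dA + d0 := by
    rw [hdA, hdB, hd0]; exact_mod_cast Iff.rfl
  rw [← spanFinrank_maximalIdeal_eq_finrank_cotangentSpace,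
    ← spanFinrank_maximalIdeal_eq_finrank_cotangentSpace,
    ← spanFinrank_maximalIdeal_eq_finrank_cotangentSpace]
  tfae_have 1 → 4 := by
    rintro ⟨h1, h2⟩
    rw [hregB] at h1
    rw [hregA, hreg0, hdimeq]
    omega
  tfae_have 4 → 1 := by
    rintro ⟨h1, h2, h3⟩
    rw [hregA] at h1
    rw [hreg0] at h2
    rw [hdimeq] at h3
    rw [hregB]
    omega
  tfae_have 4 → 3 := by
    rintro ⟨h1, h2, h3⟩
    refine ⟨h1, h2, ?_⟩
    have hB : IsRegularLocalRing B := by
      have h1' := hregA.mp h1
      have h2' := hreg0.mp h2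
      have h3' := hdimeq.mp h3
      rw [hregB]
      omega
    have hCM : LocCoh.IsCohenMacaulayLocalRing B :=
      Groth.Agent.Lib.Helper5.isCohenMacaulayLocalRing_of_isRegularLocalRing B
    exact Groth.Agent.S2082.result h3
  tfae_have 3 → 4 := by
    rintro ⟨h1, h2, h3⟩
    refine ⟨h1, h2, ?_⟩
    rw [Groth.Agent.Lib.Helper28.ringKrullDim_eq_add_of_flat (R := A) (S := B) _ rfl, add_comm]
  tfae_have 3 → 2 := by
    rintro ⟨h1, h2, h3⟩
    exact ⟨Groth.Agent.Lib.Helper28.isRegularLocalRing_of_flat_of_isRegularLocalRing_fibre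
      (R := A) (S := B) _ rfl, h2, h3⟩
  tfae_have 2 → 3 := by
    rintro ⟨h1, h2, h3⟩
    exact ⟨Groth.Agent.Lib.Helper28.isRegularLocalRing_of_flat_of_isLocalHom A B, h2, h3⟩
  tfae_finish

end Groth.Agent.S2470
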