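import Groth.Statements.S2591
import Groth.Agent.Lib.Seat56Strat

set_option autoImplicit false
set_option linter.style.haveILetI false
open TensorProduct
universe u
open EGA43

namespace Groth.Agent.S2591

/-- Let A be a commutative ring, B a finitely presented A-algebra and M a finitely presented B-module
which is flat over A. Then there are finitely many elements f₁, …, fₙ of A generating the unit ideal
such that, for each i < n, writing A' for the localization of A at f_{i+1} modulo the ideal
generated by f₁, …, fᵢ, the module A' ⊗_A M is free over A'. -/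
theorem result {A B : Type u} [CommRing A] [CommRing B] [Algebra A B]
    [Algebra.FinitePresentation A B] (M : Type u) [AddCommGroup M] [Module B M] [Module A M] [IsScalarTower A B M]
    [Module.FinitePresentation B M] [Module.Flat A M] :
    ∃ l : List A, Ideal.span {a | a ∈ l} = ⊤ ∧
      ∀ (i : ℕ) (hi : i < l.length),
        letI J : Ideal (Localization.Away l[i]) :=
          (Ideal.span {a | a ∈ l.take i}).map (algebraMap A (Localization.Away l[i]))
        Module.Free (Localization.Away l[i] ⧸ J) ((Localization.Away l[i] ⧸ J) ⊗[A] M) := by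
  obtain ⟨R₀, _, _, S₀, _, _, _, _, _, _, M₀, _, _, _, _, _, _, f, hR₀, hS₀, hM₀fin, hM₀flat,
    hpush, hbc⟩ := Groth.Agent.Lib.Helper3.FlatModelMod.exists_flat_module_model A B M
  -- the `R₀`-module structure on `M`
  letI : Module R₀ M := Module.compHom M (algebraMap R₀ A)
  have hsmul : ∀ (r : R₀) (m : M), r • m = algebraMap R₀ A r • m := fun _ _ => rfl
  haveI : IsScalarTower R₀ A M := ⟨fun r a m => by
    rw [hsmul, Algebra.smul_def, mul_smul]⟩
  haveI : IsScalarTower R₀ S₀ M := ⟨fun r s₀ m => by
    rw [hsmul, ← algebraMap_smul B (r • s₀) m, ← algebraMap_smul B s₀ m,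
      ← algebraMap_smul B (algebraMap R₀ A r), Algebra.smul_def, map_mul, mul_smul,
      ← IsScalarTower.algebraMap_apply R₀ S₀ B, ← IsScalarTower.algebraMap_apply R₀ A B]⟩
  have hbcA : IsBaseChange A (f.restrictScalars R₀) :=
    Groth.Agent.Lib.Helper3.FlatLoc.isBaseChange_restrictScalars_of_isPushout f hbc
  haveI : IsNoetherianRing R₀ := Algebra.FiniteType.isNoetherianRing ℤ R₀
  obtain ⟨l₀, hl₀, hfree⟩ := Groth.Agent.Lib.Seat56.Strat.exists_stratification R₀ S₀ M₀
  refine ⟨l₀.map (algebraMap R₀ A), ?_, ?_⟩
  · have : {a | a ∈ l₀.map (algebraMap R₀ A)} = (algebraMap R₀ A) '' {a | a ∈ l₀} := by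
      ext a
      simp [List.mem_map]
    rw [this, ← Ideal.map_span, hl₀, Ideal.map_top]
  · intro i hi
    have hi₀ : i < l₀.length := by simpa using hi
    set t : A := (l₀.map (algebraMap R₀ A))[i] with ht
    have ht' : t = algebraMap R₀ A l₀[i] := List.getElem_map _
    set J : Ideal (Localization.Away t) :=
      (Ideal.span {a | a ∈ (l₀.map (algebraMap R₀ A)).take i}).map
        (algebraMap A (Localization.Away t)) with hJ
    have hzero : ∀ a ∈ l₀.take i, algebraMap R₀ (Localization.Away t ⧸ J) a = 0 := by
      intro a ha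
      rw [IsScalarTower.algebraMap_apply R₀ A (Localization.Away t ⧸ J),
        IsScalarTower.algebraMap_apply A (Localization.Away t) (Localization.Away t ⧸ J),
        Ideal.Quotient.algebraMap_eq, Ideal.Quotient.eq_zero_iff_mem]
      refine Ideal.mem_map_of_mem _ (Ideal.subset_span ?_)
      rw [Set.mem_ofPred_eq, ← List.map_take]
      exact List.mem_map_of_mem ha
    have hunit : IsUnit (algebraMap R₀ (Localization.Away t ⧸ J) l₀[i]) := by
      rw [IsScalarTower.algebraMap_apply R₀ A (Localization.Away t ⧸ J), ← ht',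
        IsScalarTower.algebraMap_apply A (Localization.Away t) (Localization.Away t ⧸ J)]
      exact (IsLocalization.Away.algebraMap_isUnit t).map _
    haveI := hfree i hi₀ (Localization.Away t ⧸ J) hzero hunit
    have e2 : (Localization.Away t ⧸ J) ⊗[A] (A ⊗[R₀] M₀) ≃ₗ[Localization.Away t ⧸ J]
        (Localization.Away t ⧸ J) ⊗[R₀] M₀ :=
      AlgebraTensorModule.cancelBaseChange R₀ A (Localization.Away t ⧸ J)
        (Localization.Away t ⧸ J) M₀
    have e3 : (Localization.Away t ⧸ J) ⊗[A] (A ⊗[R₀] M₀) ≃ₗ[Localization.Away t ⧸ J]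
        (Localization.Away t ⧸ J) ⊗[A] M :=
      AlgebraTensorModule.congr (LinearEquiv.refl _ _) hbcA.equiv
    exact Module.Free.of_equiv (e2.symm.trans e3)

end Groth.Agent.S2591
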