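import Groth.Statements.S2906
import Groth.Agent.S1134
import Groth.Agent.S1402
import Groth.Agent.S0079
import Groth.Agent.S0081
import Groth.Agent.Lib.Helper3IrrTopB

set_option autoImplicit false
open CategoryTheory CategoryTheory.Limits AlgebraicGeometry Opposite
universe u
open SGA1

namespace Groth.Agent.S2906

set_option backward.isDefEq.respectTransparency false
set_option backward.isDefEq.respectTransparency.types false

/-- a quasi-compact ind-quasi-affine morphism is quasi-affine -/
lemma isQuasiAffine_of_ind {X Y : Scheme.{u}} (f : X ⟶ Y) [QuasiCompact f]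
    (hf : MoreMor.IsIndQuasiAffineHom f) : Mor2.IsQuasiAffine f := by
  refine ⟨inferInstance, fun V hV => ?_⟩
  have hc : IsCompact ((⊤ : (f ⁻¹ᵁ V).toScheme.Opens) : Set (f ⁻¹ᵁ V).toScheme) := by
    have : CompactSpace (f ⁻¹ᵁ V).toScheme :=
      isCompact_iff_compactSpace.mp (f.isCompact_preimage hV.isCompact)
    exact isCompact_univ
  have h := hf V hV ⊤ hc
  exact Scheme.IsQuasiAffine.of_isAffineHom (Scheme.topIso _).inv

/-- Let g : S' ⟶ S be flat, surjective and quasi-compact. Then every descent datum relative to g whose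
underlying scheme is etale, separated and quasi-compact over S' is isomorphic to the canonical
descent datum of a scheme etale, separated and quasi-compact over S. (Descent data relative to g are
taken in functor-of-points form.) -/
theorem result {S' S : Scheme.{u}} (g : S' ⟶ S) [Flat g] [Surjective g] [QuasiCompact g]
    (D : Desc.SchDD g) [QuasiCompact D.obj.hom] [IsSeparated D.obj.hom] [Etale D.obj.hom] :
    ∃ U : Over S, QuasiCompact U.hom ∧ IsSeparated U.hom ∧ Etale U.hom ∧ Nonempty ((Desc.toDD g).obj U ≅ D) := by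
  have : LocallyQuasiFinite D.obj.hom :=
    Groth.Agent.Lib.Helper3.IrrTop.locallyQuasiFinite_of_unramified D.obj.hom
  have hqa : Mor2.IsQuasiAffine D.obj.hom :=
    isQuasiAffine_of_ind D.obj.hom (Groth.Agent.S1402.result D.obj.hom)
  obtain ⟨U, ⟨e⟩⟩ := Groth.Agent.S1134.result g D hqa
  have hg : (@Surjective ⊓ @Flat ⊓ @QuasiCompact : MorphismProperty Scheme.{u}) g :=
    ⟨⟨inferInstance, inferInstance⟩, inferInstance⟩
  have hiso : IsIso e.hom.hom.left := by
    refine ⟨e.inv.hom.left, ?_, ?_⟩
    · have h1 : (e.hom ≫ e.inv).hom.left = (𝟙 ((Desc.toDD g).obj U)  : _ ⟶ _).hom.left := by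
        rw [e.hom_inv_id]
      exact h1
    · have h1 : (e.inv ≫ e.hom).hom.left = (𝟙 D : _ ⟶ _).hom.left := by
        rw [e.inv_hom_id]
      exact h1
  have hw : pullback.fst g U.hom = e.hom.hom.left ≫ D.obj.hom := (Over.w e.hom.hom).symm
  have := Groth.Agent.S0079.result.{u}
  have := Groth.Agent.S0081.result.{u}
  refine ⟨U, ?_, ?_, ?_, ⟨e⟩⟩
  · refine MorphismProperty.of_pullback_fst_of_descendsAlong (P := @QuasiCompact)
      (Q := @Surjective ⊓ @Flat ⊓ @QuasiCompact) (f := g) hg ?_
    rw [hw]; infer_instance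
  · refine MorphismProperty.of_pullback_fst_of_descendsAlong (P := @IsSeparated)
      (Q := @Surjective ⊓ @Flat ⊓ @QuasiCompact) (f := g) hg ?_
    rw [hw]; infer_instance
  · refine MorphismProperty.of_pullback_fst_of_descendsAlong (P := @Etale)
      (Q := @Surjective ⊓ @Flat ⊓ @QuasiCompact) (f := g) hg ?_
    rw [hw]; infer_instance

end Groth.Agent.S2906
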