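import Groth.Statements.S2933
import Groth.Agent.Lib.Seat12Hartshorne
import Groth.Agent.Lib.Helper20IsoDepth
-- import your own Groth.Agent.* helpers here

set_option autoImplicit false
universe u
open LocCoh

namespace Groth.Agent.S2933

/-- Let A be a Noetherian ring with connected spectrum and d ≥ 1 an integer such that every prime p with
dim A_p ≥ d has depth A_p ≥ 2. Then for any two minimal primes p', p'' of A there is a finite
sequence of minimal primes starting at p' and ending at p'' such that any two consecutive members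
are both contained in some prime of height at most d − 1 (Spec A is connected in codimension d − 1). -/
theorem result (A : Type u) [CommRing A] [IsNoetherianRing A] [ConnectedSpace (PrimeSpectrum A)] (d : ℕ) (hd : 1 ≤ d) (h : ∀ p : PrimeSpectrum A, (d : ℕ∞) ≤ p.asIdeal.height → (2 : ℕ∞) ≤ LocCoh.depth (Localization.AtPrime p.asIdeal) (Localization.AtPrime p.asIdeal)) (p' p'' : PrimeSpectrum A) (hp' : p'.asIdeal ∈ minimalPrimes A) (hp'' : p''.asIdeal ∈ minimalPrimes A) : ∃ l : List (PrimeSpectrum A), l.head? = some p' ∧ l.getLast? = some p'' ∧ (∀ p ∈ l, p.asIdeal ∈ minimalPrimes A) ∧ List.IsChain (fun p q => ∃ r : PrimeSpectrum A, p ≤ r ∧ q ≤ r ∧ r.asIdeal.height ≤ (d - 1 : ℕ)) l := by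
  have key := Groth.Agent.Lib.Seat12.Hartshorne.reflTransGen_link (A := A) d hd (by
    intro p hp
    obtain ⟨a, ha, b, hb, hreg, hab⟩ :=
      Groth.Agent.Lib.Helper20.IsoDepth.exists_regular_pair (h p hp)
    refine ⟨a, ha, b, hb, hreg, fun u v huv => ?_⟩
    obtain ⟨w, hw⟩ := hab u ⟨v, by simpa [smul_eq_mul] using huv⟩
    exact ⟨w, by simpa [smul_eq_mul] using hw⟩) p' p'' hp' hp''
  obtain ⟨l, hchain, hlast⟩ := List.exists_isChain_cons_of_relationReflTransGen key
  refine ⟨p' :: l, rfl, ?_, ?_, ?_⟩
  · rw [List.getLast?_eq_some_getLast (List.cons_ne_nil _ _), hlast]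
  · exact List.IsChain.induction (fun x => x.asIdeal ∈ minimalPrimes A) _ hchain
      (fun x y hxy _ => hxy.2.1) (fun _ => hp')
  · exact hchain.imp fun p q hpq => hpq.2.2

end Groth.Agent.S2933
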