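import Groth.Statements.S2985
import Groth.Agent.S5245
import Groth.Agent.Lib.Helper25MultRigid2

set_option autoImplicit false
universe u
open TensorProduct SGA3b
open SGA3b

namespace Groth.Agent.S2985

/-- Case of a commutative target, over a local base: Let R be a local ring, H = Spec A an R-group of
multiplicative type and of finite type, G = Spec C a commutative affine R-group (C cocommutative)
with C of finite presentation over R, and u, v : H ⟶ G homomorphisms (bialgebra maps φ, ψ : C → A)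
which agree on the closed fibre: φ c − ψ c lies in 𝔪A for every c. Then u = v. (Affine group schemes
over an affine base are taken in Hopf-algebra form; base change is the tensor product.) -/
theorem result (R : Type u) [CommRing R] (A : Type u) [CommRing A] [HopfAlgebra R A] [IsLocalRing R] (hft : Algebra.FiniteType R A) (h : IsMultType R A)
    (C : Type u) [CommRing C] [HopfAlgebra R C] [Coalgebra.IsCocomm R C] (hC : Algebra.FinitePresentation R C)
    (φ ψ : C →ₐc[R] A) (hs : ∀ c : C, φ c - ψ c ∈ Ideal.map (algebraMap R A) (IsLocalRing.maximalIdeal R)) :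
    φ = ψ := by
  classical
  let 𝔪 : Ideal R := IsLocalRing.maximalIdeal R
  have hmap : ∀ a : A, a ∈ Ideal.map (algebraMap R A) 𝔪 ↔ a ∈ 𝔪 • (⊤ : Submodule R A) := by
    intro a
    rw [Ideal.smul_top_eq_map]
    rfl
  set ψ' : C →ₐc[R] A := ψ.comp Groth.Agent.Lib.Helper25.antipodeBialgHom with hψ'
  set θ : C →ₐc[R] A := (WithConv.toConv φ * WithConv.toConv ψ').ofConv with hθ
  have hθa : WithConv.toConv (θ : C →ₐ[R] A) =
      WithConv.toConv (φ : C →ₐ[R] A) * (WithConv.toConv (ψ : C →ₐ[R] A))⁻¹ := rfl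
  have hinv : WithConv.toConv (ψ : C →ₐ[R] A) * (WithConv.toConv (ψ : C →ₐ[R] A))⁻¹ = 1 :=
    mul_inv_cancel _
  have e1 : ∀ c, θ c = LinearMap.mul' R A (TensorProduct.map (φ : C →ₗ[R] A) (ψ' : C →ₗ[R] A)
      (CoalgebraStruct.comul (R := R) c)) := fun c => rfl
  have e2 : ∀ c, algebraMap R A (CoalgebraStruct.counit (R := R) c) =
      LinearMap.mul' R A (TensorProduct.map (ψ : C →ₗ[R] A) (ψ' : C →ₗ[R] A)
      (CoalgebraStruct.comul (R := R) c)) := by
    intro c
    have := congrArg (fun f : WithConv (C →ₐ[R] A) => f.ofConv c) hinv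
    exact this.symm
  have hθ1 : ∀ c, θ c = algebraMap R A (CoalgebraStruct.counit (R := R) c) := by
    apply Groth.Agent.S5245.result R A hft h C (Or.inr hC) θ
    intro c
    rw [hmap]
    have hsplit : TensorProduct.map (φ : C →ₗ[R] A) (ψ' : C →ₗ[R] A) =
        TensorProduct.map ((φ : C →ₗ[R] A) - (ψ : C →ₗ[R] A)) (ψ' : C →ₗ[R] A) +
          TensorProduct.map (ψ : C →ₗ[R] A) (ψ' : C →ₗ[R] A) := by
      rw [← TensorProduct.map_add_left, sub_add_cancel]
    rw [e1, e2, hsplit, LinearMap.add_apply, map_add, add_sub_cancel_right]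
    have h1 := Groth.Agent.Lib.Helper25.map_mem_smul_top_of_forall 𝔪 ⊤
      ((φ : C →ₗ[R] A) - (ψ : C →ₗ[R] A))
      (ψ' : C →ₗ[R] A) (fun p => (hmap _).mp (hs p)) (fun p => by
        rw [Submodule.top_smul]; exact Submodule.mem_top)
      (CoalgebraStruct.comul (R := R) c)
    rw [Ideal.mul_top] at h1
    exact Groth.Agent.Lib.Helper25.map_mem_smul_top (LinearMap.mul' R A) 𝔪 h1
  have h3 : WithConv.toConv (φ : C →ₐ[R] A) * (WithConv.toConv (ψ : C →ₐ[R] A))⁻¹ = 1 := by
    rw [← hθa]
    apply WithConv.ofConv_injective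
    apply AlgHom.ext
    intro c
    exact hθ1 c
  have h4 : WithConv.toConv (φ : C →ₐ[R] A) = WithConv.toConv (ψ : C →ₐ[R] A) :=
    mul_inv_eq_one.mp h3
  have h5 : (φ : C →ₐ[R] A) = (ψ : C →ₐ[R] A) := WithConv.toConv_injective h4
  ext c
  exact congrArg (fun f : C →ₐ[R] A => f c) h5

end Groth.Agent.S2985
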