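import Groth.Statements.S3047
import Groth.Agent.Lib.Seat3ShStalk
import Groth.Agent.Lib.Helper9EtPoint
import Groth.Agent.Lib.Seat38PullExact

set_option autoImplicit false
open CategoryTheory CategoryTheory.Limits AlgebraicGeometry Opposite
universe u
open EtDesc

namespace Groth.Agent.S3047

open Groth.Agent.Lib.Seat3.ShStalk

/-- the points of the small étale site of `X` given by geometric points factoring through `f` -/
def ptsThrough {X' X : Scheme.{u}} (f : X' ⟶ X) :
    Set (GrothendieckTopology.Point.{u} X.smallEtaleTopology) :=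
  {Φ | ∃ (Ω : Type u) (_ : Field Ω) (_ : IsSepClosed Ω) (ξ : Spec (CommRingCat.of Ω) ⟶ X'),
    Φ = Scheme.pointSmallEtale (ξ ≫ f)}

/-- every point of an étale `X`-scheme is hit by a geometric point factoring through the
surjective morphism `f` -/
lemma exists_lift_through {X' X : Scheme.{u}} (f : X' ⟶ X) [Surjective f] (W : X.Etale)
    (w : W.left) :
    ∃ (Ω : Type u) (_ : Field Ω) (_ : IsSepClosed Ω) (ξ : Spec (CommRingCat.of Ω) ⟶ X')
      (x : (Scheme.pointSmallEtale (ξ ≫ f)).fiber.obj W),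
      x.left (default : Spec (CommRingCat.of Ω)) = w := by
  obtain ⟨x', hx'⟩ := Surjective.surj (f := f) (W.hom w)
  obtain ⟨p, hp1, hp2⟩ := Scheme.Pullback.exists_preimage_pullback w x' hx'.symm
  let P := pullback W.hom f
  let κ := P.residueField p
  let ξ'' : Spec (CommRingCat.of (AlgebraicClosure κ)) ⟶ P :=
    Spec.map (CommRingCat.ofHom (algebraMap κ (AlgebraicClosure κ))) ≫ P.fromSpecResidueField p
  refine ⟨AlgebraicClosure κ, inferInstance, inferInstance, ξ'' ≫ pullback.snd W.hom f,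
    Over.homMk (ξ'' ≫ pullback.fst W.hom f) ?_, ?_⟩
  · simp [pullback.condition]
  · have h : ξ'' (default : Spec (CommRingCat.of (AlgebraicClosure κ))) = p :=
      Scheme.fromSpecResidueField_apply p _
    change (ξ'' ≫ pullback.fst W.hom f) _ = w
    rw [Scheme.Hom.comp_apply, h, hp1]

lemma ptsThrough_detect {X' X : Scheme.{u}} (f : X' ⟶ X) [Surjective f] ⦃W : X.Etale⦄
    (T : Sieve W)
    (h : ∀ Φ ∈ ptsThrough f, ∀ x : Φ.fiber.obj W,
      ∃ (Y : X.Etale) (g : Y ⟶ W) (_ : T g) (y : Φ.fiber.obj Y), Φ.fiber.map g y = x) :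
    T ∈ X.smallEtaleTopology W := by
  obtain ⟨α, Z, p, rfl⟩ := T.exists_eq_ofArrows
  rw [Scheme.ofArrows_mem_smallEtaleTopology_iff]
  ext w
  simp only [Set.mem_iUnion, Set.mem_range, Set.mem_univ, iff_true]
  obtain ⟨Ω, _, _, ξ, x, hx⟩ := exists_lift_through f W w
  obtain ⟨Y, g, hg, y, hy⟩ := h (Scheme.pointSmallEtale (ξ ≫ f)) ⟨Ω, _, _, ξ, rfl⟩ x
  obtain ⟨Z', q, _, ⟨i⟩, rfl⟩ := hg
  refine ⟨i, q.left (y.left (default : Spec (CommRingCat.of Ω))), ?_⟩
  rw [← hx, ← hy]
  rfl

/-- `pullSh f` reflects isomorphisms for surjective `f` -/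
lemma isIso_of_isIso_pull {X' X : Scheme.{u}} (f : X' ⟶ X) [Surjective f] {F G : EtDesc.Sh X}
    (v : F ⟶ G) (hv : IsIso ((EtDesc.pullSh f).map v)) : IsIso v := by
  have : AB5OfSize.{u, u} (Type (u + 1)) := AB5OfSize_of_univLE.{u, u, u + 1, u + 1} _
  have hb : ∀ Φ ∈ ptsThrough f, Function.Bijective (Φ.presheafFiber.map v.hom) := by
    rintro Φ ⟨Ω, _, _, ξ, rfl⟩
    have hnat := (stalkPullIsoSh f ξ).hom.naturality v
    have hiso : IsIso ((stalkSh (ξ ≫ f)).map v) := by
      have e : (stalkSh (ξ ≫ f)).map v = (stalkPullIsoSh f ξ).hom.app F ≫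
          (EtDesc.pullSh f ⋙ stalkSh ξ).map v ≫ (stalkPullIsoSh f ξ).inv.app G := by
        rw [← Category.assoc, ← hnat, Category.assoc, Iso.hom_inv_id_app, Category.comp_id]
      rw [e]
      have : IsIso ((EtDesc.pullSh f ⋙ stalkSh ξ).map v) := by
        rw [Functor.comp_map]; infer_instance
      infer_instance
    exact (isIso_iff_bijective _).mp hiso
  have : Presheaf.IsLocallyInjective X.smallEtaleTopology v.hom :=
    Groth.Agent.Lib.Helper9.SpPoint.isLocallyInjective_of_points.{u}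
      (ptsThrough f) (ptsThrough_detect f) v.hom (fun Φ hΦ => (hb Φ hΦ).1)
  have : Presheaf.IsLocallySurjective X.smallEtaleTopology v.hom :=
    Groth.Agent.Lib.Helper9.SpPoint.isLocallySurjective_of_points.{u}
      (ptsThrough f) (ptsThrough_detect f) v.hom (fun Φ hΦ => (hb Φ hΦ).2)
  have : Mono v := Sheaf.mono_of_isLocallyInjective v
  have : Epi v := Sheaf.epi_of_isLocallySurjective' v
  exact isIso_of_mono_of_epi v

/-- For a surjective morphism of schemes f : X' -> X, the inverse image functor f^* on sheaves of sets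
for the small etale sites is faithful and reflects isomorphisms. -/
theorem result {X' X : Scheme.{u}} (f : X' ⟶ X) [Surjective f] :
    (EtDesc.pullSh f).Faithful ∧ (EtDesc.pullSh f).ReflectsIsomorphisms := by
  refine ⟨⟨?_⟩, ⟨fun v hv => isIso_of_isIso_pull f v hv⟩⟩
  intro F G a b hab
  have h1 : IsIso ((EtDesc.pullSh f).map (equalizer.ι a b)) := by
    have hl := isLimitForkMapOfIsLimit (EtDesc.pullSh f) (equalizer.condition a b)
      (equalizerIsEqualizer a b)
    exact isIso_limit_cone_parallelPair_of_eq hab hl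
  have : IsIso (equalizer.ι a b) := isIso_of_isIso_pull f _ h1
  exact (cancel_epi (equalizer.ι a b)).mp (equalizer.condition a b)

end Groth.Agent.S3047
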