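import Groth.Statements.S3215
import Groth.Agent.Lib.Seat14QuadHyp

set_option autoImplicit false
universe u
open SGA7II

namespace Groth.Agent.S3215

/-- Let A be a commutative ring and Q(x) = sum over pairs i <= j of a_{ij} x_i x_j a quadratic form in
2m variables on the free module A^{2m} (the source allows a locally free module, which is free
Zariski-locally; the variables indexed by two copies of Fin m, ordered first copy then second),
whose polar bilinear form (matrix entries 2a_{ii} on the diagonal, a_{ij} for i < j) has invertible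
determinant (Q is ordinary). Then there are finitely many etale A-algebras B_t whose spectra jointly
cover Spec A and, over each B_t, an invertible matrix g with Q(g x) = sum_j x_j x_{m+j}, the split
form. -/
theorem result (A : Type u) [CommRing A] (m : ℕ)
    (a : (Fin m ⊕ Fin m) → (Fin m ⊕ Fin m) → A) :
    let rk : Fin m ⊕ Fin m → ℕ := Sum.elim Fin.val (fun k => m + k.val)
    let QB : ∀ (B : Type u) [CommRing B] [Algebra A B], ((Fin m ⊕ Fin m) → B) → B :=
      fun B _ _ x => ∑ i, ∑ j, if rk i ≤ rk j then algebraMap A B (a i j) * x i * x j else 0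
    IsUnit (Matrix.det (Matrix.of fun i j : Fin m ⊕ Fin m =>
      if i = j then a i i + a i i else if rk i ≤ rk j then a i j else a j i)) →
    ∃ (n : ℕ) (B : Fin n → Type u) (_ : ∀ t, CommRing (B t)) (_ : ∀ t, Algebra A (B t)),
      (∀ t, Algebra.Etale A (B t)) ∧
      (∀ p : PrimeSpectrum A, ∃ (t : Fin n) (q : PrimeSpectrum (B t)),
        q.asIdeal.comap (algebraMap A (B t)) = p.asIdeal) ∧
      ∀ t, ∃ g : Matrix (Fin m ⊕ Fin m) (Fin m ⊕ Fin m) (B t), IsUnit g.det ∧
        ∀ x : Fin m ⊕ Fin m → B t, QB (B t) (g.mulVec x) = ∑ j : Fin m, x (Sum.inl j) * x (Sum.inr j) := by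
  intro rk QB hunit
  classical
  -- the upper triangular matrix of the form
  let c : Matrix (Fin m ⊕ Fin m) (Fin m ⊕ Fin m) A :=
    Matrix.of fun i j => if rk i ≤ rk j then a i j else 0
  have hrk : ∀ i j, rk i = rk j → i = j := by
    intro i j h
    rcases i with i | i <;> rcases j with j | j
    · simp only [rk, Sum.elim_inl] at h
      rw [Fin.ext h]
    · simp only [rk, Sum.elim_inl, Sum.elim_inr] at h
      have := i.2
      omega
    · simp only [rk, Sum.elim_inl, Sum.elim_inr] at h
      have := j.2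
      omega
    · simp only [rk, Sum.elim_inr] at h
      rw [Fin.ext (Nat.add_left_cancel h)]
  have hM : c + c.transpose = Matrix.of fun i j : Fin m ⊕ Fin m =>
      if i = j then a i i + a i i else if rk i ≤ rk j then a i j else a j i := by
    ext i j
    simp only [c, Matrix.add_apply, Matrix.transpose_apply, Matrix.of_apply]
    by_cases hij : i = j
    · subst hij
      simp
    · rw [if_neg hij]
      have hne : rk i ≠ rk j := fun h => hij (hrk i j h)
      by_cases hle : rk i ≤ rk j
      · rw [if_pos hle, if_pos hle, if_neg (by omega), add_zero]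
      · rw [if_neg hle, if_neg hle, if_pos (by omega), zero_add]
  rw [← hM] at hunit
  have hQB : ∀ (B : Type u) [CommRing B] [Algebra A B] (x : Fin m ⊕ Fin m → B),
      QB B x = Groth.Agent.Lib.Seat14.QuadMat.Qm (c.map (algebraMap A B)) x := by
    intro B _ _ x
    rw [Groth.Agent.Lib.Seat14.QuadMat.Qm_apply]
    simp only [QB, dotProduct, Matrix.mulVec, Finset.mul_sum]
    refine Finset.sum_congr rfl fun i _ => Finset.sum_congr rfl fun j _ => ?_
    simp only [c, Matrix.map_apply, Matrix.of_apply]
    split_ifs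
    · ring
    · simp
  have hloc : ∀ p : PrimeSpectrum A, ∃ N : Groth.Agent.Lib.Seat14.EtLoc.EtNbhd A p,
      ∃ g : Matrix (Fin m ⊕ Fin m) (Fin m ⊕ Fin m) N.B, IsUnit g.det ∧
        ∀ x : Fin m ⊕ Fin m → N.B, QB N.B (g.mulVec x) =
          ∑ j : Fin m, x (Sum.inl j) * x (Sum.inr j) := by
    intro p
    have hdet : (c + c.transpose).det ∉ p.asIdeal := fun h =>
      p.isPrime.ne_top (Ideal.eq_top_of_isUnit_mem _ h hunit)
    obtain ⟨N, e, f, hS⟩ := Groth.Agent.Lib.Seat14.QuadHyp.exists_hypSystem m A p (Fin m ⊕ Fin m) c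
      (by simp; ring) hdet
    refine ⟨N, Groth.Agent.Lib.Seat14.QuadMat.HypSystem.toMatrix e f, hS.isUnit_det_toMatrix, ?_⟩
    intro x
    rw [hQB]
    exact hS.Qm_toMatrix_mulVec x
  have key := Groth.Agent.Lib.Seat14.EtLoc.exists_finite_family (A := A)
    (fun B _ _ => ∃ g : Matrix (Fin m ⊕ Fin m) (Fin m ⊕ Fin m) B, IsUnit g.det ∧
      ∀ x : Fin m ⊕ Fin m → B, QB B (g.mulVec x) = ∑ j : Fin m, x (Sum.inl j) * x (Sum.inr j)) hloc
  obtain ⟨n, B, i1, i2, h1, h2, h3⟩ := key
  exact ⟨n, B, i1, i2, h1, h2, h3⟩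

end Groth.Agent.S3215
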