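import Groth.Statements.S3450
import Groth.Agent.Lib.Seat15CoheightOne
import Groth.Agent.Lib.Seat15Chevalley
import Groth.Agent.Lib.Seat15NormDVR

set_option autoImplicit false
universe u
open EGA43

namespace Groth.Agent.S3450

/-- Let A be a Noetherian local ring which is reduced, complete (for the topology defined by its maximal
ideal m) and not a field. Then for every n there are finitely many local homomorphisms φ_i : A → V_i
into discrete valuation rings, each making V_i a finite A-algebra, such that the intersection of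
their kernels is contained in mⁿ. (Equivalently: such finite intersections form a base of
neighbourhoods of 0 for the m-adic topology.) -/
theorem result (A : Type u) [CommRing A] [IsNoetherianRing A]
    [IsLocalRing A] [IsReduced A] [IsAdicComplete (IsLocalRing.maximalIdeal A) A] (hA : ¬ IsField A) (n : ℕ) :
    ∃ (k : ℕ) (V : Fin k → Type u) (_ : ∀ i, CommRing (V i)) (_ : ∀ i, IsDomain (V i))
      (_ : ∀ i, IsDiscreteValuationRing (V i)) (φ : ∀ i, A →+* V i),
      (∀ i, IsLocalHom (φ i) ∧ (φ i).Finite) ∧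
        ⨅ i, RingHom.ker (φ i) ≤ IsLocalRing.maximalIdeal A ^ n := by
  classical
  -- the family of finite intersections of coheight-one primes
  let P : Ideal A → Prop := fun p =>
    p.IsPrime ∧ ringKrullDim (A ⧸ p) ≤ 1 ∧ p ≠ IsLocalRing.maximalIdeal A
  let 𝓕 : Set (Ideal A) := {a | ∃ s : Finset (Ideal A), (∀ p ∈ s, P p) ∧ a = s.inf id}
  have hne : 𝓕.Nonempty := ⟨⊤, ∅, by simp, by simp⟩
  have hdir : ∀ a ∈ 𝓕, ∀ b ∈ 𝓕, ∃ c ∈ 𝓕, c ≤ a ⊓ b := by
    rintro a ⟨s, hs, rfl⟩ b ⟨t, ht, rfl⟩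
    refine ⟨(s ∪ t).inf id, ⟨s ∪ t, ?_, rfl⟩, ?_⟩
    · intro p hp
      rcases Finset.mem_union.mp hp with h | h
      · exact hs p h
      · exact ht p h
    · rw [Finset.inf_union]
  have hinf : sInf 𝓕 = ⊥ := by
    rw [eq_bot_iff]
    intro x hx
    rw [Ideal.mem_bot]
    by_contra hx0
    obtain ⟨p, hp, hxp, hdim, hpm⟩ :=
      Groth.Agent.Lib.Seat15.CoheightOne.exists_prime_of_reduced A hA x hx0
    apply hxp
    have hmem : p ∈ 𝓕 := ⟨{p}, by
      intro q hq
      rw [Finset.mem_singleton] at hq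
      subst hq
      exact ⟨hp, hdim, hpm⟩, by simp⟩
    exact (Ideal.mem_sInf.mp hx) hmem
  obtain ⟨a, ⟨s, hs, rfl⟩, hle⟩ :=
    Groth.Agent.Lib.Seat15.Chevalley.chevalley A 𝓕 hne hdir hinf n
  -- enumerate
  let e : s ≃ Fin s.card := s.equivFin
  have hq : ∀ i : Fin s.card,
      Nonempty (Groth.Agent.Lib.Seat15.NormDVR.DVRQuot A (e.symm i).1) := by
    intro i
    obtain ⟨hp, hdim, hpm⟩ := hs _ (e.symm i).2
    exact Groth.Agent.Lib.Seat15.NormDVR.exists_dvr_quotient A _ hdim hpm
  let Q := fun i => (hq i).some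
  refine ⟨s.card, fun i => (Q i).V, fun i => (Q i).cr, fun i => (Q i).dom, fun i => (Q i).dvr,
    fun i => (Q i).φ, fun i => ⟨(Q i).loc, (Q i).fin⟩, ?_⟩
  refine le_trans ?_ hle
  intro x hx
  rw [Ideal.mem_iInf] at hx
  rw [Submodule.mem_finsetInf]
  intro p hp
  have h1 := hx (e ⟨p, hp⟩)
  rw [(Q (e ⟨p, hp⟩)).ker, e.symm_apply_apply] at h1
  exact h1

end Groth.Agent.S3450
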