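import Groth.Statements.S3460

set_option autoImplicit false
open CategoryTheory AlgebraicGeometry
universe u
open EGA43

namespace Groth.Agent.S3460

/-- If `f` factors through the open `W` (as `k ≫ W.ι`) then `f ∣_ W` is `k` up to the
isomorphism `(f ⁻¹ᵁ W).ι`. -/
private lemma isProper_restrict_of_fac {X Y : Scheme.{u}} (f : X ⟶ Y) (W : Y.Opens)
    (k : X ⟶ W.toScheme) (hk : k ≫ W.ι = f) :
    IsProper (f ∣_ W) ↔ IsProper k := by
  have htop : f ⁻¹ᵁ W = ⊤ := by
    ext x
    simp only [Scheme.Hom.coe_preimage, Set.mem_preimage, SetLike.mem_coe,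
      TopologicalSpace.Opens.coe_top, Set.mem_univ, iff_true]
    rw [← hk]
    simp only [Scheme.Hom.comp_base, TopCat.hom_comp, ContinuousMap.comp_apply]
    exact (k.base x).2
  have hiso : IsIso (f ⁻¹ᵁ W).ι := by
    apply isIso_of_isOpenImmersion_of_opensRange_eq_top
    rw [Scheme.Opens.opensRange_ι, htop]
  have heq : f ∣_ W = (f ⁻¹ᵁ W).ι ≫ k := by
    rw [← cancel_mono W.ι, morphismRestrict_ι, Category.assoc, hk]
  rw [heq]
  exact MorphismProperty.cancel_left_of_respectsIso @IsProper _ _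

theorem result {X Y : Scheme.{u}} [IsLocallyNoetherian Y]
    (f : X ⟶ Y) [LocallyOfFiniteType f] [QuasiCompact f] :
    (∃ (Z : Scheme.{u}) (g : X ⟶ Z) (h : Z ⟶ Y), IsProper g ∧ IsImmersion h ∧ g ≫ h = f) ↔
      ∀ x : X, ∃ U : Y.Opens, f.base x ∈ U ∧ IsProper (f ∣_ U) := by
  constructor
  · rintro ⟨Z, g, h, hg, hh, rfl⟩ x
    have hfac : (g ≫ h.liftCoborder) ≫ h.coborderRange.ι = g ≫ h := by
      rw [Category.assoc, Scheme.Hom.liftCoborder_ι]
    refine ⟨h.coborderRange, ?_, ?_⟩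
    · rw [← hfac]
      simp only [Scheme.Hom.comp_base, TopCat.hom_comp, ContinuousMap.comp_apply]
      exact ((g ≫ h.liftCoborder).base x).2
    · rw [isProper_restrict_of_fac (g ≫ h) h.coborderRange (g ≫ h.liftCoborder) hfac]
      infer_instance
  · intro H
    choose U hxU hU using H
    let V : Y.Opens := ⨆ x, U x
    have hrange : Set.range f.base ⊆ Set.range V.ι.base := by
      rintro _ ⟨x, rfl⟩
      rw [Scheme.Opens.range_ι]
      exact TopologicalSpace.Opens.mem_iSup.mpr ⟨x, hxU x⟩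
    let g : X ⟶ V.toScheme := IsOpenImmersion.lift V.ι f hrange
    have hg : g ≫ V.ι = f := IsOpenImmersion.lift_fac _ _ _
    refine ⟨V.toScheme, g, V.ι, ?_, inferInstance, hg⟩
    rw [← isProper_restrict_of_fac f V g hg]
    have hcov : ⨆ x, V.ι ⁻¹ᵁ U x = ⊤ := by
      rw [eq_top_iff]
      rintro ⟨y, hy⟩ -
      obtain ⟨x, hx⟩ := TopologicalSpace.Opens.mem_iSup.mp hy
      exact TopologicalSpace.Opens.mem_iSup.mpr ⟨x, hx⟩
    rw [IsZariskiLocalAtTarget.iff_of_iSup_eq_top (P := @IsProper) _ hcov]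
    intro x
    have himg : V.ι ''ᵁ (V.ι ⁻¹ᵁ U x) = U x := by
      rw [Scheme.Hom.image_preimage_eq_opensRange_inf, Scheme.Opens.opensRange_ι, inf_eq_right]
      exact le_iSup U x
    rw [MorphismProperty.arrow_mk_iso_iff @IsProper
      (morphismRestrictRestrict f V (V.ι ⁻¹ᵁ U x) ≪≫ morphismRestrictEq f himg)]
    exact hU x

end Groth.Agent.S3460
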