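import Groth.Statements.S3473
import Groth.Agent.S3047
import Groth.Agent.Lib.Seat3ShClosed

set_option autoImplicit false
open CategoryTheory CategoryTheory.Limits AlgebraicGeometry Opposite
universe u

namespace Groth.Agent.S3473

open Groth.Agent.Lib.Seat3.ShStalk Groth.Agent.Lib.Seat3.ShClosed

lemma alg {A B : Type u} [CommRing A] [CommRing B] (φ : A →+* B) (p : PrimeSpectrum A)
    (hp : p ∉ Set.range (PrimeSpectrum.comap φ)) : ∃ a, a ∉ p.asIdeal ∧ φ a ∈ p.asIdeal.map φ := by
  by_contra h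
  push Not at h
  apply hp
  rw [PrimeSpectrum.mem_range_comap_iff]
  apply le_antisymm
  · intro a ha
    by_contra ha'
    exact h a ha' ha
  · exact Ideal.le_comap_map

lemma spec_lemma {A B : CommRingCat.{u}} (φ : A ⟶ B) (p : Spec A)
    (hp : p ∉ Set.range (Spec.map φ)) :
    ∃ a : A, a ∉ p.asIdeal ∧ ∀ q : Spec B, p ⤳ (Spec.map φ) q → a ∈ ((Spec.map φ) q).asIdeal := by
  obtain ⟨a, ha, ha'⟩ := alg φ.hom p hp
  refine ⟨a, ha, fun q hq => ?_⟩
  have hq' : p.asIdeal ≤ q.asIdeal.comap φ.hom :=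
    (PrimeSpectrum.le_iff_specializes (R := A) p (PrimeSpectrum.comap φ.hom q)).mpr hq
  have h1 : p.asIdeal.map φ.hom ≤ q.asIdeal := by
    rw [Ideal.map_le_iff_le_comap]
    exact hq'
  exact h1 ha'

/-- a point outside the image of a quasi-compact morphism has an open neighbourhood in which its
closure misses the image -/
lemma exists_open {X Y : Scheme.{u}} (g : X ⟶ Y) [QuasiCompact g] (y : Y)
    (hy : y ∉ Set.range g) :
    ∃ W : Y.Opens, y ∈ W ∧ ∀ x : X, g x ∈ W → ¬ (y ⤳ g x) := by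
  obtain ⟨A, ι, hι, p, hp⟩ : ∃ (A : CommRingCat.{u}) (ι : Spec A ⟶ Y) (_ : IsOpenImmersion ι)
      (p : Spec A), ι p = y :=
    ⟨_, Y.affineOpenCover.f (Y.affineOpenCover.idx y), inferInstance, Y.affineOpenCover.covers y⟩
  obtain ⟨R, e, he⟩ := compactSpace_iff_exists.mp
    (inferInstance : CompactSpace ↑(pullback g ι))
  obtain ⟨φ, hφ⟩ := Spec.homEquiv.symm.surjective (e ≫ pullback.snd g ι)
  have hφ' : Spec.map φ = e ≫ pullback.snd g ι := hφ
  have hp' : p ∉ Set.range (Spec.map φ) := by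
    rintro ⟨q, hq⟩
    apply hy
    refine ⟨(pullback.fst g ι) (e q), ?_⟩
    rw [← Scheme.Hom.comp_apply, pullback.condition, Scheme.Hom.comp_apply, ← hp, ← hq, hφ',
      Scheme.Hom.comp_apply]
  obtain ⟨a, ha, ha'⟩ := spec_lemma φ p hp'
  refine ⟨ι ''ᵁ (PrimeSpectrum.basicOpen a), ⟨p, ha, hp⟩, ?_⟩
  rintro x ⟨t, ht, htx⟩ hsp
  obtain ⟨z, hz1, hz2⟩ := Scheme.Pullback.exists_preimage_pullback x t htx.symm
  obtain ⟨q, rfl⟩ := he z
  have h1 : (Spec.map φ) q = t := by rw [hφ', Scheme.Hom.comp_apply, hz2]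
  have h2 : p ⤳ t := by
    rw [← htx, ← hp] at hsp
    exact (ι.isOpenEmbedding.isInducing.specializes_iff).mp hsp
  rw [← h1] at h2
  have h3 := ha' q h2
  rw [h1] at h3
  exact ht h3

set_option backward.isDefEq.respectTransparency.types false in
/-- Given a closed immersion `i : Z ⟶ V` with `Z` nonempty and a morphism `g' : X' ⟶ V` whose image
misses `Z`, the unit of `g'` is not a monomorphism on some sheaf of sets. -/
lemma not_mono_unit {V Z X' : Scheme.{u}} (i : Z ⟶ V) [IsClosedImmersion i] (g' : X' ⟶ V)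
    (hd : Disjoint (Set.range g'.base) (Set.range i.base)) (z : Z)
    (hm : ∀ F : EtDesc.Sh V, Mono ((EtDesc.adjSh g').unit.app F)) : False := by
  obtain ⟨Ω, _, _, ζ', x₀, hx₀⟩ :=
    Groth.Agent.Lib.Helper9.EtPoint.exists_geometric_lift Z (EtCoh.top Z) z
  obtain ⟨ζ, hζ⟩ : ∃ ζ : Spec (CommRingCat.of Ω) ⟶ Z, ζ = ζ' := ⟨ζ', rfl⟩
  let M : Type (u + 1) := ULift.{u + 1} Bool
  let sky := (Scheme.pointSmallEtale ζ).skyscraperSheafFunctor (A := Type (u + 1))
  let adjTot := (EtDesc.adjSh i).comp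
    ((Scheme.pointSmallEtale ζ).skyscraperSheafAdjunction (A := Type (u + 1)))
  let F : EtDesc.Sh V := (EtDesc.pushSh i).obj (sky.obj M)
  -- the inverse image of `F` along `g'` is terminal
  have hT : IsIso (terminal.from ((EtDesc.pullSh g').obj F)) := by
    apply isIso_terminal_from_of_stalks
    intro Ω' _ _ v
    refine unique_of_iso ((stalkPullIsoSh g' v).app F).symm ?_
    refine unique_stalk_push i (sky.obj M) (v ≫ g') ?_
    refine hd.mono_left ?_
    rintro _ ⟨a, rfl⟩
    exact ⟨v a, (Scheme.Hom.comp_apply v g' a).symm⟩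
  have hT1 : IsTerminal ((EtDesc.pullSh g').obj F) :=
    terminalIsTerminal.ofIso (asIso (terminal.from ((EtDesc.pullSh g').obj F))).symm
  have hT2 : IsTerminal ((EtDesc.pushSh g').obj ((EtDesc.pullSh g').obj F)) :=
    hT1.isTerminalObj (EtDesc.pushSh g') _
  have hmono := hm F
  -- all morphisms to `F` agree
  have hall : ∀ (H : EtDesc.Sh V) (a b : H ⟶ F), a = b := by
    intro H a b
    rw [← cancel_mono ((EtDesc.adjSh g').unit.app F)]
    exact hT2.hom_ext _ _
  -- but the terminal sheaf has two distinct morphisms to `F`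
  let H : EtDesc.Sh V := ⊤_ _
  have hne : Nonempty ((EtDesc.pullSh i ⋙ stalkSh ζ).obj H) := by
    obtain ⟨hu⟩ := unique_stalk_of_isTerminal H terminalIsTerminal (ζ ≫ i)
    exact ⟨((stalkPullIsoSh i ζ).hom.app H) hu.default⟩
  obtain ⟨e⟩ := hne
  let c₁ : (EtDesc.pullSh i ⋙ stalkSh ζ).obj H ⟶ M := TypeCat.ofHom (fun _ => ULift.up true)
  let c₂ : (EtDesc.pullSh i ⋙ stalkSh ζ).obj H ⟶ M := TypeCat.ofHom (fun _ => ULift.up false)
  have h12 : c₁ = c₂ := (adjTot.homEquiv H M).injective (hall H _ _)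
  have h3 : (ULift.up true : M) = ULift.up false := ConcreteCategory.congr_hom h12 e
  exact Bool.noConfusion (ULift.up.inj h3)

/-- Let g : X → Y be a morphism of schemes. If g is surjective then g is (-1)-acyclic (for every etale V
→ Y and every sheaf of sets F on V, F → g'_* g'^* F is a monomorphism, g' the projection X ×_Y V →
V); conversely, if g is quasi-compact, quasi-separated and (-1)-acyclic then g is surjective. -/
theorem result {X Y : Scheme.{u}} (g : X ⟶ Y) :
    (Function.Surjective g.base → EtAcyc.IsMinusOneAcyclic g) ∧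
      (∀ [QuasiCompact g] [QuasiSeparated g], EtAcyc.IsMinusOneAcyclic g → Function.Surjective g.base) := by
  constructor
  · intro hg V F
    have : Surjective g := ⟨hg⟩
    have : Surjective (EtAcyc.prj g V) := inferInstance
    have := (Groth.Agent.S3047.result (EtAcyc.prj g V)).1
    infer_instance
  · intro _ _ hacyc y
    by_contra hy
    have hy' : y ∉ Set.range g := fun ⟨x, hx⟩ => hy ⟨x, hx⟩
    obtain ⟨W, hyW, hW⟩ := exists_open g y hy'
    let V : Y.Etale := MorphismProperty.Over.mk ⊤ W.ι inferInstance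
    let yW : ↑W := ⟨y, hyW⟩
    let C : TopologicalSpace.Closeds ↑W := ⟨closure {yW}, isClosed_closure⟩
    let I := Scheme.IdealSheafData.vanishingIdeal C
    let i := I.subschemeι
    have hri : Set.range i = closure {yW} := by
      rw [Scheme.IdealSheafData.range_subschemeι, Scheme.IdealSheafData.coe_support_vanishingIdeal]
      rfl
    obtain ⟨z, hz⟩ : ∃ z, i z = yW := by
      have : yW ∈ Set.range i := hri ▸ subset_closure rfl
      exact this
    refine not_mono_unit i (EtAcyc.prj g V) ?_ z (fun F => hacyc V F)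
    rw [Set.disjoint_left]
    rintro _ ⟨x', rfl⟩ hx'
    have hx'' : (EtAcyc.prj g V) x' ∈ closure {yW} := hri ▸ hx'
    have h1 : yW ⤳ (EtAcyc.prj g V) x' := specializes_iff_mem_closure.mpr hx''
    have h2 := h1.map W.ι.continuous
    have e1 : W.ι ((EtAcyc.prj g V) x') = g ((pullback.snd V.hom g) x') := by
      have hc : pullback.fst V.hom g ≫ W.ι = pullback.snd V.hom g ≫ g := pullback.condition
      have hc' := congrArg (fun m : pullback V.hom g ⟶ Y => m x') hc
      simp only [Scheme.Hom.comp_apply] at hc'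
      exact hc'
    have e2 : W.ι yW = y := rfl
    rw [e1, e2] at h2
    refine hW _ ?_ h2
    rw [← e1]
    exact ((EtAcyc.prj g V) x').2

end Groth.Agent.S3473
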