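import Groth.Statements.S3517
import Groth.Agent.Lib.Seat38BC0Sh
import Groth.Agent.S3047

set_option autoImplicit false
universe u
open CategoryTheory CategoryTheory.Limits AlgebraicGeometry Opposite
open EtBC

namespace Groth.Agent.S3517

open Groth.Agent.Lib.Seat38.BC0Sh Groth.Agent.Lib.Seat38 in
/-- injectivity part, for a single sheaf -/
theorem inj_aux {X Y Xb Yb : Scheme.{u}} (h : Y ⟶ X) (p : Xb ⟶ X)
    (hb : Yb ⟶ Xb) (pY : Yb ⟶ Y) (w : hb ≫ p = pY ≫ h) [Surjective p]
    (hinj : ∀ Fb : EtDesc.Sh Xb, Function.Injective (EtDesc.secPull hb Fb)) (F : EtDesc.Sh X) :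
    Function.Injective (EtDesc.secPull h F) := by
  intro s t hst
  have hf : (EtDesc.pullSh p).Faithful := (Groth.Agent.S3047.result p).1
  let Fb : EtDesc.Sh Xb := (EtDesc.pullSh p).obj F
  let u : F ⟶ (EtDesc.pushSh p).obj Fb := (EtDesc.adjSh p).unit.app F
  have hm : Mono u := (EtDesc.adjSh p).unit_mono_of_L_faithful F
  have h1 : EtDesc.secPull h ((EtDesc.pushSh p).obj Fb) (u.hom.app (op (EtCoh.top X)) s) =
      EtDesc.secPull h ((EtDesc.pushSh p).obj Fb) (u.hom.app (op (EtCoh.top X)) t) :=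
    (SecPull.secPull_naturality h u s).trans
      ((congrArg (fun z => ((EtDesc.pullSh h).map u).hom.app (op (EtCoh.top Y)) z) hst).trans
        (SecPull.secPull_naturality h u t).symm)
  have k1 := key p h pY hb w Fb (u.hom.app (op (EtCoh.top X)) s)
  have k2 := key p h pY hb w Fb (u.hom.app (op (EtCoh.top X)) t)
  rw [h1] at k1
  have h2 := hinj Fb (k1.symm.trans k2)
  have h3 := (bijective_map_iso Fb.obj (EtCore.bcTopIso p).symm).1 h2
  exact SecPull.injective_app_of_mono u _ h3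


open Groth.Agent.Lib.Seat38.BC0Sh Groth.Agent.Lib.Seat38 in
/-- surjectivity part, for a single sheaf -/
theorem surj_aux {X Y Xb Yb : Scheme.{u}} (h : Y ⟶ X) (p : Xb ⟶ X)
    (hb : Yb ⟶ Xb) (pY : Yb ⟶ Y) (w : hb ≫ p = pY ≫ h) [Surjective p]
    (hbij : ∀ Fb : EtDesc.Sh Xb, Function.Bijective (EtDesc.secPull hb Fb))
    (hmono : ∀ Fb : EtDesc.Sh Xb, Mono (EtBC.baseChange0Sh p h pY hb w Fb)) (F : EtDesc.Sh X) :
    Function.Surjective (EtDesc.secPull h F) := by
  intro σ
  have hf : (EtDesc.pullSh p).Faithful := (Groth.Agent.S3047.result p).1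
  let Fb : EtDesc.Sh Xb := (EtDesc.pullSh p).obj F
  let G : EtDesc.Sh X := (EtDesc.pushSh p).obj Fb
  let u : F ⟶ G := (EtDesc.adjSh p).unit.app F
  have hm : Mono u := (EtDesc.adjSh p).unit_mono_of_L_faithful F
  have hmb := hmono Fb
  let σ' := ((EtDesc.pullSh h).map u).hom.app (op (EtCoh.top Y)) σ
  obtain ⟨τb, hτb⟩ := (hbij Fb).2 (((EtDesc.pullSh hb).obj Fb).obj.map (EtCore.bcTopIso pY).inv.op
    ((EtBC.baseChange0Sh p h pY hb w Fb).hom.app (op (EtCoh.top Y)) σ'))
  let τ : G.obj.obj (op (EtCoh.top X)) := Fb.obj.map (EtCore.bcTopIso p).hom.op τb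
  have e1 : EtDesc.secPull h G τ = σ' := by
    have h1 := (secPull_eq p h pY hb w Fb τb).symm.trans hτb
    have h2 := (bijective_map_iso ((EtDesc.pullSh hb).obj Fb).obj (EtCore.bcTopIso pY).symm).1 h1
    exact SecPull.injective_app_of_mono (EtBC.baseChange0Sh p h pY hb w Fb) _ h2
  -- the two images of τ in the cokernel pair agree
  have e2 : (pushout.inl u u).hom.app (op (EtCoh.top X)) τ = (pushout.inr u u).hom.app (op (EtCoh.top X)) τ := by
    apply inj_aux h p hb pY w (fun Fb => (hbij Fb).1) (pushout u u)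
    refine (SecPull.secPull_naturality h (pushout.inl u u) τ).trans
      (Eq.trans ?_ (SecPull.secPull_naturality h (pushout.inr u u) τ).symm)
    rw [e1]
    have h3 : (EtDesc.pullSh h).map u ≫ (EtDesc.pullSh h).map (pushout.inl u u) =
        (EtDesc.pullSh h).map u ≫ (EtDesc.pullSh h).map (pushout.inr u u) := by
      rw [← Functor.map_comp, ← Functor.map_comp, pushout.condition]
    exact congrArg (fun φ => φ.hom.app (op (EtCoh.top Y)) σ) h3
  obtain ⟨ζ, hζ⟩ := SecPull.exists_section_of_inl_eq_inr u (op (EtCoh.top X)) τ e2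
  refine ⟨ζ, ?_⟩
  have hm' : Mono ((EtDesc.pullSh h).map u) := inferInstance
  apply SecPull.injective_app_of_mono ((EtDesc.pullSh h).map u) (op (EtCoh.top Y))
  refine (SecPull.secPull_naturality h u ζ).symm.trans ?_
  exact (congrArg (fun z => EtDesc.secPull h G z) hζ).trans e1

/-- Let h : Y → X and p : X̄ → X be morphisms of schemes with p surjective, Ȳ = Y ×_X X̄ with
projections h̄ : Ȳ → X̄ and p_Y : Ȳ → Y. If for every sheaf of sets F̄ on X̄ the pullback map on
global sections Γ(X̄, F̄) → Γ(Ȳ, h̄^* F̄) is injective, then for every sheaf of sets F on X the map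
Γ(X, F) → Γ(Y, h^* F) is injective. If those maps for h̄ are bijective and moreover the base change
morphism h^* p_* F̄ → p_{Y*} h̄^* F̄ is a monomorphism for every sheaf of sets F̄ on X̄, then the
maps Γ(X, F) → Γ(Y, h^* F) are bijective. -/
theorem result {X Y Xb Yb : Scheme.{u}} (h : Y ⟶ X) (p : Xb ⟶ X)
    (hb : Yb ⟶ Xb) (pY : Yb ⟶ Y) (sq : IsPullback hb pY p h) (hp : Function.Surjective p.base) :
    ((∀ Fb : EtDesc.Sh Xb, Function.Injective (EtDesc.secPull hb Fb)) →
      ∀ F : EtDesc.Sh X, Function.Injective (EtDesc.secPull h F)) ∧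
    ((∀ Fb : EtDesc.Sh Xb, Function.Bijective (EtDesc.secPull hb Fb)) →
      (∀ Fb : EtDesc.Sh Xb, Mono (EtBC.baseChange0Sh p h pY hb sq.w Fb)) →
      ∀ F : EtDesc.Sh X, Function.Bijective (EtDesc.secPull h F)) := by
  have : Surjective p := ⟨hp⟩
  refine ⟨fun hinj F => inj_aux h p hb pY sq.w hinj F, fun hbij hmono F => ⟨?_, ?_⟩⟩
  · exact inj_aux h p hb pY sq.w (fun Fb => (hbij Fb).1) F
  · exact surj_aux h p hb pY sq.w hbij hmono F

end Groth.Agent.S3517
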