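import Groth.Statements.S3524
import Groth.Agent.Lib.Seat15KunnethSS

set_option autoImplicit false
universe u
attribute [local instance] HasDerivedCategory.standard
open HTor

namespace Groth.Agent.S3524

open CategoryTheory CategoryTheory.Limits in
/-- Consequence of the biregular Künneth/hypertor spectral sequence; cochain indexing. Let L and M be
complexes of A-modules vanishing in large degrees, every term of L flat (so that L ⊗ M computes the
hypertor of L and M). If Tor_p^A(H^i(L), H^j(M)) = 0 for all p ≥ 0 and all i, j with i + j - p = n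
(vanishing stated as Subsingleton), then H^n(L ⊗ M) = 0. (Tor is Mathlib's, left derived in the
second variable.) -/
theorem result (A : Type u) [CommRing A] (L M : DRing.Cx A)
    (hL : DRing.TermwiseFlat L) (bL : ∃ b : ℤ, DRing.VanishesAbove L b)
    (bM : ∃ b : ℤ, DRing.VanishesAbove M b) (n : ℤ)
    (h : ∀ (p : ℕ) (i j : ℤ), i + j - p = n → Subsingleton (DRing.Tor A p (L.homology i) (M.homology j))) :
    IsZero ((HTor.tensorCx L M).homology n) := by
  obtain ⟨N, F, Φ, -, hF0, hmono, htop, hgr⟩ :=
    Groth.Agent.Lib.Seat15.KunnethSS.filtration L M hL bL bM n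
  -- the Künneth sum vanishes
  have hK : Subsingleton (HTor.KunnethSum L M n) := by
    have : ∀ ij : HTor.Antidiag n,
        Subsingleton (TensorProduct A (L.homology ij.1.1) (M.homology ij.1.2)) := by
      intro ij
      have h0 := h 0 ij.1.1 ij.1.2 (by have := ij.2; push_cast; omega)
      let e := (Groth.Agent.Helper13Tor.torZeroIso.app (L.homology ij.1.1)).app (M.homology ij.1.2)
      have hinj : Function.Injective e.inv.hom :=
        (ModuleCat.mono_iff_injective e.inv).1 inferInstance
      exact @Function.Injective.subsingleton _ _ _ hinj h0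
    exact Unique.instSubsingleton (α := DFinsupp fun ij : HTor.Antidiag n =>
      TensorProduct A (L.homology ij.1.1) (M.homology ij.1.2))
  have hF0' : F 0 = ⊥ := by
    rw [hF0, LinearMap.range_eq_bot]
    apply LinearMap.ext
    intro x
    rw [Subsingleton.elim x 0, map_zero, LinearMap.zero_apply]
  -- the graded pieces vanish
  have hstep : ∀ p, F (p + 1) ≤ F p := by
    intro p
    obtain ⟨S, S', -, ⟨e⟩⟩ := hgr p
    have hT : Subsingleton (HTor.TorSum L M n (p + 1)) := by
      have : ∀ ij : {ij : ℤ × ℤ // ij.1 + ij.2 - ((p + 1 : ℕ) : ℤ) = n},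
          Subsingleton (DRing.Tor A (p + 1) (L.homology ij.1.1) (M.homology ij.1.2)) :=
        fun ij => h (p + 1) ij.1.1 ij.1.2 ij.2
      exact Unique.instSubsingleton
        (α := DFinsupp fun ij : {ij : ℤ × ℤ // ij.1 + ij.2 - ((p + 1 : ℕ) : ℤ) = n} =>
          DRing.Tor A (p + 1) (L.homology ij.1.1) (M.homology ij.1.2))
    have hS' : Subsingleton S' := Subtype.val_injective.subsingleton
    have hq : Subsingleton (↥S' ⧸ Submodule.comap S'.subtype S) :=
      (Submodule.mkQ_surjective _).subsingleton
    have hg : Subsingleton (HTor.grSucc F p) := e.injective.subsingleton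
    have htop' : Submodule.comap (F (p + 1)).subtype (F p) = ⊤ :=
      Submodule.Quotient.subsingleton_iff.1 hg
    intro x hx
    have : (⟨x, hx⟩ : F (p + 1)) ∈ Submodule.comap (F (p + 1)).subtype (F p) := by
      rw [htop']
      trivial
    exact this
  have hall : ∀ p, F p = ⊥ := by
    intro p
    induction p with
    | zero => exact hF0'
    | succ p ih => exact le_bot_iff.1 (ih ▸ hstep p)
  have hbt : (⊥ : Submodule A ((HTor.tensorCx L M).homology n)) = ⊤ := by
    rw [← hall N, htop]
  have hsub : Subsingleton ((HTor.tensorCx L M).homology n) := by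
    refine ⟨fun x y => ?_⟩
    have hx : x ∈ (⊤ : Submodule A ((HTor.tensorCx L M).homology n)) := trivial
    have hy : y ∈ (⊤ : Submodule A ((HTor.tensorCx L M).homology n)) := trivial
    rw [← hbt, Submodule.mem_bot] at hx hy
    rw [hx, hy]
  exact ModuleCat.isZero_of_subsingleton _

end Groth.Agent.S3524
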