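import Groth.Statements.S3544
import Groth.Agent.Lib.Seat15SSEuler
-- import your own Groth.Agent.* helpers here

set_option autoImplicit false
universe u
open HomAlg3

namespace Groth.Agent.S3544

open CategoryTheory CategoryTheory.Limits in
/-- auxiliary: all three properties propagate from page `r` to page `r + 1`. -/
theorem aux {A : Type u} [Ring A]
    (E : E₂CohomologicalSpectralSequence (ModuleCat.{u} A)) (s : Finset (ℤ × ℤ))
    (hs : ∀ pq : ℤ × ℤ, pq ∉ s → IsZero ((E.page 2).X pq))
    (hfl : ∀ pq : ℤ × ℤ, IsFiniteLength A ((E.page 2).X pq)) (r : ℤ) (hr : 2 ≤ r) :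
    (∀ pq : ℤ × ℤ, pq ∉ s → IsZero ((E.page r hr).X pq)) ∧
    (∀ pq : ℤ × ℤ, IsFiniteLength A ((E.page r hr).X pq)) ∧
    (s.sum fun pq => (((pq.1 + pq.2).negOnePow : ℤˣ) : ℤ) * ((Module.length A ((E.page r hr).X pq)).toNat : ℤ)) =
      s.sum fun pq => (((pq.1 + pq.2).negOnePow : ℤˣ) : ℤ) * ((Module.length A ((E.page 2).X pq)).toNat : ℤ) := by
  induction r, hr using Int.leInduction with
  | base => exact ⟨hs, hfl, rfl⟩
  | succ r hr ih =>
    obtain ⟨h1, h2, h3⟩ := ih
    have hiso : ∀ pq : ℤ × ℤ, (E.page r hr).homology pq ≅ (E.page (r + 1) (by lia)).X pq :=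
      fun pq => E.iso r (r + 1) pq rfl hr
    have hlen : ∀ pq : ℤ × ℤ, Module.length A ((E.page (r + 1) (by lia)).X pq) =
        Module.length A ((E.page r hr).homology pq) :=
      fun pq => ((hiso pq).toLinearEquiv).length_eq.symm
    have hle : ∀ pq : ℤ × ℤ, Module.length A ((E.page r hr).homology pq) ≤
        Module.length A ((E.page r hr).X pq) := by
      intro pq
      have := Groth.Agent.Lib.Seat15.SSEuler.length_X (⟨r, 1 - r⟩ : ℤ × ℤ) (E.page r hr) pq
      rw [this]
      exact le_trans le_add_self le_self_add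
    refine ⟨?_, ?_, ?_⟩
    · intro pq hpq
      have : Subsingleton ((E.page r hr).X pq) := ModuleCat.subsingleton_of_isZero (h1 pq hpq)
      have h0 : Module.length A ((E.page (r + 1) (by lia)).X pq) = 0 := by
        rw [hlen]
        exact le_antisymm ((hle pq).trans (Module.length_eq_zero).le) bot_le
      have : Subsingleton ((E.page (r + 1) (by lia)).X pq) := Module.length_eq_zero_iff.1 h0
      exact ModuleCat.isZero_of_subsingleton _
    · intro pq
      rw [← Module.length_ne_top_iff, hlen]
      exact ne_top_of_le_ne_top (Module.length_ne_top_iff.2 (h2 pq)) (hle pq)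
    · rw [← h3]
      have := Groth.Agent.Lib.Seat15.SSEuler.euler_eq (⟨r, 1 - r⟩ : ℤ × ℤ) (E.page r hr) s
        (fun pq => (((pq.1 + pq.2).negOnePow : ℤˣ) : ℤ))
        (by
          intro i
          have : (i + (⟨r, 1 - r⟩ : ℤ × ℤ)).1 + (i + (⟨r, 1 - r⟩ : ℤ × ℤ)).2 = (i.1 + i.2) + 1 := by
            simp only [Prod.fst_add, Prod.snd_add]
            ring
          rw [this, Int.negOnePow_succ]
          simp) h1 h2
      rw [this]
      apply Finset.sum_congr rfl
      intro pq _
      rw [hlen]

open CategoryTheory CategoryTheory.Limits in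
/-- Let E be a cohomological spectral sequence of modules over a ring A, starting at page 2, such that
the E₂ terms have finite length and only finitely many of them (all inside the finite set s of
bidegrees) are nonzero. Then for every r ≥ 2 the Euler–Poincaré characteristic of page r, the
alternating sum over s of (-1)^{p+q} times the length of E_r^{pq}, equals that of page 2. -/
theorem result {A : Type u} [Ring A]
    (E : E₂CohomologicalSpectralSequence (ModuleCat.{u} A)) (s : Finset (ℤ × ℤ))
    (hs : ∀ pq : ℤ × ℤ, pq ∉ s → IsZero ((E.page 2).X pq))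
    (hfl : ∀ pq : ℤ × ℤ, IsFiniteLength A ((E.page 2).X pq)) (r : ℤ) (hr : 2 ≤ r) :
    (s.sum fun pq => (((pq.1 + pq.2).negOnePow : ℤˣ) : ℤ) * ((Module.length A ((E.page r hr).X pq)).toNat : ℤ)) =
      s.sum fun pq => (((pq.1 + pq.2).negOnePow : ℤˣ) : ℤ) * ((Module.length A ((E.page 2).X pq)).toNat : ℤ) := by
  exact (aux E s hs hfl r hr).2.2

end Groth.Agent.S3544
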