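import Groth.Statements.S3567
import Groth.Agent.Lib.Seat16QuotDesc

set_option autoImplicit false
universe u
open CategoryTheory CategoryTheory.Limits AlgebraicGeometry
open EGA2

namespace Groth.Agent.S3567

/-- Let h : U → V be a surjective morphism of schemes such that the map of sheaves of rings O_V → h_*O_U
is an isomorphism and the underlying space of V carries the quotient topology of that of U. Then for
every scheme W, composition with h is a bijection from the morphisms V → W onto the morphisms U → W
whose underlying map is constant on each fibre of h. -/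
theorem result {U V : Scheme.{u}} (h : U ⟶ V) [Surjective h]
    [IsIso h.c] (hq : Topology.IsQuotientMap h.base) (W : Scheme.{u}) :
    (∀ v₁ v₂ : V ⟶ W, h ≫ v₁ = h ≫ v₂ → v₁ = v₂) ∧
      ∀ u : U ⟶ W, (∀ x y : U, h.base x = h.base y → u.base x = u.base y) → ∃ v : V ⟶ W, h ≫ v = u := by
  refine ⟨fun v₁ v₂ e => ?_, fun u hconst => ?_⟩
  · apply Scheme.Hom.ext'
    apply LocallyRingedSpace.Hom.ext'
    have : IsIso (h.toLRSHom.toHom : U.toPresheafedSpace ⟶ V.toPresheafedSpace).c := ‹IsIso h.c›
    refine Groth.Agent.Lib.Seat16.QuotDesc.psh_cancel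
      (h.toLRSHom.toHom : U.toPresheafedSpace ⟶ V.toPresheafedSpace) h.surjective _ _ ?_
    exact congrArg (fun f : U ⟶ W => (f.toLRSHom.toHom : U.toPresheafedSpace ⟶ W.toPresheafedSpace)) e
  · let ub : C(U, W) := u.base.hom
    let hb : C(U, V) := h.base.hom
    have hq' : Topology.IsQuotientMap hb := hq
    have hc : Function.FactorsThrough ub hb := fun x y hxy => hconst x y hxy
    let vb : V.toTopCat ⟶ W.toTopCat := TopCat.ofHom (hq'.lift ub hc)
    have hvb : h.base ≫ vb = u.base := by
      ext x
      exact congr($(hq'.lift_comp ub hc) x)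
    exact ⟨Groth.Agent.Lib.Seat16.QuotDesc.desc h u vb hvb h.surjective,
      Groth.Agent.Lib.Seat16.QuotDesc.comp_desc h u vb hvb h.surjective⟩

end Groth.Agent.S3567
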