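import Groth.Statements.S3590
import Groth.Agent.Lib.Seat16ProjSec
import Groth.Agent.S3572

set_option autoImplicit false
set_option linter.style.haveILetI false
universe u
open CategoryTheory CategoryTheory.Limits AlgebraicGeometry
open EGA2
open Groth.Agent.Lib.Seat16.ProjSec Groth.Agent.Lib.Seat16.InvAffine Groth.Agent.Lib.Helper23.SecTw

namespace Groth.Agent.S3590

/-- For E = O_Y^{n+1} over an affine base Y = Spec R (image of the correspondence): a submodule F of
R^{n+1} is the module of relations among the pulled-back coordinates of some section of projective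
n-space over R if and only if the quotient R^{n+1}/F is an invertible R-module (projective, of rank
one at every prime). -/
theorem result {R : Type u} [CommRing R] (n : ℕ)
    (F : Submodule R (Fin (n + 1) → R)) :
    (∃ s : Spec (CommRingCat.of R) ⟶ CohB1.ProjSpace n R,
        s ≫ CohB1.ProjSpace.toSpec n R = 𝟙 _ ∧ ProjUP.secKernel n R s = F) ↔
      (Module.Projective R ((Fin (n + 1) → R) ⧸ F) ∧
        ∀ p : PrimeSpectrum R, Module.finrank (Localization.AtPrime p.asIdeal)
          (LocalizedModule p.asIdeal.primeCompl ((Fin (n + 1) → R) ⧸ F)) = 1) := by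
  classical
  constructor
  · rintro ⟨s, -, rfl⟩
    haveI := isQuasicoherent_twistProjSpace n R 1
    set L := (Scheme.Modules.pullback s).obj (Twist.twistProjSpace n R 1) with hLdef
    let t : Fin (n + 1) → Γ(L, ⊤) := fun i =>
      ProjUP.pullSec s (Twist.twistProjSpace n R 1) (ProjUP.coord n R i)
    have hgen := isGen_pullSec s (Twist.twistProjSpace n R 1) (ProjUP.coord n R) (isGen_coord n R)
    have hL : PicF.IsInvertible L := isInvertible_of_isGen L (fun x => by
      obtain ⟨i, W', hx, h⟩ := hgen x
      exact ⟨W', _, hx, h⟩)
    haveI : L.IsQuasicoherent := isQuasicoherent_of_isInvertible L hL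
    have hG : ProjUP.GeneratedBy L t := generatedBy_of_isGen L t hgen
    have hspanA := span_eq_top_of_generatedBy (isAffineOpen_top _) L t hG
    have hspanR := span_secR_eq_top L t hspanA
    let φ : (Fin (n + 1) → R) →ₗ[R] SecR L :=
      Fintype.linearCombination R (fun i => (show SecR L from t i))
    have hsurj : Function.Surjective φ := by
      rw [← LinearMap.range_eq_top, Fintype.range_linearCombination]
      exact hspanR
    have hker : ProjUP.secKernel n R s = LinearMap.ker φ := rfl
    rw [hker]
    let e : ((Fin (n + 1) → R) ⧸ LinearMap.ker φ) ≃ₗ[R] SecR L := φ.quotKerEquivOfSurjective hsurj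
    haveI := projective_secR L hL
    refine ⟨Module.Projective.of_equiv' e.symm, fun p => ?_⟩
    change Module.rankAtStalk ((Fin (n + 1) → R) ⧸ LinearMap.ker φ) p = 1
    rw [Module.rankAtStalk_eq_of_equiv e]
    exact rankAtStalk_secR L hL p
  · rintro ⟨hproj, hrk⟩
    let M : ModuleCat.{u} (CommRingCat.of R) := ModuleCat.of R ((Fin (n + 1) → R) ⧸ F)
    haveI : Module.Finite R M := inferInstanceAs (Module.Finite R ((Fin (n + 1) → R) ⧸ F))
    haveI : Module.Projective R M := hproj
    have hL : PicF.IsInvertible (tilde M) := isInvertible_tilde M hrk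
    let g : Fin (n + 1) → M := fun i => Submodule.Quotient.mk (Pi.single i (1 : R))
    let t : Fin (n + 1) → Γ(tilde M, ⊤) := fun i => (tilde.toOpen M ⊤).hom (g i)
    have hspanQ : Submodule.span R (Set.range g) = ⊤ := by
      have h0 : Submodule.span R
          (Set.range fun i : Fin (n + 1) => (Pi.single i (1 : R) : Fin (n + 1) → R)) = ⊤ := by
        have h := (Pi.basisFun R (Fin (n + 1))).span_eq
        have h' : (⇑(Pi.basisFun R (Fin (n + 1))) : Fin (n + 1) → Fin (n + 1) → R) =
            fun i => Pi.single i (1 : R) := by
          funext i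
          exact Pi.basisFun_apply R (Fin (n + 1)) i
        rw [h'] at h
        exact h
      have h1 : Set.range g = (Submodule.mkQ F) ''
          Set.range (fun i : Fin (n + 1) => (Pi.single i (1 : R) : Fin (n + 1) → R)) := by
        rw [← Set.range_comp]
        rfl
      rw [h1, ← Submodule.map_span, h0, Submodule.map_top, Submodule.range_mkQ]
    have hspanA : Submodule.span Γ(Spec (CommRingCat.of R), ⊤) (Set.range t) = ⊤ := by
      have key : ∀ q : M, q ∈ Submodule.span R (Set.range g) →
          (show Γ(tilde M, ⊤) from tildeSecEquiv M q) ∈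
            Submodule.span Γ(Spec (CommRingCat.of R), ⊤) (Set.range t) := by
        intro q hq
        induction hq using Submodule.span_induction with
        | mem a ha =>
          obtain ⟨i, rfl⟩ := ha
          exact Submodule.subset_span ⟨i, rfl⟩
        | zero => rw [map_zero]; exact Submodule.zero_mem _
        | add a b _ _ ha hb => rw [map_add]; exact Submodule.add_mem _ ha hb
        | smul c a _ ha =>
          rw [map_smul]
          exact Submodule.smul_mem _ (ρ R c) ha
      rw [eq_top_iff]
      intro y _
      obtain ⟨q, rfl⟩ := (tildeSecEquiv M).surjective (show SecR (tilde M) from y)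
      exact key q (by rw [hspanQ]; trivial)
    have hG : ProjUP.GeneratedBy (tilde M) t :=
      generatedBy_of_span_eq_top (isAffineOpen_top _) (tilde M) t hspanA
    obtain ⟨r, hr, τ, hτ⟩ := Groth.Agent.S3572.result n (𝟙 _) (tilde M) hL t hG
    refine ⟨r, hr, ?_⟩
    let L' : (Spec (CommRingCat.of R)).Modules :=
      (Scheme.Modules.pullback r).obj (Twist.twistProjSpace n R 1)
    let t' : Fin (n + 1) → Γ(L', ⊤) := fun i =>
      ProjUP.pullSec r (Twist.twistProjSpace n R 1) (ProjUP.coord n R i)
    let φ' : (Fin (n + 1) → R) →ₗ[R] SecR L' :=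
      Fintype.linearCombination R (fun i => (show SecR L' from t' i))
    have hker : ProjUP.secKernel n R r = LinearMap.ker φ' := rfl
    rw [hker]
    let τR : SecR L' →ₗ[R] SecR (tilde M) :=
      { toFun := fun x => τ.hom.app ⊤ x
        map_add' := fun a b => map_add _ a b
        map_smul' := fun c x => Scheme.Modules.Hom.app_smul τ.hom (ρ R c) x }
    have hτinj : Function.Injective τR := by
      intro a b hab
      have h1 : τ.inv.app ⊤ (τ.hom.app ⊤ a) = τ.inv.app ⊤ (τ.hom.app ⊤ b) := congrArg _ hab
      have h2 : ∀ x : Γ(L', ⊤), τ.inv.app ⊤ (τ.hom.app ⊤ x) = x := fun x => by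
        have h3 : τ.hom.app ⊤ ≫ τ.inv.app ⊤ = 𝟙 _ := by
          rw [← Scheme.Modules.Hom.comp_app, Iso.hom_inv_id]; rfl
        exact congr($h3 x)
      rw [h2, h2] at h1
      exact h1
    have hcomp : τR.comp φ' = (tildeSecEquiv M).toLinearMap.comp (Submodule.mkQ F) := by
      refine (Pi.basisFun R (Fin (n + 1))).ext (fun i => ?_)
      rw [Pi.basisFun_apply]
      change τR (φ' (Pi.single i 1)) = tildeSecEquiv M (Submodule.Quotient.mk (Pi.single i 1))
      rw [Fintype.linearCombination_apply_single, one_smul]
      exact hτ i
    ext c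
    rw [LinearMap.mem_ker]
    constructor
    · intro hc
      have h1 : (τR.comp φ') c = 0 := by rw [LinearMap.comp_apply, hc, map_zero]
      rw [hcomp, LinearMap.comp_apply] at h1
      have h2 := (tildeSecEquiv M).injective (h1.trans (map_zero _).symm)
      exact (Submodule.Quotient.mk_eq_zero F).1 h2
    · intro hc
      apply hτinj
      rw [map_zero]
      have h1 : (τR.comp φ') c = 0 := by
        rw [hcomp, LinearMap.comp_apply, Submodule.mkQ_apply,
          (Submodule.Quotient.mk_eq_zero F).2 hc, map_zero]
      exact h1

end Groth.Agent.S3590
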