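import Groth.Statements.S3665
import Groth.Agent.Lib.Seat16IdealMul
import Groth.Agent.Lib.Helper6QCohQcqs

set_option autoImplicit false
set_option linter.style.haveILetI false
universe u
open CategoryTheory CategoryTheory.Limits AlgebraicGeometry
attribute [local instance] HasDerivedCategory.standard
open Dual3

namespace Groth.Agent.S3665

/-- Let X be proper over a field k, I a quasi-coherent ideal with vanishing locus Z and F a coherent
O_X-module, so that H^0_c(X ∖ Z, F) = lim_n H^0(X, I^n F) = ⋂_n Γ(X, I^n F) inside Γ(X, F). Then a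
global section s of F lies in the image of Γ(X, I^n F) for every n if and only if s restricts to
zero on some open neighbourhood of Z. -/
theorem result (k : Type u) [Field k] (X : Scheme.{u}) (f : X ⟶ Spec (CommRingCat.of k)) [IsProper f] (I : X.IdealSheafData) (F : X.Modules) (hF : Coh.IsCoh F) (s : F.val.obj (Opposite.op ⊤)) : (∀ n : ℕ, ∃ t : ((Dual3.idealMul (I ^ n)).obj F).val.obj (Opposite.op ⊤), (Dual3.idealMulι (I ^ n) F).val.app (Opposite.op ⊤) t = s) ↔ ∃ V : X.Opens, I.supportSet ⊆ (V : Set X) ∧ F.val.map (homOfLE le_top : V ⟶ ⊤).op s = 0 := by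
  classical
  haveI : F.IsQuasicoherent := hF.1
  haveI : SheafOfModules.IsFiniteType (R := X.ringCatSheaf) F := hF.2
  haveI : IsLocallyNoetherian X := LocallyOfFiniteType.isLocallyNoetherian f
  -- reformulation through the unit
  have key : ∀ n : ℕ, (∃ t : ((Dual3.idealMul (I ^ n)).obj F).val.obj (Opposite.op ⊤),
      (Dual3.idealMulι (I ^ n) F).val.app (Opposite.op ⊤) t = s) ↔
      ((Scheme.Modules.pullbackPushforwardAdjunction (I ^ n).subschemeι).unit.app F).app ⊤ s = 0 := by
    intro n
    constructor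
    · rintro ⟨t, rfl⟩
      exact Groth.Agent.Lib.Seat16.IdealMul.app_kernel_ι_eq_zero _ ⊤ t
    · intro h
      exact Groth.Agent.Lib.Seat16.IdealMul.exists_kernel_of_app_eq_zero _ ⊤ s h
  simp only [key]
  constructor
  · intro h
    obtain ⟨V, hV, hs⟩ := Groth.Agent.Lib.Seat16.IdealMul.exists_open_of_forall_unit_eq_zero I F s h
    exact ⟨V, hV, hs⟩
  · rintro ⟨V, hV, hs⟩ n
    exact Groth.Agent.Lib.Seat16.IdealMul.unit_eq_zero_of_res_eq_zero I F s V hV hs n

end Groth.Agent.S3665
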