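import Groth.Statements.S3713
import Groth.Agent.Lib.Seat18SecChartSch

set_option autoImplicit false
universe u
open SGA1

namespace Groth.Agent.S3713

open AlgebraicGeometry CategoryTheory CategoryTheory.Limits in
/-- Let Y be locally Noetherian, f : X -> Y locally of finite type, i a section of f and y a point of Y.
Then X is smooth over Y at i(y) (i(y) lies in the smooth locus of f) if and only if there are an
open neighbourhood U of y, an open V of X with i(U) ⊆ V ⊆ f^{-1}(U), and finitely many sections of
O_X over V, all vanishing along i(U), which define an etale U-morphism from V to an affine space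
over U (so that this etale chart carries the section to the zero section). -/
theorem result {X Y : Scheme.{u}} [IsLocallyNoetherian Y] (f : X ⟶ Y)
    [LocallyOfFiniteType f] [LocallyOfFinitePresentation f] (i : Y ⟶ X) (hi : i ≫ f = 𝟙 Y) (y : Y) :
    i.base y ∈ f.smoothLocus ↔
      ∃ (U : Y.Opens) (V : X.Opens) (_ : y ∈ U) (hUV : U ≤ i ⁻¹ᵁ V) (hVU : V ≤ f ⁻¹ᵁ U) (m : ℕ)
        (v : ULift.{u} (Fin m) → Γ(V, ⊤)),
        Etale (AffineSpace.homOfVector (f.resLE U V hVU) v) ∧ ∀ j, (i.resLE V U hUV).appTop (v j) = 0 := by
  classical
  constructor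
  · intro hy
    obtain ⟨U, V, hU, hV, hyU, hUV, hVU, m, g, hét, hg0⟩ :=
      Groth.Agent.Lib.Seat18.SecChartSch.exists_chart f i hi y hy
    have : IsAffine (U : Scheme.{u}) := hU
    have : IsAffine (V : Scheme.{u}) := hV
    have happ : (f.resLE U V hVU).appTop = U.topIso.hom ≫ f.appLE U V hVU ≫ V.topIso.inv :=
      Scheme.Hom.resLE_app_top f hVU
    have happi : (i.resLE V U hUV).appTop = V.topIso.hom ≫ i.appLE V U hUV ≫ U.topIso.inv :=
      Scheme.Hom.resLE_app_top i hUV
    refine ⟨U, V, hyU, hUV, hVU, m, fun j => V.topIso.inv (g j.down), ?_, ?_⟩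
    · apply Groth.Agent.Lib.Seat18.SecChartSch.etale_homOfVector_of_isAffine
      have h1 : MvPolynomial.eval₂Hom (f.resLE U V hVU).appTop.hom
          (fun j : ULift.{u} (Fin m) => V.topIso.inv (g j.down)) =
          V.topIso.inv.hom.comp ((MvPolynomial.eval₂Hom (f.appLE U V hVU).hom g).comp
            ((MvPolynomial.rename ULift.down :
                MvPolynomial (ULift.{u} (Fin m)) Γ(Y, U) →ₐ[Γ(Y, U)]
                  MvPolynomial (Fin m) Γ(Y, U)).toRingHom.comp
              (MvPolynomial.map U.topIso.hom.hom))) := by
        apply MvPolynomial.ringHom_ext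
        · intro r
          simp only [RingHom.comp_apply, MvPolynomial.coe_eval₂Hom, MvPolynomial.eval₂_C,
            AlgHom.toRingHom_eq_coe, RingHom.coe_coe, MvPolynomial.map_C, MvPolynomial.rename_C]
          rw [happ]
          rfl
        · intro j
          simp only [RingHom.comp_apply, MvPolynomial.coe_eval₂Hom, MvPolynomial.eval₂_X,
            AlgHom.toRingHom_eq_coe, RingHom.coe_coe, MvPolynomial.map_X, MvPolynomial.rename_X]
      rw [h1]
      refine RingHom.Etale.stableUnderComposition _ _ ?_ (RingHom.Etale.of_bijective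
        (ConcreteCategory.bijective_of_isIso V.topIso.inv))
      refine RingHom.Etale.stableUnderComposition _ _ ?_ hét
      refine RingHom.Etale.of_bijective ?_
      rw [RingHom.coe_comp]
      refine Function.Bijective.comp ?_ ?_
      · exact ⟨MvPolynomial.rename_injective _ ULift.down_injective,
          MvPolynomial.rename_surjective _ ULift.down_surjective⟩
      · exact ⟨MvPolynomial.map_injective _ (ConcreteCategory.bijective_of_isIso U.topIso.hom).1,
          MvPolynomial.map_surjective _ (ConcreteCategory.bijective_of_isIso U.topIso.hom).2⟩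
    · intro j
      rw [happi, CommRingCat.comp_apply, CommRingCat.comp_apply]
      have h2 : V.topIso.hom (V.topIso.inv (g j.down)) = g j.down := by
        rw [← CommRingCat.comp_apply, Iso.inv_hom_id]
        rfl
      rw [h2, hg0, map_zero]
  · rintro ⟨U, V, hyU, hUV, hVU, m, v, hét, -⟩
    exact Groth.Agent.Lib.Seat18.SecChartSch.mem_smoothLocus_of_etale_chart f U V hVU v hét _
      (hUV hyU)

end Groth.Agent.S3713
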