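import Groth.Statements.S3718
import Groth.Agent.Lib.Seat2AbVarTors
import Groth.Agent.S8190

set_option autoImplicit false
universe u
open CategoryTheory MonoidalCategory CartesianMonoidalCategory MonObj GrpObj AlgebraicGeometry
open Pi1

namespace Groth.Agent.S3718

open Groth.Agent.Lib.Seat2.AbVarTors Groth.Agent.Lib.Helper11Rigidity Limits

lemma aux_w {X Y S : Scheme.{u}} (f : X ⟶ Y) (N : Y ⟶ Y) (p : Y ⟶ S) (g : X ⟶ Y) (hN : N ≫ p = p)
    (hf : f ≫ N = g) : f ≫ p = g ≫ p := by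
  rw [← hf, Category.assoc, hN]

/-- The covers that compute the prime-to-p part of the fundamental group of an abelian variety: let k be
algebraically closed, A an abelian variety over k (a proper, geometrically integral group scheme
over k) and n ≥ 1 an integer invertible in k. Granted that multiplication by n (the n-th power of
the identity in the group Hom(A, A)) is a finite etale cover of A, it is a Galois cover, and its
automorphisms over A are exactly the translations x -> x + a by the k-points a of A with n a = 0,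
each such a giving exactly one automorphism. (With the domination row this identifies the maximal
prime-to-p quotient of the fundamental group with the inverse limit of the prime-to-p torsion
points.) -/
theorem result (k : Type u) [Field k] [IsAlgClosed k]
    (A : Over (Spec (CommRingCat.of k))) [GrpObj A] [IsProper A.hom] [GeometricallyIntegral A.hom]
    (n : ℕ) (hn1 : 1 ≤ n) (hn : IsUnit ((n : ℕ) : k)) :
    ∀ [hF : IsFinite ((𝟙 A) ^ (n : ℤ)).left] [hE : Etale ((𝟙 A) ^ (n : ℤ)).left],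
      PiSp.IsGaloisCover (MorphismProperty.Over.mk ⊤ ((𝟙 A) ^ (n : ℤ)).left ⟨hF, hE⟩ : FEt.Cat A.left) ∧
      (∀ θ : Aut (MorphismProperty.Over.mk ⊤ ((𝟙 A) ^ (n : ℤ)).left ⟨hF, hE⟩ : FEt.Cat A.left),
        ∃! a : 𝟙_ (Over (Spec (CommRingCat.of k))) ⟶ A, a ^ (n : ℤ) = 1 ∧
          θ.hom.left = ((𝟙 A) * (toUnit A ≫ a)).left) ∧
      (∀ a : 𝟙_ (Over (Spec (CommRingCat.of k))) ⟶ A, a ^ (n : ℤ) = 1 →
        ∃ θ : Aut (MorphismProperty.Over.mk ⊤ ((𝟙 A) ^ (n : ℤ)).left ⟨hF, hE⟩ : FEt.Cat A.left),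
          θ.hom.left = ((𝟙 A) * (toUnit A ≫ a)).left) := by
  intro hF hE
  classical
  have hNw : ((𝟙 A) ^ (n : ℤ)).left ≫ A.hom = A.hom := Over.w _
  -- commutativity
  have hcomm : ∀ {T : Over (Spec (CommRingCat.of k))} (x y : T ⟶ A), x * y = y * x := by
    intro T x y
    have h := commute_of_homs A A A (𝟙 A) (𝟙 A)
    rw [Category.comp_id, Category.comp_id] at h
    have h2 := congrArg (fun m => lift x y ≫ m) h
    simp only [MonObj.comp_mul, lift_fst, lift_snd] at h2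
    exact h2
  haveI : IsIntegral A.left := GeometricallyIntegral.isIntegral_of_subsingleton (f := A.hom)
  -- translations are automorphisms of the cover
  have hw : ∀ b : 𝟙_ (Over (Spec (CommRingCat.of k))) ⟶ A, b ^ (n : ℤ) = 1 →
      (transl b).left ≫ ((𝟙 A) ^ (n : ℤ)).left = ((𝟙 A) ^ (n : ℤ)).left := fun b hb => by
    rw [← Over.comp_left, transl_comp_zpow (fun x y => hcomm x y) b n hb]
  have hθ : ∀ a : 𝟙_ (Over (Spec (CommRingCat.of k))) ⟶ A, a ^ (n : ℤ) = 1 →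
      ∃ θ : Aut (MorphismProperty.Over.mk ⊤ ((𝟙 A) ^ (n : ℤ)).left ⟨hF, hE⟩ : FEt.Cat A.left),
        θ.hom.left = ((𝟙 A) * (toUnit A ≫ a)).left := by
    intro a ha
    have hinv : (a⁻¹) ^ (n : ℤ) = 1 := by rw [inv_zpow, ha, inv_one]
    let f : (MorphismProperty.Over.mk ⊤ ((𝟙 A) ^ (n : ℤ)).left ⟨hF, hE⟩ : FEt.Cat A.left) ⟶
        MorphismProperty.Over.mk ⊤ ((𝟙 A) ^ (n : ℤ)).left ⟨hF, hE⟩ :=
      MorphismProperty.Over.homMk (transl a).left (hw a ha)
    let g : (MorphismProperty.Over.mk ⊤ ((𝟙 A) ^ (n : ℤ)).left ⟨hF, hE⟩ : FEt.Cat A.left) ⟶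
        MorphismProperty.Over.mk ⊤ ((𝟙 A) ^ (n : ℤ)).left ⟨hF, hE⟩ :=
      MorphismProperty.Over.homMk (transl a⁻¹).left (hw _ hinv)
    refine ⟨⟨f, g, ?_, ?_⟩, rfl⟩
    · ext
      change (transl a).left ≫ (transl a⁻¹).left = 𝟙 _
      rw [← Over.comp_left, transl_mul, _root_.mul_inv_cancel, transl_one]
      rfl
    · ext
      change (transl a⁻¹).left ≫ (transl a).left = 𝟙 _
      rw [← Over.comp_left, transl_mul, _root_.inv_mul_cancel, transl_one]
      rfl
  refine ⟨⟨(show ConnectedSpace A.left from inferInstance), ?_⟩, ?_, hθ⟩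
  · -- transitivity on geometric fibres
    intro Ω _ _ ξ s t
    obtain ⟨s, hs⟩ := s
    obtain ⟨t, ht⟩ := t
    change Spec (CommRingCat.of Ω) ⟶ A.left at s
    change Spec (CommRingCat.of Ω) ⟶ A.left at t
    change s ≫ ((𝟙 A) ^ (n : ℤ)).left = ξ at hs
    change t ≫ ((𝟙 A) ^ (n : ℤ)).left = ξ at ht
    let T : Over (Spec (CommRingCat.of k)) := Over.mk (ξ ≫ A.hom)
    have hsw : s ≫ A.hom = T.hom := by
      change _ = ξ ≫ A.hom
      rw [← hs, Category.assoc, hNw]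
    have htw : t ≫ A.hom = T.hom := by
      change _ = ξ ≫ A.hom
      rw [← ht, Category.assoc, hNw]
    let s' : T ⟶ A := Over.homMk s hsw
    let t' : T ⟶ A := Over.homMk t htw
    let d : T ⟶ A := s'⁻¹ * t'
    have hd : d ^ (n : ℤ) = 1 := by
      have h1 : s' ≫ (𝟙 A) ^ (n : ℤ) = t' ≫ (𝟙 A) ^ (n : ℤ) := by
        ext
        change s ≫ ((𝟙 A) ^ (n : ℤ)).left = t ≫ ((𝟙 A) ^ (n : ℤ)).left
        rw [hs, ht]
      rw [GrpObj.comp_zpow, GrpObj.comp_zpow, Category.comp_id, Category.comp_id] at h1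
      have hc : Commute s'⁻¹ t' := hcomm _ _
      rw [hc.mul_zpow, inv_zpow, h1, _root_.inv_mul_cancel]
    let η' : Spec (CommRingCat.of k) ⟶ A.left := (1 : 𝟙_ (Over (Spec (CommRingCat.of k))) ⟶ A).left
    have hη'w : η' ≫ A.hom = 𝟙 _ := Over.w (1 : 𝟙_ (Over (Spec (CommRingCat.of k))) ⟶ A)
    have hone : ∀ (T' : Over (Spec (CommRingCat.of k))), (1 : T' ⟶ A).left = T'.hom ≫ η' := by
      intro T'
      have : (1 : T' ⟶ A) = toUnit T' ≫ (1 : 𝟙_ (Over (Spec (CommRingCat.of k))) ⟶ A) := by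
        rw [MonObj.comp_one]
      rw [this, Over.comp_left]
      rfl
    have hdl : d.left ≫ ((𝟙 A) ^ (n : ℤ)).left = T.hom ≫ η' := by
      have h2 : d ≫ (𝟙 A) ^ (n : ℤ) = 1 := by rw [GrpObj.comp_zpow, Category.comp_id, hd]
      rw [← Over.comp_left, h2, hone]
    let dK : Spec (CommRingCat.of Ω) ⟶ pullback ((𝟙 A) ^ (n : ℤ)).left η' :=
      pullback.lift d.left T.hom hdl
    have hp : FEt.prop (pullback.snd ((𝟙 A) ^ (n : ℤ)).left η') :=
      ⟨inferInstance, inferInstance⟩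
    obtain ⟨b, hb1, hb2⟩ := exists_section_factor k (pullback.snd ((𝟙 A) ^ (n : ℤ)).left η') hp Ω dK
    have hdK2 : dK ≫ pullback.snd ((𝟙 A) ^ (n : ℤ)).left η' = T.hom := pullback.lift_snd _ _ _
    have hdK1 : dK ≫ pullback.fst ((𝟙 A) ^ (n : ℤ)).left η' = d.left := pullback.lift_fst _ _ _
    have hbN : (b ≫ pullback.fst ((𝟙 A) ^ (n : ℤ)).left η') ≫ ((𝟙 A) ^ (n : ℤ)).left = η' := by
      rw [Category.assoc, pullback.condition, ← Category.assoc, hb1, Category.id_comp]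
    have haw : (b ≫ pullback.fst ((𝟙 A) ^ (n : ℤ)).left η') ≫ A.hom =
        (𝟙_ (Over (Spec (CommRingCat.of k)))).hom := by
      rw [aux_w _ _ A.hom η' hNw hbN, hη'w]
      rfl
    let a : 𝟙_ (Over (Spec (CommRingCat.of k))) ⟶ A :=
      Over.homMk (b ≫ pullback.fst ((𝟙 A) ^ (n : ℤ)).left η') haw
    have ha : a ^ (n : ℤ) = 1 := by
      have h3 : a ≫ (𝟙 A) ^ (n : ℤ) = 1 := by
        ext
        change (b ≫ pullback.fst ((𝟙 A) ^ (n : ℤ)).left η') ≫ ((𝟙 A) ^ (n : ℤ)).left = _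
        rw [hbN]
      rw [GrpObj.comp_zpow, Category.comp_id] at h3
      exact h3
    have hda : d = toUnit T ≫ a := by
      ext
      change d.left = T.hom ≫ b ≫ pullback.fst ((𝟙 A) ^ (n : ℤ)).left η'
      rw [← hdK1, ← hb2, hdK2, Category.assoc]
    obtain ⟨θ, hθa⟩ := hθ a ha
    refine ⟨θ, ?_⟩
    apply Subtype.ext
    change s ≫ θ.hom.left = t
    rw [hθa]
    have h4 : s' ≫ transl a = t' := by
      rw [comp_transl, ← hda]
      change s' * (s'⁻¹ * t') = t'
      rw [_root_.mul_inv_cancel_left]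
    exact congrArg (fun m => m.left) h4
  · -- automorphisms are translations
    intro θ
    have hθw : θ.hom.left ≫ ((𝟙 A) ^ (n : ℤ)).left = ((𝟙 A) ^ (n : ℤ)).left :=
      MorphismProperty.Over.w θ.hom
    have hΘw : θ.hom.left ≫ A.hom = A.hom := by
      exact (aux_w _ _ A.hom _ hNw hθw).trans hNw
    let Θ : A ⟶ A := Over.homMk θ.hom.left hΘw
    let a : 𝟙_ (Over (Spec (CommRingCat.of k))) ⟶ A := (1 : 𝟙_ (Over (Spec (CommRingCat.of k))) ⟶ A) ≫ Θ
    have hΘN : Θ ≫ (𝟙 A) ^ (n : ℤ) = (𝟙 A) ^ (n : ℤ) := by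
      ext
      exact hθw
    have ha : a ^ (n : ℤ) = 1 := by
      have h1 : a ≫ (𝟙 A) ^ (n : ℤ) = 1 := by
        change ((1 : 𝟙_ (Over (Spec (CommRingCat.of k))) ⟶ A) ≫ Θ) ≫ (𝟙 A) ^ (n : ℤ) = 1
        rw [Category.assoc, hΘN, GrpObj.comp_zpow, Category.comp_id, one_zpow]
      rw [GrpObj.comp_zpow, Category.comp_id] at h1
      exact h1
    have key : θ.hom.left = (transl a).left := by
      refine Groth.Agent.S8190.result ((𝟙 A) ^ (n : ℤ)).left ((𝟙 A) ^ (n : ℤ)).left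
        θ.hom.left (transl a).left hθw (hw a ha) k
        (1 : 𝟙_ (Over (Spec (CommRingCat.of k))) ⟶ A).left ?_
      rw [← Over.comp_left, pt_transl]
      rfl
    refine ⟨a, ⟨ha, key⟩, ?_⟩
    rintro a' ⟨ha', h'⟩
    have hΘ' : Θ = transl a' := by
      ext
      exact h'
    change a' = (1 : 𝟙_ (Over (Spec (CommRingCat.of k))) ⟶ A) ≫ Θ
    rw [hΘ', pt_transl]

end Groth.Agent.S3718
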