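import Groth.Statements.S3721
import Groth.Agent.Lib.Seat2ArtinSchreier

set_option autoImplicit false
open CategoryTheory CategoryTheory.Limits AlgebraicGeometry
universe u
open SGA1t

namespace Groth.Agent.S3721

open Groth.Agent.Lib.Helper26.FEtAffine Groth.Agent.Lib.Seat2.TorsorAlg
  Groth.Agent.Lib.Seat2.ArtinSchreier

lemma aux_conj {W X Y : Scheme.{u}} (s t : W ⟶ Y) (e : X ≅ Y) (r : X ⟶ X) :
    s ≫ e.inv ≫ r ≫ e.hom = t ↔ (s ≫ e.inv) ≫ r = t ≫ e.inv := by
  constructor
  · intro h
    rw [← h]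
    simp
  · intro h
    have := congrArg (fun m => m ≫ e.hom) h
    simpa using this

/-- `stdHom` is injective. -/
lemma stdHom_injective (A : Type u) [CommRing A] {B C : Type u} [CommRing B] [Algebra A B]
    [Module.Finite A B] [Algebra.Etale A B] [CommRing C] [Algebra A C] [Module.Finite A C]
    [Algebra.Etale A C] (g g' : C →ₐ[A] B) (h : stdHom A g = stdHom A g') : g = g' := by
  have h1 : (stdHom A g).left = (stdHom A g').left := congrArg (fun m => m.left) h
  rw [stdHom_left, stdHom_left] at h1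
  have h2 := Spec.map_injective h1
  have h3 : g.toRingHom = g'.toRingHom := congrArg (fun m => m.hom) h2
  ext x
  exact RingHom.congr_fun h3 x

/-- Let p be a prime and A a commutative ring of characteristic p. Then every principal ℤ/p-cover P of
Spec A (a finite étale cover with an action of ℤ/p making it a torsor) is isomorphic over Spec A to
an Artin–Schreier cover Spec A[T]/(T^p − T − a) for some a ∈ A, compatibly with the actions: under
the isomorphism the given action of j ∈ ℤ/p on P corresponds to the automorphism of the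
Artin–Schreier cover induced by T ↦ T + j. The published statement is for any base S of
characteristic p on which Frobenius fixes no nonzero element of H¹(S, O_S); it is stated here for S
= Spec A affine. -/
theorem result (A : Type u) [CommRing A] (p : ℕ) [Fact p.Prime] [CharP A p]
    (P : FEt.Cat (Spec (CommRingCat.of A))) (ρ : Multiplicative (ZMod p) →* Aut P)
    (hP : SGA1t.IsPrincipal (Multiplicative (ZMod p)) P ρ) :
    ∃ (a : A) (e : P.left ≅ Spec (CommRingCat.of (SGA1t.artinSchreier A p a))),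
      e.hom ≫ Spec.map (CommRingCat.ofHom (algebraMap A (SGA1t.artinSchreier A p a))) = P.hom ∧
      ∀ j : ZMod p, (ρ (Multiplicative.ofAdd j)).hom.left ≫ e.hom =
        e.hom ≫ Spec.map (CommRingCat.ofHom (SGA1t.artinSchreierShift A p a j)) := by
  classical
  -- the affine dictionary
  obtain ⟨B, _, _, _, _, e₀, he₀⟩ := exists_iso_specMap A (X := P.left) P.hom P.prop
  let E₀ : P ≅ std A B := MorphismProperty.Over.isoMk e₀ he₀
  have hE₀hom : E₀.hom.left = e₀.hom := rfl
  have hE₀inv : E₀.inv.left = e₀.inv := rfl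
  -- the group in the right universe
  let G₁ := ULift.{u} (Multiplicative (ZMod p))
  let ρ₁ : G₁ →* Aut (std A B) :=
    (E₀.conjAut.toMonoidHom.comp ρ).comp (MulEquiv.ulift.toMonoidHom)
  have hρ₁ : ∀ g : G₁, (ρ₁ g).hom = E₀.inv ≫ (ρ g.down).hom ≫ E₀.hom := fun g => rfl
  have hρ₁left : ∀ g : G₁, (ρ₁ g).hom.left = e₀.inv ≫ (ρ g.down).hom.left ≫ e₀.hom := fun g => rfl
  -- the action on the algebra
  have hτex : ∀ g : G₁, ∃ t : B →ₐ[A] B, (ρ₁ g).hom = stdHom A t := fun g => exists_stdHom A _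
  choose τ hτ using hτex
  have hτmul : ∀ g h : G₁, (τ g).comp (τ h) = τ (h * g) := by
    intro g h
    apply stdHom_injective A
    rw [← stdHom_comp, ← hτ, ← hτ, ← hτ, map_mul]
    rfl
  -- surjectivity and faithful flatness
  have hsurj : Function.Surjective (PrimeSpectrum.comap (algebraMap A B)) := by
    intro x
    obtain ⟨y, hy⟩ := hP.1 x
    refine ⟨e₀.hom y, ?_⟩
    have h1 : (e₀.hom ≫ Spec.map (CommRingCat.ofHom (algebraMap A B))) y = x := by
      rw [he₀]
      exact hy
    exact h1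
  haveI : Module.FaithfullyFlat A B := Module.FaithfullyFlat.of_comap_surjective hsurj
  -- simply transitive action on the standard cover
  have hsimp : ∀ (Ω : Type u) [Field Ω] [IsAlgClosed Ω]
      (ξ : Spec (CommRingCat.of Ω) ⟶ Spec (CommRingCat.of A)) (s t : FEt.fiberObj ξ (std A B)),
      ∃! g : G₁, (FEt.fiber ξ).map (ρ₁ g).hom s = t := by
    intro Ω _ _ ξ s t
    obtain ⟨s, hs⟩ := s
    obtain ⟨t, ht⟩ := t
    change Spec (CommRingCat.of Ω) ⟶ Spec (CommRingCat.of B) at s
    change Spec (CommRingCat.of Ω) ⟶ Spec (CommRingCat.of B) at t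
    change s ≫ Spec.map (CommRingCat.ofHom (algebraMap A B)) = ξ at hs
    change t ≫ Spec.map (CommRingCat.ofHom (algebraMap A B)) = ξ at ht
    have hw : e₀.inv ≫ P.hom = Spec.map (CommRingCat.ofHom (algebraMap A B)) := by
      rw [← he₀, Iso.inv_hom_id_assoc]
    have hs' : (s ≫ e₀.inv) ≫ P.hom = ξ := by rw [Category.assoc, hw, hs]
    have ht' : (t ≫ e₀.inv) ≫ P.hom = ξ := by rw [Category.assoc, hw, ht]
    obtain ⟨g, hg, huniq⟩ := hP.2 Ω ξ ⟨s ≫ e₀.inv, hs'⟩ ⟨t ≫ e₀.inv, ht'⟩
    have hg' : (s ≫ e₀.inv) ≫ (ρ g).hom.left = t ≫ e₀.inv := congrArg Subtype.val hg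
    have key : ∀ g' : G₁, ((FEt.fiber ξ).map (ρ₁ g').hom ⟨s, hs⟩ = (⟨t, ht⟩ : FEt.fiberObj ξ (std A B))) ↔
        (s ≫ e₀.inv) ≫ (ρ g'.down).hom.left = t ≫ e₀.inv := by
      intro g'
      constructor
      · intro h
        have h1 : s ≫ (ρ₁ g').hom.left = t := congrArg Subtype.val h
        exact (aux_conj s t e₀ (ρ g'.down).hom.left).mp h1
      · intro h
        apply Subtype.ext
        exact (aux_conj s t e₀ (ρ g'.down).hom.left).mpr h
    refine ⟨⟨g⟩, (key ⟨g⟩).mpr hg', ?_⟩
    intro g' hg''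
    have h1 := (key g').mp hg''
    have h2 : g'.down = g := huniq g'.down (Subtype.ext h1)
    exact ULift.ext _ _ h2
  have hψ₁ : Function.Bijective (psi A B G₁ τ) := psi_bijective A B G₁ τ ρ₁ hτ hsimp
  -- the additive parametrisation
  let ι : ZMod p → G₁ := fun j => ⟨Multiplicative.ofAdd j⟩
  let σ : ZMod p → (B →ₐ[A] B) := fun j => τ (ι j)
  have hσadd : ∀ j k, (σ j).comp (σ k) = σ (j + k) := by
    intro j k
    change (τ (ι j)).comp (τ (ι k)) = τ (ι (j + k))
    rw [hτmul]
    congr 1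
    apply ULift.ext
    change Multiplicative.ofAdd k * Multiplicative.ofAdd j = Multiplicative.ofAdd (j + k)
    rw [← ofAdd_add, add_comm]
  let ιe : ZMod p ≃ G₁ := (Multiplicative.ofAdd).trans Equiv.ulift.symm
  have hψ : Function.Bijective (psi A B (ZMod p) σ) := by
    have h1 : ⇑(psi A B (ZMod p) σ) = (fun f : G₁ → B => fun j => f (ιe j)) ∘ ⇑(psi A B G₁ τ) := by
      funext z
      funext j
      rfl
    rw [h1]
    refine Function.Bijective.comp ?_ hψ₁
    exact (Equiv.arrowCongr ιe.symm (Equiv.refl B)).bijective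
  -- a trace-one element
  haveI : Fintype G₁ := Fintype.ofFinite G₁
  obtain ⟨c, hc₁⟩ := exists_trace_eq_one A B G₁ τ hψ₁ hτmul
  have hc : ∑ j, σ j c = 1 := by
    rw [← hc₁]
    exact Fintype.sum_equiv ιe _ _ (fun j => rfl)
  -- Artin–Schreier
  obtain ⟨a, Φ, hΦalg, hΦshift⟩ := exists_ringEquiv A p B σ hσadd hψ c hc
  let sΦ : Spec (CommRingCat.of B) ≅ Spec (CommRingCat.of (SGA1t.artinSchreier A p a)) :=
    Scheme.Spec.mapIso (Φ.toCommRingCatIso).op
  have hsΦ : sΦ.hom = Spec.map (CommRingCat.ofHom (Φ : SGA1t.artinSchreier A p a →+* B)) := rfl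
  refine ⟨a, e₀ ≪≫ sΦ, ?_, ?_⟩
  · rw [Iso.trans_hom, Category.assoc, hsΦ, ← Spec.map_comp, ← CommRingCat.ofHom_comp, hΦalg, he₀]
  · intro j
    have h1 : (ρ (Multiplicative.ofAdd j)).hom.left ≫ e₀.hom =
        e₀.hom ≫ Spec.map (CommRingCat.ofHom (σ j).toRingHom) := by
      have h2 : (ρ₁ (ι j)).hom.left = Spec.map (CommRingCat.ofHom (σ j).toRingHom) := by
        rw [hτ]
        rfl
      rw [hρ₁left] at h2
      rw [← h2, Iso.hom_inv_id_assoc]
    rw [Iso.trans_hom, ← Category.assoc, h1, Category.assoc, Category.assoc, hsΦ, ← Spec.map_comp,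
      ← Spec.map_comp, ← CommRingCat.ofHom_comp, ← CommRingCat.ofHom_comp]
    congr 3
    exact hΦshift j

end Groth.Agent.S3721
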