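import Groth.Statements.S3797
import Mathlib
import Groth.Agent.Lib.Helper1Sky9

set_option autoImplicit false
universe v u
open CategoryTheory CategoryTheory.Limits AlgebraicGeometry
attribute [local instance] HasDerivedCategory.standard
open KRR

namespace Groth.Agent.S3797

section helpers

open Groth.Agent.Lib.Helper1.Sky

variable {X Y : Scheme.{u}} (f : X ⟶ Y)

theorem cl_of_pos {Z : Scheme.{u}} (E : Z.Modules) (hE : FlatMod.IsFinLocFree E) :
    cl Z E = QuotientAddGroup.mk (FreeAbelianGroup.of (⟨E, hE⟩ : Subtype (vbP Z))) :=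
  dif_pos hE

/-- the relations of `Kvb Y` go to zero under `E ↦ [f^* E]`. -/
theorem relSub_le_ker :
    KZero.relSub (vbP Y) ≤ (FreeAbelianGroup.lift fun E : Subtype (vbP Y) =>
      cl X ((Scheme.Modules.pullback f).obj E.1)).ker := by
  refine (AddSubgroup.closure_le _).2 ?_
  rintro x ⟨S, h₁, h₂, h₃, hS, rfl⟩
  have hS' : (S.map (Scheme.Modules.pullback f)).ShortExact :=
    shortExact_map_pullback f S hS (isFlat_of_isFinLocFree' S.X₃ h₃)
  have k₁ := isFinLocFree_pullback f S.X₁ h₁
  have k₂ := isFinLocFree_pullback f S.X₂ h₂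
  have k₃ := isFinLocFree_pullback f S.X₃ h₃
  change FreeAbelianGroup.lift _ _ = 0
  rw [map_sub, map_sub, FreeAbelianGroup.lift_apply_of, FreeAbelianGroup.lift_apply_of,
    FreeAbelianGroup.lift_apply_of, cl_of_pos _ k₁, cl_of_pos _ k₂, cl_of_pos _ k₃,
    ← QuotientAddGroup.mk_sub, ← QuotientAddGroup.mk_sub]
  refine (QuotientAddGroup.eq_zero_iff _).2 (AddSubgroup.subset_closure ?_)
  exact ⟨S.map (Scheme.Modules.pullback f), k₁, k₂, k₃, hS', rfl⟩

/-- the pull-back `Kvb Y → Kvb X`. -/
noncomputable def pullKvb : SGA6.Kvb Y →+ SGA6.Kvb X :=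
  QuotientAddGroup.lift (KZero.relSub (vbP Y))
    (FreeAbelianGroup.lift fun E : Subtype (vbP Y) => cl X ((Scheme.Modules.pullback f).obj E.1))
    (relSub_le_ker f)

theorem pullKvb_cl (E : Y.Modules) (hE : FlatMod.IsFinLocFree E) :
    pullKvb f (cl Y E) = cl X ((Scheme.Modules.pullback f).obj E) := by
  rw [cl_of_pos E hE]
  change FreeAbelianGroup.lift _ (FreeAbelianGroup.of _) = _
  rw [FreeAbelianGroup.lift_apply_of]

/-- additive maps out of `Kvb Y` agreeing on classes of vector bundles are equal. -/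
theorem hom_ext_Kvb {M : Type*} [AddCommGroup M] (a b : SGA6.Kvb Y →+ M)
    (hab : ∀ E : Y.Modules, FlatMod.IsFinLocFree E → a (cl Y E) = b (cl Y E)) : a = b := by
  apply QuotientAddGroup.addMonoidHom_ext
  apply FreeAbelianGroup.lift_ext
  rintro ⟨E, hE⟩
  have := hab E hE
  rw [cl_of_pos E hE] at this
  exact this

end helpers

/-- For a morphism f : X ⟶ Y of connected Noetherian schemes and models (KX, PX, φX), (KY, PY, φY) of
K(X) and K(Y), there is a unique additive map g : K(Y) ⟶ K(X) with g[E] = [f^*E] for every finite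
locally free O_Y-module E (the pull-back f^K). (The published treatment adds that f^K is a
homomorphism of λ-rings; that is not asserted here.) -/
theorem result {X Y : Scheme.{u}} (f : X ⟶ Y) [IsNoetherian X] [ConnectedSpace ↥X] [IsNoetherian Y] [ConnectedSpace ↥Y]
    (KX : Type v) [CommRing KX] [LambdaRing.LambdaOps KX] (PX : LambdaRing.PosStructure KX) (φX : SGA6.Kvb X →+ KX) (hKX : KRR.IsModel X KX PX φX)
    (KY : Type v) [CommRing KY] [LambdaRing.LambdaOps KY] (PY : LambdaRing.PosStructure KY) (φY : SGA6.Kvb Y →+ KY) (hKY : KRR.IsModel Y KY PY φY) :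
    ∃! g : KY →+ KX, KRR.IsPull f φY φX g := by
  let eY : SGA6.Kvb Y ≃+ KY := AddEquiv.ofBijective φY hKY.bijective
  refine ⟨(φX.comp (pullKvb f)).comp eY.symm.toAddMonoidHom, ?_, ?_⟩
  · intro E hE
    have h1 : eY.symm (φY (cl Y E)) = cl Y E := eY.symm_apply_apply (cl Y E)
    change φX (pullKvb f (eY.symm (φY (cl Y E)))) = _
    rw [h1, pullKvb_cl f E hE]
  · intro g hg
    have h2 : g.comp φY = φX.comp (pullKvb f) := by
      apply hom_ext_Kvb
      intro E hE
      change g (φY (cl Y E)) = φX (pullKvb f (cl Y E))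
      rw [hg E hE, pullKvb_cl f E hE]
    ext y
    obtain ⟨x, rfl⟩ := hKY.bijective.2 y
    have h1 : eY.symm (φY x) = x := eY.symm_apply_apply x
    change g (φY x) = φX (pullKvb f (eY.symm (φY x)))
    rw [h1]
    exact DFunLike.congr_fun h2 x

end Groth.Agent.S3797
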