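import Groth.Statements.S3863
import Groth.Agent.Lib.Seat17ComplTilde
import Groth.Agent.S3866

set_option autoImplicit false
universe u
open FCompl

namespace Groth.Agent.S3863

section Helpers
open AlgebraicGeometry CategoryTheory
open Groth.Agent.Lib.Seat17.ComplTilde

variable (A : Type u) [CommRing A] (J : Ideal A)

theorem pn_comm (n : ℕ) :
    (FSch.completionAlong _ (FSch.idealSpec A J)).ι n ≫ pn A J (n + 1) = pn A J n :=
  Scheme.IdealSheafData.inclusion_subschemeι (FSch.pow_succ_le _ (FSch.idealSpec A J) n)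

/-- the transition maps `Γ(p_{n+1,*} p_{n+1}^* N~) ⟶ Γ(p_{n,*} p_n^* N~)`. -/
noncomputable def rn (N : ModuleCat.{u} A) (n : ℕ) :
    (Rp (pn A J (n + 1))).obj ((Lp (pn A J (n + 1))).obj N) ⟶ (Rp (pn A J n)).obj ((Lp (pn A J n)).obj N) :=
  transOf ((FSch.completionAlong _ (FSch.idealSpec A J)).ι n) (pn A J (n + 1)) (pn A J n)
    (pn_comm A J n) N

theorem unit_rn (N : ModuleCat.{u} A) (n : ℕ) :
    (adjP (pn A J (n + 1))).unit.app N ≫ rn A J N n = (adjP (pn A J n)).unit.app N :=
  unit_transOf ((FSch.completionAlong _ (FSch.idealSpec A J)).ι n) (pn A J (n + 1)) (pn A J n)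
    (pn_comm A J n) N

theorem complTransIso_eq (n : ℕ) : FSch.complTransIso (FSch.idealSpec A J) n =
    Scheme.Modules.pullbackComp ((FSch.completionAlong _ (FSch.idealSpec A J)).ι n) (pn A J (n + 1)) ≪≫
      Scheme.Modules.pullbackCongr (pn_comm A J n) := rfl

theorem theta_eq (N : ModuleCat.{u} A) (n : ℕ) :
    (thetaOf ((FSch.completionAlong _ (FSch.idealSpec A J)).ι n) (pn A J (n + 1)) (pn A J n)
      (pn_comm A J n)).hom.app N =
    (FSch.complTransIso (FSch.idealSpec A J) n).hom.app ((tilde.functor (CommRingCat.of A)).obj N) := by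
  rw [complTransIso_eq]
  exact thetaOf_hom_app ((FSch.completionAlong _ (FSch.idealSpec A J)).ι n) (pn A J (n + 1)) (pn A J n)
      (pn_comm A J n) N

theorem homEquiv_rn {M N : ModuleCat.{u} A}
    (ψ : FSch.complMod (FSch.idealSpec A J) ((tilde.functor (CommRingCat.of A)).obj M) ⟶
      FSch.complMod (FSch.idealSpec A J) ((tilde.functor (CommRingCat.of A)).obj N)) (n : ℕ) :
    (adjP (pn A J (n + 1))).homEquiv M ((Lp (pn A J (n + 1))).obj N) (ψ.app (n + 1)) ≫ rn A J N n =
      (adjP (pn A J n)).homEquiv M ((Lp (pn A J n)).obj N) (ψ.app n) := by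
  have hc := ψ.comm n
  rw [FSch.complMod_e, FSch.complMod_e, Iso.app_hom, Iso.app_hom, ← theta_eq, ← theta_eq] at hc
  exact homEquiv_transOf ((FSch.completionAlong _ (FSch.idealSpec A J)).ι n) (pn A J (n + 1)) (pn A J n)
    (pn_comm A J n)
    (ψ.app (n + 1)) (ψ.app n) hc

section Algebra
variable {A : Type u} [CommRing A] (J : Ideal A) {M N : Type u} [AddCommGroup M] [Module A M]
  [AddCommGroup N] [Module A N] [IsAdicComplete J N]
  {T : ℕ → Type u} [∀ n, AddCommGroup (T n)] [∀ n, Module A (T n)]

/-- Abstract limit argument: a compatible family `v n : M → T n`, where `T n` is identified with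
`N / J^(n+1) N` through surjections `h n : N → T n`, lifts to a linear map `M → N`. -/
theorem exists_lift_of_compatible (h : ∀ n, N →ₗ[A] T n) (hsurj : ∀ n, Function.Surjective (h n))
    (hker : ∀ n, LinearMap.ker (h n) = (J ^ (n + 1) • ⊤ : Submodule A N))
    (r : ∀ n, T (n + 1) →ₗ[A] T n) (hr : ∀ n, r n ∘ₗ h (n + 1) = h n)
    (v : ∀ n, M →ₗ[A] T n) (hv : ∀ n, r n ∘ₗ v (n + 1) = v n) :
    ∃ u : M →ₗ[A] N, ∀ n, h n ∘ₗ u = v n := by
  let q : ∀ n : ℕ, (N ⧸ (J ^ (n + 1) • ⊤ : Submodule A N)) ≃ₗ[A] T n := fun n =>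
    (Submodule.quotEquivOfEq _ _ (hker n).symm).trans ((h n).quotKerEquivOfSurjective (hsurj n))
  have hq : ∀ (n : ℕ) (x : N), q n (Submodule.Quotient.mk x) = h n x := fun n x => rfl
  have ha : StrictMono (fun n : ℕ => n + 1) := fun a b hab => Nat.succ_lt_succ hab
  let f : ∀ n : ℕ, M →ₗ[A] N ⧸ (J ^ ((fun n : ℕ => n + 1) n) • ⊤ : Submodule A N) := fun n =>
    (q n).symm.toLinearMap ∘ₗ v n
  have hqr : ∀ (n : ℕ) (y : N ⧸ (J ^ (n + 1 + 1) • ⊤ : Submodule A N)),
      q n (Submodule.factorPow J N (ha.monotone n.le_succ) y) = r n (q (n + 1) y) := by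
    intro n y
    obtain ⟨x, rfl⟩ := Submodule.Quotient.mk_surjective _ y
    rw [hq]
    change q n (Submodule.Quotient.mk x) = _
    rw [hq, ← hr n]
    rfl
  have hf : ∀ {m : ℕ}, Submodule.factorPow J N (ha.monotone m.le_succ) ∘ₗ f (m + 1) = f m := by
    intro m
    ext x
    apply (q m).injective
    change q m (Submodule.factorPow J N (ha.monotone m.le_succ) ((q (m + 1)).symm (v (m + 1) x))) =
      q m ((q m).symm (v m x))
    rw [hqr, LinearEquiv.apply_symm_apply, LinearEquiv.apply_symm_apply, ← hv m]
    rfl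
  refine ⟨IsAdicComplete.StrictMono.lift J ha f hf, fun n => ?_⟩
  ext x
  have h1 := IsAdicComplete.StrictMono.mk_lift J ha f hf (n := n) x
  change h n (IsAdicComplete.StrictMono.lift J ha f hf x) = v n x
  rw [← hq n, h1]
  exact (q n).apply_symm_apply _

end Algebra

theorem aux (A : Type u) [CommRing A] [IsNoetherianRing A]
    (J : Ideal A) [IsAdicComplete J A] (M N : ModuleCat.{u} A) [Module.Finite A M] [Module.Finite A N] :
    Function.Bijective (fun u : M ⟶ N ↦
      FSch.complModMap (FSch.idealSpec A J) ((tilde.functor (CommRingCat.of A)).map u)) := by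
  classical
  have hN : IsAdicComplete J N := Groth.Agent.S3866.result A J N
  have key : ∀ (u : M ⟶ N) (n : ℕ),
      (adjP (pn A J n)).homEquiv M ((Lp (pn A J n)).obj N) ((Lp (pn A J n)).map u) =
        u ≫ (adjP (pn A J n)).unit.app N := by
    intro u n
    rw [Adjunction.homEquiv_unit]
    exact ((adjP (pn A J n)).unit.naturality u).symm
  constructor
  · intro u u' huu'
    have h1 : ∀ n : ℕ, u ≫ (adjP (pn A J n)).unit.app N = u' ≫ (adjP (pn A J n)).unit.app N := by
      intro n
      rw [← key, ← key]
      congr 1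
      exact congrArg (fun φ => FSch.ModSys.Hom.app φ n) huu'
    ext m
    have h2 : ∀ n : ℕ, u.hom m - u'.hom m ∈ (J ^ (n + 1) • ⊤ : Submodule A N) := by
      intro n
      rw [← ker_unit_level A J N n, LinearMap.mem_ker, map_sub, sub_eq_zero]
      exact congrArg (fun k => k.hom m) (h1 n)
    have h3 : u.hom m - u'.hom m = 0 := by
      apply hN.toIsHausdorff.haus'
      intro n
      rw [SModEq.zero]
      cases n with
      | zero => simp
      | succ k => exact h2 k
    exact sub_eq_zero.mp h3
  · intro ψ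
    obtain ⟨u, hu⟩ := exists_lift_of_compatible J (M := M) (N := N)
      (T := fun n => (Rp (pn A J n)).obj ((Lp (pn A J n)).obj N))
      (fun n => ((adjP (pn A J n)).unit.app N).hom)
      (fun n => unit_level_surjective A J N n) (fun n => ker_unit_level A J N n)
      (fun n => (rn A J N n).hom)
      (fun n => by
        have := unit_rn A J N n
        rw [← ModuleCat.hom_comp, this])
      (fun n => ((adjP (pn A J n)).homEquiv M ((Lp (pn A J n)).obj N) (ψ.app n)).hom)
      (fun n => by
        have := homEquiv_rn A J ψ n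
        rw [← ModuleCat.hom_comp, this])
    refine ⟨ModuleCat.ofHom u, ?_⟩
    apply FSch.ModSys.Hom.ext
    funext n
    change (Lp (pn A J n)).map (ModuleCat.ofHom u) = ψ.app n
    apply ((adjP (pn A J n)).homEquiv M ((Lp (pn A J n)).obj N)).injective
    rw [key]
    apply ModuleCat.hom_ext
    rw [ModuleCat.hom_comp, ModuleCat.hom_ofHom]
    exact hu n

end Helpers

open AlgebraicGeometry in
open CategoryTheory in
/-- The formal spectrum of A is presented as the system of closed subschemes of Spec A cut out by the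
powers of J, and for an A-module M the system of modules M^Δ is the family of pullbacks of the sheaf
M̃ associated to M to these subschemes, with its canonical transition isomorphisms. Let A be a
Noetherian ring, complete and separated for the J-adic topology, and M, N finite A-modules. Then u ↦
u^Δ is a bijection from Hom_A(M, N) onto the set of morphisms of systems of modules M^Δ → N^Δ. -/
theorem result (A : Type u) [CommRing A] [IsNoetherianRing A]
    (J : Ideal A) [IsAdicComplete J A] (M N : ModuleCat.{u} A) [Module.Finite A M] [Module.Finite A N] :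
    Function.Bijective (fun u : M ⟶ N ↦
      FSch.complModMap (FSch.idealSpec A J) ((tilde.functor (CommRingCat.of A)).map u)) := by
  exact aux A J M N

end Groth.Agent.S3863
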