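import Groth.Statements.S3872
import Groth.Agent.Lib.Seat17ComplMap

set_option autoImplicit false
universe u
open FCompl

namespace Groth.Agent.S3872

/-- For a ring A, an ideal J and a prime ideal 𝔭 with J ⊆ 𝔭, let A{S⁻¹}, S = A ∖ 𝔭, be the completion of
A_𝔭 for the topology defined by the extension of J, and A_{S} the subring of A{S⁻¹} generated by the
images of the completed localizations A_{f}, f ∉ 𝔭 (the stalk ring of Spf(A) at 𝔭). Given that A_{S}
and A{S⁻¹} are local rings and that the inclusion A_{S} → A{S⁻¹} and the canonical map A_𝔭 → A{S⁻¹}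
are local homomorphisms (all four are carried here as instance hypotheses; the two about A_{S} are
stated separately), both maps induce bijections on residue fields; so the residue field of A_{S} is
the residue field κ(𝔭) of A_𝔭. -/
theorem result (A : Type u) [CommRing A] (J : Ideal A) (𝔭 : Ideal A)
    [𝔭.IsPrime] (hJ : J ≤ 𝔭) [IsLocalRing (FSch.stalkSubring A J 𝔭)] [IsLocalRing (FSch.cAtPrime A J 𝔭)]
    [IsLocalHom (FSch.stalkSubring A J 𝔭).subtype]
    [IsLocalHom (algebraMap (Localization.AtPrime 𝔭) (FSch.cAtPrime A J 𝔭))] :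
    Function.Bijective (IsLocalRing.ResidueField.map (FSch.stalkSubring A J 𝔭).subtype) ∧
      Function.Bijective
        (IsLocalRing.ResidueField.map (algebraMap (Localization.AtPrime 𝔭) (FSch.cAtPrime A J 𝔭))) := by
  classical
  let R := Localization.AtPrime 𝔭
  let I : Ideal R := J.map (algebraMap A R)
  have hI : I ≠ ⊤ := by
    have hle : I ≤ IsLocalRing.maximalIdeal R := by
      rw [← Localization.AtPrime.map_eq_maximalIdeal]
      exact Ideal.map_mono hJ
    intro h
    rw [h] at hle
    exact (IsLocalRing.maximalIdeal.isMaximal R).ne_top (top_le_iff.mp hle)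
  -- every element of the completion is congruent to an element of `R` modulo the maximal ideal
  have key : ∀ y : FSch.cAtPrime A J 𝔭, ∃ r : R,
      IsLocalRing.residue (FSch.cAtPrime A J 𝔭) y =
        IsLocalRing.residue (FSch.cAtPrime A J 𝔭) (AdicCompletion.of I R r) := by
    intro y
    obtain ⟨r, hr⟩ := Groth.Agent.Lib.Seat17.ComplMap.exists_sub_of_not_isUnit I hI y
    refine ⟨r, ?_⟩
    rw [← sub_eq_zero, ← map_sub, IsLocalRing.residue_eq_zero_iff]
    exact (IsLocalRing.mem_maximalIdeal _).mpr hr
  -- the image of `R` lies in the stalk subring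
  have hmem : ∀ r : R, AdicCompletion.of I R r ∈ FSch.stalkSubring A J 𝔭 := by
    intro r
    obtain ⟨⟨a, s⟩, hs⟩ := IsLocalization.mk'_surjective 𝔭.primeCompl r
    have hs' : (s : A) ∉ 𝔭 := s.2
    have hle : (FSch.cAwayToAtPrime A J 𝔭 (s : A) hs').range ≤ FSch.stalkSubring A J 𝔭 :=
      le_iSup (fun f : {f : A // f ∉ 𝔭} => (FSch.cAwayToAtPrime A J 𝔭 f.1 f.2).range) ⟨(s : A), hs'⟩
    apply hle
    let b : Localization.Away (s : A) :=
      IsLocalization.mk' (Localization.Away (s : A)) a (⟨(s : A), Submonoid.mem_powers _⟩ : Submonoid.powers (s : A))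
    refine ⟨AdicCompletion.of _ _ b, ?_⟩
    unfold FSch.cAwayToAtPrime
    rw [Groth.Agent.Lib.Seat17.ComplMap.complMap_of]
    congr 1
    rw [← hs]
    -- awayToAtPrime (mk' a s) = mk' a s
    have hb : b * algebraMap A (Localization.Away (s : A)) (s : A) = algebraMap A _ a :=
      IsLocalization.mk'_spec _ _ _
    have h1 := congrArg (FSch.awayToAtPrime A 𝔭 (s : A) hs') hb
    have hcomp : ∀ x : A, FSch.awayToAtPrime A 𝔭 (s : A) hs' (algebraMap A (Localization.Away (s : A)) x) =
        algebraMap A R x := fun x => IsLocalization.Away.lift_eq _ _ x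
    rw [map_mul, hcomp, hcomp] at h1
    exact (IsLocalization.eq_mk'_iff_mul_eq).mpr h1
  constructor
  · refine ⟨(IsLocalRing.ResidueField.map (FSch.stalkSubring A J 𝔭).subtype).injective, ?_⟩
    intro z
    obtain ⟨y, rfl⟩ := IsLocalRing.residue_surjective z
    obtain ⟨r, hr⟩ := key y
    refine ⟨IsLocalRing.residue _ ⟨AdicCompletion.of I R r, hmem r⟩, ?_⟩
    rw [IsLocalRing.ResidueField.map_residue, hr]
    rfl
  · refine ⟨(IsLocalRing.ResidueField.map
      (algebraMap (Localization.AtPrime 𝔭) (FSch.cAtPrime A J 𝔭))).injective, ?_⟩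
    intro z
    obtain ⟨y, rfl⟩ := IsLocalRing.residue_surjective z
    obtain ⟨r, hr⟩ := key y
    refine ⟨IsLocalRing.residue _ r, ?_⟩
    rw [IsLocalRing.ResidueField.map_residue, hr]
    rfl

end Groth.Agent.S3872
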