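import Groth.Statements.S3874
import Groth.Agent.Lib.Seat17AdicQuot

set_option autoImplicit false
universe u
open FCompl

namespace Groth.Agent.S3874

/-- Let A be a Noetherian ring, J an ideal, f ∈ A and n ≥ 0, and let A_{f} be the completion of the
localization A_f for the topology defined by the extension of J. There is a ring isomorphism from
the localization of A/J^(n+1) away from the class of f onto A_{f} modulo the (n+1)-st power of the
extension of J to A_{f}, compatible with the canonical maps from A (and hence unique). In terms of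
formal spectra: the open D(f) of Spf(A) is Spf(A_{f}), and at level n its ring is the ring
(A/J^(n+1))_f of the open D(f) of Spec(A/J^(n+1)). -/
theorem result (A : Type u) [CommRing A] [IsNoetherianRing A] (J : Ideal A)
    (f : A) (n : ℕ) :
    ∃ e : Localization.Away (Ideal.Quotient.mk (J ^ (n + 1)) f) ≃+*
        FSch.cAway A J f ⧸ (J.map (algebraMap A (FSch.cAway A J f))) ^ (n + 1),
      ∀ a : A, e (algebraMap (A ⧸ J ^ (n + 1)) _ (Ideal.Quotient.mk (J ^ (n + 1)) a)) =
        Ideal.Quotient.mk _ (algebraMap A (FSch.cAway A J f) a) := by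
  classical
  -- notation
  let B := Localization.Away f
  let I : Ideal B := J.map (algebraMap A B)
  let T := Localization.Away (Ideal.Quotient.mk (J ^ (n + 1)) f)
  have hIfg : I.FG := Ideal.FG.map (IsNoetherian.noetherian J) (algebraMap A B)
  -- the map `A → T`
  let g₀ : A →+* T := (algebraMap (A ⧸ J ^ (n + 1)) T).comp (Ideal.Quotient.mk (J ^ (n + 1)))
  have hg₀f : IsUnit (g₀ f) :=
    IsLocalization.Away.algebraMap_isUnit (S := T) (Ideal.Quotient.mk (J ^ (n + 1)) f)
  -- step 1: `B → T`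
  let g₁ : B →+* T := IsLocalization.Away.lift f hg₀f
  have hg₁ : ∀ a : A, g₁ (algebraMap A B a) = g₀ a := fun a => IsLocalization.Away.lift_eq f hg₀f a
  -- step 2: `B ⧸ I^(n+1) → T`
  have hIpow : I ^ (n + 1) = (J ^ (n + 1)).map (algebraMap A B) := (Ideal.map_pow _ _ _).symm
  have hkill₁ : ∀ b ∈ I ^ (n + 1), g₁ b = 0 := by
    intro b hb
    have : I ^ (n + 1) ≤ RingHom.ker g₁ := by
      rw [hIpow, Ideal.map_le_iff_le_comap]
      intro a ha
      rw [Ideal.mem_comap, RingHom.mem_ker, hg₁]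
      change algebraMap (A ⧸ J ^ (n + 1)) T (Ideal.Quotient.mk (J ^ (n + 1)) a) = 0
      rw [Ideal.Quotient.eq_zero_iff_mem.mpr ha, map_zero]
    exact this hb
  let g₂ : B ⧸ I ^ (n + 1) →+* T := Ideal.Quotient.lift (I ^ (n + 1)) g₁ hkill₁
  -- `g₂` is injective
  have hfB : IsUnit (algebraMap A B f) := IsLocalization.Away.algebraMap_isUnit f
  have hg₂inj : Function.Injective g₂ := by
    rw [injective_iff_map_eq_zero]
    intro y hy
    obtain ⟨b, rfl⟩ := Ideal.Quotient.mk_surjective y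
    change g₁ b = 0 at hy
    rw [Ideal.Quotient.eq_zero_iff_mem]
    obtain ⟨k, a, hka⟩ := IsLocalization.Away.surj f b
    -- b * f^k = a
    have h1 : g₀ a = 0 := by
      rw [← hg₁, ← hka, map_mul, hy, zero_mul]
    have h2 : algebraMap (A ⧸ J ^ (n + 1)) T (Ideal.Quotient.mk (J ^ (n + 1)) a) = 0 := h1
    rw [IsLocalization.map_eq_zero_iff (Submonoid.powers (Ideal.Quotient.mk (J ^ (n + 1)) f))] at h2
    obtain ⟨⟨_, m, rfl⟩, hm⟩ := h2
    have h3 : f ^ m * a ∈ J ^ (n + 1) := by
      rw [← Ideal.Quotient.eq_zero_iff_mem, map_mul, map_pow]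
      exact hm
    have h4 : algebraMap A B (f ^ m * a) ∈ I ^ (n + 1) := by
      rw [hIpow]; exact Ideal.mem_map_of_mem _ h3
    rw [map_mul, map_pow, ← hka] at h4
    have hu : IsUnit ((algebraMap A B f) ^ m * (algebraMap A B f) ^ k) := (hfB.pow m).mul (hfB.pow k)
    have h5 : b * ((algebraMap A B f) ^ m * (algebraMap A B f) ^ k) ∈ I ^ (n + 1) := by
      have : b * ((algebraMap A B f) ^ m * (algebraMap A B f) ^ k) =
          (algebraMap A B f) ^ m * (b * (algebraMap A B f) ^ k) := by ring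
      rw [this]; exact h4
    obtain ⟨u, hu'⟩ := hu
    rw [← hu'] at h5
    have := Ideal.mul_mem_right (↑u⁻¹ : B) _ h5
    rwa [mul_assoc, Units.mul_inv, mul_one] at this
  -- `g₁` is surjective
  have hg₁surj : Function.Surjective g₁ := by
    intro t
    obtain ⟨k, abar, hk⟩ := IsLocalization.Away.surj (Ideal.Quotient.mk (J ^ (n + 1)) f) t
    obtain ⟨a, rfl⟩ := Ideal.Quotient.mk_surjective abar
    obtain ⟨u, hu⟩ := hfB.pow k
    refine ⟨algebraMap A B a * ↑u⁻¹, ?_⟩
    have hgu : g₁ ↑u = (g₀ f) ^ k := by rw [hu, map_pow, hg₁]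
    have hunit : IsUnit ((g₀ f) ^ k) := hg₀f.pow k
    apply hunit.mul_left_injective
    change g₁ (algebraMap A B a * ↑u⁻¹) * g₀ f ^ k = t * g₀ f ^ k
    rw [← hgu, ← map_mul, mul_assoc, Units.inv_mul, mul_one, hg₁, hgu]
    exact hk.symm
  -- step 3: `B̂ → T`
  let ev : FSch.cAway A J f →+* B ⧸ I ^ (n + 1) := (AdicCompletion.evalₐ I (n + 1)).toRingHom
  let ψ₀ : FSch.cAway A J f →+* T := g₂.comp ev
  have hmap : J.map (algebraMap A (FSch.cAway A J f)) = I.map (algebraMap B (FSch.cAway A J f)) := by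
    rw [Ideal.map_map]
    rfl
  have hker : RingHom.ker ev =
      (J.map (algebraMap A (FSch.cAway A J f))) ^ (n + 1) := by
    rw [hmap]
    exact Groth.Agent.Lib.Seat17.AdicQuot.ker_evalₐ_eq I hIfg (n + 1)
  have hkill : ∀ x ∈ (J.map (algebraMap A (FSch.cAway A J f))) ^ (n + 1), ψ₀ x = 0 := by
    intro x hx
    rw [← hker, RingHom.mem_ker] at hx
    change g₂ (AdicCompletion.evalₐ I (n + 1) x) = 0
    have hx' : AdicCompletion.evalₐ I (n + 1) x = 0 := hx
    rw [hx', map_zero]
  let ψ : FSch.cAway A J f ⧸ (J.map (algebraMap A (FSch.cAway A J f))) ^ (n + 1) →+* T :=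
    Ideal.Quotient.lift _ ψ₀ hkill
  have hψinj : Function.Injective ψ := by
    rw [injective_iff_map_eq_zero]
    intro y hy
    obtain ⟨x, rfl⟩ := Ideal.Quotient.mk_surjective y
    change g₂ (ev x) = 0 at hy
    rw [Ideal.Quotient.eq_zero_iff_mem, ← hker, RingHom.mem_ker]
    exact hg₂inj (by rw [hy, map_zero])
  have hψof : ∀ b : B, ψ (Ideal.Quotient.mk _ (AdicCompletion.of I B b)) = g₁ b := by
    intro b
    change g₂ (AdicCompletion.evalₐ I (n + 1) (AdicCompletion.of I B b)) = g₁ b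
    rw [AdicCompletion.evalₐ_of]
    rfl
  have hψsurj : Function.Surjective ψ := by
    intro t
    obtain ⟨b, rfl⟩ := hg₁surj t
    exact ⟨_, hψof b⟩
  have hbij : Function.Bijective ψ := ⟨hψinj, hψsurj⟩
  let e : (FSch.cAway A J f ⧸ (J.map (algebraMap A (FSch.cAway A J f))) ^ (n + 1)) ≃+* T :=
    RingEquiv.ofBijective ψ hbij
  have he : ∀ y, e y = ψ y := fun _ => rfl
  refine ⟨e.symm, fun a => ?_⟩
  apply e.injective
  rw [e.apply_symm_apply, he]
  have : algebraMap A (FSch.cAway A J f) a = AdicCompletion.of I B (algebraMap A B a) := rfl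
  rw [this, hψof, hg₁]
  rfl

end Groth.Agent.S3874
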