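import Groth.Statements.S3875
import Groth.Agent.Lib.Seat17ComapPow
import Groth.Agent.Lib.Seat17SysPullback

set_option autoImplicit false
universe u
open FCompl

namespace Groth.Agent.S3875

open AlgebraicGeometry in
open CategoryTheory in
open CategoryTheory.Limits in
/-- Let g : X → S and h : Y → S be morphisms of schemes, R an ideal sheaf on X and J an ideal sheaf on
S, and consider the completions of S along J, of X along R, of Y along the inverse image of J under
h, and of X x_S Y along the inverse image of R under the first projection (completions presented by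
the subschemes of the powers of these ideal sheaves); this is the case where the closed subset of Y
is the full preimage of that of S. The four compatibility hypotheses between the powers of the ideal
sheaves (for g, for h, and for the two projections of X x_S Y): for each n, the inverse image of the
(n+1)-st power of the target ideal sheaf is contained in the (n+1)-st power of the source ideal
sheaf. These are hypotheses, carried as data for the completed morphisms; the published statement
assumes the schemes locally Noetherian, which this identity does not need. Then the square of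
completed morphisms from the completion of X x_S Y along the preimage of the closed subset of X, to
the completions of X and of Y, over the completion of S, is cartesian in the category of systems. -/
theorem result {X Y S : Scheme.{u}} (g : X ⟶ S) (h : Y ⟶ S)
    (𝓡 : X.IdealSheafData) (𝓙 : S.IdealSheafData)
    (hg : FSch.PowCompat g 𝓡 𝓙) (hh : FSch.PowCompat h (𝓙.comap h) 𝓙)
    (hp : FSch.PowCompat (pullback.fst g h) (𝓡.comap (pullback.fst g h)) 𝓡)
    (hq : FSch.PowCompat (pullback.snd g h) (𝓡.comap (pullback.fst g h)) (𝓙.comap h)) :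
    IsPullback (FSch.completionMap (pullback.fst g h) (𝓡.comap (pullback.fst g h)) 𝓡 hp)
      (FSch.completionMap (pullback.snd g h) (𝓡.comap (pullback.fst g h)) (𝓙.comap h) hq)
      (FSch.completionMap g 𝓡 𝓙 hg) (FSch.completionMap h (𝓙.comap h) 𝓙 hh) := by
  apply Groth.Agent.Lib.Seat17.SysPullback.isPullback_of_levelwise
  intro n
  simp only [FSch.completionMap_app]
  -- abbreviations for the four level-`n` maps and the closed immersions
  set a := Scheme.IdealSheafData.subschemeMap ((𝓡.comap (pullback.fst g h)) ^ (n + 1)) (𝓡 ^ (n + 1))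
    (pullback.fst g h) (Scheme.IdealSheafData.le_map_iff_comap_le.mpr (hp n)) with ha
  set b := Scheme.IdealSheafData.subschemeMap ((𝓡.comap (pullback.fst g h)) ^ (n + 1))
    ((𝓙.comap h) ^ (n + 1)) (pullback.snd g h) (Scheme.IdealSheafData.le_map_iff_comap_le.mpr (hq n)) with hb
  set c := Scheme.IdealSheafData.subschemeMap (𝓡 ^ (n + 1)) (𝓙 ^ (n + 1)) g
    (Scheme.IdealSheafData.le_map_iff_comap_le.mpr (hg n)) with hc
  set d := Scheme.IdealSheafData.subschemeMap ((𝓙.comap h) ^ (n + 1)) (𝓙 ^ (n + 1)) h
    (Scheme.IdealSheafData.le_map_iff_comap_le.mpr (hh n)) with hd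
  have haι : a ≫ (𝓡 ^ (n + 1)).subschemeι =
      ((𝓡.comap (pullback.fst g h)) ^ (n + 1)).subschemeι ≫ pullback.fst g h :=
    Scheme.IdealSheafData.subschemeMap_subschemeι _ _ _ _
  have hbι : b ≫ ((𝓙.comap h) ^ (n + 1)).subschemeι =
      ((𝓡.comap (pullback.fst g h)) ^ (n + 1)).subschemeι ≫ pullback.snd g h :=
    Scheme.IdealSheafData.subschemeMap_subschemeι _ _ _ _
  have hcι : c ≫ (𝓙 ^ (n + 1)).subschemeι = (𝓡 ^ (n + 1)).subschemeι ≫ g :=
    Scheme.IdealSheafData.subschemeMap_subschemeι _ _ _ _
  have hdι : d ≫ (𝓙 ^ (n + 1)).subschemeι = ((𝓙.comap h) ^ (n + 1)).subschemeι ≫ h :=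
    Scheme.IdealSheafData.subschemeMap_subschemeι _ _ _ _
  -- the two pullback squares of closed subschemes
  have hB : IsPullback ((𝓡.comap (pullback.fst g h)) ^ (n + 1)).subschemeι a (pullback.fst g h)
      (𝓡 ^ (n + 1)).subschemeι :=
    Groth.Agent.Lib.Seat17.ComapPow.isPullback_subschemeMap_comap (pullback.fst g h) (𝓡 ^ (n + 1))
      ((𝓡.comap (pullback.fst g h)) ^ (n + 1))
      (Groth.Agent.Lib.Seat17.ComapPow.comap_pow (pullback.fst g h) 𝓡 (n + 1)) _
  have hA : IsPullback ((𝓙.comap h) ^ (n + 1)).subschemeι d h (𝓙 ^ (n + 1)).subschemeι :=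
    Groth.Agent.Lib.Seat17.ComapPow.isPullback_subschemeMap_comap h (𝓙 ^ (n + 1))
      ((𝓙.comap h) ^ (n + 1)) (Groth.Agent.Lib.Seat17.ComapPow.comap_pow h 𝓙 (n + 1)) _
  have hC : IsPullback (pullback.snd g h) (pullback.fst g h) h g :=
    (IsPullback.of_hasPullback g h).flip
  -- paste `hB` and `hC`
  have hBC := hB.paste_horiz hC
  rw [← hbι, ← hcι] at hBC
  -- commutativity of the level-`n` square
  have e : b ≫ d = a ≫ c := by
    rw [← cancel_mono (𝓙 ^ (n + 1)).subschemeι, Category.assoc, Category.assoc, hdι, hcι,
      ← Category.assoc, ← Category.assoc, hbι, haι, Category.assoc, Category.assoc,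
      pullback.condition]
  exact (IsPullback.of_right hBC e hA).flip

end Groth.Agent.S3875
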