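import Groth.Statements.S3883
import Mathlib
import Groth.Agent.Lib.Seat3ShClosed
-- import your own Groth.Agent.* helpers here

set_option autoImplicit false
open CategoryTheory CategoryTheory.Limits AlgebraicGeometry Opposite
universe u
open EtDesc

namespace Groth.Agent.S3883

/-- Let i : Y -> X be a closed immersion and j : U -> X an open immersion whose image is the complement
of the image of i. Then the direct image functor i_* on etale sheaves of sets is fully faithful, and
a sheaf of sets F on X is isomorphic to some i_* G if and only if j^* F is a final object. -/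
theorem result {Y X U : Scheme.{u}} (i : Y ⟶ X)
    [IsClosedImmersion i] (j : U ⟶ X) [IsOpenImmersion j]
    (hU : Set.range j.base = (Set.range i.base)ᶜ) :
    (EtDesc.pushSh i).Full ∧ (EtDesc.pushSh i).Faithful ∧
    ∀ F : EtDesc.Sh X, (EtDesc.pushSh i).essImage F ↔ IsIso (terminal.from ((EtDesc.pullSh j).obj F)) := by
  haveI : IsIso (EtDesc.adjSh i).counit := Groth.Agent.Lib.Seat3.ShClosed.isIso_counit_sh i
  let ff := (EtDesc.adjSh i).fullyFaithfulROfIsIsoCounit
  refine ⟨ff.full, ff.faithful, ?_⟩
  intro F
  constructor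
  · rintro ⟨G, ⟨e⟩⟩
    have h0 := Groth.Agent.Lib.Seat3.ShClosed.isIso_terminal_from_pull_push i j hU G
    have e' : (EtDesc.pullSh j).obj ((EtDesc.pushSh i).obj G) ≅ (EtDesc.pullSh j).obj F :=
      (EtDesc.pullSh j).mapIso e
    have hcomp : terminal.from ((EtDesc.pullSh j).obj F) =
        e'.inv ≫ terminal.from ((EtDesc.pullSh j).obj ((EtDesc.pushSh i).obj G)) :=
      Subsingleton.elim _ _
    rw [hcomp]
    infer_instance
  · intro hF
    haveI := Groth.Agent.Lib.Seat3.ShClosed.isIso_unit_sh_of_terminal i j hU F hF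
    exact ⟨(EtDesc.pullSh i).obj F, ⟨(asIso ((EtDesc.adjSh i).unit.app F)).symm⟩⟩

end Groth.Agent.S3883
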