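import Groth.Statements.S3888
import Groth.Agent.S0651
import Groth.Agent.Lib.Seat3ShClosed
import Groth.Agent.Lib.Helper9JContAll

set_option autoImplicit false
open CategoryTheory CategoryTheory.Limits AlgebraicGeometry Opposite
universe u
open EtDesc

namespace Groth.Agent.S3888

/-- restriction of sheaves of sets along an étale morphism -/
noncomputable abbrev restrSh {U X : Scheme.{u}} (j : U ⟶ X) [AlgebraicGeometry.Etale j]
    [EtShriek.JCont j] : EtDesc.Sh X ⥤ EtDesc.Sh U :=
  (EtShriek.compEtale j).sheafPushforwardContinuous (Type (u + 1)) U.smallEtaleTopology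
    X.smallEtaleTopology

/-- `j^{-1} ⊣ j_*` for étale `j`, with `j^{-1}` restriction (sheaves of sets) -/
noncomputable def restrPushAdjSh {U X : Scheme.{u}} (j : U ⟶ X) [AlgebraicGeometry.Etale j]
    [EtShriek.JCont j] : restrSh j ⊣ EtDesc.pushSh j :=
  (Groth.Agent.S0651.compBcAdj j).sheafPushforwardContinuous (E := Type (u + 1))
    U.smallEtaleTopology X.smallEtaleTopology

set_option backward.isDefEq.respectTransparency.types false in
lemma isIso_counit_restr {U X : Scheme.{u}} (j : U ⟶ X) [AlgebraicGeometry.Etale j] [Mono j]
    [EtShriek.JCont j] (F : EtDesc.Sh U) : IsIso ((restrPushAdjSh j).counit.app F) := by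
  have h1 : IsIso ((sheafToPresheaf _ _).map ((restrPushAdjSh j).counit.app F)) := by
    apply (config := { allowSynthFailures := true }) NatIso.isIso_of_isIso_app
    intro V
    have h0 : IsIso ((Groth.Agent.S0651.compBcAdj j).unit.app (unop V)) := inferInstance
    have h2 : IsIso (F.obj.map ((Groth.Agent.S0651.compBcAdj j).unit.app (unop V)).op) :=
      inferInstance
    simp [restrPushAdjSh]
    exact h2
  exact isIso_of_reflects_iso _ (sheafToPresheaf _ _)

set_option backward.isDefEq.respectTransparency.types false in
/-- the counit `j^* j_* F ⟶ F` is an isomorphism for an étale monomorphism (open immersion) -/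
lemma isIso_counit_open {U X : Scheme.{u}} (j : U ⟶ X) [AlgebraicGeometry.Etale j] [Mono j]
    (F : EtDesc.Sh U) : IsIso ((EtDesc.adjSh j).counit.app F) := by
  have : EtShriek.JCont j := Groth.Agent.Lib.Helper9.JContAll.jCont j
  have e := Adjunction.leftAdjointUniq_hom_app_counit (EtDesc.adjSh j) (restrPushAdjSh j) F
  have := isIso_counit_restr j F
  rw [← e]
  infer_instance

/-- the counit is an isomorphism when the direct image is fully faithful -/
lemma isIso_counit_of_ff {X Y : Scheme.{u}} (g : X ⟶ Y) (h : (EtDesc.pushSh g).FullyFaithful)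
    (F : EtDesc.Sh X) : IsIso ((EtDesc.adjSh g).counit.app F) := by
  have := h.full
  have := h.faithful
  infer_instance

/-- Let f : X -> Y be an immersion of schemes. Then for every sheaf of sets F on the small etale site of
X the counit f^* f_* F -> F of the adjunction between inverse and direct image is an isomorphism. -/
theorem result {X Y : Scheme.{u}} (f : X ⟶ Y) [IsImmersion f] (F : EtDesc.Sh X) :
    IsIso ((EtDesc.adjSh f).counit.app F) := by
  have hf : f.liftCoborder ≫ f.coborderRange.ι = f := f.liftCoborder_ι
  have ha : (EtDesc.pushSh f.liftCoborder).FullyFaithful :=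
    (EtDesc.adjSh f.liftCoborder).fullyFaithfulROfIsIsoCounit
  have hb : (EtDesc.pushSh f.coborderRange.ι).FullyFaithful := by
    have : IsIso (EtDesc.adjSh f.coborderRange.ι).counit := by
      have : ∀ G, IsIso ((EtDesc.adjSh f.coborderRange.ι).counit.app G) :=
        fun G => isIso_counit_open _ G
      exact NatIso.isIso_of_isIso_app _
    exact (EtDesc.adjSh f.coborderRange.ι).fullyFaithfulROfIsIsoCounit
  have hab : (EtDesc.pushSh (f.liftCoborder ≫ f.coborderRange.ι)).FullyFaithful :=
    (ha.comp hb).ofIso (EtDesc.pushCompSh f.coborderRange.ι f.liftCoborder)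
  have hff : (EtDesc.pushSh f).FullyFaithful := hf ▸ hab
  exact isIso_counit_of_ff f hff F

end Groth.Agent.S3888
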