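import Groth.Statements.S4269
import Groth.Agent.Lib.Seat20NegPow

set_option autoImplicit false
universe u
open CategoryTheory CategoryTheory.Limits AlgebraicGeometry
attribute [local instance] HasDerivedCategory.standard
open KSix

namespace Groth.Agent.S4269

/-- Let X be a quasi-compact quasi-separated scheme and (L_i) an ample family of invertible O_X-modules
(the affine opens X_s, for s a global section of some L_i^{⊗ n}, n ≥ 1, cover X). Then every
quasi-coherent O_X-module of finite type F receives an epimorphism from a finite direct sum of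
modules of the form L_i^{⊗ -n} with n > 0. (The printed statement uses a single exponent n_i for
each member L_i; the form here, allowing several powers of the same member, is slightly weaker.) -/
theorem result (X : Scheme.{u}) {ι : Type u} (L : ι → X.Modules)
    (hL : KSix.IsAmpleFamily L) (F : X.Modules) (hF : Coh.IsQCoh F) (hF' : CohB1.IsFT F) :
    ∃ (M : X.Modules) (π : M ⟶ F), KSix.InAddL L M ∧ Epi π := by
  classical
  obtain ⟨hc, hqs, hinv, hcov⟩ := hL
  have := hc
  have := hqs
  have : F.IsQuasicoherent := hF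
  have : SheafOfModules.IsFiniteType (R := X.ringCatSheaf) F := hF'
  obtain ⟨K, hK, N', π, hgood, hepi⟩ := Groth.Agent.Lib.Seat20.NegPow.exists_epi_of_charts F
    (KSix.IsNegPower L) (fun x => by
      obtain ⟨i, n, s, hxs, haff⟩ := hcov x
      refine ⟨CohB1.tensorPow (L i) (n + 1),
        Groth.Agent.Lib.Helper23.SecTw.isInvertible_tensorPow (hinv i) (n + 1), s, hxs, haff,
        fun N hN M hθ => ?_⟩
      obtain ⟨θ⟩ := hθ
      obtain ⟨Ψ⟩ := Groth.Agent.Lib.Helper23.SecTw.nonempty_tensorPow_tensorPow_iso (L i) (hinv i) (n + 1) N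
        ((n + 1) * N) rfl
      exact ⟨i, (n + 1) * N, Nat.mul_pos (Nat.succ_pos n) hN,
        ⟨Groth.Agent.Lib.Helper23.AmpleIso.tensorModIso (Iso.refl M) Ψ.symm ≪≫ θ⟩⟩)
  refine ⟨⨁ N', π, ?_, hepi⟩
  exact ⟨Fintype.card K, N' ∘ (Fintype.equivFin K).symm, fun j => hgood _,
    ⟨biproduct.whiskerEquiv (f := N') (g := N' ∘ (Fintype.equivFin K).symm) (Fintype.equivFin K)
      (fun k => eqToIso (by simp))⟩⟩

end Groth.Agent.S4269
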