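import Groth.Statements.S4329
import Groth.Agent.Lib.Seat3KInjUnit
import Groth.Agent.Lib.Helper16KInjAdj
import Groth.Agent.Lib.Seat38PullExact

set_option autoImplicit false
universe u
open CategoryTheory CategoryTheory.Limits AlgebraicGeometry Opposite
attribute [local instance] HasDerivedCategory.standard
open EtSix

namespace Groth.Agent.S4329

/-- Composition of derived direct images: for the small etale sites of schemes and abelian sheaves: let
f : X -> Y and g : Y -> Z be morphisms of schemes and assume the unbounded derived direct images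
Rf_*, Rg_* and R(g ∘ f)_* exist (they do; the existence is recorded as instance hypotheses). Then
the canonical morphism R(g ∘ f)_* -> Rg_* ∘ Rf_* of functors D(X_et) -> D(Z_et), induced by (g ∘
f)_* ≅ g_* ∘ f_* through the universal property of R(g ∘ f)_* as a right derived functor, is an
isomorphism. -/
theorem result {X Y Z : Scheme.{u}} (f : X ⟶ Y) (g : Y ⟶ Z)
    [DCoh.HasRpushEt X f] [DCoh.HasRpushEt Y g] [DCoh.HasRpushEt X (f ≫ g)] :
    IsIso (EtSix.compMap f g) := by
  open Groth.Agent.Lib.Helper17.KInj Groth.Agent.Lib.Seat3.KInjUnit in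
  have key : ∀ (I : CochainComplex (EtCoh.Ab X) ℤ) [I.IsKInjective],
      IsIso ((EtSix.compMap f g).app
        (DerivedCategory.Qh.obj ((HomotopyCategory.quotient _ (ComplexShape.up ℤ)).obj I))) := by
    intro I _
    have fac := congrArg (fun t => t.app ((HomotopyCategory.quotient _ (ComplexShape.up ℤ)).obj I))
      (Functor.rightDerived_fac (DCoh.RpushEt X (f ≫ g))
        ((DCoh.pushEtKh X (f ≫ g)).totalRightDerivedUnit DerivedCategory.Qh
          (HomotopyCategory.quasiIso (EtCoh.Ab X) (ComplexShape.up ℤ)))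
        (HomotopyCategory.quasiIso (EtCoh.Ab X) (ComplexShape.up ℤ))
        (DCoh.RpushEt X f ⋙ DCoh.RpushEt Y g) (compUnit f g))
    dsimp only [NatTrans.comp_app, Functor.whiskerLeft_app] at fac
    have h1 := isIso_unit_app_quotient.{u+1} (EtCoh.push (f ≫ g)) (DCoh.RpushEt X (f ≫ g))
      ((DCoh.pushEtKh X (f ≫ g)).totalRightDerivedUnit DerivedCategory.Qh
          (HomotopyCategory.quasiIso (EtCoh.Ab X) (ComplexShape.up ℤ))) I
    have h2 := isIso_unit_app_quotient.{u+1} (EtCoh.push f) (DCoh.RpushEt X f)
      ((DCoh.pushEtKh X f).totalRightDerivedUnit DerivedCategory.Qh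
          (HomotopyCategory.quasiIso (EtCoh.Ab X) (ComplexShape.up ℤ))) I
    have : CochainComplex.IsKInjective
        (((EtCoh.push f).mapHomologicalComplex (ComplexShape.up ℤ)).obj I) :=
      Groth.Agent.Lib.Helper16.KInjAdj.isKInjective_map (EtCoh.pullPushAdj f) I
    have h3 := isIso_unit_app_quotient.{u+1} (EtCoh.push g) (DCoh.RpushEt Y g)
      ((DCoh.pushEtKh Y g).totalRightDerivedUnit DerivedCategory.Qh
          (HomotopyCategory.quasiIso (EtCoh.Ab Y) (ComplexShape.up ℤ)))
      (((EtCoh.push f).mapHomologicalComplex (ComplexShape.up ℤ)).obj I)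
    have h4 : IsIso ((compUnit f g).app ((HomotopyCategory.quotient _ (ComplexShape.up ℤ)).obj I)) := by
      unfold compUnit
      dsimp only [NatTrans.comp_app, Functor.whiskerLeft_app, Functor.whiskerRight_app,
        Functor.associator_hom_app, Functor.associator_inv_app]
      have ha : IsIso (NatTrans.mapHomotopyCategory (EtCoh.pushComp g f).inv (ComplexShape.up ℤ)) := by
        refine ⟨⟨NatTrans.mapHomotopyCategory (EtCoh.pushComp g f).hom (ComplexShape.up ℤ), ?_, ?_⟩⟩
        · rw [← NatTrans.mapHomotopyCategory_comp, Iso.inv_hom_id, NatTrans.mapHomotopyCategory_id]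
        · rw [← NatTrans.mapHomotopyCategory_comp, Iso.hom_inv_id, NatTrans.mapHomotopyCategory_id]
      have h3' : IsIso (((DCoh.pushEtKh Y g).totalRightDerivedUnit DerivedCategory.Qh
          (HomotopyCategory.quasiIso (EtCoh.Ab Y) (ComplexShape.up ℤ))).app
            (((EtCoh.push f).mapHomotopyCategory (ComplexShape.up ℤ)).obj
              ((HomotopyCategory.quotient (EtCoh.Ab X) (ComplexShape.up ℤ)).obj I))) := h3
      infer_instance
    rw [← fac] at h4
    have h5 : IsIso (((DCoh.pushEtKh X (f ≫ g)).totalRightDerivedUnit DerivedCategory.Qh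
            (HomotopyCategory.quasiIso (EtCoh.Ab X) (ComplexShape.up ℤ))).app
        ((HomotopyCategory.quotient (EtCoh.Ab X) (ComplexShape.up ℤ)).obj I) ≫
      (compMap f g).app (DerivedCategory.Qh.obj
        ((HomotopyCategory.quotient (EtCoh.Ab X) (ComplexShape.up ℤ)).obj I))) := h4
    exact IsIso.of_isIso_comp_left (((DCoh.pushEtKh X (f ≫ g)).totalRightDerivedUnit DerivedCategory.Qh
            (HomotopyCategory.quasiIso (EtCoh.Ab X) (ComplexShape.up ℤ))).app
        ((HomotopyCategory.quotient (EtCoh.Ab X) (ComplexShape.up ℤ)).obj I)) _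
  have : ∀ K, IsIso ((EtSix.compMap f g).app K) := by
    intro K
    obtain ⟨I, hI, ⟨e⟩⟩ := exists_kInjective_iso.{u+1} K
    rw [← NatTrans.isIso_app_iff_of_iso _ e]
    exact key I
  exact NatIso.isIso_of_isIso_app _

end Groth.Agent.S4329
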