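import Groth.Statements.S4355
import Mathlib
import Groth.Agent.Lib.Helper23Extend2
import Groth.Agent.Lib.Seat21SubShZorn
-- import your own Groth.Agent.* helpers here

set_option autoImplicit false
universe u v
open QCohSup

namespace Groth.Agent.S4355

open CategoryTheory Limits AlgebraicGeometry TopologicalSpace Opposite
open Groth.Agent.Lib.Helper23.QCohLocal Groth.Agent.Lib.Helper2.Push Groth.Agent.Lib.Helper2.QCoh
  Groth.Agent.Lib.Helper23.FinType Groth.Agent.Lib.Helper23.ModLocal Groth.Agent.Lib.Helper23.Extend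

open AlgebraicGeometry in
open CategoryTheory in
/-- Let X be a scheme, L a well-ordered set and (V_l) a cover of X by affine opens indexed by L such
that, for every l, the intersection of V_l with the union of the V_m, m < l, is quasi-compact; let U
be an open subset of X whose inclusion morphism is quasi-compact. Then for every quasi-coherent
O_X-module F and every quasi-coherent subsheaf of finite type G of F restricted to U there is a
quasi-coherent subsheaf of finite type G' of F whose restriction to U is G. -/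
theorem result
    {X : Scheme.{u}} {L : Type v} [LinearOrder L] [WellFoundedLT L]
    (V : L → X.Opens) (hV : ∀ l, IsAffineOpen (V l)) (hcov : ⨆ l, V l = ⊤)
    (hW : ∀ l, IsCompact ((V l : Set X) ∩ ⋃ m ∈ Set.Iio l, (V m : Set X)))
    (U : X.Opens) [QuasiCompact U.ι] (F : X.Modules) [Coh.IsQCoh F]
    (G : (U : Scheme.{u}).Modules) (i : G ⟶ F.restrict U.ι) [Mono i]
    [Coh.IsQCoh G] (hG : CohB1.IsFT G) :
    ∃ (G' : X.Modules) (i' : G' ⟶ F) (e : G'.restrict U.ι ≅ G), Mono i' ∧ Coh.IsQCoh G' ∧ CohB1.IsFT G' ∧
      e.hom ≫ i = (Scheme.Modules.restrictFunctor U.ι).map i' := by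
  have hU : ∀ l, IsCompact ((V l : Set X) ∩ (U : Set X)) := by
    intro l
    have h1 : IsCompact (U.ι ⁻¹' (V l : Set X)) :=
      QuasiCompact.isCompact_preimage (f := U.ι) _ (V l).isOpen (hV l).isCompact
    have h2 := h1.image U.ι.continuous
    have h3 : U.ι '' (U.ι ⁻¹' (V l : Set X)) = (V l : Set X) ∩ (U : Set X) := by
      rw [Set.image_preimage_eq_inter_range, Scheme.Opens.range_ι]
    rwa [h3] at h2
  obtain ⟨H, ψ₀, e₀, hHq, hcompat, hmono, -⟩ := exists_extension' U.ι F G i
  have := hHq
  have : Mono ψ₀ := hmono inferInstance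
  have : SheafOfModules.IsFiniteType (R := (U : Scheme.{u}).ringCatSheaf) G := hG
  have : SheafOfModules.IsFiniteType (R := (U : Scheme.{u}).ringCatSheaf) (H.restrict U.ι) :=
    isFiniteType_of_iso e₀.symm
  have hH : FTOn H U := by
    have := ftOn_of_isFiniteType_restrict U.ι H
    rw [Scheme.Opens.opensRange_ι] at this
    exact this
  obtain ⟨F', ψ, hm, hq, hft, hiso⟩ :=
    Groth.Agent.Lib.Seat21.QSub.exists_sub_isFiniteType_wellOrdered H V hV hcov hW U hU hH
  have := hm
  have : IsIso ((Scheme.Modules.restrictFunctor U.ι).map ψ) := by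
    rw [isIso_restrict_iff, Scheme.Opens.opensRange_ι]; exact hiso
  refine ⟨F', ψ ≫ ψ₀, asIso ((Scheme.Modules.restrictFunctor U.ι).map ψ) ≪≫ e₀, mono_comp _ _, hq, hft, ?_⟩
  rw [Iso.trans_hom, Category.assoc, hcompat, asIso_hom, ← Functor.map_comp]

end Groth.Agent.S4355
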