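import Groth.Statements.S4444
import Groth.Agent.Lib.Seat85CurveCompl

set_option autoImplicit false
universe u
open CategoryTheory CategoryTheory.Limits AlgebraicGeometry
open EGA2

namespace Groth.Agent.S4444

/-- Every normal algebraic curve X over a field k (separated and of finite type over k, nonempty, local
rings at closed points of dimension one, all local rings integrally closed domains) admits a
k-morphism which is an open immersion with dense image into a normal algebraic curve proper over k.
(The uniqueness of this completion up to unique isomorphism is not part of this row.) -/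
theorem result (k : Type u) [Field k] (X : Scheme.{u})
    [X.Over (Spec (CommRingCat.of k))] [LocallyOfFiniteType (X ↘ (Spec (CommRingCat.of k)))]
    [QuasiCompact (X ↘ (Spec (CommRingCat.of k)))] [IsSeparated (X ↘ (Spec (CommRingCat.of k)))] [Nonempty X]
    (hcurve : ∀ x : X, IsClosed ({x} : Set X) → ringKrullDim (X.presheaf.stalk x) = 1) (hnorm : Pi1.IsNormalScheme X) :
    ∃ (Xc : Scheme.{u}) (sc : Xc ⟶ Spec (CommRingCat.of k)) (j : X ⟶ Xc), IsOpenImmersion j ∧ Dense (Set.range j.base) ∧
      j ≫ sc = X ↘ (Spec (CommRingCat.of k)) ∧ IsProper sc ∧ Pi1.IsNormalScheme Xc ∧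
      ∀ x : Xc, IsClosed ({x} : Set Xc) → ringKrullDim (Xc.presheaf.stalk x) = 1 := by
  classical
  have : CompactSpace X := QuasiCompact.compactSpace_of_compactSpace (X ↘ Spec (CommRingCat.of k))
  have : IsLocallyNoetherian X :=
    LocallyOfFiniteType.isLocallyNoetherian (X ↘ Spec (CommRingCat.of k))
  have : IsNoetherian X := {}
  obtain ⟨ι, hι, U, hUint, hUcl, hcov, hdisj⟩ :=
    Lib.Seat85.FinCoprod.exists_integral_decomposition X (fun x => (hnorm x).1)
  choose C sc j hCint hjopen hjdense hjsc hproper hCnorm hCdim using fun i =>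
    Lib.Seat85.CurveCompl.exists_completion_opens k X hcurve hnorm (U i) (hUcl i)
  -- `X` is the coproduct of the `U i`
  let D : (∐ fun i => (U i).toScheme) ⟶ X := Sigma.desc fun i => (U i).ι
  have hD : IsIso D := by
    have h1 := nonempty_isColimit_cofanMk_of (fun i => (U i).ι) (by simpa using hcov)
      (by
        intro i i' hne
        simpa [Function.onFun] using hdisj hne)
    rwa [Cofan.nonempty_isColimit_iff_isIso_sigmaDesc] at h1
  -- the map into the coproduct of the completions
  let J : (∐ fun i => (U i).toScheme) ⟶ ∐ C := Sigma.desc fun i => j i ≫ Sigma.ι C i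
  have hJ : IsOpenImmersion J := by
    refine isOpenImmersion_sigmaDesc _ _ ?_
    intro i i' hne
    have h1 := disjoint_opensRange_sigmaι C i i' hne
    rw [Function.onFun, Set.disjoint_iff_forall_ne]
    rintro _ ⟨a, rfl⟩ _ ⟨b, rfl⟩ hab
    have h2 : (Sigma.ι C i) (j i a) ∈ (Sigma.ι C i).opensRange ⊓ (Sigma.ι C i').opensRange := by
      refine ⟨⟨j i a, rfl⟩, ⟨j i' b, ?_⟩⟩
      simpa [Scheme.Hom.comp_apply] using hab.symm
    rw [disjoint_iff.mp h1] at h2
    exact h2
  refine ⟨∐ C, Sigma.desc sc, inv D ≫ J, inferInstance, ?_, ?_,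
    Lib.Seat85.FinCoprod.isProper_sigmaDesc C _ sc hproper,
    Lib.Seat85.FinCoprod.isNormalScheme_sigma C hCnorm,
    Lib.Seat85.FinCoprod.ringKrullDim_stalk_sigma_of_isClosed C 1 hCdim⟩
  · -- dense image
    rw [dense_iff_closure_eq, Set.eq_univ_iff_forall]
    intro y
    obtain ⟨⟨i, c⟩, rfl⟩ := (sigmaMk C).surjective y
    rw [sigmaMk_mk]
    have h1 : c ∈ closure (Set.range (j i)) := (hjdense i) c
    have h2 := image_closure_subset_closure_image (Sigma.ι C i).continuous ⟨c, h1, rfl⟩
    refine closure_mono ?_ h2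
    rintro _ ⟨_, ⟨a, rfl⟩, rfl⟩
    refine ⟨D (Sigma.ι (fun i => (U i).toScheme) i a), ?_⟩
    rw [← Scheme.Hom.comp_apply, ← Scheme.Hom.comp_apply, IsIso.hom_inv_id_assoc]
    simp only [J, Sigma.ι_desc]
    rfl
  · rw [Category.assoc, IsIso.inv_comp_eq]
    apply Sigma.hom_ext
    intro i
    simp only [J, D, Sigma.ι_desc_assoc, Sigma.ι_desc, Category.assoc, hjsc]

end Groth.Agent.S4444
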