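import Groth.Statements.S4457
import Groth.Agent.Lib.Seat81LerayOut
-- import your own Groth.Agent.* helpers here

set_option autoImplicit false
universe u
open Coherent

namespace Groth.Agent.S4457

open AlgebraicGeometry CategoryTheory in
/-- Let f : X → Y be a separated quasi-compact morphism, g : Y → Z an affine morphism and F a
quasi-coherent O_X-module. Then for every p ≥ 0, R^p (g ∘ f)_* F is isomorphic to g_*(R^p f_* F)
(higher direct images and direct image of the underlying abelian sheaves). The source shows that the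
canonical comparison map is an isomorphism; only the existence of an isomorphism is asserted here. -/
theorem result {X Y Z : Scheme.{u}} (f : X ⟶ Y) (g : Y ⟶ Z)
    [IsSeparated f] [QuasiCompact f] [IsAffineHom g] (F : X.Modules) [Coh.IsQCoh F] (p : ℕ) :
    Nonempty ((Coh.RpushAb (f ≫ g) p).obj (Coh.toAb F) ≅
      (Coh.pushAb g).obj ((Coh.RpushAb f p).obj (Coh.toAb F))) := by
  have := Groth.Agent.Lib.Seat81.DerRes.enoughInjectives X
  have : HasInjectiveResolutions X.Modules := inferInstance
  have h := Groth.Agent.Lib.Seat81.LerayOut.isIso_lerayEdgeOut f g F p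
  obtain ⟨e1⟩ := Groth.Agent.Lib.Helper23.ModAbBridge.nonempty_toAb_Rpush_iso (f ≫ g) F p
  obtain ⟨e2⟩ := Groth.Agent.Lib.Helper23.ModAbBridge.nonempty_toAb_Rpush_iso f F p
  let i0 : (Coh.Rpush (f ≫ g) p).obj F ≅ (Scheme.Modules.pushforward g).obj ((Coh.Rpush f p).obj F) :=
    asIso (CohBC.lerayEdgeOut f g p F)
  let e3 : Coh.toAb ((Coh.Rpush (f ≫ g) p).obj F) ≅ Coh.toAb ((Scheme.Modules.pushforward g).obj ((Coh.Rpush f p).obj F)) :=
    (SheafOfModules.toSheaf Z.ringCatSheaf).mapIso i0
  exact ⟨e1.symm ≪≫ e3 ≪≫ (Coh.pushAb g).mapIso e2⟩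

end Groth.Agent.S4457
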