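import Groth.Statements.S4475
import Groth.Agent.S2423
import Groth.Agent.Lib.Seat54KoszulTop
import Groth.Agent.Lib.Seat54DirLimFree
import Groth.Agent.Lib.Seat54KoszulPoly

set_option autoImplicit false
universe u
open Koszul3

namespace Groth.Agent.S4475

section helpers

open CategoryTheory CategoryTheory.Limits MvPolynomial
open Groth.Agent.Lib.Seat54

variable (A : Type u) [CommRing A] (r : ℕ)

/-- the list of variables. -/
noncomputable abbrev Xs : List (MvPolynomial (Fin (r + 1)) A) :=
  List.ofFn (fun j : Fin (r + 1) => (MvPolynomial.X j : MvPolynomial (Fin (r + 1)) A))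

lemma Xs_map (n : ℕ) : (Xs A r).map (· ^ n) =
    List.ofFn (fun j : Fin (r + 1) => (MvPolynomial.X j : MvPolynomial (Fin (r + 1)) A) ^ n) := by
  unfold Xs
  rw [List.map_ofFn]
  rfl

lemma ofList_Xs_map (n : ℕ) :
    Ideal.ofList ((Xs A r).map (· ^ n)) = KoszulPoly.I A (Fin (r + 1)) n := by
  rw [Xs_map]
  unfold KoszulPoly.I Ideal.ofList
  congr 1
  ext p
  simp only [Set.mem_ofPred_eq, List.mem_ofFn, Set.mem_range]

lemma isZero_pow (i : ℕ) (hi : i ≠ r + 1) (n : ℕ) :
    IsZero (CohIII.koszulHPow (Xs A r)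
      (ModuleCat.of (MvPolynomial (Fin (r + 1)) A) (MvPolynomial (Fin (r + 1)) A)) i n) := by
  have hl : ((Xs A r).map (· ^ n)).length = (Xs A r).length := List.length_map _
  have h := Groth.Agent.S2423.result ((Xs A r).map (· ^ n)) (MvPolynomial (Fin (r + 1)) A)
    (by rw [Xs_map]; exact KoszulPoly.isWeaklyRegular_X_pow A (r + 1) n) i
    (by rw [hl, List.length_ofFn]; exact hi)
  show IsZero ((CohIII.koszulCx _ ((Xs A r).map (· ^ n))).homology ((i : ℤ) - (Xs A r).length))
  rw [← hl]
  exact h

theorem free_top (d : ℤ) (hd : d = 0) :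
    Module.Free A (RestrictScalars A (MvPolynomial (Fin (r + 1)) A)
      (Module.DirectLimit
        (fun n : ℕ => ((CohIII.koszulCx
          (ModuleCat.of (MvPolynomial (Fin (r + 1)) A) (MvPolynomial (Fin (r + 1)) A))
          ((Xs A r).map (· ^ n))).homology d : Type u))
        (fun n m h => (HomologicalComplex.homologyMap (CohIII.koszulTrans
          (ModuleCat.of (MvPolynomial (Fin (r + 1)) A) (MvPolynomial (Fin (r + 1)) A))
          n m h (Xs A r)) d).hom))) := by
  subst hd
  set M := ModuleCat.of (MvPolynomial (Fin (r + 1)) A) (MvPolynomial (Fin (r + 1)) A) with hM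
  have hprod : (Xs A r).prod = ∏ i : Fin (r + 1), (MvPolynomial.X i : MvPolynomial (Fin (r + 1)) A) := by
    unfold Xs
    rw [List.prod_ofFn]
  obtain ⟨e⟩ := DirLimFree.dl_equiv (A := A) (S := MvPolynomial (Fin (r + 1)) A)
    (fun n : ℕ => ((CohIII.koszulCx M ((Xs A r).map (· ^ n))).homology 0 : Type u))
    (fun n m h => (HomologicalComplex.homologyMap (CohIII.koszulTrans M n m h (Xs A r)) 0).hom)
    (fun n => (KoszulTop.cls M ((Xs A r).map (· ^ n))).hom)
    (fun n => KoszulTop.cls_surjective M _)
    (Xs A r).prod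
    (fun n m h x => by
      have := congrArg (fun g => (ModuleCat.Hom.hom g) x) (KoszulTop.cls_trans M n m h (Xs A r))
      simp only [ModuleCat.hom_comp, LinearMap.comp_apply] at this
      rw [this, ModuleCat.hom_smul, LinearMap.smul_apply]
      exact (map_smul _ _ _).symm)
    (F := MvPolynomial (Fin (r + 1)) A)
    (fun n => KoszulPoly.ψ A n)
    (fun n m h x => by
      rw [hprod, KoszulPoly.prod_X_pow]
      exact KoszulPoly.ψ_mul n m h x)
    (fun n x => by
      rw [KoszulPoly.ψ_eq_zero_iff, ← ofList_Xs_map, ← LinearMap.mem_ker, KoszulTop.ker_cls,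
        smul_eq_mul, Ideal.mul_top])
    KoszulPoly.exists_ψ_eq
  exact Module.Free.of_equiv e.symm

end helpers

open CategoryTheory CategoryTheory.Limits in
/-- Let A be a ring, S = A[T_0, …, T_r] the polynomial ring and T = (T_0, …, T_r). Then the direct-limit
Koszul cohomology H^i((T), S), the colimit over n of the Koszul cohomologies H^i(T^n, S), vanishes
for every i ≠ r + 1, and H^(r+1)((T), S) is a free A-module (the source gives an explicit basis
indexed by the monomials with all exponents positive). -/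
theorem result (A : Type u) [CommRing A] (r : ℕ) :
    (∀ i : ℕ, i ≠ r + 1 →
      Subsingleton (CohIII.koszulHLim (List.ofFn (fun j : Fin (r + 1) => (MvPolynomial.X j : MvPolynomial (Fin (r + 1)) A)))
        (ModuleCat.of (MvPolynomial (Fin (r + 1)) A) (MvPolynomial (Fin (r + 1)) A)) i)) ∧
    Module.Free A (RestrictScalars A (MvPolynomial (Fin (r + 1)) A)
      (CohIII.koszulHLim (List.ofFn (fun j : Fin (r + 1) => (MvPolynomial.X j : MvPolynomial (Fin (r + 1)) A)))
        (ModuleCat.of (MvPolynomial (Fin (r + 1)) A) (MvPolynomial (Fin (r + 1)) A)) (r + 1))) := by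
  refine ⟨fun i hi => ?_, ?_⟩
  · unfold CohIII.koszulHLim
    refine ⟨fun a b => ?_⟩
    have hz : ∀ z : Module.DirectLimit (fun n : ℕ => (CohIII.koszulHPow (Xs A r)
        (ModuleCat.of (MvPolynomial (Fin (r + 1)) A) (MvPolynomial (Fin (r + 1)) A)) i n : Type u))
        (fun n m h => (HomologicalComplex.homologyMap (CohIII.koszulTrans _ n m h (Xs A r))
          ((i : ℤ) - (Xs A r).length)).hom), z = 0 := by
      intro z
      obtain ⟨n, x, rfl⟩ := Module.DirectLimit.exists_of z
      have := ModuleCat.subsingleton_of_isZero (isZero_pow A r i hi n)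
      rw [Subsingleton.elim x 0, map_zero]
    exact (hz a).trans (hz b).symm
  · exact free_top A r _ (by simp)

end Groth.Agent.S4475
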