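import Groth.Statements.S4499
import Groth.Agent.Lib.Seat76TorTwoTerm

set_option autoImplicit false
universe u
attribute [local instance] HasDerivedCategory.standard
open FlatCx

namespace Groth.Agent.S4499

/-- Let A be a Noetherian local ring with residue field k, and d : P₁ → P₀ an A-linear map between flat
A-modules, viewed as a two-term chain complex, so that H₁ = Ker d, H₀ = Coker d and H₁ of the
complex tensored with k is Ker(d ⊗ 1_k). Let α : (Ker d) ⊗_A k → P₁ ⊗_A k be the map induced by the
inclusion Ker d → P₁; its image lies in Ker(d ⊗ 1_k). Then there is an exact sequence 0 →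
Tor₂^A(Coker d, k) → (Ker d) ⊗_A k → Ker(d ⊗ 1_k) → Tor₁^A(Coker d, k) → 0 with middle map α, stated
here as: Ker α is isomorphic to Tor₂^A(Coker d, k), and the quotient of Ker(d ⊗ 1_k) by the image of
α is isomorphic to Tor₁^A(Coker d, k) (existence of A-linear isomorphisms only; Tor is Mathlib's,
left derived in the second variable). (In the published statement the cokernel is printed without
its prime, as the module of 0-cycles; the proof is about the cokernel of d.) -/
theorem result {A : Type u} [CommRing A] [IsNoetherianRing A]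
    [IsLocalRing A] {P₁ P₀ : Type u} [AddCommGroup P₁] [Module A P₁] [AddCommGroup P₀] [Module A P₀]
    [Module.Flat A P₁] [Module.Flat A P₀] (d : P₁ →ₗ[A] P₀) :
    Nonempty (LinearMap.ker ((LinearMap.ker d).subtype.rTensor (IsLocalRing.ResidueField A)) ≃ₗ[A]
        DRing.Tor A 2 (P₀ ⧸ LinearMap.range d) (IsLocalRing.ResidueField A)) ∧
      LinearMap.range ((LinearMap.ker d).subtype.rTensor (IsLocalRing.ResidueField A)) ≤
        LinearMap.ker (d.rTensor (IsLocalRing.ResidueField A)) ∧
      Nonempty ((↥(LinearMap.ker (d.rTensor (IsLocalRing.ResidueField A))) ⧸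
          Submodule.comap (LinearMap.ker (d.rTensor (IsLocalRing.ResidueField A))).subtype
            (LinearMap.range ((LinearMap.ker d).subtype.rTensor (IsLocalRing.ResidueField A)))) ≃ₗ[A]
        DRing.Tor A 1 (P₀ ⧸ LinearMap.range d) (IsLocalRing.ResidueField A)) := by
  classical
  set k := IsLocalRing.ResidueField A with hk
  -- the two short exact sequences
  let S1 : CategoryTheory.ShortComplex (ModuleCat.{u} A) :=
    CategoryTheory.ShortComplex.mk (ModuleCat.ofHom (LinearMap.ker d).subtype)
      (ModuleCat.ofHom d.rangeRestrict) (by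
        ext x
        exact x.2)
  have hS1 : S1.ShortExact :=
    { exact := by
        rw [CategoryTheory.ShortComplex.moduleCat_exact_iff_range_eq_ker]
        change LinearMap.range (LinearMap.ker d).subtype = LinearMap.ker d.rangeRestrict
        rw [Submodule.range_subtype, LinearMap.ker_rangeRestrict]
      mono_f := (ModuleCat.mono_iff_injective _).2 (Submodule.injective_subtype _)
      epi_g := (ModuleCat.epi_iff_surjective _).2 d.surjective_rangeRestrict }
  let S2 : CategoryTheory.ShortComplex (ModuleCat.{u} A) :=
    CategoryTheory.ShortComplex.mk (ModuleCat.ofHom (LinearMap.range d).subtype)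
      (ModuleCat.ofHom (LinearMap.range d).mkQ) (by
        ext x
        change (LinearMap.range d).mkQ (x : P₀) = 0
        simp)
  have hS2 : S2.ShortExact :=
    { exact := by
        rw [CategoryTheory.ShortComplex.moduleCat_exact_iff_range_eq_ker]
        change LinearMap.range (LinearMap.range d).subtype = LinearMap.ker (LinearMap.range d).mkQ
        rw [Submodule.range_subtype, Submodule.ker_mkQ]
      mono_f := (ModuleCat.mono_iff_injective _).2 (Submodule.injective_subtype _)
      epi_g := (ModuleCat.epi_iff_surjective _).2 (Submodule.mkQ_surjective _) }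
  have fl1 : Module.Flat A S1.X₂ := inferInstanceAs (Module.Flat A P₁)
  have fl2 : Module.Flat A S2.X₂ := inferInstanceAs (Module.Flat A P₀)
  obtain ⟨e1⟩ := Groth.Agent.Lib.Seat76.TorTwoTerm.nonempty_tor_one_equiv_ker S1 hS1
    (ModuleCat.of A k)
  obtain ⟨i2⟩ := Groth.Agent.Lib.Seat76.TorTwoTerm.nonempty_tor_succ_iso S2 hS2
    (ModuleCat.of A k) 0
  obtain ⟨e3⟩ := Groth.Agent.Lib.Seat76.TorTwoTerm.nonempty_tor_one_equiv_ker S2 hS2
    (ModuleCat.of A k)
  -- the linear maps
  set α := (LinearMap.ker d).subtype.rTensor k with hα
  set β := d.rangeRestrict.rTensor k with hβ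
  set γ := (LinearMap.range d).subtype.rTensor k with hγ
  have hd : d.rTensor k = γ ∘ₗ β := by
    rw [hγ, hβ, ← LinearMap.rTensor_comp]
    congr 1
  have hex : Function.Exact α β := by
    refine rTensor_exact k ?_ d.surjective_rangeRestrict
    rw [LinearMap.exact_iff, Submodule.range_subtype, LinearMap.ker_rangeRestrict]
  have hN : LinearMap.range α = LinearMap.ker β := (LinearMap.exact_iff.1 hex).symm
  have hβs : Function.Surjective β :=
    LinearMap.rTensor_surjective k d.surjective_rangeRestrict
  refine ⟨⟨e1.symm.trans i2.symm.toLinearEquiv⟩, ?_, ?_⟩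
  · rw [hN, hd]
    intro x hx
    have hx' : β x = 0 := hx
    change γ (β x) = 0
    rw [hx', map_zero]
  · rw [hd]
    obtain ⟨e4⟩ := Groth.Agent.Lib.Seat76.TorTwoTerm.nonempty_quot_equiv_ker β γ hβs
      (LinearMap.range α) hN
    exact ⟨e4.trans e3.symm⟩

end Groth.Agent.S4499
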