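import Groth.Statements.S4539
import Groth.Agent.Lib.Seat94DVRCompletion
import Groth.Agent.Lib.Helper14GeomRed
import Mathlib

set_option autoImplicit false
set_option linter.style.haveILetI false
universe u
open EGA41

namespace Groth.Agent.S4539

open IsLocalRing

section Helpers

variable (p : ℕ) [hp : (Ideal.span {(p : ℤ)}).IsPrime]

local notation "PP" => Localization.AtPrime (Ideal.span {(p : ℤ)})

theorem maximalIdeal_P : maximalIdeal PP = Ideal.span {(p : PP)} := by
  rw [← IsLocalization.AtPrime.map_eq_maximalIdeal (Ideal.span {(p : ℤ)}) PP, Ideal.map_span,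
    Set.image_singleton, map_natCast]

theorem map_maximalIdeal_P {A : Type} [CommRing A] [Algebra PP A] :
    (maximalIdeal PP).map (algebraMap PP A) = Ideal.span {(p : A)} := by
  rw [maximalIdeal_P, Ideal.map_span, Set.image_singleton, map_natCast]

theorem eq_zero_or_prime : p = 0 ∨ p.Prime := by
  by_cases h0 : p = 0
  · exact Or.inl h0
  · right
    have h1 : ((p : ℤ)) ≠ 0 := by exact_mod_cast h0
    have := (Ideal.span_singleton_prime h1).mp hp
    exact Nat.prime_iff_prime_int.mpr this

theorem natCast_P_ne_zero (h0 : p ≠ 0) : (p : PP) ≠ 0 := by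
  have hinj : Function.Injective (algebraMap ℤ PP) :=
    IsLocalization.injective PP (Ideal.primeCompl_le_nonZeroDivisors (Ideal.span {(p : ℤ)}))
  intro h
  have h1 : algebraMap ℤ PP (p : ℤ) = algebraMap ℤ PP 0 := by
    rw [map_natCast, map_zero]; exact h
  have := hinj h1
  exact h0 (by exact_mod_cast this)

theorem forward {A : Type} [CommRing A] [IsLocalRing A] [CharP (ResidueField A) p]
    [Algebra PP A] [IsLocalHom (algebraMap PP A)] (h : EGA41.IsCohenAlgebra PP A) :
    EGA41.IsCohenRingEGA A := by
  obtain ⟨_, hNA, hcomp, hflat, hmax, _⟩ := h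
  rw [map_maximalIdeal_P] at hmax
  rcases eq_zero_or_prime p with h0 | hpr
  · left
    have hbot : maximalIdeal A = ⊥ := by
      rw [← hmax, h0]; simp
    refine ⟨IsLocalRing.isField_iff_maximalIdeal_eq.mpr hbot, ?_⟩
    haveI : CharP (ResidueField A) 0 := h0 ▸ (inferInstance : CharP (ResidueField A) p)
    haveI : CharZero (ResidueField A) := CharP.charP_to_charZero _
    exact (IsLocalRing.residue A).charZero
  · right
    have hreg : IsSMulRegular A (p : PP) :=
      Module.Flat.isSMulRegular_of_nonZeroDivisors
        (mem_nonZeroDivisors_of_ne_zero (natCast_P_ne_zero p hpr.ne_zero))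
    have hreg' : ∀ a : A, (p : A) * a = 0 → a = 0 := by
      intro a ha
      apply hreg
      show (p : PP) • a = (p : PP) • (0 : A)
      rw [smul_zero, Algebra.smul_def, map_natCast, ha]
    have hnil : ∀ n : ℕ, (p : A) ^ n ≠ 0 := by
      intro n
      induction n with
      | zero => simp
      | succ n ih =>
        intro h
        rw [pow_succ'] at h
        exact ih (hreg' _ h)
    have hsep : ∀ x : A, (∀ n : ℕ, x ∈ Ideal.span {(p : A) ^ n}) → x = 0 := by
      intro x hx
      apply IsHausdorff.haus' (I := maximalIdeal A) x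
      intro n
      rw [SModEq.zero, ← hmax, Ideal.span_singleton_pow, smul_eq_mul, Ideal.mul_top]
      exact hx n
    obtain ⟨hdom, hdvr⟩ :=
      Groth.Agent.Lib.Seat94.DVRCompletion.isDomain_and_isDVR_of_principal_maximalIdeal
        (p : A) hmax.symm hsep hnil
    exact ⟨hdom, hdvr, hcomp, p, hpr, hmax.symm⟩

/-- the residue field of `ℤ_(p)` is perfect -/
theorem perfectField_residue (K : Type) [Field K] [Algebra (ResidueField PP) K] [CharP K p] :
    PerfectField (ResidueField PP) := by
  haveI : CharP (ResidueField PP) p :=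
    (algebraMap (ResidueField PP) K).charP (algebraMap (ResidueField PP) K).injective p
  rcases eq_zero_or_prime p with h0 | hpr
  · haveI : CharP (ResidueField PP) 0 := h0 ▸ (inferInstance : CharP (ResidueField PP) p)
    haveI : CharZero (ResidueField PP) := CharP.charP_to_charZero _
    infer_instance
  · haveI : Fact p.Prime := ⟨hpr⟩
    have hne : Ideal.span {(p : ℤ)} ≠ ⊥ := by
      rw [Ne, Ideal.span_singleton_eq_bot]
      exact_mod_cast hpr.ne_zero
    haveI : (Ideal.span {(p : ℤ)}).IsMaximal := Ideal.IsPrime.isMaximal hp hne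
    have hsurj : ∀ x : ResidueField PP, ∃ n : ℤ, x = (n : ResidueField PP) := by
      intro x
      obtain ⟨y, rfl⟩ :=
        (IsLocalization.AtPrime.equivQuotMaximalIdeal (Ideal.span {(p : ℤ)}) PP).surjective x
      obtain ⟨n, rfl⟩ := Ideal.Quotient.mk_surjective y
      refine ⟨n, ?_⟩
      rw [IsLocalization.AtPrime.equivQuotMaximalIdeal_apply_mk]
      show IsLocalRing.residue PP (algebraMap ℤ PP n) = _
      rw [eq_intCast (algebraMap ℤ PP) n, map_intCast]
    haveI : PerfectRing (ResidueField PP) p := by
      apply PerfectRing.ofSurjective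
      intro x
      obtain ⟨n, rfl⟩ := hsurj x
      exact ⟨(n : ResidueField PP), map_intCast (frobenius (ResidueField PP) p) n⟩
    exact PerfectRing.toPerfectField (ResidueField PP) p

theorem core {A : Type} [CommRing A] [IsLocalRing A] [CharP (ResidueField A) p]
    [Algebra PP A] [IsLocalHom (algebraMap PP A)] [IsDomain A] [CharZero A]
    (hN : IsNoetherianRing A) (hc : IsAdicComplete (maximalIdeal A) A)
    (hm : maximalIdeal A = Ideal.span {(p : A)}) : EGA41.IsCohenAlgebra PP A := by
  refine ⟨inferInstance, hN, hc, ?_, ?_, ?_⟩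
  · haveI : IsAddTorsionFree A := by
      refine ⟨fun n hn a b hab => ?_⟩
      simp only [nsmul_eq_mul] at hab
      exact mul_left_cancel₀ (by exact_mod_cast hn) hab
    haveI : Module.Flat ℤ A := inferInstance
    have hst : @IsScalarTower ℤ PP A (Algebra.toSMul) _ _ :=
      IsScalarTower.of_algebraMap_eq' (RingHom.ext_int _ _)
    exact (@Module.flat_iff_of_isLocalization ℤ PP _ _ _ (Ideal.span {(p : ℤ)}).primeCompl _ A _ _ _
      hst).mpr inferInstance
  · rw [map_maximalIdeal_P, hm]
  · haveI := perfectField_residue p (ResidueField A)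
    rw [Algebra.isGeometricallyReduced_field_iff]
    haveI : Algebra.IsSeparable (ResidueField PP) (AlgebraicClosure (ResidueField PP)) :=
      Algebra.IsAlgebraic.isSeparable_of_perfectField
    exact Groth.Agent.Lib.Helper14.GeomRed.isReduced_tensor_of_isSeparable
      (k := ResidueField PP) (L := AlgebraicClosure (ResidueField PP)) (S := ResidueField A)

theorem backward {A : Type} [CommRing A] [IsLocalRing A] [CharP (ResidueField A) p]
    [Algebra PP A] [IsLocalHom (algebraMap PP A)] (h : EGA41.IsCohenRingEGA A) :
    EGA41.IsCohenAlgebra PP A := by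
  rcases h with ⟨hf, hcz⟩ | ⟨hdom, hdvr, hcomp, q, hq, hmq⟩
  · have hbot : maximalIdeal A = ⊥ := IsLocalRing.isField_iff_maximalIdeal_eq.mp hf
    haveI : CharZero (ResidueField A) := by
      refine ⟨fun n m hnm => ?_⟩
      have h1 : IsLocalRing.residue A ((n : A) - (m : A)) = 0 := by
        rw [map_sub, map_natCast, map_natCast, hnm, sub_self]
      rw [IsLocalRing.residue_eq_zero_iff, hbot, Ideal.mem_bot, sub_eq_zero] at h1
      exact_mod_cast h1
    have hp0 : p = 0 := CharP.eq (ResidueField A) inferInstance (CharP.ofCharZero _)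
    haveI : IsDomain A := hf.isDomain
    haveI : IsNoetherianRing A := by
      haveI := hf.isPrincipalIdealRing
      infer_instance
    refine core p inferInstance ?_ ?_
    · rw [hbot]; infer_instance
    · rw [hbot, hp0]; simp
  · have hqmem : (q : A) ∈ maximalIdeal A := by
      rw [hmq]; exact Ideal.mem_span_singleton_self _
    have hq0 : ((q : ℕ) : ResidueField A) = 0 := by
      rw [← map_natCast (IsLocalRing.residue A), IsLocalRing.residue_eq_zero_iff]
      exact hqmem
    have hpq : p ∣ q := (CharP.cast_eq_zero_iff (ResidueField A) p q).mp hq0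
    have hp1 : p ≠ 1 := CharP.char_ne_one (ResidueField A) p
    have hpq' : p = q := (Nat.dvd_prime hq).mp hpq |>.resolve_left hp1
    haveI : CharZero A := by
      obtain ⟨ℓ, hℓ⟩ := CharP.exists A
      rcases CharP.char_is_prime_or_zero A ℓ with hℓp | hℓ0
      · exfalso
        have h1 : ((ℓ : ℕ) : ResidueField A) = 0 := by
          rw [← map_natCast (IsLocalRing.residue A), CharP.cast_eq_zero A ℓ, map_zero]
        have h2 : p ∣ ℓ := (CharP.cast_eq_zero_iff (ResidueField A) p ℓ).mp h1
        have h3 : p = ℓ := (Nat.dvd_prime hℓp).mp h2 |>.resolve_left hp1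
        have h4 : (q : A) = 0 := by rw [← hpq', h3]; exact CharP.cast_eq_zero A ℓ
        apply IsDiscreteValuationRing.not_a_field A
        rw [hmq, h4]; simp
      · subst hℓ0
        exact CharP.charP_to_charZero A
    refine core p inferInstance hcomp ?_
    rw [hmq, hpq']

end Helpers

end Groth.Agent.S4539

namespace Groth.Agent.S4539

open IsLocalRing in
/-- Let A be a local ring with residue characteristic p (p = 0 or a prime), P the prime local ring ℤ_(p)
(ℚ if p = 0) and P → A its unique local homomorphism. Then A is a Cohen ring, i.e. a Cohen P-algebra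
— Noetherian and complete, flat over P, with pA its maximal ideal (and residue field separable over
the prime field) — if and only if A is a field of characteristic 0 or a complete discrete valuation
ring of residue characteristic > 0 whose maximal ideal is generated by p·1. -/
theorem result (p : ℕ) [hp : (Ideal.span {(p : ℤ)}).IsPrime]
    {A : Type} [CommRing A] [IsLocalRing A] [CharP (ResidueField A) p]
    [Algebra (Localization.AtPrime (Ideal.span {(p : ℤ)})) A]
    [IsLocalHom (algebraMap (Localization.AtPrime (Ideal.span {(p : ℤ)})) A)] :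
    EGA41.IsCohenAlgebra (Localization.AtPrime (Ideal.span {(p : ℤ)})) A ↔ EGA41.IsCohenRingEGA A := by
  exact ⟨forward p, backward p⟩

end Groth.Agent.S4539
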