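import Groth.Statements.S4653
import Groth.Agent.Lib.Seat11SuppStalk

set_option autoImplicit false
open CategoryTheory AlgebraicGeometry
universe u
open FDesc

namespace Groth.Agent.S4653

open Groth.Agent.Lib.Seat11.SuppStalk

/-- Let f : X → Y be a morphism of schemes, F a quasi-coherent O_X-module of finite type which is flat
over Y, E a quasi-coherent O_Y-module of finite type, and x a point of X with image y. Then x is a
maximal point of the support of f^*E ⊗ F (a point of the support admitting no proper generization in
it) if and only if y is a maximal point of Supp E and x, viewed in the fibre f⁻¹(y), is a maximal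
point of the support of the restriction of F to that fibre. -/
theorem result {X Y : Scheme.{u}} (f : X ⟶ Y) (F : X.Modules) (hF : Coh.IsCoh F)
    (hfl : FlatMod.IsFlatOver f F) (E : Y.Modules) (hE : Coh.IsCoh E) (x : X) :
    (x ∈ CohB1.support (CohB1.tensorMod ((Scheme.Modules.pullback f).obj E) F) ∧
        ∀ z ∈ CohB1.support (CohB1.tensorMod ((Scheme.Modules.pullback f).obj E) F), z ⤳ x → z = x) ↔
      ((f x ∈ CohB1.support E ∧ ∀ w ∈ CohB1.support E, w ⤳ f x → w = f x) ∧
        (f.asFiber x ∈ CohB1.support ((Scheme.Modules.pullback (f.fiberι (f x))).obj F) ∧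
          ∀ z ∈ CohB1.support ((Scheme.Modules.pullback (f.fiberι (f x))).obj F), z ⤳ f.asFiber x → z = f.asFiber x)) := by
  have : E.IsQuasicoherent := hE.1
  have : F.IsQuasicoherent := hF.1
  have : SheafOfModules.IsFiniteType (R := X.ringCatSheaf) F := hF.2
  have hιx : f.fiberι (f x) (f.asFiber x) = x := f.fiberι_asFiber x
  have hfι : ∀ z : ↥(f.fiber (f x)), f (f.fiberι (f x) z) = f x := fun z =>
    Groth.Agent.Lib.Helper10.FibStalk.fiberι_apply_eq f (f x) z
  constructor
  · rintro ⟨hx, hmax⟩
    have hx' := (mem_support_tensor_pullback_iff f E F x (hfl x)).1 hx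
    refine ⟨⟨hx'.1, ?_⟩, ?_, ?_⟩
    · intro w hw hspec
      obtain ⟨x', hx's, hx'F, rfl⟩ := exists_generization_mem_support f F x (hfl x) hx'.2 w hspec
      have h1 : x' ∈ CohB1.support (CohB1.tensorMod ((Scheme.Modules.pullback f).obj E) F) :=
        (mem_support_tensor_pullback_iff f E F x' (hfl x')).2 ⟨hw, hx'F⟩
      rw [hmax x' h1 hx's]
    · rw [mem_support_fiber_iff, hιx]
      exact hx'.2
    · intro z hz hspec
      have hzF : f.fiberι (f x) z ∈ CohB1.support F := (mem_support_fiber_iff f F (f x) z).1 hz
      have h1 : f.fiberι (f x) z ∈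
          CohB1.support (CohB1.tensorMod ((Scheme.Modules.pullback f).obj E) F) := by
        rw [mem_support_tensor_pullback_iff f E F _ (hfl _), hfι z]
        exact ⟨hx'.1, hzF⟩
      have h2 : f.fiberι (f x) z ⤳ x := by
        have := hspec.map (f.fiberι (f x)).continuous
        rwa [hιx] at this
      have h3 := hmax _ h1 h2
      apply (f.fiberι (f x)).isEmbedding.injective
      rw [h3, hιx]
  · rintro ⟨⟨hy, hymax⟩, hz, hzmax⟩
    have hxF : x ∈ CohB1.support F := by
      have := (mem_support_fiber_iff f F (f x) (f.asFiber x)).1 hz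
      rwa [hιx] at this
    refine ⟨(mem_support_tensor_pullback_iff f E F x (hfl x)).2 ⟨hy, hxF⟩, ?_⟩
    intro z hzG hspec
    have hz' := (mem_support_tensor_pullback_iff f E F z (hfl z)).1 hzG
    have heq : f z = f x := hymax (f z) hz'.1 (hspec.map f.continuous)
    have hzr : z ∈ Set.range (f.fiberι (f x)) := by
      rw [f.range_fiberι]
      exact heq
    obtain ⟨z', rfl⟩ := hzr
    have h1 : z' ∈ CohB1.support ((Scheme.Modules.pullback (f.fiberι (f x))).obj F) :=
      (mem_support_fiber_iff f F (f x) z').2 hz'.2
    have h2 : z' ⤳ f.asFiber x := by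
      apply (f.fiberι (f x)).isEmbedding.isInducing.specializes_iff.1
      rw [hιx]
      exact hspec
    rw [hzmax z' h1 h2, hιx]

end Groth.Agent.S4653
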