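import Groth.Statements.S4658
import Groth.Agent.Lib.Seat11RedClosure

set_option autoImplicit false
open CategoryTheory AlgebraicGeometry
universe u
open AssSch

namespace Groth.Agent.S4658

/-- Let X be a locally Noetherian scheme, F a quasi-coherent O_X-module and x a point of X; let Z be the
reduced closed subscheme of X whose underlying space is the closure of x, and O_Z its structure
sheaf viewed as an O_X-module. Then x is an associated point of F if and only if x has an open
neighbourhood U over which there is a monomorphism of O_U-modules O_Z|_U → F|_U. -/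
theorem result {X : Scheme.{u}} [IsLocallyNoetherian X] (F : X.Modules)
    (hF : Coh.IsQCoh F) (x : X) :
    x ∈ AssSch.Ass F ↔ ∃ (U : X.Opens), x ∈ U ∧
      ∃ φ : (Scheme.Modules.pullback U.ι).obj
              ((Scheme.Modules.pushforward (Scheme.IdealSheafData.vanishingIdeal ⟨closure {x}, isClosed_closure⟩).subschemeι).obj
                (Coh.structureModule (Scheme.IdealSheafData.vanishingIdeal ⟨closure {x}, isClosed_closure⟩).subscheme)) ⟶
            (Scheme.Modules.pullback U.ι).obj F, Mono φ := by
  have hq : F.IsQuasicoherent := hF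
  constructor
  · intro hx
    obtain ⟨U, hxU, φ', hφ'⟩ := Groth.Agent.Lib.Seat11.RedClosure.exists_mono_restrict F x hx
    refine ⟨U, hxU, ((Scheme.Modules.restrictFunctorIsoPullback U.ι).app _).inv ≫ φ' ≫
      ((Scheme.Modules.restrictFunctorIsoPullback U.ι).app _).hom, ?_⟩
    have h1 : Mono (φ' ≫ ((Scheme.Modules.restrictFunctorIsoPullback U.ι).app F).hom) := mono_comp _ _
    exact mono_comp _ _
  · rintro ⟨U, hxU, φ, hφ⟩
    have h1 := Groth.Agent.Lib.Seat11.RedClosure.isAssPoint_clE x
    have h2 := (Groth.Agent.Lib.Seat11.OpenRestrict.isAssPoint_restrict_iff U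
      (Groth.Agent.Lib.Seat11.RedClosure.clE x) ⟨x, hxU⟩).2 h1
    have h3 := Groth.Agent.Lib.Seat11.RedClosure.isAssPoint_of_mono φ ⟨x, hxU⟩ h2
    exact (Groth.Agent.Lib.Seat11.OpenRestrict.isAssPoint_restrict_iff U F ⟨x, hxU⟩).1 h3

end Groth.Agent.S4658
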