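import Groth.Statements.S4669
import Groth.Agent.Lib.Seat11FibProdAss

set_option autoImplicit false
open CategoryTheory AlgebraicGeometry
universe u
open AssSch

namespace Groth.Agent.S4669

open CategoryTheory.Limits in
/-- Let f : X → S and g : Y → S be morphisms of schemes with X, Y and X ×_S Y locally Noetherian, F a
quasi-coherent O_X-module and G a quasi-coherent O_Y-module which is flat over S, and write F ⊗_S G
for the tensor product on X ×_S Y of the pull-backs of F and G along the two projections. For points
x of X and y of Y write T(x, y) = Spec κ(x) ×_S Spec κ(y) (empty unless f(x) = g(y), and then the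
spectrum of κ(x) ⊗_{κ(s)} κ(y)) with its canonical monomorphism into X ×_S Y, and I(x, y) for the
image in X ×_S Y of the set of associated points of the structure sheaf of T(x, y). Assume moreover
S locally Noetherian and that f maps every associated point of F to an associated point of O_S. Then
the set of associated points of F ⊗_S G is the union of the sets I(x, y) over the pairs (x, y) with
x an associated point of F, y an associated point of G and f(x) = g(y). (The published statement
assumes only X, S and the fibres of g locally Noetherian; this row assumes Y and X ×_S Y locally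
Noetherian as well, so that associated points are those whose maximal ideal is the annihilator of an
element of the stalk.) -/
theorem result {X Y S : Scheme.{u}} (f : X ⟶ S) (g : Y ⟶ S)
    [IsLocallyNoetherian X] [IsLocallyNoetherian Y] [IsLocallyNoetherian S] [IsLocallyNoetherian (pullback f g)]
    (F : X.Modules) (hF : Coh.IsQCoh F) (G : Y.Modules) (hG : Coh.IsQCoh G) (hGfl : FlatMod.IsFlatOver g G)
    (hAss : ∀ x ∈ AssSch.Ass F, f x ∈ AssSch.Ass (Coh.structureModule S)) :
    AssSch.Ass (CohB1.tensorMod ((Scheme.Modules.pullback (pullback.fst f g)).obj F) ((Scheme.Modules.pullback (pullback.snd f g)).obj G)) =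
      ⋃ (x : ↥X) (_ : x ∈ AssSch.Ass F) (y : ↥Y) (_ : y ∈ AssSch.Ass G) (_ : f x = g y),
        ⇑(pullback.map (X.fromSpecResidueField x ≫ f) (Y.fromSpecResidueField y ≫ g) f g (X.fromSpecResidueField x)
            (Y.fromSpecResidueField y) (𝟙 S) (Category.comp_id _) (Category.comp_id _)) ''
          AssSch.Ass (Coh.structureModule (pullback (X.fromSpecResidueField x ≫ f) (Y.fromSpecResidueField y ≫ g))) := by
  have : G.IsQuasicoherent := hG
  ext z
  simp only [Set.mem_iUnion, Set.mem_image, exists_prop]
  constructor
  · intro hz
    obtain ⟨t, ht⟩ := Groth.Agent.Lib.Seat11.FibProd.exists_jMap_eq f g z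
    have hz' : Curv2.IsAssPoint _ _ := hz
    rw [← ht] at hz'
    have h0 := (Groth.Agent.Lib.Seat11.FibProd.isAssPoint_jMap_iff f g F G hGfl _ _ t).1 hz'
    have h := (Groth.Agent.Lib.Seat11.FibProdAss.isAssPoint_jMap_iff' f g F G hGfl _ _ t
      (hAss _ h0.1)).1 hz'
    exact ⟨_, h.1, _, h.2.1, Groth.Agent.Lib.Seat11.TNoEmb.eq_of_point f g _ _ t, t, h.2.2, ht⟩
  · rintro ⟨x, hx, y, hy, -, t, ht, rfl⟩
    exact (Groth.Agent.Lib.Seat11.FibProdAss.isAssPoint_jMap_iff' f g F G hGfl x y t
      (hAss x hx)).2 ⟨hx, hy, ht⟩

end Groth.Agent.S4669
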