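import Groth.Statements.S4681
import Groth.Agent.Lib.Seat22FFlatDesc

set_option autoImplicit false
set_option linter.style.haveILetI false
open CategoryTheory AlgebraicGeometry
universe u
open FDesc

namespace Groth.Agent.S4681

/-- Let f : X → Y and g : Y → Z be morphisms of schemes and F a quasi-coherent O_X-module which is
faithfully flat relative to Y: flat over Y, and for every point y of Y there is a point x over y
with F_x ⊗ κ(y) ≠ 0. Then g is flat and surjective (faithfully flat) if and only if F is faithfully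
flat relative to Z for the morphism f followed by g: flat over Z, and for every point z of Z there
is a point x of X over z with F_x ⊗ κ(z) ≠ 0. -/
theorem result {X Y Z : Scheme.{u}} (f : X ⟶ Y) (g : Y ⟶ Z)
    (F : X.Modules) (hF : Coh.IsQCoh F) (hFfl : FlatMod.IsFlatOver f F)
    (hFff : (∀ y : ↥Y, ∃ x : ↥X, f x = y ∧
      letI := FlatMod.moduleStalkOver f F x
      IsLocalRing.maximalIdeal (Y.presheaf.stalk (f x)) • (⊤ : Submodule (Y.presheaf.stalk (f x)) (F.presheaf.stalk x)) ≠ ⊤)) :
    (Flat g ∧ Surjective g) ↔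
      (FlatMod.IsFlatOver (f ≫ g) F ∧
        (∀ z : ↥Z, ∃ x : ↥X, (f ≫ g) x = z ∧
      letI := FlatMod.moduleStalkOver (f ≫ g) F x
      IsLocalRing.maximalIdeal (Z.presheaf.stalk ((f ≫ g) x)) • (⊤ : Submodule (Z.presheaf.stalk ((f ≫ g) x)) (F.presheaf.stalk x)) ≠ ⊤)) := by
  -- the key compatibility of the three module structures on a stalk
  have tower : ∀ x : X,
      letI := FlatMod.moduleStalkOver f F x
      letI := FlatMod.moduleStalkOver (f ≫ g) F x
      letI : Algebra (Z.presheaf.stalk ((f ≫ g) x)) (Y.presheaf.stalk (f x)) :=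
        (g.stalkMap (f x)).hom.toAlgebra
      IsScalarTower (Z.presheaf.stalk ((f ≫ g) x)) (Y.presheaf.stalk (f x)) (F.presheaf.stalk x) := by
    intro x
    letI := FlatMod.moduleStalkOver f F x
    letI := FlatMod.moduleStalkOver (f ≫ g) F x
    letI : Algebra (Z.presheaf.stalk ((f ≫ g) x)) (Y.presheaf.stalk (f x)) :=
      (g.stalkMap (f x)).hom.toAlgebra
    refine IsScalarTower.of_algebraMap_smul fun a m => ?_
    change (f.stalkMap x).hom ((g.stalkMap (f x)).hom a) • m = ((f ≫ g).stalkMap x).hom a • m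
    rw [Scheme.Hom.stalkMap_comp]
    rfl
  constructor
  · rintro ⟨hgfl, hgsurj⟩
    refine ⟨fun x => ?_, fun z => ?_⟩
    · letI := FlatMod.moduleStalkOver f F x
      letI := FlatMod.moduleStalkOver (f ≫ g) F x
      letI : Algebra (Z.presheaf.stalk ((f ≫ g) x)) (Y.presheaf.stalk (f x)) :=
        (g.stalkMap (f x)).hom.toAlgebra
      haveI := tower x
      haveI : Module.Flat (Z.presheaf.stalk ((f ≫ g) x)) (Y.presheaf.stalk (f x)) :=
        Flat.stalkMap g (f x)
      haveI : Module.Flat (Y.presheaf.stalk (f x)) (F.presheaf.stalk x) := hFfl x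
      exact Module.Flat.trans (Z.presheaf.stalk ((f ≫ g) x)) (Y.presheaf.stalk (f x))
        (F.presheaf.stalk x)
    · obtain ⟨y, rfl⟩ := hgsurj.surj z
      obtain ⟨x, rfl, hne⟩ := hFff y
      refine ⟨x, rfl, ?_⟩
      letI := FlatMod.moduleStalkOver f F x
      letI := FlatMod.moduleStalkOver (f ≫ g) F x
      letI : Algebra (Z.presheaf.stalk ((f ≫ g) x)) (Y.presheaf.stalk (f x)) :=
        (g.stalkMap (f x)).hom.toAlgebra
      haveI := tower x
      intro htop
      apply hne
      rw [eq_top_iff]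
      intro m _
      have hm : m ∈ IsLocalRing.maximalIdeal (Z.presheaf.stalk ((f ≫ g) x)) •
          (⊤ : Submodule (Z.presheaf.stalk ((f ≫ g) x)) (F.presheaf.stalk x)) := by
        rw [htop]; trivial
      refine Submodule.smul_induction_on hm (fun a ha n _ => ?_) (fun a b ha hb => ?_)
      · rw [← algebraMap_smul (Y.presheaf.stalk (f x)) a n]
        refine Submodule.smul_mem_smul ?_ Submodule.mem_top
        exact map_nonunit (g.stalkMap (f x)).hom a ha
      · exact Submodule.add_mem _ ha hb
  · rintro ⟨h1, h2⟩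
    refine ⟨Flat.of_stalkMap (f := g) fun y => ?_, ⟨fun z => ?_⟩⟩
    · obtain ⟨x, rfl, hne⟩ := hFff y
      letI := FlatMod.moduleStalkOver f F x
      letI := FlatMod.moduleStalkOver (f ≫ g) F x
      letI : Algebra (Z.presheaf.stalk ((f ≫ g) x)) (Y.presheaf.stalk (f x)) :=
        (g.stalkMap (f x)).hom.toAlgebra
      haveI := tower x
      haveI : Module.Flat (Y.presheaf.stalk (f x)) (F.presheaf.stalk x) := hFfl x
      haveI : Module.FaithfullyFlat (Y.presheaf.stalk (f x)) (F.presheaf.stalk x) :=
        Groth.Agent.Lib.Seat22.FFlatDesc.faithfullyFlat_of_flat_of_maximalIdeal_smul_ne_top _ _ hne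
      haveI : Module.Flat (Z.presheaf.stalk ((f ≫ g) x)) (F.presheaf.stalk x) := h1 x
      exact Groth.Agent.Lib.Seat22.FFlatDesc.flat_of_faithfullyFlat_module
        (Z.presheaf.stalk ((f ≫ g) x)) (Y.presheaf.stalk (f x)) (F.presheaf.stalk x)
    · obtain ⟨x, hx, -⟩ := h2 z
      exact ⟨f x, hx⟩

end Groth.Agent.S4681
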