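import Groth.Statements.S4685
import Groth.Agent.Lib.Seat11FibProdAss

set_option autoImplicit false
open CategoryTheory AlgebraicGeometry
universe u
open AssSch

namespace Groth.Agent.S4685

open CategoryTheory.Limits in
/-- Let f : X → S and g : Y → S be morphisms of schemes with X, Y and X ×_S Y locally Noetherian, F a
quasi-coherent O_X-module without embedded associated points, and G a quasi-coherent O_Y-module,
flat over S, whose restriction to every fibre g⁻¹(s) has no embedded associated points. Then F ⊗_S G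
(the tensor product on X ×_S Y of the pull-backs of F and G along the two projections) has no
embedded associated points. (The published statement assumes only X, the fibres of g and the schemes
Spec κ(x) ×_S Spec κ(y) locally Noetherian; this row assumes Y and X ×_S Y locally Noetherian, which
implies all of these, so that associated points are those whose maximal ideal is the annihilator of
an element of the stalk.) -/
theorem result {X Y S : Scheme.{u}} (f : X ⟶ S) (g : Y ⟶ S)
    [IsLocallyNoetherian X] [IsLocallyNoetherian Y] [IsLocallyNoetherian (pullback f g)]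
    (F : X.Modules) (hF : Coh.IsQCoh F) (G : Y.Modules) (hG : Coh.IsQCoh G) (hGfl : FlatMod.IsFlatOver g G)
    (hFne : AssSch.NoEmbedded F)
    (hGne : ∀ s : ↥S, AssSch.NoEmbedded ((Scheme.Modules.pullback (g.fiberι s)).obj G)) :
    AssSch.NoEmbedded (CohB1.tensorMod ((Scheme.Modules.pullback (pullback.fst f g)).obj F) ((Scheme.Modules.pullback (pullback.snd f g)).obj G)) := by
  have : G.IsQuasicoherent := hG
  intro z hz z' hz' hspec
  obtain ⟨t, ht⟩ := Groth.Agent.Lib.Seat11.FibProd.exists_jMap_eq f g z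
  have hz1 : Curv2.IsAssPoint _ _ := hz
  rw [← ht] at hz1
  have h := (Groth.Agent.Lib.Seat11.FibProd.isAssPoint_jMap_iff f g F G hGfl _ _ t).1 hz1
  obtain ⟨t', ht'⟩ := Groth.Agent.Lib.Seat11.FibProd.exists_jMap_eq f g z'
  have hz1' : Curv2.IsAssPoint _ _ := hz'
  rw [← ht'] at hz1'
  have h' := (Groth.Agent.Lib.Seat11.FibProd.isAssPoint_jMap_iff f g F G hGfl _ _ t').1 hz1'
  have hx : Limits.pullback.fst f g z = Limits.pullback.fst f g z' :=
    hFne _ h.1 _ h'.1 (hspec.map (Limits.pullback.fst f g).continuous)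
  obtain ⟨t₂, ht₂⟩ := Groth.Agent.Lib.Seat11.FibProdAss.exists_jMap_eq' f g z'
    (Limits.pullback.fst f g z) (Limits.pullback.snd f g z') hx.symm rfl
  have hz2 : Curv2.IsAssPoint _ _ := hz'
  rw [← ht₂] at hz2
  have h₂ := (Groth.Agent.Lib.Seat11.FibProd.isAssPoint_jMap_iff f g F G hGfl _ _ t₂).1 hz2
  have hy₁ := Groth.Agent.Lib.Seat11.FibProd.fiberι_fibMap_tMap f g _ _ t
  have hy₂ := Groth.Agent.Lib.Seat11.FibProd.fiberι_fibMap_tMap f g _ _ t₂
  have hspecY : g.fiberι _ (Groth.Agent.Lib.Seat11.FibProd.fibMap f g _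
        (Groth.Agent.Lib.Seat11.FibProd.tMap f g _ _ t₂)) ⤳
      g.fiberι _ (Groth.Agent.Lib.Seat11.FibProd.fibMap f g _
        (Groth.Agent.Lib.Seat11.FibProd.tMap f g _ _ t)) := by
    rw [hy₁, hy₂]
    exact hspec.map (Limits.pullback.snd f g).continuous
  have hspec' := (g.fiberι _).isEmbedding.isInducing.specializes_iff.mp hspecY
  have hyy := hGne _ _ h.2.1 _ h₂.2.1 hspec'
  have hy : Limits.pullback.snd f g z = Limits.pullback.snd f g z' := by
    rw [← hy₁, ← hy₂, hyy]
  obtain ⟨t'', ht''⟩ := Groth.Agent.Lib.Seat11.FibProdAss.exists_jMap_eq' f g z' _ _ hx.symm hy.symm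
  have hz3 : Curv2.IsAssPoint _ _ := hz'
  rw [← ht''] at hz3
  have h'' := (Groth.Agent.Lib.Seat11.FibProd.isAssPoint_jMap_iff f g F G hGfl _ _ t'').1 hz3
  have hspec2 : Groth.Agent.Lib.Seat11.FibProd.jMap f g _ _ t'' ⤳
      Groth.Agent.Lib.Seat11.FibProd.jMap f g _ _ t := by
    rw [ht, ht'']
    exact hspec
  have htt := Groth.Agent.Lib.Seat11.FibProdAss.eq_of_specializes_jMap f g _ _ t t'' h.2.2
    h''.2.2 hspec2
  calc z = _ := ht.symm
    _ = _ := by rw [htt]
    _ = z' := ht''

end Groth.Agent.S4685
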