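import Groth.Statements.S4732
import Groth.Agent.Lib.Seat94RegularImm

set_option autoImplicit false
universe u
open EGA4

namespace Groth.Agent.S4732

open AlgebraicGeometry CategoryTheory in
/-- Let k be a field, X a scheme locally of finite type over k and x a point of X. Then there are an
open neighbourhood U of x, a k-scheme Y all of whose local rings are regular, and an immersion U → Y
compatible with the structure morphisms to Spec k. -/
theorem result (k : Type u) [Field k] {X : Scheme.{u}}
    (f : X ⟶ Spec (CommRingCat.of k)) [LocallyOfFiniteType f] (x : X) :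
    ∃ (U : X.Opens) (_ : x ∈ U) (Y : Scheme.{u}) (g : Y ⟶ Spec (CommRingCat.of k)) (i : (U : Scheme.{u}) ⟶ Y),
      IsImmersion i ∧ i ≫ g = U.ι ≫ f ∧ ∀ y : Y, IsRegularLocalRing (Y.presheaf.stalk y) := by
  obtain ⟨_, ⟨U, hU, rfl⟩, hxU, -⟩ :=
    X.isBasis_affineOpens.exists_subset_of_mem_open (Set.mem_univ x) isOpen_univ
  have : IsAffine (Scheme.Opens.toScheme U) := hU
  obtain ⟨n, i, hi, hcomp⟩ := Groth.Agent.Lib.Seat94.RegularImm.exists_factor_affine k
    (Scheme.Opens.ι U ≫ f)
  refine ⟨U, hxU, Spec (CommRingCat.of (MvPolynomial (Fin n) k)), _, i, hi, hcomp, fun y => ?_⟩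
  have : IsRegularRing (CommRingCat.of (MvPolynomial (Fin n) k)) :=
    inferInstanceAs (IsRegularRing (MvPolynomial (Fin n) k))
  exact Groth.Agent.Lib.Seat94.RegularImm.isRegularLocalRing_stalk_Spec _ y

end Groth.Agent.S4732
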