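import Groth.Statements.S4734
import Groth.Agent.Lib.Seat14NFlatSk

set_option autoImplicit false
universe u
open EGA4

namespace Groth.Agent.S4734

/-- Let A be a Noetherian ring, I a nilpotent ideal of A and M a finite A-module whose support is all of
Spec A and which is normally flat along I. Then for every prime p of A: M satisfies Serre's
condition (S_n) at p if and only if the A-module A/I does; and the codepth of M_p is at most n if
and only if the codepth of the A_p-module (A/I)_p is at most n (codepth written additively as dim ≤
depth + n). -/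
theorem result (n : ℕ) (A : Type u) [CommRing A] [IsNoetherianRing A]
    (I : Ideal A) (hI : IsNilpotent I) (M : Type u) [AddCommGroup M] [Module A M] [Module.Finite A M]
    (hsupp : Module.support A M = Set.univ) (hM : EGA4.IsNormallyFlat I M) (p : Ideal A) [p.IsPrime] :
    (EGA4.HasSkAt n A M p ↔ EGA4.HasSkAt n A (A ⧸ I) p) ∧
      (Module.supportDim (Localization.AtPrime p) (LocalizedModule p.primeCompl M) ≤
          ((LocCoh.depth (Localization.AtPrime p) (LocalizedModule p.primeCompl M) : ℕ∞) : WithBot ℕ∞) + n ↔
        Module.supportDim (Localization.AtPrime p) (LocalizedModule p.primeCompl (A ⧸ I)) ≤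
          ((LocCoh.depth (Localization.AtPrime p) (LocalizedModule p.primeCompl (A ⧸ I)) : ℕ∞) : WithBot ℕ∞) + n) := by
  have hsN : Module.support A (A ⧸ I) = Set.univ := by
    rw [Module.support_of_algebra, Ideal.Quotient.algebraMap_eq, Ideal.mk_ker,
      Set.eq_univ_iff_forall]
    intro q
    rw [PrimeSpectrum.mem_zeroLocus]
    obtain ⟨k, hk⟩ := hI
    have h1 : I ^ k ≤ q.asIdeal := by
      rw [hk]
      exact bot_le
    exact Ideal.IsPrime.le_of_pow_le h1
  exact Groth.Agent.Lib.Seat14.NFlatSk.hasSkAt_iff_and_codepth n I hI M (A ⧸ I)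
    hsupp hsN hM (Groth.Agent.Lib.Seat14.NFlatLoc.isNormallyFlat_quotient_self I) p

end Groth.Agent.S4734
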