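import Groth.Statements.S4796
import Mathlib
import Groth.Agent.Lib.Seat15ExactDesc

set_option autoImplicit false
universe u
open TensorProduct
open Cons9

namespace Groth.Agent.S4796

/-- Let R be a commutative ring, B an R-algebra of finite presentation, F, G, H three B-modules of
finite presentation and u : F → G, v : G → H homomorphisms of B-modules. Then the set of prime
ideals p of R for which the sequence of fibres κ(p) ⊗_R F → κ(p) ⊗_R G → κ(p) ⊗_R H is exact is a
constructible subset of Spec R. Affine form: S = Spec R, X = Spec B with B a finitely presented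
R-algebra, the modules finitely presented B-modules, and the fibre of a module M at a prime p taken
as κ(p) ⊗_R M; the published statement, for a morphism of finite presentation and quasi-coherent
modules of finite presentation, is local on S and on X and reduces to this one. -/
theorem result {R B : Type u} [CommRing R] [CommRing B] [Algebra R B] [Algebra.FinitePresentation R B]
    {F G H : Type u} [AddCommGroup F] [Module B F] [Module R F] [IsScalarTower R B F] [Module.FinitePresentation B F]
    [AddCommGroup G] [Module B G] [Module R G] [IsScalarTower R B G] [Module.FinitePresentation B G]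
    [AddCommGroup H] [Module B H] [Module R H] [IsScalarTower R B H] [Module.FinitePresentation B H]
    (u : F →ₗ[B] G) (v : G →ₗ[B] H) :
    Topology.IsConstructible {p : PrimeSpectrum R |
      Function.Exact ((u.restrictScalars R).baseChange p.asIdeal.ResidueField) ((v.restrictScalars R).baseChange p.asIdeal.ResidueField)} := by
  classical
  obtain ⟨a, πF, hπF⟩ := Module.Finite.exists_fin' B F
  obtain ⟨b, b', πG, gG, hπG, hexG⟩ := Module.FinitePresentation.exists_fin' B G
  obtain ⟨c, c', πH, gH, hπH, hexH⟩ := Module.FinitePresentation.exists_fin' B H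
  obtain ⟨U₀, hU₀⟩ := Module.projective_lifting_property πG (u ∘ₗ πF) hπG
  obtain ⟨V₀, hV₀⟩ := Module.projective_lifting_property πH (v ∘ₗ πG) hπH
  have hmat : ∀ {m n : ℕ} (g : (Fin m → B) →ₗ[B] (Fin n → B)),
      (LinearMap.toMatrixRight' g).vecMulLinear = g := fun g =>
    LinearMap.toMatrixRight'.symm_apply_apply g
  have hMG : LinearMap.ker πG = LinearMap.range (LinearMap.toMatrixRight' gG).vecMulLinear := by
    rw [hmat gG]
    exact LinearMap.exact_iff.mp hexG
  have hMH : LinearMap.ker πH = LinearMap.range (LinearMap.toMatrixRight' gH).vecMulLinear := by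
    rw [hmat gH]
    exact LinearMap.exact_iff.mp hexH
  have hU : ∀ x, πG (Matrix.vecMul x (LinearMap.toMatrixRight' U₀)) = u (πF x) := by
    intro x
    have h1 : Matrix.vecMul x (LinearMap.toMatrixRight' U₀) = U₀ x := LinearMap.congr_fun (hmat U₀) x
    rw [h1]
    exact LinearMap.congr_fun hU₀ x
  have hV : ∀ y, πH (Matrix.vecMul y (LinearMap.toMatrixRight' V₀)) = v (πG y) := by
    intro y
    have h1 : Matrix.vecMul y (LinearMap.toMatrixRight' V₀) = V₀ y := LinearMap.congr_fun (hmat V₀) y
    rw [h1]
    exact LinearMap.congr_fun hV₀ y
  have hset : {p : PrimeSpectrum R |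
      Function.Exact ((u.restrictScalars R).baseChange p.asIdeal.ResidueField)
        ((v.restrictScalars R).baseChange p.asIdeal.ResidueField)} =
      Groth.Agent.Lib.Seat15.ExactLocus.locus R
        (Matrix.fromRows (LinearMap.toMatrixRight' U₀) (LinearMap.toMatrixRight' gG))
        (LinearMap.toMatrixRight' V₀) (LinearMap.toMatrixRight' gH) := by
    ext p
    exact Groth.Agent.Lib.Seat15.ExactMat.exactAt_iff_mExactAt u v πF hπF πG hπG _ hMG πH hπH _ hMH
      _ hU _ hV p.asIdeal.ResidueField
  rw [hset]
  exact Groth.Agent.Lib.Seat15.ExactDesc.isConstructible_locus_of_finitePresentation R B _ _ _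

end Groth.Agent.S4796
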