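import Groth.Statements.S4810
import Groth.Agent.Lib.Seat85NormInNormal
import Groth.Agent.Lib.Seat85FunFieldAlg
import Groth.Agent.Lib.Helper4FEtNormal
import Groth.Agent.Lib.Helper4NormCurve
import Groth.Agent.S4809

set_option autoImplicit false
universe u
open CategoryTheory AlgebraicGeometry
open Lim8

namespace Groth.Agent.S4810

open Groth.Agent.Lib.Helper4.NormCurve in
/-- Transported form of `stalkClosedPointTo_toNormalization`: for an integral field extension the
local ring of the normalization at the image of `Spec K` is `K`. -/
theorem bijective_stalkClosedPointTo_toNormalization_of_eq {Y : Scheme.{u}} [IsIntegral Y]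
    (K : Type u) [Field K] (φ : Y.functionField →+* K) (hφ : φ.IsIntegral)
    (g : Spec (CommRingCat.of K) ⟶ Y) (hg : g = gen Y K φ) [QuasiCompact g] [QuasiSeparated g] :
    Function.Bijective (Scheme.stalkClosedPointTo g.toNormalization).hom := by
  subst hg
  obtain ⟨h1, h2⟩ := stalkClosedPointTo_toNormalization K φ
  refine ⟨h1, fun y => ?_⟩
  have : y ∈ Set.range (Scheme.stalkClosedPointTo (gen Y K φ).toNormalization).hom := by
    rw [h2]
    exact hφ y
  exact this

/-- Normality passes to open subschemes. -/
theorem isNormalScheme_of_isOpenImmersion {U X : Scheme.{u}} (j : U ⟶ X) [IsOpenImmersion j]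
    (hX : Pi1.IsNormalScheme X) : Pi1.IsNormalScheme U := by
  intro u
  let e : X.presheaf.stalk (j u) ≃+* U.presheaf.stalk u :=
    (asIso (j.stalkMap u)).commRingCatIsoToRingEquiv
  obtain ⟨h1, h2⟩ := hX (j u)
  exact ⟨e.symm.toMulEquiv.isDomain, IsIntegrallyClosed.of_equiv e⟩

theorem bijective_stalkClosedPointTo_congr {R : CommRingCat.{u}} [IsLocalRing R] {Z : Scheme.{u}}
    {a b : Spec R ⟶ Z} (h : a = b)
    (ha : Function.Bijective (Scheme.stalkClosedPointTo a).hom) :
    Function.Bijective (Scheme.stalkClosedPointTo b).hom := by
  subst h; exact ha


/-- Let Y be an integral scheme, X an integral normal scheme (every local ring integrally closed) and f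
: X ⟶ Y a dominant locally quasi-finite morphism (locally of finite type with discrete fibres). Let
Y' be the relative normalization of Y in X (here the normalization of Y in the function field of X)
and f' : X ⟶ Y' the canonical morphism, so that f is f' followed by the canonical morphism Y' ⟶ Y.
Then f' is a local isomorphism, and f' is an open immersion if and only if f is separated. (The
published statement assumes f only locally quasi-finite; this row takes f moreover quasi-compact and
quasi-separated, the setting in which the relative normalization is built chart by chart from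
integral closures.) -/
theorem result {X Y : Scheme.{u}} [IsIntegral X] [IsIntegral Y]
    (hN : ∀ x : X, IsIntegrallyClosed (X.presheaf.stalk x)) (f : X ⟶ Y) [IsDominant f]
    [LocallyQuasiFinite f] [LocallyOfFiniteType f] [QuasiCompact f] [QuasiSeparated f] :
    IsLocalIso f.toNormalization ∧ (IsOpenImmersion f.toNormalization ↔ IsSeparated f) := by
  have hXn : Pi1.IsNormalScheme X := fun x => ⟨inferInstance, hN x⟩
  have hgen : f (genericPoint X) = genericPoint Y :=
    Groth.Agent.Lib.Helper4.NormCurve.apply_genericPoint_of_isDominant f
  set φ : Y.functionField →+* X.functionField :=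
    (Groth.Agent.Lib.Seat85.FunFieldAlg.funFieldMap f hgen).hom with hφdef
  have hφ : φ.IsIntegral := Groth.Agent.Lib.Seat85.FunFieldAlg.funFieldMap_isIntegral f hgen
  -- the key statement, for an abstract `j`
  have key : ∀ (j : Spec (CommRingCat.of X.functionField) ⟶ Y)
      (_ : j = (X.fromSpecStalk (genericPoint X) ≫ f.toNormalization) ≫ f.fromNormalization)
      (_ : j = Groth.Agent.Lib.Helper4.NormCurve.gen Y X.functionField φ)
      [QuasiCompact j] [QuasiSeparated j],
      Pi1.IsNormalScheme f.normalization ∧
        Function.Bijective (Scheme.stalkClosedPointTo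
          (X.fromSpecStalk (genericPoint X) ≫ f.toNormalization)).hom := by
    intro j hj1 hj2 _ _
    have hNj : Pi1.IsNormalScheme j.normalization :=
      Groth.Agent.Lib.Helper4.NormCurve.isNormalScheme_normalization_of_eq
        X.functionField φ j hj2
    have hbij := bijective_stalkClosedPointTo_toNormalization_of_eq X.functionField φ hφ j hj2
    subst hj1
    have hiso := Groth.Agent.Lib.Helper4.FEtNormal.isIso_desc
      (X.fromSpecStalk (genericPoint X) ≫ f.toNormalization) f.fromNormalization
      (fun U hU => Groth.Agent.Lib.Seat85.NormInNormal.sections_closed f hN U hU)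
    set d := ((X.fromSpecStalk (genericPoint X) ≫ f.toNormalization) ≫
      f.fromNormalization).normalizationDesc
        (X.fromSpecStalk (genericPoint X) ≫ f.toNormalization) f.fromNormalization rfl with hd
    refine ⟨isNormalScheme_of_isOpenImmersion (inv d) hNj, ?_⟩
    have hτd : ((X.fromSpecStalk (genericPoint X) ≫ f.toNormalization) ≫
        f.fromNormalization).toNormalization ≫ d =
        X.fromSpecStalk (genericPoint X) ≫ f.toNormalization :=
      Scheme.Hom.toNormalization_normalizationDesc _ _ _ _
    refine bijective_stalkClosedPointTo_congr hτd ?_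
    rw [Scheme.stalkClosedPointTo_comp]
    exact hbij.comp (ConcreteCategory.bijective_of_isIso (d.stalkMap _))
  -- `j` is `gen`
  have hj2 : (X.fromSpecStalk (genericPoint X) ≫ f.toNormalization) ≫ f.fromNormalization =
      Groth.Agent.Lib.Helper4.NormCurve.gen Y X.functionField φ := by
    rw [Category.assoc, Scheme.Hom.toNormalization_fromNormalization]
    have hsp : f (genericPoint X) ⤳ genericPoint Y := (Inseparable.of_eq hgen).specializes
    rw [Groth.Agent.Lib.Helper4.NormCurve.gen, ← Scheme.SpecMap_stalkMap_fromSpecStalk,
      ← Scheme.SpecMap_stalkSpecializes_fromSpecStalk hsp, ← Spec.map_comp_assoc]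
    rfl
  obtain ⟨hYn', hbij⟩ := key _ rfl hj2
  -- birationality of `τ`
  have h1 : Function.Bijective (f.toNormalization.stalkMap
      (X.fromSpecStalk (genericPoint X) (IsLocalRing.closedPoint _))).hom := by
    rw [Scheme.stalkClosedPointTo_comp] at hbij
    have h2 : Function.Bijective
        (Scheme.stalkClosedPointTo (X.fromSpecStalk (genericPoint X))).hom := by
      rw [Scheme.stalkClosedPointTo_fromSpecStalk]
      exact ConcreteCategory.bijective_of_isIso _
    exact (Function.Bijective.of_comp_iff' h2 _).mp hbij
  have key2 : ∀ x, x = X.fromSpecStalk (genericPoint X) (IsLocalRing.closedPoint _) →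
      IsIso (f.toNormalization.stalkMap x) := by
    rintro x rfl
    rw [ConcreteCategory.isIso_iff_bijective]
    exact h1
  have hbir : IsIso (f.toNormalization.stalkMap (genericPoint X)) :=
    key2 _ Scheme.fromSpecStalk_closedPoint.symm
  have hgen' : f.toNormalization (genericPoint X) = genericPoint f.normalization :=
    Groth.Agent.Lib.Helper4.NormCurve.apply_genericPoint_of_isDominant f.toNormalization
  have hlqf : LocallyQuasiFinite f.toNormalization := by
    have : LocallyQuasiFinite (f.toNormalization ≫ f.fromNormalization) := by
      rw [Scheme.Hom.toNormalization_fromNormalization]; infer_instance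
    exact LocallyQuasiFinite.of_comp f.toNormalization f.fromNormalization
  have hlft : LocallyOfFiniteType f.toNormalization := by
    have : LocallyOfFiniteType (f.toNormalization ≫ f.fromNormalization) := by
      rw [Scheme.Hom.toNormalization_fromNormalization]; infer_instance
    exact locallyOfFiniteType_of_comp f.toNormalization f.fromNormalization
  obtain ⟨hloc, hopen⟩ := Groth.Agent.S4809.result (fun y => (hYn' y).2) f.toNormalization
    hgen' hbir
  refine ⟨hloc, ?_, ?_⟩
  · intro _
    rw [← f.toNormalization_fromNormalization]
    infer_instance
  · intro hsep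
    apply hopen
    have : IsSeparated (f.toNormalization ≫ f.fromNormalization) := by
      rw [Scheme.Hom.toNormalization_fromNormalization]; exact hsep
    exact IsSeparated.of_comp f.toNormalization f.fromNormalization

end Groth.Agent.S4810
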