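import Groth.Statements.S4823
import Groth.Agent.Lib.Seat15PbSec
import Groth.Agent.Lib.Helper2PairCons2
import Groth.Agent.Lib.Helper22LimBC
import Groth.Agent.Lib.Helper18Strict6
import Groth.Agent.S4790

set_option autoImplicit false
open CategoryTheory AlgebraicGeometry
universe u
open Cons9

namespace Groth.Agent.S4823

open CategoryTheory.Limits in
/-- Let k be a field, Ω an algebraically closed extension field of k, X a scheme of finite type over k
and F, G two coherent O_X-modules (quasi-coherent of finite presentation). If the pullbacks of F and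
G to X ⊗_k Ω are isomorphic, then there is a finite extension k' of k such that the pullbacks of F
and G to X ⊗_k k' are already isomorphic (base changes are the chosen fibre products with Spec of
the extension, and the modules are pulled back along the first projection). -/
theorem result {k : Type u} [Field k] {X : Scheme.{u}}
    (p : X ⟶ Spec (CommRingCat.of k)) [LocallyOfFiniteType p] [QuasiCompact p]
    (F G : X.Modules) [Coh.IsQCoh F] [Coh.IsQCoh G] (hF : CohB1.IsFP F) (hG : CohB1.IsFP G)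
    (Ω : Type u) [Field Ω] [Algebra k Ω] [IsAlgClosed Ω]
    (e : (Scheme.Modules.pullback (pullback.fst p (Spec.map (CommRingCat.ofHom (algebraMap k Ω))))).obj F ≅
      (Scheme.Modules.pullback (pullback.fst p (Spec.map (CommRingCat.ofHom (algebraMap k Ω))))).obj G) :
    ∃ (k' : Type u) (_ : Field k') (_ : Algebra k k') (_ : Module.Finite k k'),
      Nonempty ((Scheme.Modules.pullback (pullback.fst p (Spec.map (CommRingCat.ofHom (algebraMap k k'))))).obj F ≅
        (Scheme.Modules.pullback (pullback.fst p (Spec.map (CommRingCat.ofHom (algebraMap k k'))))).obj G) := by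
  classical
  let D := Groth.Agent.Lib.Helper2.PairCons2.specDiagram k Ω
  let c : Limits.Cone D := Groth.Agent.Lib.Helper2.PairCons2.specCone k Ω
  have hc : Limits.IsLimit c := Groth.Agent.Lib.Helper2.PairCons2.specIsLimit k Ω
  let τ : ∀ j, D.obj j ⟶ Spec (CommRingCat.of k) := fun j =>
    Groth.Agent.Lib.Helper2.PairCons2.toBase k Ω j
  let t : Spec (CommRingCat.of Ω) ⟶ Spec (CommRingCat.of k) :=
    Spec.map (CommRingCat.ofHom (algebraMap k Ω))
  let πc : ∀ j, Spec (CommRingCat.of Ω) ⟶ D.obj j := fun j => c.π.app j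
  have hτ : ∀ j, πc j ≫ τ j = t := fun j =>
    Groth.Agent.Lib.Helper2.PairCons2.π_toBase k Ω j
  have hτmap : ∀ {i j} (f : i ⟶ j), D.map f ≫ τ j = τ i := fun f =>
    Groth.Agent.Lib.Helper2.PairCons2.map_toBase k Ω f
  let i₀ : (Groth.Agent.Lib.Helper2.PairCons2.FGSub k Ω)ᵒᵖ := Opposite.op ⟨⊥, Subalgebra.fg_bot⟩
  let xi : pullback p (τ i₀) ⟶ D.obj i₀ := pullback.snd p (τ i₀)
  let qX : pullback p t ⟶ pullback p (τ i₀) :=
    pullback.lift (pullback.fst p t) (pullback.snd p t ≫ πc i₀)
      (by rw [pullback.condition, Category.assoc, hτ])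
  have hX0' : IsPullback qX (pullback.snd p t) xi (πc i₀) := by
    refine IsPullback.of_right ?_ (pullback.lift_snd _ _ _) (IsPullback.of_hasPullback p (τ i₀))
    rw [pullback.lift_fst, hτ]
    exact IsPullback.of_hasPullback p t
  have hX0 : IsPullback qX (pullback.snd p t) xi (c.π.app i₀) := hX0'
  -- the stage `i₀` is Noetherian, so `X₀` is qcqs
  haveI : Algebra.FiniteType k (⊥ : Subalgebra k Ω) :=
    (Subalgebra.fg_iff_finiteType _).mp Subalgebra.fg_bot
  haveI : IsNoetherianRing (⊥ : Subalgebra k Ω) := Algebra.FiniteType.isNoetherianRing k _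
  haveI : IsLocallyNoetherian (D.obj i₀) :=
    show IsLocallyNoetherian (Spec (CommRingCat.of (⊥ : Subalgebra k Ω))) from inferInstance
  haveI : LocallyOfFiniteType xi :=
    MorphismProperty.of_isPullback (P := @LocallyOfFiniteType)
      (IsPullback.of_hasPullback p (τ i₀)) inferInstance
  haveI : QuasiCompact xi :=
    MorphismProperty.of_isPullback (P := @QuasiCompact)
      (IsPullback.of_hasPullback p (τ i₀)) inferInstance
  haveI : IsLocallyNoetherian (pullback p (τ i₀)) := LocallyOfFiniteType.isLocallyNoetherian xi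
  haveI : CompactSpace ↥(pullback p (τ i₀)) := QuasiCompact.compactSpace_of_compactSpace xi
  haveI : ∀ {i j : (Groth.Agent.Lib.Helper2.PairCons2.FGSub k Ω)ᵒᵖ} (f : i ⟶ j),
      IsAffineHom (D.map f) := fun f => inferInstance
  let BD := Groth.Agent.Lib.Helper22.LimBC.bcDiagram D i₀ xi
  haveI : ∀ (j j' : Over i₀) (f : j ⟶ j'), IsAffineHom (BD.map f) := fun j j' f => inferInstance
  let j₀ : Over i₀ := Over.mk (𝟙 i₀)
  let r₀ : BD.obj j₀ ⟶ X :=
    Groth.Agent.Lib.Helper22.LimBC.dFst D i₀ xi j₀ ≫ pullback.fst p (τ i₀)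
  have hr₀ : (Groth.Agent.Lib.Helper22.LimBC.bcCone (c := c) i₀ hX0).π.app j₀ ≫ r₀ = pullback.fst p t := by
    have h1 := Groth.Agent.Lib.Helper22.LimBC.bcπ_fst (c := c) i₀ hX0 j₀
    exact (Category.assoc _ _ _).symm.trans
      ((congrArg (fun z => z ≫ pullback.fst p (τ i₀)) h1).trans (pullback.lift_fst _ _ _))
  -- the isomorphism at the limit
  have e' : Nonempty
      ((Scheme.Modules.pullback ((Groth.Agent.Lib.Helper22.LimBC.bcCone (c := c) i₀ hX0).π.app j₀)).obj
          ((Scheme.Modules.pullback r₀).obj F) ≅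
        (Scheme.Modules.pullback ((Groth.Agent.Lib.Helper22.LimBC.bcCone (c := c) i₀ hX0).π.app j₀)).obj
          ((Scheme.Modules.pullback r₀).obj G)) :=
    ⟨(Groth.Agent.Lib.Seat15.PbSec.can _ r₀ _ hr₀).app F ≪≫ e ≪≫
      ((Groth.Agent.Lib.Seat15.PbSec.can _ r₀ _ hr₀).app G).symm⟩
  obtain ⟨j, φ, ⟨ej⟩⟩ :=
    (@Groth.Agent.S4790.result _ _ _ BD (Groth.Agent.Lib.Helper22.LimBC.bcCone (c := c) i₀ hX0)
      (Groth.Agent.Lib.Helper22.LimBC.isLimitBcCone (c := c) i₀ hX0 hc) _ j₀ inferInstance inferInstance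
      ((Scheme.Modules.pullback r₀).obj F) ((Scheme.Modules.pullback r₀).obj G) inferInstance
      (Groth.Agent.Helper18Strict.isFP_pullback r₀ F hF) inferInstance
      (Groth.Agent.Helper18Strict.isFP_pullback r₀ G hG)).mp e'
  -- a closed point of the stage
  let A : Subalgebra k Ω := j.left.unop.1
  have hAfg : A.FG := j.left.unop.2
  obtain ⟨m, hm⟩ := Ideal.exists_maximal A
  letI := Ideal.Quotient.field m
  haveI : Algebra.FiniteType k A := (Subalgebra.fg_iff_finiteType A).mp hAfg
  haveI : Algebra.FiniteType k (A ⧸ m) :=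
    Algebra.FiniteType.of_surjective (Ideal.Quotient.mkₐ k m) (Ideal.Quotient.mkₐ_surjective k m)
  haveI : Module.Finite k (A ⧸ m) := finite_of_finite_type_of_isJacobsonRing k (A ⧸ m)
  refine ⟨A ⧸ m, inferInstance, inferInstance, inferInstance, ?_⟩
  let s : Spec (CommRingCat.of (A ⧸ m)) ⟶ D.obj j.left :=
    Spec.map (CommRingCat.ofHom (Ideal.Quotient.mk m))
  let t' : Spec (CommRingCat.of (A ⧸ m)) ⟶ Spec (CommRingCat.of k) :=
    Spec.map (CommRingCat.ofHom (algebraMap k (A ⧸ m)))
  have hst : s ≫ τ j.left = t' := by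
    have h1 : (Spec.map (CommRingCat.ofHom (Ideal.Quotient.mk m)) :
        Spec (CommRingCat.of (A ⧸ m)) ⟶ Spec (CommRingCat.of A)) ≫
        Spec.map (CommRingCat.ofHom (algebraMap k A)) =
        Spec.map (CommRingCat.ofHom (algebraMap k (A ⧸ m))) := by
      rw [← Spec.map_comp]
      rfl
    exact h1
  let a : pullback p t' ⟶ pullback p (τ i₀) :=
    pullback.lift (pullback.fst p t') (pullback.snd p t' ≫ s ≫ D.map j.hom)
      (by rw [pullback.condition, Category.assoc, Category.assoc, hτmap, hst])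
  let w : pullback p t' ⟶ BD.obj j :=
    Groth.Agent.Lib.Helper22.LimBC.dLift j a (pullback.snd p t' ≫ s)
      (by
        show a ≫ pullback.snd p (τ i₀) = _
        rw [pullback.lift_snd, Category.assoc])
  have hw : w ≫ BD.map φ ≫ r₀ = pullback.fst p t' := by
    show w ≫ BD.map φ ≫ Groth.Agent.Lib.Helper22.LimBC.dFst D i₀ xi j₀ ≫ pullback.fst p (τ i₀) = _
    rw [Groth.Agent.Lib.Helper22.LimBC.map_dFst_assoc,
      Groth.Agent.Lib.Helper22.LimBC.dLift_fst_assoc]
    exact pullback.lift_fst _ _ _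
  have hcan : ∀ H : X.Modules,
      (Scheme.Modules.pullback w).obj ((Scheme.Modules.pullback (BD.map φ)).obj
        ((Scheme.Modules.pullback r₀).obj H)) ≅ (Scheme.Modules.pullback (pullback.fst p t')).obj H :=
    fun H => (Scheme.Modules.pullback w).mapIso
        ((Groth.Agent.Lib.Seat15.PbSec.can (BD.map φ) r₀ _ rfl).app H) ≪≫
      (Groth.Agent.Lib.Seat15.PbSec.can w (BD.map φ ≫ r₀) _ hw).app H
  exact ⟨(hcan F).symm ≪≫ (Scheme.Modules.pullback w).mapIso ej ≪≫ hcan G⟩

end Groth.Agent.S4823
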