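import Groth.Statements.S4824
import Groth.Agent.Lib.Helper14GeomIrr
import Mathlib

set_option autoImplicit false
set_option linter.style.haveILetI false
open CategoryTheory AlgebraicGeometry
universe u
open Cons9

namespace Groth.Agent.S4824

open TensorProduct

section Alg

variable {k : Type u} [Field k] {σ : Type} (K : Type u) [Field K] [Algebra k K]

/-- `(k[T]/(F)) ⊗_k K ≅ K[T]/(F_K)` -/
noncomputable def tensorQuotEquiv (F : MvPolynomial σ k) :
    ((MvPolynomial σ k ⧸ Ideal.span ({F} : Set (MvPolynomial σ k))) ⊗[k] K) ≃+*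
      (MvPolynomial σ K ⧸ Ideal.span ({MvPolynomial.map (algebraMap k K) F} :
        Set (MvPolynomial σ K))) :=
  ((Algebra.TensorProduct.comm k (MvPolynomial σ k ⧸ Ideal.span ({F} : Set (MvPolynomial σ k)))
      K).toRingEquiv.trans
    (Algebra.TensorProduct.tensorQuotientEquiv K (MvPolynomial σ k) K
      (Ideal.span ({F} : Set (MvPolynomial σ k)))).toRingEquiv).trans
    (Ideal.quotientEquiv _ _ (MvPolynomial.algebraTensorAlgEquiv k K).toRingEquiv (by
      rw [Ideal.map_span, Set.image_singleton, Ideal.map_span, Set.image_singleton]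
      congr 2
      simp [MvPolynomial.algebraTensorAlgEquiv_tmul]))

end Alg

section Irr

variable {σ : Type}

theorem isDomain_quot_iff {K : Type u} [Field K] (G : MvPolynomial σ K) (hG : G ≠ 0) :
    IsDomain (MvPolynomial σ K ⧸ Ideal.span ({G} : Set (MvPolynomial σ K))) ↔ Irreducible G := by
  rw [Ideal.Quotient.isDomain_iff_prime, Ideal.span_singleton_prime hG,
    UniqueFactorizationMonoid.irreducible_iff_prime]

theorem isUnit_of_isUnit_map {K L : Type u} [Field K] [Field L] (φ : K →+* L)
    (a : MvPolynomial σ K) (h : IsUnit (MvPolynomial.map φ a)) : IsUnit a := by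
  rw [MvPolynomial.isUnit_iff] at h ⊢
  obtain ⟨h0, h1⟩ := h
  refine ⟨?_, fun i hi => ?_⟩
  · rw [MvPolynomial.coeff_map] at h0
    rw [isUnit_iff_ne_zero]
    intro hc
    rw [hc, map_zero] at h0
    exact not_isUnit_zero h0
  · have := h1 i hi
    rw [MvPolynomial.coeff_map, isNilpotent_iff_eq_zero, map_eq_zero] at this
    rw [this]
    exact IsNilpotent.zero

theorem irreducible_of_map {K L : Type u} [Field K] [Field L] (φ : K →+* L)
    (G : MvPolynomial σ K) (h : Irreducible (MvPolynomial.map φ G)) : Irreducible G := by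
  refine ⟨fun hu => h.not_isUnit (hu.map _), fun a b hab => ?_⟩
  have h2 : MvPolynomial.map φ G = MvPolynomial.map φ a * MvPolynomial.map φ b := by
    rw [hab, map_mul]
  rcases h.isUnit_or_isUnit h2 with h3 | h3
  · exact Or.inl (isUnit_of_isUnit_map φ a h3)
  · exact Or.inr (isUnit_of_isUnit_map φ b h3)

end Irr

section Key

variable {σ : Type}

theorem irreducible_map_of_algClosed {k : Type u} [Field k] (Ω : Type u) [Field Ω] [Algebra k Ω]
    [IsAlgClosed Ω] (K : Type u) [Field K] [Algebra k K] (F : MvPolynomial σ k) (hF : F ≠ 0)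
    (h : Irreducible (MvPolynomial.map (algebraMap k Ω) F)) :
    Irreducible (MvPolynomial.map (algebraMap k K) F) := by
  haveI : Nontrivial (K ⊗[k] Ω) :=
    (Algebra.TensorProduct.includeLeft_injective (R := k) (S := k) (A := K) (B := Ω)
      (algebraMap k Ω).injective).nontrivial
  obtain ⟨m, hm⟩ := Ideal.exists_maximal (K ⊗[k] Ω)
  letI : Field ((K ⊗[k] Ω) ⧸ m) := Ideal.Quotient.field m
  let φK : K →+* (K ⊗[k] Ω) ⧸ m :=
    (Ideal.Quotient.mk m).comp (Algebra.TensorProduct.includeLeftRingHom)
  let φΩ : Ω →+* (K ⊗[k] Ω) ⧸ m :=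
    (Ideal.Quotient.mk m).comp (Algebra.TensorProduct.includeRight (R := k) (A := K) (B := Ω)).toRingHom
  have hcomp : φK.comp (algebraMap k K) = φΩ.comp (algebraMap k Ω) := by
    ext a
    simp only [φK, φΩ, RingHom.comp_apply, Algebra.TensorProduct.includeLeftRingHom_apply,
      AlgHom.toRingHom_eq_coe, RingHom.coe_coe, Algebra.TensorProduct.includeRight_apply]
    congr 1
    rw [Algebra.algebraMap_eq_smul_one, Algebra.algebraMap_eq_smul_one, TensorProduct.smul_tmul]
  letI : Algebra Ω ((K ⊗[k] Ω) ⧸ m) := φΩ.toAlgebra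
  have hFΩ : MvPolynomial.map (algebraMap k Ω) F ≠ 0 := by
    intro h0
    exact hF (MvPolynomial.map_injective _ (algebraMap k Ω).injective (by rw [h0, map_zero]))
  haveI hD : IsDomain (MvPolynomial σ Ω ⧸ Ideal.span
      ({MvPolynomial.map (algebraMap k Ω) F} : Set (MvPolynomial σ Ω))) :=
    (isDomain_quot_iff _ hFΩ).mpr h
  haveI hDL := Groth.Agent.Lib.Helper14.GeomIrr.isDomain_tensor_of_isAlgClosed (k := Ω)
    (MvPolynomial σ Ω ⧸ Ideal.span
      ({MvPolynomial.map (algebraMap k Ω) F} : Set (MvPolynomial σ Ω))) ((K ⊗[k] Ω) ⧸ m)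
  have hdom : IsDomain (MvPolynomial σ ((K ⊗[k] Ω) ⧸ m) ⧸ Ideal.span
      ({MvPolynomial.map (algebraMap Ω ((K ⊗[k] Ω) ⧸ m)) (MvPolynomial.map (algebraMap k Ω) F)} :
        Set (MvPolynomial σ ((K ⊗[k] Ω) ⧸ m)))) :=
    Function.Injective.isDomain
      (tensorQuotEquiv ((K ⊗[k] Ω) ⧸ m) (MvPolynomial.map (algebraMap k Ω) F)).symm
      (tensorQuotEquiv ((K ⊗[k] Ω) ⧸ m) (MvPolynomial.map (algebraMap k Ω) F)).symm.injective
  have hne : MvPolynomial.map (algebraMap Ω ((K ⊗[k] Ω) ⧸ m)) (MvPolynomial.map (algebraMap k Ω) F) ≠ 0 := by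
    intro h0
    exact hFΩ (MvPolynomial.map_injective _ (algebraMap Ω ((K ⊗[k] Ω) ⧸ m)).injective
      (by rw [h0, map_zero]))
  have hirr := (isDomain_quot_iff _ hne).mp hdom
  rw [MvPolynomial.map_map, RingHom.algebraMap_toAlgebra, ← hcomp, ← MvPolynomial.map_map] at hirr
  exact irreducible_of_map φK _ hirr

end Key

theorem geomIntegral_iff {k : Type u} [Field k] (R : Type u) [CommRing R] [Algebra k R] :
    GeometricallyIntegral (Spec.map (CommRingCat.ofHom (algebraMap k R))) ↔
      ∀ (K : Type u) [Field K] [Algebra k K], IsDomain (R ⊗[k] K) := by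
  haveI : ObjectProperty.IsClosedUnderIsomorphisms (IsIntegral : ObjectProperty Scheme.{u}) :=
    ⟨fun e h => @IsIntegral.of_isIso _ _ h e.hom _⟩
  rw [geometricallyIntegral_iff, geometrically_iff_of_commRing_of_isClosedUnderIsomorphisms]
  constructor
  · intro H K _ _
    have h1 := H K
    have h2 : IsIntegral (Spec (CommRingCat.of (R ⊗[k] K))) :=
      IsIntegral.of_isIso (pullbackSpecIso k R K).hom
    exact (affine_isIntegral_iff _).mp h2
  · intro H K _ _
    have h1 := H K
    have h2 : IsIntegral (Spec (CommRingCat.of (R ⊗[k] K))) := (affine_isIntegral_iff _).mpr h1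
    exact IsIntegral.of_isIso (pullbackSpecIso k R K).inv


end Groth.Agent.S4824

namespace Groth.Agent.S4824

/-- Let k be a field, Ω an algebraically closed extension of k and F a non-constant polynomial in k[T_1,
…, T_n]. The following are equivalent: (a) the k-scheme Spec(k[T_1, …, T_n]/(F)) is geometrically
integral; (b) for every extension field K of k the image of F in K[T_1, …, T_n] is irreducible; (c)
the image of F in Ω[T_1, …, T_n] is irreducible. (Such an F is called geometrically irreducible.) -/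
theorem result {k : Type u} [Field k] (Ω : Type u) [Field Ω] [Algebra k Ω]
    [IsAlgClosed Ω] {n : ℕ} (F : MvPolynomial (Fin n) k) (hF : 0 < F.totalDegree) :
    List.TFAE [
      GeometricallyIntegral (Spec.map (CommRingCat.ofHom
        (algebraMap k (MvPolynomial (Fin n) k ⧸ Ideal.span ({F} : Set (MvPolynomial (Fin n) k)))))),
      ∀ (K : Type u) [Field K] [Algebra k K], Irreducible (MvPolynomial.map (algebraMap k K) F),
      Irreducible (MvPolynomial.map (algebraMap k Ω) F)] := by
  have hF0 : F ≠ 0 := by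
    rintro rfl
    simp at hF
  have hmap0 : ∀ (K : Type u) [Field K] [Algebra k K],
      MvPolynomial.map (algebraMap k K) F ≠ 0 := by
    intro K _ _ h0
    exact hF0 (MvPolynomial.map_injective _ (algebraMap k K).injective (by rw [h0, map_zero]))
  tfae_have 1 → 2 := by
    intro h K _ _
    have h1 := (geomIntegral_iff _).mp h K
    have h2 : IsDomain (MvPolynomial (Fin n) K ⧸ Ideal.span
        ({MvPolynomial.map (algebraMap k K) F} : Set (MvPolynomial (Fin n) K))) :=
      Function.Injective.isDomain (tensorQuotEquiv K F).symm (tensorQuotEquiv K F).symm.injective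
    exact (isDomain_quot_iff _ (hmap0 K)).mp h2
  tfae_have 2 → 3 := fun h => h Ω
  tfae_have 3 → 1 := by
    intro h
    rw [geomIntegral_iff]
    intro K _ _
    have h1 := irreducible_map_of_algClosed Ω K F hF0 h
    have h2 := (isDomain_quot_iff _ (hmap0 K)).mpr h1
    exact Function.Injective.isDomain (tensorQuotEquiv K F) (tensorQuotEquiv K F).injective
  tfae_finish

end Groth.Agent.S4824
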