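import Groth.Statements.S4870
import Groth.Agent.Lib.Seat35GrFlatB
import Groth.Agent.Lib.Seat35GrFlatG
import Groth.Agent.Lib.Seat35GrFlatH
import Groth.Agent.Lib.Seat35GrFlatI

set_option autoImplicit false
universe u
open EGA43

namespace Groth.Agent.S4870

/-- Let A be a commutative ring, B a finitely presented A-algebra, J a finitely generated ideal of B and
M a finitely presented B-module. If the associated graded module gr_J(M) is flat over A, that is
every J^k M / J^{k+1} M is a flat A-module, then M is flat over A at every point of V(J): for every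
prime ideal q of B containing J, the localization M_q is a flat A-module. -/
theorem result {A B : Type u} [CommRing A] [CommRing B] [Algebra A B]
    [Algebra.FinitePresentation A B] (J : Ideal B) (hJ : J.FG)
    (M : Type u) [AddCommGroup M] [Module B M] [Module A M] [IsScalarTower A B M] [Module.FinitePresentation B M]
    (hgr : ∀ k : ℕ, Module.Flat A
      (↥(J ^ k • (⊤ : Submodule B M)) ⧸ Submodule.comap (J ^ k • (⊤ : Submodule B M)).subtype (J ^ (k + 1) • ⊤)))
    (q : Ideal B) [q.IsPrime] (hq : J ≤ q) :
    Module.Flat A (LocalizedModule q.primeCompl M) := by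
  classical
  have hT := Groth.Agent.Lib.Seat35.GrFlat.flat_quot_pow_of_gr J M hgr
  obtain ⟨n, b, hb⟩ := Submodule.fg_iff_exists_fin_generating_family.mp hJ
  obtain ⟨A₀, _, _, B₀, _, _, _, _, _, _, M₀, _, _, _, _, _, _, f₀, hA₀, hB₀, hM₀fin, hpush, hbc,
    hrange⟩ := Groth.Agent.Lib.Seat35.GrFlatModel.exists_module_model_of_elements A B M b
  choose c hc using hrange
  have hJ₀ : (Ideal.span (Set.range c)).map (algebraMap B₀ B) = J := by
    rw [Ideal.map_span, ← Set.range_comp, ← hb]
    congr 2
    ext j
    exact hc j
  have : IsNoetherianRing A₀ := Algebra.FiniteType.isNoetherianRing ℤ A₀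
  obtain ⟨R, _, _, _, _, _, A', _, _, _, _, _, _, _, hflatA', hloc, hA'⟩ :=
    Groth.Agent.Lib.Seat35.GrFlat.exists_complete_local_cover (A₀ := A₀)
      (q.comap (algebraMap A B))
  refine Groth.Agent.Lib.Seat35.GrFlat.flat_localizedModule_of_model (A₀ := A₀) (R := R) (A' := A')
    f₀ hbc (Ideal.span (Set.range c)) ?_ q ?_ hA'
  · rw [hJ₀]
    exact hT
  · rw [hJ₀]
    exact hq

end Groth.Agent.S4870
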