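import Groth.Statements.S4872
import Mathlib.AlgebraicGeometry.AffineSpace
import Mathlib.AlgebraicGeometry.IdealSheaf.Subscheme
-- import your own Groth.Agent.* helpers here

set_option autoImplicit false
universe u
open CategoryTheory CategoryTheory.Limits AlgebraicGeometry
open EGA43

namespace Groth.Agent.S4872

set_option backward.isDefEq.respectTransparency false in
/-- Conditions b), c), d) (schematically dominant families): let p : X ⟶ S be a morphism and (f_i : Z_i
⟶ X) a family of morphisms. The following are equivalent: b) for every open V of X, a section of O_X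
over V whose images in all the Γ(f_i⁻¹(V), O_{Z_i}) are zero is zero; c) for every open U of X, a
closed immersion j : Y ⟶ U through which each restriction f_i⁻¹(U) ⟶ U factors is an isomorphism; d)
for every separated S-scheme X', every open U of X and every pair of S-morphisms u, v : U ⟶ X'
having the same composite with each f_i⁻¹(U) ⟶ U, one has u = v. -/
theorem result {X S : Scheme.{u}} (p : X ⟶ S) {ι : Type u} (Z : ι → Scheme.{u})
    (f : ∀ i, Z i ⟶ X) :
    [(∀ (V : (X).Opens) (t : Γ(X, V)), (∀ i, (f i).app V t = 0) → t = 0),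
      ∀ (U : X.Opens) (Y : Scheme.{u}) (j : Y ⟶ (U : Scheme.{u})), IsClosedImmersion j →
        (∀ i, ∃ g : ((f i) ⁻¹ᵁ U : Scheme.{u}) ⟶ Y, g ≫ j = (f i) ∣_ U) → IsIso j,
      ∀ (X' : Scheme.{u}) (q : X' ⟶ S), IsSeparated q → ∀ (U : X.Opens) (u v : (U : Scheme.{u}) ⟶ X'),
        u ≫ q = U.ι ≫ p → v ≫ q = U.ι ≫ p → (∀ i, ((f i) ∣_ U) ≫ u = ((f i) ∣_ U) ≫ v) → u = v].TFAE := by
  tfae_have 1 → 2 := by
    intro h1 U Y j hj hg
    refine (IsClosedImmersion.isIso_iff_ker_eq_bot (f := j)).2 ?_
    rw [eq_bot_iff]
    intro W t ht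
    rw [Scheme.Hom.ker_apply, RingHom.mem_ker] at ht
    -- `t : Γ(U, W) = Γ(X, U.ι ''ᵁ W)`
    have key : ∀ i, (f i).app (U.ι ''ᵁ W.1) t = 0 := by
      intro i
      obtain ⟨g, hg'⟩ := hg i
      have h2' : (g ≫ j).app W.1 t = 0 := by
        have e1 := Scheme.Hom.comp_app g j W.1
        have e2 := congr($e1 t)
        refine e2.trans ?_
        show (g.app (j ⁻¹ᵁ W.1)) ((j.app W.1) t) = 0
        rw [show (j.app W.1) t = 0 from ht]
        exact map_zero _
      have h2 : ((f i) ∣_ U).app W.1 t = 0 := by
        rw [← hg']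
        exact h2'
      have e3 := congr($(morphismRestrict_app (f i) U W.1) t)
      rw [h2] at e3
      have hinj : Function.Injective ((Z i).presheaf.map
          (eqToHom (image_morphismRestrict_preimage (f i) U W.1)).op) :=
        ((ConcreteCategory.bijective_of_isIso _).1)
      refine hinj ?_
      refine Eq.trans ?_ (map_zero _).symm
      exact e3.symm
    have := h1 (U.ι ''ᵁ W.1) t key
    exact this
  tfae_have 2 → 3 := by
    intro h2 X' q hq U u v hu hv huv
    let XU : Over S := Over.mk (U.ι ≫ p)
    let Y' : Over S := Over.mk q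
    let u' : XU ⟶ Y' := Over.homMk u hu
    let v' : XU ⟶ Y' := Over.homMk v hv
    have : IsSeparated Y'.hom := hq
    have hci : IsClosedImmersion (equalizer.ι u' v').left := inferInstance
    have hiso : IsIso (equalizer.ι u' v').left := by
      refine h2 U _ (equalizer.ι u' v').left hci fun i => ?_
      let Zi : Over S := Over.mk (((f i) ∣_ U) ≫ U.ι ≫ p)
      let fi' : Zi ⟶ XU := Over.homMk ((f i) ∣_ U) rfl
      have hfi : fi' ≫ u' = fi' ≫ v' := by
        ext1
        exact huv i
      refine ⟨(equalizer.lift fi' hfi).left, ?_⟩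
      rw [← Over.comp_left, equalizer.lift_ι]
      rfl
    rw [← cancel_epi (equalizer.ι u' v').left]
    exact congr($(equalizer.condition u' v').left)
  tfae_have 3 → 1 := by
    intro h3 V t ht
    -- the section `t` as a global section of the open subscheme `V`
    let t' : Γ(V, ⊤) := (V.topIso).inv t
    let u : (V : Scheme.{u}) ⟶ AffineSpace (ULift.{u} (Fin 1)) S :=
      AffineSpace.homOfVector (V.ι ≫ p) (fun _ => t')
    let v : (V : Scheme.{u}) ⟶ AffineSpace (ULift.{u} (Fin 1)) S :=
      AffineSpace.homOfVector (V.ι ≫ p) (fun _ => 0)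
    have huv : u = v := by
      refine h3 _ (AffineSpace (ULift.{u} (Fin 1)) S ↘ S) inferInstance V u v
        (AffineSpace.homOfVector_over _ _) (AffineSpace.homOfVector_over _ _) fun i => ?_
      rw [AffineSpace.comp_homOfVector, AffineSpace.comp_homOfVector]
      congr 1
      funext _
      simp only [Function.comp_apply, map_zero]
      -- `(f i ∣_ V).appTop t' = 0`
      have h4 : ((f i) ∣_ V).appTop t' =
          (Z i).presheaf.map (eqToHom (image_morphismRestrict_preimage (f i) V ⊤)).op
            ((f i).app (V.ι ''ᵁ ⊤) t') :=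
        congr($(morphismRestrict_app (f i) V ⊤) t')
      rw [h4]
      have h5 : (f i).app (V.ι ''ᵁ ⊤) t' = 0 := by
        have hV : V.ι ''ᵁ ⊤ = V := by
          rw [Scheme.Hom.image_top_eq_opensRange, Scheme.Opens.opensRange_ι]
        have hnat := (f i).naturality (eqToHom hV).op
        have h6 : t' = X.presheaf.map (eqToHom hV).op t := by
          simp only [t', Scheme.Opens.topIso_inv]
          rfl
        rw [h6]
        have := congr($hnat t)
        simp only [CommRingCat.comp_apply] at this
        rw [this, ht i, map_zero]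
      rw [h5, map_zero]
    have h7 : t' = 0 := by
      have h8 := AffineSpace.homOfVector_appTop_coord (V.ι ≫ p) (fun _ : ULift.{u} (Fin 1) => t') ⟨0⟩
      have h9 := AffineSpace.homOfVector_appTop_coord (V.ι ≫ p)
        (fun _ : ULift.{u} (Fin 1) => (0 : Γ(V, ⊤))) ⟨0⟩
      rw [← h8, ← h9]
      show u.appTop _ = v.appTop _
      rw [huv]
    have h10 : t = (V.topIso).hom t' := by
      simp only [t']
      rw [← CommRingCat.comp_apply, Iso.inv_hom_id]
      rfl
    rw [h10, h7, map_zero]
  tfae_finish

end Groth.Agent.S4872
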