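import Groth.Statements.S4963
import Groth.Agent.Lib.Seat69GeomRedAt3
import Groth.Agent.S0386

set_option autoImplicit false
open CategoryTheory AlgebraicGeometry
universe u v w
open EGA43

namespace Groth.Agent.S4963

/-- Let f : X ⟶ Y be a morphism locally of finite presentation. The set of points x of X such that f is
flat at x and the fibre of f through x is geometrically reduced at x over the residue field of f x
(f is a reduced morphism at x) is open in X. -/
theorem result {X Y : Scheme.{u}} (f : X ⟶ Y)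
    [LocallyOfFinitePresentation f] :
    IsOpen {x : X | (f.stalkMap x).hom.Flat ∧ FBase.IsGeomReducedAt (f.fiberToSpecResidueField (f.base x)) (f.asFiber x)} := by
  have hopen := Groth.Agent.S0386.result f
  obtain ⟨U, hU⟩ : ∃ U : X.Opens, (U : Set X) = {x : X | (f.stalkMap x).hom.Flat} :=
    ⟨⟨_, hopen⟩, rfl⟩
  haveI : Flat (U.ι ≫ f) := by
    rw [Flat.iff_flat_stalkMap]
    intro u
    rw [Scheme.Hom.stalkMap_comp]
    have h1 : (f.stalkMap (U.ι u)).hom.Flat := by
      have hu : (u.1 : X) ∈ (U : Set X) := u.2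
      rw [hU] at hu
      exact hu
    have h2 : (U.ι.stalkMap u).hom.Flat := Flat.stalkMap U.ι u
    exact RingHom.Flat.comp h1 h2
  have hE := Groth.Agent.Lib.Seat69.GeomRedAt.isOpen_gRAt (U.ι ≫ f)
  have heq : {x : X | (f.stalkMap x).hom.Flat ∧
      FBase.IsGeomReducedAt (f.fiberToSpecResidueField (f.base x)) (f.asFiber x)} =
      U.ι '' {u | Groth.Agent.Lib.Seat69.GeomRedAt.GRAt (U.ι ≫ f) u} := by
    ext x
    have hiff : FBase.IsGeomReducedAt (f.fiberToSpecResidueField (f.base x)) (f.asFiber x) ↔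
        Groth.Agent.Lib.Seat69.GeomRedAt.GRAt f x := by
      show FBase.IsGeomReducedAt (f.fiberToSpecResidueField (f x)) (f.asFiber x) ↔ _
      rw [Groth.Agent.Lib.Seat69.GeomRedAt.isGeomReducedAt_iff_gRAt, Scheme.Hom.fiberι_asFiber]
    constructor
    · rintro ⟨hfl, hgr⟩
      have hxU : x ∈ (U : Set X) := by rw [hU]; exact hfl
      refine ⟨⟨x, hxU⟩, ?_, rfl⟩
      exact (Groth.Agent.Lib.Seat69.GeomRedAt.gRAt_iff_ι f U x hxU).mp (hiff.mp hgr)
    · rintro ⟨u, hu, rfl⟩
      have hmem : (u.1 : X) ∈ (U : Set X) := u.2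
      refine ⟨?_, ?_⟩
      · rw [hU] at hmem
        exact hmem
      · have h1 : Groth.Agent.Lib.Seat69.GeomRedAt.GRAt f (U.ι u) :=
          (Groth.Agent.Lib.Seat69.GeomRedAt.gRAt_iff_ι f U (U.ι u) u.2).mpr hu
        exact hiff.mpr h1
  rw [heq]
  exact U.ι.isOpenEmbedding.isOpenMap _ hE

end Groth.Agent.S4963
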