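import Groth.Statements.S5004
import Groth.Agent.Lib.Seat22RegIdeal

set_option autoImplicit false
universe u
open CategoryTheory CategoryTheory.Limits AlgebraicGeometry TopologicalSpace
open Nrm16

namespace Groth.Agent.S5004

/-- On a locally Noetherian scheme, every quasi-regular (quasi-coherent) ideal sheaf is a regular ideal
sheaf. -/
theorem result {X : Scheme.{u}} [IsLocallyNoetherian X] (I : X.IdealSheafData)
    (h : RegImm.IsRegularIdeal RegImm.Kind.quasi I) : RegImm.IsRegularIdeal RegImm.Kind.regular I := by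
  intro x hx
  obtain ⟨U, hxU, rs, hrs, hI⟩ := h x hx
  have hzero : ∀ f ∈ Ideal.ofList rs, x ∉ X.basicOpen f := by
    intro f hf
    rw [← hI] at hf
    exact (X.mem_zeroLocus_iff _ x).mp
      ((Scheme.IdealSheafData.mem_support_iff_of_mem hxU).mp hx) f hf
  obtain ⟨g, hxg, hreg⟩ :=
    Groth.Agent.Lib.Seat22.RegIdeal.exists_basicOpen_isRegular U x hxU rs hrs hzero
  refine ⟨X.affineBasicOpen g, hxg,
    rs.map (X.presheaf.map (homOfLE (X.basicOpen_le g)).op).hom, hreg, ?_⟩
  rw [← I.map_ideal_basicOpen U g, hI, Ideal.map_ofList]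
  rfl

end Groth.Agent.S5004
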