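import Groth.Statements.S5051
import Groth.Agent.Lib.Seat2GeomCount
import Groth.Agent.Lib.Seat45EtDim
import Groth.Agent.S3418

set_option autoImplicit false
open CategoryTheory AlgebraicGeometry
universe u
open Unram

namespace Groth.Agent.S5051

/-- Let f : X ⟶ Y be étale, separated and of finite type. Then y ↦ (number of points of the geometric
fibre of f at y) is lower semicontinuous on Y. -/
theorem result {X Y : Scheme.{u}} (f : X ⟶ Y) [Etale f] [IsSeparated f]
    [LocallyOfFiniteType f] [QuasiCompact f] :
    LowerSemicontinuous (fun y : Y => ENat.card ↥(MoreMor.geomFiber f y)) := by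
  haveI : LocallyQuasiFinite f := Groth.Agent.Lib.Seat45.EtDim.locallyQuasiFinite_of_etale f
  have h := (Groth.Agent.S3418.result f).1
  have he : (fun y : Y => ENat.card ↥(MoreMor.geomFiber f y)) =
      fun z : Y => MoreMor.nGeomConnComp f z :=
    funext (Groth.Agent.Lib.Seat2.GeomCount.card_geomFiber_eq_nGeomConnComp f)
  rw [he]
  exact h

end Groth.Agent.S5051
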