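import Groth.Statements.S5052
import Groth.Agent.Lib.Seat2GeomCount
import Groth.Agent.Lib.Seat45EtDim
import Groth.Agent.S3418

set_option autoImplicit false
open CategoryTheory AlgebraicGeometry
universe u
open Unram

namespace Groth.Agent.S5052

/-- Let f : X ⟶ Y be étale, separated and of finite type, and y a point of Y. The number of points of
the geometric fibre is constant on a neighbourhood of y if and only if the restriction of f over
some open neighbourhood of y is a finite morphism. -/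
theorem result {X Y : Scheme.{u}} (f : X ⟶ Y) [Etale f] [IsSeparated f]
    [LocallyOfFiniteType f] [QuasiCompact f] (y : Y) :
    (∃ U : Y.Opens, y ∈ U ∧ ∀ y' : Y, y' ∈ U → ENat.card ↥(MoreMor.geomFiber f y') = ENat.card ↥(MoreMor.geomFiber f y)) ↔
      ∃ U : Y.Opens, y ∈ U ∧ IsFinite (f ∣_ U) := by
  haveI : LocallyQuasiFinite f := Groth.Agent.Lib.Seat45.EtDim.locallyQuasiFinite_of_etale f
  constructor
  · rintro ⟨U, hyU, hU⟩
    obtain ⟨U', hyU', hprop⟩ := (Groth.Agent.S3418.result f).2 y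
      ⟨(U : Set Y), U.2.mem_nhds hyU, fun z hz => by
        rw [← Groth.Agent.Lib.Seat2.GeomCount.card_geomFiber_eq_nGeomConnComp,
          ← Groth.Agent.Lib.Seat2.GeomCount.card_geomFiber_eq_nGeomConnComp]
        exact hU z hz⟩
    haveI := hprop
    exact ⟨U', hyU', IsFinite.of_isProper_of_locallyQuasiFinite _⟩
  · rintro ⟨U, hyU, hfin⟩
    haveI := hfin
    have hlc := Scheme.Hom.isLocallyConstant_finrank (f ∣_ U)
    rw [IsLocallyConstant.iff_exists_open] at hlc
    obtain ⟨V, hV, hyV, hconst⟩ := hlc ⟨y, hyU⟩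
    refine ⟨U.ι ''ᵁ ⟨V, hV⟩, ⟨⟨y, hyU⟩, hyV, rfl⟩, ?_⟩
    intro y' hy'
    obtain ⟨u, huV, huy⟩ := hy'
    have hy'U : y' ∈ U := by
      rw [← huy]
      exact u.2
    rw [Groth.Agent.Lib.Seat2.GeomCount.card_geomFiber_eq_finrank f U y' hy'U,
      Groth.Agent.Lib.Seat2.GeomCount.card_geomFiber_eq_finrank f U y hyU]
    congr 1
    have hu : (⟨y', hy'U⟩ : U) = u := Subtype.ext huy.symm
    rw [hu]
    exact hconst u huV

end Groth.Agent.S5052
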