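import Groth.Statements.S5053
import Groth.Agent.Lib.Seat2GeomCount
import Groth.Agent.Lib.Seat45EtDim
import Groth.Agent.S3418

set_option autoImplicit false
open CategoryTheory AlgebraicGeometry
universe u
open Unram

namespace Groth.Agent.S5053

/-- Let Y be a connected scheme and f : X ⟶ Y étale, separated and of finite type. Then f is finite if
and only if all geometric fibres of f have the same number of points. -/
theorem result {X Y : Scheme.{u}} [ConnectedSpace ↥Y] (f : X ⟶ Y)
    [Etale f] [IsSeparated f] [LocallyOfFiniteType f] [QuasiCompact f] :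
    IsFinite f ↔ ∃ n : ℕ∞, ∀ y : Y, ENat.card ↥(MoreMor.geomFiber f y) = n := by
  haveI : LocallyQuasiFinite f := Groth.Agent.Lib.Seat45.EtDim.locallyQuasiFinite_of_etale f
  constructor
  · intro hfin
    haveI := hfin
    have hlc := Scheme.Hom.isLocallyConstant_finrank f
    obtain ⟨y₀⟩ : Nonempty Y := inferInstance
    refine ⟨(Scheme.Hom.finrank f y₀ : ℕ∞), fun y => ?_⟩
    have h1 : Scheme.Hom.finrank f y = Scheme.Hom.finrank f y₀ :=
      hlc.apply_eq_of_isPreconnected isPreconnected_univ (Set.mem_univ _) (Set.mem_univ _)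
    have hiso : ∀ z : Y, ENat.card ↥(MoreMor.geomFiber f z) = (Scheme.Hom.finrank f z : ℕ∞) := by
      intro z
      rw [ENat.card_congr (Groth.Agent.Lib.Seat2.GeomCount.geomFiberIso f z).hom.homeomorph.toEquiv,
        Groth.Agent.Lib.Seat2.GeomCount.card_pullback_eq_finrank,
        Groth.Agent.Lib.Seat2.GeomCount.geomPt_apply]
    rw [hiso, h1]
  · rintro ⟨n, hn⟩
    have hloc : ∀ y : Y, ∃ U : Y.Opens, y ∈ U ∧ IsFinite (f ∣_ U) := by
      intro y
      obtain ⟨U', hyU', hprop⟩ := (Groth.Agent.S3418.result f).2 y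
        ⟨Set.univ, Filter.univ_mem, fun z _ => by
          rw [← Groth.Agent.Lib.Seat2.GeomCount.card_geomFiber_eq_nGeomConnComp,
            ← Groth.Agent.Lib.Seat2.GeomCount.card_geomFiber_eq_nGeomConnComp, hn, hn]⟩
      haveI := hprop
      exact ⟨U', hyU', IsFinite.of_isProper_of_locallyQuasiFinite _⟩
    choose U hyU hU using hloc
    refine IsZariskiLocalAtTarget.of_iSup_eq_top (P := @IsFinite) U ?_ hU
    rw [eq_top_iff]
    intro y _
    exact TopologicalSpace.Opens.mem_iSup.mpr ⟨y, hyU y⟩

end Groth.Agent.S5053
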