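import Groth.Statements.S5060
import Groth.Agent.Lib.Seat14NFlatE

set_option autoImplicit false
universe u
open CInt

namespace Groth.Agent.S5060

/-- a) iff d) in the Noetherian case: let A be a Noetherian ring, R an ideal, f_1, …, f_n elements of
the Jacobson radical of A forming a regular sequence on A/R and on every R^k/R^(k+1), Q = R + (f_1,
…, f_n), and M a finitely generated A-module. Then every R^k M / R^(k+1) M is flat over A/R if and
only if every Q^k M / Q^(k+1) M is flat over A/Q and, for every associated prime p of A/Q viewed as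
an (A/R)-module, every localized piece (R^k M / R^(k+1) M)_p is flat over (A/R)_p. -/
theorem result (A : Type u) [CommRing A] [IsNoetherianRing A]
    (R : Ideal A) {n : ℕ} (f : Fin n → A) (hrad : ∀ i, f i ∈ (⊥ : Ideal A).jacobson)
    (hreg : RingTheory.Sequence.IsWeaklyRegular (A ⧸ R) (List.ofFn f))
    (hreggr : ∀ k : ℕ, RingTheory.Sequence.IsWeaklyRegular (↥(R ^ k • (⊤ : Submodule A A)) ⧸ (R • (⊤ : Submodule A ↥(R ^ k • (⊤ : Submodule A A))))) (List.ofFn f))
    (M : Type u) [AddCommGroup M] [Module A M] [Module.Finite A M] :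
    EGA4.IsNormallyFlat R M ↔
      EGA4.IsNormallyFlat (R ⊔ Ideal.span (Set.range f)) M ∧
        ∀ (p : Ideal (A ⧸ R)) [p.IsPrime],
          p ∈ associatedPrimes (A ⧸ R) ((A ⧸ R) ⧸ Ideal.map (Ideal.Quotient.mk R) (R ⊔ Ideal.span (Set.range f))) →
            ∀ k : ℕ, Module.Flat (Localization.AtPrime p) (LocalizedModule p.primeCompl (↥(R ^ k • (⊤ : Submodule A M)) ⧸ (R • (⊤ : Submodule A ↥(R ^ k • (⊤ : Submodule A M)))))) := by
  have hrs : Ideal.ofList (List.ofFn f) = Ideal.span (Set.range f) := by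
    show Ideal.span {r | r ∈ List.ofFn f} = Ideal.span (Set.range f)
    congr 1
    ext x
    exact List.mem_ofFn' f x
  have hrad' : ∀ x ∈ List.ofFn f, x ∈ (⊥ : Ideal A).jacobson := by
    intro x hx
    obtain ⟨i, rfl⟩ := (List.mem_ofFn' f x).mp hx
    exact hrad i
  have hideal : (Ideal.map (Ideal.Quotient.mk R) (R ⊔ Ideal.span (Set.range f)) :
      Submodule (A ⧸ R) (A ⧸ R)) =
      ((Ideal.span (Set.range f)).map (Ideal.Quotient.mk R) • ⊤ :
        Submodule (A ⧸ R) (A ⧸ R)) := by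
    rw [smul_eq_mul, Ideal.mul_top, Ideal.map_sup, Ideal.map_quotient_self, bot_sup_eq]
  have hassiff : ∀ p : Ideal (A ⧸ R),
      p ∈ associatedPrimes (A ⧸ R)
        ((A ⧸ R) ⧸ Ideal.map (Ideal.Quotient.mk R) (R ⊔ Ideal.span (Set.range f))) ↔
      p ∈ associatedPrimes (A ⧸ R)
        ((A ⧸ R) ⧸ ((Ideal.span (Set.range f)).map (Ideal.Quotient.mk R) • ⊤ :
          Submodule (A ⧸ R) (A ⧸ R))) :=
    fun p => LinearEquiv.isAssociatedPrime_iff (Submodule.quotEquivOfEq _ _ hideal)
  have key := Groth.Agent.Lib.Seat14.NFlat.normallyFlat_iff R (List.ofFn f) hrad' hreg M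
  rw [hrs] at key
  unfold EGA4.IsNormallyFlat
  constructor
  · intro h
    obtain ⟨h1, h2⟩ := key.mp h
    exact ⟨h1, fun p _ hp k => h2 p ((hassiff p).mp hp) k⟩
  · rintro ⟨h1, h2⟩
    exact key.mpr ⟨h1, fun p _ hp k => h2 p ((hassiff p).mpr hp) k⟩

end Groth.Agent.S5060
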