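import Groth.Statements.S5065
import Groth.Agent.Lib.Helper4UnramNormal
-- import your own Groth.Agent.* helpers here

set_option autoImplicit false
universe u
open Unram

namespace Groth.Agent.S5065

open TensorProduct in
theorem aux (A A' L L₁ : Type u) [CommRing A] [IsDomain A]
    [IsIntegrallyClosed A] [CommRing A'] [IsDomain A'] [IsIntegrallyClosed A'] [Algebra A A']
    [Field L] [Algebra A L] [Algebra.IsAlgebraic A L] (hinj : Function.Injective (algebraMap A L))
    [Algebra.Etale A ↥(integralClosure A L)]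
    [Field L₁] [Algebra A' L₁] [Algebra L L₁] [Algebra A L₁] [IsScalarTower A A' L₁] [IsScalarTower A L L₁]
    (hinj' : Function.Injective (algebraMap A' L₁))
    (hgen : Subfield.closure (Set.range (algebraMap A' L₁) ∪ Set.range (algebraMap L L₁)) = ⊤)
    (D : Subalgebra A' L₁)
    (hD : D = Algebra.adjoin A' ((algebraMap L L₁) '' {x : L | IsIntegral A x})) :
    Algebra.Etale A' D ∧ integralClosure A' L₁ = D := by
  have hgenD : ∀ x : L, IsIntegral A x → algebraMap L L₁ x ∈ D := fun x hx => by
    rw [hD]; exact Algebra.subset_adjoin ⟨x, hx, rfl⟩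
  -- the surjection from the tensor product
  let g : integralClosure A L →ₐ[A] L₁ :=
    (IsScalarTower.toAlgHom A L L₁).comp (integralClosure A L).val
  let ψ : A' ⊗[A] integralClosure A L →ₐ[A'] L₁ :=
    Algebra.TensorProduct.productLeftAlgHom (Algebra.ofId A' L₁) g
  have hψtmul : ∀ (a' : A') (c : integralClosure A L),
      ψ (a' ⊗ₜ c) = algebraMap A' L₁ a' * algebraMap L L₁ (c : L) := fun a' c => rfl
  have hψD : ∀ t, ψ t ∈ D := by
    intro t
    induction t using TensorProduct.induction_on with
    | zero => rw [map_zero]; exact D.zero_mem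
    | tmul a' c =>
      rw [hψtmul]
      exact D.mul_mem (D.algebraMap_mem a') (hgenD _ c.2)
    | add x y hx hy => rw [map_add]; exact D.add_mem hx hy
  let ψD : A' ⊗[A] integralClosure A L →ₐ[A'] D := ψ.codRestrict D hψD
  have hψDsurj : Function.Surjective ψD := by
    rintro ⟨d, hd⟩
    have : d ∈ ψ.range := by
      rw [hD] at hd
      refine Algebra.adjoin_le ?_ hd
      rintro _ ⟨x, hx, rfl⟩
      exact ⟨1 ⊗ₜ ⟨x, hx⟩, (hψtmul 1 ⟨x, hx⟩).trans (by rw [map_one, one_mul])⟩
    obtain ⟨t, ht⟩ := this
    exact ⟨t, Subtype.ext ht⟩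
  haveI : Algebra.FiniteType A' D := Algebra.FiniteType.of_surjective ψD hψDsurj
  haveI : Algebra.FormallyUnramified A' D := Algebra.FormallyUnramified.of_surjective ψD hψDsurj
  have hinjD : Function.Injective (algebraMap A' D) := fun x y hxy =>
    hinj' (congrArg Subtype.val hxy)
  have het : Algebra.Etale A' D :=
    Groth.Agent.Lib.Helper4.UnramNormal.etale_of_unramified A' D hinjD
  refine ⟨het, ?_⟩
  -- D is integrally closed
  haveI hDic : IsIntegrallyClosed D :=
    IsIntegrallyClosed.of_localization_maximal fun p _ _ =>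
      (Groth.Agent.Lib.Helper3.EtNormal.isDomain_and_isIntegrallyClosed_localization A' D p).2
  -- L₁ is the fraction field of D
  have hAA' : Function.Injective (algebraMap A A') := by
    intro x y hxy
    apply hinj
    apply (algebraMap L L₁).injective
    rw [← IsScalarTower.algebraMap_apply A L L₁, ← IsScalarTower.algebraMap_apply A L L₁,
      IsScalarTower.algebraMap_apply A A' L₁, IsScalarTower.algebraMap_apply A A' L₁, hxy]
  have hfrac : ∀ z : L₁, ∃ x y : D, y ≠ 0 ∧ z = (x : L₁) / (y : L₁) := by
    intro z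
    have hz : z ∈ Subfield.closure (Set.range (algebraMap A' L₁) ∪ Set.range (algebraMap L L₁)) := by
      rw [hgen]; trivial
    induction hz using Subfield.closure_induction with
    | mem x hx =>
      rcases hx with ⟨a', rfl⟩ | ⟨l, rfl⟩
      · exact ⟨algebraMap A' D a', 1, one_ne_zero, by simp⟩
      · obtain ⟨a, ha0, haint⟩ := (Algebra.IsAlgebraic.isAlgebraic (R := A) l).exists_integral_multiple
        have ha' : algebraMap A' D (algebraMap A A' a) ≠ 0 := by
          intro h0
          have h1 : algebraMap A A' a = 0 := hinjD (h0.trans (map_zero _).symm)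
          exact ha0 (hAA' (h1.trans (map_zero _).symm))
        refine ⟨⟨algebraMap L L₁ (a • l), hgenD _ haint⟩, algebraMap A' D (algebraMap A A' a), ha', ?_⟩
        have ha'' : algebraMap A' L₁ (algebraMap A A' a) ≠ 0 := fun h0 => ha' (Subtype.ext h0)
        change _ = algebraMap L L₁ (a • l) / algebraMap A' L₁ (algebraMap A A' a)
        rw [eq_div_iff ha'', Algebra.smul_def, map_mul, ← IsScalarTower.algebraMap_apply A L L₁,
          ← IsScalarTower.algebraMap_apply A A' L₁, mul_comm]
    | one => exact ⟨1, 1, one_ne_zero, by simp⟩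
    | add x y _ _ hx hy =>
      obtain ⟨x₁, y₁, hy₁, rfl⟩ := hx
      obtain ⟨x₂, y₂, hy₂, rfl⟩ := hy
      have h1 : (y₁ : L₁) ≠ 0 := fun h0 => hy₁ (Subtype.ext h0)
      have h2 : (y₂ : L₁) ≠ 0 := fun h0 => hy₂ (Subtype.ext h0)
      refine ⟨x₁ * y₂ + x₂ * y₁, y₁ * y₂, mul_ne_zero hy₁ hy₂, ?_⟩
      push_cast
      field_simp
    | neg x _ hx =>
      obtain ⟨x₁, y₁, hy₁, rfl⟩ := hx
      exact ⟨-x₁, y₁, hy₁, by push_cast; ring⟩
    | inv x _ hx =>
      obtain ⟨x₁, y₁, hy₁, rfl⟩ := hx
      by_cases hx₁ : x₁ = 0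
      · exact ⟨0, 1, one_ne_zero, by simp [hx₁]⟩
      · exact ⟨y₁, x₁, hx₁, by rw [inv_div]⟩
    | mul x y _ _ hx hy =>
      obtain ⟨x₁, y₁, hy₁, rfl⟩ := hx
      obtain ⟨x₂, y₂, hy₂, rfl⟩ := hy
      refine ⟨x₁ * x₂, y₁ * y₂, mul_ne_zero hy₁ hy₂, ?_⟩
      push_cast
      rw [div_mul_div_comm]
  haveI : IsFractionRing D L₁ := IsFractionRing.of_field D L₁ fun z => by
    obtain ⟨x, y, -, h⟩ := hfrac z
    exact ⟨x, y, h⟩
  apply le_antisymm
  · intro x hx
    have hxD : IsIntegral D x := IsIntegral.tower_top (A := D) hx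
    obtain ⟨y, rfl⟩ := IsIntegrallyClosed.isIntegral_iff.mp hxD
    exact y.2
  · rw [hD]
    refine Algebra.adjoin_le ?_
    rintro _ ⟨x, hx, rfl⟩
    have h1 : IsIntegral A (algebraMap L L₁ x) := hx.map (IsScalarTower.toAlgHom A L L₁)
    exact IsIntegral.tower_top (A := A') h1

/-- Let A ⊆ A' be integrally closed domains, L a field algebraic over the fraction field of A in which A
embeds and whose integral closure C over A is an étale A-algebra, and L₁ a field in which A' and L
both embed, compatibly over A, and which is generated as a field by the images of A' and L (a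
compositum of L with the fraction field of A'; the map A' → L₁ is injective, so that the fraction
field of A' is a subfield of L₁). Then the integral closure of A' in L₁ is an étale A'-algebra and
coincides with the A'-subalgebra generated by the image of C. -/
theorem result (A A' L L₁ : Type u) [CommRing A] [IsDomain A]
    [IsIntegrallyClosed A] [CommRing A'] [IsDomain A'] [IsIntegrallyClosed A'] [Algebra A A']
    [Field L] [Algebra A L] [Algebra.IsAlgebraic A L] (hinj : Function.Injective (algebraMap A L))
    [Algebra.Etale A ↥(integralClosure A L)]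
    [Field L₁] [Algebra A' L₁] [Algebra L L₁] [Algebra A L₁] [IsScalarTower A A' L₁] [IsScalarTower A L L₁]
    (hinj' : Function.Injective (algebraMap A' L₁))
    (hgen : Subfield.closure (Set.range (algebraMap A' L₁) ∪ Set.range (algebraMap L L₁)) = ⊤) :
    Algebra.Etale A' ↥(integralClosure A' L₁) ∧
      integralClosure A' L₁ = Algebra.adjoin A' ((algebraMap L L₁) '' {x : L | IsIntegral A x}) := by
  obtain ⟨h1, h2⟩ := aux A A' L L₁ hinj hinj' hgen _ rfl
  refine ⟨?_, h2⟩
  rw [h2]
  exact h1

end Groth.Agent.S5065
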