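import Groth.Statements.S5071
import Groth.Agent.S5802
import Groth.Agent.Lib.Seat23TransReg

set_option autoImplicit false
universe u
open CInt

namespace Groth.Agent.S5071

/-- Let B be an A-algebra and J an ideal of B generated by a sequence which is transversally regular
relative to A. Then for n < m the module J^n/J^m is flat over A, and for every prime q of B
containing J the localisation (J^n)_q is flat over A (modules regarded as A-modules by restriction
of scalars). -/
theorem result (A B : Type u) [CommRing A] [CommRing B] [Algebra A B]
    (rs : List B) (hrs : RegImm.IsTransRegularSeq A B rs) (n m : ℕ) (hnm : n < m) :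
    Module.Flat A (RestrictScalars A B
      (↥(Ideal.ofList rs ^ n) ⧸ (Submodule.comap (Ideal.ofList rs ^ n).subtype (Ideal.ofList rs ^ m)))) ∧
      ∀ (q : Ideal B) [q.IsPrime], Ideal.ofList rs ≤ q →
        Module.Flat A (RestrictScalars A B (LocalizedModule q.primeCompl ↥(Ideal.ofList rs ^ n))) := by
  have hq : CAlgX.IsQuasiRegular rs.get :=
    Groth.Agent.S5802.result B rs.length rs.get (by rw [List.ofFn_get]; exact hrs.1)
  have hJ : Ideal.ofList rs = Ideal.span (Set.range rs.get) := by
    rw [Set.range_list_get]
  haveI hflatJ : Module.Flat A (B ⧸ Ideal.span (Set.range rs.get)) := by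
    have h := hrs.2 rs.length le_rfl
    rw [List.take_length, hJ] at h
    exact h
  haveI hflatB : Module.Flat A B := by
    have h := hrs.2 0 (Nat.zero_le _)
    rw [List.take_zero, Ideal.ofList_nil] at h
    exact Module.Flat.of_linearEquiv
      ((Submodule.quotEquivOfEqBot (⊥ : Ideal B) rfl).restrictScalars A).symm
  rw [hJ]
  refine ⟨?_, ?_⟩
  · haveI := Groth.Agent.Lib.Seat23.TransReg.flat_pow_quot A rs.get hq n m hnm.le
    exact Groth.Agent.Lib.Seat23.TransReg.flat_restrictScalars A B _
  · intro q _ _
    haveI := Groth.Agent.Lib.Seat23.TransReg.flat_pow A rs.get hq n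
    exact Groth.Agent.Lib.Seat23.TransReg.flat_restrictScalars_of_isLocalizedModule A B
      q.primeCompl (LocalizedModule.mkLinearMap q.primeCompl ↥(Ideal.span (Set.range rs.get) ^ n))
      (Groth.Agent.Lib.Seat23.TransReg.flat_restrictScalars A B _)

end Groth.Agent.S5071
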