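import Groth.Statements.S5117
import Groth.Agent.Lib.Seat2FEtConn
import Groth.Agent.Lib.Seat2HomotopyMid
import Groth.Agent.S0268

set_option autoImplicit false
universe u
open Pi1

namespace Groth.Agent.S5117

open Groth.Agent.Lib.Seat2 Groth.Agent.Lib.Seat2.HomotopyMid Groth.Agent.Lib.Seat2.FEtConn
  Groth.Agent.Lib.Helper22.FieldLim

open AlgebraicGeometry CategoryTheory CategoryTheory.Limits in
/-- (ii bis) ⇒ (i), over a field. Let k be a field with algebraic closure k̄, X a quasi-compact and
quasi-separated k-scheme such that X ×_k k̄ is connected, and X' a connected finite etale cover of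
X. If the induced cover X' ×_k k̄ → X ×_k k̄ admits a section, then X' is isomorphic over X to X ×_k
S' for some finite etale k-scheme S'. (The published statement allows the spectrum of an Artinian
local ring with residue field k as base and asks only that X be quasi-compact; this row takes a
field and X quasi-compact and quasi-separated.) -/
theorem result (k : Type u) [Field k] {X : Scheme.{u}}
    (f : X ⟶ Spec (CommRingCat.of k)) [CompactSpace X] [QuasiSeparatedSpace X]
    [ConnectedSpace ↥(pullback f (Spec.map (CommRingCat.ofHom (algebraMap k (AlgebraicClosure k)))))]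
    (X' : FEt.Cat X) [ConnectedSpace X'.left]
    (σ : pullback f (Spec.map (CommRingCat.ofHom (algebraMap k (AlgebraicClosure k)))) ⟶ X'.left)
    (hσ : σ ≫ X'.hom = pullback.fst f (Spec.map (CommRingCat.ofHom (algebraMap k (AlgebraicClosure k))))) :
    ∃ S' : FEt.Cat (Spec (CommRingCat.of k)), Nonempty ((FEt.restrict f).obj S' ≅ X') := by
  classical
  let K := AlgebraicClosure k
  let Es : IntermediateField k K := separableClosure k K
  let q : pullback f (Spec.map (CommRingCat.ofHom (algebraMap k K))) ⟶ X := pullback.fst _ _
  let qE : pullback f (Spec.map (CommRingCat.ofHom (algebraMap k Es))) ⟶ X := pullback.fst _ _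
  let p := bc Es K f
  have hpq : p ≫ qE = q := bc_fst Es K f
  have : Etale X'.hom := X'.prop.2
  -- `X` is connected
  have hsK : Surjective (Spec.map (CommRingCat.ofHom (algebraMap k K))) :=
    surjective_specMap_field k K
  have hq : Surjective q := inferInstanceAs (Surjective (pullback.fst f _))
  haveI : ConnectedSpace X := hq.surj.connectedSpace q.continuous
  haveI : ConnectedSpace ↥(Spec (CommRingCat.of k)) :=
    inferInstanceAs (ConnectedSpace (PrimeSpectrum k))
  -- a geometric point of `X`
  obtain ⟨x⟩ := (inferInstance : Nonempty X)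
  let Ω := AlgebraicClosure (X.residueField x)
  let ξ : Spec (CommRingCat.of Ω) ⟶ X :=
    Spec.map (CommRingCat.ofHom (algebraMap (X.residueField x) Ω)) ≫ X.fromSpecResidueField x
  -- descent of the section to a finite separable extension
  have ht : σ ≫ X'.hom = p ≫ qE := by rw [hσ, hpq]
  obtain ⟨t', ht'1, ht'2⟩ := InsepDescent.exists_hom_descent p qE X' σ ht
  obtain ⟨L, g, hg1, hg2⟩ := exists_stage k f Es X'.hom t' ht'1
  haveI : FiniteDimensional k L.1 := L.2
  let A : FEt.Cat (Spec (CommRingCat.of k)) := fieldObj k L.1
  haveI : ConnectedSpace A.left := inferInstanceAs (ConnectedSpace (PrimeSpectrum L.1))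
  let γ : (FEt.restrict f).obj A ⟶ X' :=
    MorphismProperty.Over.homMk ((pullbackSymmetry _ _).hom ≫ g) (by
      change ((pullbackSymmetry _ _).hom ≫ g) ≫ X'.hom = pullback.snd _ _
      rw [Category.assoc, hg2, pullbackSymmetry_hom_comp_fst]) trivial
  obtain ⟨hfull, -⟩ := Groth.Agent.S0268.result k f
  exact exists_obj_iso_of_hom f ξ X' A γ

end Groth.Agent.S5117
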