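import Groth.Statements.S5254
import Groth.Agent.Lib.Seat23FibreTriv
import Groth.Agent.Lib.Seat23MultLocal

set_option autoImplicit false
universe u
open TensorProduct SGA3b
open SGA3b

namespace Groth.Agent.S5254

/-- Over a local base, where an open neighbourhood of the closed point is the whole base: Let R be a
local ring with maximal ideal 𝔪, H = Spec A an R-group of multiplicative type and of finite type,
and K = Spec (A/J) a closed subgroup scheme of H (J a Hopf ideal) with A/J of finite presentation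
over R. If the closed fibre of K is the unit group, i.e. J + 𝔪A = Ker ε + 𝔪A with ε the counit, then
K is the unit group: J = Ker ε. (Affine group schemes over an affine base are taken in Hopf-algebra
form; base change is the tensor product; a homomorphism of groups Spec A ⟶ Spec C is a bialgebra map
C → A.) -/
theorem result (R : Type u) [CommRing R] [IsLocalRing R]
    (A : Type u) [CommRing A] [HopfAlgebra R A] (hft : Algebra.FiniteType R A) (hH : IsMultType R A)
    (J : Ideal A) [J.IsHopfIdeal R] (hK : Algebra.FinitePresentation R (A ⧸ J))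
    (hs : J ⊔ Ideal.map (algebraMap R A) (IsLocalRing.maximalIdeal R) =
      RingHom.ker (Bialgebra.counitAlgHom R A) ⊔ Ideal.map (algebraMap R A) (IsLocalRing.maximalIdeal R)) :
    J = RingHom.ker (Bialgebra.counitAlgHom R A) := by
  classical
  obtain ⟨R', _, _, _, hloc, hff, M, _, ⟨e⟩⟩ :=
    Groth.Agent.Lib.Seat23.MultLocal.exists_local_isDiag R A hH
  haveI := hloc
  haveI := hff
  -- notation
  set π : A →ₐc[R] A ⧸ J := Bialgebra.Quotient.mkBialgHom J with hπ
  have hπmk : ∀ a, π a = Ideal.Quotient.mk J a := fun a => rfl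
  set 𝔪 := IsLocalRing.maximalIdeal R with h𝔪
  -- `J ≤ ker ε`
  have hJle : J ≤ RingHom.ker (Bialgebra.counitAlgHom R A) := by
    intro x hx
    exact Submodule.IsCoideal.counit_eq_zero (I := J.restrictScalars R) hx
  -- the augmentation ideal of `A ⧸ J` lies in `𝔪 (A ⧸ J)`
  have hIB : ∀ y : A ⧸ J, Coalgebra.counit (R := R) y = 0 →
      y ∈ 𝔪 • (⊤ : Submodule R (A ⧸ J)) := by
    intro y hy
    obtain ⟨x, rfl⟩ := Ideal.Quotient.mk_surjective y
    have hx : x ∈ RingHom.ker (Bialgebra.counitAlgHom R A) := hy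
    have hx2 : x ∈ J ⊔ Ideal.map (algebraMap R A) 𝔪 := by
      rw [hs]
      exact Ideal.mem_sup_left hx
    obtain ⟨j, hj, n, hn, rfl⟩ := Submodule.mem_sup.mp hx2
    rw [map_add, Ideal.Quotient.eq_zero_iff_mem.mpr hj, zero_add]
    have hn' : n ∈ 𝔪 • (⊤ : Submodule R A) :=
      (Groth.Agent.Lib.Seat23.FibreTriv.mem_map_iff_mem_smul_top 𝔪 n).mp hn
    exact Groth.Agent.Lib.Helper25.map_mem_smul_top (Ideal.Quotient.mkₐ R J).toLinearMap 𝔪 hn'
  -- the base change `B' = R' ⊗ (A ⧸ J)`
  -- (1) spanned by group-like elements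
  let Pmap : MonoidAlgebra R' M →ₐc[R'] R' ⊗[R] (A ⧸ J) :=
    (Bialgebra.TensorProduct.map (BialgHom.id R' R') π).comp (e.symm : MonoidAlgebra R' M →ₐc[R'] R' ⊗[R] A)
  have hPsurj : Function.Surjective Pmap := by
    intro z
    induction z using TensorProduct.induction_on with
    | zero => exact ⟨0, map_zero _⟩
    | add x y hx hy =>
      obtain ⟨a, rfl⟩ := hx
      obtain ⟨b, rfl⟩ := hy
      exact ⟨a + b, map_add _ _ _⟩
    | tmul r y =>
      obtain ⟨x, rfl⟩ := Ideal.Quotient.mk_surjective y
      refine ⟨e (r ⊗ₜ[R] x), ?_⟩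
      change Bialgebra.TensorProduct.map (BialgHom.id R' R') π (e.symm (e (r ⊗ₜ[R] x))) = _
      rw [BialgEquiv.symm_apply_apply, Bialgebra.TensorProduct.map_tmul]
      rfl
  have hspan : Submodule.span R' {b : R' ⊗[R] (A ⧸ J) | IsGroupLikeElem R' b} = ⊤ := by
    rw [eq_top_iff]
    rintro z -
    obtain ⟨p, rfl⟩ := hPsurj z
    have hp : p ∈ Submodule.span R' {a : MonoidAlgebra R' M | IsGroupLikeElem R' a} := by
      rw [MonoidAlgebra.span_isGroupLikeElem]
      exact Submodule.mem_top
    refine Submodule.span_induction ?_ ?_ ?_ ?_ hp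
    · intro g hg
      exact Submodule.subset_span (hg.map Pmap)
    · rw [map_zero]; exact Submodule.zero_mem _
    · intro x y _ _ hx hy
      rw [map_add]; exact Submodule.add_mem _ hx hy
    · intro r x _ hx
      rw [map_smul]; exact Submodule.smul_mem _ _ hx
  -- (2) finitely generated augmentation ideal
  haveI := hK
  have hfg : (RingHom.ker (Bialgebra.counitAlgHom R' (R' ⊗[R] (A ⧸ J)))).FG := by
    have hsurj : Function.Surjective (Bialgebra.counitAlgHom R' (R' ⊗[R] (A ⧸ J))) := by
      intro r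
      exact ⟨algebraMap R' _ r, by simp⟩
    exact Algebra.FinitePresentation.ker_fG_of_surjective
      (Bialgebra.counitAlgHom R' (R' ⊗[R] (A ⧸ J))) hsurj
  -- (3) trivial closed fibre
  have hle : RingHom.ker (Bialgebra.counitAlgHom R' (R' ⊗[R] (A ⧸ J))) ≤
      Ideal.map (algebraMap R' (R' ⊗[R] (A ⧸ J))) (IsLocalRing.maximalIdeal R') := by
    intro z hz
    have hz0 : Coalgebra.counit (R := R') z = 0 := hz
    let T : (A ⧸ J) →ₗ[R] (A ⧸ J) :=
      LinearMap.id - (Algebra.linearMap R (A ⧸ J)) ∘ₗ (Coalgebra.counit (R := R) (A := A ⧸ J))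
    have hT : ∀ y, T y ∈ 𝔪 • (⊤ : Submodule R (A ⧸ J)) := by
      intro y
      apply hIB
      change Coalgebra.counit (R := R) (y - algebraMap R (A ⧸ J) (Coalgebra.counit (R := R) y)) = 0
      rw [map_sub, Bialgebra.counit_algebraMap, sub_self]
    have hTz : ∀ w : R' ⊗[R] (A ⧸ J), TensorProduct.map (LinearMap.id : R' →ₗ[R] R') T w =
        w - algebraMap R' (R' ⊗[R] (A ⧸ J)) (Coalgebra.counit (R := R') w) := by
      intro w
      induction w using TensorProduct.induction_on with
      | zero => simp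
      | add x y hx hy => rw [map_add, hx, hy, map_add, map_add]; abel
      | tmul r y =>
        rw [TensorProduct.map_tmul, LinearMap.id_apply, TensorProduct.counit_tmul]
        change r ⊗ₜ[R] (y - algebraMap R (A ⧸ J) (Coalgebra.counit (R := R) y)) = _
        rw [TensorProduct.tmul_sub, Algebra.TensorProduct.algebraMap_apply,
          Algebra.algebraMap_eq_smul_one (Coalgebra.counit (R := R) y), TensorProduct.tmul_smul,
          TensorProduct.smul_tmul']
        simp
    have h1 : z ∈ (⊤ * 𝔪 : Ideal R) • (⊤ : Submodule R (R' ⊗[R] (A ⧸ J))) := by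
      have := Groth.Agent.Lib.Seat23.ConvInt.map_mem_smul_top_of_forall (⊤ : Ideal R) 𝔪
        (LinearMap.id : R' →ₗ[R] R') T
        (fun p => Groth.Agent.Lib.Seat23.ConvInt.mem_top_smul_top p) hT z
      rwa [hTz, hz0, map_zero, sub_zero] at this
    rw [Ideal.top_mul] at h1
    refine Submodule.smul_induction_on h1 ?_ ?_
    · intro μ hμ w _
      have hμ' : algebraMap R R' μ ∈ IsLocalRing.maximalIdeal R' := by
        rw [IsLocalRing.mem_maximalIdeal, mem_nonunits_iff]
        intro hu
        exact (IsLocalRing.mem_maximalIdeal μ).mp hμ (isUnit_of_map_unit (algebraMap R R') μ hu)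
      have : μ • w = algebraMap R' (R' ⊗[R] (A ⧸ J)) (algebraMap R R' μ) * w := by
        rw [← Algebra.smul_def, algebraMap_smul]
      rw [this]
      exact Ideal.mul_mem_right _ _ (Ideal.mem_map_of_mem _ hμ')
    · intro x y hx hy
      exact Ideal.add_mem _ hx hy
  have hbot := Groth.Agent.Lib.Seat23.FibreTriv.ker_counit_eq_bot hspan hfg hle
  -- conclusion
  apply le_antisymm hJle
  intro x hx
  have hx0 : Coalgebra.counit (R := R) x = 0 := hx
  have h1 : (1 : R') ⊗ₜ[R] (Ideal.Quotient.mk J x) ∈
      RingHom.ker (Bialgebra.counitAlgHom R' (R' ⊗[R] (A ⧸ J))) := by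
    change Coalgebra.counit (R := R') ((1 : R') ⊗ₜ[R] (Ideal.Quotient.mk J x)) = 0
    rw [TensorProduct.counit_tmul, Bialgebra.Quotient.counit_mk, hx0, zero_smul]
  rw [hbot, Ideal.mem_bot] at h1
  have h2 : Ideal.Quotient.mk J x = 0 := by
    apply Module.FaithfullyFlat.tensorProduct_mk_injective (A := R) (B := R') (A ⧸ J)
    rw [map_zero]
    exact h1
  exact Ideal.Quotient.eq_zero_iff_mem.mp h2

end Groth.Agent.S5254
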