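import Groth.Statements.S5266
import Groth.Agent.Lib.Seat23TwConstFinite
import Groth.Agent.Lib.Seat27FpqcLocal
import Groth.Agent.Lib.Helper12Descent

set_option autoImplicit false
open CategoryTheory MonoidalCategory CartesianMonoidalCategory MonObj GrpObj AlgebraicGeometry
universe u
open SGA3x

namespace Groth.Agent.S5266

open CategoryTheory.Limits in
set_option backward.isDefEq.respectTransparency.types false in
theorem main {S : Scheme.{u}} (R : Over S) (hR : TwC.IsTwConst TwC.Topology.fpqc R)
    {Z : Scheme.{u}} (z : Z ⟶ R.left) [IsClosedImmersion z] [QuasiCompact (z ≫ R.hom)] :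
    IsFinite (z ≫ R.hom) := by
  obtain ⟨S', f, hfl, hsurj, hqc, hloc⟩ := hR
  have := Groth.Agent.Lib.Helper12.descendsAlong_isFinite.{u}
  refine Groth.Agent.Lib.Seat27.FpqcLocal.of_fpqc_cover @IsFinite (z ≫ R.hom) f hqc ?_
  apply IsZariskiLocalAtTarget.of_forall_exists_morphismRestrict
  intro s'
  obtain ⟨U, hs'U, I, ⟨e⟩⟩ := hloc s'
  refine ⟨U, hs'U, ?_⟩
  set g : Z ⟶ S := z ≫ R.hom with hg
  set φ : (U : Scheme.{u}) ⟶ S := U.ι ≫ f with hφ
  -- the base change of `z`
  let z' : pullback g φ ⟶ pullback R.hom φ :=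
    pullback.lift (pullback.fst g φ ≫ z) (pullback.snd g φ)
      (by rw [Category.assoc]; exact pullback.condition)
  have hz'1 : z' ≫ pullback.fst R.hom φ = pullback.fst g φ ≫ z := pullback.lift_fst _ _ _
  have hz'2 : z' ≫ pullback.snd R.hom φ = pullback.snd g φ := pullback.lift_snd _ _ _
  have hz' : IsPullback z' (pullback.fst g φ) (pullback.fst R.hom φ) z := by
    refine IsPullback.of_right ?_ hz'1 (IsPullback.of_hasPullback R.hom φ).flip
    rw [hz'2]
    exact (IsPullback.of_hasPullback g φ).flip
  have hcl : IsClosedImmersion z' := MorphismProperty.of_isPullback hz'.flip ‹IsClosedImmersion z›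
  -- the closed immersion into the constant scheme
  let i : pullback g φ ⟶ ∐ (fun _ : I => (U : Scheme.{u})) := z' ≫ e.hom.left
  have hi : i ≫ Sigma.desc (fun _ : I => 𝟙 (U : Scheme.{u})) = pullback.snd g φ := by
    have hw := Over.w e.hom
    simp only [i, Category.assoc]
    rw [← hz'2]
    congr 1
  have hfin : IsFinite (pullback.snd g φ) := by
    have hqc' : QuasiCompact (i ≫ Sigma.desc (fun _ : I => 𝟙 (U : Scheme.{u}))) := by
      rw [hi]; infer_instance
    rw [← hi]
    exact Groth.Agent.Lib.Seat23.TwConstFinite.isFinite_comp_of_sigma _ i _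
      (fun j => by rw [Sigma.ι_desc]; infer_instance)
  -- transfer to the restriction
  have hP1 : IsPullback ((pullback.snd g f ⁻¹ᵁ U).ι ≫ pullback.fst g f) (pullback.snd g f ∣_ U) g φ :=
    (isPullback_morphismRestrict (pullback.snd g f) U).flip.paste_horiz
      (IsPullback.of_hasPullback g f)
  rw [← hP1.isoPullback_hom_snd]
  infer_instance

/-- Let R be a twisted constant S-scheme (fpqc-locally on S isomorphic to a constant scheme, the index
set being allowed to vary) and Z a closed subscheme of R which is quasi-compact over S. Then Z is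
finite over S. -/
theorem result {S : Scheme.{u}} (R : Over S) (hR : TwC.IsTwConst TwC.Topology.fpqc R)
    {Z : Scheme.{u}} (z : Z ⟶ R.left) [IsClosedImmersion z] [QuasiCompact (z ≫ R.hom)] :
    IsFinite (z ≫ R.hom) :=
  main R hR z

end Groth.Agent.S5266
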