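import Groth.Statements.S5267
import Groth.Agent.Lib.Seat23TwConstFinite
import Groth.Agent.Lib.Seat23TwConstClopen
import Groth.Agent.Lib.Helper12Descent

set_option autoImplicit false
open CategoryTheory MonoidalCategory CartesianMonoidalCategory MonObj GrpObj AlgebraicGeometry
universe u
open SGA3x

namespace Groth.Agent.S5267

open CategoryTheory.Limits Groth.Agent.Lib.Seat23.TwConstClopen in
set_option backward.isDefEq.respectTransparency.types false in
theorem main {S : Scheme.{u}} [IsLocallyNoetherian S] [ConnectedSpace S]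
    (P : Over S) (hP : TwC.IsTwConst TwC.Topology.etale P)
    {Z : Scheme.{u}} (z : Z ⟶ P.left) [IsOpenImmersion z] [IsClosedImmersion z]
    (hs : ∃ s : S, Set.Finite ((z ≫ P.hom).base ⁻¹' {s})) :
    IsFinite (z ≫ P.hom) := by
  set g : Z ⟶ S := z ≫ P.hom with hg
  -- the set of points with finite fibre
  let T : Set S := {s | (g.base ⁻¹' {s}).Finite}
  -- local comparison through an etale chart
  have chart : ∀ (S' : Scheme.{u}) (f : S' ⟶ S), Etale f → ∀ (I : Type u),
      Nonempty (Red.bc f P ≅ TwC.const S' I) →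
      ∃ (O : I → (pullback g f).Opens), iSup O = ⊤ ∧ Pairwise (Function.onFun Disjoint O) ∧
        (∀ j, IsClosedImmersion ((O j).ι ≫ pullback.snd g f)) ∧
        (∀ j, IsOpenImmersion ((O j).ι ≫ pullback.snd g f)) ∧
        ∀ s' : S', (f.base s' ∈ T ↔ {j | s' ∈ E (pullback.snd g f) O j}.Finite) := by
    intro S' f hf I ⟨e⟩
    have : IsLocallyNoetherian S' := LocallyOfFiniteType.isLocallyNoetherian f
    have : LocallyQuasiFinite f := locallyQuasiFinite_of_etale f
    obtain ⟨O, hO, hdisj, hcl, hop⟩ := exists_pieces P z f I e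
    refine ⟨O, hO, hdisj, hcl, hop, fun s' => ?_⟩
    rw [← fibre_finite_iff (pullback.snd g f) O hO hdisj hcl s']
    exact ⟨finite_fibre_snd_of_finite_fibre g f s', finite_fibre_of_finite_fibre_snd g f s'⟩
  -- membership in `T` is locally constant
  have loc : ∀ s : S, ∃ V : Set S, IsOpen V ∧ s ∈ V ∧ ∀ v ∈ V, (v ∈ T ↔ s ∈ T) := by
    intro s
    obtain ⟨S', f, hf, ⟨s', rfl⟩, I, he⟩ := hP s
    have : IsLocallyNoetherian S' := LocallyOfFiniteType.isLocallyNoetherian f
    obtain ⟨O, hO, hdisj, hcl, hop, hT⟩ := chart S' f hf I he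
    obtain ⟨C, hsC, hC⟩ := exists_open_nhd_const (pullback.snd g f) O hcl hop s'
    refine ⟨f.base '' (C : Set S'), f.isOpenMap _ C.2, ⟨s', hsC, rfl⟩, ?_⟩
    rintro _ ⟨c, hc, rfl⟩
    rw [hT c, hT s']
    have : {j | c ∈ E (pullback.snd g f) O j} = {j | s' ∈ E (pullback.snd g f) O j} := by
      ext j; exact hC c hc j
    rw [this]
  have hTopen : IsOpen T := by
    rw [isOpen_iff_forall_mem_open]
    intro s hs
    obtain ⟨V, hV, hsV, h⟩ := loc s
    exact ⟨V, fun v hv => (h v hv).mpr hs, hV, hsV⟩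
  have hTclosed : IsClosed T := by
    rw [← isOpen_compl_iff, isOpen_iff_forall_mem_open]
    intro s hs
    obtain ⟨V, hV, hsV, h⟩ := loc s
    exact ⟨V, fun v hv hvT => hs ((h v hv).mp hvT), hV, hsV⟩
  have hTuniv : T = Set.univ := by
    rcases isClopen_iff.mp ⟨hTclosed, hTopen⟩ with h | h
    · obtain ⟨s, hs⟩ := hs
      exact absurd (h ▸ hs : s ∈ (∅ : Set S)) (Set.notMem_empty s)
    · exact h
  -- conclusion
  have := Groth.Agent.Lib.Helper12.descendsAlong_isFinite.{u}
  apply IsZariskiLocalAtTarget.of_forall_exists_morphismRestrict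
  intro s
  obtain ⟨S', f, hf, hsf, I, he⟩ := hP s
  have : IsLocallyNoetherian S' := LocallyOfFiniteType.isLocallyNoetherian f
  obtain ⟨O, hO, hdisj, hcl, hop, hT⟩ := chart S' f hf I he
  let V : S.Opens := ⟨Set.range f.base, f.isOpenMap.isOpen_range⟩
  refine ⟨V, hsf, ?_⟩
  refine of_fppf_cover @IsFinite g f V rfl ?_
  have hqc : QuasiCompact (pullback.snd g f) :=
    quasiCompact_of_forall_finite _ O hO hcl hop
      (fun s' => (hT s').mp (hTuniv ▸ Set.mem_univ _))
  exact Groth.Agent.Lib.Seat23.TwConstFinite.isFinite_of_disjoint_cover _ O hO hdisj hcl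

/-- Let S be a locally Noetherian connected scheme, P a quasi-isotrivial twisted constant S-scheme
(etale-locally on S isomorphic to a constant scheme) and Z an open and closed subscheme of P such
that for some s ∈ S the fibre Z_s is finite. Then Z is finite over S. -/
theorem result {S : Scheme.{u}} [IsLocallyNoetherian S] [ConnectedSpace S]
    (P : Over S) (hP : TwC.IsTwConst TwC.Topology.etale P)
    {Z : Scheme.{u}} (z : Z ⟶ P.left) [IsOpenImmersion z] [IsClosedImmersion z]
    (hs : ∃ s : S, Set.Finite ((z ≫ P.hom).base ⁻¹' {s})) :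
    IsFinite (z ≫ P.hom) :=
  main P hP z hs

end Groth.Agent.S5267
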