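import Groth.Statements.S5268
import Groth.Agent.S5267
import Groth.Agent.Lib.Seat23TwConstUnibranch
import Groth.Agent.Lib.Helper3EtGUSchF

set_option autoImplicit false
open CategoryTheory MonoidalCategory CartesianMonoidalCategory MonObj GrpObj AlgebraicGeometry
universe u
open SGA3x

namespace Groth.Agent.S5268

open CategoryTheory.Limits Groth.Agent.Lib.Seat23.TwConstUnibranch in
set_option backward.isDefEq.respectTransparency.types false in
theorem main {S : Scheme.{u}} [IsLocallyNoetherian S]
    (hS : ∀ s : S, CAlg2.IsGeomUnibranch (S.presheaf.stalk s))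
    (P : Over S) (hP : TwC.IsTwConst TwC.Topology.etale P) (x : P.left) :
    ∃ U : P.left.Opens, (U : Set P.left) = connectedComponent x ∧ IsFinite (U.ι ≫ P.hom) := by
  have hét : Etale P.hom := etale_of_isTwConst P hP
  have : IsLocallyNoetherian P.left := LocallyOfFiniteType.isLocallyNoetherian P.hom
  -- the local rings of `S` and `P` have prime nilradical
  have hSn : ∀ s : S, (nilradical (S.presheaf.stalk s)).IsPrime := fun s =>
    Groth.Agent.Lib.Helper3.EtGUSch.nilradical_isPrime_stalk_of_etale_nhd (𝟙 S) s (hS _)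
      ⟨⊤, trivial, inferInstance⟩
  have hPn : ∀ p : P.left, (nilradical (P.left.presheaf.stalk p)).IsPrime := fun p =>
    Groth.Agent.Lib.Helper3.EtGUSch.nilradical_isPrime_stalk_of_etale_nhd P.hom p (hS _)
      ⟨⊤, trivial, inferInstance⟩
  -- the connected components
  let U : P.left.Opens := ⟨connectedComponent x, isOpen_connectedComponent hPn x⟩
  let W : S.Opens := ⟨connectedComponent (P.hom.base x), isOpen_connectedComponent hSn _⟩
  refine ⟨U, rfl, ?_⟩
  have hUW : U ≤ P.hom ⁻¹ᵁ W := by
    intro p hp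
    exact P.hom.continuous.image_connectedComponent_subset x ⟨p, hp, rfl⟩
  have hWcl : IsClosedImmersion W.ι := by
    refine IsClosedImmersion.of_isPreimmersion _ ?_
    rw [Scheme.Opens.range_ι]
    exact isClosed_connectedComponent
  have hUcl : IsClosedImmersion U.ι := by
    refine IsClosedImmersion.of_isPreimmersion _ ?_
    rw [Scheme.Opens.range_ι]
    exact isClosed_connectedComponent
  -- irreducibility
  haveI : IrreducibleSpace ↥(U : Scheme.{u}) :=
    Subtype.irreducibleSpace (isIrreducible_connectedComponent hPn x)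
  haveI : IrreducibleSpace ↥(W : Scheme.{u}) :=
    Subtype.irreducibleSpace (isIrreducible_connectedComponent hSn _)
  haveI : ConnectedSpace ↥(W : Scheme.{u}) :=
    Subtype.connectedSpace isConnected_connectedComponent
  -- the base change to `W`
  let g₁ : (U : Scheme.{u}) ⟶ (W : Scheme.{u}) := P.hom.resLE W U hUW
  have hg₁ : g₁ ≫ W.ι = U.ι ≫ P.hom := Scheme.Hom.resLE_comp_ι _ _
  let z₁ : (U : Scheme.{u}) ⟶ (Red.bc W.ι P).left := pullback.lift U.ι g₁ hg₁.symm
  have hz₁fst : z₁ ≫ pullback.fst P.hom W.ι = U.ι := pullback.lift_fst _ _ _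
  have hz₁snd : z₁ ≫ (Red.bc W.ι P).hom = g₁ := pullback.lift_snd _ _ _
  haveI : IsOpenImmersion (z₁ ≫ pullback.fst P.hom W.ι) := by rw [hz₁fst]; infer_instance
  haveI : IsClosedImmersion (z₁ ≫ pullback.fst P.hom W.ι) := by rw [hz₁fst]; exact hUcl
  haveI : IsOpenImmersion z₁ := IsOpenImmersion.of_comp z₁ (pullback.fst P.hom W.ι)
  haveI : IsClosedImmersion z₁ :=
    IsClosedImmersion.of_comp_isClosedImmersion z₁ (pullback.fst P.hom W.ι)
  -- the generic fibre
  haveI : LocallyQuasiFinite (g₁ ≫ W.ι) := by
    rw [hg₁]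
    haveI : Etale (U.ι ≫ P.hom) := inferInstance
    exact Groth.Agent.Lib.Seat23.TwConstClopen.locallyQuasiFinite_of_etale _
  haveI : LocallyQuasiFinite g₁ := LocallyQuasiFinite.of_comp g₁ W.ι
  have hfin : IsFinite (z₁ ≫ (Red.bc W.ι P).hom) := by
    refine Groth.Agent.S5267.main (Red.bc W.ι P) (isTwConst_etale_bc W.ι P hP) z₁
      ⟨genericPoint ↥(W : Scheme.{u}), ?_⟩
    rw [hz₁snd]
    exact (Set.finite_singleton _).subset (generic_fibre_subset g₁)
  have hfac : U.ι ≫ P.hom = (z₁ ≫ (Red.bc W.ι P).hom) ≫ W.ι := by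
    rw [hz₁snd, hg₁]
  rw [hfac]
  infer_instance

/-- Let S be a locally Noetherian scheme all of whose local rings are geometrically unibranch, and P a
quasi-isotrivial twisted constant S-scheme (etale-locally on S isomorphic to a constant scheme).
Then every connected component of P is open, and as an open subscheme of P it is finite over S. -/
theorem result {S : Scheme.{u}} [IsLocallyNoetherian S]
    (hS : ∀ s : S, CAlg2.IsGeomUnibranch (S.presheaf.stalk s))
    (P : Over S) (hP : TwC.IsTwConst TwC.Topology.etale P) (x : P.left) :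
    ∃ U : P.left.Opens, (U : Set P.left) = connectedComponent x ∧ IsFinite (U.ι ≫ P.hom) :=
  main hS P hP x

end Groth.Agent.S5268
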