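import Groth.Statements.S5290
import Groth.Agent.Lib.Seat23CentralSub

set_option autoImplicit false
open CategoryTheory MonoidalCategory CartesianMonoidalCategory MonObj GrpObj AlgebraicGeometry
universe u
open SGA3x

namespace Groth.Agent.S5290

/-- Let S = Spec R be affine, J a nilpotent ideal of R and S₀ = Spec (R/J); let G be an arbitrary
S-group and i : H ⟶ G, i' : H' ⟶ G two sub-group-schemes (homomorphisms which are immersions) of
multiplicative type (fpqc-locally on S isomorphic, as groups, to diagonalisable groups D(M), M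
allowed to vary and taken in Type 0), with H central in G (every point of G commutes with every
point of H). If H ×_S S₀ and H' ×_S S₀ coincide as subgroups of G ×_S S₀, then H = H' as subgroups
of G: there is an isomorphism H ≅ H' compatible with i and i'. -/
theorem result {R : Type u} [CommRing R] (J : Ideal R) (hJ : IsNilpotent J)
    (G H H' : Over (Spec (CommRingCat.of R))) [GrpObj G] [GrpObj H] [GrpObj H']
    (hH : TwC.Locally (Spec (CommRingCat.of R)) TwC.Topology.fpqc (fun S' f => ∃ (M : Type) (_ : AddCommGroup M), Nonempty (Grp.mk (Red.bc f H) ≅ Grp.mk (Red.DS S' M))))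
    (hH' : TwC.Locally (Spec (CommRingCat.of R)) TwC.Topology.fpqc (fun S' f => ∃ (M : Type) (_ : AddCommGroup M), Nonempty (Grp.mk (Red.bc f H') ≅ Grp.mk (Red.DS S' M))))
    (i : H ⟶ G) [IsMonHom i] [IsImmersion i.left] (i' : H' ⟶ G) [IsMonHom i'] [IsImmersion i'.left]
    (hc : ∀ (X : Over (Spec (CommRingCat.of R))) (g : X ⟶ G) (h : X ⟶ H), g * (h ≫ i) = (h ≫ i) * g)
    (h0 : ∃ ψ : Red.bc (Spec.map (CommRingCat.ofHom (Ideal.Quotient.mk J))) H ≅ Red.bc (Spec.map (CommRingCat.ofHom (Ideal.Quotient.mk J))) H',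
      ψ.hom ≫ (Over.pullback (Spec.map (CommRingCat.ofHom (Ideal.Quotient.mk J)))).map i' = (Over.pullback (Spec.map (CommRingCat.ofHom (Ideal.Quotient.mk J)))).map i) :
    ∃ φ : H ≅ H', φ.hom ≫ i' = i := by
  obtain ⟨ψ, hψ⟩ := h0
  have hmi : Mono i := Over.mono_of_mono_left i
  have hmi' : Mono i' := Over.mono_of_mono_left i'
  -- pointwise form of the hypothesis modulo `J`
  have lift_pt : ∀ {A B : Over (Spec (CommRingCat.of R))} (a : A ⟶ G) (b : B ⟶ G)
      (χ : Red.bc (Spec.map (CommRingCat.ofHom (Ideal.Quotient.mk J))) A ⟶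
        Red.bc (Spec.map (CommRingCat.ofHom (Ideal.Quotient.mk J))) B)
      (_ : χ ≫ (Over.pullback (Spec.map (CommRingCat.ofHom (Ideal.Quotient.mk J)))).map b =
        (Over.pullback (Spec.map (CommRingCat.ofHom (Ideal.Quotient.mk J)))).map a)
      (Y : Over (Spec (CommRingCat.of R)))
      (_ : Y ⟶ Over.mk (Spec.map (CommRingCat.ofHom (Ideal.Quotient.mk J)))) (y : Y ⟶ A),
      ∃ y' : Y ⟶ B, y' ≫ b = y ≫ a := by
    intro A B a b χ hχ Y P y
    have hw : P.left ≫ Spec.map (CommRingCat.ofHom (Ideal.Quotient.mk J)) = Y.hom := Over.w P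
    have hy : y.left ≫ A.hom = P.left ≫ Spec.map (CommRingCat.ofHom (Ideal.Quotient.mk J)) := by
      rw [hw]
      exact Over.w y
    let yh : Y.left ⟶ Limits.pullback A.hom (Spec.map (CommRingCat.ofHom (Ideal.Quotient.mk J))) :=
      Limits.pullback.lift y.left P.left hy
    have hsnd : (yh ≫ χ.left) ≫ Limits.pullback.snd B.hom
        (Spec.map (CommRingCat.ofHom (Ideal.Quotient.mk J))) = P.left := by
      have h1 : χ.left ≫ Limits.pullback.snd B.hom
          (Spec.map (CommRingCat.ofHom (Ideal.Quotient.mk J))) = Limits.pullback.snd A.hom _ := Over.w χ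
      rw [Category.assoc, h1, Limits.pullback.lift_snd]
    refine ⟨Over.homMk ((yh ≫ χ.left) ≫ Limits.pullback.fst B.hom _) ?_, ?_⟩
    · rw [Category.assoc, Limits.pullback.condition, ← Category.assoc, hsnd, hw]
    · apply Over.OverMorphism.ext
      have e1 := congrArg Over.Hom.left hχ
      rw [Over.comp_left] at e1
      change ((yh ≫ χ.left) ≫ Limits.pullback.fst B.hom _) ≫ b.left = y.left ≫ a.left
      calc ((yh ≫ χ.left) ≫ Limits.pullback.fst B.hom _) ≫ b.left
          = yh ≫ χ.left ≫ ((Over.pullback (Spec.map (CommRingCat.ofHom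
              (Ideal.Quotient.mk J)))).map b).left ≫ Limits.pullback.fst G.hom _ := by
            rw [ActBC.pullback_map_left_fst]
            simp only [Category.assoc]
        _ = yh ≫ ((Over.pullback (Spec.map (CommRingCat.ofHom
              (Ideal.Quotient.mk J)))).map a).left ≫ Limits.pullback.fst G.hom _ := by
            rw [← Category.assoc χ.left, e1]
        _ = y.left ≫ a.left := by
            rw [ActBC.pullback_map_left_fst, ← Category.assoc, Limits.pullback.lift_fst]
  have H0 := lift_pt i i' ψ.hom hψ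
  have hψ' : ψ.inv ≫ (Over.pullback (Spec.map (CommRingCat.ofHom (Ideal.Quotient.mk J)))).map i =
      (Over.pullback (Spec.map (CommRingCat.ofHom (Ideal.Quotient.mk J)))).map i' := by
    rw [← hψ, Iso.inv_hom_id_assoc]
  have H0' := lift_pt i' i ψ.inv hψ'
  -- `H'` is central as well
  have hc' : ∀ (X : Over (Spec (CommRingCat.of R))) (g : X ⟶ G) (h : X ⟶ H'),
      g * (h ≫ i') = (h ≫ i') * g := by
    intro X g h
    refine (Groth.Agent.Lib.Seat23.DiagAct.central_of_fpqc
      (Spec.map (CommRingCat.ofHom (Ideal.Quotient.mk J)))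
      (Groth.Agent.Lib.Seat23.CentralSub.nilThick_specMap_mk J hJ) hH' i' ?_ X h g).symm
    intro Y P g' x
    obtain ⟨y, hy⟩ := H0' Y P g'
    rw [← hy]
    exact (hc Y x y).symm
  obtain ⟨θ, hθ⟩ := Groth.Agent.Lib.Seat23.CentralSub.exists_hom_of_central J hJ hH hH' i i' hc H0
  obtain ⟨θ', hθ'⟩ := Groth.Agent.Lib.Seat23.CentralSub.exists_hom_of_central J hJ hH' hH i' i hc' H0'
  refine ⟨⟨θ, θ', ?_, ?_⟩, hθ⟩
  · rw [← cancel_mono i, Category.assoc, hθ', hθ, Category.id_comp]
  · rw [← cancel_mono i', Category.assoc, hθ, hθ', Category.id_comp]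

end Groth.Agent.S5290
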