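import Groth.Statements.S5291
import Groth.Agent.Lib.Seat23MultIntegral
import Groth.Agent.Lib.Seat23ConjHom
import Groth.Agent.Lib.Seat23QuotBC

set_option autoImplicit false
universe u
open TensorProduct SGA3b
open SGA3b

namespace Groth.Agent.S5291

/-- Let R be a ring, I a nilpotent ideal of R, u : H₁ ⟶ H₂ a homomorphism of R-groups of multiplicative
type (H₁ = Spec A₁, H₂ = Spec A₂, u given by the bialgebra map α : A₂ → A₁), G = Spec C an affine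
R-group with C smooth over R, v : H₁ ⟶ G a homomorphism (bialgebra map β : C → A₁) and w₀ : H₂,₀ ⟶
G₀ a homomorphism over R/I (bialgebra map γ₀ : C₀ → A₂,₀) with w₀ ∘ u₀ = v₀ (the reduction of α
composed with γ₀ is the reduction of β). Then there is a homomorphism w : H₂ ⟶ G (bialgebra map γ :
C → A₂) lifting w₀ with w ∘ u = v, i.e. α ∘ γ = β. (The published statement says that the map of
homomorphism functors w ↦ w ∘ u is formally smooth, for any smooth S-group G; this row states the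
lifting property this means over an affine base, for G affine.) (Affine group schemes over an affine
base are taken in Hopf-algebra form; base change is the tensor product; a homomorphism of groups
Spec A ⟶ Spec C is a bialgebra map C → A.) -/
theorem result (R : Type u) [CommRing R] (I : Ideal R) (hI : IsNilpotent I)
    (A₁ : Type u) [CommRing A₁] [HopfAlgebra R A₁] (h₁ : IsMultType R A₁)
    (A₂ : Type u) [CommRing A₂] [HopfAlgebra R A₂] (h₂ : IsMultType R A₂) (α : A₂ →ₐc[R] A₁)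
    (C : Type u) [CommRing C] [HopfAlgebra R C] [Algebra.Smooth R C] (β : C →ₐc[R] A₁)
    (γ₀ : ((R ⧸ I) ⊗[R] C) →ₐc[R ⧸ I] ((R ⧸ I) ⊗[R] A₂))
    (h0 : ∀ c : C, Algebra.TensorProduct.map (AlgHom.id (R ⧸ I) (R ⧸ I)) (α : A₂ →ₐ[R] A₁) (γ₀ ((1 : R ⧸ I) ⊗ₜ[R] c)) =
      (1 : R ⧸ I) ⊗ₜ[R] (β c)) :
    ∃ γ : C →ₐc[R] A₂, (∀ c : C, γ₀ ((1 : R ⧸ I) ⊗ₜ[R] c) = (1 : R ⧸ I) ⊗ₜ[R] (γ c)) ∧ ∀ c : C, α (γ c) = β c := by
  classical
  obtain ⟨l₁, hl₁⟩ := Groth.Agent.Lib.Seat23.MultIntegral.exists_integral_of_isMultType R A₁ h₁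
  obtain ⟨l₂, hl₂⟩ := Groth.Agent.Lib.Seat23.MultIntegral.exists_integral_of_isMultType R A₂ h₂
  -- a lift `γ'` of `γ₀`
  let f : C →ₐ[R] (R ⧸ I) ⊗[R] A₂ :=
    ((γ₀ : ((R ⧸ I) ⊗[R] C) →ₐ[R ⧸ I] ((R ⧸ I) ⊗[R] A₂)).restrictScalars R).comp
      (Algebra.TensorProduct.includeRight : C →ₐ[R] (R ⧸ I) ⊗[R] C)
  obtain ⟨g, hg⟩ := Groth.Agent.Lib.Seat23.QuotBC.exists_algHom_lift I hI f
  have hg' : ∀ c, (1 : R ⧸ I) ⊗ₜ[R] g c = γ₀ ((1 : R ⧸ I) ⊗ₜ[R] c) := fun c => hg c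
  have hdef := Groth.Agent.Lib.Seat23.QuotBC.defect_mem_of_bialgHom I γ₀ g hg'
  obtain ⟨γ', hγ'⟩ := Groth.Agent.Lib.Seat23.LiftSmooth.exists_bialgHom_of_nilpotent l₂ hl₂.map_one
    hl₂.rid_lTensor_comul I hI g hdef
  have hγ'0 : ∀ c, γ₀ ((1 : R ⧸ I) ⊗ₜ[R] c) = (1 : R ⧸ I) ⊗ₜ[R] (γ' c) := by
    intro c
    rw [← hg']
    exact ((Groth.Agent.Lib.Seat23.QuotBC.one_tmul_eq_iff I (γ' c) (g c)).mpr (hγ' c)).symm
  -- `α ∘ γ'` and `β` agree modulo `I`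
  have hxy : ∀ c, (β : C →ₐ[R] A₁) c - ((α.comp γ' : C →ₐc[R] A₁) : C →ₐ[R] A₁) c ∈
      I • (⊤ : Submodule R A₁) := by
    intro c
    rw [← Groth.Agent.Lib.Seat23.QuotBC.one_tmul_eq_iff]
    have := h0 c
    rw [hγ'0, Algebra.TensorProduct.map_tmul, AlgHom.id_apply] at this
    exact this.symm
  obtain ⟨n, hn, hy⟩ := Groth.Agent.Lib.Seat23.ConjHom.exists_conj_of_nilpotent l₁ hl₁.map_one
    hl₁.rid_lTensor_comul I hI ((α.comp γ' : C →ₐc[R] A₁) : C →ₐ[R] A₁) (β : C →ₐ[R] A₁)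
    (Groth.Agent.Lib.Seat23.ConjHom.isComul_bialgHom _)
    (Groth.Agent.Lib.Seat23.ConjHom.isComul_bialgHom _) hxy
  have hcomul := (Groth.Agent.Lib.Seat23.ConjHom.isComul_bialgHom γ').conjAlg n
  refine ⟨hcomul.toBialgHom, ?_, ?_⟩
  · intro c
    rw [hγ'0, Groth.Agent.Lib.Seat23.ConjHom.IsComul.toBialgHom_apply]
    refine ((Groth.Agent.Lib.Seat23.QuotBC.one_tmul_eq_iff I _ _).mpr ?_).symm
    exact Groth.Agent.Lib.Seat23.ConjHom.conjAlg_sub_isIn I n (fun c => hn c) (γ' : C →ₐ[R] A₂) c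
  · intro c
    rw [Groth.Agent.Lib.Seat23.ConjHom.IsComul.toBialgHom_apply]
    have h1 := Groth.Agent.Lib.Seat23.ConjHom.comp_conjAlg (α : A₂ →ₐ[R] A₁) n (γ' : C →ₐ[R] A₂)
    have h2 := AlgHom.congr_fun h1 c
    have h3 : β c = (Groth.Agent.Lib.Seat23.ConjHom.conjAlg n
        ((α.comp γ' : C →ₐc[R] A₁) : C →ₐ[R] A₁)) c := AlgHom.congr_fun hy c
    exact h2.trans h3.symm

end Groth.Agent.S5291
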