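import Groth.Statements.S5310
import Groth.Agent.Lib.Seat24StalkShear
import Groth.Agent.Lib.Helper12Flat
import Groth.Agent.S0114

set_option autoImplicit false
universe u
open CategoryTheory CategoryTheory.Limits MonoidalCategory CartesianMonoidalCategory MonObj GrpObj AlgebraicGeometry
open SGA3

namespace Groth.Agent.S5310

/-- Let u : G → H be a homomorphism of S-group schemes, with G or H flat over S and G or H locally of
finite presentation over S. Let P be one of the properties 'flat and locally of finite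
presentation', 'smooth', 'etale', and let V be the largest open subscheme of G on which the
restriction of u has P. Then the image U of V in S is open and V is an open subgroup scheme of G
over U: V contains the unit point of every fibre of G that it meets, V is stable under the inversion
of G, and the product of a point of G ×_S G whose two projections lie in V lies in V. -/
theorem result (S : Scheme.{u}) (G H : Over S) [GrpObj G] [GrpObj H]
    (u : G ⟶ H) [IsMonHom u]
    (hfl : Flat G.hom ∨ Flat H.hom) (hfp : LocallyOfFinitePresentation G.hom ∨ LocallyOfFinitePresentation H.hom)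
    (P : MorphismProperty Scheme.{u})
    (hP : (∀ (X Y : Scheme.{u}) (f : X ⟶ Y), P f ↔ (Flat f ∧ LocallyOfFinitePresentation f)) ∨
      (∀ (X Y : Scheme.{u}) (f : X ⟶ Y), P f ↔ Smooth f) ∨ (∀ (X Y : Scheme.{u}) (f : X ⟶ Y), P f ↔ Etale f))
    (V : G.left.Opens) (hV : P (V.ι ≫ u.left)) (hmax : ∀ W : G.left.Opens, P (W.ι ≫ u.left) → W ≤ V) :
    IsOpen (G.hom.base '' (V : Set G.left)) ∧
    (∀ g ∈ V, ∀ p : ↥(𝟙_ (Over S)).left, (𝟙_ (Over S)).hom.base p = G.hom.base g → η[G].left.base p ∈ V) ∧
    (∀ g ∈ V, ι[G].left.base g ∈ V) ∧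
    (∀ z : ↥(G ⊗ G).left, (fst G G).left.base z ∈ V → (snd G G).left.base z ∈ V → μ[G].left.base z ∈ V) := by
  classical
  let Q₀ : MorphismProperty Scheme.{u} := @Flat ⊓ @LocallyOfFinitePresentation
  haveI : Q₀.IsMultiplicative :=
    { id_mem := fun X => ⟨inferInstance, inferInstance⟩
      comp_mem := fun f g hf hg => by
        have := hf.1; have := hf.2; have := hg.1; have := hg.2
        exact ⟨inferInstance, inferInstance⟩ }
  haveI : MorphismProperty.IsMultiplicative (@Smooth : MorphismProperty Scheme.{u}) :=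
    { id_mem := fun X => inferInstance
      comp_mem := fun f g hf hg => by
        have : Smooth f := hf
        have : Smooth g := hg
        infer_instance }
  -- `P` implies flat and locally of finite presentation
  have hPQ₀ : ∀ {X Y : Scheme.{u}} (f : X ⟶ Y), P f → Q₀ f := by
    intro X Y f hf
    rcases hP with hP | hP | hP
    · exact (hP _ _ f).mp hf
    · have : Smooth f := (hP _ _ f).mp hf
      exact ⟨inferInstance, inferInstance⟩
    · have : Etale f := (hP _ _ f).mp hf
      exact ⟨inferInstance, inferInstance⟩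
  -- an open of `G` flat and lfp over `H` is flat and lfp over `S`
  have hWS : ∀ W : G.left.Opens, Q₀ (W.ι ≫ u.left) → Q₀ (W.ι ≫ G.hom) := by
    intro W hW
    have hfl' : Flat (W.ι ≫ u.left) := hW.1
    have hfp' : LocallyOfFinitePresentation (W.ι ≫ u.left) := hW.2
    have e : W.ι ≫ G.hom = (W.ι ≫ u.left) ≫ H.hom := by rw [Category.assoc, Over.w u]
    refine ⟨?_, ?_⟩
    · rcases hfl with h | h
      · infer_instance
      · rw [e]; infer_instance
    · rcases hfp with h | h
      · infer_instance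
      · rw [e]; infer_instance
  have himm : ∀ {X Y : Scheme.{u}} (f : X ⟶ Y) [IsOpenImmersion f], Q₀ f :=
    fun f _ => ⟨inferInstance, inferInstance⟩
  have hopen : ∀ {X Y : Scheme.{u}} (f : X ⟶ Y), Q₀ f → IsOpenMap f := by
    intro X Y f hf
    have : Flat f := hf.1
    have : LocallyOfFinitePresentation f := hf.2
    exact f.isOpenMap
  have hdesc : ∀ {X' X Z Y : Scheme.{u}} (p : X' ⟶ X) (i : X ⟶ Z) (g : Z ⟶ Y) [IsOpenImmersion i],
      Function.Surjective p → Q₀ (p ≫ i) → Q₀ (p ≫ i ≫ g) → Q₀ (i ≫ g) := by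
    intro X' X Z Y p i g _ hp h1 h2
    have : Surjective p := ⟨hp⟩
    have : Flat (p ≫ i) := h1.1
    have : LocallyOfFinitePresentation (p ≫ i) := h1.2
    have : Flat (p ≫ i ≫ g) := h2.1
    have : LocallyOfFinitePresentation (p ≫ i ≫ g) := h2.2
    have : Flat p := MorphismProperty.of_postcomp (W := @Flat) (W' := @IsOpenImmersion) p i
      inferInstance inferInstance
    have : LocallyOfFinitePresentation p := MorphismProperty.of_postcomp
      (W := @LocallyOfFinitePresentation) (W' := @IsOpenImmersion) p i inferInstance inferInstance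
    exact ⟨Groth.Agent.Lib.Helper12.flat_of_comp_of_flat_of_surjective p (i ≫ g),
      Groth.Agent.S0114.result p (i ≫ g)⟩
  -- the flat-lfp locus
  let V₀ : G.left.Opens := Groth.Agent.Lib.Seat24.GrpLocus.locus Q₀ u.left
  have hV₀ : Q₀ (V₀.ι ≫ u.left) :=
    Groth.Agent.Lib.Seat24.GrpLocus.prop_ι_comp_of_le_locus Q₀ u.left V₀ le_rfl
  have hmax₀ : ∀ W : G.left.Opens, Q₀ (W.ι ≫ u.left) → W ≤ V₀ := fun W hW =>
    Groth.Agent.Lib.Seat24.GrpLocus.le_locus Q₀ u.left W hW
  have hV₀S : Q₀ (V₀.ι ≫ G.hom) := hWS V₀ hV₀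
  have hVS : Q₀ (V.ι ≫ G.hom) := hWS V (hPQ₀ _ hV)
  have hVV₀ : V ≤ V₀ := hmax₀ V (hPQ₀ _ hV)
  have mul₀ := Groth.Agent.Lib.Seat24.OpenSubgrp.mul_mem Q₀ G H u himm hopen hdesc V₀ hV₀ hV₀S hmax₀
  -- stability under inversion and multiplication
  have hinv : ∀ g ∈ V, ι[G].left.base g ∈ V := by
    intro g hg
    rcases hP with hP | hP | hP
    · exact Groth.Agent.Lib.Seat24.OpenSubgrp.inv_mem Q₀ G H u V ((hP _ _ _).mp hV)
        (fun W hW => hmax W ((hP _ _ _).mpr hW)) g hg
    · exact Groth.Agent.Lib.Seat24.OpenSubgrp.inv_mem @Smooth G H u V ((hP _ _ _).mp hV)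
        (fun W hW => hmax W ((hP _ _ _).mpr hW)) g hg
    · exact Groth.Agent.Lib.Seat24.OpenSubgrp.inv_mem @Etale G H u V ((hP _ _ _).mp hV)
        (fun W hW => hmax W ((hP _ _ _).mpr hW)) g hg
  have hLFP₀ : LocallyOfFinitePresentation (V₀.ι ≫ u.left) := hV₀.2
  have hFlat₀ : Flat (V₀.ι ≫ G.hom) := hV₀S.1
  have hmul : ∀ z : ↥(G ⊗ G).left, (fst G G).left.base z ∈ V → (snd G G).left.base z ∈ V →
      μ[G].left.base z ∈ V := by
    intro z h1 h2
    have hμ₀ : μ[G].left z ∈ V₀ := mul₀ z (hVV₀ h1) (hVV₀ h2)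
    rcases hP with hP | hP | hP
    · exact Groth.Agent.Lib.Seat24.OpenSubgrp.mul_mem Q₀ G H u himm hopen hdesc V
        ((hP _ _ _).mp hV) hVS (fun W hW => hmax W ((hP _ _ _).mpr hW)) z h1 h2
    · have hsm : Smooth (V.ι ≫ u.left) := (hP _ _ _).mp hV
      have hFS : (u.left.stalkMap ((fst G G).left z)).hom.FormallySmooth :=
        Groth.Agent.Lib.Helper20.FlatDesc.formallySmooth_stalkMap_of_nbhd u.left _ V h1
      have hFS' : (u.left.stalkMap (μ[G].left z)).hom.FormallySmooth :=
        (Groth.Agent.Lib.Seat24.StalkShear.stalk_mul_iff G H u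
          (fun φ => RingHom.FormallySmooth φ) RingHom.FormallySmooth.respectsIso
          Groth.Agent.Lib.Seat24.StalkShear.ptwBC_formallySmooth z V₀ V₀ V₀ (hVV₀ h1) hμ₀ (hVV₀ h2)
          hLFP₀ hLFP₀ hFlat₀).mpr hFS
      have hloc := Groth.Agent.Lib.Seat24.StalkShear.mem_locus_smooth_of_stalk u.left V₀ hLFP₀ _ hμ₀
        hFS'
      have hW : Smooth ((Groth.Agent.Lib.Seat24.GrpLocus.locus @Smooth u.left).ι ≫ u.left) :=
        Groth.Agent.Lib.Seat24.GrpLocus.prop_ι_comp_of_le_locus @Smooth u.left _ le_rfl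
      exact hmax _ ((hP _ _ _).mpr hW) hloc
    · have het : Etale (V.ι ≫ u.left) := (hP _ _ _).mp hV
      have hFS : (u.left.stalkMap ((fst G G).left z)).hom.FormallySmooth :=
        Groth.Agent.Lib.Helper20.FlatDesc.formallySmooth_stalkMap_of_nbhd u.left _ V h1
      have hFU : (u.left.stalkMap ((fst G G).left z)).hom.FormallyUnramified :=
        Groth.Agent.Lib.Helper20.EtLocal.formallyUnramified_stalkMap_of_nbhd u.left _ V h1
      have hFS' : (u.left.stalkMap (μ[G].left z)).hom.FormallySmooth :=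
        (Groth.Agent.Lib.Seat24.StalkShear.stalk_mul_iff G H u
          (fun φ => RingHom.FormallySmooth φ) RingHom.FormallySmooth.respectsIso
          Groth.Agent.Lib.Seat24.StalkShear.ptwBC_formallySmooth z V₀ V₀ V₀ (hVV₀ h1) hμ₀ (hVV₀ h2)
          hLFP₀ hLFP₀ hFlat₀).mpr hFS
      have hFU' : (u.left.stalkMap (μ[G].left z)).hom.FormallyUnramified :=
        (Groth.Agent.Lib.Seat24.StalkShear.stalk_mul_iff G H u
          (fun φ => RingHom.FormallyUnramified φ) RingHom.FormallyUnramified.respectsIso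
          Groth.Agent.Lib.Seat24.StalkShear.ptwBC_formallyUnramified z V₀ V₀ V₀ (hVV₀ h1) hμ₀
          (hVV₀ h2) hLFP₀ hLFP₀ hFlat₀).mpr hFU
      have hloc1 := Groth.Agent.Lib.Seat24.StalkShear.mem_locus_smooth_of_stalk u.left V₀ hLFP₀ _
        hμ₀ hFS'
      have hloc2 := Groth.Agent.Lib.Seat24.StalkShear.mem_locus_unram_of_stalk u.left V₀
        inferInstance _ hμ₀ hFU'
      let W : G.left.Opens := Groth.Agent.Lib.Seat24.GrpLocus.locus @Smooth u.left ⊓
        Groth.Agent.Lib.Seat24.GrpLocus.locus @FormallyUnramified u.left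
      have hW1 : Smooth (W.ι ≫ u.left) :=
        Groth.Agent.Lib.Seat24.GrpLocus.prop_ι_comp_of_le_locus @Smooth u.left W inf_le_left
      have hW2 : FormallyUnramified (W.ι ≫ u.left) :=
        Groth.Agent.Lib.Seat24.GrpLocus.prop_ι_comp_of_le_locus @FormallyUnramified u.left W
          inf_le_right
      have hW : Etale (W.ι ≫ u.left) := Etale.of_formallyUnramified_of_flat _
      exact hmax W ((hP _ _ _).mpr hW) ⟨hloc1, hloc2⟩
  refine ⟨?_, ?_, hinv, hmul⟩
  · have h1 := (hopen _ hVS).isOpen_range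
    have h2 : Set.range (V.ι ≫ G.hom) = G.hom.base '' (V : Set G.left) := by
      rw [Scheme.Hom.comp_base, TopCat.coe_comp, Set.range_comp]
      congr 1
      exact Scheme.Opens.range_ι V
    rw [← h2]
    exact h1
  · intro g hg p hp
    let z : ↥(G ⊗ G).left := (lift (𝟙 G) ι[G]).left g
    have hz1 : (fst G G).left z = g := by
      show (fst G G).left ((lift (𝟙 G) ι[G]).left g) = g
      rw [← Scheme.Hom.comp_apply, ← Over.comp_left, lift_fst]
      rfl
    have hz2 : (snd G G).left z = ι[G].left g := by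
      show (snd G G).left ((lift (𝟙 G) ι[G]).left g) = _
      rw [← Scheme.Hom.comp_apply, ← Over.comp_left, lift_snd]
    have hz3 : μ[G].left z = η[G].left p := by
      show μ[G].left ((lift (𝟙 G) ι[G]).left g) = _
      rw [← Scheme.Hom.comp_apply, ← Over.comp_left]
      have : lift (𝟙 G) ι[G] ≫ μ[G] = toUnit G ≫ η[G] := by
        have h := GrpObj.lift_comp_inv_right (𝟙 G)
        rwa [Category.id_comp] at h
      rw [this, Over.comp_left, Scheme.Hom.comp_apply]
      congr 1
      have h1 : (toUnit G).left g = G.hom g := rfl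
      rw [h1, ← hp]
      rfl
    have := hmul z (hz1 ▸ hg) (hz2 ▸ hinv g hg)
    rw [← hz3]
    exact this

end Groth.Agent.S5310
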