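import Groth.Statements.S5311
import Groth.Agent.Lib.Seat24OpenSubgrp

set_option autoImplicit false
universe u
open CategoryTheory CategoryTheory.Limits MonoidalCategory CartesianMonoidalCategory MonObj GrpObj AlgebraicGeometry
open SGA3

namespace Groth.Agent.S5311

/-- Let u : G → H be a homomorphism of S-group schemes with G or H universally open over S, and let V be
the largest open subscheme of G on which the restriction of u is universally open. Then the image U
of V in S is open and V is an open subgroup scheme of G over U: V contains the unit point of every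
fibre of G that it meets, V is stable under the inversion of G, and the product of a point of G ×_S
G whose two projections lie in V lies in V. -/
theorem result (S : Scheme.{u}) (G H : Over S) [GrpObj G] [GrpObj H]
    (u : G ⟶ H) [IsMonHom u] (hG : UniversallyOpen G.hom ∨ UniversallyOpen H.hom)
    (V : G.left.Opens) (hV : UniversallyOpen (V.ι ≫ u.left))
    (hmax : ∀ W : G.left.Opens, UniversallyOpen (W.ι ≫ u.left) → W ≤ V) :
    IsOpen (G.hom.base '' (V : Set G.left)) ∧
    (∀ g ∈ V, ∀ p : ↥(𝟙_ (Over S)).left, (𝟙_ (Over S)).hom.base p = G.hom.base g → η[G].left.base p ∈ V) ∧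
    (∀ g ∈ V, ι[G].left.base g ∈ V) ∧
    (∀ z : ↥(G ⊗ G).left, (fst G G).left.base z ∈ V → (snd G G).left.base z ∈ V → μ[G].left.base z ∈ V) := by
  classical
  -- universal openness descends along surjections of the source
  have hsrc : ∀ {X' X Y : Scheme.{u}} (p : X' ⟶ X) (f : X ⟶ Y),
      Function.Surjective p → UniversallyOpen (p ≫ f) → UniversallyOpen f := by
    intro X' X Y p f hp h
    haveI : Surjective p := ⟨hp⟩
    rw [UniversallyOpen.eq]
    intro X'' Y' i₁ i₂ f' hpb
    have h1 : IsPullback (pullback.snd p i₁) (pullback.fst p i₁) i₁ p :=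
      (IsPullback.of_hasPullback p i₁).flip
    have h2 : IsPullback (pullback.snd p i₁ ≫ f') (pullback.fst p i₁) i₂ (p ≫ f) :=
      h1.paste_horiz hpb
    have h3 : IsOpenMap (pullback.snd p i₁ ≫ f') :=
      h.universally_isOpenMap _ _ _ h2
    have h4 : Function.Surjective (pullback.snd p i₁) := by
      haveI : Surjective (pullback.snd p i₁) :=
        MorphismProperty.pullback_snd (P := @Surjective) _ _ inferInstance
      exact (pullback.snd p i₁).surjective
    show IsOpenMap f'
    intro O hO
    have : (f' : X'' → Y') '' O = (pullback.snd p i₁ ≫ f') '' ((pullback.snd p i₁) ⁻¹' O) := by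
      rw [Scheme.Hom.comp_base, TopCat.coe_comp, Set.image_comp,
        Set.image_preimage_eq _ h4]
    rw [this]
    exact h3 _ (hO.preimage (pullback.snd p i₁).continuous)
  have hdesc : ∀ {X' X Z Y : Scheme.{u}} (p : X' ⟶ X) (i : X ⟶ Z) (g : Z ⟶ Y) [IsOpenImmersion i],
      Function.Surjective p → UniversallyOpen (p ≫ i) → UniversallyOpen (p ≫ i ≫ g) →
        UniversallyOpen (i ≫ g) := by
    intro X' X Z Y p i g _ hp _ h
    exact hsrc p (i ≫ g) hp h
  have hVS : UniversallyOpen (V.ι ≫ G.hom) := by
    rcases hG with hG | hH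
    · infer_instance
    · have : V.ι ≫ G.hom = (V.ι ≫ u.left) ≫ H.hom := by rw [Category.assoc, Over.w u]
      rw [this]; infer_instance
  have himm : ∀ {X Y : Scheme.{u}} (f : X ⟶ Y) [IsOpenImmersion f], UniversallyOpen f :=
    fun f _ => inferInstance
  have hopen : ∀ {X Y : Scheme.{u}} (f : X ⟶ Y), UniversallyOpen f → IsOpenMap f :=
    fun f hf => f.isOpenMap
  refine ⟨?_, ?_, ?_, ?_⟩
  · have h1 := (V.ι ≫ G.hom).isOpenMap.isOpen_range
    have h2 : Set.range (V.ι ≫ G.hom) = G.hom.base '' (V : Set G.left) := by
      rw [Scheme.Hom.comp_base, TopCat.coe_comp, Set.range_comp]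
      congr 1
      exact Scheme.Opens.range_ι V
    rw [← h2]
    exact h1
  · intro g hg p hp
    exact Groth.Agent.Lib.Seat24.OpenSubgrp.one_mem @UniversallyOpen G H u himm hopen hdesc V hV
      hVS hmax g hg p hp
  · intro g hg
    exact Groth.Agent.Lib.Seat24.OpenSubgrp.inv_mem @UniversallyOpen G H u V hV hmax g hg
  · intro z h1 h2
    exact Groth.Agent.Lib.Seat24.OpenSubgrp.mul_mem @UniversallyOpen G H u himm hopen hdesc V hV
      hVS hmax z h1 h2

end Groth.Agent.S5311
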