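import Groth.Statements.S5318
import Groth.Agent.Lib.Seat24UnitSec

set_option autoImplicit false
universe u
open CategoryTheory CategoryTheory.Limits MonoidalCategory CartesianMonoidalCategory MonObj GrpObj AlgebraicGeometry
open SGA3

namespace Groth.Agent.S5318

/-- (ii) ⟺ (iii) and, for G locally of finite presentation over S, (ii) ⟺ (iv): let G be an S-group
scheme. The unit section of G is an open immersion if and only if G is locally of finite
presentation over S on some open containing the unit section and every fibre G_s is unramified
(formally unramified and locally of finite presentation) over κ(s). If G is locally of finite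
presentation over S, the unit section is an open immersion if and only if G is unramified over S. -/
theorem result (S : Scheme.{u}) (G : Over S) [GrpObj G] :
    (IsOpenImmersion η[G].left ↔
      ((∃ W : G.left.Opens, (∀ p : ↥(𝟙_ (Over S)).left, η[G].left.base p ∈ W) ∧ LocallyOfFinitePresentation (W.ι ≫ G.hom)) ∧
        ∀ s : S, FormallyUnramified (G.hom.fiberToSpecResidueField s) ∧ LocallyOfFinitePresentation (G.hom.fiberToSpecResidueField s))) ∧
    (LocallyOfFinitePresentation G.hom → (IsOpenImmersion η[G].left ↔ FormallyUnramified G.hom)) := by
  refine ⟨⟨?_, ?_⟩, ?_⟩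
  · intro h
    refine ⟨⟨η[G].left.opensRange, fun p => ⟨p, rfl⟩, ?_⟩, fun s => ?_⟩
    · have := Groth.Agent.Lib.Seat24.UnitSec.isIso_opensRange_unit G
      infer_instance
    · exact Groth.Agent.Lib.Seat24.UnitSec.fibre_unram_of_unit_isOpenImmersion G h s
  · rintro ⟨⟨W, hW, hlfp⟩, hfib⟩
    have := hlfp
    exact Groth.Agent.Lib.Seat24.UnitSec.isOpenImmersion_unit_of_fibres G W hW inferInstance
      fun s => (hfib s).1
  · intro hlfp
    constructor
    · intro h
      exact Groth.Agent.Lib.Seat24.UnitSec.unram_of_unit_isOpenImmersion G h
    · intro h
      exact Groth.Agent.Lib.Seat24.GrpHomLoci.isOpenImmersion_of_section G.hom η[G].left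
        (Groth.Agent.Lib.Seat24.UnitSec.unit_hom G)

end Groth.Agent.S5318
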