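import Groth.Statements.S5324
import Groth.Agent.Lib.Seat24Neutral

set_option autoImplicit false
universe u
open CategoryTheory CategoryTheory.Limits MonoidalCategory CartesianMonoidalCategory MonObj GrpObj AlgebraicGeometry
open SGA3

namespace Groth.Agent.S5324

/-- Let G be an S-group scheme whose fibres G_s are locally of finite type over κ(s) and connected. Then
G is quasi-compact over S. -/
theorem result (S : Scheme.{u}) (G : Over S) [GrpObj G]
    (hG : ∀ s : S, LocallyOfFiniteType (G.hom.fiberToSpecResidueField s))
    (hconn : ∀ s : S, _root_.IsConnected (G.hom.base ⁻¹' {s})) : QuasiCompact G.hom :=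
  Groth.Agent.Lib.Seat24.Neutral.quasiCompact_of_fibres_connected G fun s =>
    Groth.Agent.Lib.Seat24.Neutral.connectedSpace_fib_of_isConnected G s (hconn s)

end Groth.Agent.S5324
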