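import Groth.Statements.S5337
import Groth.Agent.Lib.Seat24ArtinHomog
import Groth.Agent.Lib.Seat24ThickLFP
import Groth.Agent.Lib.Seat24HomShear

set_option autoImplicit false
universe u
open CategoryTheory CategoryTheory.Limits MonoidalCategory CartesianMonoidalCategory MonObj GrpObj AlgebraicGeometry
open SGA3

namespace Groth.Agent.S5337

/-- Quasi-finite, unramified, smooth and etale cases: let A be a local artinian ring, G an A-group
scheme which is flat and locally of finite type over A, and u : G → H a homomorphism of A-group
schemes. If u is locally quasi-finite (resp. unramified, that is formally unramified and locally of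
finite presentation, resp. smooth, resp. etale) on some nonempty open subscheme of G, then u is
locally quasi-finite (resp. unramified, resp. smooth, resp. etale). (Here u is automatically locally
of finite type.) -/
theorem result (A : Type u) [CommRing A] [IsArtinianRing A] [IsLocalRing A] (G H : Over (Spec (CommRingCat.of A))) [GrpObj G] [GrpObj H]
    [Flat G.hom] [LocallyOfFiniteType G.hom] (u : G ⟶ H) [IsMonHom u] (W : G.left.Opens) (hW : (W : Set G.left).Nonempty) :
    (LocallyQuasiFinite (W.ι ≫ u.left) → LocallyQuasiFinite u.left) ∧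
    (FormallyUnramified (W.ι ≫ u.left) → LocallyOfFinitePresentation (W.ι ≫ u.left) →
      FormallyUnramified u.left ∧ LocallyOfFinitePresentation u.left) ∧
    (Smooth (W.ι ≫ u.left) → Smooth u.left) ∧ (Etale (W.ι ≫ u.left) → Etale u.left) := by
  have hw : u.left ≫ H.hom = G.hom := Over.w u
  have hlft : LocallyOfFiniteType u.left := by
    have : LocallyOfFiniteType (u.left ≫ H.hom) := by rw [hw]; infer_instance
    exact locallyOfFiniteType_of_comp u.left H.hom
  -- (L) local finite presentation spreads from a nonempty open
  have hL : LocallyOfFinitePresentation (W.ι ≫ u.left) → LocallyOfFinitePresentation u.left := by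
    intro hWfp
    let i : Spec (CommRingCat.of (IsLocalRing.ResidueField A)) ⟶ Spec (CommRingCat.of A) :=
      Spec.map (CommRingCat.ofHom (IsLocalRing.residue A))
    have hci : IsClosedImmersion i :=
      IsClosedImmersion.spec_of_surjective _ IsLocalRing.residue_surjective
    have hsub : Subsingleton (Spec (CommRingCat.of A)) :=
      inferInstanceAs (Subsingleton (PrimeSpectrum A))
    have : Surjective i :=
      ⟨fun x => ⟨IsLocalRing.closedPoint (IsLocalRing.ResidueField A), Subsingleton.elim _ _⟩⟩
    let G' : Over (Spec (CommRingCat.of (IsLocalRing.ResidueField A))) := (Over.pullback i).obj G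
    let H' : Over (Spec (CommRingCat.of (IsLocalRing.ResidueField A))) := (Over.pullback i).obj H
    letI : GrpObj G' := Functor.grpObjObj
    letI : GrpObj H' := Functor.grpObjObj
    let u' : G' ⟶ H' := (Over.pullback i).map u
    haveI : IsMonHom u' := inferInstanceAs (IsMonHom ((Over.pullback i).map u))
    have hpb := Groth.Agent.Lib.Seat24.GrpLocus.isPullback_overPullback_map G H u i
    haveI : LocallyOfFiniteType G'.hom :=
      inferInstanceAs (LocallyOfFiniteType (pullback.snd G.hom i))
    let W' : G'.left.Opens := (pullback.fst G.hom i) ⁻¹ᵁ W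
    have hne' : (W' : Set G'.left).Nonempty := by
      obtain ⟨y, hy⟩ := hW
      obtain ⟨y', hy'⟩ := (pullback.fst G.hom i).surjective y
      exact ⟨y', by rw [← hy'] at hy; exact hy⟩
    have hW' : LocallyOfFinitePresentation (W'.ι ≫ u'.left) := by
      have htop : IsPullback (pullback.fst G.hom i ∣_ W) W'.ι W.ι (pullback.fst G.hom i) :=
        isPullback_morphismRestrict _ W
      exact MorphismProperty.of_isPullback (P := @LocallyOfFinitePresentation)
        (htop.paste_vert hpb) hWfp
    have hu' : LocallyOfFinitePresentation u'.left :=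
      Groth.Agent.Lib.Seat24.GrpLocus.prop_of_nonempty_locus_field
        @LocallyOfFinitePresentation G' H' u' W' hne' hW'
    have hnil : IsNilpotent (RingHom.ker (i.app ⊤).hom) :=
      Groth.Agent.Lib.Helper22.Thick.isNilpotent_ker_app i (isAffineOpen_top _)
    have : Flat (u.left ≫ H.hom) := by rw [hw]; infer_instance
    have hsnd : LocallyOfFinitePresentation (pullback.snd u.left (pullback.fst H.hom i)) := by
      have h1 : hpb.isoPullback.inv ≫ u'.left = pullback.snd u.left (pullback.fst H.hom i) :=
        hpb.isoPullback_inv_snd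
      rw [← h1]
      infer_instance
    exact Groth.Agent.Lib.Seat24.ThickLFP.lfp_of_thickening i hnil H.hom u.left
      (pullback.fst H.hom i) (pullback.snd H.hom i) (IsPullback.of_hasPullback H.hom i)
  -- smoothness spreads from a nonempty open
  have hS : Smooth (W.ι ≫ u.left) → Smooth u.left := by
    intro hsm
    have := hsm
    have hfp : LocallyOfFinitePresentation u.left := hL inferInstance
    obtain ⟨x₀, hx₀⟩ := hW
    have h0 : x₀ ∈ u.left.smoothLocus :=
      (Groth.Agent.Lib.Seat24.GrpHomLoci.mem_smoothLocus_iff_mem_locus u.left x₀).mpr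
        ((Groth.Agent.Lib.Seat24.GrpLocus.mem_locus @Smooth u.left x₀).mpr ⟨W, hx₀, hsm⟩)
    rw [← Scheme.Hom.smoothLocus_eq_top_iff, eq_top_iff]
    intro x _
    rw [Scheme.Hom.mem_smoothLocus] at h0 ⊢
    exact (Groth.Agent.Lib.Seat24.HomShear.smooth_hom_iff_of_base_eq G H u x x₀
      (Groth.Agent.Lib.Seat24.ArtinHomog.base_eq G x x₀)).mpr h0
  have hU : FormallyUnramified (W.ι ≫ u.left) → FormallyUnramified u.left := fun hun =>
    Groth.Agent.Lib.Seat24.ArtinHomog.unram_of_nonempty_open G H u W hW hun
  refine ⟨?_, ?_, hS, ?_⟩
  · intro hqf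
    exact Groth.Agent.Lib.Seat24.ArtinHomog.lqf_of_nonempty_open G H u W hW hqf
  · intro hun hfp
    exact ⟨hU hun, hL hfp⟩
  · intro het
    rw [Groth.Agent.Lib.Helper5.FibMorLoci.etale_iff_smooth_and_unram] at het ⊢
    exact ⟨hS het.1, hU het.2⟩

end Groth.Agent.S5337
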