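import Groth.Statements.S5339
import Groth.Agent.Lib.Seat24ArtinHomog

set_option autoImplicit false
universe u
open CategoryTheory CategoryTheory.Limits MonoidalCategory CartesianMonoidalCategory MonObj GrpObj AlgebraicGeometry
open SGA3

namespace Groth.Agent.S5339

/-- Let A be a local artinian ring and G a flat A-group scheme (not assumed locally of finite type). If
G is locally quasi-finite and locally of finite type (resp. unramified, resp. smooth, resp. etale)
over A on some nonempty open subscheme, then G is locally quasi-finite and locally of finite type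
(resp. unramified, resp. smooth, resp. etale) over A. -/
theorem result (A : Type u) [CommRing A] [IsArtinianRing A] [IsLocalRing A] (G : Over (Spec (CommRingCat.of A))) [GrpObj G] [Flat G.hom]
    (W : G.left.Opens) (hW : (W : Set G.left).Nonempty) :
    (LocallyQuasiFinite (W.ι ≫ G.hom) → LocallyOfFiniteType (W.ι ≫ G.hom) → LocallyQuasiFinite G.hom ∧ LocallyOfFiniteType G.hom) ∧
    (FormallyUnramified (W.ι ≫ G.hom) → LocallyOfFinitePresentation (W.ι ≫ G.hom) →
      FormallyUnramified G.hom ∧ LocallyOfFinitePresentation G.hom) ∧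
    (Smooth (W.ι ≫ G.hom) → Smooth G.hom) ∧ (Etale (W.ι ≫ G.hom) → Etale G.hom) := by
  have hH : LocallyOfFiniteType (𝟙_ (Over (Spec (CommRingCat.of A)))).hom :=
    inferInstanceAs (LocallyOfFiniteType (𝟙 (Spec (CommRingCat.of A))))
  have hu : (toUnit G).left = G.hom := rfl
  -- everything follows once `G` is locally of finite type
  have main : LocallyOfFiniteType (W.ι ≫ G.hom) → LocallyOfFiniteType G.hom ∧
      LocallyOfFinitePresentation G.hom := by
    intro h
    have h1 := Groth.Agent.Lib.Seat24.ArtinHomog.lft_of_nonempty_open G W hW h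
    exact ⟨h1, Groth.Agent.Lib.Seat24.ArtinHomog.lfp_of_lft_of_isLocallyNoetherian G.hom⟩
  refine ⟨?_, ?_, ?_, ?_⟩
  · intro hqf hft
    obtain ⟨h1, h2⟩ := main hft
    have : LocallyOfFiniteType (toUnit G).left := h1
    exact ⟨Groth.Agent.Lib.Seat24.ArtinHomog.lqf_of_nonempty_open G _ (toUnit G) W hW hqf, h1⟩
  · intro hun hfp
    have := hfp
    obtain ⟨h1, h2⟩ := main inferInstance
    have : LocallyOfFiniteType (toUnit G).left := h1
    exact ⟨Groth.Agent.Lib.Seat24.ArtinHomog.unram_of_nonempty_open G _ (toUnit G) W hW hun, h2⟩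
  · intro hsm
    have := hsm
    obtain ⟨h1, h2⟩ := main inferInstance
    exact Groth.Agent.Lib.Seat24.ArtinHomog.smooth_of_nonempty_open G _ (toUnit G) W hW hsm
  · intro het
    have := het
    obtain ⟨h1, h2⟩ := main inferInstance
    exact Groth.Agent.Lib.Seat24.ArtinHomog.etale_of_nonempty_open G _ (toUnit G) W hW het

end Groth.Agent.S5339
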