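import Groth.Statements.S5340
import Groth.Agent.S5346
import Groth.Agent.Lib.Seat24GrpLFT

set_option autoImplicit false
universe u
open CategoryTheory CategoryTheory.Limits MonoidalCategory CartesianMonoidalCategory MonObj GrpObj AlgebraicGeometry
open SGA3

namespace Groth.Agent.S5340

/-- Let A be a local artinian ring and G an A-group scheme. If some nonempty open subscheme of G is of
finite type over A, then G is locally of finite type over A. -/
theorem result (A : Type u) [CommRing A] [IsArtinianRing A] [IsLocalRing A] (G : Over (Spec (CommRingCat.of A))) [GrpObj G]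
    (W : G.left.Opens) (hW : (W : Set G.left).Nonempty) [LocallyOfFiniteType (W.ι ≫ G.hom)] [QuasiCompact (W.ι ≫ G.hom)] :
    LocallyOfFiniteType G.hom := by
  let i : Spec (CommRingCat.of (IsLocalRing.ResidueField A)) ⟶ Spec (CommRingCat.of A) :=
    Spec.map (CommRingCat.ofHom (IsLocalRing.residue A))
  have hsub : Subsingleton (Spec (CommRingCat.of A)) :=
    inferInstanceAs (Subsingleton (PrimeSpectrum A))
  have : Surjective i :=
    ⟨fun x => ⟨IsLocalRing.closedPoint (IsLocalRing.ResidueField A), Subsingleton.elim _ _⟩⟩
  let G' : Over (Spec (CommRingCat.of (IsLocalRing.ResidueField A))) := (Over.pullback i).obj G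
  letI : GrpObj G' := Functor.grpObjObj
  let W' : G'.left.Opens := (pullback.fst G.hom i) ⁻¹ᵁ W
  have hne' : (W' : Set G'.left).Nonempty := by
    obtain ⟨y, hy⟩ := hW
    obtain ⟨y', hy'⟩ := (pullback.fst G.hom i).surjective y
    exact ⟨y', by rw [← hy'] at hy; exact hy⟩
  have hW' : LocallyOfFiniteType (W'.ι ≫ G'.hom) := by
    have htop : IsPullback (pullback.fst G.hom i ∣_ W) W'.ι W.ι (pullback.fst G.hom i) :=
      isPullback_morphismRestrict _ W
    exact MorphismProperty.of_isPullback (P := @LocallyOfFiniteType)
      (htop.paste_vert (IsPullback.of_hasPullback G.hom i)) inferInstance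
  have h := Groth.Agent.Lib.Seat24.GrpLFT.locallyOfFiniteType_of_nonempty_open G' W' hne' hW'
  exact (Groth.Agent.S5346.result A G G (𝟙 G)).1 h

end Groth.Agent.S5340
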