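import Groth.Statements.S5344
import Groth.Agent.Lib.Seat24ArtinConn

set_option autoImplicit false
universe u
open CategoryTheory CategoryTheory.Limits MonoidalCategory CartesianMonoidalCategory MonObj GrpObj AlgebraicGeometry
open SGA3

namespace Groth.Agent.S5344

/-- Let A be a local artinian ring and G an A-group scheme locally of finite type, and let G⁰ be the
connected component of the unit point. Then G⁰ is open in G; it is stable under the group law: for
every A-scheme T and all points g, h : T → G whose images lie in G⁰, the image of g h⁻¹ lies in G⁰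
(so G⁰ carries an open subgroup scheme, the neutral component); and it is normal: for every A-scheme
T, every point g : T → G and every point n : T → G whose image lies in G⁰, the image of g n g⁻¹ lies
in G⁰. -/
theorem result (A : Type u) [CommRing A] [IsArtinianRing A] [IsLocalRing A] (G : Over (Spec (CommRingCat.of A))) [GrpObj G] [LocallyOfFiniteType G.hom]
    (pt : ↥(𝟙_ (Over (Spec (CommRingCat.of A)))).left) :
    IsOpen (connectedComponent (η[G].left.base pt)) ∧
    (∀ (T : Over (Spec (CommRingCat.of A))) (g h : T ⟶ G), Set.range g.left.base ⊆ connectedComponent (η[G].left.base pt) →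
      Set.range h.left.base ⊆ connectedComponent (η[G].left.base pt) →
      Set.range (g * h⁻¹).left.base ⊆ connectedComponent (η[G].left.base pt)) ∧
    ∀ (T : Over (Spec (CommRingCat.of A))) (g n : T ⟶ G), Set.range n.left.base ⊆ connectedComponent (η[G].left.base pt) →
      Set.range (g * n * g⁻¹).left.base ⊆ connectedComponent (η[G].left.base pt) := by
  classical
  have : IsLocallyNoetherian G.left := LocallyOfFiniteType.isLocallyNoetherian G.hom
  have := Groth.Agent.Lib.Seat24.ArtinConn.locallyConnectedSpace_of_isLocallyNoetherian G.left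
  set e : G.left := η[G].left.base pt with he
  have hopen : IsOpen (connectedComponent e) := isOpen_connectedComponent
  let C : G.left.Opens := ⟨connectedComponent e, hopen⟩
  have hC : _root_.IsConnected (C : Set G.left) := isConnected_connectedComponent
  have heC : η[G].left pt ∈ C := mem_connectedComponent
  -- the constant map to the unit point
  have hunit : ∀ x : G.left, (toUnit G ≫ η[G]).left x = e := by
    intro x
    rw [Over.comp_left, Scheme.Hom.comp_apply]
    have hp : (toUnit G).left x = pt :=
      Subsingleton.elim (α := Spec (CommRingCat.of A)) _ _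
    rw [hp]
  have hunit' : ∀ p : ↥(𝟙_ (Over (Spec (CommRingCat.of A)))).left, η[G].left p = e := by
    intro p
    have hp : p = pt := Subsingleton.elim (α := Spec (CommRingCat.of A)) _ _
    rw [hp]
  -- connected components are open
  have hDopen : ∀ x : G.left, IsOpen (connectedComponent x) := fun x => isOpen_connectedComponent
  -- a preconnected set whose image contains `e` maps into the component of `e`
  have key : ∀ (c : G ⊗ G ⟶ G) (B : Set ↥(G ⊗ G).left), _root_.IsPreconnected B →
      (∃ z ∈ B, c.left z = e) → ∀ w ∈ B, c.left w ∈ connectedComponent e := by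
    intro c B hB ⟨z, hzB, hz⟩ w hw
    have h1 : _root_.IsPreconnected (c.left '' B) := hB.image _ c.left.continuous.continuousOn
    have h2 : e ∈ c.left '' B := ⟨z, hzB, hz⟩
    exact h1.subset_connectedComponent h2 ⟨w, hw, rfl⟩
  refine ⟨hopen, ?_, ?_⟩
  · intro T g h hg hh
    let d : G ⊗ G ⟶ G := fst G G * (snd G G)⁻¹
    have hd : g * h⁻¹ = lift g h ≫ d := by
      rw [MonObj.comp_mul, GrpObj.comp_inv, lift_fst, lift_snd]
    have hB := Groth.Agent.Lib.Seat24.ArtinConn.isPreconnected_box G C C hC hC pt heC
    rintro _ ⟨t, rfl⟩
    show (g * h⁻¹).left t ∈ connectedComponent e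
    rw [hd, Over.comp_left, Scheme.Hom.comp_apply]
    refine key d _ hB ?_ _ ?_
    · refine ⟨(lift η[G] η[G]).left pt, ⟨?_, ?_⟩, ?_⟩
      · show (fst G G).left ((lift η[G] η[G]).left pt) ∈ C
        rw [← Scheme.Hom.comp_apply, ← Over.comp_left, lift_fst]
        exact heC
      · show (snd G G).left ((lift η[G] η[G]).left pt) ∈ C
        rw [← Scheme.Hom.comp_apply, ← Over.comp_left, lift_snd]
        exact heC
      · rw [← Scheme.Hom.comp_apply, ← Over.comp_left]
        have : lift η[G] η[G] ≫ d = (1 : 𝟙_ (Over (Spec (CommRingCat.of A))) ⟶ G) := by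
          show lift η[G] η[G] ≫ (fst G G * (snd G G)⁻¹) = 1
          rw [MonObj.comp_mul, GrpObj.comp_inv, lift_fst, lift_snd, mul_inv_cancel]
        rw [this, Hom.one_def, Over.comp_left, Scheme.Hom.comp_apply]
        exact hunit' _
    · refine ⟨?_, ?_⟩
      · show (fst G G).left ((lift g h).left t) ∈ C
        rw [← Scheme.Hom.comp_apply, ← Over.comp_left, lift_fst]
        exact hg ⟨t, rfl⟩
      · show (snd G G).left ((lift g h).left t) ∈ C
        rw [← Scheme.Hom.comp_apply, ← Over.comp_left, lift_snd]
        exact hh ⟨t, rfl⟩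
  · intro T g n hn
    let c : G ⊗ G ⟶ G := snd G G * fst G G * (snd G G)⁻¹
    have hc : g * n * g⁻¹ = lift n g ≫ c := by
      rw [MonObj.comp_mul, MonObj.comp_mul, GrpObj.comp_inv, lift_fst, lift_snd]
    rintro _ ⟨t, rfl⟩
    show (g * n * g⁻¹).left t ∈ connectedComponent e
    rw [hc, Over.comp_left, Scheme.Hom.comp_apply]
    set w := (lift n g).left t with hw
    set x : G.left := (snd G G).left w with hx
    let D : G.left.Opens := ⟨connectedComponent x, hDopen x⟩
    have hD : _root_.IsConnected (D : Set G.left) := isConnected_connectedComponent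
    have hB := Groth.Agent.Lib.Seat24.ArtinConn.isPreconnected_box G C D hC hD pt heC
    refine key c _ hB ?_ w ?_
    · refine ⟨(lift (toUnit G ≫ η[G]) (𝟙 G)).left x, ⟨?_, ?_⟩, ?_⟩
      · show (fst G G).left ((lift (toUnit G ≫ η[G]) (𝟙 G)).left x) ∈ C
        rw [← Scheme.Hom.comp_apply, ← Over.comp_left, lift_fst, hunit]
        exact mem_connectedComponent
      · show (snd G G).left ((lift (toUnit G ≫ η[G]) (𝟙 G)).left x) ∈ D
        rw [← Scheme.Hom.comp_apply, ← Over.comp_left, lift_snd]
        exact mem_connectedComponent
      · rw [← Scheme.Hom.comp_apply, ← Over.comp_left]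
        have : lift (toUnit G ≫ η[G]) (𝟙 G) ≫ c = (1 : G ⟶ G) := by
          show lift (toUnit G ≫ η[G]) (𝟙 G) ≫ (snd G G * fst G G * (snd G G)⁻¹) = 1
          rw [MonObj.comp_mul, MonObj.comp_mul, GrpObj.comp_inv, lift_fst, lift_snd,
            ← Hom.one_def, _root_.mul_one, mul_inv_cancel]
        rw [this, Hom.one_def]
        exact hunit x
    · refine ⟨?_, ?_⟩
      · show (fst G G).left ((lift n g).left t) ∈ C
        rw [← Scheme.Hom.comp_apply, ← Over.comp_left, lift_fst]
        exact hn ⟨t, rfl⟩
      · show (snd G G).left w ∈ D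
        exact mem_connectedComponent

end Groth.Agent.S5344
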