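import Groth.Statements.S5349
import Groth.Agent.Lib.Seat24Homog

set_option autoImplicit false
universe u
open CategoryTheory CategoryTheory.Limits MonoidalCategory CartesianMonoidalCategory MonObj GrpObj AlgebraicGeometry
open SGA3

namespace Groth.Agent.S5349

/-- Let G be a group scheme over a field k (not assumed of finite type) acting on an irreducible
k-scheme X so that the morphism G ×_k X → X ×_k X, (g, x) ↦ (gx, x), is surjective. Then X is
quasi-compact. -/
theorem result (k : Type u) [Field k] (G X : Over (Spec (CommRingCat.of k))) [GrpObj G] (a : AlgGrp.Action G X) (hΦ : Surjective (lift a.act (snd G X)).left)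
    [IrreducibleSpace X.left] : CompactSpace X.left := by
  open Groth.Agent.Lib.Seat24.Homog Groth.Agent.Lib.Helper25.IdComp Groth.Agent.Lib.Helper25.IdComp0 in
  have hZ : (Set.univ : Set X.left) ∈ irreducibleComponents X.left :=
    ⟨IrreducibleSpace.isIrreducible_univ _, fun _ _ _ => Set.subset_univ _⟩
  have hξ : IsGenericPoint (genericPoint X.left) (Set.univ : Set X.left) := genericPoint_spec _
  -- a nonempty affine open
  obtain ⟨_, ⟨(U : X.left.Opens), hUaff, rfl⟩, hξU, -⟩ :=
    X.left.isBasis_affineOpens.exists_subset_of_mem_open (Set.mem_univ (genericPoint X.left))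
      isOpen_univ
  have hUaff : IsAffineOpen U := hUaff
  have huniv : sat a (U : Set X.left) = Set.univ := by
    apply Set.eq_univ_of_forall
    intro y
    exact (mem_sat_iff a).mpr ⟨genericPoint X.left, hξU,
      (R_genericPoint a hΦ.surj hZ hξ (Set.mem_univ y)).symm⟩
  have hq := quasiCompact_snd_G0 (G := G) (X := X)
  have hK : IsCompact ((snd (G0 G) X).left ⁻¹' (U : Set X.left)) :=
    QuasiCompact.isCompact_preimage (f := (snd (G0 G) X).left) _ U.isOpen hUaff.isCompact
  rw [← isCompact_univ_iff, ← huniv, sat_eq_image_m]
  exact hK.image (m a).left.continuous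

end Groth.Agent.S5349
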