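import Groth.Statements.S5353
import Groth.Agent.Lib.Seat24UnitSec
import Groth.Agent.Lib.Helper12Flat

set_option autoImplicit false
universe u
open CategoryTheory CategoryTheory.Limits MonoidalCategory CartesianMonoidalCategory MonObj GrpObj AlgebraicGeometry
open SGA3

namespace Groth.Agent.S5353

/-- Let A be a local artinian ring, G an A-group scheme which is flat and locally of finite type, i : G⁰
→ G an open subgroup scheme whose image is the connected component of the unit (the neutral
component), and p : G → Q a homomorphism of A-group schemes which is surjective, flat and locally of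
finite presentation with kernel G⁰ (Q is the quotient of G by G⁰). Then Q is etale over A. -/
theorem result (A : Type u) [CommRing A] [IsArtinianRing A] [IsLocalRing A] (G0 G Q : Over (Spec (CommRingCat.of A))) [GrpObj G0] [GrpObj G] [GrpObj Q]
    [Flat G.hom] [LocallyOfFiniteType G.hom] (i : G0 ⟶ G) [IsMonHom i] [IsOpenImmersion i.left]
    (pt : ↥(𝟙_ (Over (Spec (CommRingCat.of A)))).left) (hi : Set.range i.left.base = connectedComponent (η[G].left.base pt))
    (p : G ⟶ Q) [IsMonHom p] [Surjective p.left] [Flat p.left] [LocallyOfFinitePresentation p.left]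
    (hK : AlgGrp.IsKernel i p) : Etale Q.hom := by
  -- the unit section of `Q` is an open immersion, by fppf descent along `p`
  have hpb := Groth.Agent.Lib.Seat24.GrpHomLoci.isPullback_kernel G Q p G0 i hK
  have hη : IsOpenImmersion η[Q].left :=
    MorphismProperty.of_isPullback_of_descendsAlong (P := @IsOpenImmersion)
      (Q := @Surjective ⊓ @Flat ⊓ @LocallyOfFinitePresentation) hpb
      ⟨⟨inferInstance, inferInstance⟩, inferInstance⟩ inferInstance
  let W : Q.left.Opens := η[Q].left.opensRange
  have hne : (W : Set Q.left).Nonempty := ⟨η[Q].left pt, ⟨pt, rfl⟩⟩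
  have hiso : IsIso (W.ι ≫ Q.hom) := Groth.Agent.Lib.Seat24.UnitSec.isIso_opensRange_unit Q
  have hlft : LocallyOfFiniteType Q.hom :=
    Groth.Agent.Lib.Seat24.ArtinHomog.lft_of_nonempty_open Q W hne inferInstance
  have hlfp : LocallyOfFinitePresentation Q.hom :=
    Groth.Agent.Lib.Seat24.ArtinHomog.lfp_of_lft_of_isLocallyNoetherian Q.hom
  have hfl : Flat Q.hom := by
    have : Flat (p.left ≫ Q.hom) := by rw [Over.w p]; infer_instance
    exact Groth.Agent.Lib.Helper12.flat_of_comp_of_flat_of_surjective p.left Q.hom
  have hH : LocallyOfFiniteType (𝟙_ (Over (Spec (CommRingCat.of A)))).hom :=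
    inferInstanceAs (LocallyOfFiniteType (𝟙 (Spec (CommRingCat.of A))))
  exact Groth.Agent.Lib.Seat24.ArtinHomog.etale_of_nonempty_open Q _ (toUnit Q) W hne
    (inferInstanceAs (Etale (W.ι ≫ Q.hom)))

end Groth.Agent.S5353
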