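import Groth.Statements.S5371
import Groth.Agent.Lib.Seat24FppfSrc
import Groth.Agent.Lib.Seat24CoverDescent
import Groth.Agent.Lib.Seat24OpenSubgrp
import Groth.Agent.Lib.Helper12Flat

set_option autoImplicit false
universe u
open CategoryTheory CategoryTheory.Limits MonoidalCategory CartesianMonoidalCategory MonObj GrpObj AlgebraicGeometry
open SGA3

namespace Groth.Agent.S5371

/-- Let u : G' → G be a monomorphism of S-group schemes and p : G → G'' a morphism of S-schemes which is
covering for the fpqc topology (some Z → G'' which is flat, surjective, with every affine open of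
G'' the image of a quasi-compact open of Z, factors through p) and such that the square (g, h) ↦
g·u(h), first projection G ×_S G' → G, p, p is cartesian, so that G'' represents the fpqc quotient
sheaf G/G'. (xii) G' is flat and locally of finite presentation over S if and only if p is
surjective, flat and locally of finite presentation; in that case, if G is locally of finite
presentation (resp. locally of finite type, of finite type, smooth, etale, unramified, locally
quasi-finite) over S, so is G''. (xiii) If G' is flat and of finite presentation over S then p is of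
finite presentation, and G is of finite presentation over S if and only if G'' is. -/
theorem result (S : Scheme.{u}) (G G' G'' : Over S) [GrpObj G] [GrpObj G']
    (u : G' ⟶ G) [IsMonHom u] [Mono u] (p : G ⟶ G'')
    (hcov : (∃ (Z : Scheme.{u}) (q : Z ⟶ G''.left) (r : Z ⟶ G.left), r ≫ p.left = q ∧ Surjective q ∧ Flat q ∧
        ∀ V : G''.left.Opens, IsAffineOpen V → ∃ W : Z.Opens, IsCompact (W : Set Z) ∧ q.base '' (W : Set Z) = (V : Set G''.left)))
    (hsq : IsPullback ((G ◁ u) ≫ μ[G]) (fst G G') p p) :
    ((Flat G'.hom ∧ LocallyOfFinitePresentation G'.hom) ↔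
      (Surjective p.left ∧ Flat p.left ∧ LocallyOfFinitePresentation p.left)) ∧
    (Flat p.left → LocallyOfFinitePresentation p.left →
      (LocallyOfFinitePresentation G.hom → LocallyOfFinitePresentation G''.hom) ∧
      (LocallyOfFiniteType G.hom → LocallyOfFiniteType G''.hom) ∧
      (LocallyOfFiniteType G.hom → QuasiCompact G.hom → QuasiCompact G''.hom) ∧
      (Smooth G.hom → Smooth G''.hom) ∧ (Etale G.hom → Etale G''.hom) ∧
      (FormallyUnramified G.hom → LocallyOfFinitePresentation G.hom → FormallyUnramified G''.hom) ∧
      (LocallyQuasiFinite G.hom → LocallyOfFiniteType G.hom → LocallyQuasiFinite G''.hom)) ∧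
    (Flat G'.hom → LocallyOfFinitePresentation G'.hom → QuasiCompact G'.hom → QuasiSeparated G'.hom →
      QuasiCompact p.left ∧ QuasiSeparated p.left ∧ LocallyOfFinitePresentation p.left ∧
      ((LocallyOfFinitePresentation G.hom ∧ QuasiCompact G.hom ∧ QuasiSeparated G.hom) ↔
        (LocallyOfFinitePresentation G''.hom ∧ QuasiCompact G''.hom ∧ QuasiSeparated G''.hom))) := by
  classical
  obtain ⟨Z, q, r, hrq, hqs, hqf, hqc⟩ := hcov
  -- the square of schemes
  have hsq' : IsPullback ((G ◁ u) ≫ μ[G]).left (fst G G').left p.left p.left := by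
    have := IsPullback.map (Over.forget S) hsq
    simpa using this
  set a : (G ⊗ G').left ⟶ G.left := ((G ◁ u) ≫ μ[G]).left with ha
  set pr : (G ⊗ G').left ⟶ G.left := (fst G G').left with hpr
  have hprbc : IsPullback (snd G G').left pr G'.hom G.hom :=
    Groth.Agent.Lib.Seat24.OpenSubgrp.isPullback_fst G G'
  have hpsurj : Surjective p.left := by
    refine ⟨fun y => ?_⟩
    obtain ⟨z, rfl⟩ := q.surjective y
    exact ⟨r z, by rw [← Scheme.Hom.comp_apply, hrq]⟩
  have hw : p.left ≫ G''.hom = G.hom := Over.w p
  -- the base change of `p` along the covering `q`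
  have sqB : IsPullback (pullback.fst r pr) (pullback.snd r pr ≫ a) q p.left := by
    have h1 := (IsPullback.of_hasPullback r pr).paste_vert hsq'.flip
    rwa [hrq] at h1
  -- descent of properties of the first projection to `p`
  have hdesc : ∀ (P : MorphismProperty Scheme.{u}) [IsZariskiLocalAtTarget P]
      [P.IsStableUnderBaseChange]
      [P.DescendsAlong (@Surjective ⊓ @Flat ⊓ @QuasiCompact)], P pr → P p.left := by
    intro P _ _ _ hP
    exact Groth.Agent.Lib.Seat24.CoverDescent.descends_of_cover P sqB hqc
      (MorphismProperty.pullback_fst (P := P) r pr hP)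
  have hflat_p : Flat pr → Flat p.left := by
    intro hprf
    have h1 : Flat (pullback.fst r pr) := MorphismProperty.pullback_fst (P := @Flat) r pr hprf
    have h2 : Flat (pullback.snd r pr ≫ a) := MorphismProperty.of_isPullback (P := @Flat) sqB hqf
    have h3 : Surjective (pullback.snd r pr ≫ a) :=
      MorphismProperty.of_isPullback (P := @Surjective) sqB hqs
    have h4 : Flat ((pullback.snd r pr ≫ a) ≫ p.left) := by
      rw [← sqB.w]; infer_instance
    exact Groth.Agent.Lib.Helper12.flat_of_comp_of_flat_of_surjective (pullback.snd r pr ≫ a) p.left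
  -- properties of `G'` pass to the first projection
  have hbc : ∀ (P : MorphismProperty Scheme.{u}) [P.IsStableUnderBaseChange], P G'.hom → P pr :=
    fun P _ h => MorphismProperty.of_isPullback (P := P) hprbc h
  refine ⟨⟨?_, ?_⟩, ?_, ?_⟩
  · -- (xii) ⇒
    rintro ⟨hfl, hfp⟩
    exact ⟨hpsurj, hflat_p (hbc @Flat hfl),
      hdesc @LocallyOfFinitePresentation (hbc @LocallyOfFinitePresentation hfp)⟩
  · -- (xii) ⇐
    rintro ⟨-, hfl, hfp⟩
    have h1 : Flat pr := MorphismProperty.of_isPullback (P := @Flat) hsq' hfl
    have h2 : LocallyOfFinitePresentation pr :=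
      MorphismProperty.of_isPullback (P := @LocallyOfFinitePresentation) hsq' hfp
    -- `G' → S` is the base change of the first projection along the unit section
    let e : G'.left ⟶ (G ⊗ G').left := (lift (toUnit G' ≫ η[G]) (𝟙 G')).left
    have he1 : e ≫ (snd G G').left = 𝟙 _ := by
      rw [← Over.comp_left, lift_snd]; rfl
    have he2 : e ≫ pr = G'.hom ≫ η[G].left := by
      rw [hpr, ← Over.comp_left, lift_fst, Over.comp_left]; rfl
    have hη : η[G].left ≫ G.hom = 𝟙 S := by
      simp
    have outer : IsPullback (e ≫ (snd G G').left) G'.hom G'.hom (η[G].left ≫ G.hom) := by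
      rw [he1, hη]
      exact IsPullback.of_horiz_isIso ⟨by simp⟩
    have left : IsPullback e G'.hom pr η[G].left := IsPullback.of_right outer he2 hprbc
    exact ⟨MorphismProperty.of_isPullback (P := @Flat) left h1,
      MorphismProperty.of_isPullback (P := @LocallyOfFinitePresentation) left h2⟩
  · -- permanence
    intro hfl hfp
    refine ⟨?_, ?_, ?_, ?_, ?_, ?_, ?_⟩
    · intro h
      have : LocallyOfFinitePresentation (p.left ≫ G''.hom) := by rw [hw]; exact h
      exact Groth.Agent.S0114.result p.left G''.hom
    · intro h
      have : LocallyOfFiniteType (p.left ≫ G''.hom) := by rw [hw]; exact h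
      exact Groth.Agent.Lib.Seat24.FppfSrc.lft_of_fppf_cover_source p.left G''.hom
    · intro _ h
      have : QuasiCompact (p.left ≫ G''.hom) := by rw [hw]; exact h
      exact Groth.Agent.Lib.Seat24.FppfSrc.quasiCompact_of_surjective_comp p.left G''.hom
    · intro h
      have : Smooth (p.left ≫ G''.hom) := by rw [hw]; exact h
      exact Groth.Agent.S0115.result p.left G''.hom
    · intro h
      have : Etale (p.left ≫ G''.hom) := by rw [hw]; exact h
      exact Groth.Agent.Lib.Seat24.FppfSrc.etale_of_fppf_cover_source p.left G''.hom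
    · intro h h'
      have : FormallyUnramified (p.left ≫ G''.hom) := by rw [hw]; exact h
      have : LocallyOfFiniteType (p.left ≫ G''.hom) := by rw [hw]; infer_instance
      exact Groth.Agent.Lib.Seat24.FppfSrc.unram_of_fppf_cover_source p.left G''.hom
    · intro h h'
      have : LocallyQuasiFinite (p.left ≫ G''.hom) := by rw [hw]; exact h
      have : LocallyOfFiniteType (p.left ≫ G''.hom) := by rw [hw]; exact h'
      exact Groth.Agent.Lib.Seat24.FppfSrc.lqf_of_fppf_cover_source p.left G''.hom
  · -- (xiii)
    intro hfl hfp hqcG' hqsG'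
    have hpfl : Flat p.left := hflat_p (hbc @Flat hfl)
    have hpfp : LocallyOfFinitePresentation p.left :=
      hdesc @LocallyOfFinitePresentation (hbc @LocallyOfFinitePresentation hfp)
    have hpqc : QuasiCompact p.left := hdesc @QuasiCompact (hbc @QuasiCompact hqcG')
    have hpqs : QuasiSeparated p.left := hdesc @QuasiSeparated (hbc @QuasiSeparated hqsG')
    refine ⟨hpqc, hpqs, hpfp, ⟨?_, ?_⟩⟩
    · rintro ⟨h1, h2, h3⟩
      have i1 : LocallyOfFinitePresentation (p.left ≫ G''.hom) := by rw [hw]; exact h1
      have i2 : QuasiCompact (p.left ≫ G''.hom) := by rw [hw]; exact h2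
      have i3 : QuasiSeparated (p.left ≫ G''.hom) := by rw [hw]; exact h3
      refine ⟨Groth.Agent.S0114.result p.left G''.hom,
        Groth.Agent.Lib.Seat24.FppfSrc.quasiCompact_of_surjective_comp p.left G''.hom, ?_⟩
      -- quasi-separatedness of `G''`
      have sqD := pullback_map_diagonal_isPullback p.left p.left G''.hom
      set δ := pullback.map p.left p.left (p.left ≫ G''.hom) (p.left ≫ G''.hom) (𝟙 _) (𝟙 _) G''.hom
        (Category.id_comp _).symm (Category.id_comp _).symm with hδ
      set T := pullback.map (p.left ≫ G''.hom) (p.left ≫ G''.hom) G''.hom G''.hom p.left p.left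
        (𝟙 _) (Category.comp_id _) (Category.comp_id _) with hT
      have hT' : (@Surjective ⊓ @Flat ⊓ @QuasiCompact : MorphismProperty Scheme.{u}) T :=
        MorphismProperty.pullbackMap (P := @Surjective ⊓ @Flat ⊓ @QuasiCompact)
          ⟨⟨hpsurj, hpfl⟩, hpqc⟩ ⟨⟨hpsurj, hpfl⟩, hpqc⟩ rfl rfl
      have hδ1 : δ ≫ pullback.fst (p.left ≫ G''.hom) (p.left ≫ G''.hom) =
          pullback.fst p.left p.left := by
        rw [hδ]
        unfold pullback.map
        rw [pullback.lift_fst, Category.comp_id]
      have : QuasiCompact (δ ≫ pullback.fst (p.left ≫ G''.hom) (p.left ≫ G''.hom)) := by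
        rw [hδ1]; infer_instance
      have : QuasiCompact δ :=
        QuasiCompact.of_comp δ (pullback.fst (p.left ≫ G''.hom) (p.left ≫ G''.hom))
      have hdiag : QuasiCompact (pullback.diagonal G''.hom) :=
        MorphismProperty.of_isPullback_of_descendsAlong (P := @QuasiCompact)
          (Q := @Surjective ⊓ @Flat ⊓ @QuasiCompact) sqD.flip hT' this
      exact ⟨hdiag⟩
    · rintro ⟨h1, h2, h3⟩
      rw [← hw]
      exact ⟨inferInstance, inferInstance, inferInstance⟩

end Groth.Agent.S5371
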