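import Groth.Statements.S5403
import Groth.Agent.Lib.Seat24HomogBC

set_option autoImplicit false
universe u
open CategoryTheory CategoryTheory.Limits MonoidalCategory CartesianMonoidalCategory MonObj GrpObj AlgebraicGeometry
open SGA3

namespace Groth.Agent.S5403

/-- Let G be a group scheme over a field k (not assumed of finite type) acting on a quasi-separated
k-scheme X so that G ×_k X → X ×_k X, (g, x) ↦ (gx, x), is surjective, and let x be a k-rational
point of X and C the connected component of X containing x. Then the orbit morphism g ↦ g·x maps the
irreducible component of G containing the unit point (the underlying set of the neutral component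
G⁰) onto C, and for every field extension K of k the inverse image of C in X ⊗_k K is irreducible. -/
theorem result (k : Type u) [Field k] (G X : Over (Spec (CommRingCat.of k)))
    [GrpObj G] [QuasiSeparatedSpace X.left] (a : AlgGrp.Action G X) (hΦ : Surjective (lift a.act (snd G X)).left)
    (x : 𝟙_ (Over (Spec (CommRingCat.of k))) ⟶ X) (pt : ↥(𝟙_ (Over (Spec (CommRingCat.of k)))).left)
    (C0 : Set G.left) (hC0 : C0 ∈ irreducibleComponents ↥G.left) (he : η[G].left.base pt ∈ C0) :
    (a.orbitMap x).left.base '' C0 = connectedComponent (x.left.base pt) ∧
    ∀ (K : Type u) [Field K] [Algebra k K],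
      IsIrreducible ((pullback.fst X.hom (Spec.map (CommRingCat.ofHom (algebraMap k K)))).base ⁻¹' connectedComponent (x.left.base pt)) := by
  open Groth.Agent.Lib.Seat24.Homog Groth.Agent.Lib.Seat24.HomogBC Groth.Agent.Lib.Helper25.IdComp in
  have he' : ePt G ∈ C0 := by
    have : ePt G = η[G].left.base pt := by
      rw [ePt]; congr 1; exact Subsingleton.elim (α := Spec (CommRingCat.of k)) _ _
    rw [this]; exact he
  have hC : C0 = connectedComponent (ePt G) :=
    eq_connectedComponent_of_mem_irreducibleComponents hC0 he'
  subst hC
  have hcc : connectedComponent (x.left.base pt) = irreducibleComponent (x.left.base pt) :=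
    connectedComponent_eq_irreducibleComponent a hΦ.surj _
  rw [hcc]
  refine ⟨image_orbitMap_C0 a x pt hΦ.surj, ?_⟩
  intro K _ _
  have : IrreducibleSpace ↥(Spec (CommRingCat.of K)) := inferInstance
  exact isIrreducible_preimage_of_rational a x pt hΦ.surj
    (irreducibleComponent_mem_irreducibleComponents _) mem_irreducibleComponent
    (Spec.map (CommRingCat.ofHom (algebraMap k K)))

end Groth.Agent.S5403
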