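import Groth.Statements.S5432
import Groth.Agent.Lib.Seat24HopfUnits

set_option autoImplicit false
universe u
open TensorProduct
open SGA3t2b

namespace Groth.Agent.S5432

/-- Let k be a field, C a finitely generated commutative Hopf algebra which is formally smooth with no
idempotents other than 0 and 1 and unipotent in the fixed-vector sense (a smooth connected unipotent
algebraic group U), and B a commutative Hopf algebra of multiplicative type (isomorphic to a group
algebra after a faithfully flat extension of k; the group H, not assumed of finite type). Then every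
morphism of k-schemes U → H is constant: every k-algebra map f : B → C satisfies f(b) = ε_C(f(b)) ·
1. -/
theorem result (k : Type u) [Field k] (C B : Type u) [CommRing C] [HopfAlgebra k C] [Algebra.FiniteType k C]
    [Algebra.FormallySmooth k C] (hconn : ∀ e : C, IsIdempotentElem e → e = 0 ∨ e = 1)
    (hU : HopfRep.IsUnipotent k C) [CommRing B] [HopfAlgebra k B]
    (hB : SGA3b.IsMultTypeConst k B) (f : B →ₐ[k] C) :
    ∀ b : B, f b = algebraMap k C (Bialgebra.counitAlgHom k C (f b)) := by
  obtain ⟨R', _, _, hff, M, _, ⟨φ⟩⟩ := hB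
  have : Nontrivial R' := by
    have := Module.FaithfullyFlat.lTensor_nontrivial k R' k
    exact (TensorProduct.rid k R').symm.toEquiv.nontrivial
  obtain ⟨m, hm⟩ := Ideal.exists_maximal R'
  let _ : Field (R' ⧸ m) := Ideal.Quotient.field m
  let K := AlgebraicClosure (R' ⧸ m)
  let ψ : R' →ₐ[k] K := (IsScalarTower.toAlgHom k (R' ⧸ m) K).comp (Ideal.Quotient.mkₐ k m)
  -- the base change of `C`
  have : IsReduced (K ⊗[k] C) :=
    Groth.Agent.Lib.Seat24.HopfUnits.isReduced_baseChange_of_formallySmooth k K C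
  have : PreconnectedSpace (PrimeSpectrum (K ⊗[k] C)) :=
    Groth.Agent.Lib.Seat24.HopfUnits.preconnectedSpace_baseChange k K C hconn
      (Bialgebra.counitAlgHom k C)
  have hUK : HopfRep.IsUnipotent K (K ⊗[k] C) :=
    Groth.Agent.Lib.Helper25.UnipUniv.isUnipotent_baseChange' k K C hU
  have hunit : ∀ u : K ⊗[k] C, IsUnit u → ∃ c : K, u = algebraMap K (K ⊗[k] C) c := fun u hu =>
    ⟨_, Groth.Agent.Lib.Seat24.HopfUnits.unit_eq_algebraMap_counit hUK u hu⟩
  let fK : K ⊗[k] B →ₐ[K] K ⊗[k] C := Algebra.TensorProduct.map (AlgHom.id K K) f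
  let θ : R' ⊗[k] B →ₐ[k] K ⊗[k] B := Algebra.TensorProduct.map ψ (AlgHom.id k B)
  let L : R' ⊗[k] B →+* K ⊗[k] C := (fK : K ⊗[k] B →+* K ⊗[k] C).comp (θ : R' ⊗[k] B →+* K ⊗[k] B)
  have hLr : ∀ (r : R') (z : R' ⊗[k] B), L (r • z) = algebraMap K (K ⊗[k] C) (ψ r) * L z := by
    intro r z
    have h1 : r • z = (r ⊗ₜ[k] (1 : B)) * z := by
      induction z using TensorProduct.induction_on with
      | zero => simp
      | tmul a b => simp [TensorProduct.smul_tmul']
      | add a b ha hb => rw [smul_add, mul_add, ha, hb]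
    rw [h1, map_mul]
    congr 1
    simp [L, θ, fK, Algebra.TensorProduct.algebraMap_apply]
  -- the submodule of elements mapped to constants
  let N : Submodule R' (R' ⊗[k] B) :=
    { carrier := {z | ∃ c : K, L z = algebraMap K (K ⊗[k] C) c}
      add_mem' := by
        rintro a b ⟨c, hc⟩ ⟨d, hd⟩
        exact ⟨c + d, by rw [map_add, hc, hd, map_add]⟩
      zero_mem' := ⟨0, by rw [map_zero, map_zero]⟩
      smul_mem' := by
        rintro r z ⟨c, hc⟩
        exact ⟨ψ r * c, by rw [hLr, hc, map_mul]⟩ }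
  have hN : ∀ z : R' ⊗[k] B, z ∈ N := by
    intro z
    let φa : MonoidAlgebra R' M ≃ₐ[R'] R' ⊗[k] B := φ.toAlgEquiv.symm
    obtain ⟨x, rfl⟩ := φa.surjective z
    induction x using MonoidAlgebra.induction_on with
    | of g =>
      have hu : IsUnit (MonoidAlgebra.of R' M g) := (Group.isUnit g).map (MonoidAlgebra.of R' M)
      have hu2 : IsUnit (φa (MonoidAlgebra.of R' M g)) := hu.map φa
      exact hunit _ (hu2.map L)
    | add x y hx hy =>
      rw [map_add]
      exact N.add_mem hx hy
    | smul r x hx =>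
      rw [map_smul]
      exact N.smul_mem r hx
  intro b
  obtain ⟨c, hc⟩ := hN ((1 : R') ⊗ₜ[k] b)
  have hL : L ((1 : R') ⊗ₜ[k] b) = (1 : K) ⊗ₜ[k] f b := by
    simp [L, θ, fK]
  rw [hL] at hc
  -- apply `id ⊗ ε`
  let E : K ⊗[k] C →ₐ[K] K := (Algebra.TensorProduct.rid k K K).toAlgHom.comp
    (Algebra.TensorProduct.map (AlgHom.id K K) (Bialgebra.counitAlgHom k C))
  have hE := congrArg E hc
  have hE1 : E ((1 : K) ⊗ₜ[k] f b) = algebraMap k K (Bialgebra.counitAlgHom k C (f b)) := by
    simp [E, Algebra.algebraMap_eq_smul_one]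
  rw [hE1, AlgHom.commutes] at hE
  have hc' : (1 : K) ⊗ₜ[k] f b =
      (1 : K) ⊗ₜ[k] (algebraMap k C (Bialgebra.counitAlgHom k C (f b))) := by
    rw [hc, Algebra.TensorProduct.algebraMap_apply, ← hE]
    change algebraMap k K (Bialgebra.counitAlgHom k C (f b)) ⊗ₜ[k] (1 : C) = _
    rw [Algebra.algebraMap_eq_smul_one, Algebra.algebraMap_eq_smul_one, TensorProduct.smul_tmul]
  exact Algebra.TensorProduct.includeRight_injective (R := k) (A := K) (B := C)
    (algebraMap k K).injective hc'

end Groth.Agent.S5432
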