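import Groth.Statements.S5434
import Groth.Agent.Lib.Helper12SchDenseExt
import Mathlib.AlgebraicGeometry.Morphisms.Immersion
import Mathlib.AlgebraicGeometry.PullbackCarrier

set_option autoImplicit false
universe u
open CategoryTheory MonoidalCategory CartesianMonoidalCategory MonObj GrpObj AlgebraicGeometry CategoryTheory.Limits
open SGA3x

namespace Groth.Agent.S5434

/-- Schematic density descends along an isomorphism. -/
theorem isSchematicallyDense_of_isIso {P X : Scheme.{u}} (p : P ⟶ X) [IsIso p] (U : X.Opens)
    (hU : CInt.IsSchematicallyDense (p ⁻¹ᵁ U)) : CInt.IsSchematicallyDense U := by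
  intro V
  have h1 := hU (p ⁻¹ᵁ V)
  have hbij : Function.Injective (p.app V) :=
    (ConcreteCategory.bijective_of_isIso (p.app V)).1
  have hcomp : Function.Injective
      (X.presheaf.map (homOfLE (inf_le_left : V ⊓ U ≤ V)).op ≫ p.app (V ⊓ U)) := by
    have hnat : X.presheaf.map (homOfLE (inf_le_left : V ⊓ U ≤ V)).op ≫ p.app (V ⊓ U) =
        p.app V ≫ P.presheaf.map
          (homOfLE (inf_le_left : p ⁻¹ᵁ V ⊓ p ⁻¹ᵁ U ≤ p ⁻¹ᵁ V)).op :=
      p.naturality _
    rw [hnat]
    exact h1.comp hbij
  simp only [CommRingCat.hom_comp, RingHom.coe_comp] at hcomp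
  exact Function.Injective.of_comp hcomp

/-- Let X be an S-scheme and U an open subscheme of X which is schematically dense in X relative to S:
for every S′ → S the preimage of U in X ×_S S′ is schematically dense (restriction of functions to
it is injective on every open). Let Y be an S-scheme whose fibres Y_s are separated (over κ(s)). If
two S-morphisms f, g : X → Y agree on U, then f = g. -/
theorem result (S : Scheme.{u}) (X Y : Over S) (U : X.left.Opens) (hU : (∀ (S' : Scheme.{u}) (g : S' ⟶ S), CInt.IsSchematicallyDense ((pullback.fst X.hom g) ⁻¹ᵁ U)))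
    (hY : ∀ s : S, IsSeparated (pullback.snd Y.hom (S.fromSpecResidueField s)))
    (f g : X ⟶ Y) (h : U.ι ≫ f.left = U.ι ≫ g.left) : f = g := by
  ext1
  -- Step 1: `f` and `g` agree on every fibre.
  have hfib : ∀ s : S, pullback.fst X.hom (S.fromSpecResidueField s) ≫ f.left =
      pullback.fst X.hom (S.fromSpecResidueField s) ≫ g.left := by
    intro s
    have hs := hY s
    have key : pullback.map X.hom (S.fromSpecResidueField s) Y.hom (S.fromSpecResidueField s)
          f.left (𝟙 _) (𝟙 _) (by simp) (by simp) =
        pullback.map X.hom (S.fromSpecResidueField s) Y.hom (S.fromSpecResidueField s)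
          g.left (𝟙 _) (𝟙 _) (by simp) (by simp) := by
      refine Groth.Agent.Lib.Helper12.SchDense.ext_of_isSchematicallyDense
        (pullback.snd Y.hom (S.fromSpecResidueField s))
        (by simp only [pullback.map, pullback.lift_snd])
        ((pullback.fst X.hom (S.fromSpecResidueField s)) ⁻¹ᵁ U) (hU _ _) ?_
      apply pullback.hom_ext
      · simp only [Category.assoc, pullback.lift_fst, pullback.map]
        rw [← morphismRestrict_ι_assoc, ← morphismRestrict_ι_assoc, h]
      · simp only [Category.assoc, pullback.lift_snd, pullback.map]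
    have := congrArg (fun t => t ≫ pullback.fst Y.hom (S.fromSpecResidueField s)) key
    simpa only [pullback.map, pullback.lift_fst] using this
  -- Step 2: the equalizer of `f` and `g` is a surjective immersion, hence a closed immersion.
  have hsurj : Function.Surjective (equalizer.ι f.left g.left).base := by
    intro x
    obtain ⟨y⟩ : Nonempty (Spec (S.residueField (X.hom x))) := inferInstance
    obtain ⟨x', hx', -⟩ := Scheme.Pullback.exists_preimage_pullback (f := X.hom)
      (g := S.fromSpecResidueField (X.hom x)) x y
      (by rw [Scheme.fromSpecResidueField_apply])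
    refine ⟨(equalizer.lift (pullback.fst X.hom (S.fromSpecResidueField (X.hom x)))
      (hfib _)) x', ?_⟩
    rw [← Scheme.Hom.comp_apply, equalizer.lift_ι, hx']
  have hcl : IsClosedImmersion (equalizer.ι f.left g.left) :=
    .of_isPreimmersion _ (by rw [Set.range_eq_univ.2 hsurj]; exact isClosed_univ)
  -- Step 3: `U` is schematically dense in `X`, so the equalizer is everything.
  have hUX : CInt.IsSchematicallyDense U := by
    exact isSchematicallyDense_of_isIso (pullback.fst X.hom (𝟙 S)) U (hU S (𝟙 S))
  have := Groth.Agent.Lib.Helper12.SchDense.isIso_of_isSchematicallyDense_factors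
    (equalizer.ι f.left g.left) U hUX (equalizer.lift U.ι h) (equalizer.lift_ι _ _)
  rw [← cancel_epi (equalizer.ι f.left g.left)]
  exact equalizer.condition _ _

end Groth.Agent.S5434
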