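import Groth.Statements.S5435
import Groth.Agent.Lib.Seat24FibreDenseMul
import Groth.Agent.Lib.Helper3GrpFibDim

set_option autoImplicit false
universe u
open CategoryTheory MonoidalCategory CartesianMonoidalCategory MonObj GrpObj AlgebraicGeometry CategoryTheory.Limits
open SGA3x

namespace Groth.Agent.S5435

/-- Let G be an S-group scheme, flat and locally of finite presentation over S, U an open subscheme of G
schematically dense in G relative to S (after every base change), and H an S-group scheme. Then a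
homomorphism G → H is determined by its restriction to U: two homomorphisms f, g : G → H with the
same restriction to U are equal. (No separatedness of H is needed. The published statement allows H
to be any sheaf of groups for the fppf topology; this row takes H a group scheme.) -/
theorem result (S : Scheme.{u}) (G H : Over S) [GrpObj G] [GrpObj H] [Flat G.hom] [LocallyOfFinitePresentation G.hom]
    (U : G.left.Opens) (hU : (∀ (S' : Scheme.{u}) (g : S' ⟶ S), CInt.IsSchematicallyDense ((pullback.fst G.hom g) ⁻¹ᵁ U)))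
    (f g : G ⟶ H) [IsMonHom f] [IsMonHom g] (h : U.ι ≫ f.left = U.ι ≫ g.left) : f = g := by
  -- `U` is dense in every fibre
  have hd : ∀ x : G.left, Dense ((pullback.fst G.hom (S.fromSpecResidueField (G.hom x))) ⁻¹'
      (U : Set G.left)) := fun x =>
    Groth.Agent.Lib.Seat24.FibreDenseMul.dense_of_forall_injective
      ((pullback.fst G.hom (S.fromSpecResidueField (G.hom x))) ⁻¹ᵁ U) (hU _ _)
  let UU : (G ⊗ G).left.Opens := (fst G G).left ⁻¹ᵁ U ⊓ (snd G G).left ⁻¹ᵁ U
  let m : UU.toScheme ⟶ G.left := UU.ι ≫ μ[G].left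
  have hsurj : Surjective m := ⟨fun x => by
    obtain ⟨z, h1, h2, h3⟩ :=
      Groth.Agent.Lib.Seat24.FibreDenseMul.exists_mul_eq_of_fibre_dense G U U x (hd x) (hd x)
    exact ⟨⟨z, h1, h2⟩, h3⟩⟩
  have hflat : Flat m := by
    have hμ : μ[G] = (Groth.Agent.Lib.Helper3.GrpFibDim.shearIso' G).hom ≫ fst G G := by
      simp [Groth.Agent.Lib.Helper3.GrpFibDim.shearIso',
        Groth.Agent.Lib.Helper3.GrpFibDim.fst_mul_snd]
    have h1 : Flat (fst G G).left := by
      rw [Over.fst_left]; infer_instance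
    have h2 : IsIso (Groth.Agent.Lib.Helper3.GrpFibDim.shearIso' G).hom.left := inferInstance
    have h3 : Flat μ[G].left := by
      rw [hμ, Over.comp_left]; infer_instance
    infer_instance
  have : Epi m := Flat.epi_of_flat_of_surjective m
  -- the two homomorphisms agree on `U × U`
  let UU' : Over S := Over.mk (UU.ι ≫ (G ⊗ G).hom)
  let jUU : UU' ⟶ G ⊗ G := Over.homMk UU.ι rfl
  have hr1 : Set.range (UU.ι ≫ (fst G G).left) ⊆ Set.range U.ι := by
    rw [Scheme.Opens.range_ι]
    rintro _ ⟨z, rfl⟩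
    exact z.2.1
  have hr2 : Set.range (UU.ι ≫ (snd G G).left) ⊆ Set.range U.ι := by
    rw [Scheme.Opens.range_ι]
    rintro _ ⟨z, rfl⟩
    exact z.2.2
  have e1 : UU.ι ≫ (fst G G).left ≫ f.left = UU.ι ≫ (fst G G).left ≫ g.left := by
    have hl := IsOpenImmersion.lift_fac U.ι (UU.ι ≫ (fst G G).left) hr1
    calc UU.ι ≫ (fst G G).left ≫ f.left
        = (IsOpenImmersion.lift U.ι (UU.ι ≫ (fst G G).left) hr1 ≫ U.ι) ≫ f.left := by
          rw [hl, Category.assoc]
      _ = IsOpenImmersion.lift U.ι (UU.ι ≫ (fst G G).left) hr1 ≫ (U.ι ≫ g.left) := by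
          rw [Category.assoc, h]
      _ = _ := by rw [← Category.assoc, hl, Category.assoc]
  have e2 : UU.ι ≫ (snd G G).left ≫ f.left = UU.ι ≫ (snd G G).left ≫ g.left := by
    have hl := IsOpenImmersion.lift_fac U.ι (UU.ι ≫ (snd G G).left) hr2
    calc UU.ι ≫ (snd G G).left ≫ f.left
        = (IsOpenImmersion.lift U.ι (UU.ι ≫ (snd G G).left) hr2 ≫ U.ι) ≫ f.left := by
          rw [hl, Category.assoc]
      _ = IsOpenImmersion.lift U.ι (UU.ι ≫ (snd G G).left) hr2 ≫ (U.ι ≫ g.left) := by
          rw [Category.assoc, h]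
      _ = _ := by rw [← Category.assoc, hl, Category.assoc]
  have key : jUU ≫ (f ⊗ₘ f) = jUU ≫ (g ⊗ₘ g) := by
    apply CartesianMonoidalCategory.hom_ext
    · rw [Category.assoc, Category.assoc, tensorHom_fst, tensorHom_fst]
      ext1
      simpa [jUU] using e1
    · rw [Category.assoc, Category.assoc, tensorHom_snd, tensorHom_snd]
      ext1
      simpa [jUU] using e2
  ext1
  rw [← cancel_epi m]
  have hf : μ[G] ≫ f = (f ⊗ₘ f) ≫ μ[H] := IsMonHom.mul_hom f
  have hg : μ[G] ≫ g = (g ⊗ₘ g) ≫ μ[H] := IsMonHom.mul_hom g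
  have hf' : μ[G].left ≫ f.left = (f ⊗ₘ f).left ≫ μ[H].left := by
    rw [← Over.comp_left, hf, Over.comp_left]
  have hg' : μ[G].left ≫ g.left = (g ⊗ₘ g).left ≫ μ[H].left := by
    rw [← Over.comp_left, hg, Over.comp_left]
  have key' : UU.ι ≫ (f ⊗ₘ f).left = UU.ι ≫ (g ⊗ₘ g).left := by
    have := congrArg Over.Hom.left key
    simpa [jUU] using this
  change (UU.ι ≫ μ[G].left) ≫ f.left = (UU.ι ≫ μ[G].left) ≫ g.left
  rw [Category.assoc, Category.assoc, hf', hg', ← Category.assoc, key', Category.assoc]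

end Groth.Agent.S5435
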