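import Groth.Statements.S5592
import Groth.Agent.Lib.Seat13SepClosedSite

set_option autoImplicit false
open CategoryTheory CategoryTheory.Limits AlgebraicGeometry Opposite
universe u
open EtDesc

namespace Groth.Agent.S5592

/-- Global sections of sheaves of sets on the small étale site. -/
noncomputable abbrev Γs (X : Scheme.{u}) : EtDesc.Sh X ⥤ Type (u + 1) :=
  (sheafSections X.smallEtaleTopology (Type (u + 1))).obj (op (EtCoh.top X))

/-- `f_*` followed by global sections is global sections. -/
noncomputable def pushΓIso {X Y : Scheme.{u}} (f : X ⟶ Y) :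
    EtDesc.pushSh f ⋙ Γs Y ≅ Γs X :=
  NatIso.ofComponents (fun F => F.obj.mapIso (EtCore.bcTopIso f).op.symm) (fun {F G} φ => by
    simp only [Functor.comp_map, Functor.mapIso_hom, Iso.symm_hom]
    exact (φ.hom.naturality _).symm)

/-- Let k' be a separably closed extension field of a separably closed field k and u : Spec k' -> Spec k
the canonical morphism. Then the inverse image functor u^* from etale sheaves of sets on Spec k to
etale sheaves of sets on Spec k' is an equivalence of categories. -/
theorem result (k k' : Type u) [Field k] [IsSepClosed k]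
    [Field k'] [IsSepClosed k'] [Algebra k k'] :
    (EtDesc.pullSh (Spec.map (CommRingCat.ofHom (algebraMap k k')))).IsEquivalence := by
  have h1 : (Γs (Spec (CommRingCat.of k))).IsEquivalence :=
    Groth.Agent.Lib.Seat13.SepClosedSite.sections_isEquivalence k
  have h2 : (Γs (Spec (CommRingCat.of k'))).IsEquivalence :=
    Groth.Agent.Lib.Seat13.SepClosedSite.sections_isEquivalence k'
  have h3 : (EtDesc.pushSh (Spec.map (CommRingCat.ofHom (algebraMap k k'))) ⋙
      Γs (Spec (CommRingCat.of k))).IsEquivalence :=
    Functor.isEquivalence_of_iso (pushΓIso (Spec.map (CommRingCat.ofHom (algebraMap k k')))).symm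
  have h4 : (EtDesc.pushSh (Spec.map (CommRingCat.ofHom (algebraMap k k')))).IsEquivalence :=
    Functor.isEquivalence_of_comp_right _ (Γs (Spec (CommRingCat.of k)))
  exact (EtDesc.adjSh (Spec.map (CommRingCat.ofHom (algebraMap k k')))).isEquivalence_left_of_isEquivalence_right

end Groth.Agent.S5592
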