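import Groth.Statements.S5625
import Groth.Agent.Lib.Helper2PullbackSec
import Groth.Agent.Lib.Helper23QCohLocal

set_option autoImplicit false
universe u
open CategoryTheory AlgebraicGeometry
open QCohCat

namespace Groth.Agent.S5625

/-- Let f : X ⟶ Y be a morphism of quasi-compact quasi-separated schemes and Q_X, Q_Y coherators (right
adjoints of the inclusions QCoh ⥤ Mod) on X and Y. Then Q_Y ∘ f_* and f_* ∘ Q_X agree: the two
composite functors Mod(O_X) ⥤ Mod(O_Y) are naturally isomorphic (existence of a natural isomorphism;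
the source's isomorphism is the canonical one between two right adjoints of the same functor). -/
theorem result {X Y : Scheme.{u}} [CompactSpace X] [QuasiSeparatedSpace X]
    [CompactSpace Y] [QuasiSeparatedSpace Y] (f : X ⟶ Y)
    (QX : X.Modules ⥤ QCohCat.QCoh X) (adjX : (QCohCat.isQCoh X).ι ⊣ QX)
    (QY : Y.Modules ⥤ QCohCat.QCoh Y) (adjY : (QCohCat.isQCoh Y).ι ⊣ QY) :
    Nonempty ((QX ⋙ (QCohCat.isQCoh X).ι ⋙ Scheme.Modules.pushforward f) ≅
      (Scheme.Modules.pushforward f ⋙ QY ⋙ (QCohCat.isQCoh Y).ι)) := by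
  classical
  let PX := QCohCat.isQCoh X
  let PY := QCohCat.isQCoh Y
  -- pushforward and pullback restricted to quasi-coherent modules
  let fpush : QCohCat.QCoh X ⥤ QCohCat.QCoh Y :=
    PY.lift (PX.ι ⋙ Scheme.Modules.pushforward f) (fun F => by
      have : F.obj.IsQuasicoherent := F.property
      exact Groth.Agent.Lib.Helper23.QCohLocal.isQuasicoherent_pushforward f F.obj)
  let fpull : QCohCat.QCoh Y ⥤ QCohCat.QCoh X :=
    PX.lift (PY.ι ⋙ Scheme.Modules.pullback f) (fun G => by
      have : G.obj.IsQuasicoherent := G.property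
      exact Groth.Agent.Lib.Helper2.PullbackSec.isQuasicoherent_pullback f G.obj)
  let adjq : fpull ⊣ fpush :=
    (Scheme.Modules.pullbackPushforwardAdjunction f).restrictFullyFaithful
      PY.fullyFaithfulι PX.fullyFaithfulι (Iso.refl _) (Iso.refl _)
  let adj1 : (PY.ι ⋙ Scheme.Modules.pullback f) ⊣ (Scheme.Modules.pushforward f ⋙ QY) :=
    adjY.comp (Scheme.Modules.pullbackPushforwardAdjunction f)
  let adj2 : (fpull ⋙ PX.ι) ⊣ (QX ⋙ fpush) := adjq.comp adjX
  let adj2' : (PY.ι ⋙ Scheme.Modules.pullback f) ⊣ (QX ⋙ fpush) :=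
    adj2.ofNatIsoLeft (Iso.refl _)
  let e : (QX ⋙ fpush) ≅ (Scheme.Modules.pushforward f ⋙ QY) := adj2'.rightAdjointUniq adj1
  exact ⟨(Functor.associator QX fpush PY.ι).symm ≪≫ Functor.isoWhiskerRight e PY.ι ≪≫
    Functor.associator _ _ _⟩

end Groth.Agent.S5625
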