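import Groth.Statements.S5642
import Groth.Agent.Lib.Seat96K0Len

set_option autoImplicit false
universe u
open CategoryTheory CategoryTheory.Limits AlgebraicGeometry
open Classical
open SGA6

namespace Groth.Agent.S5642

/-- Let X be a Noetherian scheme, K the Grothendieck group of coherent O_X-modules and Filt_m ⊆ K the
subgroup generated by the classes of coherent modules whose support has dimension ≤ m. Let F be
coherent with dim Supp(F) ≤ n. Then for the points x of X whose closure Z(x) has dimension n the
stalk F_x has finite length, nonzero for only finitely many such x, and [F] ≡ Σ_x length(F_x)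
[O_{Z(x)}] modulo Filt_{n-1}, where O_{Z(x)} is the structure sheaf of the reduced closed subscheme
Z(x) viewed as an O_X-module. -/
theorem result (X : Scheme.{u}) [IsNoetherian X] (n : ℕ) (F : X.Modules) (hF : Coh.IsCoh F)
    (hsupp : topologicalKrullDim ↥(CohB1.support F) ≤ n) :
    KZero.clSub (fun M : X.Modules => Coh.IsCoh M) F -
        (finsum fun x : ↥X => if topologicalKrullDim ↥(closure ({x} : Set ↥X)) = n then
          (Module.length (X.presheaf.stalk x) (F.presheaf.stalk x)).toNat • KZero.clSub (fun M : X.Modules => Coh.IsCoh M) (Cyc.closureStructureSheaf x) else 0) ∈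
      AddSubgroup.closure {c : KZero.K0sub (fun M : X.Modules => Coh.IsCoh M) |
        ∃ G : X.Modules, Coh.IsCoh G ∧ topologicalKrullDim ↥(CohB1.support G) < n ∧ c = KZero.clSub (fun M : X.Modules => Coh.IsCoh M) G} := by
  have hcl : IsClosed (CohB1.support F) := Groth.Agent.S0020.result X F hF.2
  have hdimle : ∀ y ∈ CohB1.support F, topologicalKrullDim ↥(closure ({y} : Set ↥X)) ≤ n := by
    intro y hy
    have hsub : closure ({y} : Set ↥X) ⊆ CohB1.support F :=
      hcl.closure_subset_iff.2 (Set.singleton_subset_iff.2 hy)
    exact (Topology.IsEmbedding.inclusion hsub).isInducing.topologicalKrullDim_le.trans hsupp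
  have hT : ∀ t : ↥X, topologicalKrullDim ↥(closure ({t} : Set ↥X)) = n → ∀ y ∈ CohB1.support F,
      t ∈ closure ({y} : Set ↥X) → y = t := by
    intro t ht y hy hty
    by_contra hne
    have hsub : closure ({t} : Set ↥X) ⊆ closure ({y} : Set ↥X) :=
      closure_minimal (Set.singleton_subset_iff.2 hty) isClosed_closure
    have hne' : closure ({t} : Set ↥X) ≠ closure ({y} : Set ↥X) := by
      intro h
      exact hne ((inseparable_iff_closure_eq.2 h).eq).symm
    have h1 := Groth.Agent.Lib.Seat96.K0Len.topologicalKrullDim_add_one_le hsub isClosed_closure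
      isIrreducible_singleton.closure hne'
    rw [ht] at h1
    have h2 : ((n + 1 : ℕ) : WithBot ℕ∞) ≤ (n : ℕ) := by
      push_cast
      exact h1.trans (hdimle y hy)
    have h3 : n + 1 ≤ n := by exact_mod_cast h2
    omega
  obtain ⟨c, h1, h2, h3⟩ := Groth.Agent.Lib.Seat96.K0Len.main
    (fun x : ↥X => topologicalKrullDim ↥(closure ({x} : Set ↥X)) = n) (CohB1.support F) hcl hT
    (AddSubgroup.closure {c : KZero.K0sub (fun M : X.Modules => Coh.IsCoh M) |
        ∃ G : X.Modules, Coh.IsCoh G ∧ topologicalKrullDim ↥(CohB1.support G) < n ∧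
          c = KZero.clSub (fun M : X.Modules => Coh.IsCoh M) G})
    (by
      intro y hy hny
      refine AddSubgroup.subset_closure ⟨Cyc.closureStructureSheaf y,
        Groth.Agent.Lib.Seat96.K0Len.isCoh_closureStructureSheaf y, ?_, rfl⟩
      rw [Groth.Agent.Lib.Seat96.K0Len.support_closureStructureSheaf]
      exact lt_of_le_of_ne (hdimle y hy) hny)
    F hF le_rfl
  rw [Groth.Agent.Lib.Seat96.K0Len.finsum_eq _ F c h1 h2]
  exact h3

end Groth.Agent.S5642
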