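import Groth.Statements.S5643
import Groth.Agent.Lib.Seat96K0Dev

set_option autoImplicit false
universe u
open CategoryTheory CategoryTheory.Limits AlgebraicGeometry
open Classical
open SGA6

namespace Groth.Agent.S5643

/-- Let X be a Noetherian scheme and K the Grothendieck group of coherent O_X-modules. For every n, the
subgroup of K generated by the classes of coherent modules whose support has dimension ≤ n coincides
with the subgroup generated by the classes [O_Z] of the structure sheaves (as O_X-modules) of the
integral closed subschemes Z ⊆ X of dimension ≤ n, Z running over the reduced closures of points of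
X. -/
theorem result (X : Scheme.{u}) [IsNoetherian X] (n : ℕ) :
    AddSubgroup.closure {c : KZero.K0sub (fun M : X.Modules => Coh.IsCoh M) |
        ∃ G : X.Modules, Coh.IsCoh G ∧ topologicalKrullDim ↥(CohB1.support G) ≤ n ∧ c = KZero.clSub (fun M : X.Modules => Coh.IsCoh M) G} =
      AddSubgroup.closure {c : KZero.K0sub (fun M : X.Modules => Coh.IsCoh M) |
        ∃ x : ↥X, topologicalKrullDim ↥(closure ({x} : Set ↥X)) ≤ n ∧ c = KZero.clSub (fun M : X.Modules => Coh.IsCoh M) (Cyc.closureStructureSheaf x)} := by
  set P : ObjectProperty X.Modules := fun M : X.Modules => Coh.IsCoh M with hPdef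
  have hPz : ∀ M : X.Modules, IsZero M → P M := fun M hM => Groth.Agent.Lib.Seat21.Dev.isCoh_of_isZero hM
  have hPiso : ∀ M N : X.Modules, (M ≅ N) → P M → P N :=
    fun M N e hM => Groth.Agent.Lib.Seat21.Dev.isCoh_of_iso e hM
  -- the structure sheaf of the reduced closure of a point
  have hOcoh : ∀ x : X, Coh.IsCoh (Cyc.closureStructureSheaf x) := fun x =>
    Groth.Agent.Lib.Seat21.Dev.isCoh_quotMod
      (Scheme.IdealSheafData.vanishingIdeal ⟨closure {x}, isClosed_closure⟩)
  have hOsupp : ∀ x : X, CohB1.support (Cyc.closureStructureSheaf x) = closure {x} := fun x =>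
    Groth.Agent.Lib.Seat96.SerreCoh.support_quotMod_vanishingIdeal (X := X) (Z := closure {x}) isClosed_closure
  apply le_antisymm
  · rw [AddSubgroup.closure_le]
    rintro c ⟨G, hG, hdim, rfl⟩
    set H : AddSubgroup (KZero.K0sub P) := AddSubgroup.closure {c : KZero.K0sub P |
        ∃ x : ↥X, topologicalKrullDim ↥(closure ({x} : Set ↥X)) ≤ n ∧
          c = KZero.clSub P (Cyc.closureStructureSheaf x)} with hH
    have hyp := Groth.Agent.Lib.Seat96.K0Dev.hyp_clSub_mem P (CohB1.support G) hPz hPiso
      (fun S _ h1 h2 h3 _ => ⟨h1, h2, h3⟩) H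
    have hcl : IsClosed (CohB1.support G) := Groth.Agent.S0020.result X G hG.2
    refine Groth.Agent.Lib.Seat21.Dev.core hyp hcl ?_ G hG le_rfl
    intro Z hZ _ hZG y hy _
    subst hy
    refine ⟨Cyc.closureStructureSheaf y, hOcoh y, ?_, (hOsupp y).le, ?_⟩
    · refine AddSubgroup.subset_closure ⟨y, ?_, rfl⟩
      exact (Topology.IsEmbedding.inclusion hZG).isInducing.topologicalKrullDim_le.trans hdim
    · intro F' hF' hF'Z hF'1
      exact ⟨F', hF', hF'Z, hF'1.nonempty_linearEquiv
        (Groth.Agent.Lib.Seat21.Dev.rankOne_quotMod isClosed_closure rfl), id⟩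
  · rw [AddSubgroup.closure_le]
    rintro c ⟨x, hdim, rfl⟩
    refine AddSubgroup.subset_closure ⟨Cyc.closureStructureSheaf x, hOcoh x, ?_, rfl⟩
    rw [hOsupp x]
    exact hdim

end Groth.Agent.S5643
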