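import Groth.Statements.S5720
import Groth.Agent.Lib.Seat25AzSplit
import Groth.Agent.Lib.Helper7AzFib

set_option autoImplicit false
universe u v
open TensorProduct
open Dix

namespace Groth.Agent.S5720

/-- (ii) ⇒ (iii), over an affine base X = Spec R. Let A be an Azumaya algebra over the commutative ring
R and p a prime ideal of R. Then there exist f ∈ R with f ∉ p, a finite étale and faithfully flat
R_f-algebra R' (a finite étale surjective cover of the neighbourhood D(f) of p) and an integer r ≥ 1
such that R' ⊗_R A is isomorphic as an R'-algebra to the matrix algebra M_r(R'). (Existence of the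
isomorphism only.) -/
theorem result (R : Type u) [CommRing R] (A : Type u) [Ring A] [Algebra R A] [IsAzumaya R A] (p : Ideal R) [p.IsPrime] : ∃ f : R, f ∉ p ∧ ∃ (R' : Type u) (_ : CommRing R') (_ : Algebra R R') (_ : Algebra (Localization.Away f) R') (_ : IsScalarTower R (Localization.Away f) R'), Module.Finite (Localization.Away f) R' ∧ Algebra.Etale (Localization.Away f) R' ∧ Module.FaithfullyFlat (Localization.Away f) R' ∧ ∃ r : ℕ, 1 ≤ r ∧ Nonempty ((R' ⊗[R] A) ≃ₐ[R'] Matrix (Fin r) (Fin r) R') := by
  classical
  obtain ⟨r, hr, a, α, Q, hQ, hdeg, hQa, hd, χ, s, hs, h1, h2⟩ :=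
    Groth.Agent.Lib.Seat25.AzSplit.exists_local_data R A p
  set d := Polynomial.resultant Q (Polynomial.derivative Q) with hd'
  have hf : d * s ∉ p := fun h => (Ideal.IsPrime.mem_or_mem ‹_› h).elim hd hs
  refine ⟨d * s, hf, ?_⟩
  have hfu : IsUnit (algebraMap R (Localization.Away (d * s)) (d * s)) :=
    IsLocalization.Away.algebraMap_isUnit (d * s)
  have hdu : IsUnit (algebraMap R (Localization.Away (d * s)) d) :=
    isUnit_of_dvd_unit (map_dvd _ ⟨s, rfl⟩) hfu
  have hsu : IsUnit (algebraMap R (Localization.Away (d * s)) s) :=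
    isUnit_of_dvd_unit (map_dvd _ ⟨d, mul_comm d s⟩) hfu
  have hnt : Nontrivial (Localization.Away (d * s)) := by
    have hu : IsUnit (algebraMap R (Localization.AtPrime p) (d * s)) :=
      IsLocalization.map_units (Localization.AtPrime p) (⟨d * s, hf⟩ : p.primeCompl)
    exact (IsLocalization.Away.lift (S := Localization.Away (d * s)) (d * s) hu).domain_nontrivial
  have hQT : (Q.map (algebraMap R (Localization.Away (d * s)))).Monic := hQ.map _
  have hdegT : (Q.map (algebraMap R (Localization.Away (d * s)))).natDegree = r := by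
    rw [hQ.natDegree_map, hdeg]
  have hcop := Groth.Agent.Lib.Seat25.AzSpread.isCoprime_map_of_isUnit_resultant
    (algebraMap R (Localization.Away (d * s))) Q (by omega) hdu
  have hEt := Groth.Agent.Lib.Seat25.MonicEt.etale_adjoinRoot _ hQT hcop
  have hfin : Module.Finite (Localization.Away (d * s))
      (AdjoinRoot (Q.map (algebraMap R (Localization.Away (d * s))))) := hQT.finite_adjoinRoot
  have hfree : Module.Free (Localization.Away (d * s))
      (AdjoinRoot (Q.map (algebraMap R (Localization.Away (d * s))))) := hQT.free_adjoinRoot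
  have hntE : Nontrivial (AdjoinRoot (Q.map (algebraMap R (Localization.Away (d * s))))) := by
    apply Module.nontrivial_of_finrank_pos (R := Localization.Away (d * s))
    rw [(AdjoinRoot.powerBasis' hQT).finrank, AdjoinRoot.powerBasis'_dim, hdegT]
    exact hr
  have hff : Module.FaithfullyFlat (Localization.Away (d * s))
      (AdjoinRoot (Q.map (algebraMap R (Localization.Away (d * s))))) := inferInstance
  have hAz : IsAzumaya (Localization.Away (d * s)) (Localization.Away (d * s) ⊗[R] A) :=
    Groth.Agent.Lib.LeadAzumaya.isAzumaya_baseChange _ A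
  obtain ⟨B, hB⟩ := Groth.Agent.Lib.Seat25.AzSpread.exists_basis_baseChange
    (Localization.Away (d * s)) _ χ s hsu h1 h2
  have haT : Polynomial.aeval ((1 : Localization.Away (d * s)) ⊗ₜ[R] a)
      (Q.map (algebraMap R (Localization.Away (d * s)))) = 0 := by
    rw [Groth.Agent.Lib.Seat25.AzMaxEt.aeval_one_tmul', hQa, TensorProduct.tmul_zero]
  obtain ⟨e⟩ := Groth.Agent.Lib.Seat25.AzSplit.nonempty_algEquiv_matrix_adjoinRoot
    (Localization.Away (d * s)) (Localization.Away (d * s) ⊗[R] A) r hr
    ((1 : Localization.Away (d * s)) ⊗ₜ[R] a) ((1 : Localization.Away (d * s)) ⊗ₜ[R] α)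
    (Q.map (algebraMap R (Localization.Away (d * s)))) hQT hdegT haT B (by
      intro ij
      rw [hB, Algebra.TensorProduct.tmul_pow, Algebra.TensorProduct.tmul_pow, one_pow, one_pow,
        Algebra.TensorProduct.tmul_mul_tmul, Algebra.TensorProduct.tmul_mul_tmul, one_mul,
        one_mul])
  exact ⟨AdjoinRoot (Q.map (algebraMap R (Localization.Away (d * s)))), inferInstance,
    inferInstance, inferInstance, inferInstance, hfin, hEt, hff, r, hr,
    ⟨(Groth.Agent.Lib.Helper7.AzFib.cancelBaseChangeAlg R (Localization.Away (d * s))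
      (AdjoinRoot (Q.map (algebraMap R (Localization.Away (d * s))))) A).symm.trans e⟩⟩

end Groth.Agent.S5720
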