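import Groth.Statements.S5732
import Groth.Agent.Lib.Seat57K1
import Groth.Agent.Lib.Helper27EpiGen

set_option autoImplicit false
universe u
open CategoryTheory CategoryTheory.Limits AlgebraicGeometry TopologicalSpace Opposite
open scoped HomogeneousIdeal
open EGA2

namespace Groth.Agent.S5732

/-- Let E be a quasi-coherent O_Y-module with graded symmetric algebra 𝒮 (j : E → 𝒮 landing in degree
one), p : P = P(E) → Y its projective bundle with its charts over affine opens, and O_P(1) the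
fundamental sheaf with its chart identifications. Let φ : E → p_*O_P(1) be the canonical map,
characterised as follows: for an affine open U and a section e of E over U, the section φ(e) of
O_P(1) over p⁻¹(U), read on the chart Proj(𝒮(U)), has value j(e)/1 at every point. Then the morphism
p^*E → O_P(1) adjoint to φ is an epimorphism. -/
theorem result {Y P : Scheme.{u}} (E : Y.Modules) (hE : Coh.IsQCoh E)
    (𝒮 : RelProj.QCGrAlg Y) (j : E ⟶ 𝒮.toModule) (hj : RelProj.IsGrSymAlg E 𝒮 j) (p : P ⟶ Y)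
    (chart : ∀ (U : Y.Opens) (hU : IsAffineOpen U), ((p ⁻¹ᵁ U : P.Opens) : Scheme.{u}) ≅ Proj (𝒮.deg U hU))
    (hP : RelProj.IsRelProj 𝒮 p chart) (O1 : P.Modules)
    (lam : ∀ (U : Y.Opens) (hU : IsAffineOpen U),
      O1 ⟶ (Scheme.Modules.pushforward (RelProj.emb p chart U hU)).obj (GrTwist.twist (𝒮.deg U hU) 1))
    (hO1 : RelProj.IsRelTwist 𝒮 p chart 1 O1 lam)
    (φ : E ⟶ (Scheme.Modules.pushforward p).obj O1)
    (hφ : ∀ (U : Y.Opens) (hU : IsAffineOpen U) (e : Γ(E, U))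
      (y : ↥(RelProj.emb p chart U hU ⁻¹ᵁ (p ⁻¹ᵁ U))),
      GrTwist.val (V := RelProj.emb p chart U hU ⁻¹ᵁ (p ⁻¹ᵁ U))
          ((lam U hU).app (p ⁻¹ᵁ U) ((φ.app U) e)) y =
        algebraMap (𝒮.presheaf.obj (op U)) (GrTwist.Loc (𝒮.deg U hU) y.1)
          ((j.app U) e : 𝒮.presheaf.obj (op U))) :
    Epi (((Scheme.Modules.pullbackPushforwardAdjunction p).homEquiv E O1).symm φ) := by
  have : E.IsQuasicoherent := hE
  set adj := Scheme.Modules.pullbackPushforwardAdjunction p with hadj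
  set a := (adj.homEquiv E O1).symm φ with ha
  -- `φ` through the adjunction
  have hφa : φ = adj.unit.app E ≫ (Scheme.Modules.pushforward p).map a := by
    exact ((adj.homEquiv E O1).apply_symm_apply φ).symm.trans (adj.homEquiv_unit E O1 a)
  have hφe : ∀ (U : Y.Opens) (e : Γ(E, U)),
      (φ.app U) e = a.app (p ⁻¹ᵁ U) ((adj.unit.app E).app U e) := by
    intro U e
    rw [hφa]
    rfl
  -- the frames are values of `φ`
  have hframe : ∀ (U : Y.Opens) (hU : IsAffineOpen U) (e : Γ(E, U)),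
      Groth.Agent.Lib.Seat57.TwistPull.e1 p chart O1 lam hO1
        (⟨⟨U, hU⟩, ⟨(j.app U) e, hj.2 U hU e⟩⟩ : Groth.Agent.Lib.Helper2.RelTwistTensor.Idx 𝒮) =
      Groth.Agent.Lib.Helper6.res O1
        (Groth.Agent.Lib.Helper2.RelTwistTensor.VF_le p chart
          (⟨⟨U, hU⟩, ⟨(j.app U) e, hj.2 U hU e⟩⟩ : Groth.Agent.Lib.Helper2.RelTwistTensor.Idx 𝒮))
        ((φ.app U) e) := by
    intro U hU e
    set κ : Groth.Agent.Lib.Helper2.RelTwistTensor.Idx 𝒮 := ⟨⟨U, hU⟩, ⟨(j.app U) e, hj.2 U hU e⟩⟩ with hκ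
    apply (hO1.bijective U hU _ (Groth.Agent.Lib.Helper2.RelTwistTensor.VF_le p chart κ)).1
    apply Groth.Agent.Lib.Helper2.RelTwistTriv.twist_ext
    intro y
    have h1 := Groth.Agent.Lib.Helper2.RelTwistTensor.val_eF p chart 1 O1 lam hO1 1 0 (by norm_num) κ y
    refine h1.trans ?_
    have hnat := Groth.Agent.Lib.Helper2.RelTildeQCoh.app_map' (lam U hU)
      (homOfLE (Groth.Agent.Lib.Helper2.RelTwistTensor.VF_le p chart κ)) ((φ.app U) e)
    have h2 : GrTwist.val (V := RelProj.emb p chart U hU ⁻¹ᵁ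
          (Groth.Agent.Lib.Helper2.RelTwistTensor.VF p chart κ))
        ((lam U hU).app (Groth.Agent.Lib.Helper2.RelTwistTensor.VF p chart κ)
          (Groth.Agent.Lib.Helper6.res O1 (Groth.Agent.Lib.Helper2.RelTwistTensor.VF_le p chart κ)
            ((φ.app U) e))) y =
        GrTwist.val (V := RelProj.emb p chart U hU ⁻¹ᵁ (p ⁻¹ᵁ U))
          ((lam U hU).app (p ⁻¹ᵁ U) ((φ.app U) e))
          ⟨y.1, Groth.Agent.Lib.Helper2.RelTwistTensor.VF_le p chart κ y.2⟩ := by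
      change GrTwist.val (V := RelProj.emb p chart U hU ⁻¹ᵁ
          (Groth.Agent.Lib.Helper2.RelTwistTensor.VF p chart κ))
        ((lam U hU).app (Groth.Agent.Lib.Helper2.RelTwistTensor.VF p chart κ)
          (O1.presheaf.map (homOfLE (Groth.Agent.Lib.Helper2.RelTwistTensor.VF_le p chart κ)).op
            ((φ.app U) e))) y = _
      rw [hnat]
      rfl
    rw [h2, hφ U hU e ⟨y.1, Groth.Agent.Lib.Helper2.RelTwistTensor.VF_le p chart κ y.2⟩]
    rw [← Localization.mk_one_eq_algebraMap, Localization.mk_eq_mk_iff, Localization.r_iff_exists]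
    refine ⟨1, ?_⟩
    simp only [OneMemClass.coe_one, one_mul, pow_one, pow_zero]
    rfl
  refine ⟨fun {Z} g h hgh => ?_⟩
  refine Groth.Agent.Lib.Helper27EpiGen.hom_ext_of_isGen O1 Z
    (ι := Σ U : Y.affineOpens, Γ(E, U.1))
    (fun q => Groth.Agent.Lib.Helper2.RelTwistTensor.VF p chart
      (⟨q.1, ⟨(j.app q.1.1) q.2, hj.2 q.1.1 q.1.2 q.2⟩⟩ : Groth.Agent.Lib.Helper2.RelTwistTensor.Idx 𝒮))
    (fun x => ?_)
    (fun q => Groth.Agent.Lib.Seat57.TwistPull.e1 p chart O1 lam hO1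
      (⟨q.1, ⟨(j.app q.1.1) q.2, hj.2 q.1.1 q.1.2 q.2⟩⟩ : Groth.Agent.Lib.Helper2.RelTwistTensor.Idx 𝒮))
    (fun q => Groth.Agent.Lib.Helper2.RelTwistTensor.isGen_eF p chart 1 O1 lam hO1 1 0 (by norm_num) _)
    g h (fun q => ?_)
  · obtain ⟨U, hxU⟩ := Groth.Agent.Lib.Helper2.RelTildeQCoh.exists_affine_mem_preimage p x
    obtain ⟨y, hy⟩ := Groth.Agent.Lib.Helper2.RelTildeQCoh.le_opensRange_emb p chart U.1 U.2 hxU
    obtain ⟨m, hm⟩ := Groth.Agent.Lib.Seat57.K1.exists_not_mem E 𝒮 j hj U.1 U.2 y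
    exact ⟨⟨U, m⟩, y, (ProjectiveSpectrum.mem_basicOpen _ _ y).mpr hm, hy⟩
  · rw [hframe q.1.1 q.1.2 q.2, hφe]
    have e1 : ∀ t : O1 ⟶ Z, t.app _ (Groth.Agent.Lib.Helper6.res O1
        (Groth.Agent.Lib.Helper2.RelTwistTensor.VF_le p chart
          (⟨q.1, ⟨(j.app q.1.1) q.2, hj.2 q.1.1 q.1.2 q.2⟩⟩ : Groth.Agent.Lib.Helper2.RelTwistTensor.Idx 𝒮))
        (a.app (p ⁻¹ᵁ q.1.1) ((adj.unit.app E).app q.1.1 q.2))) =
        Groth.Agent.Lib.Helper6.res Z
          (Groth.Agent.Lib.Helper2.RelTwistTensor.VF_le p chart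
            (⟨q.1, ⟨(j.app q.1.1) q.2, hj.2 q.1.1 q.1.2 q.2⟩⟩ : Groth.Agent.Lib.Helper2.RelTwistTensor.Idx 𝒮))
          ((a ≫ t).app (p ⁻¹ᵁ q.1.1) ((adj.unit.app E).app q.1.1 q.2)) := by
      intro t
      exact Groth.Agent.Lib.Helper2.RelTildeQCoh.app_map' t (homOfLE _) _
    rw [e1 g, e1 h, hgh]

end Groth.Agent.S5732
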