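import Groth.Statements.S5744
import Groth.Agent.Lib.Helper23TensorQCoh
import Groth.Agent.Lib.Helper23QCohLocal
import Groth.Agent.Lib.Helper23QCohAbelian

set_option linter.style.haveILetI false

set_option autoImplicit false
universe u
open Coherent

namespace Groth.Agent.S5744

open AlgebraicGeometry CategoryTheory CategoryTheory.Limits

variable {X : Scheme.{u}}

/-- finite products of quasi-coherent modules are quasi-coherent. -/
theorem isQuasicoherent_piObj {κ : Type u} [Finite κ] (A : κ → X.Modules)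
    (h : ∀ k, (A k).IsQuasicoherent) : (∏ᶜ A).IsQuasicoherent := by
  haveI : (∐ A).IsQuasicoherent :=
    Groth.Agent.Lib.Helper23.QCohLocal.isQuasicoherent_colimit (Discrete.functor A) (fun k => h k.as)
  exact Groth.Agent.Lib.Helper23.TensorQCoh.isQuasicoherent_of_iso
    ((biproduct.isoCoproduct A).symm ≪≫ biproduct.isoProduct A)

/-- the categorical product of a family of opens is their infimum. -/
theorem piObj_eq_iInf {κ : Type*} (f : κ → X.Opens) [HasProduct f] : ∏ᶜ f = ⨅ a, f a := by
  apply le_antisymm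
  · exact le_iInf fun a => (Pi.π f a).le
  · exact (Pi.lift (fun a => homOfLE (iInf_le f a))).le

open AlgebraicGeometry CategoryTheory in
/-- For the Čech complex of sheaves indexed by all ordered tuples with products as terms; over a finite
index type these terms are finite direct sums. Let X be a separated scheme, (U_i)_{i ∈ ι} a finite
family of affine opens covering X, and F a quasi-coherent O_X-module. Then for every p the degree-p
term of the Čech complex of sheaves 𝔠(𝒰, F), the product over ordered (p+1)-tuples of the direct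
images (j_{i_0…i_p})_*(F|_{U_{i_0…i_p}}), is a quasi-coherent O_X-module. -/
theorem result {X : Scheme.{u}} [X.IsSeparated] {ι : Type u}
    [Finite ι] (𝒰 : ι → X.Opens) (h𝒰 : ∀ i, IsAffineOpen (𝒰 i)) (hcov : ⨆ i, 𝒰 i = ⊤)
    (F : X.Modules) [Coh.IsQCoh F] (p : ℕ) :
    Coh.IsQCoh (((CechOX.cechSh 𝒰).obj F).X p) := by
  haveI : F.IsQuasicoherent := ‹Coh.IsQCoh F›
  change (∏ᶜ fun i : Fin (p + 1) → ι => (CechOX.pushRestr (∏ᶜ (𝒰 ∘ i))).obj F).IsQuasicoherent
  refine isQuasicoherent_piObj _ fun i => ?_
  have hW : IsAffineOpen (∏ᶜ (𝒰 ∘ i)) := by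
    rw [piObj_eq_iInf]
    exact IsAffineOpen.iInf fun a => h𝒰 (i a)
  haveI : IsAffine ((∏ᶜ (𝒰 ∘ i) : X.Opens) : Scheme.{u}) := hW
  haveI : ((Scheme.Modules.restrictFunctor (∏ᶜ (𝒰 ∘ i)).ι).obj F).IsQuasicoherent :=
    Scheme.Modules.isQuasicoherent_restrictFunctor _ F
  exact Groth.Agent.Lib.Helper23.QCohLocal.isQuasicoherent_pushforward (∏ᶜ (𝒰 ∘ i)).ι _

end Groth.Agent.S5744
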