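import Groth.Statements.S5866
import Groth.Agent.Lib.Seat68GUnibrE

set_option autoImplicit false
universe u
open RadPt

namespace Groth.Agent.S5866

open CategoryTheory AlgebraicGeometry in
/-- Let f : X → Y be a morphism of schemes which is integral and whose induced morphism of reduced
schemes is birational. Then Y is geometrically unibranch (at every point) if and only if X is
geometrically unibranch and f is radicial (universally injective). -/
theorem result {X Y : Scheme.{u}} (f : X ⟶ Y) [IsIntegralHom f] (hf : RadPt.IsBirational f) :
    (∀ y : Y, CAlg2.IsGeomUnibranch (Y.presheaf.stalk y)) ↔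
      ((∀ x : X, CAlg2.IsGeomUnibranch (X.presheaf.stalk x)) ∧ UniversallyInjective f) := by
  have key := fun y => Groth.Agent.Lib.Seat68.GUnibr.isGeomUnibranch_iff_isRadicialAt f hf y
  constructor
  · intro h
    refine ⟨fun x => ((key (f x)).mp (h (f x))).2 x rfl, ?_⟩
    exact Groth.Agent.S5863.universallyInjective_of_isRadicialAt f (fun y => ((key y).mp (h y)).1)
  · rintro ⟨hx, hinj⟩ y
    haveI := hinj
    exact (key y).mpr ⟨Groth.Agent.S5863.isRadicialAt_of_universallyInjective f y,
      fun x _ => hx x⟩

end Groth.Agent.S5866
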