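import Groth.Statements.S5878
import Groth.Agent.Lib.Seat15LocusMod

set_option autoImplicit false
universe u
open CategoryTheory AlgebraicGeometry
open ConsProp

namespace Groth.Agent.S5878

/-- First assertion, constructible case, for a relation involving a module: let P(X, F, k) be a
constructible property of algebraic schemes with a coherent module, u : X ⟶ S a morphism of finite
presentation (locally of finite presentation, quasi-compact and quasi-separated) and F a
quasi-coherent O_X-module of finite presentation; for s in S let X_s be the fibre and F_s the
pullback of F to it. Then the set of points s of S such that P holds for (X_s, F_s) over κ(s) is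
locally constructible in S. -/
theorem result
    {P : ∀ ⦃Y T : Scheme.{u}⦄, (Y ⟶ T) → Y.Modules → Prop} (hP : ConsProp.IsConsMod P)
    {X S : Scheme.{u}} (u : X ⟶ S)
    [LocallyOfFinitePresentation u] [QuasiCompact u] [QuasiSeparated u]
    (F : X.Modules) [Coh.IsQCoh F] (hF : CohB1.IsFP F) :
    Topology.IsLocallyConstructible (ConsProp.locusMod P u F) := by
  refine Groth.Agent.Lib.Helper3.LocusFam.isLocallyConstructible
    (Groth.Agent.Lib.Seat15.LocusMod.isLocusFam_famMod hP.1) ?_
    ⟨X, u, F, inferInstance, inferInstance, inferInstance, inferInstance, hF, rfl⟩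
  rintro S _ _ E ⟨X, u, F, h1, h2, h3, h4, h5, rfl⟩
  haveI := h4
  exact hP.2 u F (Groth.Agent.Lib.Seat15.LocusMod.isCoh_of_isFP F h5)

end Groth.Agent.S5878
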