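import Groth.Statements.S5936
-- import your own Groth.Agent.* helpers here
import Groth.Agent.Lib.Seat26FFFlat
import Groth.Agent.Lib.Seat26TorDim

set_option autoImplicit false
universe u
open TensorProduct CategoryTheory
open EGA43

namespace Groth.Agent.S5936

/-- Let A be a commutative ring, B a finitely presented A-algebra which is flat as an A-module, and M a
finitely presented B-module which is flat as an A-module. Then the projective dimension of M as a
B-module equals its Tor-dimension, the least n such that Tor_i^B(M, N) = 0 for every i > n and every
B-module N. (Both sides are valued in WithBot ℕ∞, with the zero module of dimension ⊥; Tor_i^B(M, −)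
is the i-th left derived functor of M ⊗_B −. In general only Tor-dimension ≤ projective dimension
holds.) -/
theorem result (A B M : Type u) [CommRing A] [CommRing B] [Algebra A B]
    [Algebra.FinitePresentation A B] [Module.Flat A B] [AddCommGroup M] [Module B M] [Module A M]
    [IsScalarTower A B M] [Module.FinitePresentation B M] [Module.Flat A M] :
    projectiveDimension (ModuleCat.of B M) =
      sInf {n : WithBot ℕ∞ | ∀ i : ℕ, n < i → ∀ N : ModuleCat.{u} B,
        Limits.IsZero (((Tor (ModuleCat.{u} B) i).obj (ModuleCat.of B M)).obj N)} := by
  have h := Groth.Agent.Lib.Seat26.FFFlat.isFPFlat_of (A := A) (B := B) M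
  exact Groth.Agent.Lib.Seat26.TorDim.projectiveDimension_eq_sInf_tor
    (Groth.Agent.Lib.Seat26.FFFlat.IsFPFlat A) (fun _ hN => hN.1)
    Groth.Agent.Lib.Seat26.FFFlat.stepData _ h

end Groth.Agent.S5936
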