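import Groth.Statements.S5962
-- import your own Groth.Agent.* helpers here
import Groth.Agent.Lib.Seat26PPComp

set_option autoImplicit false
universe u
open CategoryTheory CategoryTheory.Limits AlgebraicGeometry TopologicalSpace Opposite
open Nrm16

namespace Groth.Agent.S5962

/-- Let f : X ⟶ S be a morphism of schemes and n, n' natural numbers. There is exactly one O_X-linear
map δ : P^(n+n')_{X/S} ⟶ P^n'_{X/S}(P^n_{X/S}) for the left O_X-module structures, the target being
the sheaf of principal parts of order n' of the left O_X-module P^n_{X/S}, such that δ(d^(n+n') t) =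
d^n'(d^n t) for every local function t on X. -/
theorem result {X S : Scheme.{u}} (f : X ⟶ S) (n n' : ℕ) :
    ∃! δ : PrinPart.P f (n + n') ⟶ PrinPart.PMod f n' (PrinPart.P f n),
      ∀ (U : X.Opens) (t : Γ(X, U)),
        δ.app U (PrinPart.dn f (n + n') U t) = PrinPart.dP f n' (PrinPart.P f n) U (PrinPart.dn f n U t) := by
  obtain ⟨δ, hδ⟩ := Groth.Agent.Lib.Seat26.PPComp.exists_delta f n n'
  refine ⟨δ, hδ, fun δ' hδ' => ?_⟩
  exact Groth.Agent.Lib.Seat26.PPLoc.hom_ext_dn f (n + n') δ' δ
    (fun U t => (hδ' U t).trans (hδ U t).symm)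

end Groth.Agent.S5962
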