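import Groth.Statements.S5968
-- import your own Groth.Agent.* helpers here
import Groth.Agent.Lib.Seat26InfNbhdFin
import Groth.Agent.Lib.Helper20FormalPull
import Groth.Agent.Lib.Helper2FinPushFP

set_option autoImplicit false
universe u
open CategoryTheory CategoryTheory.Limits AlgebraicGeometry TopologicalSpace Opposite
open Nrm16

namespace Groth.Agent.S5968

/-- Consider a morphism f : X ⟶ S that is locally of finite type, fix a natural number n, and suppose F
is an O_X-module which is quasi-coherent and of finite type. Regarded as an O_X-module through its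
left structure, the sheaf of principal parts P^n_{X/S}(F) is again quasi-coherent and of finite
type. (The published result covers both O_X-module structures on P^n_{X/S}(F); here only the left
one is treated, since that is the structure the sheaf of principal parts is given in this
formalization.) -/
theorem result {X S : Scheme.{u}} (f : X ⟶ S) [LocallyOfFiniteType f] (n : ℕ)
    (F : X.Modules) (hF : Coh.IsCoh F) :
    Coh.IsCoh (PrinPart.PMod f n F) := by
  obtain ⟨hq, hft⟩ := hF
  haveI : F.IsQuasicoherent := hq
  haveI : SheafOfModules.IsFiniteType (R := X.ringCatSheaf) F := hft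
  -- the first projection from the infinitesimal neighbourhood is finite
  have hsec : PrinPart.diagCl f ≫ ((pullback.diagonal f).coborderRange.ι ≫ pullback.fst f f) =
      𝟙 X := by
    rw [← Category.assoc, Scheme.Hom.liftCoborder_ι, pullback.diagonal_fst]
  haveI : IsFinite (PrinPart.pr1 f n) := by
    have h := Groth.Agent.Lib.Seat26.InfNbhdFin.isFinite_infNbhd_of_section
      ((pullback.diagonal f).coborderRange.ι ≫ pullback.fst f f) (PrinPart.diagCl f) hsec n
    rw [← Category.assoc] at h
    exact h
  haveI hq2 : ((Scheme.Modules.pullback (PrinPart.pr2 f n)).obj F).IsQuasicoherent :=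
    inferInstance
  haveI hft2 : SheafOfModules.IsFiniteType (R := (PrinPart.nbhd f n).ringCatSheaf)
      ((Scheme.Modules.pullback (PrinPart.pr2 f n)).obj F) :=
    Groth.Agent.Lib.Helper20.FormalPull.isFiniteType_pullback (PrinPart.pr2 f n) F
  refine ⟨?_, ?_⟩
  · exact Groth.Agent.Lib.Helper23.QCohLocal.isQuasicoherent_pushforward (PrinPart.pr1 f n) _
  · exact (Groth.Agent.Lib.Helper2.FinPushFP.isFiniteType_pushforward_iff (PrinPart.pr1 f n)
      ((Scheme.Modules.pullback (PrinPart.pr2 f n)).obj F)).1 hft2

end Groth.Agent.S5968
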