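import Groth.Statements.S5969
import Mathlib.AlgebraicGeometry.IdealSheaf.Functorial

set_option autoImplicit false
universe u
open CategoryTheory CategoryTheory.Limits AlgebraicGeometry TopologicalSpace Opposite
open Nrm16

namespace Groth.Agent.S5969

/-- Let f : X ⟶ S be a morphism of schemes and n a natural number. On the order-n infinitesimal
thickening of the diagonal of f there is an endomorphism σ which is compatible, under the immersion
into X ×_S X, with the symmetry exchanging the two factors; σ is an involution, it exchanges the two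
projections to X (so it exchanges the two O_X-algebra structures of P^n_{X/S}) and it fixes the
diagonal section. -/
theorem result {X S : Scheme.{u}} (f : X ⟶ S) (n : ℕ) :
    ∃ σ : PrinPart.nbhd f n ⟶ PrinPart.nbhd f n,
      σ ≫ PrinPart.nbhdι f n = PrinPart.nbhdι f n ≫ (pullbackSymmetry f f).hom ∧
      σ ≫ σ = 𝟙 (PrinPart.nbhd f n) ∧
      σ ≫ PrinPart.pr1 f n = PrinPart.pr2 f n ∧ σ ≫ PrinPart.pr2 f n = PrinPart.pr1 f n ∧
      PrinPart.toNbhd f n ≫ σ = PrinPart.toNbhd f n := by
  classical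
  -- notation
  set Δ := pullback.diagonal f with hΔ
  set W := Δ.coborderRange with hW
  set d := PrinPart.diagCl f with hd
  set I := d.ker with hI
  set s := (pullbackSymmetry f f).hom with hs
  have hΔs : Δ ≫ s = Δ := by
    apply pullback.hom_ext
    · rw [Category.assoc, pullbackSymmetry_hom_comp_fst, pullback.diagonal_snd, pullback.diagonal_fst]
    · rw [Category.assoc, pullbackSymmetry_hom_comp_snd, pullback.diagonal_fst, pullback.diagonal_snd]
  have hss : s ≫ s = 𝟙 _ := by
    apply pullback.hom_ext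
    · rw [Category.assoc, pullbackSymmetry_hom_comp_fst, pullbackSymmetry_hom_comp_snd,
        Category.id_comp]
    · rw [Category.assoc, pullbackSymmetry_hom_comp_snd, pullbackSymmetry_hom_comp_fst,
        Category.id_comp]
  have hss' : ∀ x, s (s x) = x := fun x => by
    rw [← Scheme.Hom.comp_apply, hss]; rfl
  have hsΔ : ∀ x, s (Δ x) = Δ x := fun x => by
    rw [← Scheme.Hom.comp_apply, hΔs]
  -- `s` preserves the closure of the range of the diagonal
  have hcl : ∀ x, x ∈ closure (Set.range Δ) → s x ∈ closure (Set.range Δ) := by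
    intro x hx
    have h1 : closure (Set.range Δ) ⊆ s ⁻¹' closure (Set.range Δ) := by
      refine closure_minimal ?_ (isClosed_closure.preimage s.continuous)
      rintro _ ⟨y, rfl⟩
      show s (Δ y) ∈ closure (Set.range Δ)
      rw [hsΔ]
      exact subset_closure ⟨y, rfl⟩
    exact h1 hx
  have hrange : Set.range (W.ι ≫ s) ⊆ Set.range W.ι := by
    rintro _ ⟨w, rfl⟩
    rw [Scheme.Opens.range_ι]
    show s (W.ι w) ∈ coborder (Set.range Δ)
    have hw : (W.ι w) ∈ coborder (Set.range Δ) := w.2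
    intro hbad
    apply hw
    refine ⟨?_, ?_⟩
    · have := hcl _ hbad.1
      rwa [hss'] at this
    · rintro ⟨y, hy⟩
      apply hbad.2
      refine ⟨y, ?_⟩
      show Δ y = s (W.ι w)
      rw [← hy, hsΔ]
  -- the restriction of the symmetry to `W`
  let sW : (W : Scheme.{u}) ⟶ W := IsOpenImmersion.lift W.ι (W.ι ≫ s) hrange
  have hsW : sW ≫ W.ι = W.ι ≫ s := IsOpenImmersion.lift_fac _ _ _
  have hdsW : d ≫ sW = d := by
    rw [← cancel_mono W.ι, Category.assoc, hsW]
    show Δ.liftCoborder ≫ W.ι ≫ s = Δ.liftCoborder ≫ W.ι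
    rw [Scheme.Hom.liftCoborder_ι_assoc, Scheme.Hom.liftCoborder_ι, hΔs]
  have hsWsW : sW ≫ sW = 𝟙 _ := by
    rw [← cancel_mono W.ι, Category.assoc, hsW, reassoc_of% hsW, hss, Category.comp_id,
      Category.id_comp]
  have : IsIso sW := ⟨sW, hsWsW, hsWsW⟩
  -- the ideal and its powers are preserved
  have H0 : I ≤ I.map sW := by
    rw [hI, Scheme.IdealSheafData.map_ker, hdsW]
  have H : I ^ (n + 1) ≤ (I ^ (n + 1)).map sW := by
    intro U
    rw [Scheme.IdealSheafData.ideal_map_of_isAffineHom]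
    simp only [Scheme.IdealSheafData.ideal_pow, Pi.pow_apply]
    have h0 := H0 U
    rw [Scheme.IdealSheafData.ideal_map_of_isAffineHom] at h0
    refine le_trans (Ideal.pow_right_mono h0 (n + 1)) ?_
    exact Ideal.le_comap_pow _ _
  let σ : PrinPart.nbhd f n ⟶ PrinPart.nbhd f n :=
    Scheme.IdealSheafData.subschemeMap (I ^ (n + 1)) (I ^ (n + 1)) sW H
  have hσ : σ ≫ (I ^ (n + 1)).subschemeι = (I ^ (n + 1)).subschemeι ≫ sW :=
    Scheme.IdealSheafData.subschemeMap_subschemeι _ _ _ _
  have hσι : σ ≫ PrinPart.nbhdι f n = PrinPart.nbhdι f n ≫ s := by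
    show σ ≫ (I ^ (n + 1)).subschemeι ≫ W.ι = ((I ^ (n + 1)).subschemeι ≫ W.ι) ≫ s
    rw [reassoc_of% hσ, hsW, Category.assoc]
  refine ⟨σ, hσι, ?_, ?_, ?_, ?_⟩
  · rw [← cancel_mono (I ^ (n + 1)).subschemeι, Category.assoc, hσ, reassoc_of% hσ, hsWsW,
      Category.comp_id, Category.id_comp]
  · show σ ≫ PrinPart.nbhdι f n ≫ pullback.fst f f = PrinPart.nbhdι f n ≫ pullback.snd f f
    rw [reassoc_of% hσι, pullbackSymmetry_hom_comp_fst]
  · show σ ≫ PrinPart.nbhdι f n ≫ pullback.snd f f = PrinPart.nbhdι f n ≫ pullback.fst f f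
    rw [reassoc_of% hσι, pullbackSymmetry_hom_comp_snd]
  · rw [← cancel_mono (I ^ (n + 1)).subschemeι, Category.assoc, hσ]
    have h1 : PrinPart.toNbhd f n ≫ (I ^ (n + 1)).subschemeι = d := PrinPart.toInfNbhd_ι d n
    rw [reassoc_of% h1, h1, hdsW]

end Groth.Agent.S5969
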