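import Groth.Statements.S6033
import Groth.Agent.S6032
import Groth.Agent.S6023
import Groth.Agent.S6024

set_option autoImplicit false
universe u
open CategoryTheory CategoryTheory.Limits TopologicalSpace AlgebraicGeometry
open LocCohZ

namespace Groth.Agent.S6033

/-- Let A be a commutative ring such that the underlying space of X = Spec A is Noetherian. Then M~ is
flasque for every injective A-module M if and only if colim_n H^1(f^n, M) = 0 (direct limit of
Koszul cohomology of the powers) for every finite family f of elements of A and every injective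
A-module M; and in that case colim_n H^i(f^n, M) = 0 for all i > 0 as well. -/
theorem result (A : Type u) [CommRing A]
    [NoetherianSpace (PrimeSpectrum A)] :
    ((∀ (M : Type u) [AddCommGroup M] [Module A M], Module.Injective A M →
        TopCat.Sheaf.IsFlasque (Coh.toAb (AlgebraicGeometry.tilde (R := CommRingCat.of A) (ModuleCat.of A M)))) ↔
      ∀ (fs : List A) (M : Type u) [AddCommGroup M] [Module A M], Module.Injective A M →
        Subsingleton (CohIII.koszulHLim fs (ModuleCat.of A M) 1)) ∧
    ((∀ (M : Type u) [AddCommGroup M] [Module A M], Module.Injective A M →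
        TopCat.Sheaf.IsFlasque (Coh.toAb (AlgebraicGeometry.tilde (R := CommRingCat.of A) (ModuleCat.of A M)))) →
      ∀ (fs : List A) (M : Type u) [AddCommGroup M] [Module A M], Module.Injective A M →
        ∀ i : ℕ, 0 < i → Subsingleton (CohIII.koszulHLim fs (ModuleCat.of A M) i)) := by
  -- flasque ⇒ vanishing of limit Koszul cohomology in positive degrees
  have key : (∀ (M : Type u) [AddCommGroup M] [Module A M], Module.Injective A M →
        TopCat.Sheaf.IsFlasque (Coh.toAb (AlgebraicGeometry.tilde (R := CommRingCat.of A) (ModuleCat.of A M)))) →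
      ∀ (fs : List A) (M : Type u) [AddCommGroup M] [Module A M], Module.Injective A M →
        ∀ i : ℕ, 0 < i → Subsingleton (CohIII.koszulHLim fs (ModuleCat.of A M) i) := by
    intro hfl fs M _ _ hM i hi
    have := hfl M hM
    obtain ⟨e⟩ := Groth.Agent.S6032.result A fs M i
    have hsub : Subsingleton (LocCohZ.HZ (X := (Spec (CommRingCat.of A)).carrier)
        (Coh.toAb (AlgebraicGeometry.tilde (R := CommRingCat.of A) (ModuleCat.of A M))) i
        (le_top : LocCoh.puncturedOpen A (Ideal.span {a | a ∈ fs}) ≤ ⊤)) :=
      (Groth.Agent.S6023.result (X := (Spec (CommRingCat.of A)).carrier)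
        (Coh.toAb (AlgebraicGeometry.tilde (R := CommRingCat.of A) (ModuleCat.of A M)))).1 _ _ le_top i hi
    exact e.toEquiv.subsingleton_congr.2 hsub
  refine ⟨⟨fun hfl fs M _ _ hM => key hfl fs M hM 1 Nat.one_pos, ?_⟩, key⟩
  intro hK M _ _ hM
  apply Groth.Agent.S6024.result (X := (Spec (CommRingCat.of A)).carrier)
  intro U
  -- every open of a Noetherian spectrum is the complement of the zero locus of a finite set
  have hU : IsCompact (U.1 : Set (PrimeSpectrum A)) ∧ IsOpen (U.1 : Set (PrimeSpectrum A)) :=
    ⟨NoetherianSpace.isCompact (α := PrimeSpectrum A) _, U.2⟩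
  obtain ⟨t, ht⟩ := PrimeSpectrum.isCompact_isOpen_iff.1 hU
  have hUeq : U = LocCoh.puncturedOpen A (Ideal.span {a | a ∈ t.toList}) := by
    apply Opens.ext
    show (U.1 : Set (PrimeSpectrum A)) =
      (PrimeSpectrum.zeroLocus ((Ideal.span {a | a ∈ t.toList} : Ideal A) : Set A))ᶜ
    rw [PrimeSpectrum.zeroLocus_span, ← ht]
    congr 2
    ext a
    simp
  obtain ⟨e⟩ := Groth.Agent.S6032.result A t.toList M 1
  have := hK t.toList M hM
  rw [hUeq]
  exact e.symm.toEquiv.subsingleton_congr.2 inferInstance

end Groth.Agent.S6033
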