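import Groth.Statements.S6075
import Groth.Agent.Lib.Seat27Words
import Groth.Agent.Lib.Seat27KPoints

set_option autoImplicit false
universe u
open CategoryTheory CategoryTheory.Limits MonoidalCategory CartesianMonoidalCategory MonObj GrpObj AlgebraicGeometry
open SGA3

namespace Groth.Agent.S6075

open Groth.Agent.Lib.Seat27 in
/-- Let k be an algebraically closed field, G a group scheme locally of finite type over k, X a
geometrically reduced k-scheme locally of finite type, and f : X → G a k-morphism. Consider the
k-points g of G whose underlying point lies under a word in f: there are a k-scheme T, a point p of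
T, n ≥ 0, T-valued points x_1, …, x_n of X and signs such that the T-valued point f(x_1)^{±1} ⋯
f(x_n)^{±1} of G maps p to the point of g. These k-points form exactly the subgroup of G(k)
generated by the k-points of G whose underlying point lies in the image of f. (Words of length zero
are allowed here, so that the unit is on both sides when X is empty; for nonempty X this changes
nothing, while the published statement, with words of positive length only, fails for empty X.) -/
theorem result (k : Type u) [Field k] [IsAlgClosed k]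
    (G X : Over (Spec (CommRingCat.of k))) [GrpObj G] [LocallyOfFiniteType G.hom]
    [LocallyOfFiniteType X.hom] [GeometricallyReduced X.hom] (f : X ⟶ G) :
    {g : 𝟙_ (Over (Spec (CommRingCat.of k))) ⟶ G | ∃ (n : ℕ) (T : Over (Spec (CommRingCat.of k))) (p : T.left) (p₀ : (𝟙_ (Over (Spec (CommRingCat.of k)))).left)
        (x : Fin n → (T ⟶ X)) (ε : Fin n → Bool), ((List.ofFn fun j : Fin n => if ε j then x j ≫ f else (x j ≫ f)⁻¹).prod : T ⟶ G).left.base p = g.left.base p₀} =
      ((Subgroup.closure {g : 𝟙_ (Over (Spec (CommRingCat.of k))) ⟶ G | ∃ p₀ : (𝟙_ (Over (Spec (CommRingCat.of k)))).left, g.left.base p₀ ∈ Set.range f.left.base} :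
        Subgroup (𝟙_ (Over (Spec (CommRingCat.of k))) ⟶ G)) : Set (𝟙_ (Over (Spec (CommRingCat.of k))) ⟶ G)) := by
  -- the subgroup of words in rational points
  let S' : Subgroup (𝟙_ (Over (Spec (CommRingCat.of k))) ⟶ G) :=
    { carrier := {g | ∃ (n : ℕ) (x : Fin n → (𝟙_ (Over (Spec (CommRingCat.of k))) ⟶ X)) (ε : Fin n → Bool),
        Words.word f x ε = g}
      mul_mem' := by
        rintro a b ⟨n, x, ε, rfl⟩ ⟨m, y, δ, rfl⟩
        exact ⟨n + m, Fin.append x y, Fin.append ε δ, Words.word_append f x ε y δ⟩
      one_mem' := ⟨0, Fin.elim0, Fin.elim0, Words.word_zero f _ _⟩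
      inv_mem' := by
        rintro a ⟨n, x, ε, rfl⟩
        exact ⟨n, _, _, (Words.word_inv f x ε).symm⟩ }
  have hpt : Nonempty (𝟙_ (Over (Spec (CommRingCat.of k)))).left :=
    ⟨(IsLocalRing.closedPoint k : PrimeSpectrum k)⟩
  -- the left-hand side is the set of words in rational points
  have hL : ∀ g : 𝟙_ (Over (Spec (CommRingCat.of k))) ⟶ G,
      (∃ (n : ℕ) (T : Over (Spec (CommRingCat.of k))) (p : T.left) (p₀ : (𝟙_ (Over (Spec (CommRingCat.of k)))).left)
        (x : Fin n → (T ⟶ X)) (ε : Fin n → Bool), ((List.ofFn fun j : Fin n => if ε j then x j ≫ f else (x j ≫ f)⁻¹).prod : T ⟶ G).left.base p = g.left.base p₀) ↔ g ∈ S' := by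
    intro g
    constructor
    · rintro ⟨n, T, p, p₀, x, ε, h⟩
      have := KPoints.locallyOfFiniteType_pw X n
      have h' : (Words.word f (Words.proj (X := X) n) ε).left.base ((Words.tup n x).left.base p) =
          g.left.base p₀ := by
        rw [← h]
        change ((Words.tup n x) ≫ Words.word f (Words.proj (X := X) n) ε).left.base p = _
        rw [Words.tup_comp_word]
        rfl
      obtain ⟨s, hs⟩ := KPoints.exists_lift_of_point (Words.word f (Words.proj (X := X) n) ε) g _ p₀ h'
      refine ⟨n, fun j => s ≫ Words.proj n j, ε, ?_⟩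
      rw [← Words.comp_word, hs]
    · rintro ⟨n, x, ε, rfl⟩
      obtain ⟨p₀⟩ := hpt
      exact ⟨n, 𝟙_ _, p₀, p₀, x, ε, rfl⟩
  ext g
  rw [Set.mem_ofPred_eq, hL g, SetLike.mem_coe]
  constructor
  · rintro ⟨n, x, ε, rfl⟩
    unfold Words.word
    apply Subgroup.list_prod_mem
    intro a ha
    rw [List.mem_ofFn] at ha
    obtain ⟨j, rfl⟩ := ha
    have hj : x j ≫ f ∈ Subgroup.closure {g : 𝟙_ (Over (Spec (CommRingCat.of k))) ⟶ G | ∃ p₀ : (𝟙_ (Over (Spec (CommRingCat.of k)))).left, g.left.base p₀ ∈ Set.range f.left.base} := by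
      apply Subgroup.subset_closure
      obtain ⟨p₀⟩ := hpt
      exact ⟨p₀, (x j).left.base p₀, rfl⟩
    dsimp only
    split_ifs
    · exact hj
    · exact Subgroup.inv_mem _ hj
  · intro hg
    revert g
    change Subgroup.closure _ ≤ S'
    rw [Subgroup.closure_le]
    rintro g ⟨p₀, x₀, hx₀⟩
    obtain ⟨s, hs⟩ := KPoints.exists_lift_of_point f g x₀ p₀ hx₀
    exact ⟨1, fun _ => s, fun _ => true, by rw [Words.word_one_true, hs]⟩

end Groth.Agent.S6075
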