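import Groth.Statements.S6239
import Mathlib

set_option autoImplicit false
universe u
open CategoryTheory CategoryTheory.Limits AlgebraicGeometry
attribute [local instance] HasDerivedCategory.standard
open KSix

namespace Groth.Agent.S6239

theorem torAmp_mono {A : Type u} [CommRing A] {a b a' b' : ℤ} (ha : a' ≤ a) (hb : b ≤ b')
    (K : Dual.D A) (h : DRing.HasTorAmplitudeIn A a b K) : DRing.HasTorAmplitudeIn A a' b' K := by
  obtain ⟨E, hE, hfl, e⟩ := h
  exact ⟨E, fun i hi => hE i (by omega), hfl, e⟩


/-- Let f : X ⟶ Y be a morphism with X quasi-compact and F a cochain complex of O_X-modules which is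
perfect relative to f (pseudo-coherent relative to f in chart form, and locally on X of finite
stalkwise tor amplitude over the local rings of Y). Then F has finite perfect amplitude relative to
f: one interval [a, b] works at every point of X. -/
theorem result {X Y : Scheme.{u}} [CompactSpace X] (f : X ⟶ Y)
    (F : CochainComplex X.Modules ℤ) (hF : DerSch.IsPerfectRel f F) :
    DerSch.HasFinitePerfAmplitudeRel f F := by
  obtain ⟨hpc, hloc⟩ := hF
  choose V a b hxV hV using hloc
  obtain ⟨s, hs⟩ := isCompact_univ.elim_finite_subcover (fun x : X => ((V x : X.Opens) : Set X))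
    (fun x => (V x).isOpen) (fun x _ => Set.mem_iUnion.2 ⟨x, hxV x⟩)
  by_cases hne : s.Nonempty
  · refine ⟨s.inf' hne a, s.sup' hne b, hpc, fun x => ?_⟩
    obtain ⟨y, hy⟩ := Set.mem_iUnion.1 (hs (Set.mem_univ x))
    obtain ⟨hys, hxy⟩ := Set.mem_iUnion.1 hy
    exact torAmp_mono (Finset.inf'_le a hys) (Finset.le_sup' b hys) _ (hV y x hxy)
  · refine ⟨0, 0, hpc, fun x => ?_⟩
    obtain ⟨y, hy⟩ := Set.mem_iUnion.1 (hs (Set.mem_univ x))
    obtain ⟨hys, hxy⟩ := Set.mem_iUnion.1 hy
    exact absurd ⟨y, hys⟩ hne

end Groth.Agent.S6239
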