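import Groth.Statements.S6454
import Mathlib
import Groth.Agent.Lib.Seat28C1Tensor

set_option autoImplicit false
set_option linter.style.haveILetI false
set_option linter.unusedVariables false
universe u
open CategoryTheory AlgebraicGeometry
open Cyc

namespace Groth.Agent.S6454

open Groth.Agent.Lib.Seat28 Groth.Agent.Lib.Seat28.C1Gen Groth.Agent.Lib.Seat28.C1Tensor
open Groth.Agent.Lib.Helper6 Groth.Agent.Lib.Helper23.SecTw

/-- arithmetic of orders: `ord(a) + ord(b) - ord(c) = ord(a b / c)`. -/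
lemma ord_arith {X : Scheme.{u}} {x ξ : X} (h : ξ ⤳ x) (a b c : X.residueField ξ)
    (ha : a ≠ 0) (hb : b ≠ 0) (hc : c ≠ 0) :
    Cyc.ordAt x ξ h a + Cyc.ordAt x ξ h b - Cyc.ordAt x ξ h c = Cyc.ordAt x ξ h (a * b * c⁻¹) := by
  unfold Cyc.ordAt
  rw [OrdFrac.ordFrac_mul (mul_ne_zero ha hb) (inv_ne_zero hc), OrdFrac.ordFrac_mul ha hb,
    OrdFrac.ordFrac_inv]
  ring

/-- the ratio `A B / C` of coordinates does not depend on the frames. -/
lemma ratio_indep {X : Scheme.{u}} (L N : X.Modules) {W₁ W₂ : X.Opens}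
    {a₁ : Γ(L, W₁)} {b₁ : Γ(N, W₁)} {a₂ : Γ(L, W₂)} {b₂ : Γ(N, W₂)}
    (ha₁ : IsGen L W₁ a₁) (hb₁ : IsGen N W₁ b₁) (hc₁ : IsGen (CohB1.tensorMod L N) W₁ (tm L N W₁ a₁ b₁))
    (ha₂ : IsGen L W₂ a₂) (hb₂ : IsGen N W₂ b₂) (hc₂ : IsGen (CohB1.tensorMod L N) W₂ (tm L N W₂ a₂ b₂))
    (ξ : X) (h₁ : ξ ∈ W₁) (h₂ : ξ ∈ W₂)
    (sL : Cyc.secFibre L ξ) (sN : Cyc.secFibre N ξ) (sT : Cyc.secFibre (CohB1.tensorMod L N) ξ)
    (hsL : sL ≠ 0) (hsN : sN ≠ 0) (hsT : sT ≠ 0) :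
    coord (isFrame_of_isGen _ _ _ ha₁) ξ h₁ sL * coord (isFrame_of_isGen _ _ _ hb₁) ξ h₁ sN *
        (coord (isFrame_of_isGen _ _ _ hc₁) ξ h₁ sT)⁻¹ =
      coord (isFrame_of_isGen _ _ _ ha₂) ξ h₂ sL * coord (isFrame_of_isGen _ _ _ hb₂) ξ h₂ sN *
        (coord (isFrame_of_isGen _ _ _ hc₂) ξ h₂ sT)⁻¹ := by
  have hV : ξ ∈ W₁ ⊓ W₂ := ⟨h₁, h₂⟩
  have hl : W₁ ⊓ W₂ ≤ W₁ := inf_le_left
  have hr : W₁ ⊓ W₂ ≤ W₂ := inf_le_right
  -- transition functions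
  obtain ⟨ra, hra⟩ := (ha₂ (W₁ ⊓ W₂) hr).2 (res L hl a₁)
  obtain ⟨rb, hrb⟩ := (hb₂ (W₁ ⊓ W₂) hr).2 (res N hl b₁)
  have hra' : res L hl a₁ = ra • res L hr a₂ := hra.symm
  have hrb' : res N hl b₁ = rb • res N hr b₂ := hrb.symm
  have hrc' : res (CohB1.tensorMod L N) hl (tm L N W₁ a₁ b₁) =
      (ra * rb) • res (CohB1.tensorMod L N) hr (tm L N W₂ a₂ b₂) := by
    rw [res_tm, res_tm, hra', hrb', tm_smul_left, tm_smul_right, mul_smul]
  -- frames on the intersection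
  have FA₁ := isFrame_res hl (isFrame_of_isGen _ _ _ ha₁)
  have FA₂ := isFrame_res hr (isFrame_of_isGen _ _ _ ha₂)
  have FB₁ := isFrame_res hl (isFrame_of_isGen _ _ _ hb₁)
  have FB₂ := isFrame_res hr (isFrame_of_isGen _ _ _ hb₂)
  have FC₁ := isFrame_res hl (isFrame_of_isGen _ _ _ hc₁)
  have FC₂ := isFrame_res hr (isFrame_of_isGen _ _ _ hc₂)
  have eA := coord_change FA₂ FA₁ ra hra' ξ hV sL
  have eB := coord_change FB₂ FB₁ rb hrb' ξ hV sN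
  have eC := coord_change FC₂ FC₁ (ra * rb) hrc' ξ hV sT
  have cA₁ : coord FA₁ ξ hV sL = coord (isFrame_of_isGen _ _ _ ha₁) ξ h₁ sL :=
    coord_res hl (isFrame_of_isGen _ _ _ ha₁) ξ hV sL
  have cA₂ : coord FA₂ ξ hV sL = coord (isFrame_of_isGen _ _ _ ha₂) ξ h₂ sL :=
    coord_res hr (isFrame_of_isGen _ _ _ ha₂) ξ hV sL
  have cB₁ : coord FB₁ ξ hV sN = coord (isFrame_of_isGen _ _ _ hb₁) ξ h₁ sN :=
    coord_res hl (isFrame_of_isGen _ _ _ hb₁) ξ hV sN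
  have cB₂ : coord FB₂ ξ hV sN = coord (isFrame_of_isGen _ _ _ hb₂) ξ h₂ sN :=
    coord_res hr (isFrame_of_isGen _ _ _ hb₂) ξ hV sN
  have cC₁ : coord FC₁ ξ hV sT = coord (isFrame_of_isGen _ _ _ hc₁) ξ h₁ sT :=
    coord_res hl (isFrame_of_isGen _ _ _ hc₁) ξ hV sT
  have cC₂ : coord FC₂ ξ hV sT = coord (isFrame_of_isGen _ _ _ hc₂) ξ h₂ sT :=
    coord_res hr (isFrame_of_isGen _ _ _ hc₂) ξ hV sT
  rw [cA₁, cA₂] at eA
  rw [cB₁, cB₂] at eB
  rw [cC₁, cC₂] at eC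
  rw [eA, eB, eC, map_mul, map_mul]
  have hA2 : coord (isFrame_of_isGen _ _ _ ha₂) ξ h₂ sL ≠ 0 := coord_ne_zero _ ξ h₂ hsL
  have hB2 : coord (isFrame_of_isGen _ _ _ hb₂) ξ h₂ sN ≠ 0 := coord_ne_zero _ ξ h₂ hsN
  rw [eA] at hA2
  rw [eB] at hB2
  have hρa := right_ne_zero_of_mul hA2
  have hρb := right_ne_zero_of_mul hB2
  have hC1 : coord (isFrame_of_isGen _ _ _ hc₁) ξ h₁ sT ≠ 0 := coord_ne_zero _ ξ h₁ hsT
  field_simp

/-- Let L, N be invertible O_X-modules and α a (k + 1)-cycle on X. Then c_1(L) ∩ α + c_1(N) ∩ α = c_1(L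
⊗ N) ∩ α in CH_k(X): for any nonzero rational sections used to compute the three caps (the tensor
product is CohB1.tensorMod), the sum of the first two k-cycles is rationally equivalent to the
third. Here L(ξ) = L_ξ/𝔪_ξ L_ξ is the space of rational sections of L on the closure of ξ,
div_{L|W}(s) and c_1(L) ∩ α are computed as coefficient functions from chosen nonzero rational
sections (Cyc.secDivFun, Cyc.c1CapFun), and results are compared up to rational equivalence for any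
cycles with those coefficients. A pair (X, δ) with Cyc.IsSetup plays the role of a scheme locally of
finite type over the base (S, δ) (X locally Noetherian with universally catenary local rings, δ a
dimension function). -/
theorem result (X : Scheme.{u}) (δ : X → ℤ) (hX : Cyc.IsSetup X δ) (L N : X.Modules) (hL : PicF.IsInvertible L) (hN : PicF.IsInvertible N) (k : ℤ) (α : AlgebraicCycle X ℤ) (hα : α ∈ Cyc.Zk X δ (k + 1)) (sL : (ξ : X) → Cyc.secFibre L ξ) (hsL : ∀ ξ, sL ξ ≠ 0) (sN : (ξ : X) → Cyc.secFibre N ξ) (hsN : ∀ ξ, sN ξ ≠ 0) (sT : (ξ : X) → Cyc.secFibre (CohB1.tensorMod L N) ξ) (hsT : ∀ ξ, sT ξ ≠ 0) (γL γN γT : AlgebraicCycle X ℤ) (hγL : ⇑γL = Cyc.c1CapFun δ L ⇑α sL) (hγN : ⇑γN = Cyc.c1CapFun δ N ⇑α sN) (hγT : ⇑γT = Cyc.c1CapFun δ (CohB1.tensorMod L N) ⇑α sT) : Cyc.RatEquiv δ k (γL + γN) γT := by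
  classical
  -- frames around every point
  have hfr := fun x => exists_frames L N hL hN x
  choose W a b hxW haG hbG hcG using hfr
  let g : (ξ : X) → X.residueField ξ := fun ξ =>
    coord (isFrame_of_isGen _ _ _ (haG ξ)) ξ (hxW ξ) (sL ξ) *
      coord (isFrame_of_isGen _ _ _ (hbG ξ)) ξ (hxW ξ) (sN ξ) *
      (coord (isFrame_of_isGen _ _ _ (hcG ξ)) ξ (hxW ξ) (sT ξ))⁻¹
  have hg : ∀ ξ, g ξ ≠ 0 := by
    intro ξ
    have hA := coord_ne_zero (isFrame_of_isGen _ _ _ (haG ξ)) ξ (hxW ξ) (hsL ξ)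
    have hB := coord_ne_zero (isFrame_of_isGen _ _ _ (hbG ξ)) ξ (hxW ξ) (hsN ξ)
    have hC := coord_ne_zero (isFrame_of_isGen _ _ _ (hcG ξ)) ξ (hxW ξ) (hsT ξ)
    have gen : ∀ (A B C : X.residueField ξ), A ≠ 0 → B ≠ 0 → C ≠ 0 → A * B * C⁻¹ ≠ 0 :=
      fun A B C hA hB hC => mul_ne_zero (mul_ne_zero hA hB) (inv_ne_zero hC)
    exact gen _ _ _ hA hB hC
  have key : ∀ (ξ x : X) (h : ξ ⤳ x),
      Cyc.secOrdAt L ξ x h (sL ξ) + Cyc.secOrdAt N ξ x h (sN ξ) -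
        Cyc.secOrdAt (CohB1.tensorMod L N) ξ x h (sT ξ) = Cyc.ordAt x ξ h (g ξ) := by
    intro ξ x h
    have hξW : ξ ∈ W x := h.mem_open (W x).isOpen (hxW x)
    rw [secOrdAt_eq_coord (isFrame_of_isGen _ _ _ (haG x)) h (hxW x),
      secOrdAt_eq_coord (isFrame_of_isGen _ _ _ (hbG x)) h (hxW x),
      secOrdAt_eq_coord (isFrame_of_isGen _ _ _ (hcG x)) h (hxW x)]
    rw [ord_arith h _ _ _ (coord_ne_zero _ ξ _ (hsL ξ)) (coord_ne_zero _ ξ _ (hsN ξ))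
      (coord_ne_zero _ ξ _ (hsT ξ))]
    congr 1
    exact ratio_indep L N (haG x) (hbG x) (hcG x) (haG ξ) (hbG ξ) (hcG ξ) ξ hξW (hxW ξ)
      (sL ξ) (sN ξ) (sT ξ) (hsL ξ) (hsN ξ) (hsT ξ)
  -- finiteness of the relevant supports
  have hfinx : ∀ x : X, {ξ : X | α ξ ≠ 0 ∧ ξ ⤳ x}.Finite := by
    intro x
    obtain ⟨T, hT, hfin⟩ := α.supportLocallyFiniteWithinDomain' x (Set.mem_univ _)
    obtain ⟨U, hUT, hUo, hxU⟩ := mem_nhds_iff.1 hT
    refine hfin.subset ?_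
    rintro ξ ⟨hξ1, hξ2⟩
    exact ⟨hUT (hξ2.mem_open hUo hxU), hξ1⟩
  have hsuppfin : ∀ (M : X.Modules) (r : (ξ : X) → Cyc.secFibre M ξ) (x : X),
      (Function.support fun ξ : X => α ξ * Cyc.secDivFun δ M ξ (r ξ) x).Finite := by
    intro M r x
    refine (hfinx x).subset ?_
    intro ξ hξ
    have hξ' : α ξ * Cyc.secDivFun δ M ξ (r ξ) x ≠ 0 := hξ
    refine ⟨left_ne_zero_of_mul hξ', ?_⟩
    by_contra hns
    apply right_ne_zero_of_mul hξ'
    unfold Cyc.secDivFun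
    rw [dif_neg (fun hc => hns hc.1)]
  refine ⟨{ξ : X // α ξ ≠ 0}, fun i => i.1, fun i => (g i.1) ^ (α i.1), ?_, ?_, ?_, ?_⟩
  · intro i
    by_contra hne
    exact i.2 (hα i.1 hne)
  · intro i
    exact zpow_ne_zero _ (hg i.1)
  · intro x
    obtain ⟨T, hT, hfin⟩ := α.supportLocallyFiniteWithinDomain' x (Set.mem_univ _)
    obtain ⟨U, hUT, hUo, hxU⟩ := mem_nhds_iff.1 hT
    refine ⟨U, hUo, hxU, ?_⟩
    have hinj : Function.Injective (fun i : {ξ : X // α ξ ≠ 0} => i.1) := Subtype.val_injective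
    refine Set.Finite.of_finite_image (f := fun i : {ξ : X // α ξ ≠ 0} => i.1) ?_ hinj.injOn
    refine hfin.subset ?_
    rintro _ ⟨i, hi, rfl⟩
    obtain ⟨y, hy1, hy2⟩ := hi
    refine ⟨hUT ?_, i.2⟩
    have hsp : i.1 ⤳ y := specializes_iff_mem_closure.2 hy1
    exact hsp.mem_open hUo hy2
  · intro x
    have hsub : (γL + γN - γT) x = γL x + γN x - γT x := rfl
    rw [hsub, hγL, hγN, hγT]
    unfold Cyc.c1CapFun
    rw [← finsum_add_distrib (hsuppfin L sL x) (hsuppfin N sN x)]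
    have hsuppfin2 : (Function.support fun ξ : X => α ξ * Cyc.secDivFun δ L ξ (sL ξ) x +
        α ξ * Cyc.secDivFun δ N ξ (sN ξ) x).Finite :=
      ((hsuppfin L sL x).union (hsuppfin N sN x)).subset (Function.support_add _ _)
    rw [← finsum_sub_distrib hsuppfin2 (hsuppfin _ sT x)]
    have hterm : ∀ ξ : X, α ξ * Cyc.secDivFun δ L ξ (sL ξ) x + α ξ * Cyc.secDivFun δ N ξ (sN ξ) x -
        α ξ * Cyc.secDivFun δ (CohB1.tensorMod L N) ξ (sT ξ) x =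
        Cyc.divFun δ ξ ((g ξ) ^ (α ξ)) x := by
      intro ξ
      unfold Cyc.secDivFun Cyc.divFun
      by_cases h : ξ ⤳ x ∧ δ x + 1 = δ ξ
      · rw [dif_pos h, dif_pos h, dif_pos h, dif_pos h]
        unfold Cyc.ordAt
        rw [OrdFrac.ordFrac_zpow (hg ξ) (α ξ)]
        have := key ξ x h.1
        unfold Cyc.ordAt at this
        rw [← this]
        ring
      · rw [dif_neg h, dif_neg h, dif_neg h, dif_neg h, mul_zero, add_zero, sub_zero]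
    simp_rw [hterm]
    -- reindex the finsum over the support of α
    have hsupp : (Function.support fun ξ : X => Cyc.divFun δ ξ ((g ξ) ^ (α ξ)) x) ⊆ {ξ | α ξ ≠ 0} := by
      intro ξ hξ
      by_contra h0
      have h0' : α ξ = 0 := by simpa using h0
      apply hξ
      change Cyc.divFun δ ξ ((g ξ) ^ (α ξ)) x = 0
      rw [← hterm, h0', zero_mul, zero_mul, zero_mul, add_zero, sub_zero]
    rw [finsum_subtype_eq_finsum_cond (f := fun ξ : X => Cyc.divFun δ ξ ((g ξ) ^ (α ξ)) x)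
      (fun ξ => α ξ ≠ 0), ← finsum_mem_univ]
    apply finsum_mem_inter_support_eq
    rw [Set.univ_inter]
    exact (Set.inter_eq_right.2 hsupp).symm

end Groth.Agent.S6454
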