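import Groth.Statements.S6455
import Mathlib
import Groth.Agent.Lib.Seat28C1Unit

set_option autoImplicit false
set_option linter.style.haveILetI false
set_option linter.unusedVariables false
universe u
open CategoryTheory AlgebraicGeometry
open Cyc

namespace Groth.Agent.S6455

open Groth.Agent.Lib.Seat28

/-- c_1(O_X) ∩ α = 0 in CH_k(X) for every (k + 1)-cycle α: computed with any nonzero rational sections
of the structure sheaf, the k-cycle c_1(O_X) ∩ α is rationally equivalent to zero. Here L(ξ) =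
L_ξ/𝔪_ξ L_ξ is the space of rational sections of L on the closure of ξ, div_{L|W}(s) and c_1(L) ∩ α
are computed as coefficient functions from chosen nonzero rational sections (Cyc.secDivFun,
Cyc.c1CapFun), and results are compared up to rational equivalence for any cycles with those
coefficients. A pair (X, δ) with Cyc.IsSetup plays the role of a scheme locally of finite type over
the base (S, δ) (X locally Noetherian with universally catenary local rings, δ a dimension
function). -/
theorem result (X : Scheme.{u}) (δ : X → ℤ) (hX : Cyc.IsSetup X δ) (k : ℤ) (α : AlgebraicCycle X ℤ) (hα : α ∈ Cyc.Zk X δ (k + 1)) (s : (ξ : X) → Cyc.secFibre (Coh.structureModule X) ξ) (hs : ∀ ξ, s ξ ≠ 0) (γ : AlgebraicCycle X ℤ) (hγ : ⇑γ = Cyc.c1CapFun δ (Coh.structureModule X) ⇑α s) : Cyc.RatEquivZero δ k γ := by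
  classical
  -- the rational functions
  let g : (ξ : X) → X.residueField ξ := fun ξ => C1Unit.θ ξ (s ξ)
  have hg : ∀ ξ, g ξ ≠ 0 := fun ξ h0 => hs ξ (C1Unit.θ_injective ξ (by rw [map_zero]; exact h0))
  refine ⟨{ξ : X // α ξ ≠ 0}, fun i => i.1, fun i => (g i.1) ^ (α i.1), ?_, ?_, ?_, ?_⟩
  · intro i
    by_contra hne
    exact i.2 (hα i.1 hne)
  · intro i
    exact zpow_ne_zero _ (hg i.1)
  · intro x
    obtain ⟨t, ht, hfin⟩ := α.supportLocallyFiniteWithinDomain' x (Set.mem_univ _)
    obtain ⟨U, hUt, hUo, hxU⟩ := mem_nhds_iff.1 ht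
    refine ⟨U, hUo, hxU, ?_⟩
    have hinj : Function.Injective (fun i : {ξ : X // α ξ ≠ 0} => i.1) := Subtype.val_injective
    refine Set.Finite.of_finite_image (f := fun i : {ξ : X // α ξ ≠ 0} => i.1) ?_ hinj.injOn
    refine hfin.subset ?_
    rintro _ ⟨i, hi, rfl⟩
    obtain ⟨y, hy1, hy2⟩ := hi
    refine ⟨hUt ?_, i.2⟩
    have hsp : i.1 ⤳ y := specializes_iff_mem_closure.2 hy1
    exact hsp.mem_open hUo hy2
  · intro x
    rw [hγ]
    unfold Cyc.c1CapFun
    have hterm : ∀ ξ : X, α ξ * Cyc.secDivFun δ (Coh.structureModule X) ξ (s ξ) x =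
        Cyc.divFun δ ξ ((g ξ) ^ (α ξ)) x := by
      intro ξ
      unfold Cyc.secDivFun Cyc.divFun
      by_cases h : ξ ⤳ x ∧ δ x + 1 = δ ξ
      · rw [dif_pos h, dif_pos h, C1Unit.secOrdAt_unit]
        unfold Cyc.ordAt
        exact (OrdFrac.ordFrac_zpow (hg ξ) (α ξ)).symm
      · rw [dif_neg h, dif_neg h, mul_zero]
    simp_rw [hterm]
    -- reindex the finsum over the support of α
    have hsupp : (Function.support fun ξ : X => Cyc.divFun δ ξ ((g ξ) ^ (α ξ)) x) ⊆ {ξ | α ξ ≠ 0} := by
      intro ξ hξ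
      by_contra h0
      have h0' : α ξ = 0 := by simpa using h0
      apply hξ
      change Cyc.divFun δ ξ ((g ξ) ^ (α ξ)) x = 0
      rw [← hterm, h0', zero_mul]
    rw [finsum_subtype_eq_finsum_cond (f := fun ξ : X => Cyc.divFun δ ξ ((g ξ) ^ (α ξ)) x)
      (fun ξ => α ξ ≠ 0), ← finsum_mem_univ]
    apply finsum_mem_inter_support_eq
    rw [Set.univ_inter]
    exact (Set.inter_eq_right.2 hsupp).symm

end Groth.Agent.S6455
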