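import Groth.Statements.S6456
import Mathlib
import Groth.Agent.Lib.Seat28C1Inv

set_option autoImplicit false
set_option linter.style.haveILetI false
set_option linter.unusedVariables false
universe u
open CategoryTheory AlgebraicGeometry
open Cyc

namespace Groth.Agent.S6456

open Groth.Agent.Lib.Seat28

/-- Let (L, s, i : D → X) be a triple defining a Gysin map (L invertible, s a global section, i the
closed immersion of its zero scheme) and α a (k + 1)-cycle on X. Then i_* i^* α = c_1(L) ∩ α in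
CH_k(X). Here i_* i^* α is the k-cycle on X computed as c_1(L) ∩ α with the rational sections s
where s is nonzero in L(ξ) and a nonzero fallback w elsewhere (Cyc.gysinChoice), and c_1(L) ∩ α on
the right is computed with any nonzero rational sections t. Here L(ξ) = L_ξ/𝔪_ξ L_ξ is the space of
rational sections of L on the closure of ξ, div_{L|W}(s) and c_1(L) ∩ α are computed as coefficient
functions from chosen nonzero rational sections (Cyc.secDivFun, Cyc.c1CapFun), and results are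
compared up to rational equivalence for any cycles with those coefficients. A pair (X, δ) with
Cyc.IsSetup plays the role of a scheme locally of finite type over the base (S, δ) (X locally
Noetherian with universally catenary local rings, δ a dimension function). -/
theorem result (X D : Scheme.{u}) (δ : X → ℤ) (hX : Cyc.IsSetup X δ) (L : X.Modules) (hL : PicF.IsInvertible L) (s : L.presheaf.obj (Opposite.op ⊤)) (i : D ⟶ X) [IsClosedImmersion i] (hD : Cyc.IsZeroSchemeOf i L s) (k : ℤ) (α : AlgebraicCycle X ℤ) (hα : α ∈ Cyc.Zk X δ (k + 1)) (w : (ξ : X) → Cyc.secFibre L ξ) (hw : ∀ ξ, w ξ ≠ 0) (t : (ξ : X) → Cyc.secFibre L ξ) (ht : ∀ ξ, t ξ ≠ 0) (γ₁ γ₂ : AlgebraicCycle X ℤ) (h₁ : ⇑γ₁ = Cyc.c1CapFun δ L ⇑α (Cyc.gysinChoice L s w)) (h₂ : ⇑γ₂ = Cyc.c1CapFun δ L ⇑α t) : Cyc.RatEquiv δ k γ₁ γ₂ := by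
  classical
  set s₁ := Cyc.gysinChoice L s w with hs₁_def
  have hs₁ : ∀ ξ, s₁ ξ ≠ 0 := by
    intro ξ
    rw [hs₁_def]
    unfold Cyc.gysinChoice
    split_ifs with hc
    · exact hc
    · exact hw ξ
  -- the ratios
  have hρex : ∀ ξ : X, ∃ ρ : X.presheaf.stalk ξ, s₁ ξ = ρ • t ξ :=
    fun ξ => C1Inv.exists_smul_eq hL ξ (s₁ ξ) (t ξ) (ht ξ)
  choose ρ hρ using hρex
  let g : (ξ : X) → X.residueField ξ := fun ξ => IsLocalRing.residue _ (ρ ξ)
  have hg : ∀ ξ, g ξ ≠ 0 := by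
    intro ξ h0
    apply hs₁ ξ
    rw [hρ ξ]
    have hm : ρ ξ ∈ IsLocalRing.maximalIdeal (X.presheaf.stalk ξ) :=
      (IsLocalRing.residue_eq_zero_iff _).1 h0
    obtain ⟨m, hm'⟩ := Submodule.Quotient.mk_surjective _ (t ξ)
    rw [← hm', ← Submodule.Quotient.mk_smul, Submodule.Quotient.mk_eq_zero]
    exact Submodule.smul_mem_smul hm Submodule.mem_top
  -- finiteness of the relevant supports
  have hfinx : ∀ x : X, {ξ : X | α ξ ≠ 0 ∧ ξ ⤳ x}.Finite := by
    intro x
    obtain ⟨T, hT, hfin⟩ := α.supportLocallyFiniteWithinDomain' x (Set.mem_univ _)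
    obtain ⟨U, hUT, hUo, hxU⟩ := mem_nhds_iff.1 hT
    refine hfin.subset ?_
    rintro ξ ⟨hξ1, hξ2⟩
    exact ⟨hUT (hξ2.mem_open hUo hxU), hξ1⟩
  have hsuppfin : ∀ (r : (ξ : X) → Cyc.secFibre L ξ) (x : X),
      (Function.support fun ξ : X => α ξ * Cyc.secDivFun δ L ξ (r ξ) x).Finite := by
    intro r x
    refine (hfinx x).subset ?_
    intro ξ hξ
    have hξ' : α ξ * Cyc.secDivFun δ L ξ (r ξ) x ≠ 0 := hξ
    refine ⟨left_ne_zero_of_mul hξ', ?_⟩
    by_contra hns
    apply right_ne_zero_of_mul hξ'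
    unfold Cyc.secDivFun
    rw [dif_neg (fun hc => hns hc.1)]
  refine ⟨{ξ : X // α ξ ≠ 0}, fun i => i.1, fun i => (g i.1) ^ (α i.1), ?_, ?_, ?_, ?_⟩
  · intro i
    by_contra hne
    exact i.2 (hα i.1 hne)
  · intro i
    exact zpow_ne_zero _ (hg i.1)
  · intro x
    obtain ⟨T, hT, hfin⟩ := α.supportLocallyFiniteWithinDomain' x (Set.mem_univ _)
    obtain ⟨U, hUT, hUo, hxU⟩ := mem_nhds_iff.1 hT
    refine ⟨U, hUo, hxU, ?_⟩
    have hinj : Function.Injective (fun i : {ξ : X // α ξ ≠ 0} => i.1) := Subtype.val_injective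
    refine Set.Finite.of_finite_image (f := fun i : {ξ : X // α ξ ≠ 0} => i.1) ?_ hinj.injOn
    refine hfin.subset ?_
    rintro _ ⟨i, hi, rfl⟩
    obtain ⟨y, hy1, hy2⟩ := hi
    refine ⟨hUT ?_, i.2⟩
    have hsp : i.1 ⤳ y := specializes_iff_mem_closure.2 hy1
    exact hsp.mem_open hUo hy2
  · intro x
    have hsub : (γ₁ - γ₂) x = γ₁ x - γ₂ x := rfl
    rw [hsub, h₁, h₂]
    unfold Cyc.c1CapFun
    rw [← finsum_sub_distrib (hsuppfin s₁ x) (hsuppfin t x)]
    have hterm : ∀ ξ : X, α ξ * Cyc.secDivFun δ L ξ (s₁ ξ) x - α ξ * Cyc.secDivFun δ L ξ (t ξ) x =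
        Cyc.divFun δ ξ ((g ξ) ^ (α ξ)) x := by
      intro ξ
      unfold Cyc.secDivFun Cyc.divFun
      by_cases h : ξ ⤳ x ∧ δ x + 1 = δ ξ
      · rw [dif_pos h, dif_pos h, dif_pos h]
        have h1 : Cyc.secOrdAt L ξ x h.1 (s₁ ξ) =
            Cyc.ordAt x ξ h.1 (g ξ) + Cyc.secOrdAt L ξ x h.1 (t ξ) := by
          conv_lhs => rw [hρ ξ]
          exact C1Inv.secOrdAt_smul hL h.1 (ρ ξ) (t ξ) (by rw [← hρ ξ]; exact hs₁ ξ)
        rw [h1]
        unfold Cyc.ordAt
        rw [OrdFrac.ordFrac_zpow (hg ξ) (α ξ)]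
        ring
      · rw [dif_neg h, dif_neg h, dif_neg h, mul_zero, sub_zero]
    simp_rw [hterm]
    -- reindex the finsum over the support of α
    have hsupp : (Function.support fun ξ : X => Cyc.divFun δ ξ ((g ξ) ^ (α ξ)) x) ⊆ {ξ | α ξ ≠ 0} := by
      intro ξ hξ
      by_contra h0
      have h0' : α ξ = 0 := by simpa using h0
      apply hξ
      change Cyc.divFun δ ξ ((g ξ) ^ (α ξ)) x = 0
      rw [← hterm, h0', zero_mul, zero_mul, sub_zero]
    rw [finsum_subtype_eq_finsum_cond (f := fun ξ : X => Cyc.divFun δ ξ ((g ξ) ^ (α ξ)) x)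
      (fun ξ => α ξ ≠ 0), ← finsum_mem_univ]
    apply finsum_mem_inter_support_eq
    rw [Set.univ_inter]
    exact (Set.inter_eq_right.2 hsupp).symm

end Groth.Agent.S6456
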