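import Groth.Statements.S6463
-- import your own Groth.Agent.* helpers here

set_option autoImplicit false
universe u
open CategoryTheory CategoryTheory.Limits AlgebraicGeometry
open PicF

namespace Groth.Agent.S6463

open Opposite in
/-- For a proper integral scheme over a field with a rational point, `k → Γ(X, O_X)` is an iso. -/
lemma isIso_appTop (k : Type u) [Field k] (X : Scheme.{u}) (f : X ⟶ Spec (CommRingCat.of k))
    [IsProper f] [IsIntegral X] (σ : Spec (CommRingCat.of k) ⟶ X)
    (hσ : σ ≫ f = 𝟙 (Spec (CommRingCat.of k))) : IsIso f.appTop := by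
  have h1 : f.appTop ≫ σ.appTop = 𝟙 _ := by
    rw [← Scheme.Hom.comp_appTop, hσ]; rfl
  have hF : IsField Γ(X, ⊤) := isField_of_universallyClosed k f
  have hinj : Function.Injective σ.appTop.hom := by
    let _ := hF.toField
    exact RingHom.injective σ.appTop.hom
  have hsurj : Function.Surjective σ.appTop.hom := by
    intro y
    refine ⟨f.appTop.hom y, ?_⟩
    have := congrArg (fun φ => φ.hom y) h1
    simpa using this
  have hσiso : IsIso σ.appTop := (ConcreteCategory.isIso_iff_bijective _).mpr ⟨hinj, hsurj⟩
  have : IsIso (f.appTop ≫ σ.appTop) := by rw [h1]; infer_instance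
  exact IsIso.of_isIso_comp_right f.appTop σ.appTop

open Opposite in
/-- the affine case -/
lemma isIso_app_affine (k : Type u) [Field k] (X : Scheme.{u}) (f : X ⟶ Spec (CommRingCat.of k))
    [IsProper f] [IsIntegral X] (σ : Spec (CommRingCat.of k) ⟶ X)
    (hσ : σ ≫ f = 𝟙 (Spec (CommRingCat.of k))) (T : Scheme.{u}) (t : T ⟶ Spec (CommRingCat.of k))
    (V : T.Opens) (hV : IsAffineOpen V) : IsIso ((pullback.snd f t).app V) := by
  have H : IsPullback (pullback.fst f t) (pullback.snd f t) f t := IsPullback.of_hasPullback f t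
  have hXc : CompactSpace X := (quasiCompact_iff_compactSpace f).mp inferInstance
  have hXqs : QuasiSeparatedSpace X := (quasiSeparated_iff_quasiSeparatedSpace f).mp inferInstance
  have h1 : V ≤ t ⁻¹ᵁ ⊤ := by simp
  have h2 : (⊤ : X.Opens) ≤ f ⁻¹ᵁ ⊤ := by simp
  have hiso := isIso_pushoutSection_of_isQuasiSeparated_of_flat_right H
    (US := ⊤) (UT := V) (UX := ⊤) (UY := (pullback.snd f t) ⁻¹ᵁ V) h1 h2 (by simp)
    (isAffineOpen_top _) hV isCompact_univ isQuasiSeparated_univ
  have hpo := (isIso_pushoutSection_iff H (US := ⊤) (UT := V) (UX := ⊤)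
    (UY := (pullback.snd f t) ⁻¹ᵁ V) h1 h2 (by simp)).mp hiso
  have hf : IsIso (f.appLE ⊤ ⊤ h2) := by
    have h3 : IsIso (f.app ⊤) := isIso_appTop k X f σ hσ
    have h4 : IsIso (homOfLE h2) := ⟨⟨homOfLE le_top, Subsingleton.elim _ _, Subsingleton.elim _ _⟩⟩
    rw [Scheme.Hom.appLE]
    infer_instance
  have := hpo.isIso_inr_of_isIso hf
  simpa [Scheme.Hom.appLE] using this


/-- For a field k and a smooth projective curve X over k that has a k-rational point σ, the conditions
under which the Picard functor is computed through the section are met: f : X → Spec k is flat,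
proper and of finite presentation with a section, and O_T → f_{T,*} O_{X_T} is an isomorphism for
every scheme T over k. Only the last assertion is stated (the others are part of the hypotheses or
immediate): for every t : T → Spec k, the sheaf map of the base change X ×_k T → T is an
isomorphism. Proper replaces projective (they agree for curves over a field). -/
theorem result (k : Type u) [Field k] (X : Scheme.{u}) (f : X ⟶ Spec (CommRingCat.of k)) (hX : Curve.IsSmoothProperCurve k X f) (σ : Spec (CommRingCat.of k) ⟶ X) (hσ : σ ≫ f = 𝟙 (Spec (CommRingCat.of k))) (T : Scheme.{u}) (t : T ⟶ Spec (CommRingCat.of k)) : IsIso (pullback.snd f t).c := by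
  obtain ⟨hprop, -, hint, -⟩ := hX
  let g := pullback.snd f t
  let φ : T.sheaf ⟶ (TopCat.Sheaf.pushforward CommRingCat g.base).obj (pullback f t).sheaf :=
    ⟨g.c⟩
  have hφ : IsIso φ := by
    refine TopCat.Sheaf.isIso_iff_isIso_basis (B := fun V : T.affineOpens => (V : T.Opens)) ?_ ?_
    · rw [Subtype.range_coe]
      exact T.isBasis_affineOpens
    · intro V
      exact isIso_app_affine k X f σ hσ T t V.1 V.2
  exact ((sheafToPresheaf _ _).mapIso (@asIso _ _ _ _ φ hφ)).isIso_hom

end Groth.Agent.S6463
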