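import Groth.Statements.S6473
import Groth.Agent.Lib.Seat66CharCycKrull

set_option autoImplicit false
universe u
open CategoryTheory CategoryTheory.Limits AlgebraicGeometry
open IntMult

open Groth.Agent.Lib.Helper4.VarDim Groth.Agent.Lib.Seat66.CharCycTop Groth.Agent.Lib.Seat66.CharCycBase Groth.Agent.Lib.Seat66.CharCycFib Groth.Agent.Lib.Seat66.CharCycKrull
open Topology TopologicalSpace

set_option linter.style.haveILetI false

namespace Groth.Agent.S6473

/-- Let f : X → Y be a morphism of varieties over K which is a regular immersion of codimension c, and Z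
⊂ Y a closed subvariety of dimension d. Then each irreducible component T of f⁻¹(Z) = X ×_Y Z
satisfies dim T ≥ d − c; stated as d ≤ dim T + c. Varieties: integral, separated, of finite type
over the algebraically closed field K. (The published statement takes f to be a closed immersion,
regular immersions being closed there; this row allows any immersion cut out, locally on Y where it
is closed, by a regular sequence of length c, the bound being local on Y. The published statement
also has a second part, for local complete intersection morphisms of a given relative dimension,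
which this row does not state.) -/
theorem result (K : Type u) [Field K] [IsAlgClosed K] (X Y Z : Scheme.{u}) (gX : X ⟶ Spec (CommRingCat.of K)) (gY : Y ⟶ Spec (CommRingCat.of K)) [IsSeparated gX] [LocallyOfFiniteType gX] [QuasiCompact gX] [IsIntegral X] [IsSeparated gY] [LocallyOfFiniteType gY] [QuasiCompact gY] [IsIntegral Y] (f : X ⟶ Y) (hf : f ≫ gY = gX) (c : ℕ) (hreg : RegImm.IsRegularImmersionOfCodim RegImm.Kind.regular c f) (ι : Z ⟶ Y) [IsClosedImmersion ι] [IsIntegral Z] (d : ℕ) (hd : topologicalKrullDim Z = d) (T : Set ↥(pullback f ι)) (hT : T ∈ irreducibleComponents ↥(pullback f ι)) : ((d : ℕ) : WithBot ℕ∞) ≤ topologicalKrullDim ↥T + c := by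
  classical
  obtain ⟨hfimm, hloc⟩ := hreg
  letI : Y.Over (Spec (CommRingCat.of K)) := ⟨gY⟩
  letI : Z.Over (Spec (CommRingCat.of K)) := ⟨ι ≫ gY⟩
  letI : (pullback f ι).Over (Spec (CommRingCat.of K)) := ⟨pullback.snd f ι ≫ ι ≫ gY⟩
  haveI : LocallyOfFiniteType (Z ↘ Spec (CommRingCat.of K)) :=
    inferInstanceAs (LocallyOfFiniteType (ι ≫ gY))
  haveI : LocallyOfFiniteType ((pullback f ι) ↘ Spec (CommRingCat.of K)) :=
    inferInstanceAs (LocallyOfFiniteType (pullback.snd f ι ≫ ι ≫ gY))
  haveI : CompactSpace X := QuasiCompact.compactSpace_of_compactSpace gX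
  haveI : IsNoetherian X := isNoetherian_of_lft K gX
  haveI : QuasiCompact f := inferInstance
  have hTc : IsClosed T := isClosed_of_mem_irreducibleComponents _ hT
  obtain ⟨ξ, hξ⟩ := QuasiSober.sober hT.1 hTc
  rw [topologicalKrullDim_eq_trdegNat_of_isGenericPoint K T ξ hξ]
  have hζ : IsGenericPoint (genericPoint Z) (⊤ : Set Z) := genericPoint_spec Z
  have hζd : trdegNat K Z (genericPoint Z) = d := by
    have h1 := topologicalKrullDim_closure_singleton K Z (genericPoint Z)
    rw [hζ.def, Set.top_eq_univ, topologicalKrullDim_univ_eq, hd] at h1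
    exact_mod_cast h1.symm
  have hxz : f (pullback.fst f ι ξ) = ι (pullback.snd f ι ξ) := by
    rw [← Scheme.Hom.comp_apply, ← Scheme.Hom.comp_apply, pullback.condition]
  obtain ⟨UY, hxU, hcl, rs, hlen, -, hker⟩ := hloc (pullback.fst f ι ξ)
  have hz : ι (pullback.snd f ι ξ) ∈ UY.1 := hxz ▸ hxU
  obtain ⟨U, hU, hzU, hUle⟩ :=
    exists_isAffineOpen_mem_and_subset (U := ι ⁻¹ᵁ UY.1) (x := pullback.snd f ι ξ) hz
  have hUle' : U ≤ ι ⁻¹ᵁ UY.1 := hUle
  have hζz : genericPoint Z ⤳ pullback.snd f ι ξ := hζ.specializes trivial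
  have hζU : genericPoint Z ∈ U := hζz.mem_open U.isOpen hzU
  have hvan : ∀ y ∈ U, (∀ a ∈ rs.map (ι.appLE UY.1 U hUle').hom, y ∉ Z.basicOpen a) ↔
      ι y ∈ Set.range f := by
    intro y hy
    rw [mem_range_iff_forall_notMem_basicOpen f UY hcl rs hker (ι y) (hUle hy)]
    simp only [List.mem_map, forall_exists_index, and_imp, forall_apply_eq_imp_iff₂]
    refine forall₂_congr fun r hr => ?_
    rw [Scheme.basicOpen_appLE]
    constructor
    · intro h1 h2
      exact h1 ⟨hy, h2⟩
    · intro h1 h2
      exact h1 h2.2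
  obtain ⟨y, hyU, hζy, hyz, hyv, hyd⟩ := exists_specialization_vanishing K Z hU
    (rs.map (ι.appLE UY.1 U hUle').hom) (genericPoint Z) (pullback.snd f ι ξ) hζU hzU hζz
    ((hvan _ hzU).mpr ⟨_, hxz⟩)
  obtain ⟨x', hx'⟩ := (hvan y hyU).mp hyv
  obtain ⟨p, hp1, hp2⟩ :=
    Scheme.Pullback.exists_preimage_pullback (f := f) (g := ι) x' y hx'
  have hpξ : p ⤳ ξ :=
    (pullback.snd f ι).isEmbedding.isInducing.specializes_iff.mp (by rw [hp2]; exact hyz)
  have hpT : p ∈ T := by
    have hirr : IsIrreducible (closure ({p} : Set ↥(pullback f ι))) :=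
      isIrreducible_singleton.closure
    have hle : T ≤ closure {p} := by
      rw [← hξ.def]
      exact closure_minimal
        (Set.singleton_subset_iff.mpr (specializes_iff_mem_closure.mp hpξ)) isClosed_closure
    exact hT.2 hirr hle (subset_closure rfl)
  have h1 : trdegNat K (pullback f ι) p ≤ trdegNat K (pullback f ι) ξ :=
    trdegNat_le_of_specializes K (pullback f ι) ξ p (hξ.specializes hpT)
  have h2 : trdegNat K (pullback f ι) p = trdegNat K Z y := by
    rw [trdegNat_eq_of_isPreimmersion K (pullback.snd f ι) rfl p, hp2]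
  rw [List.length_map, hlen, hζd] at hyd
  have h3 : d ≤ trdegNat K (pullback f ι) ξ + c := by omega
  exact_mod_cast h3

end Groth.Agent.S6473
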