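import Groth.Statements.S6477
import Mathlib
import Groth.Agent.Lib.Helper1Sky4
import Groth.Agent.Lib.Seat28FibreMax
set_option backward.isDefEq.respectTransparency.types false

set_option autoImplicit false
set_option linter.style.haveILetI false
set_option linter.unusedVariables false
universe u
open CategoryTheory AlgebraicGeometry
open CategoryTheory.Limits
open Cyc

namespace Groth.Agent.S6477

open Groth.Agent.Lib.Seat28.FibreMax IsLocalRing TensorProduct
open Groth.Agent.Lib.Helper1.Sky Groth.Agent.Lib.Helper1.StalkTensor

/-- the length of the stalk of a flat pullback. -/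
theorem length_stalk_pullback {X' X : Scheme.{u}} (p : X' ⟶ X) [Flat p] (F : X.Modules) (x' : X') :
    Module.length (X'.presheaf.stalk x') (((Scheme.Modules.pullback p).obj F).presheaf.stalk x') =
      Module.length (X.presheaf.stalk (p x')) (F.presheaf.stalk (p x')) *
        Module.length (X'.presheaf.stalk x') (X'.presheaf.stalk x' ⧸
          Ideal.map (p.stalkMap x').hom (maximalIdeal (X.presheaf.stalk (p x')))) := by
  letI : Algebra (Ox (p x')) (Ox x') := (p.stalkMap x').hom.toAlgebra
  haveI : Module.Flat (Ox (p x')) (Ox x') := Flat.stalkMap p x'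
  haveI : IsLocalHom (algebraMap (Ox (p x')) (Ox x')) := p.toLRSHom.prop x'
  have e := ((stalkPullbackIso p x').app F).toLinearEquiv
  have h1 := e.length_eq
  have h2 := IsLocalRing.length_baseChange (Ox (p x')) (Ox x') (St (toPM F) (p x'))
  exact h1.trans h2

/-- Let F be a coherent O_X-module with dim_δ Supp(F) ≤ k and F' = p^*F its base change to X'. Then
dim_{δ'} Supp(F') ≤ k + c and g^*[F]_k = [F']_{k+c} in Z_{k+c}(X') (coefficientwise; support bounds
through nontrivial stalks). Setting: p : X' → X is flat (not necessarily of finite type), (X, δ) and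
(X', δ') satisfy Cyc.IsSetup, and δ'(x') = δ(p x') + c whenever x' is maximal under generalization
inside its fibre p⁻¹(p x'); g^* : Z_k(X) → Z_{k+c}(X') is the coefficientwise flat pullback
Cyc.pullFun p δ' δ c. (The published statement takes X′ = X ×_S S′ for a flat S′ → S and X locally
of finite type over S; this row allows any flat p : X′ → X with the shift condition. The published
statement also has a part for closed subschemes, which follows with [Z]_k = [O_Z]_k; this row does
not restate it.) -/
theorem result (X X' : Scheme.{u}) (p : X' ⟶ X) [Flat p] (δ : X → ℤ) (δ' : X' → ℤ) (hX : Cyc.IsSetup X δ) (hX' : Cyc.IsSetup X' δ') (c : ℤ) (hc : ∀ x' : X', (∀ y, p y = p x' → y ⤳ x' → y = x') → δ' x' = δ (p x') + c) (k : ℤ) (F : X.Modules) (hF : Coh.IsCoh F) (hdim : ∀ x : X, Nontrivial (F.presheaf.stalk x) → δ x ≤ k) : (∀ x' : X', Nontrivial (((Scheme.Modules.pullback p).obj F).presheaf.stalk x') → δ' x' ≤ k + c) ∧ Cyc.pullFun p δ' δ c (Cyc.sheafFun δ k F) = Cyc.sheafFun δ' (k + c) ((Scheme.Modules.pullback p).obj F) := by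
  obtain ⟨-, -, hdim'⟩ := hX'
  have hle := fun x' => delta_le p δ δ' hdim' c hc x'
  have hlen := fun x' => length_stalk_pullback p F x'
  have hnt : ∀ x' : X', Nontrivial (((Scheme.Modules.pullback p).obj F).presheaf.stalk x') →
      Nontrivial (F.presheaf.stalk (p x')) := by
    intro x' h
    by_contra hn
    rw [not_nontrivial_iff_subsingleton] at hn
    have h0 : Module.length (X.presheaf.stalk (p x')) (F.presheaf.stalk (p x')) = 0 :=
      Module.length_eq_zero_iff.2 hn
    have h1 := hlen x'
    rw [h0, zero_mul] at h1
    have h2 := Module.length_eq_zero_iff.1 h1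
    exact not_subsingleton _ h2
  constructor
  · intro x' h
    have h1 := hdim (p x') (hnt x' h)
    have h2 := hle x'
    omega
  · funext x'
    unfold Cyc.pullFun Cyc.sheafFun
    by_cases hF : Subsingleton (F.presheaf.stalk (p x'))
    · have h0 : Module.length (X.presheaf.stalk (p x')) (F.presheaf.stalk (p x')) = 0 :=
        Module.length_eq_zero_iff.2 hF
      have h1 := hlen x'
      rw [h0, zero_mul] at h1
      rw [h0, h1]
      simp
    · have hnt' : Nontrivial (F.presheaf.stalk (p x')) := not_subsingleton_iff_nontrivial.1 hF
      have hk := hdim (p x') hnt'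
      have h3 := hle x'
      by_cases h1 : δ' x' = δ (p x') + c
      · rw [if_pos h1]
        by_cases h2 : δ (p x') = k
        · rw [if_pos h2, if_pos (by omega), hlen, ENat.toNat_mul]
          push_cast
          ring
        · rw [if_neg h2, zero_mul, if_neg (by omega)]
      · rw [if_neg h1, if_neg (by omega)]

end Groth.Agent.S6477
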