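import Groth.Statements.S6479
import Mathlib
import Groth.Agent.Lib.Seat28FibreMax

set_option autoImplicit false
set_option linter.style.haveILetI false
set_option linter.unusedVariables false
universe u
open CategoryTheory AlgebraicGeometry
open CategoryTheory.Limits
open Cyc

namespace Groth.Agent.S6479

open Groth.Agent.Lib.Seat28.FibreMax IsLocalRing TensorProduct

/-- multiplicativity of the length of the fibre ring along a flat local homomorphism. -/
theorem length_quot_comp {A B C : Type u} [CommRing A] [CommRing B] [CommRing C]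
    [IsLocalRing A] [IsLocalRing B] [IsLocalRing C]
    (φ : A →+* B) (ψ : B →+* C) [IsLocalHom ψ] (hψ : ψ.Flat) :
    Module.length C (C ⧸ Ideal.map (ψ.comp φ) (maximalIdeal A)) =
      Module.length B (B ⧸ Ideal.map φ (maximalIdeal A)) *
        Module.length C (C ⧸ Ideal.map ψ (maximalIdeal B)) := by
  letI : Algebra B C := ψ.toAlgebra
  haveI : Module.Flat B C := hψ
  haveI : IsLocalHom (algebraMap B C) := ‹IsLocalHom ψ›
  have h1 := IsLocalRing.length_baseChange B C (B ⧸ Ideal.map φ (maximalIdeal A))
  have h2 : Module.length C (C ⊗[B] (B ⧸ Ideal.map φ (maximalIdeal A))) =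
      Module.length C (C ⧸ (Ideal.map φ (maximalIdeal A)).map (algebraMap B C)) :=
    ((Algebra.TensorProduct.quotIdealMapEquivTensorQuot C
      (Ideal.map φ (maximalIdeal A))).toLinearEquiv.length_eq).symm
  rw [h2, Ideal.map_map] at h1
  exact h1

/-- Let p : X' → X and p' : X'' → X' be flat with shifts c and c' on the dimension functions at generic
points of fibre components. Then the composite p' ≫ p has shift c + c' at generic points of its
fibre components, and g^* followed by (g')^* is (g ∘ g')^* on k-cycles: Cyc.pullFun (p' ≫ p) δ'' δ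
(c + c') α = Cyc.pullFun p' δ'' δ' c' (Cyc.pullFun p δ' δ c α). Setting: p : X' → X is flat (not
necessarily of finite type), (X, δ) and (X', δ') satisfy Cyc.IsSetup, and δ'(x') = δ(p x') + c
whenever x' is maximal under generalization inside its fibre p⁻¹(p x'); g^* : Z_k(X) → Z_{k+c}(X')
is the coefficientwise flat pullback Cyc.pullFun p δ' δ c. (The published statement takes both maps
to be base changes along flat S″ → S′ → S of one scheme locally of finite type over S, and has a
third part, the same composition on Chow groups, which follows; this row allows any two flat maps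
with the shift conditions.) -/
theorem result (X X' X'' : Scheme.{u}) (p : X' ⟶ X) (p' : X'' ⟶ X') [Flat p] [Flat p'] (δ : X → ℤ) (δ' : X' → ℤ) (δ'' : X'' → ℤ) (hX : Cyc.IsSetup X δ) (hX' : Cyc.IsSetup X' δ') (hX'' : Cyc.IsSetup X'' δ'') (c c' : ℤ) (hc : ∀ x' : X', (∀ y, p y = p x' → y ⤳ x' → y = x') → δ' x' = δ (p x') + c) (hc' : ∀ x'' : X'', (∀ y, p' y = p' x'' → y ⤳ x'' → y = x'') → δ'' x'' = δ' (p' x'') + c') (k : ℤ) (α : AlgebraicCycle X ℤ) (hα : α ∈ Cyc.Zk X δ k) : (∀ x'' : X'', (∀ y, (p' ≫ p) y = (p' ≫ p) x'' → y ⤳ x'' → y = x'') → δ'' x'' = δ ((p' ≫ p) x'') + (c + c')) ∧ Cyc.pullFun (p' ≫ p) δ'' δ (c + c') ⇑α = Cyc.pullFun p' δ'' δ' c' (Cyc.pullFun p δ' δ c ⇑α) := by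
  obtain ⟨-, -, hdim'⟩ := hX'
  obtain ⟨-, -, hdim''⟩ := hX''
  have hgen' : GeneralizingMap p' := Flat.generalizingMap p'
  have claim1 : ∀ x'' : X'', (∀ y, (p' ≫ p) y = (p' ≫ p) x'' → y ⤳ x'' → y = x'') →
      δ'' x'' = δ ((p' ≫ p) x'') + (c + c') := by
    intro x'' hmax
    obtain ⟨h1, h2⟩ := isFibMax_of_comp p' p hgen' x'' hmax
    have e1 := hc' x'' h1
    have e2 := hc (p' x'') h2
    change δ'' x'' = δ (p (p' x'')) + (c + c')
    rw [e1, e2]; ring
  refine ⟨claim1, ?_⟩
  funext x''
  have hle'' := delta_le p' δ' δ'' hdim'' c' hc' x''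
  have hle' := delta_le p δ δ' hdim' c hc (p' x'')
  have hcomp : (p' ≫ p) x'' = p (p' x'') := rfl
  change (if δ'' x'' = δ ((p' ≫ p) x'') + (c + c') then _ else 0) =
    (if δ'' x'' = δ' (p' x'') + c' then _ else 0)
  by_cases h1 : δ'' x'' = δ' (p' x'') + c'
  · rw [if_pos h1]
    change _ = (if δ' (p' x'') = δ (p (p' x'')) + c then _ else 0) * _
    by_cases h2 : δ' (p' x'') = δ (p (p' x'')) + c
    · rw [if_pos h2, if_pos (by rw [hcomp, h1, h2]; ring)]
      have hlen := length_quot_comp (p.stalkMap (p' x'')).hom (p'.stalkMap x'').hom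
        (Flat.stalkMap p' x'')
      have hsm : ((p' ≫ p).stalkMap x'').hom =
          (p'.stalkMap x'').hom.comp (p.stalkMap (p' x'')).hom := by
        rw [Scheme.Hom.stalkMap_comp]
        rfl
      have key : Module.length (X''.presheaf.stalk x'')
          (X''.presheaf.stalk x'' ⧸ Ideal.map ((p' ≫ p).stalkMap x'').hom
            (maximalIdeal (X.presheaf.stalk ((p' ≫ p) x'')))) =
          Module.length (X'.presheaf.stalk (p' x''))
            (X'.presheaf.stalk (p' x'') ⧸ Ideal.map (p.stalkMap (p' x'')).hom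
              (maximalIdeal (X.presheaf.stalk (p (p' x''))))) *
          Module.length (X''.presheaf.stalk x'')
            (X''.presheaf.stalk x'' ⧸ Ideal.map (p'.stalkMap x'').hom
              (maximalIdeal (X'.presheaf.stalk (p' x'')))) := by
        rw [hsm]
        exact hlen
      rw [key, ENat.toNat_mul]
      push_cast
      rw [hcomp]
      ring
    · rw [if_neg h2, zero_mul, if_neg]
      intro h3
      apply h2
      rw [hcomp] at h3
      omega
  · rw [if_neg h1, if_neg]
    intro h3
    apply h1
    rw [hcomp] at h3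
    omega

end Groth.Agent.S6479
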