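import Groth.Statements.S6482
import Mathlib

set_option autoImplicit false
set_option linter.style.haveILetI false
set_option linter.unusedVariables false
universe u
open CategoryTheory AlgebraicGeometry
open CategoryTheory.Limits
open Cyc

namespace Groth.Agent.S6482

/-- Let f : Y → X be an envelope. Then f_* : Z_k(Y) → Z_k(X) is surjective, hence so is f_* : CH_k(Y) →
CH_k(X). An envelope is a proper, completely decomposed morphism (every point of the target has a
point over it with trivial residue field extension; this prelude's Cyc.IsCompletelyDecomposed). Here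
a pair (X, δ) with Cyc.IsSetup plays the role of a scheme locally of finite type over the base (S,
δ) (X locally Noetherian with universally catenary local rings, δ a dimension function), and
Cyc.DeltaCompat records that the dimension function upstairs is the induced one. -/
theorem result (X Y : Scheme.{u}) (δ : X → ℤ) (δY : Y → ℤ) (hX : Cyc.IsSetup X δ) (hY : Cyc.IsSetup Y δY) (f : Y ⟶ X) [IsProper f] (hcd : Cyc.IsCompletelyDecomposed f) (hδ : Cyc.DeltaCompat f δY δ) (k : ℤ) (α : AlgebraicCycle X ℤ) (hα : α ∈ Cyc.Zk X δ k) : ∃ β : AlgebraicCycle Y ℤ, β ∈ Cyc.Zk Y δY k ∧ AlgebraicCycle.map f δY δ β = α := by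
  classical
  choose σ hσ hsurj using hcd
  -- facts at the chosen points
  have hbij : ∀ x : X, Function.Bijective (f.residueFieldMap (σ x)).hom := fun x =>
    ⟨(f.residueFieldMap (σ x)).hom.injective, hsurj x⟩
  have hdeg : ∀ x : X, f.residueDegree (σ x) = 1 := by
    intro x
    unfold Scheme.Hom.residueDegree
    letI := (f.residueFieldMap (σ x)).hom.toAlgebra
    have hb : Function.Bijective (algebraMap (X.residueField (f (σ x))) (Y.residueField (σ x))) := hbij x
    have e : X.residueField (f (σ x)) ≃ₗ[X.residueField (f (σ x))] Y.residueField (σ x) :=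
      LinearEquiv.ofBijective (Algebra.linearMap _ _) hb
    rw [← e.finrank_eq, Module.finrank_self]
  have hdelta : ∀ x : X, δY (σ x) = δ x := by
    intro x
    obtain ⟨n, hn, hn'⟩ := hδ (σ x)
    letI := (f.residueFieldMap (σ x)).hom.toAlgebra
    have hb : Function.Surjective (algebraMap (X.residueField (f (σ x))) (Y.residueField (σ x))) := hsurj x
    haveI : Algebra.IsAlgebraic (X.residueField (f (σ x))) (Y.residueField (σ x)) :=
      ⟨fun a => by obtain ⟨r, rfl⟩ := hb a; exact isAlgebraic_algebraMap r⟩
    have h0 : Algebra.trdeg (X.residueField (f (σ x))) (Y.residueField (σ x)) = 0 := trdeg_eq_zero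
    rw [h0] at hn
    have : n = 0 := by exact_mod_cast hn.symm
    rw [hn', this, hσ x]
    simp
  -- the lifted cycle
  let βf : Y → ℤ := fun y => if y = σ (f y) then α (f y) else 0
  have hβsupp : ∀ y, βf y ≠ 0 → y = σ (f y) ∧ α (f y) ≠ 0 := by
    intro y hy
    by_cases h : y = σ (f y)
    · refine ⟨h, ?_⟩
      simpa [βf, ← h] using hy
    · exact absurd (by simp [βf, h]) hy
  let β : AlgebraicCycle Y ℤ :=
    { toFun := βf
      supportWithinDomain' := Set.subset_univ _
      supportLocallyFiniteWithinDomain' := by
        intro y _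
        obtain ⟨t, ht, hfin⟩ := α.supportLocallyFiniteWithinDomain' (f y) (Set.mem_univ _)
        refine ⟨f ⁻¹' t, f.continuous.continuousAt.preimage_mem_nhds ht, ?_⟩
        refine (hfin.image σ).subset ?_
        rintro y' ⟨hy't, hy'⟩
        obtain ⟨h1, h2⟩ := hβsupp y' hy'
        exact ⟨f y', ⟨hy't, h2⟩, h1.symm⟩ }
  refine ⟨β, ?_, ?_⟩
  · intro y hy
    by_contra hne
    obtain ⟨h1, h2⟩ := hβsupp y hne
    apply hy
    rw [h1, hdelta]
    by_contra h3
    exact h2 (hα (f y) h3)
  · ext x
    change (∑ᶠ y ∈ f ⁻¹' {x}, β y * ((AlgebraicCycle.mapCoeff f δY δ y : ℕ) : ℤ)) = α x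
    rw [finsum_mem_def, finsum_eq_single _ (σ x)]
    · have hmem : σ x ∈ f ⁻¹' {x} := hσ x
      rw [Set.indicator_of_mem hmem]
      have h1 : β (σ x) = α x := by
        change βf (σ x) = α x
        simp only [βf]
        rw [hσ x, if_pos rfl]
      have h2 : AlgebraicCycle.mapCoeff f δY δ (σ x) = 1 := by
        unfold AlgebraicCycle.mapCoeff
        rw [if_pos, hdeg]
        rw [hdelta]
        exact congrArg δ (hσ x).symm
      rw [h1, h2]
      simp
    · intro y hy
      by_cases hmem : y ∈ f ⁻¹' {x}
      · rw [Set.indicator_of_mem hmem]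
        have : β y = 0 := by
          by_contra hne
          obtain ⟨h1, -⟩ := hβsupp y hne
          apply hy
          have hfy : f y = x := hmem
          rw [h1, hfy]
        rw [this, zero_mul]
      · exact Set.indicator_of_notMem hmem _

end Groth.Agent.S6482
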