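import Groth.Statements.S6484
import Mathlib

set_option autoImplicit false
universe u
open CategoryTheory AlgebraicGeometry
open CategoryTheory.Limits
open Cyc

namespace Groth.Agent.S6484

theorem aux {X X' Y : Scheme.{u}} (f : Y ⟶ X) (g : X' ⟶ X) (T : Scheme.Pullback.Triplet f g)
    (hsurj : Function.Surjective (f.residueFieldMap T.x).hom) :
    ∃ z : ↑(pullback f g), pullback.snd f g z = T.y ∧
      Function.Surjective ((pullback.snd f g).residueFieldMap z).hom := by
  have hiso : IsIso ((X.residueFieldCongr T.hx).inv ≫ f.residueFieldMap T.x) := by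
    have : IsIso (f.residueFieldMap T.x) := by
      rw [ConcreteCategory.isIso_iff_bijective]
      exact ⟨(f.residueFieldMap T.x).hom.injective, hsurj⟩
    infer_instance
  have : IsIso T.tensorInr := by
    unfold Scheme.Pullback.Triplet.tensorInr
    exact pushout_inr_iso_of_left_iso _ _
  let h' : Spec (X'.residueField T.y) ⟶ pullback f g := Spec.map (inv T.tensorInr) ≫ T.SpecTensorTo
  have hh' : h' ≫ pullback.snd f g = X'.fromSpecResidueField T.y := by
    simp only [h', Category.assoc, Scheme.Pullback.Triplet.specTensorTo_snd]
    rw [← Spec.map_comp_assoc]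
    simp
  have key := Scheme.descResidueField_stalkClosedPointTo_comp (pullback.snd f g) h'
  have e1 : (Scheme.SpecToEquivOfField (X'.residueField T.y) X') (h' ≫ pullback.snd f g) =
      ⟨T.y, 𝟙 _⟩ := by
    rw [← Equiv.eq_symm_apply, hh']
    simp only [Scheme.SpecToEquivOfField_symm_apply, Spec.map_id]
    exact (Category.id_comp _).symm
  rw [Scheme.SpecToEquivOfField_eq_iff] at e1
  obtain ⟨e, he⟩ := e1
  dsimp at e he key
  rw [Category.comp_id] at he
  obtain ⟨ψ, hψ⟩ : ∃ ψ : (pullback f g).residueField (h' (IsLocalRing.closedPoint _)) ⟶
      X'.residueField T.y, (X'.residueFieldCongr e).hom =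
        (pullback.snd f g).residueFieldMap (h' (IsLocalRing.closedPoint _)) ≫ ψ :=
    ⟨_, he.symm.trans key⟩
  refine ⟨h' (IsLocalRing.closedPoint _), e, fun a => ?_⟩
  have hbij : Function.Bijective (X'.residueFieldCongr e).hom.hom :=
    (ConcreteCategory.isIso_iff_bijective _).1 inferInstance
  obtain ⟨b, hb⟩ := hbij.2 (ψ.hom a)
  refine ⟨b, ?_⟩
  apply ψ.hom.injective
  rw [← hb, hψ]
  rfl


/-- If f : Y → X is completely decomposed (this prelude's Cyc.IsCompletelyDecomposed: over every point
of X lies a point of Y with trivial residue field extension) and g : X' → X is any morphism of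
schemes, then the base change Y ×_X X' → X' is completely decomposed. Consequently the base change
of an envelope (a proper completely decomposed morphism) is an envelope, properness being preserved
by base change. (The published envelope statement takes X′ → X between schemes locally of finite
type over a base; this row allows any g.) -/
theorem result (X X' Y : Scheme.{u}) (f : Y ⟶ X) (g : X' ⟶ X) (hcd : Cyc.IsCompletelyDecomposed f) : Cyc.IsCompletelyDecomposed (pullback.snd f g) := by
  intro x'
  obtain ⟨y, hy, hsurj⟩ := hcd (g x')
  exact aux f g (Scheme.Pullback.Triplet.mk' y x' hy) hsurj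

end Groth.Agent.S6484
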