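import Groth.Statements.S6495
import Mathlib
import Groth.Agent.Lib.Seat28LimCyc

set_option autoImplicit false
set_option linter.style.haveILetI false
set_option linter.unusedVariables false
universe u
open CategoryTheory AlgebraicGeometry
open Cyc

namespace Groth.Agent.S6495

open Groth.Agent.Lib.Seat28.FibreMax Groth.Agent.Lib.Seat28.FibreLen Groth.Agent.Lib.Seat28.LimCyc

/-- a cycle on a quasi-compact scheme has finite support. -/
theorem finite_support_of_compactSpace {X : Scheme.{u}} [CompactSpace X] (α : AlgebraicCycle X ℤ) :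
    {x : X | α x ≠ 0}.Finite := by
  have h : ∀ z : X, ∃ t ∈ nhds z, (t ∩ Function.support ⇑α).Finite :=
    fun z => α.supportLocallyFiniteWithinDomain' z (Set.mem_univ _)
  choose t ht hfin using h
  obtain ⟨s, -, hs⟩ := isCompact_univ.elim_nhds_subcover t (fun z _ => ht z)
  have hcov : {x : X | α x ≠ 0} ⊆ ⋃ z ∈ s, (t z ∩ Function.support ⇑α) := by
    intro x hx
    have hx' : x ∈ ⋃ z ∈ s, t z := hs (Set.mem_univ x)
    simp only [Set.mem_iUnion] at hx' ⊢
    obtain ⟨z, hz, hxz⟩ := hx'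
    exact ⟨z, hz, hxz, hx⟩
  refine Set.Finite.subset ?_ hcov
  exact Set.Finite.biUnion s.finite_toSet (fun z _ => hfin z)

/-- Surjectivity of colim Z_k(X_i) → Z_k(X'): every k-cycle α' on the limit X' is g_i^*α for some i and
some k-cycle α on X_i, where g_i : X' → X_i is the projection and g_i^* the shift-0 base-change
pullback on coefficient functions. Setting: a directed inverse system (X_i) of quasi-compact schemes
with affine flat transition morphisms and limit X' (a limit cone), each X_i and X' carrying a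
dimension function with Cyc.IsSetup, and every transition map and every projection X' → X_i shifting
the dimension functions by c = 0 at generic points of fibres, so that the base-change pullbacks g^*
are Cyc.pullFun with shift 0. (The published statement takes X_i and X′ to be the base changes of
one quasi-compact scheme of finite type over a base S along S_i → S and lim S_i → S; this row allows
any such inverse system.) -/
theorem result (I : Type u) [Preorder I] [IsDirected I (fun a b => a ≤ b)] [Nonempty I] (D : Iᵒᵖ ⥤ Scheme.{u}) (c : Limits.Cone D) (hc : Limits.IsLimit c) (haff : ∀ (i j : Iᵒᵖ) (f : i ⟶ j), IsAffineHom (D.map f)) (hflat : ∀ (i j : Iᵒᵖ) (f : i ⟶ j), Flat (D.map f)) (hqc : ∀ i, CompactSpace ↥(D.obj i)) (δ : (i : Iᵒᵖ) → ↥(D.obj i) → ℤ) (δ' : ↥c.pt → ℤ) (hset : ∀ i, Cyc.IsSetup (D.obj i) (δ i)) (hset' : Cyc.IsSetup c.pt δ') (hshift : ∀ (i j : Iᵒᵖ) (f : i ⟶ j) (x : ↥(D.obj i)), (∀ y, D.map f y = D.map f x → y ⤳ x → y = x) → δ i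 x = δ j (D.map f x)) (hflat' : ∀ i, Flat (c.π.app i)) (hshift' : ∀ (i : Iᵒᵖ) (x : ↥c.pt), (∀ y, c.π.app i y = c.π.app i x → y ⤳ x → y = x) → δ' x = δ i (c.π.app i x)) (k : ℤ) (α' : AlgebraicCycle c.pt ℤ) (hα' : α' ∈ Cyc.Zk c.pt δ' k) : ∃ (i : Iᵒᵖ) (α : AlgebraicCycle (D.obj i) ℤ), α ∈ Cyc.Zk (D.obj i) (δ i) k ∧ Cyc.pullFun (c.π.app i) δ' (δ i) 0 ⇑α = ⇑α' := by
  classical
  haveI : ∀ {a b : Iᵒᵖ} (f : a ⟶ b), IsAffineHom (D.map f) := fun {a b} f => haff a b f
  haveI : ∀ a, CompactSpace ↥(D.obj a) := hqc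
  haveI : IsLocallyNoetherian c.pt := hset'.1
  haveI : CompactSpace c.pt := Scheme.compactSpace_of_isLimit D c hc
  haveI : IsNoetherian c.pt := {}
  have hdim' : Cyc.IsDimFun c.pt δ' := hset'.2.2
  -- finite support
  have hfin := finite_support_of_compactSpace α'
  haveI : Fintype {ξ : ↥c.pt // α' ξ ≠ 0} := hfin.fintype
  -- a common good stage
  obtain ⟨i, hi⟩ := exists_common_stage
    (fun (i : Iᵒᵖ) (ξ : {ξ : ↥c.pt // α' ξ ≠ 0}) => Good D c i ξ.1)
    (fun {i j} f b h => h.mono f) Finset.univ (fun b _ => exists_good D c hc b.1)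
  have hgood : ∀ ξ : ↥c.pt, α' ξ ≠ 0 → Good D c i ξ := fun ξ h => hi ⟨ξ, h⟩ (Finset.mem_univ _)
  let g : c.pt ⟶ D.obj i := c.π.app i
  have hshiftg : ∀ x : ↥c.pt, (∀ y, g y = g x → y ⤳ x → y = x) → δ' x = δ i (g x) + 0 :=
    fun x h => by rw [hshift' i x h, add_zero]
  -- the cycle on the stage
  let a : ↥(D.obj i) → ℤ := fun x =>
    ∑ ξ : {ξ : ↥c.pt // α' ξ ≠ 0}, if g ξ.1 = x then α' ξ.1 else 0
  have ha_supp : ∀ x, a x ≠ 0 → ∃ ξ : ↥c.pt, α' ξ ≠ 0 ∧ g ξ = x := by
    intro x hx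
    by_contra hne
    apply hx
    apply Finset.sum_eq_zero
    intro ξ _
    rw [if_neg]
    intro hg
    exact hne ⟨ξ.1, ξ.2, hg⟩
  have hinj : ∀ ξ₁ ξ₂ : ↥c.pt, α' ξ₁ ≠ 0 → α' ξ₂ ≠ 0 → g ξ₁ = g ξ₂ → ξ₁ = ξ₂ :=
    fun ξ₁ ξ₂ h₁ h₂ h => (hgood ξ₂ h₂).eq_of_isFibMax ξ₁ h (hgood ξ₁ h₁).isFibMax
  have ha_val : ∀ ξ : ↥c.pt, α' ξ ≠ 0 → a (g ξ) = α' ξ := by
    intro ξ hξ
    change (∑ ξ' : {ξ : ↥c.pt // α' ξ ≠ 0}, if g ξ'.1 = g ξ then α' ξ'.1 else 0) = α' ξ
    rw [Finset.sum_eq_single (⟨ξ, hξ⟩ : {ξ : ↥c.pt // α' ξ ≠ 0})]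
    · rw [if_pos rfl]
    · intro b _ hb
      rw [if_neg]
      intro hg
      exact hb (Subtype.ext (hinj b.1 ξ b.2 hξ hg))
    · intro h
      exact absurd (Finset.mem_univ _) h
  have hfinsupp : (Function.support a).Finite := by
    refine (Set.finite_range (fun ξ : {ξ : ↥c.pt // α' ξ ≠ 0} => g ξ.1)).subset ?_
    intro x hx
    obtain ⟨ξ, hξ, hg⟩ := ha_supp x hx
    exact ⟨⟨ξ, hξ⟩, hg⟩
  let α : AlgebraicCycle (D.obj i) ℤ :=
    { toFun := a
      supportWithinDomain' := fun x _ => trivial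
      supportLocallyFiniteWithinDomain' := fun z _ =>
        ⟨Set.univ, Filter.univ_mem, by rw [Set.univ_inter]; exact hfinsupp⟩ }
  have hαa : ∀ x, α x = a x := fun x => rfl
  refine ⟨i, α, ?_, ?_⟩
  · intro x hx
    by_contra hne
    rw [hαa] at hne
    obtain ⟨ξ, hξ, hg⟩ := ha_supp x hne
    have h1 : δ' ξ = δ i (g ξ) + 0 := hshiftg ξ (hgood ξ hξ).isFibMax
    have h2 : δ' ξ = k := by
      by_contra h2
      exact hξ (hα' ξ h2)
    rw [hg, add_zero] at h1
    exact hx (by rw [← h1, h2])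
  · funext y'
    have hiff := delta_eq_iff g (δ i) δ' hdim' 0 hshiftg y'
    change (if δ' y' = δ i (g y') + 0 then α (g y') * _ else 0) = α' y'
    by_cases hy : α' y' = 0
    · rw [hy]
      by_cases hcond : δ' y' = δ i (g y') + 0
      · rw [if_pos hcond]
        have hmax : IsFibMax g y' := hiff.1 hcond
        have h0 : a (g y') = 0 := by
          by_contra hne
          obtain ⟨ξ, hξ, hg⟩ := ha_supp _ hne
          have : y' = ξ := (hgood ξ hξ).eq_of_isFibMax y' hg.symm hmax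
          rw [this] at hy
          exact hξ hy
        rw [hαa, h0, zero_mul]
      · rw [if_neg hcond]
    · have hG := hgood y' hy
      have hcond : δ' y' = δ i (g y') + 0 := hiff.2 hG.isFibMax
      rw [if_pos hcond, hαa, ha_val y' hy]
      have hlen := hG.length_eq_one
      change α' y' * ((Module.length (c.pt.presheaf.stalk y')
        (c.pt.presheaf.stalk y' ⧸ fibIdeal g y')).toNat : ℤ) = α' y'
      rw [hlen]
      simp

end Groth.Agent.S6495
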