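import Groth.Statements.S6496
import Mathlib
import Groth.Agent.Lib.Seat28FibreLen

set_option autoImplicit false
set_option linter.style.haveILetI false
set_option linter.unusedVariables false
universe u
open CategoryTheory AlgebraicGeometry
open Cyc

namespace Groth.Agent.S6496

open Groth.Agent.Lib.Seat28.FibreMax Groth.Agent.Lib.Seat28.FibreLen

/-- a cycle on a quasi-compact scheme has finite support. -/
theorem finite_support_of_compactSpace {X : Scheme.{u}} [CompactSpace X] (α : AlgebraicCycle X ℤ) :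
    {x : X | α x ≠ 0}.Finite := by
  have h : ∀ z : X, ∃ t ∈ nhds z, (t ∩ Function.support ⇑α).Finite :=
    fun z => α.supportLocallyFiniteWithinDomain' z (Set.mem_univ _)
  choose t ht hfin using h
  obtain ⟨s, -, hs⟩ := isCompact_univ.elim_nhds_subcover t (fun z _ => ht z)
  have hcov : {x : X | α x ≠ 0} ⊆ ⋃ z ∈ s, (t z ∩ Function.support ⇑α) := by
    intro x hx
    have hx' : x ∈ ⋃ z ∈ s, t z := hs (Set.mem_univ x)
    simp only [Set.mem_iUnion] at hx' ⊢
    obtain ⟨z, hz, hxz⟩ := hx'
    exact ⟨z, hz, hxz, hx⟩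
  refine Set.Finite.subset ?_ hcov
  exact Set.Finite.biUnion s.finite_toSet (fun z _ => hfin z)

/-- Injectivity of colim Z_k(X_i) → Z_k(X'): if a k-cycle α on X_i pulls back to the zero cycle on X',
then it pulls back to zero on some stage X_j above X_i. Setting: a directed inverse system (X_i) of
quasi-compact schemes with affine flat transition morphisms and limit X' (a limit cone), each X_i
and X' carrying a dimension function with Cyc.IsSetup, and every transition map and every projection
X' → X_i shifting the dimension functions by c = 0 at generic points of fibres, so that the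
base-change pullbacks g^* are Cyc.pullFun with shift 0. (The published statement takes X_i and X′ to
be the base changes of one quasi-compact scheme of finite type over a base S along S_i → S and lim
S_i → S; this row allows any such inverse system.) -/
theorem result (I : Type u) [Preorder I] [IsDirected I (fun a b => a ≤ b)] [Nonempty I] (D : Iᵒᵖ ⥤ Scheme.{u}) (c : Limits.Cone D) (hc : Limits.IsLimit c) (haff : ∀ (i j : Iᵒᵖ) (f : i ⟶ j), IsAffineHom (D.map f)) (hflat : ∀ (i j : Iᵒᵖ) (f : i ⟶ j), Flat (D.map f)) (hqc : ∀ i, CompactSpace ↥(D.obj i)) (δ : (i : Iᵒᵖ) → ↥(D.obj i) → ℤ) (δ' : ↥c.pt → ℤ) (hset : ∀ i, Cyc.IsSetup (D.obj i) (δ i)) (hset' : Cyc.IsSetup c.pt δ') (hshift : ∀ (i j : Iᵒᵖ) (f : i ⟶ j) (x : ↥(D.obj i)), (∀ y, D.map f y = D.map f x → y ⤳ x → y = x) → δ i x = δ j (D.map f x)) (hflat' : ∀ i, Flat (c.π.app i)) (hshift' : ∀ (i : Iᵒᵖ) (x : ↥c.pt), (∀ y, c.π.app i y = c.π.app i x → y ⤳ x → y = x) → δ' x = δ i (c.π.app i x)) (k : ℤ) (i : Iᵒᵖ) (α : AlgebraicCycle (D.obj i) ℤ) (hα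 : α ∈ Cyc.Zk (D.obj i) (δ i) k) (h0 : Cyc.pullFun (c.π.app i) δ' (δ i) 0 ⇑α = 0) : ∃ (j : Iᵒᵖ) (f : j ⟶ i), Cyc.pullFun (D.map f) (δ j) (δ i) 0 ⇑α = 0 := by
  classical
  haveI : ∀ {a b : Iᵒᵖ} (f : a ⟶ b), IsAffineHom (D.map f) := fun {a b} f => haff a b f
  haveI : ∀ a, CompactSpace ↥(D.obj a) := hqc
  haveI : IsLocallyNoetherian c.pt := hset'.1
  let g : c.pt ⟶ D.obj i := c.π.app i
  haveI : Flat g := hflat' i
  have hgen : GeneralizingMap g := Flat.generalizingMap g
  -- step 2: points of the support are not in the image of the limit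
  have hnotrange : ∀ x : ↥(D.obj i), α x ≠ 0 → ∀ x' : ↥c.pt, g x' ≠ x := by
    intro x hx x' hx'
    obtain ⟨y', hy1, hy2, hy3⟩ := exists_isFibMax_specializes g x'
    have hδ : δ' y' = δ i (g y') := hshift' i y' hy3
    have h1 := congrFun h0 y'
    unfold Cyc.pullFun at h1
    have hcond : δ' y' = δ i (g y') + 0 := by rw [hδ, add_zero]
    change (if δ' y' = δ i (g y') + 0 then _ else 0) = _ at h1
    rw [if_pos hcond] at h1
    rcases mul_eq_zero.1 h1 with h2 | h2
    · change α (g y') = 0 at h2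
      rw [hy1, hx'] at h2
      exact hx h2
    · have h3 := toNat_length_ne_zero g y' hy3
      exact h3 (by exact_mod_cast h2)
  -- step 3: some stage misses the closure of each point of the support
  have hstage : ∀ x : {x : ↥(D.obj i) // α x ≠ 0}, ∃ (j : Iᵒᵖ) (f : j ⟶ i),
      ∀ y : ↥(D.obj j), D.map f y ∉ closure ({x.1} : Set ↥(D.obj i)) := by
    rintro ⟨x, hx⟩
    let U : (D.obj i).Opens := ⟨(closure ({x} : Set ↥(D.obj i)))ᶜ, isClosed_closure.isOpen_compl⟩
    have hU : c.π.app i ⁻¹ᵁ U = ⊤ := by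
      rw [eq_top_iff]
      intro s _
      change g s ∈ (closure ({x} : Set ↥(D.obj i)))ᶜ
      intro hs
      have hsp : x ⤳ g s := specializes_iff_mem_closure.2 hs
      obtain ⟨s', -, hs'⟩ := hgen hsp
      exact hnotrange x hx s' hs'
    obtain ⟨j, f, hjf⟩ := exists_map_eq_top D c hc U hU
    refine ⟨j, f, fun y => ?_⟩
    have : y ∈ D.map f ⁻¹ᵁ U := by rw [hjf]; trivial
    exact this
  choose jx fx hjx using hstage
  -- step 4: a common stage
  have hfin := finite_support_of_compactSpace α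
  haveI : Fintype {x : ↥(D.obj i) // α x ≠ 0} := hfin.fintype
  obtain ⟨M, hM⟩ := (insert i.unop (Finset.univ.image (fun x => (jx x).unop))).exists_le
  have hiM : i.unop ≤ M := hM _ (Finset.mem_insert_self _ _)
  have hjM : ∀ x, (jx x).unop ≤ M := fun x =>
    hM _ (Finset.mem_insert_of_mem (Finset.mem_image_of_mem _ (Finset.mem_univ x)))
  refine ⟨Opposite.op M, (homOfLE hiM).op, ?_⟩
  funext y
  unfold Cyc.pullFun
  have hzero : α (D.map (homOfLE hiM).op y) = 0 := by
    by_contra hne
    let x : {x : ↥(D.obj i) // α x ≠ 0} := ⟨_, hne⟩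
    let gx : Opposite.op M ⟶ jx x := (homOfLE (hjM x)).op
    have hcomp : (homOfLE hiM).op = gx ≫ fx x := Subsingleton.elim _ _
    have h1 := hjx x (D.map gx y)
    apply h1
    have h2 : D.map (fx x) (D.map gx y) = D.map (homOfLE hiM).op y := by
      rw [hcomp, D.map_comp]
      rfl
    rw [h2]
    exact subset_closure rfl
  simp only [hzero, zero_mul, ite_self]
  rfl

end Groth.Agent.S6496
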