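import Groth.Statements.S6497
import Mathlib
import Groth.Agent.S6496
import Groth.Agent.Lib.Seat28LimRat

set_option autoImplicit false
set_option linter.style.haveILetI false
set_option linter.unusedVariables false
universe u
open CategoryTheory AlgebraicGeometry
open Cyc

namespace Groth.Agent.S6497

open Groth.Agent.Lib.Seat28.FibreMax Groth.Agent.Lib.Seat28.FibreLen Groth.Agent.Lib.Seat28.LimCyc
open Groth.Agent.Lib.Seat28.FlatDiv Groth.Agent.Lib.Seat28.FlatRat Groth.Agent.Lib.Seat28.PullCyc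
open Groth.Agent.Lib.Seat28.LimRat

/-- Injectivity of colim CH_k(X_i) → CH_k(X'): if α ∈ Z_k(X_i) and g_i^*α ∼_rat 0 on X' (for a cycle
with the pulled-back coefficients), then for some stage X_j above X_i the pullback of α to X_j is
∼_rat 0. Setting: a directed inverse system (X_i) of quasi-compact schemes with affine flat
transition morphisms and limit X' (a limit cone), each X_i and X' carrying a dimension function with
Cyc.IsSetup, and every transition map and every projection X' → X_i shifting the dimension functions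
by c = 0 at generic points of fibres, so that the base-change pullbacks g^* are Cyc.pullFun with
shift 0. (The published statement takes X_i and X′ to be the base changes of one quasi-compact
scheme of finite type over a base S along S_i → S and lim S_i → S; this row allows any such inverse
system.) -/
theorem result (I : Type u) [Preorder I] [IsDirected I (fun a b => a ≤ b)] [Nonempty I] (D : Iᵒᵖ ⥤ Scheme.{u}) (c : Limits.Cone D) (hc : Limits.IsLimit c) (haff : ∀ (i j : Iᵒᵖ) (f : i ⟶ j), IsAffineHom (D.map f)) (hflat : ∀ (i j : Iᵒᵖ) (f : i ⟶ j), Flat (D.map f)) (hqc : ∀ i, CompactSpace ↥(D.obj i)) (δ : (i : Iᵒᵖ) → ↥(D.obj i) → ℤ) (δ' : ↥c.pt → ℤ) (hset : ∀ i, Cyc.IsSetup (D.obj i) (δ i)) (hset' : Cyc.IsSetup c.pt δ') (hshift : ∀ (i j : Iᵒᵖ) (f : i ⟶ j) (x : ↥(D.obj i)), (∀ y, D.map f y = D.map f x → y ⤳ x → y = x) → δ i x = δ j (D.map f x)) (hflat' : ∀ i, Flat (c.π.app i)) (hshift' : ∀ (i : Iᵒᵖ) (x : ↥c.pt), (∀ y, c.π.app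 i y = c.π.app i x → y ⤳ x → y = x) → δ' x = δ i (c.π.app i x)) (k : ℤ) (i : Iᵒᵖ) (α : AlgebraicCycle (D.obj i) ℤ) (hα : α ∈ Cyc.Zk (D.obj i) (δ i) k) (α' : AlgebraicCycle c.pt ℤ) (hα' : ⇑α' = Cyc.pullFun (c.π.app i) δ' (δ i) 0 ⇑α) (h0 : Cyc.RatEquivZero δ' k α') : ∃ (j : Iᵒᵖ) (f : j ⟶ i) (αj : AlgebraicCycle (D.obj j) ℤ), ⇑αj = Cyc.pullFun (D.map f) (δ j) (δ i) 0 ⇑α ∧ Cyc.RatEquivZero (δ j) k αj := by
  classical
  haveI : ∀ {a b : Iᵒᵖ} (f : a ⟶ b), IsAffineHom (D.map f) := fun {a b} f => haff a b f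
  haveI : ∀ {a b : Iᵒᵖ} (f : a ⟶ b), Flat (D.map f) := fun {a b} f => hflat a b f
  haveI : ∀ a, CompactSpace ↥(D.obj a) := hqc
  haveI : ∀ a, Flat (c.π.app a) := hflat'
  haveI : ∀ a, IsLocallyNoetherian (D.obj a) := fun a => (hset a).1
  haveI : IsLocallyNoetherian c.pt := hset'.1
  haveI : CompactSpace c.pt := Scheme.compactSpace_of_isLimit D c hc
  haveI : IsNoetherian c.pt := {}
  obtain ⟨ι, ξ, f, hdim, hf, hlf, h0sum⟩ := h0
  -- the family is finite
  haveI hιfin : Finite ι := by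
    choose U hUo hxU hUfin using hlf
    obtain ⟨t, -, ht⟩ := isCompact_univ.elim_nhds_subcover U
      (fun x _ => (hUo x).mem_nhds (hxU x))
    have hfin : (⋃ x ∈ t, {l | (closure {ξ l} ∩ U x).Nonempty}).Finite :=
      t.finite_toSet.biUnion (fun x _ => hUfin x)
    have huniv : (Set.univ : Set ι) ⊆ ⋃ x ∈ t, {l | (closure {ξ l} ∩ U x).Nonempty} := by
      intro l _
      obtain ⟨x, hxt, hx⟩ := Set.mem_iUnion₂.1 (ht (Set.mem_univ (ξ l)))
      exact Set.mem_iUnion₂.2 ⟨x, hxt, ⟨ξ l, subset_closure rfl, hx⟩⟩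
    exact Set.finite_univ_iff.1 (hfin.subset huniv)
  haveI : Fintype ι := Fintype.ofFinite ι
  -- a common good stage
  obtain ⟨j₀, hj₀⟩ := exists_common_stage (I := Iᵒᵖ)
    (fun (j : Iᵒᵖ) (l : ι) => Good D c j (ξ l) ∧ f l ∈ resRange D c j (ξ l))
    (fun {a b} φ l h => ⟨h.1.mono φ, resRange_mono D c φ (ξ l) h.2⟩) Finset.univ
    (fun l _ => by
      obtain ⟨j₁, h₁⟩ := exists_good D c hc (ξ l)
      obtain ⟨j₂, h₂⟩ := exists_mem_resRange D c hc (ξ l) (f l)
      exact ⟨IsCofiltered.min j₁ j₂, h₁.mono (IsCofiltered.minToLeft j₁ j₂),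
        resRange_mono D c (IsCofiltered.minToRight j₁ j₂) (ξ l) h₂⟩)
  let j : Iᵒᵖ := IsCofiltered.min j₀ i
  let φ : j ⟶ i := IsCofiltered.minToRight j₀ i
  have hgood : ∀ l, Good D c j (ξ l) := fun l =>
    (hj₀ l (Finset.mem_univ l)).1.mono (IsCofiltered.minToLeft j₀ i)
  have hres : ∀ l, ∃ u : (D.obj j).residueField (c.π.app j (ξ l)),
      ((c.π.app j).residueFieldMap (ξ l)).hom u = f l := fun l =>
    resRange_mono D c (IsCofiltered.minToLeft j₀ i) (ξ l) (hj₀ l (Finset.mem_univ l)).2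
  choose u hu using hres
  have hune : ∀ l, u l ≠ 0 := by
    intro l h0
    apply hf l
    rw [← hu l, h0, map_zero]
  let g : c.pt ⟶ D.obj j := c.π.app j
  let η : ι → ↥(D.obj j) := fun l => g (ξ l)
  have hηdim : ∀ l, δ j (η l) = k + 1 := by
    intro l
    rw [← hshift' j (ξ l) (hgood l).isFibMax, hdim l]
  -- the cycle `γ` on the stage `j`
  obtain ⟨γ, hγ⟩ := exists_cycle_finsum_divFun (hset j).2.2 η u hune
  have hγZ : γ ∈ Cyc.Zk (D.obj j) (δ j) k := by
    intro x hx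
    rw [hγ]
    apply finsum_eq_zero_of_forall_eq_zero
    intro l
    unfold Cyc.divFun
    rw [dif_neg]
    rintro ⟨-, h1⟩
    rw [hηdim] at h1
    apply hx
    omega
  have hlfη : ∀ x : ↥(D.obj j), ∃ U : Set ↥(D.obj j), IsOpen U ∧ x ∈ U ∧
      {l | (closure {η l} ∩ U).Nonempty}.Finite :=
    fun x => ⟨Set.univ, isOpen_univ, trivial, Set.toFinite _⟩
  have hγrat : Cyc.RatEquivZero (δ j) k γ :=
    ⟨ι, η, u, hηdim, hune, hlfη, fun x => by rw [hγ]⟩
  -- its pullback to the limit is `α'`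
  have hshiftg : ∀ x : ↥c.pt, (∀ y, g y = g x → y ⤳ x → y = x) → δ' x = δ j (g x) + 0 :=
    fun x h => by rw [hshift' j x h, add_zero]
  have hpullγ : Cyc.pullFun g δ' (δ j) 0 ⇑γ = ⇑α' := by
    funext x'
    rw [pullFun_eq_finsum (D.obj j) c.pt (δ j) δ' (hset j) hset' g 0 hshiftg k η u hηdim hune hlfη
      ⇑γ (fun x => by rw [hγ]) x', h0sum x']
    let e : ι ≃ {t : ι × ↥c.pt // g t.2 = η t.1 ∧ IsFibMax g t.2} :=
      { toFun := fun l => ⟨(l, ξ l), rfl, (hgood l).isFibMax⟩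
        invFun := fun t => t.1.1
        left_inv := fun l => rfl
        right_inv := fun t => by
          apply Subtype.ext
          change ((t.1.1, ξ t.1.1) : ι × ↥c.pt) = t.1
          exact Prod.ext rfl ((hgood t.1.1).eq_of_isFibMax t.1.2 t.2.1 t.2.2).symm }
    rw [← finsum_comp_equiv e]
    apply finsum_congr
    intro l
    change Cyc.divFun δ' (ξ l) ((resTo g (ξ l) (g (ξ l)) rfl (u l)) ^ (mult g (ξ l))) x' = _
    have hm : mult g (ξ l) = 1 := by
      unfold mult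
      rw [(hgood l).length_eq_one]
      rfl
    rw [hm, pow_one, resTo_rfl, hu l]
  -- the pullback of `α` to the stage `j`
  have hshiftφ : ∀ x : ↥(D.obj j), (∀ y, D.map φ y = D.map φ x → y ⤳ x → y = x) →
      δ j x = δ i (D.map φ x) + 0 := fun x h => by rw [hshift j i φ x h, add_zero]
  obtain ⟨αj, hαj⟩ := exists_cycle_pullFun (D.map φ) (δ j) (δ i) (hset j).2.2 0 hshiftφ α
  have hpullαj : Cyc.pullFun g δ' (δ j) 0 ⇑αj = ⇑α' := by
    rw [hαj, pullFun_comp g (D.map φ) δ' (δ j) (δ i) hset'.2.2 (hset j).2.2 hshiftg hshiftφ ⇑α,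
      hα', c.w φ]
  have hαjZ : ∀ x : ↥(D.obj j), δ j x ≠ k → αj x = 0 := by
    intro x hx
    rw [hαj]
    unfold Cyc.pullFun
    by_cases hcond : δ j x = δ i (D.map φ x) + 0
    · rw [if_pos hcond, hα (D.map φ x) (by omega), zero_mul]
    · rw [if_neg hcond]
  have hβZ : (αj - γ) ∈ Cyc.Zk (D.obj j) (δ j) k := by
    intro x hx
    rw [Function.locallyFinsuppWithin.coe_sub, Pi.sub_apply, hαjZ x hx, hγZ x hx, sub_zero]
  have hβ0 : Cyc.pullFun g δ' (δ j) 0 ⇑(αj - γ) = 0 := by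
    rw [Function.locallyFinsuppWithin.coe_sub, pullFun_sub, hpullαj, hpullγ, sub_self]
  -- injectivity on cycles
  obtain ⟨j', ψ, hψ⟩ := Groth.Agent.S6496.result I D c hc haff hflat hqc δ δ' hset hset' hshift
    hflat' hshift' k j (αj - γ) hβZ hβ0
  have hshiftψ : ∀ x : ↥(D.obj j'), (∀ y, D.map ψ y = D.map ψ x → y ⤳ x → y = x) →
      δ j' x = δ j (D.map ψ x) + 0 := fun x h => by rw [hshift j' j ψ x h, add_zero]
  have hshiftψφ : ∀ x : ↥(D.obj j'),
      (∀ y, D.map (ψ ≫ φ) y = D.map (ψ ≫ φ) x → y ⤳ x → y = x) →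
      δ j' x = δ i (D.map (ψ ≫ φ) x) + 0 := fun x h => by rw [hshift j' i (ψ ≫ φ) x h, add_zero]
  have heq : Cyc.pullFun (D.map ψ) (δ j') (δ j) 0 ⇑αj =
      Cyc.pullFun (D.map ψ) (δ j') (δ j) 0 ⇑γ := by
    rw [Function.locallyFinsuppWithin.coe_sub, pullFun_sub] at hψ
    exact sub_eq_zero.1 hψ
  obtain ⟨αj', hαj'⟩ := exists_cycle_pullFun (D.map (ψ ≫ φ)) (δ j') (δ i) (hset j').2.2 0
    hshiftψφ α
  refine ⟨j', ψ ≫ φ, αj', hαj', ?_⟩
  have h1 : ⇑αj' = Cyc.pullFun (D.map ψ) (δ j') (δ j) 0 ⇑γ := by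
    rw [hαj', ← heq, hαj, pullFun_comp (D.map ψ) (D.map φ) (δ j') (δ j) (δ i) (hset j').2.2
      (hset j).2.2 hshiftψ hshiftφ ⇑α, ← D.map_comp]
  have h2 := ratEquivZero_pullFun (D.obj j) (D.obj j') (δ j) (δ j') (hset j) (hset j') (D.map ψ) 0
    hshiftψ k γ hγZ hγrat αj' h1
  rwa [add_zero] at h2

end Groth.Agent.S6497
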