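import Groth.Statements.S6514
import Mathlib
import Groth.Agent.Lib.Helper1Sky4
import Groth.Agent.Lib.Helper16KInjAdj
set_option backward.isDefEq.respectTransparency.types false

set_option autoImplicit false
set_option linter.style.haveILetI false
set_option linter.unusedVariables false
universe u
open CategoryTheory
open DCoh

namespace Groth.Agent.S6514

open Groth.Agent.Lib.Helper1.Sky Groth.Agent.Lib.Helper1.StalkTensor Groth.Agent.Lib.Helper21.FlatCalc
open AlgebraicGeometry

/-- base change of an injective linear map along a flat ring map is injective. -/
theorem injective_extendScalars_map_of_flat {R S : Type u} [CommRing R] [CommRing S] (f : R →+* S)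
    (hf : f.Flat) {M N : ModuleCat.{u} R} (d : M ⟶ N) (hd : Function.Injective d.hom) :
    Function.Injective ((ModuleCat.extendScalars.{u, u, u} f).map d).hom := by
  letI := f.toAlgebra
  haveI : Module.Flat R S := hf
  have h := Module.Flat.lTensor_preserves_injective_linearMap (M := S) d.hom hd
  exact h

/-- pullback along a flat morphism preserves monomorphisms. -/
theorem mono_pullback_of_flat {X Y : Scheme.{u}} (h : X ⟶ Y) [Flat h] {A B : Y.Modules} (a : A ⟶ B)
    [Mono a] : Mono ((Scheme.Modules.pullback h).map a) := by
  apply mono_of_sm_injective
  intro x
  have hinj : Function.Injective ((stalkFun (h x)).map a).hom := sm_injective_of_mono a (h x)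
  have hinj2 := injective_extendScalars_map_of_flat (h.stalkMap x).hom (Flat.stalkMap h x)
    ((stalkFun (h x)).map a) hinj
  have hnat := (stalkPullbackIso h x).hom.naturality a
  intro u v huv
  have e1 := (ConcreteCategory.bijective_of_isIso ((stalkPullbackIso h x).hom.app A)).1
  apply e1
  apply hinj2
  have h4 := ConcreteCategory.congr_hom hnat u
  have h5 := ConcreteCategory.congr_hom hnat v
  simp only [Functor.comp_map, ConcreteCategory.comp_apply] at h4 h5
  rw [← h4, ← h5]
  congr 1

open AlgebraicGeometry in
/-- If f : X → Y is a flat morphism of schemes and I is a K-injective complex of O_X-modules, then f_* I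
(direct image applied termwise) is a K-injective complex of O_Y-modules. (The published statement is
for flat morphisms of ringed spaces; this row is for flat morphisms of schemes.) -/
theorem result {X Y : Scheme.{u}} (f : X ⟶ Y) [Flat f]
    (I : CochainComplex X.Modules ℤ) (hI : I.IsKInjective) :
    CochainComplex.IsKInjective (((Scheme.Modules.pushforward f).mapHomologicalComplex (ComplexShape.up ℤ)).obj I) := by
  haveI := hI
  have hSE : ∀ S : ShortComplex Y.Modules, S.ShortExact →
      (S.map (Scheme.Modules.pullback f)).ShortExact := by
    intro S hS
    have h := exact_and_epi_of_rightExact (Scheme.Modules.pullback f) S hS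
    haveI := hS.mono_f
    exact { exact := h.1, mono_f := mono_pullback_of_flat f S.f, epi_g := h.2 }
  haveI : (Scheme.Modules.pullback f).PreservesHomology :=
    ((Functor.exact_tfae (Scheme.Modules.pullback f)).out 0 2).1 hSE
  exact Groth.Agent.Lib.Helper16.KInjAdj.isKInjective_map
    (Scheme.Modules.pullbackPushforwardAdjunction f) I

end Groth.Agent.S6514
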