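import Mathlib
import Groth.Prelude
import Groth.Statements.S6573
import Groth.Agent.Lib.Seat90NodeBridge3
import Groth.Agent.Lib.Seat90NodeFib

set_option autoImplicit false
set_option linter.style.haveILetI false
universe u
open CategoryTheory CategoryTheory.Limits AlgebraicGeometry
open Curves

namespace Groth.Agent.S6573

/-- Let f : T → S be a morphism of schemes, t ∈ T with image s ∈ S. Assume that the local ring O_{S,s}
is Noetherian, that f is locally of finite type, that f is flat at the point t, and that t is a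
split node of the fibre T_s — here taken in the form: t is a closed point of T_s and the completion
of O_{T_s,t} is isomorphic, compatibly with κ(s), to κ(s)[[x,y]]/(xy). Then there are h in the
maximal ideal of the completion Â of O_{S,s} and an isomorphism of the completion of O_{T,t} with
Â[[x,y]]/(xy − h) compatible with the maps from O_{S,s} (hence an isomorphism of Â-algebras). -/
theorem result {T S : Scheme.{u}} (f : T ⟶ S) [LocallyOfFiniteType f] (t : T)
    [IsNoetherianRing (S.presheaf.stalk (f t))] (hfl : (f.stalkMap t).hom.Flat)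
    (ht : letI : (f.fiber (f t)).Over (Spec (S.residueField (f t))) := ⟨f.fiberToSpecResidueField (f t)⟩
      letI := Curv2.stalkAlgebra (S.residueField (f t)) (f.fiber (f t)) (f.asFiber t)
      IsClosed ({f.asFiber t} : Set (f.fiber (f t))) ∧
        Curv2.IsOrdDoublePt (S.residueField (f t)) ((f.fiber (f t)).presheaf.stalk (f.asFiber t))) :
    ∃ h ∈ IsLocalRing.maximalIdeal (Curv2.cpl (S.presheaf.stalk (f t))),
      ∃ e : Curv2.cpl (T.presheaf.stalk t) ≃+*
          (MvPowerSeries (Fin 2) (Curv2.cpl (S.presheaf.stalk (f t))) ⧸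
            Ideal.span {(MvPowerSeries.X 0 * MvPowerSeries.X 1 - MvPowerSeries.C h : MvPowerSeries (Fin 2) (Curv2.cpl (S.presheaf.stalk (f t))))}),
        ∀ a : S.presheaf.stalk (f t),
          e (algebraMap (T.presheaf.stalk t) (Curv2.cpl (T.presheaf.stalk t)) ((f.stalkMap t).hom a)) =
            Ideal.Quotient.mk _ (MvPowerSeries.C (algebraMap (S.presheaf.stalk (f t)) (Curv2.cpl (S.presheaf.stalk (f t))) a)) := by
  classical
  obtain ⟨-, e, he⟩ := ht
  letI alg : Algebra (S.presheaf.stalk (f t)) (T.presheaf.stalk t) :=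
    (f.stalkMap t).hom.toAlgebra
  haveI hloc : IsLocalHom (algebraMap (S.presheaf.stalk (f t)) (T.presheaf.stalk t)) :=
    inferInstanceAs (IsLocalHom (f.stalkMap t).hom)
  haveI hflat : Module.Flat (S.presheaf.stalk (f t)) (T.presheaf.stalk t) := hfl
  haveI hnoeth : IsNoetherianRing (T.presheaf.stalk t) := by
    haveI : Algebra.EssFiniteType (S.presheaf.stalk (f t)) (T.presheaf.stalk t) :=
      LocallyOfFiniteType.stalkMap f t
    exact Algebra.EssFiniteType.isNoetherianRing (S.presheaf.stalk (f t)) (T.presheaf.stalk t)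
  obtain ⟨θ, hθ⟩ := Groth.Agent.Lib.Seat90.NodeFib.exists_stalk_fiber_equiv f t (f.asFiber t)
    (f.fiberι_asFiber t)
  have hmax : (IsLocalRing.maximalIdeal ((f.fiber (f t)).presheaf.stalk (f.asFiber t))).map
      (θ : _ →+* _) =
      (IsLocalRing.maximalIdeal (T.presheaf.stalk t)).map
        (Ideal.Quotient.mk (Groth.Agent.Lib.Helper5.FiberStalk.fibIdeal f t)) := by
    rw [IsLocalRing.map_maximalIdeal_of_surjective _ Ideal.Quotient.mk_surjective]
    exact IsLocalRing.map_ringEquiv_maximalIdeal θ
  let e₀ := (Groth.Agent.Lib.Seat90.NodeBridge.complEquiv _ _ θ hmax).symm.trans e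
  have he₀ : ∀ a : S.presheaf.stalk (f t),
      e₀ (algebraMap (T.presheaf.stalk t ⧸ Groth.Agent.Lib.Helper5.FiberStalk.fibIdeal f t) _
        (Ideal.Quotient.mk _ ((f.stalkMap t).hom a))) =
      Ideal.Quotient.mk _ (MvPowerSeries.C (IsLocalRing.residue _ a)) := by
    intro a
    have h1 := hθ ((Scheme.ΓSpecIso (S.residueField (f t))).inv.hom (IsLocalRing.residue _ a))
    have h2 : (Scheme.ΓSpecIso (S.residueField (f t))).hom.hom
        ((Scheme.ΓSpecIso (S.residueField (f t))).inv.hom (IsLocalRing.residue _ a)) =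
        IsLocalRing.residue _ a := by
      simp
    rw [h2, Groth.Agent.Lib.Seat90.NodeFib.toQ_residue] at h1
    have h3 := he (IsLocalRing.residue _ a)
    change e ((Groth.Agent.Lib.Seat90.NodeBridge.complEquiv _ _ θ hmax).symm _) = _
    rw [← h1, ← Groth.Agent.Lib.Seat90.NodeBridge.complEquiv_algebraMap _ _ θ hmax,
      RingEquiv.symm_apply_apply]
    exact h3
  obtain ⟨h, hh, E, hE⟩ := Groth.Agent.Lib.Seat90.NodeBridge.core
    (S.presheaf.stalk (f t)) (T.presheaf.stalk t) e₀ he₀
  exact ⟨h, hh, E, hE⟩

end Groth.Agent.S6573
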