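-- Statement S6605: FilD.exists_desc_along_strictMono_into_filteredInjective
import Groth.Statements.S6605
import Mathlib

set_option autoImplicit false
set_option linter.unusedSectionVars false
set_option linter.unusedVariables false
set_option linter.style.haveILetI false
universe v u
open CategoryTheory CategoryTheory.Limits Opposite
open FilD

namespace Groth.Agent.S6605

variable {A : Type u} [Category.{v} A] [Abelian A]

lemma mono_cokernel_map {X' X Y' Y : A} (x : X' ⟶ X) (y : Y' ⟶ Y) (u' : X' ⟶ Y') (u : X ⟶ Y)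
    (w : x ≫ u = u' ≫ y) [Mono y]
    (hpb : ∀ {W : A} (a : W ⟶ X) (s : W ⟶ Y'), a ≫ u = s ≫ y → ∃ r : W ⟶ X', r ≫ x = a) :
    Mono (cokernel.map x y u' u w) := by
  apply Preadditive.mono_of_cancel_zero
  intro W t ht
  obtain ⟨W', π, hπ, t', ht'⟩ := surjective_up_to_refinements_of_epi (cokernel.π x) t
  have h1 : (t' ≫ u) ≫ cokernel.π y = 0 := by
    rw [Category.assoc]
    have : u ≫ cokernel.π y = cokernel.π x ≫ cokernel.map x y u' u w := by simp
    rw [this, ← Category.assoc, ← ht', Category.assoc, ht, comp_zero]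
  obtain ⟨r, hr⟩ := hpb t' (Abelian.monoLift y (t' ≫ u) h1) (by rw [Abelian.monoLift_comp])
  rw [← cancel_epi π, ht', ← hr, Category.assoc, cokernel.condition, comp_zero, comp_zero]

lemma step_ext {Xp1 Xp Yp1 Yp Ip1 Ip : A} (x : Xp1 ⟶ Xp) (y : Yp1 ⟶ Yp) (i : Ip1 ⟶ Ip)
    (u1 : Xp1 ⟶ Yp1) (u0 : Xp ⟶ Yp) (f1 : Xp1 ⟶ Ip1) (f0 : Xp ⟶ Ip) (g1 : Yp1 ⟶ Ip1)
    [Mono y] [Injective Ip]
    (wu : x ≫ u0 = u1 ≫ y) (wf : x ≫ f0 = f1 ≫ i) (hg1 : u1 ≫ g1 = f1)
    (hpb : ∀ {W : A} (a : W ⟶ Xp) (s : W ⟶ Yp1), a ≫ u0 = s ≫ y → ∃ r : W ⟶ Xp1, r ≫ x = a) :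
    ∃ g0 : Yp ⟶ Ip, u0 ≫ g0 = f0 ∧ y ≫ g0 = g1 ≫ i := by
  let g' : Yp ⟶ Ip := Injective.factorThru (g1 ≫ i) y
  have hg' : y ≫ g' = g1 ≫ i := Injective.comp_factorThru _ _
  let d : Xp ⟶ Ip := f0 - u0 ≫ g'
  have hd : x ≫ d = 0 := by
    simp only [d, Preadditive.comp_sub]
    rw [← Category.assoc, wu, Category.assoc, hg', ← Category.assoc, hg1, wf, sub_self]
  haveI := mono_cokernel_map x y u1 u0 wu hpb
  let e : cokernel y ⟶ Ip := Injective.factorThru (cokernel.desc x d hd) (cokernel.map x y u1 u0 wu)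
  have he : cokernel.map x y u1 u0 wu ≫ e = cokernel.desc x d hd := Injective.comp_factorThru _ _
  refine ⟨g' + cokernel.π y ≫ e, ?_, ?_⟩
  · rw [Preadditive.comp_add]
    have : u0 ≫ cokernel.π y = cokernel.π x ≫ cokernel.map x y u1 u0 wu := by simp
    rw [← Category.assoc, this, Category.assoc, he, cokernel.π_desc]
    simp [d]
  · rw [Preadditive.comp_add, hg', ← Category.assoc, cokernel.condition, zero_comp, add_zero]

section PartA

variable {X Y : ℤᵒᵖ ⥤ A} (φ : X ⟶ Y)

/-- objectwise kernel functor -/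
noncomputable abbrev kerFunctor : ℤᵒᵖ ⥤ A where
  obj p := kernel (φ.app p)
  map {p q} f := kernel.map (φ.app p) (φ.app q) (X.map f) (Y.map f) (φ.naturality f).symm
  map_id p := by
    ext
    simp
  map_comp f g := by
    ext
    simp

/-- the inclusion of the objectwise kernel -/
noncomputable def kerι : kerFunctor φ ⟶ X where
  app p := kernel.ι (φ.app p)
  naturality p q f := by
    simp [kerFunctor]

lemma kerι_comp : kerι φ ≫ φ = 0 := by
  ext p
  exact kernel.condition _

lemma isFinFil_kerFunctor (hX : IsFinFil A X) (hY : IsFinFil A Y) : IsFinFil A (kerFunctor φ) := by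
  obtain ⟨bX, hbX⟩ := hX.2.1
  obtain ⟨aX, haX⟩ := hX.2.2
  obtain ⟨aY, haY⟩ := hY.2.2
  refine ⟨?_, ⟨bX, ?_⟩, ⟨min aX aY, ?_⟩⟩
  · intro p q f
    have h1 : (kerFunctor φ).map f ≫ kernel.ι (φ.app q) = kernel.ι (φ.app p) ≫ X.map f := by
      simp [kerFunctor]
    have hm : Mono (X.map f) := hX.1 f
    have : Mono ((kerFunctor φ).map f ≫ kernel.ι (φ.app q)) := by
      rw [h1]
      infer_instance
    exact mono_of_mono _ (kernel.ι (φ.app q))
  · intro p hp
    exact IsZero.of_mono (kernel.ι (φ.app (op p))) (hbX p hp)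
  · intro p q f hp
    have i1 : IsIso (X.map f) := haX f (le_trans hp (min_le_left _ _))
    have i2 : IsIso (Y.map f) := haY f (le_trans hp (min_le_right _ _))
    have w : φ.app q ≫ inv (Y.map f) = inv (X.map f) ≫ φ.app p := by
      rw [IsIso.comp_inv_eq, Category.assoc, IsIso.eq_inv_comp]
      exact (φ.naturality f)
    refine ⟨kernel.map (φ.app q) (φ.app p) (inv (X.map f)) (inv (Y.map f)) w, ?_, ?_⟩
    · apply equalizer.hom_ext
      simp [kerFunctor]
    · apply equalizer.hom_ext
      simp [kerFunctor]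

end PartA

lemma mono_app_of_mono {X Y : FilF A} (u : X ⟶ Y) [Mono u] (p : ℤᵒᵖ) : Mono (u.hom.app p) := by
  let K : FilF A := ⟨kerFunctor u.hom, isFinFil_kerFunctor u.hom X.property Y.property⟩
  let k1 : K ⟶ X := ObjectProperty.homMk (kerι u.hom)
  let k2 : K ⟶ X := ObjectProperty.homMk 0
  have h12 : k1 ≫ u = k2 ≫ u := by
    apply ObjectProperty.hom_ext
    simp only [ObjectProperty.FullSubcategory.comp_hom]
    change kerι u.hom ≫ u.hom = 0 ≫ u.hom
    rw [kerι_comp, zero_comp]
  have h : k1 = k2 := (cancel_mono u).1 h12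
  have h' : kerι u.hom = 0 := congrArg (fun k => k.hom) h
  have h'' : kernel.ι (u.hom.app p) = 0 := by
    have := congrArg (fun k => k.app p) h'
    exact this
  exact Preadditive.mono_of_kernel_zero h''

section PartB

lemma injective_of_isZero {Z : A} (hZ : IsZero Z) : Injective Z :=
  ⟨fun g _ => ⟨0, hZ.eq_of_tgt _ _⟩⟩

lemma injective_step (I : ℤᵒᵖ ⥤ A) (hI : IsFinFil A I) (p : ℤ)
    (h1 : Injective (I.obj (op (p + 1)))) (h2 : Injective ((gr A p).obj I)) :
    Injective (I.obj (op p)) := by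
  have hm : Mono (I.map (stepHom p)) := hI.1 _
  let S : ShortComplex A := ShortComplex.mk (I.map (stepHom p)) (cokernel.π (I.map (stepHom p)))
    (cokernel.condition _)
  have hS : S.ShortExact :=
    { exact := ShortComplex.exact_cokernel _
      mono_f := hm
      epi_g := inferInstanceAs (Epi (cokernel.π (I.map (stepHom p)))) }
  haveI : Injective S.X₁ := h1
  haveI : Injective S.X₃ := h2
  exact Injective.of_iso (hS.splittingOfInjective.isoBinaryBiproduct).symm inferInstance

lemma injective_all (I : FilF A) (hI : IsFilteredInjective I) (p : ℤ) :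
    Injective (I.obj.obj (op p)) := by
  obtain ⟨b, hb⟩ := I.property.2.1
  by_cases hp : b ≤ p
  · exact injective_of_isZero (hb p hp)
  · have hp' : p ≤ b := le_of_not_ge hp
    refine Int.leInductionDown (m := b) (motive := fun p _ => Injective (I.obj.obj (op p)))
      (injective_of_isZero (hb b le_rfl)) ?_ p hp'
    intro n hn ih
    have := injective_step I.obj I.property (n - 1)
      (by rw [sub_add_cancel]; exact ih) (hI (n - 1))
    exact this

end PartB

section PartC

lemma pullback_of_strict {X Y : FilF A} (u : X ⟶ Y) (hu : IsStrict u) (p : ℤ)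
    (hm : ∀ q : ℤᵒᵖ, Mono (u.hom.app q))
    {W : A} (a : W ⟶ X.obj.obj (op p)) (s : W ⟶ Y.obj.obj (op (p + 1)))
    (h : a ≫ u.hom.app (op p) = s ≫ Y.obj.map (stepHom p)) :
    ∃ r : W ⟶ X.obj.obj (op (p + 1)), r ≫ X.obj.map (stepHom p) = a := by
  have hmY : Mono (Y.obj.map (stepHom p)) := Y.property.1 _
  have hm0 : Mono (u.hom.app (op p)) := hm _
  have hm1 : Mono (u.hom.app (op (p + 1))) := hm _
  have hstr := hu p (p + 1) (Int.le_add_one le_rfl)
  change imageSubobject (u.hom.app (op (p + 1)) ≫ Y.obj.map (stepHom p)) =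
    imageSubobject (u.hom.app (op p)) ⊓ Subobject.mk (Y.obj.map (stepHom p)) at hstr
  have f1 : (imageSubobject (u.hom.app (op p))).Factors (a ≫ u.hom.app (op p)) :=
    imageSubobject_factors_comp_self _ _
  have f2 : (Subobject.mk (Y.obj.map (stepHom p))).Factors (a ≫ u.hom.app (op p)) := by
    rw [h]
    exact Subobject.factors_of_factors_right s (Subobject.mk_factors_self _)
  have f3 : (imageSubobject (u.hom.app (op (p + 1)) ≫ Y.obj.map (stepHom p))).Factors
      (a ≫ u.hom.app (op p)) := by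
    rw [hstr]
    exact (Subobject.inf_factors _).2 ⟨f1, f2⟩
  set c := u.hom.app (op (p + 1)) ≫ Y.obj.map (stepHom p) with hc
  have hmc : Mono c := mono_comp _ _
  have hmft : Mono (factorThruImageSubobject c) := by
    have : Mono (factorThruImageSubobject c ≫ (imageSubobject c).arrow) := by
      rw [imageSubobject_arrow_comp]
      exact hmc
    exact mono_of_mono _ (imageSubobject c).arrow
  have hiso : IsIso (factorThruImageSubobject c) := isIso_of_mono_of_epi _
  refine ⟨(imageSubobject c).factorThru _ f3 ≫ inv (factorThruImageSubobject c), ?_⟩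
  rw [← cancel_mono (u.hom.app (op p)), Category.assoc, Category.assoc]
  have nat : X.obj.map (stepHom p) ≫ u.hom.app (op p) = c := by
    rw [hc]
    exact u.hom.naturality (stepHom p)
  rw [nat]
  have e1 : inv (factorThruImageSubobject c) ≫ c = (imageSubobject c).arrow := by
    rw [IsIso.inv_comp_eq, imageSubobject_arrow_comp]
  rw [e1, Subobject.factorThru_arrow]

end PartC

section PartD

variable {X Y I : FilF A} (u : X ⟶ Y) (f : X ⟶ I)

/-- families of maps -/
abbrev Fam (Y I : FilF A) := ∀ q : ℤ, Y.obj.obj (op q) ⟶ I.obj.obj (op q)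

/-- good from p on -/
def Good (p : ℤ) (g : Fam Y I) : Prop :=
  (∀ q, p ≤ q → u.hom.app (op q) ≫ g q = f.hom.app (op q)) ∧
  (∀ q, p ≤ q → Y.obj.map (stepHom q) ≫ g q = g (q + 1) ≫ I.obj.map (stepHom q))

lemma good_base (b : ℤ) (hbX : ∀ p : ℤ, b ≤ p → IsZero (X.obj.obj (op p)))
    (hbY : ∀ p : ℤ, b ≤ p → IsZero (Y.obj.obj (op p))) : Good u f b (fun _ => 0) := by
  refine ⟨fun q hq => (hbX q hq).eq_of_src _ _, fun q hq => ?_⟩
  exact (hbY (q + 1) (by omega)).eq_of_src _ _

lemma good_step (p : ℤ) (g : Fam Y I) (hg : Good u f (p + 1) g)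
    (hex : ∀ g1 : Y.obj.obj (op (p + 1)) ⟶ I.obj.obj (op (p + 1)),
      u.hom.app (op (p + 1)) ≫ g1 = f.hom.app (op (p + 1)) →
      ∃ g0 : Y.obj.obj (op p) ⟶ I.obj.obj (op p), u.hom.app (op p) ≫ g0 = f.hom.app (op p) ∧
        Y.obj.map (stepHom p) ≫ g0 = g1 ≫ I.obj.map (stepHom p)) :
    ∃ g' : Fam Y I, Good u f p g' ∧ ∀ q, p < q → g' q = g q := by
  obtain ⟨g0, h1, h2⟩ := hex (g (p + 1)) (hg.1 (p + 1) le_rfl)
  refine ⟨Function.update g p g0, ⟨fun q hq => ?_, fun q hq => ?_⟩, fun q hq => ?_⟩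
  · rcases eq_or_lt_of_le hq with rfl | hlt
    · rw [Function.update_self]
      exact h1
    · rw [Function.update_of_ne (ne_of_gt hlt)]
      exact hg.1 q (by omega)
  · rcases eq_or_lt_of_le hq with rfl | hlt
    · rw [Function.update_self, Function.update_of_ne (by omega)]
      exact h2
    · rw [Function.update_of_ne (ne_of_gt hlt), Function.update_of_ne (by omega)]
      exact hg.2 q (by omega)
  · rw [Function.update_of_ne (ne_of_gt hq)]

variable (b : ℤ) (hbase : Good u f b (fun _ => 0))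
  (hstep : ∀ (p : ℤ) (g : Fam Y I), Good u f (p + 1) g →
    ∃ g' : Fam Y I, Good u f p g' ∧ ∀ q, p < q → g' q = g q)

/-- the coherent sequence of families -/
noncomputable def seqG : (n : ℕ) → {g : Fam Y I // Good u f (b - n) g}
  | 0 => ⟨fun _ => 0, by simpa using hbase⟩
  | (n + 1) =>
    let h := hstep (b - (n + 1 : ℕ)) (seqG n).1
      (by have := (seqG n).2; convert this using 1; push_cast; ring)
    ⟨h.choose, h.choose_spec.1⟩

lemma seqG_succ (n : ℕ) (q : ℤ) (hq : b - (n + 1 : ℕ) < q) :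
    (seqG u f b hbase hstep (n + 1)).1 q = (seqG u f b hbase hstep n).1 q := by
  have h := hstep (b - (n + 1 : ℕ)) (seqG u f b hbase hstep n).1
      (by have := (seqG u f b hbase hstep n).2; convert this using 1; push_cast; ring)
  exact h.choose_spec.2 q hq

lemma seqG_coh (n m : ℕ) (hnm : n ≤ m) (q : ℤ) (hq : b - n ≤ q) :
    (seqG u f b hbase hstep m).1 q = (seqG u f b hbase hstep n).1 q := by
  induction m, hnm using Nat.le_induction with
  | base => rfl
  | succ m hm ih =>
    rw [seqG_succ u f b hbase hstep m q (by push_cast; omega), ih]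

/-- the limit family -/
noncomputable def limG : Fam Y I := fun q => (seqG u f b hbase hstep (b - q).toNat).1 q

lemma limG_eq (q : ℤ) (n : ℕ) (hn : b - n ≤ q) :
    limG u f b hbase hstep q = (seqG u f b hbase hstep n).1 q := by
  have h1 : (b - q).toNat ≤ n := by omega
  exact (seqG_coh u f b hbase hstep _ _ h1 q (by omega)).symm

lemma limG_good (q : ℤ) :
    u.hom.app (op q) ≫ limG u f b hbase hstep q = f.hom.app (op q) ∧
    Y.obj.map (stepHom q) ≫ limG u f b hbase hstep q =
      limG u f b hbase hstep (q + 1) ≫ I.obj.map (stepHom q) := by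
  set n := (b - q).toNat with hn
  have hq : b - n ≤ q := by omega
  rw [limG_eq u f b hbase hstep q n hq, limG_eq u f b hbase hstep (q + 1) n (by omega)]
  exact ⟨(seqG u f b hbase hstep n).2.1 q hq, (seqG u f b hbase hstep n).2.2 q hq⟩

end PartD

section PartE

variable {Y I : ℤᵒᵖ ⥤ A} (g : ∀ q : ℤ, Y.obj (op q) ⟶ I.obj (op q))
  (hg : ∀ q : ℤ, Y.map (stepHom q) ≫ g q = g (q + 1) ≫ I.map (stepHom q))

include hg in
lemma nat_of_step (p q : ℤ) (h : p ≤ q) :
    Y.map (homOfLE h).op ≫ g p = g q ≫ I.map (homOfLE h).op := by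
  induction q, h using Int.leInduction with
  | base =>
    have : (homOfLE (le_refl p)).op = 𝟙 (op p) := Subsingleton.elim _ _
    rw [this, Y.map_id, I.map_id, Category.id_comp, Category.comp_id]
  | succ q hpq ih =>
    have : (homOfLE (hpq.trans (Int.le_add_one le_rfl))).op = stepHom q ≫ (homOfLE hpq).op :=
      Subsingleton.elim _ _
    rw [this, Y.map_comp, I.map_comp, Category.assoc, ih, ← Category.assoc, hg, Category.assoc]

/-- the natural transformation -/
def natOfStep : Y ⟶ I where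
  app P := g P.unop
  naturality P Q φ := by
    have h : Q.unop ≤ P.unop := leOfHom φ.unop
    have : φ = (homOfLE h).op := Subsingleton.elim _ _
    rw [this]
    exact nat_of_step g hg Q.unop P.unop h

end PartE


/-- Let A be an abelian category, u : A ⟶ B a strict monomorphism of finite filtered objects and f : A ⟶
I a morphism into a filtered injective object I of Fil^f(A). Then there is g : B ⟶ I with u ≫ g = f. -/
theorem result {A : Type u} [Category.{v} A] [Abelian A]
    {X Y I : FilD.FilF A} (u : X ⟶ Y) [Mono u] (hu : FilD.IsStrict u) (hI : FilD.IsFilteredInjective I) (f : X ⟶ I) :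
    ∃ g : Y ⟶ I, u ≫ g = f := by
  have hm : ∀ q : ℤᵒᵖ, Mono (u.hom.app q) := mono_app_of_mono u
  obtain ⟨bX, hbX⟩ := X.property.2.1
  obtain ⟨bY, hbY⟩ := Y.property.2.1
  have hbase : Good u f (max bX bY) (fun _ => 0) :=
    good_base u f (max bX bY) (fun p hp => hbX p (le_trans (le_max_left _ _) hp))
      (fun p hp => hbY p (le_trans (le_max_right _ _) hp))
  have hstep : ∀ (p : ℤ) (g : Fam Y I), Good u f (p + 1) g →
      ∃ g' : Fam Y I, Good u f p g' ∧ ∀ q, p < q → g' q = g q := by
    intro p g hg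
    refine good_step u f p g hg ?_
    intro g1 hg1
    have hmY : Mono (Y.obj.map (stepHom p)) := Y.property.1 _
    have hinj : Injective (I.obj.obj (op p)) := injective_all I hI p
    exact step_ext (X.obj.map (stepHom p)) (Y.obj.map (stepHom p)) (I.obj.map (stepHom p))
      (u.hom.app (op (p + 1))) (u.hom.app (op p)) (f.hom.app (op (p + 1))) (f.hom.app (op p)) g1
      (u.hom.naturality (stepHom p)) (f.hom.naturality (stepHom p)) hg1
      (fun a s h => pullback_of_strict u hu p hm a s h)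
  let g := limG u f (max bX bY) hbase hstep
  have hg := limG_good u f (max bX bY) hbase hstep
  refine ⟨ObjectProperty.homMk (natOfStep g (fun q => (hg q).2)), ?_⟩
  apply ObjectProperty.hom_ext
  apply NatTrans.ext
  funext P
  exact (hg P.unop).1

end Groth.Agent.S6605
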