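import Groth.Statements.S6627
import Groth.Agent.Lib.Seat1IntPropA
import Groth.Agent.Lib.Helper20EtSplitClopen

set_option autoImplicit false
open CategoryTheory CategoryTheory.Limits AlgebraicGeometry Opposite
universe u
open EtCore

namespace Groth.Agent.S6627

/-- A separated morphism of schemes that is locally quasi-finite (locally of finite type with discrete
fibres) satisfies condition (A): for every etale U ⟶ X and every point u of U there are an etale V ⟶
Y, an open and closed subscheme W of X ×_Y V and an X-morphism W ⟶ U whose image contains u.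
(Locally of finite type is part of the meaning of locally quasi-finite here and is carried as a
separate hypothesis.) -/
theorem result {X Y : Scheme.{u}} (f : X ⟶ Y) [IsSeparated f]
    [LocallyQuasiFinite f] [LocallyOfFiniteType f] : BigSite.PropA f := by
  intro U g _ u
  let x : X := g u
  let y : Y := f x
  obtain ⟨V₁, v₁, v0, hv₁, hv0, -, Vw, -, H⟩ :=
    Groth.Agent.Lib.Helper20.EtSections.exists_etale_split_clopen f y {x}
      (Set.finite_singleton x) (by
        intro t ht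
        rw [Set.mem_singleton_iff] at ht
        subst ht
        exact ⟨rfl, f.quasiFiniteAt _⟩)
  have : Etale v₁ := hv₁
  -- the point `w` of `X ×_Y V₁` over `x` and `v0`
  obtain ⟨w, hw1, hw2⟩ := Scheme.Pullback.exists_preimage_pullback (f := f) (g := v₁) x v0
    (hv0.symm ▸ rfl : f x = v₁ v0)
  obtain ⟨hwV, hclopen, hfin, -, -, -⟩ := H w hw2 (by rw [hw1]; exact Set.mem_singleton x)
  let P₁ : Scheme.{u} := pullback f v₁
  let W₁ : P₁.Opens := Vw w
  let φ : (W₁ : Scheme.{u}) ⟶ V₁ := W₁.ι ≫ pullback.snd f v₁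
  have : IsFinite φ := hfin
  -- the étale `U' = U ×_X W₁ ⟶ W₁`
  let ψ : (W₁ : Scheme.{u}) ⟶ X := W₁.ι ≫ pullback.fst f v₁
  let U' : Scheme.{u} := pullback g ψ
  let g' : U' ⟶ W₁ := pullback.snd g ψ
  have : Etale g' := inferInstanceAs (Etale (pullback.snd g ψ))
  let w' : (W₁ : Scheme.{u}) := ⟨w, hwV⟩
  have hw' : W₁.ι w' = w := rfl
  obtain ⟨u', hu'1, hu'2⟩ := Scheme.Pullback.exists_preimage_pullback (f := g) (g := ψ) u w'
    (by
      change g u = (W₁.ι ≫ pullback.fst f v₁) w'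
      rw [Scheme.Hom.comp_apply, hw', hw1])
  obtain ⟨V₂, v₂, hv₂, W₂, hW₂c, h₂, hh₂, hu₂⟩ :=
    Groth.Agent.Lib.Seat1.IntPropA.propA φ U' g' u'
  have : Etale v₂ := hv₂
  -- the open immersion `j : W₁ ×_{V₁} V₂ ⟶ X ×_Y V₂`
  let Q : Scheme.{u} := pullback φ v₂
  let P₂ : Scheme.{u} := pullback f (v₂ ≫ v₁)
  let m : P₂ ⟶ P₁ := Groth.Agent.Lib.Helper20.EtSections.bcMap f v₁ v₂
  have hm : IsPullback m (pullback.snd f (v₂ ≫ v₁)) (pullback.snd f v₁) v₂ :=
    Groth.Agent.Lib.Helper20.EtSections.isPullback_bcMap f v₁ v₂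
  let j : Q ⟶ P₂ := hm.lift (pullback.fst φ v₂ ≫ W₁.ι) (pullback.snd φ v₂) (by
    rw [Category.assoc]; exact pullback.condition)
  have hj1 : j ≫ m = pullback.fst φ v₂ ≫ W₁.ι := hm.lift_fst _ _ _
  have hj2 : j ≫ pullback.snd f (v₂ ≫ v₁) = pullback.snd φ v₂ := hm.lift_snd _ _ _
  have hjpb : IsPullback j (pullback.fst φ v₂) m W₁.ι := by
    refine IsPullback.of_right ?_ hj1 hm.flip
    rw [hj2]
    exact (IsPullback.of_hasPullback φ v₂).flip
  have : IsOpenImmersion j :=
    MorphismProperty.of_isPullback (P := @IsOpenImmersion) hjpb.flip inferInstance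
  have hjrange : Set.range j = m ⁻¹' (W₁ : Set P₁) := by
    have e : j = hjpb.isoPullback.hom ≫ pullback.fst m W₁.ι := hjpb.isoPullback_hom_fst.symm
    have hs : Function.Surjective hjpb.isoPullback.hom := hjpb.isoPullback.hom.surjective
    rw [e, Scheme.Hom.comp_base, TopCat.coe_comp, Set.range_comp, Set.range_eq_univ.mpr hs,
      Set.image_univ, Scheme.Pullback.range_fst, Scheme.Opens.range_ι]
  have hjclosed : IsClosed (Set.range j) := by
    rw [hjrange]
    exact hclopen.1.preimage m.continuous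
  have hjce : Topology.IsClosedEmbedding j :=
    ⟨j.isOpenEmbedding.isEmbedding, hjclosed⟩
  let W : P₂.Opens := j ''ᵁ W₂
  have hWc : IsClosed (W : Set P₂) := by
    change IsClosed (j '' (W₂ : Set Q))
    exact hjce.isClosedMap _ hW₂c
  let h : (W : Scheme.{u}) ⟶ U := (j.isoImage W₂).inv ≫ h₂ ≫ pullback.fst g ψ
  refine ⟨V₂, v₂ ≫ v₁, inferInstance, W, hWc, h, ?_, ?_⟩
  · change ((j.isoImage W₂).inv ≫ h₂ ≫ pullback.fst g ψ) ≫ g = W.ι ≫ pullback.fst f (v₂ ≫ v₁)
    have e1 : pullback.fst g ψ ≫ g = g' ≫ W₁.ι ≫ pullback.fst f v₁ := pullback.condition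
    have e2 : h₂ ≫ g' = W₂.ι ≫ pullback.fst φ v₂ := hh₂
    have e3 : m ≫ pullback.fst f v₁ = pullback.fst f (v₂ ≫ v₁) :=
      Groth.Agent.Lib.Helper20.EtSections.bcMap_fst f v₁ v₂
    have e4 : (j.isoImage W₂).inv ≫ W₂.ι ≫ j = W.ι := Scheme.Hom.isoImage_inv_ι j W₂
    rw [Category.assoc, Category.assoc, e1, reassoc_of% e2, ← reassoc_of% hj1, e3,
      reassoc_of% e4]
  · obtain ⟨z, hz⟩ := hu₂
    refine ⟨(j.isoImage W₂).hom z, ?_⟩
    change ((j.isoImage W₂).inv ≫ h₂ ≫ pullback.fst g ψ) ((j.isoImage W₂).hom z) = u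
    rw [← Scheme.Hom.comp_apply, Iso.hom_inv_id_assoc, Scheme.Hom.comp_apply]
    change pullback.fst g ψ (h₂ z) = u
    have : h₂ z = u' := hz
    rw [this, hu'1]

end Groth.Agent.S6627
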