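import Groth.Statements.S6636
import Groth.Agent.Lib.Seat1ClosedLift
import Groth.Agent.Lib.Seat1AlmostCocont

set_option autoImplicit false
open CategoryTheory CategoryTheory.Limits AlgebraicGeometry Opposite
universe u
open BigSite

namespace Groth.Agent.S6636

/-- For the etale and the smooth topologies: for a closed immersion of schemes f : X ⟶ Y the big direct
image along f preserves coequalizers and pushouts of sheaves of sets, and preserves finite colimits
of abelian sheaves (so it is exact there, being a right adjoint). (The published statement also
covers the syntomic topology; this row treats the etale and smooth topologies only.) -/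
theorem result {X Y : Scheme.{u}} (f : X ⟶ Y) [IsClosedImmersion f]
    (K : Precoverage Scheme.{u}) (hK : K = Scheme.etalePrecoverage ∨ K = Scheme.precoverage @Smooth) :
    PreservesColimitsOfShape WalkingParallelPair (BigSite.pushBig K f (Type (u + 1))) ∧
      PreservesColimitsOfShape WalkingSpan (BigSite.pushBig K f (Type (u + 1))) ∧
      PreservesFiniteColimits (BigSite.pushBig K f AddCommGrpCat.{u + 1}) := by
  have hu := Groth.Agent.Lib.Seat1.ClosedLift.almostCocontinuous f K hK
  refine ⟨?_, ?_, ?_⟩
  · exact Groth.Agent.Lib.Seat1.AlmostCocont.preservesColimitsOfShape_push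
      (QuotSh.J K Y) (QuotSh.J K X) (Over.pullback f) hu
  · exact Groth.Agent.Lib.Seat1.AlmostCocont.preservesColimitsOfShape_push
      (QuotSh.J K Y) (QuotSh.J K X) (Over.pullback f) hu
  · let F := BigSite.pushBig K f AddCommGrpCat.{u + 1}
    have hlim : PreservesFiniteLimits F := by
      have := (BigSite.bigAdj K f AddCommGrpCat.{u + 1}).rightAdjoint_preservesLimits
      infer_instance
    rw [Functor.preservesFiniteColimits_iff_forall_exact_map_and_epi]
    intro S hS
    refine ⟨((Functor.preservesFiniteLimits_iff_forall_exact_map_and_mono F).1 hlim S hS).1, ?_⟩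
    have : Epi S.g := hS.epi_g
    have h1 : Sheaf.IsLocallySurjective S.g := (Sheaf.isLocallySurjective_iff_epi' (φ := S.g)).2 this
    have h2 : Presheaf.IsLocallySurjective (QuotSh.J K Y)
        (Functor.whiskerLeft (Over.pullback f).op S.g.hom) :=
      Groth.Agent.Lib.Seat1.AlmostCocont.isLocallySurjective_push_ab
        (QuotSh.J K Y) (QuotSh.J K X) (Over.pullback f) hu S.g
    exact (Sheaf.isLocallySurjective_iff_epi' (φ := F.map S.g)).1 h2

end Groth.Agent.S6636
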