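import Groth.Statements.S6647
import Groth.Agent.Lib.Seat29EtLocConst

set_option autoImplicit false
open CategoryTheory CategoryTheory.Limits AlgebraicGeometry Opposite
universe u
open EtCore

namespace Groth.Agent.S6647

/-- Let φ : F ⟶ G be a map of locally constant abelian sheaves on the small etale site of a scheme X,
with F finite locally constant. Then on the members of some etale covering of X the restriction of φ
is, up to isomorphisms with constant sheaves on both sides, the map of constant sheaves induced by a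
homomorphism of abelian groups. -/
theorem result {X : Scheme.{u}} (F G : EtCoh.Ab X) (φ : F ⟶ G)
    (hF : EtCoh.IsFiniteLocallyConstant F) (hG : EtRest.IsLocallyConstant G) :
    ∃ (ι : Type u) (U : ι → X.Etale), EtCoh.Covers U ∧ ∀ i, ∃ (M N : Type (u + 1)) (_ : AddCommGroup M) (_ : AddCommGroup N)
      (h : M →+ N)
      (α : EtCoh.restr F (U i) ≅ (constantSheaf (X.smallEtaleTopology.over (U i)) AddCommGrpCat.{u + 1}).obj (AddCommGrpCat.of M))
      (β : EtCoh.restr G (U i) ≅ (constantSheaf (X.smallEtaleTopology.over (U i)) AddCommGrpCat.{u + 1}).obj (AddCommGrpCat.of N)),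
      (X.smallEtaleTopology.overPullback AddCommGrpCat.{u + 1} (U i)).map φ ≫ β.hom = α.hom ≫ (constantSheaf (X.smallEtaleTopology.over (U i)) AddCommGrpCat.{u + 1}).map (AddCommGrpCat.ofHom h) := by
  refine Groth.Agent.Lib.Seat29.EtLocConst.exists_cover_of_forall (fun W : X.Etale =>
    ∃ (M N : Type (u + 1)) (_ : AddCommGroup M) (_ : AddCommGroup N) (h : M →+ N)
      (α : EtCoh.restr F W ≅ (constantSheaf (X.smallEtaleTopology.over W) AddCommGrpCat.{u + 1}).obj (AddCommGrpCat.of M))
      (β : EtCoh.restr G W ≅ (constantSheaf (X.smallEtaleTopology.over W) AddCommGrpCat.{u + 1}).obj (AddCommGrpCat.of N)),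
      (X.smallEtaleTopology.overPullback AddCommGrpCat.{u + 1} W).map φ ≫ β.hom = α.hom ≫ (constantSheaf (X.smallEtaleTopology.over W) AddCommGrpCat.{u + 1}).map (AddCommGrpCat.ofHom h)) ?_
  intro x
  obtain ⟨U, a, ha, M₀, iM, fM, ⟨α₀⟩⟩ :=
    Groth.Agent.Lib.Seat29.EtLocConst.forall_of_cover (fun W : X.Etale =>
      ∃ (M : Type) (_ : AddCommGroup M) (_ : Finite M), Nonempty (EtCoh.restr F W ≅
        (constantSheaf (X.smallEtaleTopology.over W) AddCommGrpCat.{u + 1}).obj
          (AddCommGrpCat.of (ULift.{u + 1} M)))) hF x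
  obtain ⟨V, b, hb, N₀, iN, ⟨β₀⟩⟩ :=
    Groth.Agent.Lib.Seat29.EtLocConst.forall_of_cover (fun W : X.Etale =>
      ∃ (M : Type (u + 1)) (_ : AddCommGroup M), Nonempty (EtCoh.restr G W ≅
        (constantSheaf (X.smallEtaleTopology.over W) AddCommGrpCat.{u + 1}).obj
          (AddCommGrpCat.of M))) hG x
  have hfg : AddGroup.FG (AddCommGrpCat.of (ULift.{u + 1} M₀)) :=
    inferInstanceAs (AddGroup.FG (ULift.{u + 1} M₀))
  obtain ⟨W, w, h, α, β, hw, hsq⟩ :=
    Groth.Agent.Lib.Seat29.EtLocConst.exists_nbhd_hom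
      (M := AddCommGrpCat.of (ULift.{u + 1} M₀)) (N := AddCommGrpCat.of N₀)
      (fun W ψ => Groth.Agent.Lib.Seat29.LocFac.locFac_addCommGrpCat _ ψ)
      φ a b (ha.trans hb.symm) α₀ β₀
  exact ⟨W, w, hw.trans ha, ULift.{u + 1} M₀, N₀, inferInstance, inferInstance, h.hom, α, β, hsq⟩

end Groth.Agent.S6647
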