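import Groth.Statements.S6649
import Groth.Agent.S0212
import Groth.Agent.S0214
import Groth.Agent.Lib.Helper4VarDim2

set_option autoImplicit false
open CategoryTheory CategoryTheory.Limits AlgebraicGeometry Opposite
universe u
open Curves

namespace Groth.Agent.S6649

/-- For a curve C over an algebraically closed field k (C integral of dimension one, separated and of
finite type over k) the Brauer group of the function field of C is zero: every finite-dimensional
central division algebra over the function field has dimension one. -/
theorem result (k : Type u) [Field k] [IsAlgClosed k] (C : Scheme.{u})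
    (f : C ⟶ Spec (CommRingCat.of k)) [IsSeparated f] [LocallyOfFiniteType f] [QuasiCompact f] [IsIntegral C]
    (hdim : topologicalKrullDim ↥C = 1)
    (D : Type u) [DivisionRing D] [Algebra ↑C.functionField D] [Algebra.IsCentral ↑C.functionField D]
    [FiniteDimensional ↑C.functionField D] : Module.finrank ↑C.functionField D = 1 := by
  let : C.Over (Spec (CommRingCat.of k)) := ⟨f⟩
  have : LocallyOfFiniteType (C ↘ Spec (CommRingCat.of k)) := ‹LocallyOfFiniteType f›
  let := Curv2.stalkAlgebra k C (genericPoint C)
  let := Curv2.resAlgebra k C (genericPoint C)
  -- transcendence degree of the residue field at the generic point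
  obtain ⟨n, hn, -⟩ := Groth.Agent.Lib.Helper4.VarDim.exists_dim_irreducible k C
  have hdim' := Groth.Agent.Lib.Helper4.VarDim.topologicalKrullDim_eq_of_irreducible k C n hn
  have hn1 : n = 1 := by
    rw [hdim] at hdim'
    exact_mod_cast hdim'.symm
  subst hn1
  -- transfer to the function field
  have hbij : Function.Bijective (C.residue (genericPoint C)).hom :=
    ⟨RingHom.injective (R := C.functionField) _, IsLocalRing.residue_surjective⟩
  let e : C.functionField ≃ₐ[k] C.residueField (genericPoint C) :=
    AlgEquiv.ofBijective
      { toRingHom := (C.residue (genericPoint C)).hom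
        commutes' := fun _ => rfl } hbij
  have htr : Algebra.trdeg k C.functionField = (1 : ℕ) := by
    rw [e.trdeg_eq, hn]
  have hCi := Groth.Agent.S0212.result k C.functionField 1 htr
  have hCr : Curves.IsCr C.functionField 1 := by
    intro n d g hg hd hdn
    obtain ⟨a, ha, ha'⟩ := hCi 1 n (fun _ => g) (fun _ => d) (fun _ => hg) (fun _ => hd)
      (by simpa using hdn)
    exact ⟨a, ha, ha' 0⟩
  exact Groth.Agent.S0214.result C.functionField hCr D

end Groth.Agent.S6649
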