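import Groth.Statements.S6654
import Groth.Agent.Lib.Seat29EtGen
import Groth.Agent.Lib.Seat61ModStalk

set_option autoImplicit false
open CategoryTheory CategoryTheory.Limits AlgebraicGeometry Opposite
universe u
open EtModW

namespace Groth.Agent.S6654

/-- Let X be an irreducible scheme, ξ a geometric point over its generic point, Λ a commutative ring, M'
a submodule of a Λ-module M, and G a sheaf of Λ-modules on the small etale site of X with
monomorphisms a : const M' ⟶ G and b : G ⟶ const M whose composite is the map of constant sheaves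
induced by the inclusion. If the stalk of a at ξ is an isomorphism, then a is an isomorphism. -/
theorem result (Λ : Type (u + 1)) [CommRing Λ] {X : Scheme.{u}} [IrreducibleSpace ↥X]
    {Ω : Type u} [Field Ω] [IsSepClosed Ω] (ξ : Spec (CommRingCat.of Ω) ⟶ X)
    (hξ : ξ.base default = genericPoint ↥X)
    (M : Type (u + 1)) [AddCommGroup M] [Module Λ M] (M' : Submodule Λ M) (G : EtModW.Mod Λ X)
    (a : EtModW.constMod Λ X ↥M' ⟶ G) (b : G ⟶ EtModW.constMod Λ X M) [Mono a] [Mono b]
    (hab : a ≫ b = (constantSheaf X.smallEtaleTopology (ModuleCat.{u + 1} Λ)).map (ModuleCat.ofHom M'.subtype))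
    (hst : IsIso ((EtModW.stalk Λ ξ).map a)) : IsIso a := by
  have hb : ∀ V : X.Etale, Function.Injective (b.hom.app (op V)) := by
    intro V
    have h1 : Mono ((sheafToPresheaf X.smallEtaleTopology (ModuleCat.{u + 1} Λ)).map b) :=
      inferInstance
    have h2 : Mono (b.hom.app (op V)) :=
      (NatTrans.mono_iff_mono_app _).1 h1 (op V)
    exact (ModuleCat.mono_iff_injective _).1 h2
  have hsurj : Function.Surjective ((EtModW.stalk Λ ξ).map a) :=
    ((ConcreteCategory.isIso_iff_bijective _).1 hst).2
  have hls := Groth.Agent.Lib.Seat29.GenStalk.isLocallySurjective_of_generic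
    (Scheme.pointSmallEtale ξ) (Groth.Agent.Lib.Seat29.EtGen.bot_mem_or_nonempty_fiber ξ hξ)
    (ModuleCat.ofHom M'.subtype) a b hab hb hsurj
  have hepi : Epi a := (Sheaf.isLocallySurjective_iff_epi' (A := ModuleCat.{u + 1} Λ) a).1 hls
  exact isIso_of_mono_of_epi a

end Groth.Agent.S6654
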