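import Groth.Statements.S6655
import Groth.Agent.Lib.Seat29EtLocConst

set_option autoImplicit false
open CategoryTheory CategoryTheory.Limits AlgebraicGeometry Opposite
universe u
open EtModW

namespace Groth.Agent.S6655

/-- Part (3): with both sheaves of finite type: let Λ be a commutative ring and φ : F ⟶ G a map of
finite type locally constant sheaves of Λ-modules on the small etale site of a scheme X. Then on the
members of some etale covering of X the restriction of φ is, up to isomorphisms with constant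
sheaves on both sides, the map of constant sheaves induced by a Λ-linear map. (The published
statement allows G to be any locally constant sheaf of Λ-modules; this row assumes G of finite type
as well.) -/
theorem result (Λ : Type (u + 1)) [CommRing Λ] {X : Scheme.{u}} (F G : EtModW.Mod Λ X)
    (φ : F ⟶ G) (hF : EtModW.IsFTLocConst Λ F) (hG : EtModW.IsFTLocConst Λ G) :
    ∃ (ι : Type u) (U : ι → X.Etale), EtCoh.Covers U ∧ ∀ i, ∃ (M N : Type (u + 1)) (_ : AddCommGroup M) (_ : AddCommGroup N)
      (_ : Module Λ M) (_ : Module Λ N) (h : M →ₗ[Λ] N)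
      (α : EtModW.restr Λ F (U i) ≅ (constantSheaf (X.smallEtaleTopology.over (U i)) (ModuleCat.{u + 1} Λ)).obj (ModuleCat.of Λ M))
      (β : EtModW.restr Λ G (U i) ≅ (constantSheaf (X.smallEtaleTopology.over (U i)) (ModuleCat.{u + 1} Λ)).obj (ModuleCat.of Λ N)),
      (X.smallEtaleTopology.overPullback (ModuleCat.{u + 1} Λ) (U i)).map φ ≫ β.hom =
        α.hom ≫ (constantSheaf (X.smallEtaleTopology.over (U i)) (ModuleCat.{u + 1} Λ)).map (ModuleCat.ofHom h) := by
  refine Groth.Agent.Lib.Seat29.EtLocConst.exists_cover_of_forall (fun W : X.Etale =>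
    ∃ (M N : Type (u + 1)) (_ : AddCommGroup M) (_ : AddCommGroup N)
      (_ : Module Λ M) (_ : Module Λ N) (h : M →ₗ[Λ] N)
      (α : EtModW.restr Λ F W ≅ (constantSheaf (X.smallEtaleTopology.over W) (ModuleCat.{u + 1} Λ)).obj (ModuleCat.of Λ M))
      (β : EtModW.restr Λ G W ≅ (constantSheaf (X.smallEtaleTopology.over W) (ModuleCat.{u + 1} Λ)).obj (ModuleCat.of Λ N)),
      (X.smallEtaleTopology.overPullback (ModuleCat.{u + 1} Λ) W).map φ ≫ β.hom =
        α.hom ≫ (constantSheaf (X.smallEtaleTopology.over W) (ModuleCat.{u + 1} Λ)).map (ModuleCat.ofHom h)) ?_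
  intro x
  obtain ⟨U, a, ha, M₀, iM, mM, fM, ⟨α₀⟩⟩ :=
    Groth.Agent.Lib.Seat29.EtLocConst.forall_of_cover (fun W : X.Etale =>
      ∃ (M : Type (u + 1)) (_ : AddCommGroup M) (_ : Module Λ M) (_ : Module.Finite Λ M),
        Nonempty (EtModW.restr Λ F W ≅
          (constantSheaf (X.smallEtaleTopology.over W) (ModuleCat.{u + 1} Λ)).obj (ModuleCat.of Λ M))) hF x
  obtain ⟨V, b, hb, N₀, iN, mN, fN, ⟨β₀⟩⟩ :=
    Groth.Agent.Lib.Seat29.EtLocConst.forall_of_cover (fun W : X.Etale =>
      ∃ (M : Type (u + 1)) (_ : AddCommGroup M) (_ : Module Λ M) (_ : Module.Finite Λ M),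
        Nonempty (EtModW.restr Λ G W ≅
          (constantSheaf (X.smallEtaleTopology.over W) (ModuleCat.{u + 1} Λ)).obj (ModuleCat.of Λ M))) hG x
  have hfg : Module.Finite Λ (ModuleCat.of Λ M₀) := fM
  obtain ⟨W, w, h, α, β, hw, hsq⟩ :=
    Groth.Agent.Lib.Seat29.EtLocConst.exists_nbhd_hom
      (M := ModuleCat.of Λ M₀) (N := ModuleCat.of Λ N₀)
      (fun W ψ => Groth.Agent.Lib.Seat29.LocFac.locFac_moduleCat _ ψ)
      φ a b (ha.trans hb.symm) α₀ β₀
  exact ⟨W, w, hw.trans ha, M₀, N₀, inferInstance, inferInstance, inferInstance, inferInstance,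
    h.hom, α, β, hsq⟩

end Groth.Agent.S6655
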