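import Groth.Statements.S6659
import Groth.Agent.S14449
import Groth.Agent.Lib.Seat3ClosedPush
import Groth.Agent.Lib.Helper17ExactAdj
import Groth.Agent.Lib.Helper17SerreLoc3

set_option autoImplicit false
universe u
open CategoryTheory CategoryTheory.Limits AlgebraicGeometry Opposite
attribute [local instance] HasDerivedCategory.standard
open EtDual

namespace Groth.Agent.S6659

open Groth.Agent.Lib.Helper17.SerreLoc CategoryTheory.Pretriangulated ZeroObject

section General

variable {A B : Type (u + 2)} [Category.{u + 1} A] [Category.{u + 1} B] [Abelian A] [Abelian B]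
  (F : A ⥤ B) [F.Additive] [PreservesFiniteLimits F] [PreservesFiniteColimits F]

/-- homology commutes with the functor induced by an exact functor (object-wise) -/
lemma nonempty_homology_iso (K : DerivedCategory A) (n : ℤ) :
    Nonempty ((DerivedCategory.homologyFunctor B n).obj (F.mapDerivedCategory.obj K) ≅
      F.obj ((DerivedCategory.homologyFunctor A n).obj K)) := by
  let e := DerivedCategory.Q.objObjPreimageIso K
  exact ⟨(DerivedCategory.homologyFunctor B n).mapIso (F.mapDerivedCategory.mapIso e.symm) ≪≫
    homologyMapDerivedCategoryIso F _ n ≪≫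
    F.mapIso ((DerivedCategory.homologyFunctor A n).mapIso e)⟩

end General

section Main

variable {Z X U : Scheme.{u}} (i : Z ⟶ X)

/-- the derived adjunction `i⁻¹ ⊣ i_*` -/
noncomputable def adjD [PreservesFiniteColimits (EtCoh.push i)] :
    (EtCoh.pull i).mapDerivedCategory ⊣ (EtCoh.push i).mapDerivedCategory :=
  letI : CatCommSq ((EtCoh.pull i).mapHomologicalComplex (ComplexShape.up ℤ)) DerivedCategory.Q
      DerivedCategory.Q (EtCoh.pull i).mapDerivedCategory :=
    ⟨(EtCoh.pull i).mapDerivedCategoryFactors.symm⟩
  letI : CatCommSq ((EtCoh.push i).mapHomologicalComplex (ComplexShape.up ℤ)) DerivedCategory.Q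
      DerivedCategory.Q (EtCoh.push i).mapDerivedCategory :=
    ⟨(EtCoh.push i).mapDerivedCategoryFactors.symm⟩
  (adjHC (EtCoh.pullPushAdj i) (ComplexShape.up ℤ)).localization
    DerivedCategory.Q (HomologicalComplex.quasiIso _ (ComplexShape.up ℤ))
    DerivedCategory.Q (HomologicalComplex.quasiIso _ (ComplexShape.up ℤ))
    (EtCoh.pull i).mapDerivedCategory (EtCoh.push i).mapDerivedCategory

lemma isIso_counitHC [IsClosedImmersion i] (C : CochainComplex (EtCoh.Ab Z) ℤ) :
    IsIso ((adjHC (EtCoh.pullPushAdj i) (ComplexShape.up ℤ)).counit.app C) := by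
  have : ∀ k, IsIso (((adjHC (EtCoh.pullPushAdj i) (ComplexShape.up ℤ)).counit.app C).f k) := by
    intro k
    change IsIso ((EtCoh.pullPushAdj i).counit.app (C.X k))
    infer_instance
  exact HomologicalComplex.Hom.isIso_of_components _

lemma isIso_counit_Q [IsClosedImmersion i] [PreservesFiniteColimits (EtCoh.push i)]
    (C : CochainComplex (EtCoh.Ab Z) ℤ) :
    IsIso ((adjD i).counit.app (DerivedCategory.Q.obj C)) := by
  have := isIso_counitHC i C
  unfold adjD
  rw [Adjunction.localization_counit_app]
  infer_instance

instance isIso_counit_D [IsClosedImmersion i] [PreservesFiniteColimits (EtCoh.push i)] :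
    IsIso (adjD i).counit := by
  have : ∀ M, IsIso ((adjD i).counit.app M) := by
    intro M
    let e := DerivedCategory.Q.objObjPreimageIso M
    have h1 := isIso_counit_Q i (DerivedCategory.Q.objPreimage M)
    have nat := (adjD i).counit.naturality e.hom
    have h2 : (adjD i).counit.app M = inv (((EtCoh.push i).mapDerivedCategory ⋙
        (EtCoh.pull i).mapDerivedCategory).map e.hom) ≫
        (adjD i).counit.app (DerivedCategory.Q.obj (DerivedCategory.Q.objPreimage M)) ≫ e.hom := by
      rw [IsIso.eq_inv_comp]
      exact nat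
    rw [h2]
    infer_instance
  exact NatIso.isIso_of_isIso_app _

/-- an abelian sheaf with zero restrictions to `Z` and `U` is zero -/
lemma isZero_of_pulls [IsClosedImmersion i] (j : U ⟶ X) [IsOpenImmersion j]
    (hZU : Set.range j.base = (Set.range i.base)ᶜ) (F : EtCoh.Ab X)
    (hi : IsZero ((EtCoh.pull i).obj F)) (hj : IsZero ((EtCoh.pull j).obj F)) : IsZero F := by
  have h0 : IsIso (0 : F ⟶ 0) := by
    apply Groth.Agent.S14449.isIso_of_pull i j hZU
    · exact ⟨⟨0, hi.eq_of_src _ _, ((EtCoh.pull i).map_isZero (isZero_zero _)).eq_of_src _ _⟩⟩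
    · exact ⟨⟨0, hj.eq_of_src _ _, ((EtCoh.pull j).map_isZero (isZero_zero _)).eq_of_src _ _⟩⟩
  exact IsZero.of_iso (isZero_zero _) (asIso (0 : F ⟶ 0))

end Main

/-- Let i : Z → X be a closed immersion of schemes with open complement j : U → X. The direct image i_*
of abelian etale sheaves is exact (its right exactness is carried as an instance hypothesis), and
the induced functor D(Z_et) → D(X_et) is fully faithful; an object K of D(X_et) lies in its
essential image if and only if every cohomology sheaf of K has zero restriction to U, i.e. K has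
cohomology sheaves supported on Z. (The identification of the quasi-inverse with the derived functor
of sections supported on Z is not part of this row.) -/
theorem result {Z X U : Scheme.{u}} (i : Z ⟶ X)
    [IsClosedImmersion i] (j : U ⟶ X) [IsOpenImmersion j] (hZU : Set.range j = (Set.range i)ᶜ)
    [PreservesFiniteColimits (EtCoh.push i)] :
    ((EtCoh.push i).mapDerivedCategory.Full ∧ (EtCoh.push i).mapDerivedCategory.Faithful) ∧
      ∀ K : DCoh.DEt X,
        (EtCoh.push i).mapDerivedCategory.essImage K ↔
          ∀ n : ℤ, IsZero ((EtCoh.pull j).obj (DCoh.HDEt K n)) := by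
  have hZU' : Set.range j.base = (Set.range i.base)ᶜ := hZU
  have ff := (adjD i).fullyFaithfulROfIsIsoCounit
  refine ⟨⟨ff.full, ff.faithful⟩, fun K => ⟨?_, ?_⟩⟩
  · rintro ⟨M, ⟨e⟩⟩ n
    obtain ⟨e1⟩ := nonempty_homology_iso (EtCoh.push i) M n
    have e2 := (DerivedCategory.homologyFunctor (EtCoh.Ab X) n).mapIso e
    exact IsZero.of_iso (Groth.Agent.S14449.isZero_pull_push i j hZU' _)
      ((EtCoh.pull j).mapIso (e2.symm ≪≫ e1))
  · intro hK
    let L := (EtCoh.pull i).mapDerivedCategory
    let R := (EtCoh.push i).mapDerivedCategory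
    let J := (EtCoh.pull j).mapDerivedCategory
    let η := (adjD i).unit.app K
    obtain ⟨C, g, h, hT⟩ := distinguished_cocone_triangle η
    -- `L η` is an isomorphism
    have hLη : IsIso (L.map η) := by
      have tri := (adjD i).left_triangle_components K
      have h3 : IsIso (L.map η ≫ (adjD i).counit.app (L.obj K)) := by
        rw [tri]; exact IsIso.id _
      exact IsIso.of_isIso_comp_right _ ((adjD i).counit.app (L.obj K))
    have hLC : IsZero (L.obj C) :=
      (Triangle.isZero₃_iff_isIso₁ _ (L.map_distinguished _ hT)).mpr hLη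
    -- `J K` and `J R L K` vanish
    have hJK : IsZero (J.obj K) := by
      rw [isZero_iff_homology]
      intro n
      obtain ⟨e1⟩ := nonempty_homology_iso (EtCoh.pull j) K n
      exact IsZero.of_iso (hK n) e1
    have hJR : IsZero (J.obj (R.obj (L.obj K))) := by
      rw [isZero_iff_homology]
      intro n
      obtain ⟨e1⟩ := nonempty_homology_iso (EtCoh.pull j) (R.obj (L.obj K)) n
      obtain ⟨e2⟩ := nonempty_homology_iso (EtCoh.push i) (L.obj K) n
      exact IsZero.of_iso (Groth.Agent.S14449.isZero_pull_push i j hZU' _)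
        (e1 ≪≫ (EtCoh.pull j).mapIso e2)
    have hJC : IsZero (J.obj C) :=
      Triangle.isZero₃_of_isZero₁₂ _ (J.map_distinguished _ hT) hJK hJR
    -- hence `C` vanishes
    have hC : IsZero C := by
      rw [isZero_iff_homology]
      intro n
      apply isZero_of_pulls i j hZU'
      · obtain ⟨e1⟩ := nonempty_homology_iso (EtCoh.pull i) C n
        exact IsZero.of_iso ((DerivedCategory.homologyFunctor _ n).map_isZero hLC) e1.symm
      · obtain ⟨e1⟩ := nonempty_homology_iso (EtCoh.pull j) C n
        exact IsZero.of_iso ((DerivedCategory.homologyFunctor _ n).map_isZero hJC) e1.symm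
    have hη : IsIso η := (Triangle.isZero₃_iff_isIso₁ _ hT).mp hC
    exact (adjD i).mem_essImage_of_unit_isIso K

end Groth.Agent.S6659
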