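import Groth.Statements.S6718
import Mathlib

set_option autoImplicit false
set_option linter.unusedSectionVars false
set_option linter.unusedVariables false
universe w v u
open CategoryTheory
open DEquiv

namespace Groth.Agent.S6718

section Lemmas

variable {k : Type w} [Field k] {T : Type u} [Category.{v} T] [Preadditive T] [Linear k T]
  [∀ X Y : T, Module.Finite k (X ⟶ Y)]

/-- The transpose of a perfect pairing given as a linear equivalence onto a dual. -/
noncomputable def transposeEquiv {M N : Type v} [AddCommGroup M] [Module k M] [AddCommGroup N]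
    [Module k N] [Module.Finite k N] (c : M ≃ₗ[k] Module.Dual k N) : N ≃ₗ[k] Module.Dual k M :=
  (Module.evalEquiv k N).trans c.dualMap

lemma transposeEquiv_apply {M N : Type v} [AddCommGroup M] [Module k M] [AddCommGroup N]
    [Module k N] [Module.Finite k N] (c : M ≃ₗ[k] Module.Dual k N) (n : N) (m : M) :
    transposeEquiv c n m = c m n := rfl

/-- Data of a "right Serre object" for `X`. -/
structure RightRep (X : T) where
  SX : T
  e : ∀ Y : T, (Y ⟶ SX) ≃ₗ[k] Module.Dual k (X ⟶ Y)
  nat : ∀ (Y Y' : T) (g : Y' ⟶ Y) (f : Y ⟶ SX),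
          e Y' (g ≫ f) = (e Y f) ∘ₗ Linear.rightComp k X g

namespace RightRep

variable {X : T} (r : RightRep (k := k) X)

/-- The trace form. -/
noncomputable def tr : Module.Dual k (X ⟶ r.SX) := r.e r.SX (𝟙 r.SX)

lemma e_apply (Y : T) (f : Y ⟶ r.SX) (h : X ⟶ Y) : r.e Y f h = r.tr (h ≫ f) := by
  have := r.nat r.SX Y f (𝟙 _)
  rw [Category.comp_id] at this
  rw [this]
  rfl

lemma ext_of_tr {Y : T} {f g : Y ⟶ r.SX} (h : ∀ a : X ⟶ Y, r.tr (a ≫ f) = r.tr (a ≫ g)) : f = g := by
  apply (r.e Y).injective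
  ext a
  rw [e_apply, e_apply, h]

lemma exists_of_functional {Y : T} (φ : Module.Dual k (X ⟶ Y)) :
    ∃ f : Y ⟶ r.SX, ∀ a : X ⟶ Y, r.tr (a ≫ f) = φ a := by
  refine ⟨(r.e Y).symm φ, fun a => ?_⟩
  rw [← e_apply, LinearEquiv.apply_symm_apply]

end RightRep

/-- Data of a "left Serre object" for `X`. -/
structure LeftRep (X : T) where
  RX : T
  e : ∀ Y : T, (RX ⟶ Y) ≃ₗ[k] Module.Dual k (Y ⟶ X)
  nat : ∀ (Y Y' : T) (g : Y ⟶ Y') (f : RX ⟶ Y),
          e Y' (f ≫ g) = (e Y f) ∘ₗ Linear.leftComp k X g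

section Functor

variable (r : ∀ X : T, RightRep (k := k) X)

lemma exists_map {X' X : T} (a : X' ⟶ X) :
    ∃ g : (r X').SX ⟶ (r X).SX, ∀ h : X ⟶ (r X').SX, (r X).tr (h ≫ g) = (r X').tr (a ≫ h) :=
  (r X).exists_of_functional ((r X').tr ∘ₗ Linear.leftComp k (r X').SX a)

/-- The action of the Serre functor on morphisms. -/
noncomputable def serreMap {X' X : T} (a : X' ⟶ X) : (r X').SX ⟶ (r X).SX :=
  (exists_map r a).choose

lemma serreMap_spec {X' X : T} (a : X' ⟶ X) (h : X ⟶ (r X').SX) :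
    (r X).tr (h ≫ serreMap r a) = (r X').tr (a ≫ h) :=
  (exists_map r a).choose_spec h

lemma serreMap_spec' {X' X Y : T} (a : X' ⟶ X) (f : X ⟶ Y) (h : Y ⟶ (r X').SX) :
    (r X).tr (f ≫ h ≫ serreMap r a) = (r X').tr (a ≫ f ≫ h) := by
  rw [← Category.assoc, serreMap_spec]

lemma serreMap_id (X : T) : serreMap r (𝟙 X) = 𝟙 _ := by
  apply (r X).ext_of_tr
  intro h
  rw [serreMap_spec, Category.id_comp, Category.comp_id]

lemma serreMap_comp {X'' X' X : T} (a : X'' ⟶ X') (b : X' ⟶ X) :
    serreMap r (a ≫ b) = serreMap r a ≫ serreMap r b := by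
  apply (r X).ext_of_tr
  intro h
  rw [serreMap_spec, ← Category.assoc h, serreMap_spec, ← Category.assoc b, serreMap_spec,
    Category.assoc]

lemma serreMap_add {X' X : T} (a b : X' ⟶ X) :
    serreMap r (a + b) = serreMap r a + serreMap r b := by
  apply (r X).ext_of_tr
  intro h
  rw [serreMap_spec, Preadditive.comp_add, map_add, serreMap_spec, serreMap_spec,
    Preadditive.add_comp, map_add]

lemma serreMap_smul {X' X : T} (t : k) (a : X' ⟶ X) :
    serreMap r (t • a) = t • serreMap r a := by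
  apply (r X).ext_of_tr
  intro h
  rw [serreMap_spec, Linear.comp_smul, map_smul, serreMap_spec, Linear.smul_comp, map_smul]

/-- The Serre functor built from representing objects. -/
noncomputable def serreFunctor : T ⥤ T where
  obj X := (r X).SX
  map a := serreMap r a
  map_id X := serreMap_id r X
  map_comp a b := serreMap_comp r a b

instance : (serreFunctor r).Additive where
  map_add {X' X a b} := serreMap_add r a b

instance : (serreFunctor r).Linear k where
  map_smul {X' X} a t := serreMap_smul r t a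

/-- The Serre pairing equivalence. -/
noncomputable def serreC (X Y : T) : (X ⟶ Y) ≃ₗ[k] Module.Dual k (Y ⟶ (r X).SX) :=
  transposeEquiv ((r X).e Y)

lemma serreC_apply (X Y : T) (h : X ⟶ Y) (f : Y ⟶ (r X).SX) :
    serreC r X Y h f = (r X).tr (h ≫ f) := by
  change (r X).e Y f h = _
  rw [RightRep.e_apply]

lemma serreC_nat1 (X Y Y' : T) (f : X ⟶ Y) (g : Y ⟶ Y') (h : Y' ⟶ (r X).SX) :
    serreC r X Y' (f ≫ g) h = serreC r X Y f (g ≫ h) := by
  rw [serreC_apply, serreC_apply, Category.assoc]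

lemma serreC_nat2 (X' X Y : T) (a : X' ⟶ X) (f : X ⟶ Y) (h : Y ⟶ (r X').SX) :
    serreC r X' Y (a ≫ f) h = serreC r X Y f (h ≫ serreMap r a) := by
  rw [serreC_apply, serreC_apply, serreMap_spec', Category.assoc]

lemma serreMap_injective {X' X : T} (a b : X' ⟶ X) (hab : serreMap r a = serreMap r b) : a = b := by
  apply (serreC r X' X).injective
  ext h
  rw [serreC_apply, serreC_apply]
  have h1 := serreMap_spec r a h
  have h2 := serreMap_spec r b h
  rw [← h1, ← h2, hab]

lemma serreMap_surjective {X' X : T} (g : (r X').SX ⟶ (r X).SX) : ∃ a, serreMap r a = g := by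
  let φ : Module.Dual k (X ⟶ (r X').SX) := (r X).tr ∘ₗ Linear.rightComp k X g
  refine ⟨(serreC r X' X).symm φ, ?_⟩
  apply (r X).ext_of_tr
  intro h
  rw [serreMap_spec, ← serreC_apply, LinearEquiv.apply_symm_apply]
  rfl

instance : (serreFunctor r).Faithful where
  map_injective {X' X a b} hab := serreMap_injective r a b hab

instance : (serreFunctor r).Full where
  map_surjective {X' X} g := serreMap_surjective r g

variable (l : ∀ X : T, LeftRep (k := k) X)

/-- The comparison `(Y ⟶ X) ≃ (Y ⟶ S (R X))`. -/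
noncomputable def compEquiv (X Y : T) : (Y ⟶ X) ≃ₗ[k] (Y ⟶ (r (l X).RX).SX) :=
  (transposeEquiv ((l X).e Y)).trans ((r (l X).RX).e Y).symm

lemma compEquiv_nat (X Y Y' : T) (g : Y' ⟶ Y) (h : Y ⟶ X) :
    compEquiv r l X Y' (g ≫ h) = g ≫ compEquiv r l X Y h := by
  apply ((r (l X).RX).e Y').injective
  ext f
  rw [(r (l X).RX).nat Y Y' g]
  simp only [compEquiv, LinearEquiv.trans_apply, LinearEquiv.apply_symm_apply,
    transposeEquiv_apply, LinearMap.coe_comp, Function.comp_apply, Linear.rightComp_apply]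
  rw [(l X).nat Y' Y g f]
  rfl

lemma compEquiv_eq (X Y : T) (h : Y ⟶ X) :
    compEquiv r l X Y h = h ≫ compEquiv r l X X (𝟙 X) := by
  rw [← compEquiv_nat, Category.comp_id]

/-- `S (R X) ≅ X`. -/
noncomputable def serreObjIso (X : T) : (r (l X).RX).SX ≅ X where
  hom := (compEquiv r l X _).symm (𝟙 _)
  inv := compEquiv r l X X (𝟙 X)
  hom_inv_id := by
    rw [← compEquiv_eq, LinearEquiv.apply_symm_apply]
  inv_hom_id := by
    apply (compEquiv r l X X).injective
    rw [compEquiv_eq, Category.assoc, ← compEquiv_eq r l X _ ((compEquiv r l X _).symm (𝟙 _)),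
      LinearEquiv.apply_symm_apply, Category.comp_id]

include l in
lemma serreFunctor_essSurj : (serreFunctor r).EssSurj where
  mem_essImage X := ⟨(l X).RX, ⟨serreObjIso r l X⟩⟩

include l in
lemma serreFunctor_isEquivalence : (serreFunctor r).IsEquivalence := by
  have := serreFunctor_essSurj r l
  exact { }

end Functor

end Lemmas

open CategoryTheory.Limits CategoryTheory.Pretriangulated in
theorem result
    {k : Type w} [Field k]
    {T : Type u} [Category.{v} T] [Preadditive T] [Linear k T] [HasZeroObject T] [HasShift T ℤ]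
    [∀ n : ℤ, (shiftFunctor T n).Additive] [∀ n : ℤ, (shiftFunctor T n).Linear k] [Pretriangulated T]
    [∀ X Y : T, Module.Finite k (X ⟶ Y)] :
    (∃ (S : T ≌ T) (_ : S.functor.Additive) (_ : S.functor.Linear k)
        (c : ∀ X Y : T, (X ⟶ Y) ≃ₗ[k] Module.Dual k (Y ⟶ S.functor.obj X)),
        (∀ (X Y Y' : T) (f : X ⟶ Y) (g : Y ⟶ Y'),
          c X Y' (f ≫ g) = (c X Y f) ∘ₗ Linear.leftComp k (S.functor.obj X) g) ∧
        (∀ (X' X Y : T) (a : X' ⟶ X) (f : X ⟶ Y),
          c X' Y (a ≫ f) = (c X Y f) ∘ₗ Linear.rightComp k Y (S.functor.map a))) ↔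
    ((∀ X : T, ∃ (SX : T) (e : ∀ Y : T, (Y ⟶ SX) ≃ₗ[k] Module.Dual k (X ⟶ Y)),
        ∀ (Y Y' : T) (g : Y' ⟶ Y) (f : Y ⟶ SX),
          e Y' (g ≫ f) = (e Y f) ∘ₗ Linear.rightComp k X g) ∧
      (∀ X : T, ∃ (RX : T) (e : ∀ Y : T, (RX ⟶ Y) ≃ₗ[k] Module.Dual k (Y ⟶ X)),
        ∀ (Y Y' : T) (g : Y ⟶ Y') (f : RX ⟶ Y),
          e Y' (f ≫ g) = (e Y f) ∘ₗ Linear.leftComp k X g)) := by
  constructor
  · rintro ⟨S, _, _, c, hc1, hc2⟩
    refine ⟨fun X => ?_, fun X => ?_⟩
    · refine ⟨S.functor.obj X, fun Y => transposeEquiv (c X Y), ?_⟩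
      intro Y Y' g f
      ext h
      simp only [transposeEquiv_apply, LinearMap.coe_comp, Function.comp_apply,
        Linear.rightComp_apply]
      rw [hc1 X Y' Y h g]
      rfl
    · refine ⟨S.inverse.obj X, fun Y => (c (S.inverse.obj X) Y).trans
        (LinearEquiv.dualMap (Linear.homCongr k (Iso.refl Y) (S.counitIso.app X).symm)), ?_⟩
      intro Y Y' g f
      ext h
      simp only [LinearEquiv.trans_apply, LinearEquiv.dualMap_apply, LinearMap.coe_comp,
        Function.comp_apply, Linear.leftComp_apply]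
      rw [hc1 (S.inverse.obj X) Y Y' f g]
      simp [Linear.homCongr_apply]
  · rintro ⟨hR, hL⟩
    choose SX e he using hR
    choose RX e' he' using hL
    let r : ∀ X : T, RightRep (k := k) X := fun X => ⟨SX X, e X, he X⟩
    let l : ∀ X : T, LeftRep (k := k) X := fun X => ⟨RX X, e' X, he' X⟩
    have := serreFunctor_isEquivalence r l
    refine ⟨(serreFunctor r).asEquivalence, (inferInstance : (serreFunctor r).Additive),
      (inferInstance : (serreFunctor r).Linear k), serreC r, ?_, ?_⟩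
    · intro X Y Y' f g
      exact LinearMap.ext fun h => serreC_nat1 r X Y Y' f g h
    · intro X' X Y a f
      exact LinearMap.ext fun h => serreC_nat2 r X' X Y a f h

end Groth.Agent.S6718
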