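import Groth.Statements.S6813
import Groth.Agent.Lib.Helper10FinStrArr
-- import your own Groth.Agent.* helpers here

set_option autoImplicit false
open CategoryTheory CategoryTheory.Limits
universe v u
open CategoryTheory CategoryTheory.SimplicialObject

namespace Groth.Agent.S6813

/-- For `k ≥ 1` the forgetful functor from the over category `C/X` to `C` (with `C` having finite
limits) commutes with `cosk_k`; stated as: a `k`-coskeletal simplicial object of `C/X` has
`k`-coskeletal underlying simplicial object in `C`. -/
theorem result {C : Type u} [Category.{v} C] [HasFiniteLimits C] (X : C) (k : ℕ) (hk : 1 ≤ k) (V : SimplicialObject (Over X)) [V.IsCoskeletal k] : SimplicialObject.IsCoskeletal (V ⋙ Over.forget X) k := by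
  have : NeZero k := ⟨by omega⟩
  have hpw : ∀ F : (SimplexCategory.Truncated k)ᵒᵖ ⥤ Over X,
      (SimplexCategory.Truncated.inclusion k).op.HasPointwiseRightKanExtension F :=
    Groth.Agent.Lib.Helper10.FinStrArr.hasPointwiseRightKanExtension k
  -- the Kan extension `V` is pointwise
  have hV : (Functor.RightExtension.mk V (𝟙 ((SimplexCategory.Truncated.inclusion k).op ⋙ V))).IsPointwiseRightKanExtension :=
    Functor.isPointwiseRightKanExtensionOfIsRightKanExtension V (𝟙 _)
  -- the forgetful functor preserves the relevant limits
  have : ∀ c, (Over.forget X).PreservesPointwiseRightKanExtensionAt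
      ((SimplexCategory.Truncated.inclusion k).op ⋙ V) (SimplexCategory.Truncated.inclusion k).op c := by
    intro c
    have : IsConnected (StructuredArrow c (SimplexCategory.Truncated.inclusion k).op) :=
      Functor.Final.out c
    infer_instance
  have h2 := hV.postcompose (Over.forget X)
  constructor
  have h3 := h2.isRightKanExtension
  have h4 : CostructuredArrow.hom
      ((Functor.RightExtension.postcompose₂ (SimplexCategory.Truncated.inclusion k).op
            ((SimplexCategory.Truncated.inclusion k).op ⋙ V) (Over.forget X)).obj
        (Functor.RightExtension.mk V (𝟙 ((SimplexCategory.Truncated.inclusion k).op ⋙ V)))) =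
      𝟙 ((SimplexCategory.Truncated.inclusion k).op ⋙ V ⋙ Over.forget X) := by
    ext c
    simp
  rw [h4] at h3
  exact h3

end Groth.Agent.S6813
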