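import Groth.Statements.S6831
import Groth.Agent.Lib.Seat93RSpFT
import Groth.Agent.Lib.Seat93RSpPt
import Groth.Agent.Lib.Seat93RSpRestr

set_option autoImplicit false
universe u
open CategoryTheory CategoryTheory.Limits TopologicalSpace
open ModSite

namespace Groth.Agent.S6831

open Groth.Agent.Lib.Helper1.StalkTensor Groth.Agent.Lib.Seat93.RSpBase
  Groth.Agent.Lib.Seat93.RSpGen Groth.Agent.Lib.Seat93.RSpFT Groth.Agent.Lib.Seat93.RSpPt
  Groth.Agent.Lib.Seat93.RSpRestr Opposite

/-- Let (X, O) be a ringed space, φ : G → F a map of O-modules with F of finite type, and x a point such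
that the map of stalks φ_x : G_x → F_x is surjective (stalks are taken at the point of the site of
opens of X given by x). Then φ|_U is surjective for some open neighbourhood U of x. -/
theorem result {X : TopCat.{u}} (O : TopCat.Sheaf CommRingCat.{u} X)
    {G F : ModSite.Mod O} (φ : G ⟶ F) [SheafOfModules.IsFiniteType (R := ModSite.ringSh O) F] (x : X)
    (hx : Function.Surjective (ModSite.stalkMap (Opens.pointGrothendieckTopology x) φ).hom) :
    ∃ U : Opens X, x ∈ U ∧ Epi ((ModSite.restr O U).map φ) := by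
  -- surjectivity on the topological stalk
  have hsx : Function.Surjective (sm (toPMMap φ) x) := by
    intro c
    obtain ⟨c', rfl⟩ := (cmp_bijective x F).2 c
    obtain ⟨a, rfl⟩ := hx c'
    exact ⟨cmp x G a, (cmp_stalkMap x φ a).symm⟩
  obtain ⟨U₀, hxU₀, ι, hι, s, hs⟩ := (isFiniteType_iff F).1 inferInstance x
  have hl : ∀ i : ι, ∃ (W : Opens X) (hW : W ≤ U₀) (_ : x ∈ W) (g : sec G W),
      φ.val.app (op W) g = F.val.map (homOfLE hW).op (s i) := by
    intro i
    obtain ⟨a, ha⟩ := hsx (gm (toPM F) x U₀ hxU₀ (s i))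
    obtain ⟨V, hxV, g, rfl⟩ := exists_gm_eq a
    rw [sm_gm] at ha
    obtain ⟨W, hxW, iV, iU, e⟩ := gm_eq (P := toPM F) hxV hxU₀ _ _ ha
    refine ⟨W, iU.le, hxW, G.val.map iV.op g, ?_⟩
    have := PresheafOfModules.naturality_apply φ.val iV.op g
    exact this.trans e
  choose V hV hxV g hg using hl
  let W : Opens X := ⟨(⋂ j, (V j : Set X)) ∩ U₀,
    (isOpen_iInter_of_finite fun j => (V j).isOpen).inter U₀.isOpen⟩
  have hWV : ∀ j, W ≤ V j := fun j y hy => Set.mem_iInter.1 hy.1 j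
  have hWU₀ : W ≤ U₀ := fun y hy => hy.2
  have hxW : x ∈ W := ⟨Set.mem_iInter.2 hxV, hxU₀⟩
  refine ⟨W, hxW, epi_restr_of_sm_surjective φ W ?_⟩
  intro y hy
  have hrange : LinearMap.range (smₗ (toPMMap φ) y) = ⊤ := by
    rw [eq_top_iff, ← hs y (hWU₀ hy), Submodule.span_le]
    rintro _ ⟨i, rfl⟩
    refine ⟨gm (toPM G) y (V i) (hWV i hy) (g i), ?_⟩
    rw [smₗ_apply, sm_gm]
    erw [hg i]
    exact gm_rs (P := toPM F) (homOfLE (hV i)) (hWV i hy) (s i)
  intro c
  have : c ∈ LinearMap.range (smₗ (toPMMap φ) y) := by rw [hrange]; trivial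
  obtain ⟨a, ha⟩ := this
  exact ⟨a, ha⟩

end Groth.Agent.S6831
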