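import Groth.Statements.S6832
import Groth.Agent.Lib.Seat93RSpFP3
import Groth.Agent.Lib.Seat93SyzAlg

set_option autoImplicit false
universe u
open CategoryTheory CategoryTheory.Limits TopologicalSpace
open ModSite

namespace Groth.Agent.S6832

open Groth.Agent.Lib.Helper1.StalkTensor Groth.Agent.Lib.Seat93.RSpBase
  Groth.Agent.Lib.Seat93.RSpGen Groth.Agent.Lib.Seat93.RSpFT Groth.Agent.Lib.Seat93.RSpFP
  Groth.Agent.Lib.Seat93.SyzAlg Opposite

set_option backward.isDefEq.respectTransparency.types false in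
/-- On a ringed space (X, O), if θ : G → F is a surjective map of O-modules with G of finite type and F
of finite presentation, then Ker(θ) is of finite type. (Part (1) of the source is the case G = O^r.) -/
theorem result {X : TopCat.{u}} (O : TopCat.Sheaf CommRingCat.{u} X)
    {G F : ModSite.Mod O} (θ : G ⟶ F) [Epi θ] [SheafOfModules.IsFiniteType (R := ModSite.ringSh O) G]
    [SheafOfModules.IsFinitePresentation (R := ModSite.ringSh O) F] : SheafOfModules.IsFiniteType (R := ModSite.ringSh O) (kernel θ) := by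
  classical
  rw [isFiniteType_iff]
  intro x
  obtain ⟨UF, hxF, ⟨D⟩⟩ := exists_fpData F x
  obtain ⟨UG, hxG, τ, hτ, t, ht⟩ := (isFiniteType_iff G).1 inferInstance x
  letI : Fintype τ := Fintype.ofFinite τ
  -- lifts `g i` of the generators `s i`
  have hl : ∀ i : D.ι, ∃ (W : Opens X) (hW : W ≤ UF) (_ : x ∈ W) (g : sec G W),
      θ.val.app (op W) g = resS F hW (D.s i) :=
    fun i => exists_app_eq_of_epi θ UF (D.s i) x hxF
  choose Wg hWg hxWg g hg using hl
  -- `θ (t j)` is locally a combination of the `s i`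
  have hc : ∀ j : τ, ∃ (W : Opens X) (hWU : W ≤ UF) (hWV : W ≤ UG) (_ : x ∈ W)
      (a : D.ι → O.presheaf.obj (op W)),
      resS F hWV (θ.val.app (op UG) (t j)) = ∑ i, a i • resS F hWU (D.s i) := by
    intro j
    have hmem : gm (toPM F) x UG hxG (θ.val.app (op UG) (t j)) ∈
        Submodule.span (Ox O x) (Set.range fun i => gm (toPM F) x UF hxF (D.s i)) := by
      rw [D.span x hxF]; trivial
    obtain ⟨c, hc⟩ := (Submodule.mem_span_range_iff_exists_fun _).1 hmem
    obtain ⟨W, hWU, hWV, hxW, a, -, ha⟩ :=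
      exists_rep_comb F D.s (θ.val.app (op UG) (t j)) x hxF hxG c hc.symm
    exact ⟨W, hWU, hWV, hxW, a, ha⟩
  choose Wa hWaF hWaG hxWa a ha using hc
  -- a common neighbourhood
  let W : Opens X := ⟨(((⋂ i, (Wg i : Set X)) ∩ (⋂ j, (Wa j : Set X))) ∩ UF) ∩ UG,
    (((isOpen_iInter_of_finite fun i => (Wg i).isOpen).inter
      (isOpen_iInter_of_finite fun j => (Wa j).isOpen)).inter UF.isOpen).inter UG.isOpen⟩
  have hWg' : ∀ i, W ≤ Wg i := fun i y hy => Set.mem_iInter.1 hy.1.1.1 i
  have hWa' : ∀ j, W ≤ Wa j := fun j y hy => Set.mem_iInter.1 hy.1.1.2 j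
  have hWF : W ≤ UF := fun y hy => hy.1.2
  have hWG : W ≤ UG := fun y hy => hy.2
  have hxW : x ∈ W := ⟨⟨⟨Set.mem_iInter.2 hxWg, Set.mem_iInter.2 hxWa⟩, hxF⟩, hxG⟩
  -- the sections of `G` over `W` generating the kernel
  let gW : D.ι → sec G W := fun i => resS G (hWg' i) (g i)
  let z : τ → sec G W := fun j => resS G hWG (t j) - ∑ i, resR (hWa' j) (a j i) • gW i
  let w : D.κ → sec G W := fun k => ∑ i, resR hWF (D.r k i) • gW i
  have hgW : ∀ i, θ.val.app (op W) (gW i) = resS F hWF (D.s i) := by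
    intro i
    rw [app_resS, hg i, resS_resS]
  have hz : ∀ j, θ.val.app (op W) (z j) = 0 := by
    intro j
    rw [app_sub, app_sum, app_resS]
    have h1 : resS F hWG (θ.val.app (op UG) (t j)) =
        ∑ i, resR (hWa' j) (a j i) • resS F hWF (D.s i) := by
      have := congrArg (resS F (hWa' j)) (ha j)
      rw [resS_resS, resS_sum] at this
      rw [this]
      refine Finset.sum_congr rfl (fun i _ => ?_)
      rw [resS_smul, resS_resS]
    rw [h1, sub_eq_zero]
    refine Finset.sum_congr rfl (fun i _ => ?_)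
    rw [app_smul, hgW]
  have hw : ∀ k, θ.val.app (op W) (w k) = 0 := by
    intro k
    rw [app_sum]
    have h1 := congrArg (resS F hWF) (D.rel k)
    rw [resS_sum, resS_zero] at h1
    rw [← h1]
    refine Finset.sum_congr rfl (fun i _ => ?_)
    rw [app_smul, hgW, resS_smul]
  -- lift to the kernel
  let S : ShortComplex (ModSite.Mod O) := ShortComplex.mk (kernel.ι θ) θ (kernel.condition θ)
  have hS : S.Exact := S.exact_of_f_is_kernel (kernelIsKernel θ)
  haveI : Mono S.f := inferInstanceAs (Mono (kernel.ι θ))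
  have hz' : ∀ j, ∃ b : sec (kernel θ) W, (kernel.ι θ).val.app (op W) b = z j :=
    fun j => exact_sections S hS W (z j) (hz j)
  have hw' : ∀ k, ∃ b : sec (kernel θ) W, (kernel.ι θ).val.app (op W) b = w k :=
    fun k => exact_sections S hS W (w k) (hw k)
  choose z' hz' using hz'
  choose w' hw' using hw'
  refine ⟨W, hxW, τ ⊕ D.κ, inferInstance, Sum.elim z' w', ?_⟩
  intro y hy
  -- the algebra at the stalk `y`
  have hker := ker_le_span (A := Ox O y) (smₗ (toPMMap θ) y)
    (fun j => gm (toPM G) y UG (hWG hy) (t j)) (ht y (hWG hy))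
    (fun i => gm (toPM F) y UF (hWF hy) (D.s i))
    (fun i => gm (toPM G) y (Wg i) (hWg' i hy) (g i))
    (fun i => by
      rw [smₗ_apply, sm_gm]
      erw [hg i]
      exact gm_resS F (hWg i) (D.s i) y (hWg' i hy))
    (fun j i => gr O.presheaf y (Wa j) (hWa' j hy) (a j i))
    (fun j => by
      rw [smₗ_apply, sm_gm]
      have h1 := congrArg (gm (toPM F) y (Wa j) (hWa' j hy)) (ha j)
      rw [gm_resS, gm_sum_smul] at h1
      refine h1.trans ?_
      refine Finset.sum_congr rfl (fun i _ => ?_)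
      rw [gm_resS])
    (fun k i => gr O.presheaf y UF (hWF hy) (D.r k i))
    (D.syz y (hWF hy))
  -- germs of `z j` and `w k`
  have hzg : ∀ j, gm (toPM G) y W hy (z j) =
      gm (toPM G) y UG (hWG hy) (t j) - ∑ i, gr O.presheaf y (Wa j) (hWa' j hy) (a j i) •
        gm (toPM G) y (Wg i) (hWg' i hy) (g i) := by
    intro j
    rw [gm_sub, gm_resS, gm_sum_smul]
    congr 1
    refine Finset.sum_congr rfl (fun i _ => ?_)
    rw [gr_resR, gm_resS]
  have hwg : ∀ k, gm (toPM G) y W hy (w k) =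
      ∑ i, gr O.presheaf y UF (hWF hy) (D.r k i) • gm (toPM G) y (Wg i) (hWg' i hy) (g i) := by
    intro k
    rw [gm_sum_smul]
    refine Finset.sum_congr rfl (fun i _ => ?_)
    rw [gr_resR, gm_resS]
  -- conclude by injectivity of the stalk of `kernel.ι θ`
  have hinj := sm_injective_of_mono (kernel.ι θ) y
  rw [eq_top_iff]
  intro b _
  have hb : smₗ (toPMMap (kernel.ι θ)) y b ∈ LinearMap.ker (smₗ (toPMMap θ) y) := by
    rw [LinearMap.mem_ker, smₗ_apply, smₗ_apply, ← sm_comp']
    have h0 : toPMMap (kernel.ι θ) ≫ toPMMap θ = 0 := by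
      have := congrArg (fun f => f.val) (kernel.condition θ)
      exact this
    rw [h0]
    obtain ⟨V, hyV, m, rfl⟩ := exists_gm_eq b
    rw [sm_gm]
    exact map_zero _
  have hb' := hker hb
  set N := Submodule.span (Ox O y) (Set.range fun k => gm (toPM (kernel θ)) y W hy (Sum.elim z' w' k)) with hN
  have himage : Submodule.span (Ox O y) (Set.range (Sum.elim
      (fun j => gm (toPM G) y UG (hWG hy) (t j) - ∑ i, gr O.presheaf y (Wa j) (hWa' j hy) (a j i) •
        gm (toPM G) y (Wg i) (hWg' i hy) (g i))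
      (fun k => ∑ i, gr O.presheaf y UF (hWF hy) (D.r k i) • gm (toPM G) y (Wg i) (hWg' i hy) (g i)))) ≤
      N.map (smₗ (toPMMap (kernel.ι θ)) y) := by
    rw [Submodule.span_le]
    rintro _ ⟨k, rfl⟩
    refine ⟨gm (toPM (kernel θ)) y W hy (Sum.elim z' w' k), Submodule.subset_span ⟨k, rfl⟩, ?_⟩
    rw [smₗ_apply, sm_gm]
    rcases k with j | k
    · erw [hz' j]
      exact hzg j
    · erw [hw' k]
      exact hwg k
  obtain ⟨b', hb'N, hb'e⟩ := himage hb'
  rw [smₗ_apply, smₗ_apply] at hb'e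
  have : b' = b := hinj hb'e
  rw [← this]
  exact hb'N

end Groth.Agent.S6832
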