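import Groth.Statements.S6833
import Groth.Agent.Lib.Seat93RSpFP3
import Groth.Agent.Lib.Seat93RSpFP5
import Groth.Agent.Lib.Seat93SyzAlg

set_option autoImplicit false
universe u
open CategoryTheory CategoryTheory.Limits TopologicalSpace
open ModSite

namespace Groth.Agent.S6833

open Groth.Agent.Lib.Helper1.StalkTensor Groth.Agent.Lib.Seat93.RSpBase
  Groth.Agent.Lib.Seat93.RSpGen Groth.Agent.Lib.Seat93.RSpFT Groth.Agent.Lib.Seat93.RSpFP
  Groth.Agent.Lib.Seat93.SyzAlg Opposite

variable {X : TopCat.{u}} {O : TopCat.Sheaf CommRingCat.{u} X}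

set_option backward.isDefEq.respectTransparency.types false in
/-- exactness of stalks at the middle of `G ⟶ F ⟶ coker` -/
theorem ker_sm_cokernel_le {G F : ModSite.Mod O} (φ : G ⟶ F) (y : X) :
    LinearMap.ker (smₗ (toPMMap (cokernel.π φ)) y) ≤ LinearMap.range (smₗ (toPMMap φ) y) := by
  intro a ha
  rw [LinearMap.mem_ker, smₗ_apply] at ha
  let S : ShortComplex (ModSite.Mod O) :=
    ShortComplex.mk (kernel.ι (cokernel.π φ)) (cokernel.π φ) (kernel.condition _)
  have hS : S.Exact := S.exact_of_f_is_kernel (kernelIsKernel _)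
  have : Mono S.f := inferInstanceAs (Mono (kernel.ι (cokernel.π φ)))
  obtain ⟨b, hb⟩ := exact_stalk S hS y a ha
  have hepi : Epi (Abelian.factorThruImage φ) := inferInstance
  obtain ⟨c, hc⟩ := sm_surjective_of_epi (Abelian.factorThruImage φ) y b
  refine ⟨c, ?_⟩
  rw [smₗ_apply, ← hb, ← hc, ← sm_comp']
  have : toPMMap (Abelian.factorThruImage φ) ≫ toPMMap S.f = toPMMap φ := by
    have := congrArg (fun f => f.val) (Abelian.image.fac φ)
    exact this
  rw [this]

set_option backward.isDefEq.respectTransparency.types false in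
/-- On a ringed space (X, O), if φ : G → F is a map of O-modules with G of finite type and F of finite
presentation, then Coker(φ) is of finite presentation. -/
theorem result {X : TopCat.{u}} (O : TopCat.Sheaf CommRingCat.{u} X)
    {G F : ModSite.Mod O} (φ : G ⟶ F) [SheafOfModules.IsFiniteType (R := ModSite.ringSh O) G] [SheafOfModules.IsFinitePresentation (R := ModSite.ringSh O) F] :
    SheafOfModules.IsFinitePresentation (R := ModSite.ringSh O) (cokernel φ) := by
  classical
  apply isFinitePresentation_of_fpData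
  intro x
  obtain ⟨UF, hxF, ⟨D⟩⟩ := exists_fpData F x
  obtain ⟨UG, hxG, τ, hτ, t, ht⟩ := (isFiniteType_iff G).1 inferInstance x
  let _ : Fintype τ := Fintype.ofFinite τ
  -- `φ (t j)` is locally a combination of the `s i`
  have hc : ∀ j : τ, ∃ (W : Opens X) (hWU : W ≤ UF) (hWV : W ≤ UG) (_ : x ∈ W)
      (a : D.ι → O.presheaf.obj (op W)),
      resS F hWV (φ.val.app (op UG) (t j)) = ∑ i, a i • resS F hWU (D.s i) := by
    intro j
    have hmem : gm (toPM F) x UG hxG (φ.val.app (op UG) (t j)) ∈
        Submodule.span (Ox O x) (Set.range fun i => gm (toPM F) x UF hxF (D.s i)) := by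
      rw [D.span x hxF]; trivial
    obtain ⟨c, hc⟩ := (Submodule.mem_span_range_iff_exists_fun _).1 hmem
    obtain ⟨W, hWU, hWV, hxW, a, -, ha⟩ :=
      exists_rep_comb F D.s (φ.val.app (op UG) (t j)) x hxF hxG c hc.symm
    exact ⟨W, hWU, hWV, hxW, a, ha⟩
  choose Wa hWaF hWaG hxWa a ha using hc
  let W : Opens X := ⟨((⋂ j, (Wa j : Set X)) ∩ UF) ∩ UG,
    ((isOpen_iInter_of_finite fun j => (Wa j).isOpen).inter UF.isOpen).inter UG.isOpen⟩
  have hWa' : ∀ j, W ≤ Wa j := fun j y hy => Set.mem_iInter.1 hy.1.1 j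
  have hWF : W ≤ UF := fun y hy => hy.1.2
  have hWG : W ≤ UG := fun y hy => hy.2
  have hxW : x ∈ W := ⟨⟨Set.mem_iInter.2 hxWa, hxF⟩, hxG⟩
  let q := cokernel.π φ
  -- `φ (t j)` over `W`
  have haW : ∀ j, resS F hWG (φ.val.app (op UG) (t j)) =
      ∑ i, resR (hWa' j) (a j i) • resS F hWF (D.s i) := by
    intro j
    have := congrArg (resS F (hWa' j)) (ha j)
    rw [resS_resS, resS_sum] at this
    rw [this]
    refine Finset.sum_congr rfl (fun i _ => ?_)
    rw [resS_smul, resS_resS]
  have hqφ : ∀ (V : Opens X) (m : sec G V), q.val.app (op V) (φ.val.app (op V) m) = 0 := by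
    intro V m
    have := congrArg (fun f => f.val.app (op V) m) (cokernel.condition φ)
    exact this
  refine ⟨W, hxW, ⟨
    { ι := D.ι
      κ := D.κ ⊕ τ
      s := fun i => q.val.app (op W) (resS F hWF (D.s i))
      r := Sum.elim (fun k i => resR hWF (D.r k i)) (fun j i => resR (hWa' j) (a j i))
      rel := ?_
      span := ?_
      syz := ?_ }⟩⟩
  · rintro (k | j)
    · have h1 := congrArg (resS F hWF) (D.rel k)
      rw [resS_sum, resS_zero] at h1
      have h2 := congrArg (q.val.app (op W)) h1
      rw [app_sum, map_zero] at h2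
      refine Eq.trans ?_ h2
      refine Finset.sum_congr rfl (fun i _ => ?_)
      rw [resS_smul, app_smul]
      rfl
    · have h1 := congrArg (q.val.app (op W)) (haW j)
      rw [← app_resS, hqφ, app_sum] at h1
      refine Eq.trans ?_ h1.symm
      refine Finset.sum_congr rfl (fun i _ => ?_)
      rw [app_smul]
      rfl
  · intro y hy
    have hsurj := sm_surjective_of_epi q y
    set N := Submodule.span (Ox O y) (Set.range fun i => gm (toPM (cokernel φ)) y W hy
      (q.val.app (op W) (resS F hWF (D.s i)))) with hN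
    have hgen : ∀ i, sm (toPMMap q) y (gm (toPM F) y UF (hWF hy) (D.s i)) ∈ N := by
      intro i
      have e : gm (toPM (cokernel φ)) y W hy (q.val.app (op W) (resS F hWF (D.s i))) =
          sm (toPMMap q) y (gm (toPM F) y UF (hWF hy) (D.s i)) := by
        rw [← gm_resS F hWF (D.s i) y hy, sm_gm]
        rfl
      rw [← e]
      exact Submodule.subset_span ⟨i, rfl⟩
    have hall : ∀ a' : St (toPM F) y, sm (toPMMap q) y a' ∈ N := by
      intro a'
      have ha' : a' ∈ Submodule.span (Ox O y)
          (Set.range fun i => gm (toPM F) y UF (hWF hy) (D.s i)) := by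
        rw [D.span y (hWF hy)]; trivial
      induction ha' using Submodule.span_induction with
      | mem a' h => obtain ⟨i, rfl⟩ := h; exact hgen i
      | zero => rw [map_zero]; exact N.zero_mem
      | add a' b' _ _ h1 h2 => rw [map_add]; exact N.add_mem h1 h2
      | smul r a' _ h1 => rw [sm_smul]; exact N.smul_mem r h1
    rw [eq_top_iff]
    intro b _
    obtain ⟨a', rfl⟩ := hsurj b
    exact hall a'
  · intro y hy c hc
    have hsy := syz_coker (A := Ox O y) (smₗ (toPMMap φ) y) (smₗ (toPMMap q) y)
      (ker_sm_cokernel_le φ y)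
      (fun j => gm (toPM G) y UG (hWG hy) (t j)) (ht y (hWG hy))
      (fun i => gm (toPM F) y UF (hWF hy) (D.s i))
      (fun j i => gr O.presheaf y (Wa j) (hWa' j hy) (a j i))
      (fun j => by
        rw [smₗ_apply, sm_gm]
        have h1 := congrArg (gm (toPM F) y (Wa j) (hWa' j hy)) (ha j)
        rw [gm_resS, gm_sum_smul] at h1
        refine h1.trans ?_
        refine Finset.sum_congr rfl (fun i _ => ?_)
        rw [gm_resS])
      (fun k i => gr O.presheaf y UF (hWF hy) (D.r k i))
      (D.syz y (hWF hy)) c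
      (by
        refine Eq.trans ?_ hc
        refine Finset.sum_congr rfl (fun i _ => ?_)
        rw [smₗ_apply, ← gm_resS F hWF (D.s i) y hy, sm_gm]
        rfl)
    have hrange : (fun k' : D.κ ⊕ τ => fun i => gr O.presheaf y W hy
        (Sum.elim (fun k i => resR hWF (D.r k i)) (fun j i => resR (hWa' j) (a j i)) k' i)) =
        Sum.elim (fun k i => gr O.presheaf y UF (hWF hy) (D.r k i))
          (fun j i => gr O.presheaf y (Wa j) (hWa' j hy) (a j i)) := by
      funext k' i
      rcases k' with k | j
      · exact gr_resR hWF (D.r k i) y hy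
      · exact gr_resR (hWa' j) (a j i) y hy
    rw [hrange]
    exact hsy

end Groth.Agent.S6833
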