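import Groth.Statements.S6834
import Mathlib
import Groth.Agent.Lib.Seat93RSpFT
-- import your own Groth.Agent.* helpers here

set_option autoImplicit false
universe u
open CategoryTheory CategoryTheory.Limits TopologicalSpace
open ModSite

namespace Groth.Agent.S6834

set_option linter.style.haveILetI false

section helpers

open Opposite TopCat
open Groth.Agent.Lib.Helper1.StalkTensor Groth.Agent.Lib.Seat93.RSpBase Groth.Agent.Lib.Seat93.RSpFT

variable {X : TopCat.{u}} {O : TopCat.Sheaf CommRingCat.{u} X}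

instance stalkFun_isLeftAdjoint (x : X) : (stalkFun O x).IsLeftAdjoint :=
  (stalkSkyAdj O x).isLeftAdjoint

variable {I : Type u} [Preorder I] [Nonempty I] [IsDirected I (· ≤ ·)] (D : I ⥤ ModSite.Mod O)
  (c : Cocone D) (hc : IsColimit c)

include hc in
/-- a local section of the colimit comes, locally, from a stage. -/
theorem exists_section_rep (x : X) (U : Opens X) (hx : x ∈ U) (s : sec c.pt U) :
    ∃ (i : I) (W : Opens X) (hWU : W ≤ U) (_ : x ∈ W) (t : sec (D.obj i) W),
      (c.ι.app i).val.app (op W) t = c.pt.val.map (homOfLE hWU).op s := by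
  have hcx : IsColimit ((stalkFun O x).mapCocone c) := isColimitOfPreserves (stalkFun O x) hc
  obtain ⟨i, a, ha⟩ := Concrete.isColimit_exists_rep _ hcx (gm (toPM c.pt) x U hx s)
  obtain ⟨V, hxV, t, rfl⟩ := exists_gm_eq a
  have ha' : sm (toPMMap (c.ι.app i)) x (gm (toPM (D.obj i)) x V hxV t) =
      gm (toPM c.pt) x U hx s := ha
  rw [sm_gm] at ha'
  obtain ⟨W, hxW, iV, iU, e⟩ := gm_eq (P := toPM c.pt) hxV hx _ _ ha'
  refine ⟨i, W, iU.le, hxW, (D.obj i).val.map iV.op t, ?_⟩
  have := PresheafOfModules.naturality_apply (c.ι.app i).val iV.op t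
  exact this.trans e

include hc in
/-- near every point, the stalk maps of a late enough stage are surjective. -/
theorem exists_local_stage [SheafOfModules.IsFiniteType (R := ModSite.ringSh O) c.pt] (x : X) :
    ∃ (i : I) (W : Opens X), x ∈ W ∧ ∀ y ∈ W, ∀ i' : I, i ≤ i' →
      Function.Surjective (sm (toPMMap (c.ι.app i')) y) := by
  obtain ⟨U, hxU, ι, hι, s, hs⟩ := (isFiniteType_iff c.pt).1 inferInstance x
  have h1 := fun k : ι => exists_section_rep D c hc x U hxU (s k)
  choose ik Wk hWU hxW t ht using h1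
  obtain ⟨i, hi⟩ := Finite.exists_le ik
  let W : Opens X := ⟨(U : Set X) ∩ ⋂ k, (Wk k : Set X),
    U.2.inter (isOpen_iInter_of_finite fun k => (Wk k).2)⟩
  have hxW' : x ∈ W := ⟨hxU, Set.mem_iInter.2 hxW⟩
  have hWk : ∀ k, W ≤ Wk k := fun k y hy => Set.mem_iInter.1 hy.2 k
  refine ⟨i, W, hxW', fun y hy i' hii' => ?_⟩
  have hyU : y ∈ U := hy.1
  let φ : St (toPM (D.obj i')) y →ₗ[Ox O y] St (toPM c.pt) y := smₗ (toPMMap (c.ι.app i')) y
  have hr : LinearMap.range φ = ⊤ := by
    rw [eq_top_iff, ← hs y hyU, Submodule.span_le]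
    rintro _ ⟨k, rfl⟩
    have hyk : y ∈ Wk k := hWk k hy
    let f : ik k ⟶ i' := homOfLE ((hi k).trans hii')
    refine ⟨sm (toPMMap (D.map f)) y (gm (toPM (D.obj (ik k))) y (Wk k) hyk (t k)), ?_⟩
    have hw : D.map f ≫ c.ι.app i' = c.ι.app (ik k) := c.w f
    have e1 : sm (toPMMap (c.ι.app (ik k))) y (gm (toPM (D.obj (ik k))) y (Wk k) hyk (t k)) =
        gm (toPM c.pt) y U hyU (s k) := by
      rw [sm_gm]
      erw [ht k]
      exact gm_rs (P := toPM c.pt) (homOfLE (hWU k)) hyk (s k)
    rw [← hw] at e1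
    exact (sm_comp' y (toPMMap (D.map f)) (toPMMap (c.ι.app i')) _).symm.trans e1
  exact LinearMap.range_eq_top.1 hr

end helpers

open Opposite TopCat
open Groth.Agent.Lib.Helper1.StalkTensor Groth.Agent.Lib.Seat93.RSpBase Groth.Agent.Lib.Seat93.RSpFT

/-- Let (X, O) be a ringed space with X quasi-compact, I a directed preordered set (nonempty, with upper
bounds for pairs), (F_i) a system of O-modules over I and F = colim F_i. If F is of finite type then
F_i → F is surjective for some i; if moreover all transition maps are injective then F_i → F is an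
isomorphism for some i. -/
theorem result {X : TopCat.{u}} (O : TopCat.Sheaf CommRingCat.{u} X)
    [CompactSpace X] {I : Type u} [Preorder I] [Nonempty I] [IsDirected I (· ≤ ·)] (D : I ⥤ ModSite.Mod O)
    (c : Cocone D) (hc : IsColimit c) [SheafOfModules.IsFiniteType (R := ModSite.ringSh O) c.pt] :
    (∃ i : I, Epi (c.ι.app i)) ∧
      ((∀ (i j : I) (f : i ⟶ j), Mono (D.map f)) → ∃ i : I, IsIso (c.ι.app i)) := by
  classical
  have hepi : ∃ i : I, Epi (c.ι.app i) := by
    have h1 := fun x : X => exists_local_stage D c hc x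
    choose ix Wx hxW hW using h1
    obtain ⟨t, ht⟩ := isCompact_univ.elim_finite_subcover (fun x => (Wx x : Set X))
      (fun x => (Wx x).2) (fun y _ => Set.mem_iUnion.2 ⟨y, hxW y⟩)
    obtain ⟨i₀, hi₀⟩ := Finite.exists_le (fun x : t => ix x.1)
    refine ⟨i₀, epi_of_sm_surjective _ (fun y => ?_)⟩
    obtain ⟨x, hxt, hy⟩ : ∃ x ∈ t, y ∈ Wx x := by simpa using ht (Set.mem_univ y)
    exact hW x y hy i₀ (hi₀ ⟨x, hxt⟩)
  refine ⟨hepi, fun hmono => ?_⟩
  obtain ⟨i, hi⟩ := hepi
  refine ⟨i, ?_⟩
  haveI : Mono (c.ι.app i) := by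
    apply Groth.Agent.Lib.Seat93.RSpBase.mono_of_sm_injective
    intro y
    have hcy : IsColimit ((stalkFun O y).mapCocone c) := isColimitOfPreserves (stalkFun O y) hc
    rw [injective_iff_map_eq_zero]
    intro a ha
    have h2 : ((stalkFun O y).mapCocone c).ι.app i a = ((stalkFun O y).mapCocone c).ι.app i 0 := by
      show sm (toPMMap (c.ι.app i)) y a = sm (toPMMap (c.ι.app i)) y 0
      rw [ha, map_zero]
    obtain ⟨k, f, g, hfg⟩ :=
      Concrete.isColimit_exists_of_rep_eq (D ⋙ stalkFun O y) hcy a (0 : St (toPM (D.obj i)) y) h2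
    haveI := hmono i k f
    have hinj := Groth.Agent.Lib.Seat93.RSpBase.sm_injective_of_mono (D.map f) y
    apply hinj
    rw [map_zero]
    exact hfg.trans (map_zero _)
  exact isIso_of_mono_of_epi _

end Groth.Agent.S6834
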