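import Groth.Statements.S6835
import Mathlib
import Groth.Agent.Lib.Seat16RSpFlat
import Groth.Agent.Lib.Seat93RSpPt
-- import your own Groth.Agent.* helpers here
set_option backward.isDefEq.respectTransparency.types false
set_option linter.style.haveILetI false

set_option autoImplicit false
universe u
open CategoryTheory CategoryTheory.Limits TopologicalSpace
open ModSite

namespace Groth.Agent.S6835

section helpers

open Opposite Groth.Agent.Lib.Helper1.StalkTensor Groth.Agent.Lib.Seat93.RSpBase
open Groth.Agent.Lib.Seat93.RSpPt

/-- flatness transfers along a semilinear bijection over a ring isomorphism -/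
theorem flat_of_semilinear {R R' M M' : Type u} [CommRing R] [CommRing R'] [AddCommGroup M]
    [AddCommGroup M'] [Module R M] [Module R' M'] (e : R ≃+* R') (φ : M ≃+ M')
    (h : ∀ (r : R) (m : M), φ (r • m) = e r • φ m) (hM : Module.Flat R M) : Module.Flat R' M' := by
  letI : Module R M' := Module.compHom M' (e : R →+* R')
  have hsm : ∀ (r : R) (m : M'), r • m = e r • m := fun _ _ => rfl
  let ψ : M ≃ₗ[R] M' := { φ with map_smul' := fun r m => h r m }
  haveI h1 : Module.Flat R M' := Module.Flat.of_linearEquiv ψ.symm
  letI : Algebra R' R := (e.symm : R' →+* R).toAlgebra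
  have halg : ∀ (r' : R') (r : R), r' • r = e.symm r' * r := fun _ _ => rfl
  haveI : IsScalarTower R' R M' := ⟨fun r' r m => by
    rw [hsm, hsm, halg, map_mul, RingEquiv.apply_symm_apply, mul_smul]⟩
  let e' : R ≃ₗ[R'] R' := { e with
    map_smul' := fun r' r => by
      change e (r' • r) = r' * e r
      rw [halg, map_mul, RingEquiv.apply_symm_apply] }
  haveI : Module.Flat R' R := Module.Flat.of_linearEquiv e'
  exact Module.Flat.trans R' R M'

variable {X : TopCat.{u}} (O : TopCat.Sheaf CommRingCat.{u} X) (F : ModSite.Mod O) (x : X)

/-- the ring isomorphism between the site-point stalk and the topological stalk -/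
noncomputable def cmpREquiv : ModSite.stalkRing (Opens.pointGrothendieckTopology x) O ≃+* Ox O x :=
  RingEquiv.ofBijective (toTopRing x O.presheaf).hom (cmpR_bijective x)

/-- the additive isomorphism between the site-point stalk and the topological stalk -/
noncomputable def cmpEquiv :
    ModSite.stalkAb (Opens.pointGrothendieckTopology x) F ≃+ St (toPM F) x :=
  AddEquiv.ofBijective (toTopAb x F.val.presheaf).hom (cmp_bijective x F)

theorem flat_stalk_iff :
    Module.Flat (ModSite.stalkRing (Opens.pointGrothendieckTopology x) O)
      (ModSite.stalkMod (Opens.pointGrothendieckTopology x) F) ↔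
    Module.Flat (Rx O.presheaf x) (St (toPM F) x) := by
  constructor
  · intro h
    exact flat_of_semilinear (cmpREquiv O x) (cmpEquiv O F x) (fun r m => cmp_smul x F r m) h
  · intro h
    refine flat_of_semilinear (cmpREquiv O x).symm (cmpEquiv O F x).symm (fun r m => ?_) h
    apply (cmpEquiv O F x).injective
    rw [AddEquiv.apply_symm_apply]
    have := cmp_smul x F ((cmpREquiv O x).symm r) ((cmpEquiv O F x).symm m)
    refine Eq.trans ?_ this.symm
    change r • m = (cmpREquiv O x) ((cmpREquiv O x).symm r) • (cmpEquiv O F x) ((cmpEquiv O F x).symm m)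
    rw [RingEquiv.apply_symm_apply, AddEquiv.apply_symm_apply]

end helpers

/-- On a ringed space (X, O), an O-module F is flat (the functor − ⊗_O F is exact) if and only if for
every point x the stalk F_x is a flat O_{X,x}-module (stalks are taken at the point of the site of
opens of X given by x). -/
theorem result {X : TopCat.{u}} (O : TopCat.Sheaf CommRingCat.{u} X) (F : ModSite.Mod O) :
    ModSite.IsFlat F ↔ ∀ x : X, Module.Flat (ModSite.stalkRing (Opens.pointGrothendieckTopology x) O)
      (ModSite.stalkMod (Opens.pointGrothendieckTopology x) F) := by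
  rw [Groth.Agent.Lib.Seat16.RSpFlat.modSite_isFlat_iff]
  exact forall_congr' fun x => (flat_stalk_iff O F x).symm

end Groth.Agent.S6835
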