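import Groth.Statements.S6839
import Groth.Agent.Lib.Seat93RSpFT

set_option autoImplicit false
universe u
open CategoryTheory CategoryTheory.Limits TopologicalSpace
open ModSite

namespace Groth.Agent.S6839

open Groth.Agent.Lib.Helper1.StalkTensor Groth.Agent.Lib.Seat93.RSpBase
  Groth.Agent.Lib.Seat93.RSpGen Groth.Agent.Lib.Seat93.RSpFT Opposite

/-- On a ringed space (X, O), if 0 → F₁ → F₂ → F₃ → 0 is a short exact sequence of O-modules with F₁ and
F₃ of finite type, then F₂ is of finite type. (The first assertion of the source, that images of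
finite type modules are of finite type, is not restated.) -/
theorem result {X : TopCat.{u}} (O : TopCat.Sheaf CommRingCat.{u} X)
    (S : ShortComplex (ModSite.Mod O)) (hS : S.ShortExact) [SheafOfModules.IsFiniteType (R := ModSite.ringSh O) S.X₁]
    [SheafOfModules.IsFiniteType (R := ModSite.ringSh O) S.X₃] : SheafOfModules.IsFiniteType (R := ModSite.ringSh O) S.X₂ := by
  rw [isFiniteType_iff]
  intro x
  obtain ⟨U₁, hx₁, ι₁, hι₁, s₁, hs₁⟩ := (isFiniteType_iff S.X₁).1 inferInstance x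
  obtain ⟨U₃, hx₃, ι₃, hι₃, s₃, hs₃⟩ := (isFiniteType_iff S.X₃).1 inferInstance x
  have := hS.epi_g
  have := hS.mono_f
  have hl : ∀ j : ι₃, ∃ (V : Opens X) (hV : V ≤ U₃) (_ : x ∈ V) (t : sec S.X₂ V),
      S.g.val.app (op V) t = S.X₃.val.map (homOfLE hV).op (s₃ j) :=
    fun j => exists_app_eq_of_epi S.g U₃ (s₃ j) x hx₃
  choose V hV hxV t ht using hl
  let W : Opens X := ⟨((⋂ j, (V j : Set X)) ∩ U₁) ∩ U₃,
    ((isOpen_iInter_of_finite fun j => (V j).isOpen).inter U₁.isOpen).inter U₃.isOpen⟩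
  have hWV : ∀ j, W ≤ V j := fun j y hy => Set.mem_iInter.1 hy.1.1 j
  have hWU₁ : W ≤ U₁ := fun y hy => hy.1.2
  have hWU₃ : W ≤ U₃ := fun y hy => hy.2
  have hxW : x ∈ W := ⟨⟨Set.mem_iInter.2 hxV, hx₁⟩, hx₃⟩
  refine ⟨W, hxW, ι₁ ⊕ ι₃, inferInstance,
    Sum.elim (fun i => S.X₂.val.map (homOfLE hWU₁).op (S.f.val.app (op U₁) (s₁ i)))
      (fun j => S.X₂.val.map (homOfLE (hWV j)).op (t j)), ?_⟩
  intro y hy
  set N := Submodule.span (Ox O y) (Set.range fun k => gm (toPM S.X₂) y W hy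
    (Sum.elim (fun i => S.X₂.val.map (homOfLE hWU₁).op (S.f.val.app (op U₁) (s₁ i)))
      (fun j => S.X₂.val.map (homOfLE (hWV j)).op (t j)) k)) with hN
  -- the germs of `f (s₁ i)` lie in `N`
  have h1 : ∀ i, sm (toPMMap S.f) y (gm (toPM S.X₁) y U₁ (hWU₁ hy) (s₁ i)) ∈ N := by
    intro i
    rw [sm_gm]
    have e : gm (toPM S.X₂) y W hy (S.X₂.val.map (homOfLE hWU₁).op (S.f.val.app (op U₁) (s₁ i))) =
        gm (toPM S.X₂) y U₁ (hWU₁ hy) (S.f.val.app (op U₁) (s₁ i)) :=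
      gm_rs (P := toPM S.X₂) (homOfLE hWU₁) hy _
    have hmem : gm (toPM S.X₂) y W hy (S.X₂.val.map (homOfLE hWU₁).op (S.f.val.app (op U₁) (s₁ i))) ∈ N :=
      Submodule.subset_span ⟨Sum.inl i, rfl⟩
    rw [e] at hmem
    exact hmem
  -- the germs of `s₃ j` lie in the image of `N`
  have h3 : ∀ j, gm (toPM S.X₃) y U₃ (hV j (hWV j hy)) (s₃ j) ∈ N.map (smₗ (toPMMap S.g) y) := by
    intro j
    refine ⟨gm (toPM S.X₂) y W hy (S.X₂.val.map (homOfLE (hWV j)).op (t j)),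
      Submodule.subset_span ⟨Sum.inr j, rfl⟩, ?_⟩
    rw [smₗ_apply]
    have e : gm (toPM S.X₂) y W hy (S.X₂.val.map (homOfLE (hWV j)).op (t j)) =
        gm (toPM S.X₂) y (V j) (hWV j hy) (t j) :=
      gm_rs (P := toPM S.X₂) (homOfLE (hWV j)) (x := y) hy (t j)
    rw [e, sm_gm]
    erw [ht j]
    exact gm_rs (P := toPM S.X₃) (homOfLE (hV j)) (hWV j hy) (s₃ j)
  have h3' : N.map (smₗ (toPMMap S.g) y) = ⊤ := by
    rw [eq_top_iff, ← hs₃ y (hWU₃ hy), Submodule.span_le]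
    rintro _ ⟨j, rfl⟩
    exact h3 j
  rw [eq_top_iff]
  intro a _
  have ha : smₗ (toPMMap S.g) y a ∈ N.map (smₗ (toPMMap S.g) y) := by rw [h3']; trivial
  obtain ⟨a', ha'N, ha'⟩ := ha
  have hker : sm (toPMMap S.g) y (a - a') = 0 := by
    rw [map_sub]
    rw [smₗ_apply, smₗ_apply] at ha'
    rw [ha', sub_self]
  have hfN : ∀ b : St (toPM S.X₁) y, sm (toPMMap S.f) y b ∈ N := by
    intro b
    have hb' : b ∈ Submodule.span (Ox O y) (Set.range fun i => gm (toPM S.X₁) y U₁ (hWU₁ hy) (s₁ i)) := by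
      rw [hs₁ y (hWU₁ hy)]; trivial
    induction hb' using Submodule.span_induction with
    | mem b hb => obtain ⟨i, rfl⟩ := hb; exact h1 i
    | zero => rw [map_zero]; exact N.zero_mem
    | add b c _ _ hb hc => rw [map_add]; exact N.add_mem hb hc
    | smul r b _ hb => rw [sm_smul]; exact N.smul_mem r hb
  obtain ⟨b, hb⟩ := exact_stalk S hS.exact y (a - a') hker
  have : a = a' + sm (toPMMap S.f) y b := by rw [hb]; abel
  rw [this]
  exact N.add_mem ha'N (hfN b)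

end Groth.Agent.S6839
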