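import Groth.Statements.S6841
import Groth.Agent.Lib.Seat18DvrSmA
import Groth.Agent.Lib.Seat18DvrSmB
import Groth.Agent.Lib.Helper6SmNorm

set_option autoImplicit false
universe u
open Smoothing

namespace Groth.Agent.S6841

open TensorProduct in
/-- Let R ⊆ Λ be an extension of discrete valuation rings of ramification index 1 (m_R Λ = m_Λ), A a
flat R-algebra of finite type with an R-algebra map A → Λ, 𝔮 its kernel and 𝔭 the inverse image of
the maximal ideal of Λ. Assume R → A is smooth at 𝔮. Provided the Λ-module Ω_{A/R} ⊗_A Λ is free,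
the map R → A is also smooth at the prime 𝔭. (The published statement phrases the freeness
hypothesis through a surjection B → A from an R-algebra smooth at the point, with kernel I, as
freeness of the cokernel of I/I² ⊗_A Λ → Ω_{B/R} ⊗_B Λ; that cokernel is Ω_{A/R} ⊗_A Λ, which is how
its proof begins, so the two forms are equivalent.) -/
theorem result {R Λ A : Type u} [CommRing R] [IsDomain R]
    [IsDiscreteValuationRing R] [CommRing Λ] [IsDomain Λ] [IsDiscreteValuationRing Λ] [Algebra R Λ]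
    [NoZeroSMulDivisors R Λ] (he : (IsLocalRing.maximalIdeal R).map (algebraMap R Λ) = IsLocalRing.maximalIdeal Λ)
    [CommRing A] [Algebra R A] [Module.Flat R A] [Algebra.FiniteType R A] [Algebra A Λ] [IsScalarTower R A Λ]
    [(RingHom.ker (algebraMap A Λ)).IsPrime]
    (hq : Algebra.IsSmoothAt R (RingHom.ker (algebraMap A Λ)))
    (hfree : Module.Free Λ (Λ ⊗[A] Ω[A⁄R])) :
    Algebra.IsSmoothAt R ((IsLocalRing.maximalIdeal Λ).comap (algebraMap A Λ)) := by
  classical
  set 𝔮 : Ideal A := RingHom.ker (algebraMap A Λ) with h𝔮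
  set 𝔭 : Ideal A := (IsLocalRing.maximalIdeal Λ).comap (algebraMap A Λ) with h𝔭
  haveI h𝔭prime : 𝔭.IsPrime := Ideal.comap_isPrime _ _
  have h𝔮𝔭 : 𝔮 ≤ 𝔭 := by
    intro a ha
    rw [h𝔭, Ideal.mem_comap, RingHom.mem_ker.mp ha]
    exact zero_mem _
  haveI : Algebra.FinitePresentation R A := Algebra.FinitePresentation.of_finiteType.mp ‹_›
  -- coordinates
  obtain ⟨κ, a, b, hb⟩ := Groth.Agent.Lib.Seat18.DvrSmB.exists_basis_tmul_D R (A := A) Λ
  haveI : Module.Finite Λ (Λ ⊗[A] Ω[A⁄R]) := inferInstance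
  haveI : Finite κ := Module.Finite.finite_basis b
  let φ₀ : MvPolynomial κ R →ₐ[R] A := MvPolynomial.aeval a
  letI : Algebra (MvPolynomial κ R) A := φ₀.toRingHom.toAlgebra
  haveI : IsScalarTower R (MvPolynomial κ R) A :=
    IsScalarTower.of_algebraMap_eq (fun r => (φ₀.commutes r).symm)
  have hX : ∀ i, algebraMap (MvPolynomial κ R) A (MvPolynomial.X i) = a i := by
    intro i
    simp [RingHom.algebraMap_toAlgebra, φ₀]
  have hb' : ∀ i, b i = (1 : Λ) ⊗ₜ[A] KaehlerDifferential.D R A
      (algebraMap (MvPolynomial κ R) A (MvPolynomial.X i)) := by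
    intro i; rw [hX, hb]
  -- unramified at `𝔭`
  haveI hunr : Algebra.IsUnramifiedAt (MvPolynomial κ R) 𝔭 := by
    refine Groth.Agent.Lib.Seat18.DvrSmB.isUnramifiedAt_comap_maximalIdeal R (MvPolynomial κ R)
      (fun i : κ => (MvPolynomial.X i : MvPolynomial κ R)) ?_
    have : (fun i => (1 : Λ) ⊗ₜ[A] KaehlerDifferential.D R A
        (algebraMap (MvPolynomial κ R) A (MvPolynomial.X i))) = fun i => b i := by
      funext i; rw [hb']
    rw [this]
    exact b.span_eq
  -- smooth and unramified at `𝔮` over the polynomial ring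
  have hsm𝔮 : Algebra.IsSmoothAt (MvPolynomial κ R) 𝔮 :=
    Groth.Agent.Lib.Seat18.DvrSmB.isSmoothAt_ker_of_basis R κ b hb' hq
  haveI : Algebra.FiniteType (MvPolynomial κ R) A :=
    Algebra.FiniteType.of_restrictScalars_finiteType R (MvPolynomial κ R) A
  have hunr𝔮 : Algebra.IsUnramifiedAt (MvPolynomial κ R) 𝔮 := by
    have h1 : (⟨𝔭, inferInstance⟩ : PrimeSpectrum A) ∈
        Algebra.unramifiedLocus (MvPolynomial κ R) A := hunr
    have h2 : (⟨𝔮, inferInstance⟩ : PrimeSpectrum A) ∈
        Algebra.unramifiedLocus (MvPolynomial κ R) A := by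
      rw [Algebra.unramifiedLocus_eq_compl_support, Set.mem_compl_iff] at h1 ⊢
      intro h
      exact h1 (Module.mem_support_mono (p := ⟨𝔮, inferInstance⟩) (q := ⟨𝔭, inferInstance⟩)
        h𝔮𝔭 h)
    exact h2
  -- standard etale surjection
  obtain ⟨f, hf𝔭, Pp, φ, hφ⟩ :=
    Algebra.IsUnramifiedAt.exists_hasStandardEtaleSurjectionOn (R := MvPolynomial κ R) 𝔭
  letI : Algebra R Pp.Ring :=
    ((algebraMap (MvPolynomial κ R) Pp.Ring).comp (algebraMap R (MvPolynomial κ R))).toAlgebra
  haveI : IsScalarTower R (MvPolynomial κ R) Pp.Ring :=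
    IsScalarTower.of_algebraMap_eq (fun _ => rfl)
  haveI : Algebra.Smooth R (MvPolynomial κ R) := {}
  haveI : Algebra.Smooth (MvPolynomial κ R) Pp.Ring := {}
  haveI : Algebra.Smooth R Pp.Ring := Algebra.Smooth.comp R (MvPolynomial κ R) Pp.Ring
  haveI : Algebra.FiniteType R Pp.Ring := inferInstance
  haveI : IsNoetherianRing Pp.Ring := Algebra.FiniteType.isNoetherianRing R Pp.Ring
  have hf𝔮 : f ∉ 𝔮 := fun h => hf𝔭 (h𝔮𝔭 h)
  haveI h𝔭f : (𝔭.map (algebraMap A (Localization.Away f))).IsPrime :=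
    Groth.Agent.Lib.Seat18.DvrSmA.isPrime_map_away f 𝔭 hf𝔭
  haveI h𝔮f : (𝔮.map (algebraMap A (Localization.Away f))).IsPrime :=
    Groth.Agent.Lib.Seat18.DvrSmA.isPrime_map_away f 𝔮 hf𝔮
  obtain ⟨e𝔭⟩ := Groth.Agent.Lib.Seat18.DvrSmA.nonempty_atPrimeAwayEquiv f 𝔭 hf𝔭
  obtain ⟨e𝔮⟩ := Groth.Agent.Lib.Seat18.DvrSmA.nonempty_atPrimeAwayEquiv f 𝔮 hf𝔮
  -- etale at `𝔮 A_f` over the polynomial ring
  haveI : Algebra.FormallyUnramified (MvPolynomial κ R) (Localization.AtPrime 𝔮) := hunr𝔮
  haveI : Algebra.FormallySmooth (MvPolynomial κ R) (Localization.AtPrime 𝔮) := hsm𝔮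
  haveI : Algebra.FormallySmooth (MvPolynomial κ R)
      (Localization.AtPrime (𝔮.map (algebraMap A (Localization.Away f)))) :=
    Algebra.FormallySmooth.of_equiv (e𝔮.restrictScalars (MvPolynomial κ R))
  -- the kernel dies at the preimage of `𝔮 A_f`
  have hQbot := Groth.Agent.Lib.Seat18.DvrSmA.map_ker_eq_bot_of_formallySmooth (MvPolynomial κ R) φ hφ
    (𝔮.map (algebraMap A (Localization.Away f)))
    ((𝔮.map (algebraMap A (Localization.Away f))).comap φ.toRingHom) rfl
  -- hence at the preimage of `𝔭 A_f`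
  haveI : IsDomain (Localization.AtPrime
      ((𝔭.map (algebraMap A (Localization.Away f))).comap φ.toRingHom)) :=
    (Groth.Agent.Lib.Helper6.SmNorm.isDomain_and_isIntegrallyClosed_localization R Pp.Ring _).1
  have hPbot := Groth.Agent.Lib.Seat18.DvrSmA.map_eq_bot_of_le (RingHom.ker φ.toRingHom)
    ((𝔭.map (algebraMap A (Localization.Away f))).comap φ.toRingHom)
    ((𝔮.map (algebraMap A (Localization.Away f))).comap φ.toRingHom)
    (Ideal.comap_mono (Ideal.map_mono h𝔮𝔭)) hQbot
  -- smoothness of `E` at that prime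
  haveI : Algebra.FormallySmooth R Pp.Ring := inferInstance
  haveI : Algebra.FormallySmooth Pp.Ring (Localization.AtPrime
      ((𝔭.map (algebraMap A (Localization.Away f))).comap φ.toRingHom)) :=
    Algebra.FormallySmooth.of_isLocalization
      ((𝔭.map (algebraMap A (Localization.Away f))).comap φ.toRingHom).primeCompl
  haveI : Algebra.IsSmoothAt R ((𝔭.map (algebraMap A (Localization.Away f))).comap φ.toRingHom) :=
    Algebra.FormallySmooth.comp R Pp.Ring _
  have h1 : Algebra.IsSmoothAt R (𝔭.map (algebraMap A (Localization.Away f))) :=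
    Groth.Agent.Lib.Seat18.DvrSmA.isSmoothAt_of_map_ker_eq_bot R (φ.restrictScalars R) hφ
      (𝔭.map (algebraMap A (Localization.Away f)))
      ((𝔭.map (algebraMap A (Localization.Away f))).comap φ.toRingHom) rfl hPbot
  have h2 : Algebra.FormallySmooth R
      (Localization.AtPrime (𝔭.map (algebraMap A (Localization.Away f)))) := h1
  exact Algebra.FormallySmooth.of_equiv (e𝔭.restrictScalars R).symm

end Groth.Agent.S6841
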