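import Groth.Statements.S6846
import Groth.Agent.Lib.Seat93RSpClosed
import Groth.Agent.Lib.Seat93RSpFT
set_option backward.isDefEq.respectTransparency.types false

set_option autoImplicit false
universe u
open CategoryTheory CategoryTheory.Limits TopologicalSpace
open ModSite

namespace Groth.Agent.S6846

open Opposite Groth.Agent.Lib.Helper1.StalkTensor Groth.Agent.Lib.Seat93.RSpBase
  Groth.Agent.Lib.Seat93.RSpFP Groth.Agent.Lib.Seat93.RSpFT Groth.Agent.Lib.Seat93.RSpClosed
  Groth.Agent.Lib.Seat16.RSpPull

/-- Let i : (Z, O_Z) → (X, O_X) be a morphism of ringed spaces. Suppose the underlying continuous map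
embeds Z homeomorphically as a closed subset of X, and that the comorphism i♯ : O_X → i_*O_Z is
surjective as a map of sheaves (locally surjective). Then, given any O_Z-module F, finite type of F
is equivalent to finite type of the pushforward O_X-module i_*F. -/
theorem result {Z X : TopCat.{u}} (i : Z ⟶ X)
    (O_Z : TopCat.Sheaf CommRingCat.{u} Z) (O_X : TopCat.Sheaf CommRingCat.{u} X)
    (c : O_X ⟶ ((TopologicalSpace.Opens.map i).sheafPushforwardContinuous CommRingCat.{u}
      (Opens.grothendieckTopology X) (Opens.grothendieckTopology Z)).obj O_Z)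
    (hi : Topology.IsClosedEmbedding i) (hc : Sheaf.IsLocallySurjective c) (F : ModSite.Mod O_Z) :
    SheafOfModules.IsFiniteType (R := ModSite.ringSh O_X)
        ((ModSite.RMor.ofFlat (TopologicalSpace.Opens.map i) c).push.obj F) ↔
      SheafOfModules.IsFiniteType (R := ModSite.ringSh O_Z) F := by
  have hind : Topology.IsInducing i := hi.isInducing
  change SheafOfModules.IsFiniteType (R := ModSite.ringSh O_X) (P i O_Z O_X c F) ↔ _
  rw [isFiniteType_iff, isFiniteType_iff]
  constructor
  · intro h z
    obtain ⟨V, hxV, ι, hι, t, ht⟩ := h (i z)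
    exact ⟨(Opens.map i).obj V, hxV, ι, hι, fun j => (show sec F ((Opens.map i).obj V) from t j),
      fun z' hz' => span_of_span_push i O_Z O_X c F hind z' V hz' _ (ht (i z') hz')⟩
  · intro h x
    by_cases hx : x ∈ Set.range i
    · obtain ⟨z, rfl⟩ := hx
      obtain ⟨W, hzW, ι, hι, s, hs⟩ := h z
      obtain ⟨V₀s, hV₀open, hV₀⟩ := hind.isOpen_iff.1 W.isOpen
      let V₀ : Opens X := ⟨V₀s, hV₀open⟩
      have hW : (Opens.map i).obj V₀ = W := Opens.ext hV₀
      have hz₀ : i z ∈ V₀ := by
        have : z ∈ (Opens.map i).obj V₀ := hW ▸ hzW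
        exact this
      refine ⟨V₀, hz₀, ι, hι, fun j => toPush i O_Z O_X c F V₀ (resS F (le_of_eq hW) (s j)),
        fun y hy => ?_⟩
      by_cases hy' : y ∈ Set.range i
      · obtain ⟨z', rfl⟩ := hy'
        apply span_push_of_span i O_Z O_X c F hind hc z' V₀ hy
        have hz'W : z' ∈ W := by
          have : z' ∈ (Opens.map i).obj V₀ := hy
          exact hW ▸ this
        have e : (fun j => gm (toPM F) z' ((Opens.map i).obj V₀) hy (resS F (le_of_eq hW) (s j))) =
            fun j => gm (toPM F) z' W hz'W (s j) := by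
          funext j
          exact gm_resS F (le_of_eq hW) (s j) z' hy
        rw [e]
        exact hs z' hz'W
      · rw [eq_top_iff]
        intro a _
        rw [stalk_eq_zero i O_Z O_X c F hi y hy' a]
        exact Submodule.zero_mem _
    · refine ⟨⟨(Set.range i)ᶜ, hi.isClosed_range.isOpen_compl⟩, hx, PEmpty.{u+1}, inferInstance,
        fun j => j.elim, fun y hy => ?_⟩
      rw [eq_top_iff]
      intro a _
      rw [stalk_eq_zero i O_Z O_X c F hi y hy a]
      exact Submodule.zero_mem _

end Groth.Agent.S6846
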