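import Groth.Statements.S6848
import Groth.Agent.Lib.Seat93RSpFree2
import Groth.Agent.Lib.Seat93RSpFP3
import Groth.Agent.Lib.Seat93RSpPt
set_option backward.isDefEq.respectTransparency.types false

set_option autoImplicit false
universe u
open CategoryTheory CategoryTheory.Limits TopologicalSpace
open ModSite

namespace Groth.Agent.S6848

open Groth.Agent.Lib.Helper1.StalkTensor Groth.Agent.Lib.Seat93.RSpBase
  Groth.Agent.Lib.Seat93.RSpFP Groth.Agent.Lib.Seat93.RSpFree Groth.Agent.Lib.Seat93.RSpPt
  Groth.Agent.Lib.Seat93.FreeAlg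

/-- On a ringed space (X, O), let F be an O-module of finite presentation and x a point with F_x ≅
O_{X,x}^r as O_{X,x}-modules (stalks are taken at the point of the site of opens of X given by x).
Then there is an open neighbourhood U of x with F|_U ≅ O_U^r, the free O_U-module on r generators. -/
theorem result {X : TopCat.{u}} (O : TopCat.Sheaf CommRingCat.{u} X)
    (F : ModSite.Mod O) [SheafOfModules.IsFinitePresentation (R := ModSite.ringSh O) F] (x : X) (r : ℕ)
    (hx : Nonempty (ModSite.stalkMod (Opens.pointGrothendieckTopology x) F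
      ≃ₗ[ModSite.stalkRing (Opens.pointGrothendieckTopology x) O]
        (Fin r → ModSite.stalkRing (Opens.pointGrothendieckTopology x) O))) :
    ∃ U : Opens X, x ∈ U ∧ Nonempty ((ModSite.restr O U).obj F ≅ SheafOfModules.free (ULift.{u} (Fin r))) := by
  classical
  obtain ⟨e⟩ := hx
  obtain ⟨U₀, hx₀, ⟨D⟩⟩ := exists_fpData F x
  let B : Module.Basis (ULift.{u} (Fin r)) (ModSite.stalkRing (pt x) O) (ModSite.stalkAb (pt x) F) :=
    ((Pi.basisFun (ModSite.stalkRing (pt x) O) (Fin r)).map e.symm).reindex Equiv.ulift.symm
  have h := basis_transfer (R := ModSite.stalkRing (pt x) O) (S := Ox O x)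
    (M := ModSite.stalkAb (pt x) F) (N := St (toPM F) x)
    (toTopRing x O.presheaf).hom (cmpR_bijective x)
    (toTopAb x F.val.presheaf).hom (cmp_bijective x F) (cmp_smul x F) B B.span_eq B.linearIndependent
  exact exists_restr_iso_free F D x hx₀ _ h.1 h.2

end Groth.Agent.S6848
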