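import Groth.Statements.S6849
import Groth.Agent.Lib.Seat93RSpFree4
set_option backward.isDefEq.respectTransparency.types false

set_option autoImplicit false
universe u
open CategoryTheory CategoryTheory.Limits TopologicalSpace
open ModSite

namespace Groth.Agent.S6849

open Opposite Groth.Agent.Lib.Helper1.StalkTensor Groth.Agent.Lib.Seat93.RSpBase
  Groth.Agent.Lib.Seat93.RSpFP Groth.Agent.Lib.Seat93.RSpFree

/-- Let (X, O) be a ringed space all of whose stalks O_{X,x} are local rings, H a finite locally free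
O-module (every point has an open neighbourhood U with H|_U ≅ O_U^n, the free O_U-module on n
generators, for some n) and F a direct summand of H (maps F → H → F composing to the identity). Then
F is finite locally free. -/
theorem result {X : TopCat.{u}}
    (O : TopCat.Sheaf CommRingCat.{u} X) (hO : ∀ x : X, IsLocalRing (O.presheaf.stalk x)) {F H : ModSite.Mod O}
    (hH : ∀ x : X, ∃ (U : Opens X) (n : ℕ), x ∈ U ∧
      Nonempty ((ModSite.restr O U).obj H ≅ SheafOfModules.free (ULift.{u} (Fin n))))
    (i : F ⟶ H) (p : H ⟶ F) (hip : i ≫ p = 𝟙 F) (x : X) :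
    ∃ (U : Opens X) (n : ℕ), x ∈ U ∧
      Nonempty ((ModSite.restr O U).obj F ≅ SheafOfModules.free (ULift.{u} (Fin n))) := by
  classical
  obtain ⟨U₀, n, hx₀, ⟨e⟩⟩ := hH x
  obtain ⟨h₀, hb₀⟩ := exists_basis_of_iso H U₀ e
  -- the matrix of the idempotent `p ≫ i` near `x`
  have hmem : ∀ j, gm (toPM H) x U₀ hx₀ (i.val.app (op U₀) (p.val.app (op U₀) (h₀ j))) ∈
      Submodule.span (Ox O x) (Set.range fun k => gm (toPM H) x U₀ hx₀ (h₀ k)) := by
    intro j; rw [(hb₀ x hx₀).1]; trivial
  choose a ha using fun j => (Submodule.mem_span_range_iff_exists_fun (Ox O x)).1 (hmem j)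
  obtain ⟨U, hU₀, hU₀', hxU, E, hEgr, hE⟩ := exists_rep_comb_family H h₀
    (fun j => (show sec H U₀ from i.val.app (op U₀) (p.val.app (op U₀) (h₀ j)))) x hx₀ hx₀ a
    (fun j => (ha j).symm)
  have hb : ∀ (y : X) (hy : y ∈ U), IsBasisAt H U (fun j => resS H hU₀ (h₀ j)) y hy :=
    fun y hy => isBasisAt_resS H hU₀ h₀ y hy (hb₀ y (hU₀ hy))
  have hE' : ∀ j, i.val.app (op U) (p.val.app (op U) (resS H hU₀ (h₀ j))) =
      ∑ k, E j k • resS H hU₀ (h₀ k) := by
    intro j
    rw [app_resS, app_resS]
    exact hE j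
  let D : FPData F U := fpDataOfRetract i p hip (fun j => resS H hU₀ (h₀ j)) hb E hE'
  -- the stalk of `F` at `x` is finite projective over a local ring, hence free
  have : IsLocalRing (Ox O x) := hO x
  let bH := basisOf H (fun j => resS H hU₀ (h₀ j)) x hxU (hb x hxU)
  have : Module.Free (Ox O x) (St (toPM H) x) := Module.Free.of_basis bH
  have : Module.Projective (Ox O x) (St (toPM F) x) :=
    Module.Projective.of_split (smₗ (toPMMap i) x) (smₗ (toPMMap p) x) (by
      ext a
      exact retract_sm i p hip x a)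
  have : Module.Finite (Ox O x) (St (toPM F) x) :=
    ⟨⟨Finset.univ.image (fun j => gm (toPM F) x U hxU (D.s j)), by
      rw [Finset.coe_image, Finset.coe_univ, Set.image_univ]
      exact D.span x hxU⟩⟩
  have : Module.Free (Ox O x) (St (toPM F) x) := Module.free_of_flat_of_isLocalRing
  let b : Module.Basis (ULift.{u} (Fin (Module.finrank (Ox O x) (St (toPM F) x)))) (Ox O x)
      (St (toPM F) x) := (Module.finBasis (Ox O x) (St (toPM F) x)).reindex Equiv.ulift.symm
  obtain ⟨V, hxV, hV⟩ := exists_restr_iso_free F D x hxU b b.span_eq b.linearIndependent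
  exact ⟨V, _, hxV, hV⟩

end Groth.Agent.S6849
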