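import Groth.Statements.S6851
import Groth.Agent.Lib.Seat93RSpInv
import Groth.Agent.Lib.Seat93RSpPt
set_option backward.isDefEq.respectTransparency.types false

set_option autoImplicit false
universe u
open CategoryTheory CategoryTheory.Limits TopologicalSpace
open ModSite

namespace Groth.Agent.S6851

open Opposite Groth.Agent.Lib.Helper1.StalkTensor Groth.Agent.Lib.Seat93.RSpBase
  Groth.Agent.Lib.Seat93.RSpPt Groth.Agent.Lib.Seat93.RSpInv Groth.Agent.Lib.Seat93.InvAlg
  Groth.Agent.Lib.Seat16.RSpPT

/-- Let (X, O) be a ringed space all of whose stalks O_{X,x} are local rings with maximal ideals m_x, L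
an invertible O-module (F ↦ L ⊗_O F is an equivalence of Mod(O)) and s a section of L over an open
U. Then the set X_s of points x ∈ U whose germ s_x does not lie in m_x L_x is open, and for every x
∈ X_s the map O_{X,x} → L_x, a ↦ a s_x, is bijective; that is, s : O_{X_s} → L|_{X_s} is an
isomorphism, isomorphy being checked on stalks. Stalks and germs are taken at the point of the site
of opens of X given by x. (The published statement also produces the section s' of the inverse of L
with s' s = 1; that consequence is not restated here.) -/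
theorem result {X : TopCat.{u}} (O : TopCat.Sheaf CommRingCat.{u} X)
    (hO : ∀ x : X, IsLocalRing (ModSite.stalkRing (Opens.pointGrothendieckTopology x) O)) (L : ModSite.Mod O)
    (hL : ((ModSite.tensorBi O).obj L).IsEquivalence) (U : Opens X) (s : ModSite.sect L U) :
    IsOpen {x : X | ∃ hx : x ∈ U, ModSite.germ (Opens.pointGrothendieckTopology x) L U ⟨⟨hx⟩⟩ s ∉
        (@IsLocalRing.maximalIdeal (ModSite.stalkRing (Opens.pointGrothendieckTopology x) O) _ (hO x)) •
          (⊤ : Submodule (ModSite.stalkRing (Opens.pointGrothendieckTopology x) O)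
            (ModSite.stalkAb (Opens.pointGrothendieckTopology x) L))} ∧
      ∀ (x : X) (hx : x ∈ U), ModSite.germ (Opens.pointGrothendieckTopology x) L U ⟨⟨hx⟩⟩ s ∉
          (@IsLocalRing.maximalIdeal (ModSite.stalkRing (Opens.pointGrothendieckTopology x) O) _ (hO x)) •
            (⊤ : Submodule (ModSite.stalkRing (Opens.pointGrothendieckTopology x) O)
              (ModSite.stalkAb (Opens.pointGrothendieckTopology x) L)) →
        Function.Bijective (fun a : ModSite.stalkRing (Opens.pointGrothendieckTopology x) O =>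
          a • ModSite.germ (Opens.pointGrothendieckTopology x) L U ⟨⟨hx⟩⟩ s) := by
  classical
  have := hL
  let E := ((ModSite.tensorBi O).obj L).asEquivalence
  let N : ModSite.Mod O := E.inverse.obj (ModSite.unit O)
  let e : tens O L N ≅ ModSite.unit O := E.counitIso.app _
  have hO' : ∀ y : X, IsLocalRing (Ox O y) := fun y => by
    have := hO y
    exact RingEquiv.isLocalRing
      (RingEquiv.ofBijective (toTopRing y O.presheaf).hom (cmpR_bijective y))
  have key : ∀ (x : X) (hx : x ∈ U),
      (ModSite.germ (pt x) L U ⟨⟨hx⟩⟩ s ∈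
        (@IsLocalRing.maximalIdeal (ModSite.stalkRing (pt x) O) _ (hO x)) •
          (⊤ : Submodule (ModSite.stalkRing (pt x) O) (ModSite.stalkAb (pt x) L))) ↔
      (gm (toPM L) x U hx s ∈
        (@IsLocalRing.maximalIdeal (Ox O x) _ (hO' x)) • (⊤ : Submodule (Ox O x) (St (toPM L) x))) := by
    intro x hx
    have := hO x
    have := hO' x
    have h1 := mem_smul_top_iff (R := ModSite.stalkRing (pt x) O) (S := Ox O x)
      (M := ModSite.stalkAb (pt x) L) (N := St (toPM L) x)
      (toTopRing x O.presheaf).hom (cmpR_bijective x)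
      (toTopAb x L.val.presheaf).hom (cmp_bijective x L) (cmp_smul x L)
      (ModSite.germ (pt x) L U ⟨⟨hx⟩⟩ s)
    have h2 : (toTopAb x L.val.presheaf).hom (ModSite.germ (pt x) L U ⟨⟨hx⟩⟩ s) =
        gm (toPM L) x U hx s := cmp_germ x L hx s
    refine h1.trans ?_
    have aux : ∀ a b : St (toPM L) x, a = b →
        (a ∈ (@IsLocalRing.maximalIdeal (Ox O x) _ (hO' x)) • (⊤ : Submodule (Ox O x) (St (toPM L) x)) ↔
          b ∈ (@IsLocalRing.maximalIdeal (Ox O x) _ (hO' x)) •
            (⊤ : Submodule (Ox O x) (St (toPM L) x))) := fun a b h => by rw [h]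
    exact aux _ _ h2
  constructor
  · have hset : {x : X | ∃ hx : x ∈ U, ModSite.germ (pt x) L U ⟨⟨hx⟩⟩ s ∉
        (@IsLocalRing.maximalIdeal (ModSite.stalkRing (pt x) O) _ (hO x)) •
          (⊤ : Submodule (ModSite.stalkRing (pt x) O) (ModSite.stalkAb (pt x) L))} =
        {x : X | ∃ hx : x ∈ U, gm (toPM L) x U hx s ∉
          (@IsLocalRing.maximalIdeal (Ox O x) _ (hO' x)) •
            (⊤ : Submodule (Ox O x) (St (toPM L) x))} := by
      ext x
      constructor
      · rintro ⟨hx, h⟩
        exact ⟨hx, fun h' => h ((key x hx).2 h')⟩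
      · rintro ⟨hx, h⟩
        exact ⟨hx, fun h' => h ((key x hx).1 h')⟩
    exact hset ▸ isOpen_generating_locus L N e hO' s
  · intro x hx hs
    have hs' : gm (toPM L) x U hx s ∉
        (@IsLocalRing.maximalIdeal (Ox O x) _ (hO' x)) • (⊤ : Submodule (Ox O x) (St (toPM L) x)) :=
      fun h' => hs ((key x hx).2 h')
    have hb := bijective_smul_germ L N e hO' s x hx hs'
    have h3 := bijective_smul_iff (R := ModSite.stalkRing (pt x) O) (S := Ox O x)
      (M := ModSite.stalkAb (pt x) L) (N := St (toPM L) x)
      (toTopRing x O.presheaf).hom (cmpR_bijective x)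
      (toTopAb x L.val.presheaf).hom (cmp_bijective x L) (cmp_smul x L)
      (ModSite.germ (pt x) L U ⟨⟨hx⟩⟩ s)
    have h2 : (toTopAb x L.val.presheaf).hom (ModSite.germ (pt x) L U ⟨⟨hx⟩⟩ s) =
        gm (toPM L) x U hx s := cmp_germ x L hx s
    have aux : ∀ a b : St (toPM L) x, a = b →
        (Function.Bijective (fun r : Ox O x => r • b) → Function.Bijective (fun r : Ox O x => r • a)) :=
      fun a b h => by rw [h]; exact id
    exact h3.2 (aux _ _ h2 hb)

end Groth.Agent.S6851
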