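import Groth.Statements.S6852
import Groth.Agent.Lib.Seat93RSpPull
set_option backward.isDefEq.respectTransparency.types false

set_option autoImplicit false
universe u
open CategoryTheory CategoryTheory.Limits TopologicalSpace
open ModSite

namespace Groth.Agent.S6852

open Groth.Agent.Lib.Seat93.RSpBase Groth.Agent.Lib.Seat93.RSpGen Groth.Agent.Lib.Seat93.RSpPull
  Groth.Agent.Lib.Seat16.RSpPull

/-- Let f : (X, O_X) → (Y, O_Y) be a morphism of ringed spaces. If the O_Y-module G is locally generated
by sections (there is an open covering of Y on whose members G is generated by a family of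
sections), then f^*G is locally generated by sections. -/
theorem result {X Y : TopCat.{u}} (f : X ⟶ Y) (O_X : TopCat.Sheaf CommRingCat.{u} X)
    (O_Y : TopCat.Sheaf CommRingCat.{u} Y)
    (c : O_Y ⟶ ((TopologicalSpace.Opens.map f).sheafPushforwardContinuous CommRingCat.{u}
      (Opens.grothendieckTopology Y) (Opens.grothendieckTopology X)).obj O_X)
    (G : ModSite.Mod O_Y) (hG : Nonempty (SheafOfModules.LocalGeneratorsData.{u} (R := ModSite.ringSh O_Y) G)) :
    Nonempty (SheafOfModules.LocalGeneratorsData.{u} (R := ModSite.ringSh O_X)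
      ((ModSite.RMor.ofFlat (TopologicalSpace.Opens.map f) c).pull.obj G)) := by
  obtain ⟨σ⟩ := hG
  have hcov : IsOpenCover σ.X := (Opens.coversTop_iff _ σ.X).1 σ.coversTop
  let U : σ.I → Opens X := fun i => (Opens.map f).obj (σ.X i)
  have hcovX : IsOpenCover U := by
    rw [IsOpenCover, eq_top_iff]
    intro x _
    obtain ⟨i, hi⟩ := hcov.exists_mem (f x)
    exact Opens.mem_iSup.2 ⟨i, hi⟩
  exact ⟨{ I := σ.I
           X := U
           coversTop := (Opens.coversTop_iff _ U).2 hcovX
           generators := fun i => genOfSpan ((ff f O_X O_Y c).pull.obj G) (U i)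
             (fun j => us f O_X O_Y c G (σ.X i) (gsec G (σ.X i) (σ.generators i) j))
             (fun y hy => span_us f O_X O_Y c G (σ.X i) _ y hy
               (span_germ_eq_top G (σ.X i) (σ.generators i) (f y) hy)) }⟩

end Groth.Agent.S6852
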