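import Groth.Statements.S6853
import Groth.Agent.Lib.Seat16RSpPT2
import Groth.Agent.Lib.Seat41PullUnit

set_option autoImplicit false
universe u
open CategoryTheory CategoryTheory.Limits TopologicalSpace
open ModSite

namespace Groth.Agent.S6853

open Groth.Agent.Lib.Helper21.ModTensor3 Groth.Agent.Lib.Helper21.ModTensor5
  Groth.Agent.Lib.Helper21.ModTensor6 Groth.Agent.Lib.Helper21.ModTensor7
open Groth.Agent.Lib.Seat16.RSpPull Groth.Agent.Lib.Seat16.RSpPT

/-- on any ringed site: if `A ⊗ B ≅ O` then `A ⊗ -` is an equivalence (with inverse `B ⊗ -`) -/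
theorem isEquivalence_of_tensor_iso_unit {C : Type u} [SmallCategory C] {J : GrothendieckTopology C}
    (O : Sheaf J CommRingCat.{u}) (A B : ModSite.Mod O)
    (e : ((ModSite.tensorBi O).obj A).obj B ≅ ModSite.unit O) :
    ((ModSite.tensorBi O).obj A).IsEquivalence := by
  let e' : ((ModSite.tensorBi O).obj B).obj A ≅ ModSite.unit O := brdApp O B A ≪≫ e
  let ε : tL O B ⋙ tL O A ≅ 𝟭 (ModSite.Mod O) :=
    (tLTensorIso O A B).symm ≪≫ (ModSite.tensorBi O).mapIso e ≪≫ tLUnitIso O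
  let η : tL O A ⋙ tL O B ≅ 𝟭 (ModSite.Mod O) :=
    (tLTensorIso O B A).symm ≪≫ (ModSite.tensorBi O).mapIso e' ≪≫ tLUnitIso O
  exact (CategoryTheory.Equivalence.mk (tL O A) (tL O B) η.symm ε).isEquivalence_functor

/-- Let f : (X, O_X) → (Y, O_Y) be a morphism of ringed spaces and L an invertible O_Y-module, i.e. N ↦
L ⊗ N is an equivalence of Mod(O_Y). Then f^*L is an invertible O_X-module: M ↦ f^*L ⊗ M is an
equivalence of Mod(O_X). -/
theorem result {X Y : TopCat.{u}} (f : X ⟶ Y) (O_X : TopCat.Sheaf CommRingCat.{u} X)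
    (O_Y : TopCat.Sheaf CommRingCat.{u} Y)
    (c : O_Y ⟶ ((TopologicalSpace.Opens.map f).sheafPushforwardContinuous CommRingCat.{u}
      (Opens.grothendieckTopology Y) (Opens.grothendieckTopology X)).obj O_X)
    (L : ModSite.Mod O_Y) (hL : ((ModSite.tensorBi O_Y).obj L).IsEquivalence) :
    ((ModSite.tensorBi O_X).obj ((ModSite.RMor.ofFlat (TopologicalSpace.Opens.map f) c).pull.obj L)).IsEquivalence := by
  haveI := hL
  let E := ((ModSite.tensorBi O_Y).obj L).asEquivalence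
  let L' : ModSite.Mod O_Y := E.inverse.obj (ModSite.unit O_Y)
  let e1 : ((ModSite.tensorBi O_Y).obj L).obj L' ≅ ModSite.unit O_Y := E.counitIso.app _
  obtain ⟨eu⟩ := Groth.Agent.Lib.Seat41.PullUnit.nonempty_pull_unit_iso (ff f O_X O_Y c)
  let e2 : ((ModSite.tensorBi O_X).obj ((ff f O_X O_Y c).pull.obj L)).obj
      ((ff f O_X O_Y c).pull.obj L') ≅ ModSite.unit O_X :=
    (pullTensorIso f O_X O_Y c L L').symm ≪≫ (ff f O_X O_Y c).pull.mapIso e1 ≪≫ eu
  exact isEquivalence_of_tensor_iso_unit O_X _ _ e2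

end Groth.Agent.S6853
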