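import Groth.Statements.S6858
import Groth.Agent.Lib.Seat93RSpFree5
set_option backward.isDefEq.respectTransparency.types false

set_option autoImplicit false
universe u
open CategoryTheory CategoryTheory.Limits TopologicalSpace
open ModSite

namespace Groth.Agent.S6858

open Groth.Agent.Lib.Seat93.RSpBase Groth.Agent.Lib.Seat93.RSpFree

/-- Let (X, O) be a ringed space all of whose stalks O_{X,x} are nonzero rings and F a locally free
O-module. Then there is a locally constant function rank_F : X → ℕ ∪ {∞} such that for every point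
x, every open neighbourhood U of x and every index set I with F|_U ≅ ⊕_{i ∈ I} O_U, the cardinality
of I (a natural number or ∞) is rank_F(x). -/
theorem result {X : TopCat.{u}} (O : TopCat.Sheaf CommRingCat.{u} X)
    (hO : ∀ x : X, Nontrivial (O.presheaf.stalk x)) (F : ModSite.Mod O)
    [SheafOfModules.IsLocallyFree (R := ModSite.ringSh O) F] :
    ∃ rk : X → ℕ∞, IsLocallyConstant rk ∧
      ∀ (x : X) (U : Opens X) (I : Type u), x ∈ U →
        Nonempty ((ModSite.restr O U).obj F ≅ SheafOfModules.free I) → ENat.card I = rk x := by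
  classical
  obtain ⟨q, hq⟩ := SheafOfModules.IsLocallyFree.exists_isLocallyFreeData (M := F)
  have hcov : IsOpenCover q.X := (Opens.coversTop_iff _ q.X).1 q.coversTop
  have hloc : ∀ x : X, ∃ (U : Opens X) (I : Type u), x ∈ U ∧
      Nonempty ((ModSite.restr O U).obj F ≅ SheafOfModules.free I) := by
    intro x
    obtain ⟨i, hi⟩ := hcov.exists_mem x
    exact ⟨q.X i, (q.generators i).I, hi, ⟨(asIso (q.generators i).π).symm⟩⟩
  choose U₀ I₀ hx₀ e₀ using hloc
  refine ⟨fun x => ENat.card (I₀ x), ?_, ?_⟩
  · rw [IsLocallyConstant.iff_exists_open]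
    intro x
    refine ⟨U₀ x, (U₀ x).isOpen, hx₀ x, fun y hy => ?_⟩
    have : Nontrivial (Ox O y) := hO y
    obtain ⟨e⟩ := e₀ x
    obtain ⟨e'⟩ := e₀ y
    exact card_eq_of_iso_free F e' e y (hx₀ y) hy
  · intro x U I hxU he
    obtain ⟨e⟩ := he
    have : Nontrivial (Ox O x) := hO x
    obtain ⟨e'⟩ := e₀ x
    exact card_eq_of_iso_free F e e' x hxU (hx₀ x)

end Groth.Agent.S6858
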