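import Groth.Statements.S6859
import Mathlib
import Groth.Agent.Lib.Seat16RSpInv
import Groth.Agent.Lib.Seat16RSpFlat
import Groth.Agent.Lib.Helper26ModSec
-- import your own Groth.Agent.* helpers here
set_option backward.isDefEq.respectTransparency.types false
set_option linter.style.haveILetI false

set_option autoImplicit false
universe u
open CategoryTheory CategoryTheory.Limits TopologicalSpace
open ModSite

namespace Groth.Agent.S6859

section helpers

open Opposite TensorProduct MonoidalCategory
open Groth.Agent.Lib.Helper1.StalkTensor Groth.Agent.Lib.Helper1.Sky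
open Groth.Agent.Lib.Seat93.RSpBase Groth.Agent.Lib.Seat16.RSpPull Groth.Agent.Lib.Seat16.RSpFlat
open Groth.Agent.Lib.Helper21.ModTensor2 Groth.Agent.Lib.Helper21.ModTensor3
  Groth.Agent.Lib.Helper21.ModTensor5

/-- pure algebra: `(S ⊗_R g) ⊗_S M` is injective for `g` injective and `M` flat over `R` -/
theorem rTensor_baseChange_injective {R S : Type u} [CommRing R] [CommRing S] [Algebra R S]
    (M : Type u) [AddCommGroup M] [Module S M] [Module R M] [IsScalarTower R S M] [Module.Flat R M]
    {N N' : Type u} [AddCommGroup N] [AddCommGroup N'] [Module R N] [Module R N']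
    (g : N →ₗ[R] N') (hg : Function.Injective g) :
    Function.Injective (LinearMap.rTensor M (g.baseChange S)) := by
  rw [← LinearMap.lTensor_inj_iff_rTensor_inj]
  have h1 := TensorProduct.AlgebraTensorModule.lTensor_comp_cancelBaseChange (R := R) (A := S) (B := S)
    (M := M) g
  have h2 : Function.Injective (LinearMap.lTensor M g) :=
    Module.Flat.lTensor_preserves_injective_linearMap g hg
  intro a b hab
  have e : ∀ t : M ⊗[S] (S ⊗[R] N),
      (TensorProduct.AlgebraTensorModule.cancelBaseChange R S S M N')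
        (LinearMap.lTensor M (g.baseChange S) t) =
      LinearMap.lTensor M g (TensorProduct.AlgebraTensorModule.cancelBaseChange R S S M N t) := by
    intro t
    exact (LinearMap.congr_fun h1 t).symm
  have := (e a).symm.trans ((congrArg _ hab).trans (e b))
  exact (TensorProduct.AlgebraTensorModule.cancelBaseChange R S S M N).injective (h2 this)

variable {X Y : TopCat.{u}} (f : X ⟶ Y) (O_X : TopCat.Sheaf CommRingCat.{u} X)
    (O_Y : TopCat.Sheaf CommRingCat.{u} Y)
    (c : O_Y ⟶ ((TopologicalSpace.Opens.map f).sheafPushforwardContinuous CommRingCat.{u}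
      (Opens.grothendieckTopology Y) (Opens.grothendieckTopology X)).obj O_X)

/-- the key injectivity on stalks -/
theorem rTensor_sm_pull_injective (F : ModSite.Mod O_X) (x : X)
    (hF : @Module.Flat (Ox O_Y (f x)) (St (toPM F) x) _ _
      (Module.compHom (St (toPM F) x) (stk f O_X O_Y c x).hom))
    {A B : ModSite.Mod O_Y} (a : A ⟶ B) [Mono a] :
    Function.Injective (LinearMap.rTensor (St (toPM F) x)
      (smₗ (toPMMap ((ff f O_X O_Y c).pull.map a)) x)) := by
  letI alg : Algebra (Ox O_Y (f x)) (Ox O_X x) := (stk f O_X O_Y c x).hom.toAlgebra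
  letI m2 : Module (Ox O_Y (f x)) (St (toPM F) x) :=
    Module.compHom (St (toPM F) x) (stk f O_X O_Y c x).hom
  haveI : IsScalarTower (Ox O_Y (f x)) (Ox O_X x) (St (toPM F) x) := ⟨fun r s m => by
    change ((stk f O_X O_Y c x).hom r * s) • m = (stk f O_X O_Y c x).hom r • (s • m)
    rw [mul_smul]⟩
  haveI : Module.Flat (Ox O_Y (f x)) (St (toPM F) x) := hF
  have sq : (stalkFun O_X x).map ((ff f O_X O_Y c).pull.map a) ≫
      (stalkPullbackIso f O_X O_Y c x).hom.app B =
      (stalkPullbackIso f O_X O_Y c x).hom.app A ≫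
        (ModuleCat.extendScalars.{u, u, u} (stk f O_X O_Y c x).hom).map
          ((stalkFun O_Y (f x)).map a) :=
    (stalkPullbackIso f O_X O_Y c x).hom.naturality a
  have hE : Function.Injective (LinearMap.rTensor (St (toPM F) x)
      ((ModuleCat.extendScalars.{u, u, u} (stk f O_X O_Y c x).hom).map
          ((stalkFun O_Y (f x)).map a)).hom) :=
    rTensor_baseChange_injective (R := Ox O_Y (f x)) (S := Ox O_X x) (St (toPM F) x)
      ((stalkFun O_Y (f x)).map a).hom (Groth.Agent.Lib.Seat93.RSpBase.sm_injective_of_mono a (f x))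
  have hA : Function.Injective (LinearMap.rTensor (St (toPM F) x)
      ((stalkPullbackIso f O_X O_Y c x).hom.app A).hom) :=
    (LinearEquiv.rTensor (St (toPM F) x)
      (((stalkPullbackIso f O_X O_Y c x).app A).toLinearEquiv)).injective
  have hcomp : (LinearMap.rTensor (St (toPM F) x) ((stalkPullbackIso f O_X O_Y c x).hom.app B).hom) ∘ₗ
      (LinearMap.rTensor (St (toPM F) x) (smₗ (toPMMap ((ff f O_X O_Y c).pull.map a)) x)) =
      (LinearMap.rTensor (St (toPM F) x)
        ((ModuleCat.extendScalars.{u, u, u} (stk f O_X O_Y c x).hom).map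
          ((stalkFun O_Y (f x)).map a)).hom) ∘ₗ
      (LinearMap.rTensor (St (toPM F) x) ((stalkPullbackIso f O_X O_Y c x).hom.app A).hom) := by
    rw [← LinearMap.rTensor_comp, ← LinearMap.rTensor_comp]
    exact congrArg (LinearMap.rTensor (St (toPM F) x)) (congrArg ModuleCat.Hom.hom sq)
  intro s t hst
  have e1 : (LinearMap.rTensor (St (toPM F) x) ((stalkPullbackIso f O_X O_Y c x).hom.app B).hom)
      ((LinearMap.rTensor (St (toPM F) x) (smₗ (toPMMap ((ff f O_X O_Y c).pull.map a)) x)) s) =
      (LinearMap.rTensor (St (toPM F) x)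
        ((ModuleCat.extendScalars.{u, u, u} (stk f O_X O_Y c x).hom).map
          ((stalkFun O_Y (f x)).map a)).hom)
      ((LinearMap.rTensor (St (toPM F) x) ((stalkPullbackIso f O_X O_Y c x).hom.app A).hom) s) :=
    LinearMap.congr_fun hcomp s
  have e2 : (LinearMap.rTensor (St (toPM F) x) ((stalkPullbackIso f O_X O_Y c x).hom.app B).hom)
      ((LinearMap.rTensor (St (toPM F) x) (smₗ (toPMMap ((ff f O_X O_Y c).pull.map a)) x)) t) =
      (LinearMap.rTensor (St (toPM F) x)
        ((ModuleCat.extendScalars.{u, u, u} (stk f O_X O_Y c x).hom).map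
          ((stalkFun O_Y (f x)).map a)).hom)
      ((LinearMap.rTensor (St (toPM F) x) ((stalkPullbackIso f O_X O_Y c x).hom.app A).hom) t) :=
    LinearMap.congr_fun hcomp t
  rw [hst] at e1
  exact hA (hE (e1.symm.trans e2))

/-- `G ↦ f^*G ⊗ F` preserves monomorphisms -/
theorem mono_map (F : ModSite.Mod O_X)
    (hF : ∀ x : X, @Module.Flat (Ox O_Y (f x)) (St (toPM F) x) _ _
      (Module.compHom (St (toPM F) x) (stk f O_X O_Y c x).hom))
    {A B : ModSite.Mod O_Y} (a : A ⟶ B) [Mono a] :
    Mono (((ModSite.tensorBi O_X).map ((ff f O_X O_Y c).pull.map a)).app F) := by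
  rw [Groth.Agent.Lib.Seat16.RSpFlat.tensorBi_map_app]
  apply mono_shO_map_of_sm_injective
  intro x s t hst
  have h2 := congrArg (α (toPM ((ff f O_X O_Y c).pull.obj B)) (toPM F) x) hst
  rw [α_nat_left, α_nat_left] at h2
  exact (α_bijective).1 (rTensor_sm_pull_injective f O_X O_Y c F x (hF x) a h2)

theorem exact_aux (F : ModSite.Mod O_X)
    (hF : ∀ x : X, @Module.Flat (Ox O_Y (f x)) (St (toPM F) x) _ _
      (Module.compHom (St (toPM F) x) (stk f O_X O_Y c x).hom)) :
    PreservesFiniteLimits ((ff f O_X O_Y c).pull ⋙ (ModSite.tensorBi O_X).flip.obj F) ∧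
      PreservesFiniteColimits ((ff f O_X O_Y c).pull ⋙ (ModSite.tensorBi O_X).flip.obj F) := by
  haveI : (ff f O_X O_Y c).pull.Additive := (ff f O_X O_Y c).adj.left_adjoint_additive
  haveI : PreservesFiniteColimits (ff f O_X O_Y c).pull := by
    haveI : PreservesColimitsOfSize.{0, 0} (ff f O_X O_Y c).pull :=
      (ff f O_X O_Y c).adj.leftAdjoint_preservesColimits
    exact PreservesColimitsOfSize.preservesFiniteColimits _
  haveI hc : PreservesFiniteColimits ((ff f O_X O_Y c).pull ⋙ tR O_X F) :=
    comp_preservesFiniteColimits _ _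
  haveI : ((ff f O_X O_Y c).pull ⋙ tR O_X F).Additive := inferInstance
  refine ⟨?_, hc⟩
  change PreservesFiniteLimits ((ff f O_X O_Y c).pull ⋙ tR O_X F)
  rw [Functor.preservesFiniteLimits_iff_forall_exact_map_and_mono]
  intro S hS
  refine ⟨((Functor.preservesFiniteColimits_iff_forall_exact_map_and_epi
    ((ff f O_X O_Y c).pull ⋙ tR O_X F)).1 hc S hS).1, ?_⟩
  haveI := hS.mono_f
  exact mono_map f O_X O_Y c F hF S.f

end helpers

/-- Let f : (X, O_X) → (Y, O_Y) be a morphism of ringed spaces and F an O_X-module flat over Y, i.e. for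
every x ∈ X the stalk F_x is a flat O_{Y, f(x)}-module through the ring map O_{Y, f(x)} → O_{X, x}.
Then the functor Mod(O_Y) → Mod(O_X), G ↦ f^*G ⊗_{O_X} F, is exact (preserves finite limits and
finite colimits). Here stalks are taken at the point of the site of opens of X given by x, and
flatness over O_{Y, f(x)} is written over the stalk at x of the pulled-back sheaf of rings f⁻¹O_Y,
which is O_{Y, f(x)}, through the stalk at x of the ring map f⁻¹O_Y → O_X adjoint to O_Y → f_*O_X,
which is the stalk map O_{Y, f(x)} → O_{X, x}. -/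
theorem result {X Y : TopCat.{u}} (f : X ⟶ Y) (O_X : TopCat.Sheaf CommRingCat.{u} X)
    (O_Y : TopCat.Sheaf CommRingCat.{u} Y)
    (c : O_Y ⟶ ((TopologicalSpace.Opens.map f).sheafPushforwardContinuous CommRingCat.{u}
      (Opens.grothendieckTopology Y) (Opens.grothendieckTopology X)).obj O_X)
    (F : ModSite.Mod O_X)
    (hF : ∀ x : X, @Module.Flat
      (ModSite.stalkRing (Opens.pointGrothendieckTopology x)
        (ModSite.RMor.ofFlat (TopologicalSpace.Opens.map f) c).invRing)
      (ModSite.stalkAb (Opens.pointGrothendieckTopology x) F) _ _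
      (Module.compHom (ModSite.stalkAb (Opens.pointGrothendieckTopology x) F)
        (((Opens.pointGrothendieckTopology x).sheafFiber (A := CommRingCat.{u})).map
          (ModSite.RMor.ofFlat (TopologicalSpace.Opens.map f) c).invSharp).hom)) :
    PreservesFiniteLimits ((ModSite.RMor.ofFlat (TopologicalSpace.Opens.map f) c).pull ⋙
        (ModSite.tensorBi O_X).flip.obj F) ∧
      PreservesFiniteColimits ((ModSite.RMor.ofFlat (TopologicalSpace.Opens.map f) c).pull ⋙
        (ModSite.tensorBi O_X).flip.obj F) := by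
  exact exact_aux f O_X O_Y c F
    (fun x => Groth.Agent.Lib.Seat16.RSpInv.flat_over_base f O_X O_Y c x F (hF x))

end Groth.Agent.S6859
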