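import Groth.Statements.S6900
import Groth.Agent.Lib.Seat35MilnorAlgD

set_option autoImplicit false
universe u
open TensorProduct
open EtAlg

namespace Groth.Agent.S6900

/-- Let `B' = B ×_A A'` be a fibre square of rings with `A' → A` surjective. Let `D` be a `B`-algebra
and `C'` an `A'`-algebra with a common base change `C = D ⊗_B A = C' ⊗_{A'} A`, and let `D' = D ×_C
C'` be the fibre product ring with its `B'`-algebra structure. Then `B' → D'` is of finite type
(resp. flat, resp. flat and of finite presentation, resp. smooth, resp. étale) if and only if `B →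
D` and `A' → C'` both are. -/
theorem result (B' B A' A : Type u) [CommRing B'] [CommRing B] [CommRing A'] [CommRing A]
    [Algebra B' B] [Algebra B' A'] [Algebra B A] [Algebra A' A] [Algebra B' A] [IsScalarTower B' B A] [IsScalarTower B' A' A]
    (hsq : EtMil.IsFibreSquare B' B A' A)
    (D' D C' C : Type u) [CommRing D'] [CommRing D] [CommRing C'] [CommRing C]
    [Algebra D' D] [Algebra D' C'] [Algebra D C] [Algebra C' C] [Algebra D' C] [IsScalarTower D' D C] [IsScalarTower D' C' C]
    (hsq' : EtMil.IsFibreSquare D' D C' C)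
    [Algebra B' D'] [Algebra B D] [Algebra A' C'] [Algebra A C]
    [Algebra B' D] [IsScalarTower B' B D] [IsScalarTower B' D' D]
    [Algebra B' C'] [IsScalarTower B' A' C'] [IsScalarTower B' D' C']
    [Algebra B C] [IsScalarTower B A C] [IsScalarTower B D C]
    [Algebra A' C] [IsScalarTower A' A C] [IsScalarTower A' C' C]
    [Algebra.IsPushout B D A C] [Algebra.IsPushout A' C' A C] :
    (Algebra.FiniteType B' D' ↔ Algebra.FiniteType B D ∧ Algebra.FiniteType A' C') ∧
    (Module.Flat B' D' ↔ Module.Flat B D ∧ Module.Flat A' C') ∧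
    (Module.Flat B' D' ∧ Algebra.FinitePresentation B' D' ↔
      (Module.Flat B D ∧ Algebra.FinitePresentation B D) ∧ (Module.Flat A' C' ∧ Algebra.FinitePresentation A' C')) ∧
    (Algebra.Smooth B' D' ↔ Algebra.Smooth B D ∧ Algebra.Smooth A' C') ∧
    (Algebra.Etale B' D' ↔ Algebra.Etale B D ∧ Algebra.Etale A' C') := by
  have hp1 : Algebra.IsPushout B' B D' D :=
    Groth.Agent.Lib.Seat35.MilnorAlg.isPushout_fst B' B A' A D' D C' C hsq hsq'
  have hp2 : Algebra.IsPushout B' A' D' C' :=
    Groth.Agent.Lib.Seat35.MilnorAlg.isPushout_snd B' B A' A D' D C' C hsq hsq'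
  refine ⟨⟨fun h => ?_, fun h => ?_⟩, ⟨fun h => ?_, fun h => ?_⟩, ⟨fun h => ?_, fun h => ?_⟩,
    ⟨fun h => ?_, fun h => ?_⟩, ⟨fun h => ?_, fun h => ?_⟩⟩
  · have := h
    exact ⟨Groth.Agent.Lib.Seat35.MilnorAlg.finiteType_of_isPushout B' B D' D,
      Groth.Agent.Lib.Seat35.MilnorAlg.finiteType_of_isPushout B' A' D' C'⟩
  · have := h.1
    have := h.2
    exact Groth.Agent.Lib.Seat35.MilnorAlg.finiteType_of_fibreSquare B' B A' A D' D C' hsq
  · have := h
    exact ⟨Groth.Agent.Lib.Seat35.MilnorAlg.flat_of_isPushout B' B D' D,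
      Groth.Agent.Lib.Seat35.MilnorAlg.flat_of_isPushout B' A' D' C'⟩
  · have := h.1
    have := h.2
    exact Groth.Agent.Lib.Seat35.MilnorAlg.flat_of_fibreSquare B' B A' A D' D C' hsq
  · have := h.1
    have := h.2
    exact ⟨⟨Groth.Agent.Lib.Seat35.MilnorAlg.flat_of_isPushout B' B D' D,
      Groth.Agent.Lib.Seat35.MilnorAlg.finitePresentation_of_isPushout B' B D' D⟩,
      ⟨Groth.Agent.Lib.Seat35.MilnorAlg.flat_of_isPushout B' A' D' C',
      Groth.Agent.Lib.Seat35.MilnorAlg.finitePresentation_of_isPushout B' A' D' C'⟩⟩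
  · have := h.1.1
    have := h.1.2
    have := h.2.1
    have := h.2.2
    exact ⟨Groth.Agent.Lib.Seat35.MilnorAlg.flat_of_fibreSquare B' B A' A D' D C' hsq,
      Groth.Agent.Lib.Seat35.MilnorAlg.finitePresentation_of_fibreSquare B' B A' A D' D C' hsq⟩
  · have := h
    exact ⟨Groth.Agent.Lib.Seat35.MilnorAlg.smooth_of_isPushout B' B D' D,
      Groth.Agent.Lib.Seat35.MilnorAlg.smooth_of_isPushout B' A' D' C'⟩
  · have := h.1
    have := h.2
    exact Groth.Agent.Lib.Seat35.MilnorAlg.smooth_of_fibreSquare B' B A' A D' D C' hsq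
  · have := h
    exact ⟨Groth.Agent.Lib.Seat35.MilnorAlg.etale_of_isPushout B' B D' D,
      Groth.Agent.Lib.Seat35.MilnorAlg.etale_of_isPushout B' A' D' C'⟩
  · have := h.1
    have := h.2
    exact Groth.Agent.Lib.Seat35.MilnorAlg.etale_of_fibreSquare B' B A' A D' D C' hsq C hsq'

end Groth.Agent.S6900
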