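import Groth.Statements.S6951
import Groth.Agent.Lib.Seat80TorBal2

set_option autoImplicit false
universe u
open CategoryTheory CategoryTheory.Limits
attribute [local instance] HasDerivedCategory.standard
open DRing

namespace Groth.Agent.S6951

open Groth.Agent.Lib.Seat80.TorBal Groth.Agent.Lib.Helper1.KF Groth.Agent.Lib.Helper1.Tor
  Groth.Agent.Lib.Helper1.DT Groth.Agent.Lib.Helper1.LDer Groth.Agent.Lib.Helper1.Restrict

/-- Let R → A → B be homomorphisms of commutative rings with A → B faithfully flat, such that the
derived base change D(A) → D(B) exists, and let K be an object of D(A). Then for all integers a, b,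
the following are equivalent: the restriction of K to D(R) is of tor amplitude within [a, b]; the
restriction of K ⊗^L_A B to D(R) is of tor amplitude within [a, b]. -/
theorem result {R A B : Type u}
    [CommRing R] [CommRing A] [CommRing B] [Algebra R A] [Algebra A B] [Algebra R B] [IsScalarTower R A B]
    [Module.FaithfullyFlat A B] [DRing.HasLBaseChange (algebraMap A B)] (K : Dual.D A) (a b : ℤ) :
    DRing.HasTorAmplitudeIn R a b ((DRing.restrictD (algebraMap R A)).obj K) ↔
      DRing.HasTorAmplitudeIn R a b ((DRing.restrictD (algebraMap R B)).obj ((DRing.LBaseChange (algebraMap A B)).obj K)) := by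
  classical
  obtain ⟨X, hX, -, ⟨eX⟩⟩ := Groth.Agent.Lib.Helper1.DT.exists_kproj_iso K
  have := hX
  let φ : R →+* A := algebraMap R A
  let ψ : A →+* B := algebraMap A B
  have hcomp : algebraMap R B = ψ.comp φ := IsScalarTower.algebraMap_eq R A B
  have hff : Module.FaithfullyFlat A (resUnit ψ) := by
    let e : (resUnit ψ) ≃ₗ[A] B :=
      { toFun := fun x => x
        invFun := fun x => x
        left_inv := fun _ => rfl
        right_inv := fun _ => rfl
        map_add' := fun _ _ => rfl
        map_smul' := fun r x => (Algebra.smul_def r (show B from x)).symm }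
    exact Module.FaithfullyFlat.of_linearEquiv A B e
  have e1 : (DRing.restrictD φ).obj K ≅ DerivedCategory.Q.obj ((DRing.restrictCx φ).obj X) :=
    (DRing.restrictD φ).mapIso eX.symm ≪≫ restrictQIso φ X
  have e2 : (DRing.restrictD (algebraMap R B)).obj ((DRing.LBaseChange ψ).obj K) ≅
      DerivedCategory.Q.obj ((DRing.restrictCx φ).obj ((DRing.restrictCx ψ).obj ((bcCx ψ).obj X))) :=
    (DRing.restrictD (algebraMap R B)).mapIso
        ((DRing.LBaseChange ψ).mapIso eX.symm ≪≫ lbcIso ψ X) ≪≫
      restrictQIso (algebraMap R B) ((bcCx ψ).obj X) ≪≫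
      DerivedCategory.Q.mapIso (restrictCxCompIso φ ψ (algebraMap R B) hcomp ((bcCx ψ).obj X))
  constructor
  · intro h
    refine hasTorAmp_of_iso e2.symm ?_
    rw [hasTorAmp_res_iff]
    have h' := (hasTorAmp_res_iff φ X a b).1 (hasTorAmp_of_iso e1 h)
    intro M P π hP hπ i hi
    rw [exactAt_resExt_tensor_iff]
    exact h' M P π hP hπ i hi
  · intro h
    refine hasTorAmp_of_iso e1.symm ?_
    rw [hasTorAmp_res_iff]
    have h' := (hasTorAmp_res_iff φ _ a b).1 (hasTorAmp_of_iso e2 h)
    intro M P π hP hπ i hi
    rw [← exactAt_resExt_tensor_iff ψ]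
    exact h' M P π hP hπ i hi

end Groth.Agent.S6951
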