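import Groth.Statements.S6953
import Groth.Agent.Lib.Seat80TorBal3

set_option autoImplicit false
universe u
open CategoryTheory CategoryTheory.Limits
attribute [local instance] HasDerivedCategory.standard
open DRing

namespace Groth.Agent.S6953

open MonoidalCategory Groth.Agent.Lib.Seat80.TorBal Groth.Agent.Lib.Helper1.KF Groth.Agent.Lib.Helper1.Tor
  Groth.Agent.Lib.Helper1.DT Groth.Agent.Lib.Helper1.LDer Groth.Agent.Lib.Helper1.Restrict
  Groth.Agent.Lib.Helper1.TorL

/-- Let A → B be a homomorphism of commutative rings, K an object of D(B) with tor amplitude in [a, b]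
over B, and L a cochain complex of B-modules whose restriction of scalars to A lies in D(A) with tor
amplitude contained in [c, d]. Assume the derived tensor product - ⊗^L_B L exists on D(B). Then K
⊗^L_B L, with scalars restricted to A, has tor amplitude in [a + c, b + d] over A. -/
theorem result {A B : Type u} [CommRing A] [CommRing B] [Algebra A B]
    (K : Dual.D B) (a b c d : ℤ) (hK : DRing.HasTorAmplitudeIn B a b K) (L : DRing.Cx B)
    (hL : DRing.HasTorAmplitudeIn A c d (DRing.toD ((DRing.restrictCx (algebraMap A B)).obj L)))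
    [DRing.HasLTensorCx B L] :
    DRing.HasTorAmplitudeIn A (a + c) (b + d)
      ((DRing.restrictD (algebraMap A B)).obj ((DRing.LTensorCx B L).obj K)) := by
  classical
  obtain ⟨E, hE, hEf, ⟨eK⟩⟩ := hK
  let φ : A →+* B := algebraMap A B
  obtain ⟨P, p, hP, -, hp, -⟩ := exists_kprojective_resolution E
  have := hP
  have hPK : KFlat P := kflat_of_isKProjective P
  have hEK : KFlat E := kflat_of_boundedAbove_flat E b (fun q hq => hE q (Or.inr hq)) hEf
  have hpi : IsIso (DerivedCategory.Q.map p) :=
    (DerivedCategory.isIso_Q_map_iff_quasiIso (φ := p)).2 hp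
  have := isIso_counit_LTensorCx L P
  have e1 : (DRing.LTensorCx B L).obj K ≅ DerivedCategory.Q.obj (P ⊗ L) :=
    (DRing.LTensorCx B L).mapIso (eK.symm ≪≫ (asIso (DerivedCategory.Q.map p)).symm) ≪≫
      asIso (((DRing.tensorCxQ B L).totalLeftDerivedCounit DerivedCategory.Q
        (HomologicalComplex.quasiIso (ModuleCat.{u} B) (ComplexShape.up ℤ))).app P)
  have e2 : (DRing.restrictD φ).obj ((DRing.LTensorCx B L).obj K) ≅
      DerivedCategory.Q.obj ((DRing.restrictCx φ).obj (P ⊗ L)) :=
    (DRing.restrictD φ).mapIso e1 ≪≫ restrictQIso φ _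
  refine hasTorAmp_of_iso e2.symm ?_
  rw [hasTorAmp_res_iff]
  have hL' := (hasTorAmp_res_iff φ L c d).1 hL
  intro M T π hT hπ i hi
  rw [exactAt_iff_of_iso (α_ P L ((bcCx φ).obj T)) i]
  have : QuasiIso (p ▷ (L ⊗ (bcCx φ).obj T)) :=
    quasiIso_whiskerRight_of_kflat_both p hPK hEK _
  rw [exactAt_iff_of_quasiIso (p ▷ (L ⊗ (bcCx φ).obj T)) i]
  exact exactAt_tensor_of_bounded E a b hE hEf _ c d (fun j hj => hL' M T π hT hπ j hj) i hi

end Groth.Agent.S6953
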