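import Groth.Statements.S6966
import Mathlib.Algebra.Homology.DerivedCategory.Ext.EnoughProjectives
import Mathlib.Algebra.Homology.DerivedCategory.Linear
import Mathlib.Algebra.Homology.DerivedCategory.SingleTriangle
import Mathlib.Algebra.Category.ModuleCat.Projective
import Mathlib.Algebra.Homology.ShortComplex.ModuleCat
-- import your own Groth.Agent.* helpers here

set_option autoImplicit false
universe u
open CategoryTheory CategoryTheory.Limits
attribute [local instance] HasDerivedCategory.standard
open CAlg

namespace Groth.Agent.S6966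

open DerivedCategory in
/-- Morphisms from a projective module in degree `0` to a module in degree `1` vanish. -/
theorem eq_zero_of_projective' (R : Type u) [CommRing R] (P N : ModuleCat.{u} R) [Projective P]
    (y : (singleFunctor (ModuleCat.{u} R) 0).obj P ⟶
      ((singleFunctor (ModuleCat.{u} R) 0).obj N)⟦(1 : ℤ)⟧) : y = 0 := by
  have : HasExt.{u + 1} (ModuleCat.{u} R) := HasExt.standard (ModuleCat.{u} R)
  let E : Abelian.Ext.{u + 1} P N (0 + 1) ≃ _ := Abelian.Ext.homEquiv (X := P) (Y := N) (n := 0 + 1)
  have h : E.symm y = 0 := Abelian.Ext.eq_zero_of_projective _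
  have h2 : y = E 0 := by rw [← h, Equiv.apply_symm_apply]
  rw [h2]
  exact Abelian.Ext.zero_hom (X := P) (Y := N) (n := 0 + 1)

/-- Let R be a commutative ring, I an ideal of R and M an R-module. Then the following two conditions
coincide: for each a ∈ I, the endomorphism of M given by multiplication by a can be written as a
composite M → P → M with P some projective R-module; and for every R-module N and every a ∈ I, a
annihilates Ext^1_R(M, N) = Hom(M[0], N[1]) in D(R). -/
theorem result (R : Type u) [CommRing R] (I : Ideal R) (M : Type u)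
    [AddCommGroup M] [Module R M] :
    (∀ a ∈ I, ∃ (P : Type u) (_ : AddCommGroup P) (_ : Module R P) (_ : Module.Projective R P)
        (f : M →ₗ[R] P) (g : P →ₗ[R] M), g ∘ₗ f = a • LinearMap.id) ↔
      ∀ (N : Type u) [AddCommGroup N] [Module R N], ∀ a ∈ I,
        ∀ x : DRing.ExtD R (Dual.inD R M) (Dual.inD R N) 1, a • x = 0 := by
  constructor
  · intro h N _ _ a ha x
    obtain ⟨P, _, _, hP, f, g, hgf⟩ := h a ha
    have hproj : Projective (ModuleCat.of R P) := (IsProjective.iff_projective (R := R) (P := P)).mp hP
    have h1 : a • x = (a • 𝟙 _) ≫ x := by rw [Linear.smul_comp, Category.id_comp]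
    have h2 : (a • 𝟙 (Dual.inD R M)) =
        (DerivedCategory.singleFunctor (ModuleCat.{u} R) 0).map (a • 𝟙 (ModuleCat.of R M)) := by
      rw [Functor.map_smul, CategoryTheory.Functor.map_id]
    have h3 : a • 𝟙 (ModuleCat.of R M) = ModuleCat.ofHom f ≫ ModuleCat.ofHom g := by
      ext m
      have := LinearMap.congr_fun hgf m
      simpa using this.symm
    rw [h1, h2, h3, Functor.map_comp, Category.assoc]
    have h4 := eq_zero_of_projective' R (ModuleCat.of R P) (ModuleCat.of R N)
      ((DerivedCategory.singleFunctor (ModuleCat.{u} R) 0).map (ModuleCat.ofHom g) ≫ x)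
    rw [h4, comp_zero]
  · intro h a ha
    -- a free cover of `M`
    let F : ModuleCat.{u} R := ModuleCat.of R (M →₀ R)
    let π : F →ₗ[R] M := Finsupp.linearCombination R id
    have hπ : Function.Surjective π := Finsupp.linearCombination_id_surjective R M
    let K : Submodule R F := LinearMap.ker π
    let S : ShortComplex (ModuleCat.{u} R) :=
      ShortComplex.mk (X₁ := ModuleCat.of R K) (X₂ := F) (X₃ := ModuleCat.of R M)
        (ModuleCat.ofHom K.subtype) (ModuleCat.ofHom π) (by
        ext ⟨x, hx⟩
        exact hx)
    have hS : S.ShortExact := by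
      refine ShortComplex.ShortExact.mk' ?_ ?_ ?_
      · rw [ShortComplex.moduleCat_exact_iff]
        intro x hx
        exact ⟨⟨x, hx⟩, rfl⟩
      · rw [ModuleCat.mono_iff_injective]
        exact Subtype.val_injective
      · rw [ModuleCat.epi_iff_surjective]
        exact hπ
    have hT := hS.singleTriangle_distinguished
    have h0 : a • hS.singleδ = 0 := h K a ha hS.singleδ
    have h1 : (a • 𝟙 (Dual.inD R M)) ≫ hS.singleδ = 0 := by
      rw [Linear.smul_comp, Category.id_comp]
      exact h0
    obtain ⟨φ, hφ⟩ := Pretriangulated.Triangle.coyoneda_exact₃ _ hT (a • 𝟙 (Dual.inD R M)) h1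
    obtain ⟨ψ, rfl⟩ := (DerivedCategory.singleFunctor (ModuleCat.{u} R) 0).map_surjective φ
    have h2 : (a • 𝟙 (Dual.inD R M)) =
        (DerivedCategory.singleFunctor (ModuleCat.{u} R) 0).map (a • 𝟙 (ModuleCat.of R M)) := by
      rw [Functor.map_smul, CategoryTheory.Functor.map_id]
    have h3 : a • 𝟙 (ModuleCat.of R M) = ψ ≫ ModuleCat.ofHom π := by
      apply (DerivedCategory.singleFunctor (ModuleCat.{u} R) 0).map_injective
      rw [← h2, hφ, Functor.map_comp]
      rfl
    refine ⟨F, inferInstance, inferInstance, inferInstance, ψ.hom, π, ?_⟩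
    ext m
    have := congrArg (fun t => t.hom m) h3
    simpa using this.symm

end Groth.Agent.S6966
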