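import Groth.Statements.S6970
import Mathlib
import Groth.Agent.Lib.Seat30LiftRep
import Groth.Agent.Lib.Seat30NilLift
import Groth.Agent.Lib.Helper1PCNil2
import Groth.Agent.Lib.Helper1ProjRes

set_option autoImplicit false
universe u
open CategoryTheory CategoryTheory.Limits
attribute [local instance] HasDerivedCategory.standard
open DRing

namespace Groth.Agent.S6970

/-- Let R be a commutative ring and I a nilpotent ideal of R such that the derived base change D(R) →
D(R/I) exists. Let K be an object of D(R) and E a bounded above cochain complex of projective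
R/I-modules which is isomorphic in D(R/I) to K ⊗^L_R R/I. Then there is a bounded above cochain
complex P of projective R-modules which is isomorphic to K in D(R) and whose termwise reduction P
⊗_R R/I is isomorphic to E as a complex of R/I-modules. -/
theorem result (R : Type u) [CommRing R] (I : Ideal R)
    (hI : IsNilpotent I) [DRing.HasLBaseChange (Ideal.Quotient.mk I)] (K : Dual.D R)
    (E : DRing.Cx (R ⧸ I)) (b : ℤ) (hEb : DRing.VanishesAbove E b)
    (hEp : ∀ i : ℤ, Module.Projective (R ⧸ I) (E.X i))
    (hE : Nonempty (DRing.toD E ≅ (DRing.LBaseChange (Ideal.Quotient.mk I)).obj K)) :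
    ∃ (P : DRing.Cx R) (b' : ℤ), DRing.VanishesAbove P b' ∧ (∀ i : ℤ, Module.Projective R (P.X i)) ∧
      Nonempty (DRing.toD P ≅ K) ∧ Nonempty ((((ModuleCat.extendScalars (Ideal.Quotient.mk I)).mapHomologicalComplex (ComplexShape.up ℤ)).obj P) ≅ E) := by
  classical
  obtain ⟨k, hk⟩ := hI
  have hk' : I ^ k = ⊥ := hk
  have hker : RingHom.ker (Ideal.Quotient.mk I) ^ k = ⊥ := by rw [Ideal.mk_ker]; exact hk
  obtain ⟨eE⟩ := hE
  have hEle : E.IsStrictlyLE b := by
    rw [CochainComplex.isStrictlyLE_iff]
    exact hEb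
  have hLle : ((DRing.LBaseChange (Ideal.Quotient.mk I)).obj K).IsLE b :=
    DerivedCategory.TStructure.t.isLE_of_iso eE b
  have hKle : K.IsLE b := Groth.Agent.Lib.Helper1.PCNil.isLE_of_isLE_LBC (Ideal.Quotient.mk I)
    Ideal.Quotient.mk_surjective k hker K b hLle
  obtain ⟨Q, hQle, hQp, ⟨eK⟩⟩ := Groth.Agent.Lib.Helper1.ProjRes.exists_iso_Q_proj K b
  have hQc : DRing.VanishesAbove Q b := fun i hi => Q.isZero_of_isStrictlyLE b i hi
  let Pc : ObjectProperty (ModuleCat.{u} R) := fun X => Module.Projective R X
  have hPciso : Pc.IsClosedUnderIsomorphisms :=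
    ⟨fun {X Y} e h => by
      have : Module.Projective R X := h
      exact Module.Projective.of_equiv e.toLinearEquiv⟩
  obtain ⟨P, b', hPb, hP, ⟨e1⟩, ⟨e2⟩⟩ := Groth.Agent.Lib.Seat30.LiftRep.exists_lift_rep (I := I) Pc
    (fun X hX => hX)
    (fun X Y hX => ⟨fun h => by
        have : Module.Projective R (X × Y) := h
        exact Module.Projective.of_split (LinearMap.inr R X Y) (LinearMap.snd R X Y)
          (by ext; simp),
      fun h => by
        have h1 : Module.Projective R X := hX
        have h2 : Module.Projective R Y := h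
        have h3 : Module.Projective R (X × Y) := inferInstance
        exact h3⟩)
    (fun X Y f hX hY h => by
      rw [← LinearMap.range_eq_top]
      exact Groth.Agent.Lib.Helper1.PCNil.eq_top_of_sup_smul_eq_top_of_pow_eq_bot I k hk' _ h)
    Q b hQc (fun i => by
      have := hQp i
      exact ModuleCat.projective_of_module_projective _) E b hEb
    (fun i => by
      have := hEp i
      exact Groth.Agent.Lib.Seat30.NilLift.exists_projective_lift ⟨k, hk⟩ (E.X i))
    ⟨eE ≪≫ (DRing.LBaseChange (Ideal.Quotient.mk I)).mapIso eK.symm⟩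
  exact ⟨P, b', hPb, hP, ⟨e1 ≪≫ eK⟩, ⟨e2⟩⟩

end Groth.Agent.S6970
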