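import Groth.Statements.S6972
import Mathlib
import Groth.Agent.Lib.Seat30MinimalLocal

set_option autoImplicit false
universe u
open CategoryTheory CategoryTheory.Limits
attribute [local instance] HasDerivedCategory.standard
open DRing

namespace Groth.Agent.S6972

/-- Let R be a local commutative ring with residue field κ such that the derived base change D(R) → D(κ)
exists, and let K be a pseudo-coherent object of D(R). Write d_i for the κ-dimension of H^i(K ⊗^L_R
κ). Then every H^i(K ⊗^L_R κ) is finite dimensional and vanishes for i large; there is a bounded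
above cochain complex P of finite free R-modules with rank P^i = d_i for all i which is isomorphic
to K in D(R); and any two such complexes are isomorphic as complexes of R-modules. -/
theorem result (R : Type u) [CommRing R] [IsLocalRing R]
    [DRing.HasLBaseChange (IsLocalRing.residue R)] (K : Dual.D R) (hK : DRing.IsPseudoCoherent' R K) :
    let κ := IsLocalRing.ResidueField R
    let Kκ := (DRing.LBaseChange (IsLocalRing.residue R)).obj K
    let Minimal := fun P : DRing.Cx R => (∃ b : ℤ, DRing.VanishesAbove P b) ∧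
      (∀ i : ℤ, Module.Free R (P.X i) ∧ Module.Finite R (P.X i) ∧
        Module.finrank R (P.X i) = Module.finrank κ (Dual.HD κ Kκ i)) ∧ Nonempty (DRing.toD P ≅ K)
    (∀ i : ℤ, Module.Finite κ (Dual.HD κ Kκ i)) ∧ (∃ b : ℤ, ∀ i : ℤ, b < i → Subsingleton (Dual.HD κ Kκ i)) ∧
      (∃ P : DRing.Cx R, Minimal P) ∧ ∀ P Q : DRing.Cx R, Minimal P → Minimal Q → Nonempty (P ≅ Q) := by
  intro κ Kκ Minimal
  have inst : DRing.HasLBaseChange (Ideal.Quotient.mk (IsLocalRing.maximalIdeal R)) :=
    ‹DRing.HasLBaseChange (IsLocalRing.residue R)›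
  obtain ⟨h1, h2, ⟨P, b, hPb, hPfree, hPfin, hPrank, hPiso⟩⟩ :=
    @Groth.Agent.Lib.Seat30.MinimalLocal.exists_minimal R _ _ inst K hK
  refine ⟨h1, h2, ⟨P, ⟨b, hPb⟩, fun i => ⟨hPfree i, hPfin i, hPrank i⟩, hPiso⟩, ?_⟩
  rintro P Q ⟨⟨b, hb⟩, hP, ⟨e⟩⟩ ⟨⟨b', hb'⟩, hQ, ⟨e'⟩⟩
  exact @Groth.Agent.Lib.Seat30.MinimalLocal.nonempty_iso_of_minimal R _ _ inst K P Q
    b hb (fun i => (hP i).1) (fun i => (hP i).2.1) (fun i => (hP i).2.2) e
    b' hb' (fun i => (hQ i).1) (fun i => (hQ i).2.1) (fun i => (hQ i).2.2) e'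

end Groth.Agent.S6972
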