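import Groth.Statements.S6973
import Mathlib
import Groth.Agent.Lib.Seat30LiftRep
import Groth.Agent.Lib.Seat30LiftApps
import Groth.Agent.S0534

set_option autoImplicit false
universe u
open CategoryTheory CategoryTheory.Limits
attribute [local instance] HasDerivedCategory.standard
open DRing

namespace Groth.Agent.S6973

/-- Let (R, I) be a henselian pair such that the derived base change D(R) → D(R/I) exists, K a
pseudo-coherent object of D(R), and E a bounded above cochain complex of finite projective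
R/I-modules which is isomorphic in D(R/I) to K ⊗^L_R R/I. Then there is a bounded above cochain
complex P of finite projective R-modules, isomorphic to K in D(R), whose termwise reduction P ⊗_R
R/I is isomorphic to E as a complex, and such that P^i is free for every i for which E^i is free. -/
theorem result (R : Type u) [CommRing R]
    (I : Ideal R) [HenselianRing R I] [DRing.HasLBaseChange (Ideal.Quotient.mk I)] (K : Dual.D R)
    (hK : DRing.IsPseudoCoherent' R K) (E : DRing.Cx (R ⧸ I)) (b : ℤ) (hEb : DRing.VanishesAbove E b)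
    (hEp : DRing.TermwiseFiniteProjective E)
    (hE : Nonempty (DRing.toD E ≅ (DRing.LBaseChange (Ideal.Quotient.mk I)).obj K)) :
    ∃ (P : DRing.Cx R) (b' : ℤ), DRing.VanishesAbove P b' ∧ DRing.TermwiseFiniteProjective P ∧
      Nonempty (DRing.toD P ≅ K) ∧ Nonempty ((((ModuleCat.extendScalars (Ideal.Quotient.mk I)).mapHomologicalComplex (ComplexShape.up ℤ)).obj P) ≅ E) ∧
      ∀ i : ℤ, Module.Free (R ⧸ I) (E.X i) → Module.Free R (P.X i) := by
  classical
  have hjac : I ≤ Ideal.jacobson ⊥ := HenselianRing.jac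
  let Pc : ObjectProperty (ModuleCat.{u} R) := fun X => Module.Finite R X ∧ Module.Projective R X
  have hPciso : Pc.IsClosedUnderIsomorphisms := ⟨fun {X Y} e ⟨h1, h2⟩ =>
    ⟨Module.Finite.equiv e.toLinearEquiv, Module.Projective.of_equiv e.toLinearEquiv⟩⟩
  obtain ⟨Q, c, hQc, hQff, ⟨eK⟩⟩ := hK
  obtain ⟨eE⟩ := hE
  obtain ⟨P, b', hPb, hP, ⟨e1⟩, ⟨e2⟩⟩ := Groth.Agent.Lib.Seat30.LiftRep.exists_lift_rep (I := I) Pc
    (fun X hX => hX.2)
    (fun X Y hX => ⟨fun ⟨h1, h2⟩ =>
        ⟨Module.Finite.of_surjective (LinearMap.snd R X Y) LinearMap.snd_surjective,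
          Module.Projective.of_split (LinearMap.inr R X Y) (LinearMap.snd R X Y)
            (by ext; simp)⟩,
      fun ⟨h1, h2⟩ => by
        have := hX.1
        have := hX.2
        exact ⟨inferInstance, inferInstance⟩⟩)
    (fun X Y f hX hY h => by
      have := hY.1
      exact Groth.Agent.Lib.Seat30.LiftApps.surjective_of_le_jacobson hjac f.hom h)
    Q c hQc (fun i => by
      have := (hQff i).1
      have := (hQff i).2
      exact ⟨inferInstance, inferInstance⟩) E b hEb
    (fun i => by
      have := (hEp i).1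
      have := (hEp i).2
      obtain ⟨P, _, _, hPf, hPp, ⟨e⟩⟩ := Groth.Agent.S0534.result R I (E.X i)
      exact ⟨ModuleCat.of R P, ⟨hPf, hPp⟩, ⟨e⟩⟩)
    ⟨eE ≪≫ (DRing.LBaseChange (Ideal.Quotient.mk I)).mapIso eK.symm⟩
  refine ⟨P, b', hPb, fun i => hP i, ⟨e1 ≪≫ eK⟩, ⟨e2⟩, fun i hfree => ?_⟩
  have := (hP i).1
  have := (hP i).2
  have eX : TensorProduct R (R ⧸ I) (P.X i) ≃ₗ[R ⧸ I] E.X i :=
    ((HomologicalComplex.eval _ _ i).mapIso e2).toLinearEquiv
  have : Module.Free (R ⧸ I) (TensorProduct R (R ⧸ I) (P.X i)) := Module.Free.of_equiv eX.symm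
  exact Groth.Agent.Lib.Seat30.LiftApps.free_of_free_tensor hjac (P.X i)

end Groth.Agent.S6973
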