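import Groth.Statements.S6980
import Mathlib
import Groth.Agent.Lib.Seat30TwoIdeals

set_option autoImplicit false
universe u
open CategoryTheory CategoryTheory.Limits
attribute [local instance] HasDerivedCategory.standard
open DRing

namespace Groth.Agent.S6980

/-- perfectness of a derived base change only depends on the ring map up to equality -/
lemma perfect_transport {R A : Type u} [CommRing R] [CommRing A] {φ₁ φ₂ : R →+* A} (h : φ₁ = φ₂)
    [DRing.HasLBaseChange φ₁] [DRing.HasLBaseChange φ₂] (K : Dual.D R)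
    (hK : DRing.IsPerfect A ((DRing.LBaseChange φ₁).obj K)) :
    DRing.IsPerfect A ((DRing.LBaseChange φ₂).obj K) := by
  subst h
  exact hK

/-- Let R be a commutative ring, I and J ideals of R such that the derived base changes D(R) → D(R/I),
D(R/J), D(R/IJ) exist, and K an object of D(R). If K ⊗^L_R R/I is perfect in D(R/I) and K ⊗^L_R R/J
is perfect in D(R/J), then K ⊗^L_R R/IJ is perfect in D(R/IJ). -/
theorem result (R : Type u) [CommRing R] (I J : Ideal R)
    [DRing.HasLBaseChange (Ideal.Quotient.mk I)] [DRing.HasLBaseChange (Ideal.Quotient.mk J)]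
    [DRing.HasLBaseChange (Ideal.Quotient.mk (I * J))] (K : Dual.D R)
    (hI : DRing.IsPerfect (R ⧸ I) ((DRing.LBaseChange (Ideal.Quotient.mk I)).obj K))
    (hJ : DRing.IsPerfect (R ⧸ J) ((DRing.LBaseChange (Ideal.Quotient.mk J)).obj K)) :
    DRing.IsPerfect (R ⧸ (I * J)) ((DRing.LBaseChange (Ideal.Quotient.mk (I * J))).obj K) := by
  haveI hα : DRing.HasLBaseChange (Ideal.Quotient.factor (Ideal.mul_le_left : I * J ≤ I)) :=
    Groth.Agent.Lib.Seat30.HasLDer.hasLBaseChange _
  haveI hβ : DRing.HasLBaseChange (Ideal.Quotient.factor (Ideal.mul_le_right : I * J ≤ J)) :=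
    Groth.Agent.Lib.Seat30.HasLDer.hasLBaseChange _
  haveI hαc : DRing.HasLBaseChange ((Ideal.Quotient.factor (Ideal.mul_le_left : I * J ≤ I)).comp
      (Ideal.Quotient.mk (I * J))) := Groth.Agent.Lib.Seat30.HasLDer.hasLBaseChange _
  haveI hβc : DRing.HasLBaseChange ((Ideal.Quotient.factor (Ideal.mul_le_right : I * J ≤ J)).comp
      (Ideal.Quotient.mk (I * J))) := Groth.Agent.Lib.Seat30.HasLDer.hasLBaseChange _
  apply Groth.Agent.Lib.Seat30.TwoIdeals.isPerfect_of_two
    (Ideal.Quotient.factor (Ideal.mul_le_left : I * J ≤ I))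
    (Ideal.Quotient.factor (Ideal.mul_le_right : I * J ≤ J))
    (Ideal.Quotient.factor_surjective _) (Ideal.Quotient.factor_surjective _)
  · rw [Ideal.Quotient.factor_ker, Ideal.Quotient.factor_ker, ← Ideal.map_mul,
      Ideal.map_quotient_self]
  · obtain ⟨e⟩ := Groth.Agent.Lib.Seat30.TwoIdeals.nonempty_lbc_comp_iso
      (Ideal.Quotient.factor (Ideal.mul_le_left : I * J ≤ I)) (Ideal.Quotient.mk (I * J)) K
    have h1 := perfect_transport (Ideal.Quotient.factor_comp_mk (Ideal.mul_le_left : I * J ≤ I)).symm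
      K hI
    obtain ⟨E, a, b, h1, h2, ⟨e'⟩⟩ := h1
    exact ⟨E, a, b, h1, h2, ⟨e' ≪≫ e.symm⟩⟩
  · obtain ⟨e⟩ := Groth.Agent.Lib.Seat30.TwoIdeals.nonempty_lbc_comp_iso
      (Ideal.Quotient.factor (Ideal.mul_le_right : I * J ≤ J)) (Ideal.Quotient.mk (I * J)) K
    have h1 := perfect_transport (Ideal.Quotient.factor_comp_mk (Ideal.mul_le_right : I * J ≤ J)).symm
      K hJ
    obtain ⟨E, a, b, h1, h2, ⟨e'⟩⟩ := h1
    exact ⟨E, a, b, h1, h2, ⟨e' ≪≫ e.symm⟩⟩

end Groth.Agent.S6980
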