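import Groth.Statements.S6989
import Mathlib
import Groth.Agent.Lib.Helper1CompactPC
import Groth.Agent.Lib.Helper21DTrunc
import Groth.Agent.S6942
import Groth.Agent.S2066
import Groth.Agent.S6988

set_option autoImplicit false
universe u
open CategoryTheory CategoryTheory.Limits
attribute [local instance] HasDerivedCategory.standard
open DRing

namespace Groth.Agent.S6989

open DerivedCategory HomologicalComplex Groth.Agent.Lib.Helper1.Compact
open Groth.Agent.Lib.Helper21.DTrunc Groth.Agent.S6988

section aux

variable {A : Type u} [CommRing A]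

/-- the opcycles map of `toOpcycles` followed by a module map -/
lemma homologyι_comp_eq_zero (P : DRing.Cx A) (i : ℤ) {E : ModuleCat.{u} A} (q : P.opcycles i ⟶ E)
    (h : HomologicalComplex.homologyMap (toOpcycles P i ≫
      (HomologicalComplex.single (ModuleCat.{u} A) (ComplexShape.up ℤ) i).map q) i = 0) :
    P.homologyι i ≫ q = 0 := by
  set g := toOpcycles P i ≫
    (HomologicalComplex.single (ModuleCat.{u} A) (ComplexShape.up ℤ) i).map q with hg
  have h1 : HomologicalComplex.homologyMap g i ≫ (Sg i E).homologyι i =
      P.homologyι i ≫ opcyclesMap g i := homologyι_naturality _ _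
  rw [h, zero_comp] at h1
  have h2 : P.pOpcycles i ≫ opcyclesMap g i =
      P.pOpcycles i ≫ (q ≫ (singleObjXSelf (ComplexShape.up ℤ) i E).inv ≫
        (Sg i E).pOpcycles i) := by
    rw [p_opcyclesMap, hg, HomologicalComplex.comp_f, toOpcycles, toSingle_f,
      HomologicalComplex.single_map_f_self]
    simp
  have h3 : opcyclesMap g i = q ≫ (singleObjXSelf (ComplexShape.up ℤ) i E).inv ≫
        (Sg i E).pOpcycles i := (cancel_epi _).1 h2
  have h0 : (Sg i E).d (i - 1) i = 0 := HomologicalComplex.single_obj_d _ _ _ _ _
  have hiso : IsIso ((Sg i E).pOpcycles i) :=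
    (Sg i E).isIso_pOpcycles (i - 1) i (by simp) h0
  rw [h3, ← Category.assoc, ← Category.assoc] at h1
  have h4 := h1.symm
  rw [← cancel_mono ((singleObjXSelf (ComplexShape.up ℤ) i E).inv ≫ (Sg i E).pOpcycles i),
    zero_comp, ← Category.assoc]
  exact h4

end aux

/-- Let A be a Noetherian commutative ring, K an object of D(A) whose cohomology vanishes in large
degrees and whose cohomology modules are all finitely generated, m a maximal ideal of A and i an
integer such that m H^i(K) ≠ H^i(K). Then some finitely generated A-module E killed by a power of m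
receives a morphism K → E[-i] in D(A) whose induced map H^i(K) → H^i(E[-i]) is nonzero. -/
theorem result (A : Type u) [CommRing A]
    [IsNoetherianRing A] (K : Dual.D A) (hb : ∃ b : ℤ, ∀ j : ℤ, b < j → Subsingleton (Dual.HD A K j))
    (hfin : ∀ j : ℤ, Module.Finite A (Dual.HD A K j)) (m : Ideal A) [m.IsMaximal] (i : ℤ)
    (hi : m • (⊤ : Submodule A (Dual.HD A K i)) ≠ ⊤) :
    ∃ (E : Type u) (_ : AddCommGroup E) (_ : Module A E) (_ : Module.Finite A E) (n : ℕ)
      (_ : m ^ n • (⊤ : Submodule A E) = ⊥) (f : K ⟶ (shiftFunctor (Dual.D A) (-i)).obj (Dual.inD A E)),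
      (DerivedCategory.homologyFunctor (ModuleCat.{u} A) i).map f ≠ 0 := by
  classical
  -- pseudo-coherence
  have hpc : DRing.IsPseudoCoherent' A K := by
    refine ((Groth.Agent.S2066.result K).1).1 (fun m' => ?_)
    exact ((Groth.Agent.S6942.result A m' K A).1).2 ⟨hb, fun j _ => hfin j⟩
  obtain ⟨P, b, hPb, hff, ⟨e⟩⟩ := hpc
  have hsurj : Function.Surjective (P.pOpcycles i).hom :=
    (ModuleCat.epi_iff_surjective _).1 inferInstance
  have := (hff i).1
  have := (hff i).2
  have hMfin : Module.Finite A (P.opcycles i) := Module.Finite.of_surjective _ hsurj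
  -- the image of `H^i` in the opcycles
  let ι : P.homology i →ₗ[A] P.opcycles i := (P.homologyι i).hom
  have hιinj : Function.Injective ι := (ModuleCat.mono_iff_injective _).1 inferInstance
  let N : Submodule A (P.opcycles i) := LinearMap.range ι
  obtain ⟨k, hk⟩ := Ideal.exists_pow_inf_eq_pow_smul m N
  have hAR : m ^ (k + 1) • (⊤ : Submodule A (P.opcycles i)) ⊓ N ≤ m • N := by
    rw [hk (k + 1) (by lia), show k + 1 - k = 1 by lia, pow_one]
    exact Submodule.smul_mono le_rfl inf_le_right
  let W : Submodule A (P.opcycles i) := m ^ (k + 1) • (⊤ : Submodule A (P.opcycles i))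
  let q : P.opcycles i ⟶ ModuleCat.of A (P.opcycles i ⧸ W) := ModuleCat.ofHom W.mkQ
  let g : P ⟶ Sg i (ModuleCat.of A (P.opcycles i ⧸ W)) := toOpcycles P i ≫
      (HomologicalComplex.single (ModuleCat.{u} A) (ComplexShape.up ℤ) i).map q
  refine ⟨P.opcycles i ⧸ W, inferInstance, inferInstance, inferInstance, k + 1, ?_,
    e.inv ≫ Q.map g ≫ (shiftSingleIso (-i) i (by lia) (ModuleCat.of A (P.opcycles i ⧸ W))).inv, ?_⟩
  · -- killed by a power of `m`
    rw [eq_bot_iff]
    rw [Submodule.smul_le]
    intro r hr x _
    induction x using Submodule.Quotient.induction_on with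
    | _ x =>
      rw [← Submodule.Quotient.mk_smul, Submodule.mem_bot, Submodule.Quotient.mk_eq_zero]
      exact Submodule.smul_mem_smul hr Submodule.mem_top
  · intro hzero
    rw [Functor.map_comp, Functor.map_comp] at hzero
    have hz1 : (homologyFunctor (ModuleCat.{u} A) i).map (Q.map g) = 0 := by
      have h1 := hzero
      rw [← cancel_epi ((homologyFunctor (ModuleCat.{u} A) i).map e.hom),
        ← cancel_mono ((homologyFunctor (ModuleCat.{u} A) i).map
          (shiftSingleIso (-i) i (by lia) (ModuleCat.of A (P.opcycles i ⧸ W))).hom)] at h1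
      simp only [Category.assoc, comp_zero, zero_comp] at h1
      rw [← Functor.map_comp, Iso.inv_hom_id, CategoryTheory.Functor.map_id, Category.comp_id,
        ← Functor.map_comp_assoc, Iso.hom_inv_id, CategoryTheory.Functor.map_id,
        Category.id_comp] at h1
      exact h1
    rw [homologyFunctor_map_Q_eq_zero_iff] at hz1
    have hz2 : P.homologyι i ≫ q = 0 := homologyι_comp_eq_zero P i q hz1
    have hNW : N ≤ W := by
      rintro _ ⟨x, rfl⟩
      have := congrArg (fun t => t.hom x) hz2
      exact (Submodule.Quotient.mk_eq_zero W).1 this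
    have hmN : m • N = N := by
      apply le_antisymm Submodule.smul_le_right
      calc N = W ⊓ N := (inf_eq_right.2 hNW).symm
        _ ≤ m • N := hAR
    -- transport to `H^i(K)`
    apply hi
    let φ : (homologyFunctor (ModuleCat.{u} A) i).obj K ≅ P.homology i :=
      (homologyFunctor (ModuleCat.{u} A) i).mapIso e.symm ≪≫ (homologyFunctorFactors _ i).app P
    let ψ : Dual.HD A K i →ₗ[A] P.opcycles i := ι ∘ₗ φ.hom.hom
    have hψinj : Function.Injective ψ :=
      hιinj.comp ((ModuleCat.mono_iff_injective φ.hom).1 inferInstance)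
    have hψrange : LinearMap.range ψ = N := by
      rw [LinearMap.range_comp, LinearMap.range_eq_top.2
        ((ModuleCat.epi_iff_surjective φ.hom).1 inferInstance), Submodule.map_top]
    apply Submodule.map_injective_of_injective hψinj
    rw [Submodule.map_smul'', Submodule.map_top, hψrange, hmN]

end Groth.Agent.S6989
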