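import Groth.Statements.S7009
import Mathlib
import Groth.Agent.Lib.Seat30MatCx
import Groth.Agent.Lib.Seat30MatCxColim
import Groth.Agent.Lib.Helper1LBC

set_option autoImplicit false
universe u
open CategoryTheory CategoryTheory.Limits
attribute [local instance] HasDerivedCategory.standard
open DRing

namespace Groth.Agent.S7009

/-- Let (R_j) be a diagram of commutative rings over a small filtered category with colimit R, such that
the derived base change D(R_j) → D(R) exists for every j, and let K be a perfect object of D(R).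
Then there exist an index j and a perfect object K_j of D(R_j) such that K_j ⊗^L R is isomorphic to
K in D(R). -/
theorem result {J : Type u} [SmallCategory J] [IsFiltered J]
    (F : J ⥤ CommRingCat.{u}) (c : Cocone F) (hc : IsColimit c)
    [∀ j : J, DRing.HasLBaseChange (c.ι.app j).hom] (K : Dual.D c.pt) (hK : DRing.IsPerfect c.pt K) :
    ∃ (j : J) (Kj : Dual.D (F.obj j)), DRing.IsPerfect (F.obj j) Kj ∧
      Nonempty ((DRing.LBaseChange (c.ι.app j).hom).obj Kj ≅ K) := by
  obtain ⟨E, a, b, hE, hEp, ⟨eK⟩⟩ := hK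
  obtain ⟨N, d, hd, ⟨eE⟩⟩ := Groth.Agent.Lib.Seat30.MatCx.exists_dat E a b hE hEp
  obtain ⟨k, d', hd', hmap⟩ := Groth.Agent.Lib.Seat30.MatCxColim.exists_dat_lift F c hc d a b hd
  have hvan : DRing.VanishesOutside d'.cx a b := fun i hi => d'.isZero_cx_X i (hd' i hi)
  have hproj : DRing.TermwiseFiniteProjective d'.cx :=
    fun i => ⟨d'.finite_cx_X i, d'.projective_cx_X i⟩
  have hKp : d'.cx.IsKProjective :=
    Groth.Agent.Lib.Helper1.LDer.isKProjective_of_vanishesAbove d'.cx b
      (fun i hi => hvan i (Or.inr hi)) (fun i => (hproj i).2)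
  refine ⟨k, DRing.toD d'.cx, ⟨d'.cx, a, b, hvan, hproj, ⟨Iso.refl _⟩⟩, ⟨?_⟩⟩
  have e1 := Groth.Agent.Lib.Helper1.LDer.lbcIso (c.ι.app k).hom d'.cx
  have e2 : DerivedCategory.Q.obj (((ModuleCat.extendScalars.{u, u, u} (c.ι.app k).hom).mapHomologicalComplex
      (ComplexShape.up ℤ)).obj d'.cx) ≅ DerivedCategory.Q.obj (d'.map (c.ι.app k).hom).cx :=
    DerivedCategory.Q.mapIso (Groth.Agent.Lib.Seat30.MatCx.bcIso (c.ι.app k).hom d')
  rw [hmap] at e2
  exact e1 ≪≫ e2 ≪≫ DerivedCategory.Q.mapIso eE.symm ≪≫ eK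

end Groth.Agent.S7009
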