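import Groth.Statements.S7035
import Mathlib
import Groth.Agent.Lib.Seat30PdTor
import Groth.Agent.Lib.Seat30HasLDer
import Groth.Agent.Lib.Helper1RelBC
import Groth.Agent.Lib.Helper1Fibres
import Groth.Agent.S6974
import Groth.Agent.S7073

set_option autoImplicit false
universe u
open CategoryTheory CategoryTheory.Limits
attribute [local instance] HasDerivedCategory.standard
open DRing

namespace Groth.Agent.S7035

open DerivedCategory Groth.Agent.Lib.Helper1.Tor Groth.Agent.Lib.Helper1.Restrict
  Groth.Agent.Lib.Helper1.LDer Groth.Agent.Lib.Helper1.RelBC Groth.Agent.Lib.Helper1.LocalCx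
  Groth.Agent.Lib.Seat30.PdTor TensorProduct

section aux

variable {A B : Type u} [CommRing A] [CommRing B] [Algebra A B]

/-- the map `κ(p) ⊗_A B → B/m` for a maximal ideal `m` of `B` over `p` -/
noncomputable def psi (m : Ideal B) [m.IsMaximal] (p : Ideal A) [p.IsPrime]
    (hp : p = m.comap (algebraMap A B)) : p.ResidueField ⊗[A] B →ₐ[A] B ⧸ m :=
  letI : Field (B ⧸ m) := Ideal.Quotient.field m
  Algebra.TensorProduct.lift
    (Ideal.ResidueField.liftₐ p (Algebra.ofId A (B ⧸ m)) (by
      intro x hx
      rw [hp] at hx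
      rw [RingHom.mem_ker]
      show algebraMap A (B ⧸ m) x = 0
      rw [IsScalarTower.algebraMap_apply A B (B ⧸ m), Ideal.Quotient.algebraMap_eq,
        Ideal.Quotient.eq_zero_iff_mem]
      exact hx) (by
      intro x hx
      show IsUnit (algebraMap A (B ⧸ m) x)
      rw [isUnit_iff_ne_zero]
      intro h0
      apply hx
      rw [hp]
      show algebraMap A B x ∈ m
      rw [← Ideal.Quotient.eq_zero_iff_mem, ← Ideal.Quotient.algebraMap_eq,
        ← IsScalarTower.algebraMap_apply A B (B ⧸ m)]
      exact h0))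
    (IsScalarTower.toAlgHom A B (B ⧸ m)) (fun _ _ => Commute.all _ _)

lemma psi_comp (m : Ideal B) [m.IsMaximal] (p : Ideal A) [p.IsPrime]
    (hp : p = m.comap (algebraMap A B)) :
    (psi m p hp).toRingHom.comp (inr A p.ResidueField B) = Ideal.Quotient.mk m := by
  ext x
  show psi m p hp ((1 : p.ResidueField) ⊗ₜ[A] x) = _
  rw [psi, Algebra.TensorProduct.lift_tmul, map_one, one_mul]
  rfl

end aux

/-- Let A → B be a flat homomorphism of commutative rings and d a natural number such that for every
prime p of A, with residue field κ(p), every module over κ(p) ⊗_A B has projective dimension at most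
d; assume the derived tensor products - ⊗^L M exist on D(κ(p) ⊗_A B) for all p and the derived base
changes D(B) → D(B/m) exist for all ideals m of B. Let a, b be integers and K an object of D(B)
which is pseudo-coherent over B and, with scalars restricted to A, has tor amplitude in [a, b]. Then
K is perfect over B and has tor amplitude in [a - d, b] over B. -/
theorem result {A B : Type u} [CommRing A] [CommRing B] [Algebra A B]
    [Module.Flat A B] (d : ℕ)
    (hgl : ∀ (p : PrimeSpectrum A) (M : Type u) [AddCommGroup M]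
      [Module (TensorProduct A p.asIdeal.ResidueField B) M],
      HasProjectiveDimensionLT (ModuleCat.of (TensorProduct A p.asIdeal.ResidueField B) M) (d + 1))
    [∀ (p : PrimeSpectrum A) (M : ModuleCat.{u} (TensorProduct A p.asIdeal.ResidueField B)),
      DRing.HasLTensor (TensorProduct A p.asIdeal.ResidueField B) M]
    [∀ m : Ideal B, DRing.HasLBaseChange (Ideal.Quotient.mk m)] (a b : ℤ) (K : Dual.D B)
    (hK : DRing.IsPseudoCoherent' B K)
    (hKa : DRing.HasTorAmplitudeIn A a b ((DRing.restrictD (algebraMap A B)).obj K)) :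
    DRing.IsPerfect B K ∧ DRing.HasTorAmplitudeIn B (a - d) b K := by
  classical
  apply Groth.Agent.S6974.result B K hK (a - d) b
  intro m hm i hi
  haveI := hm
  -- a bounded above finite free representative
  obtain ⟨P, bP, hPb, hPf, ⟨e⟩⟩ := hK
  have hKP : P.IsKProjective := isKProjective_of_vanishesAbove P bP hPb (fun i => by
    have := (hPf i).2
    infer_instance)
  -- tensor vanishing of the restriction to `A`
  set G := (DRing.restrictCx (algebraMap A B)).obj P with hG
  have hGb : DRing.VanishesAbove G bP := fun i hi =>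
    (ModuleCat.restrictScalars.{u} (algebraMap A B)).map_isZero (hPb i hi)
  have hGf : DRing.TermwiseFlat G := fun i => by
    have := (hPf i).2
    have : Module.Flat B (P.X i) := inferInstance
    exact Groth.Agent.S7073.flat_restrictScalars A B (P.X i)
  obtain ⟨E₀, hE₀, hE₀f, ⟨e₀⟩⟩ := hKa
  have eG : Q.obj G ≅ (DRing.restrictD (algebraMap A B)).obj K :=
    (restrictQIso _ P).symm ≪≫ (DRing.restrictD (algebraMap A B)).mapIso e
  have htv : TorVan G a b := torVan_of_iso G E₀ bP hGb hGf a b hE₀ hE₀f (e₀ ≪≫ eG.symm)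
  -- the fibre over `p = m ∩ A`
  let p : Ideal A := m.comap (algebraMap A B)
  haveI : p.IsPrime := Ideal.IsPrime.comap _
  let κ := p.ResidueField
  have htv' := torVan_res_bc (R := A) (R' := κ) (A := B) P a b htv
  set G₁ := (bcCx (inr A κ B)).obj P with hG₁
  have hex₁ : ∀ j : ℤ, (j < a ∨ b < j) → G₁.ExactAt j := fun j hj =>
    (exactAt_restrict_iff _ G₁ j).1 (htv'.exactAt j hj)
  have hG₁f : DRing.TermwiseFlat G₁ := fun j => by
    have := (hPf j).2
    have : Module.Free (κ ⊗[A] B) (G₁.X j) := free_bc _ (P.X j)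
    infer_instance
  -- the residue field of `m` as a module over the fibre ring
  let ψ : κ ⊗[A] B →+* B ⧸ m := (psi m p rfl).toRingHom
  let N : ModuleCat.{u} (κ ⊗[A] B) :=
    (ModuleCat.restrictScalars.{u} ψ).obj (ModuleCat.of (B ⧸ m) (B ⧸ m))
  have hN : HasProjectiveDimensionLT N (d + 1) := hgl ⟨p, inferInstance⟩ N
  have h1 : ((TC N).obj G₁).ExactAt i :=
    exactAt_TC_of_hasProjectiveDimensionLT G₁ hG₁f a b hex₁ d N hN i hi
  have h2 : ((bcCx ψ).obj G₁).ExactAt i := (exactAt_bc_iff_TC ψ G₁ i).2 h1
  have h3 : ((bcCx (ψ.comp (inr A κ B))).obj P).ExactAt i :=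
    h2.of_iso (bcCxCompIso (inr A κ B) ψ P).symm
  have h4 : ((bcCx (Ideal.Quotient.mk m)).obj P).ExactAt i :=
    h3.of_iso (bcCxEqIso (psi_comp m p rfl) P)
  have e' : (DRing.LBaseChange (Ideal.Quotient.mk m)).obj K ≅
      Q.obj ((bcCx (Ideal.Quotient.mk m)).obj P) :=
    (DRing.LBaseChange (Ideal.Quotient.mk m)).mapIso e.symm ≪≫ lbcIso (Ideal.Quotient.mk m) P
  rw [Groth.Agent.Lib.Seat30.DerNak.exactAt_iff_isZero_homologyFunctor_Q] at h4
  exact ModuleCat.subsingleton_of_isZero
    (h4.of_iso ((homologyFunctor (ModuleCat.{u} (B ⧸ m)) i).mapIso e'))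

end Groth.Agent.S7035
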