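import Groth.Statements.S7058
import Groth.Agent.Lib.Seat31HomAlgMain
import Groth.Agent.Lib.Seat31LocRes

set_option autoImplicit false
universe u
attribute [local instance] HasDerivedCategory.standard
open CategoryTheory
open DRing

namespace Groth.Agent.S7058

/-- Let A be a commutative ring, I a finitely generated ideal, and assume the derived completion functor
(left adjoint to the inclusion of derived complete objects of D(A)) exists. If K is a cochain
complex of A-modules and some f in I acts bijectively on every term of K, then the derived
completion of K is zero. -/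
theorem result {A : Type u} [CommRing A] (I : Ideal A) (hI : I.FG)
    [DRing.HasDerivedCompletion I] (K : DRing.Cx A) (f : A) (hf : f ∈ I)
    (hK : ∀ i : ℤ, Function.Bijective (fun x : K.X i => f • x)) :
    Limits.IsZero ((DRing.derivedCompletion I).obj (DRing.toD K)).obj := by
  have hC : DRing.IsDerivedComplete I ((DRing.derivedCompletion I).obj (DRing.toD K)).obj :=
    ((DRing.derivedCompletion I).obj (DRing.toD K)).property
  have h1 : ∀ n : ℤ, Subsingleton (Dual.inD A (Localization.Away f) ⟶
      (((DRing.derivedCompletion I).obj (DRing.toD K)).obj)⟦n⟧) := hC f hf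
  obtain ⟨E, ⟨e⟩⟩ := Groth.Agent.Lib.Seat31.LocRes.exists_iso_restrictD f K hK
  have h2 := Groth.Agent.Lib.Seat31.HomAlg.subsingleton_hom_restrictD _ h1 E
  have h3 : Subsingleton (DRing.toD K ⟶ ((DRing.derivedCompletion I).obj (DRing.toD K)).obj) :=
    (Iso.homCongr e (Iso.refl _)).subsingleton
  have h4 : Subsingleton ((DRing.derivedCompletion I).obj (DRing.toD K) ⟶
      (DRing.derivedCompletion I).obj (DRing.toD K)) :=
    @Equiv.subsingleton _ _ ((DRing.derivedCompletionAdj I).homEquiv (DRing.toD K)
      ((DRing.derivedCompletion I).obj (DRing.toD K))) h3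
  have h5 : Limits.IsZero ((DRing.derivedCompletion I).obj (DRing.toD K)) :=
    (Limits.IsZero.iff_id_eq_zero _).2 (Subsingleton.elim _ _)
  exact (ObjectProperty.ι (DRing.IsDerivedComplete I)).map_isZero h5

end Groth.Agent.S7058
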