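import Groth.Statements.S7059
import Groth.Agent.Lib.Seat60DCompC
import Groth.Agent.S7049

set_option autoImplicit false
universe u
attribute [local instance] HasDerivedCategory.standard
open DRing

namespace Groth.Agent.S7059

/-- Let A be a Noetherian commutative ring, I an ideal and M an A-module which, placed in degree 0 of
D(A), is derived complete with respect to I. If M/IM is a finite module, then M is I-adically
complete, and M (identified with its I-adic completion) is a finite module over the I-adic
completion of A. -/
theorem result {A : Type u} [CommRing A]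
    [IsNoetherianRing A] (I : Ideal A) (M : Type u) [AddCommGroup M] [Module A M]
    (hc : DRing.IsDerivedComplete I (Dual.inD A M))
    (hf : Module.Finite A (M ⧸ I • (⊤ : Submodule A M))) :
    IsAdicComplete I M ∧ Module.Finite (AdicCompletion I A) (AdicCompletion I M) := by
  classical
  have hIfg : I.FG := IsNoetherian.noetherian I
  obtain ⟨s, hs⟩ := hIfg
  have hIfg : I.FG := ⟨s, hs⟩
  have hcrit : ∀ f ∈ I, Groth.Agent.Lib.Helper10.DerComplete.Crit f M :=
    (Groth.Agent.Lib.Helper10.DerComplete.isDerivedComplete_iff_crit I M).mp hc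
  have hsI : ∀ f ∈ s, f ∈ I := fun f hf => hs ▸ Ideal.subset_span hf
  -- a finite set generating `M` modulo `I M`
  obtain ⟨T', hT'⟩ := hf.fg_top
  let σ : (M ⧸ I • (⊤ : Submodule A M)) → M :=
    Function.surjInv (Submodule.mkQ_surjective (I • (⊤ : Submodule A M)))
  have hσ : ∀ x, (I • (⊤ : Submodule A M)).mkQ (σ x) = x :=
    Function.surjInv_eq (Submodule.mkQ_surjective (I • (⊤ : Submodule A M)))
  let T : Finset M := T'.image σ
  have hT : Submodule.span A (T : Set M) ⊔ I • (⊤ : Submodule A M) = ⊤ := by
    rw [sup_comm, ← Submodule.map_mkQ_eq_top, Submodule.map_span, ← hT']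
    congr 1
    ext x
    simp only [T, Finset.coe_image, Set.mem_image, Finset.mem_coe]
    constructor
    · rintro ⟨y, ⟨z, hz, rfl⟩, rfl⟩
      rw [hσ]
      exact hz
    · intro hx
      exact ⟨σ x, ⟨x, hx, rfl⟩, hσ x⟩
  -- Hausdorff
  have hH : IsHausdorff I M := by
    have := Groth.Agent.Lib.Seat60.DComp.isHausdorff_of_crit s.card A s M
      (fun f hf => hcrit f (hsI f hf)) ⟨T, by rwa [hs]⟩ s (fun f hf hnf => absurd hf hnf) le_rfl
    rwa [hs] at this
  -- precomplete
  have hsurj : Function.Surjective (AdicCompletion.of I M) := Groth.Agent.S7049.result I hIfg M hc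
  have hP : IsPrecomplete I M := AdicCompletion.of_surjective_iff.mp hsurj
  refine ⟨{ toIsHausdorff := hH, toIsPrecomplete := hP }, ?_⟩
  -- finiteness of the completion
  have : IsAdicComplete I (AdicCompletion I M) := AdicCompletion.isAdicComplete hIfg
  have : IsAdicComplete I (AdicCompletion I A) := AdicCompletion.isAdicComplete hIfg
  have hcM : ∀ f ∈ I, Groth.Agent.Lib.Helper10.DerComplete.Crit f (AdicCompletion I M) :=
    (Groth.Agent.Lib.Helper10.DerComplete.isDerivedComplete_iff_crit I _).mp
      (Groth.Agent.S7048.result I (AdicCompletion I M))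
  have hcA : ∀ f ∈ I, Groth.Agent.Lib.Helper10.DerComplete.Crit f (AdicCompletion I A) :=
    (Groth.Agent.Lib.Helper10.DerComplete.isDerivedComplete_iff_crit I _).mp
      (Groth.Agent.S7048.result I (AdicCompletion I A))
  let ψ : (T → AdicCompletion I A) →ₗ[AdicCompletion I A] AdicCompletion I M :=
    Fintype.linearCombination (AdicCompletion I A) (fun i : T => AdicCompletion.of I M (i : M))
  let ψA : (T → AdicCompletion I A) →ₗ[A] AdicCompletion I M := ψ.restrictScalars A
  have hle : (⊤ : Submodule A (AdicCompletion I M)) ≤
      LinearMap.range ψA ⊔ I • (⊤ : Submodule A (AdicCompletion I M)) := by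
    intro y _
    obtain ⟨m, rfl⟩ := hsurj y
    have hm : m ∈ Submodule.span A (T : Set M) ⊔ I • (⊤ : Submodule A M) := by
      rw [hT]
      exact Submodule.mem_top
    obtain ⟨y', hy', z, hz, rfl⟩ := Submodule.mem_sup.mp hm
    rw [map_add]
    refine Submodule.add_mem _ (Submodule.mem_sup_left ?_) (Submodule.mem_sup_right ?_)
    · have hspan : Submodule.map (AdicCompletion.of I M) (Submodule.span A (T : Set M)) ≤
          LinearMap.range ψA := by
        rw [Submodule.map_span_le]
        intro t ht
        refine ⟨Pi.single ⟨t, ht⟩ 1, ?_⟩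
        change ψ (Pi.single ⟨t, ht⟩ 1) = _
        rw [Fintype.linearCombination_apply_single, one_smul]
      exact hspan (Submodule.mem_map_of_mem hy')
    · have h2 := Submodule.mem_map_of_mem (f := AdicCompletion.of I M) hz
      rw [Submodule.map_smul''] at h2
      exact Submodule.smul_mono le_rfl le_top h2
  have hC : Subsingleton (AdicCompletion I M ⧸ LinearMap.range ψA) := by
    apply Groth.Agent.Lib.Helper10.DerComplete.subsingleton_of_crit_of_smul_top_eq_top s
    · intro f hf
      exact Groth.Agent.Lib.Helper10.DerComplete.Crit.coker ψA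
        (Groth.Agent.Lib.Helper10.DerComplete.Crit.pi _ (hcA f (hsI f hf))) (hcM f (hsI f hf))
    · rw [hs, eq_top_iff]
      have := Submodule.map_mono (f := (LinearMap.range ψA).mkQ) hle
      rw [Submodule.map_top, Submodule.range_mkQ, Submodule.map_sup, Submodule.mkQ_map_self,
        bot_sup_eq, Submodule.map_smul'', Submodule.map_top, Submodule.range_mkQ] at this
      exact this
  have hψ : Function.Surjective ψ := by
    have : LinearMap.range ψA = ⊤ := Submodule.Quotient.subsingleton_iff.mp hC
    intro y
    have hy : y ∈ LinearMap.range ψA := this ▸ Submodule.mem_top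
    obtain ⟨a, ha⟩ := hy
    exact ⟨a, ha⟩
  exact Module.Finite.of_surjective ψ hψ

end Groth.Agent.S7059
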