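-- Statement S7066.
import Groth.Statements.S7066
import Groth.Agent.Lib.Seat0PerfPres
import Groth.Agent.S6954

set_option autoImplicit false
universe u
attribute [local instance] HasDerivedCategory.standard
open DRing

namespace Groth.Agent.S7066

open Groth.Agent.Lib.Seat0.FTD Groth.Agent.Lib.Seat0.PerfHom Groth.Agent.Lib.Seat0.PerfPres
open Groth.Agent.Lib.Helper14.TorSyz Groth.Agent.Lib.Helper1.TorDim Groth.Agent.Lib.Helper1.Tor

/-- A homomorphism of commutative rings A → B is perfect, i.e. pseudo-coherent with B of finite tor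
dimension as an A-module, if and only if B is a quotient of a polynomial ring A[x_1, …, x_n] over
which B is a perfect module, i.e. B placed in degree 0 is isomorphic in the derived category of the
polynomial ring to a bounded complex of finite projective modules. -/
theorem result (A B : Type u) [CommRing A] [CommRing B] [Algebra A B] :
    MoreMor.IsPerfectHom A B ↔
      ∃ (n : ℕ) (φ : MvPolynomial (Fin n) A →ₐ[A] B), Function.Surjective φ ∧
        letI := φ.toRingHom.toAlgebra
        DRing.IsPerfectModule (MvPolynomial (Fin n) A) B := by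
  constructor
  · rintro ⟨⟨n, φ, hφ, hpc⟩, hftd⟩
    refine ⟨n, φ, hφ, ?_⟩
    have hC : φ.toRingHom.comp MvPolynomial.C = algebraMap A B := by
      ext r
      exact φ.commutes r
    have h1 : FTD φ.toRingHom := ftd_of_ftd_base _ (hC ▸ ftd_algebraMap_iff.2 hftd)
    letI := φ.toRingHom.toAlgebra
    obtain ⟨d, hd⟩ := h1
    exact (Groth.Agent.S6954.result _ _).2
      ⟨hpc, -(d : ℤ), 0, (hasTorDimLE_iff_hasTorAmp B d).1 hd⟩
  · rintro ⟨n, φ, hφ, hperf⟩
    have hC : φ.toRingHom.comp MvPolynomial.C = algebraMap A B := by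
      ext r
      exact φ.commutes r
    have h1 : FTD φ.toRingHom := by
      letI := φ.toRingHom.toAlgebra
      obtain ⟨-, a, b, hab⟩ := (Groth.Agent.S6954.result _ _).1 hperf
      refine ⟨(-a).toNat, hasTorDimLE_of_hasTorAmp B _ b (hasTorAmp_mono ?_ le_rfl hab)⟩
      have := Int.self_le_toNat (-a)
      omega
    refine ⟨⟨n, φ, hφ, ?_⟩, ftd_algebraMap_iff.1 (hC ▸ ftd_base_of_ftd _ h1)⟩
    letI := φ.toRingHom.toAlgebra
    exact ((Groth.Agent.S6954.result _ _).1 hperf).1

end Groth.Agent.S7066
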