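-- Statement S7100.
import Groth.Statements.S7100
import Groth.Agent.S7068
import Groth.Agent.Lib.Seat0PerfMor
import Groth.Agent.Lib.Seat0PCFinite

set_option autoImplicit false
universe u
attribute [local instance] HasDerivedCategory.standard
open DerCA

namespace Groth.Agent.S7100

open Groth.Agent.Lib.Seat0.PerfMor Groth.Agent.Lib.Seat0.PerfHom Groth.Agent.Lib.Seat0.PCHom
open Groth.Agent.Lib.Seat0.PCFinite Groth.Agent.Lib.Helper1.Restrict

/-- (1)⇔(4): let R → B → A be homomorphisms of commutative rings with B → A surjective and with R → B
and R → A both flat and of finite presentation. Then an object K of D(A) is pseudo-coherent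
(isomorphic in D(A) to a bounded above complex of finite free modules) if and only if its
restriction of scalars to D(B) is pseudo-coherent; and for every integer m, K is m-pseudo-coherent
if and only if its restriction of scalars to D(B) is m-pseudo-coherent. -/
theorem result (R B A : Type u) [CommRing R] [CommRing B] [CommRing A]
    [Algebra R B] [Algebra R A] [Algebra B A] [IsScalarTower R B A]
    (hφ : Function.Surjective (algebraMap B A))
    [Module.Flat R B] [Algebra.FinitePresentation R B] [Module.Flat R A] [Algebra.FinitePresentation R A]
    (K : Dual.D A) :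
    (DRing.IsPseudoCoherent' A K ↔ DRing.IsPseudoCoherent' B ((DRing.restrictD (algebraMap B A)).obj K)) ∧
      ∀ m : ℤ, (DRing.IsPseudoCoherent A m K ↔
        DRing.IsPseudoCoherent B m ((DRing.restrictD (algebraMap B A)).obj K)) := by
  have h1 : PCH (algebraMap R B) := (isPseudoCoherentHom_iff).1 (Groth.Agent.S7068.result R B).1
  have h2 : PCH (algebraMap R A) := (isPseudoCoherentHom_iff).1 (Groth.Agent.S7068.result R A).1
  rw [IsScalarTower.algebraMap_eq R B A] at h2
  have h3 : PCH (algebraMap B A) := pch_cancel h1 h2
  have h4 : BPC (algebraMap B A) :=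
    (pch_iff_bpc_of_finite _ (RingHom.Finite.of_surjective _ hφ)).1 h3
  exact ⟨isPC'_restrictD_iff _ h4 K, fun m => isPC_restrictD_iff _ h4 K m⟩

end Groth.Agent.S7100
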