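import Groth.Statements.S7139
import Groth.Agent.Lib.Seat95Inertia

set_option autoImplicit false
universe u
open EtAlg

namespace Groth.Agent.S7139

open Ideal Pointwise

theorem aux (A K L B : Type u) [CommRing A] [IsDomain A]
    [IsDiscreteValuationRing A] [Field K] [Field L] [Algebra A K] [IsFractionRing A K] [Algebra K L]
    [Algebra A L] [IsScalarTower A K L] [FiniteDimensional K L] [IsGalois K L]
    [CommRing B] [Algebra A B] [Algebra B L] [IsScalarTower A B L] [IsIntegralClosure B A L]
    [MulSemiringAction (L ≃ₐ[K] L) B]
    (hact : ∀ (σ : L ≃ₐ[K] L) (b : B), algebraMap B L (σ • b) = σ (algebraMap B L b))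
    (m : Ideal B) [m.IsMaximal] (F : IntermediateField K L)
    (hF : F = IntermediateField.fixedField (m.inertia (L ≃ₐ[K] L)))
    (B' : Type u) [CommRing B'] [Algebra A B'] [Algebra B' B] [IsScalarTower A B' B] [Algebra B' L]
    [IsScalarTower B' B L]
    [Algebra B' F] [IsScalarTower B' F L] [IsIntegralClosure B' A F] :
    (∀ b : B, (∀ σ ∈ m.inertia (L ≃ₐ[K] L), σ • b = b) ↔ b ∈ Set.range (algebraMap B' B)) ∧
      Algebra.Etale A (Localization.AtPrime (m.comap (algebraMap B' B))) := by
  have hBL : Function.Injective (algebraMap B L) := IsIntegralClosure.algebraMap_injective B A L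
  have hB'F : Function.Injective (algebraMap B' F) := IsIntegralClosure.algebraMap_injective B' A F
  have hFL : Function.Injective (algebraMap F L) := (algebraMap F L).injective
  have hmemF : ∀ y : L, y ∈ F ↔ ∀ σ ∈ m.inertia (L ≃ₐ[K] L), σ y = y := by
    intro y
    rw [hF, IntermediateField.mem_fixedField_iff]
  have : IsScalarTower A F L := .of_algebraMap_eq fun a => rfl
  have htower : IsScalarTower A B' F := by
    refine .of_algebraMap_eq fun a => hFL ?_
    rw [← IsScalarTower.algebraMap_apply B' F L, IsScalarTower.algebraMap_apply B' B L,
      ← IsScalarTower.algebraMap_apply A B' B, ← IsScalarTower.algebraMap_apply A B L,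
      ← IsScalarTower.algebraMap_apply A F L]
  -- part (1)
  have part1 : ∀ b : B, (∀ σ ∈ m.inertia (L ≃ₐ[K] L), σ • b = b) ↔
      b ∈ Set.range (algebraMap B' B) := by
    intro b
    constructor
    · intro hb
      have hx : algebraMap B L b ∈ F := by
        rw [hmemF]
        intro σ hσ
        rw [← hact, hb σ hσ]
      have hint : IsIntegral A (⟨algebraMap B L b, hx⟩ : F) := by
        have h1 : IsIntegral A (algebraMap B L b) :=
          (IsIntegralClosure.isIntegral A L b).algebraMap
        exact (isIntegral_algebraMap_iff (A := F) (B := L) hFL).mp h1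
      obtain ⟨b', hb'⟩ := (IsIntegralClosure.isIntegral_iff (A := B') (R := A) (B := F)).mp hint
      refine ⟨b', hBL ?_⟩
      rw [← IsScalarTower.algebraMap_apply B' B L, IsScalarTower.algebraMap_apply B' F L, hb']
      rfl
    · rintro ⟨b', rfl⟩ σ hσ
      apply hBL
      rw [hact, ← IsScalarTower.algebraMap_apply B' B L, IsScalarTower.algebraMap_apply B' F L]
      exact (hmemF _).mp (algebraMap B' F b').2 σ hσ
  refine ⟨part1, ?_⟩
  -- part (2): instances
  have : IsDomain B := hBL.isDomain _
  have hB'L : Function.Injective (algebraMap B' L) := by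
    rw [IsScalarTower.algebraMap_eq B' F L]; exact hFL.comp hB'F
  have : IsDomain B' := hB'L.isDomain _
  have hB'B : Function.Injective (algebraMap B' B) := by
    have h : (algebraMap B' L) = (algebraMap B L).comp (algebraMap B' B) :=
      IsScalarTower.algebraMap_eq ..
    refine Function.Injective.of_comp (f := algebraMap B L) ?_
    rw [← RingHom.coe_comp, ← h]; exact hB'L
  have : Module.Finite A B := IsIntegralClosure.finite A K L B
  have : Module.Finite A B' := IsIntegralClosure.finite A K F B'
  have : Module.Finite B' B := Module.Finite.of_restrictScalars_finite A B' B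
  have : IsDedekindDomain B := IsIntegralClosure.isDedekindDomain A K L B
  have : IsDedekindDomain B' := IsIntegralClosure.isDedekindDomain A K F B'
  have : IsFractionRing B L := IsIntegralClosure.isFractionRing_of_finite_extension A K L B
  have : IsFractionRing B' F := IsIntegralClosure.isFractionRing_of_finite_extension A K F B'
  have : SMulDistribClass (L ≃ₐ[K] L) B L := ⟨fun σ b l => by simp [Algebra.smul_def, hact]⟩
  have : IsGaloisGroup (L ≃ₐ[K] L) A B := .of_isFractionRing _ _ _ K L
  have hGal : IsGaloisGroup (m.inertia (L ≃ₐ[K] L)) F L := by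
    subst hF
    exact IsGaloisGroup.subgroup _ K L _
  have : IsGaloisGroup (m.inertia (L ≃ₐ[K] L)) B' B := .of_isFractionRing _ _ _ F L
  have hAB : Function.Injective (algebraMap A B) := by
    have h : (algebraMap A L) = (algebraMap B L).comp (algebraMap A B) :=
      IsScalarTower.algebraMap_eq ..
    refine Function.Injective.of_comp (f := algebraMap B L) ?_
    rw [← RingHom.coe_comp, ← h, IsScalarTower.algebraMap_eq A K L]
    exact (algebraMap K L).injective.comp (IsFractionRing.injective A K)
  have : FaithfulSMul A B := (faithfulSMul_iff_algebraMap_injective A B).mpr hAB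
  have : FaithfulSMul B' B := (faithfulSMul_iff_algebraMap_injective B' B).mpr hB'B
  have : Module.IsTorsionFree A B := inferInstance
  have : Module.IsTorsionFree B' B := inferInstance
  have : Module.Flat A B := inferInstance
  have : Module.Flat B' B := inferInstance
  have : (m.comap (algebraMap B' B)).IsMaximal :=
    Ideal.isMaximal_comap_of_isIntegral_of_isMaximal (R := B') m
  have : m.LiesOver (m.comap (algebraMap B' B)) := ⟨rfl⟩
  have : (m.comap (algebraMap B' B)).LiesOver (IsLocalRing.maximalIdeal A) :=
    ⟨(IsLocalRing.eq_maximalIdeal (Ideal.isMaximal_comap_of_isIntegral_of_isMaximal (R := A)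
      (m.comap (algebraMap B' B)))).symm⟩
  have : m.LiesOver (IsLocalRing.maximalIdeal A) :=
    .trans m (m.comap (algebraMap B' B)) (IsLocalRing.maximalIdeal A)
  have hunr : Algebra.IsUnramifiedAt A (m.comap (algebraMap B' B)) := by
    let := Localization.AtPrime.algebraOfLiesOver (IsLocalRing.maximalIdeal A)
      (m.comap (algebraMap B' B))
    exact Groth.Agent.Lib.Seat95.Inertia.isUnramifiedAt_of_isGaloisGroup_inertia (L ≃ₐ[K] L)
      (IsLocalRing.maximalIdeal A) (m.comap (algebraMap B' B)) m
  -- formally etale
  have hfe : Algebra.FormallyEtale A (Localization.AtPrime (m.comap (algebraMap B' B))) := by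
    have : IsLocalHom (algebraMap A (Localization.AtPrime (m.comap (algebraMap B' B)))) := by
      refine ⟨fun a ha => ?_⟩
      rw [IsScalarTower.algebraMap_apply A B' (Localization.AtPrime (m.comap (algebraMap B' B))),
        IsLocalization.AtPrime.isUnit_to_map_iff _ (m.comap (algebraMap B' B))] at ha
      by_contra h
      have h2 : a ∈ IsLocalRing.maximalIdeal A := (IsLocalRing.mem_maximalIdeal a).mpr h
      rw [(m.comap (algebraMap B' B)).over_def (IsLocalRing.maximalIdeal A)] at h2
      exact ha h2
    have hAB' : Function.Injective (algebraMap A B') := by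
      have h : (algebraMap A B) = (algebraMap B' B).comp (algebraMap A B') :=
        IsScalarTower.algebraMap_eq ..
      refine Function.Injective.of_comp (f := algebraMap B' B) ?_
      rw [← RingHom.coe_comp, ← h]; exact hAB
    have : FaithfulSMul A B' := (faithfulSMul_iff_algebraMap_injective A B').mpr hAB'
    have : Module.IsTorsionFree A B' := inferInstance
    have : Module.Flat A B' := inferInstance
    have : Module.Flat B' (Localization.AtPrime (m.comap (algebraMap B' B))) :=
      IsLocalization.flat _ (m.comap (algebraMap B' B)).primeCompl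
    have : Module.Flat A (Localization.AtPrime (m.comap (algebraMap B' B))) :=
      .trans A B' _
    have : Algebra.FinitePresentation A B' := Algebra.FinitePresentation.of_finiteType.mp inferInstance
    have hfu : Algebra.FormallyUnramified A (Localization.AtPrime (m.comap (algebraMap B' B))) :=
      hunr
    have : Algebra.EssFiniteType A (Localization.AtPrime (m.comap (algebraMap B' B))) :=
      .comp A B' _
    have : Algebra.FormallySmooth (IsLocalRing.ResidueField A)
        (TensorProduct A (IsLocalRing.ResidueField A)
          (Localization.AtPrime (m.comap (algebraMap B' B)))) :=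
      have := Algebra.FormallyEtale.of_formallyUnramified_of_field
        (K := IsLocalRing.ResidueField A)
        (A := (TensorProduct A (IsLocalRing.ResidueField A)
          (Localization.AtPrime (m.comap (algebraMap B' B)))))
      inferInstance
    have : Algebra.FormallySmooth A (Localization.AtPrime (m.comap (algebraMap B' B))) :=
      Algebra.FormallySmooth.of_formallySmooth_residueField_tensor (R := A) (P := B')
        (m.comap (algebraMap B' B)).primeCompl
    exact Algebra.FormallyEtale.iff_formallyUnramified_and_formallySmooth.2
      ⟨inferInstance, inferInstance⟩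
  -- finite presentation
  have hfin : {Q : Ideal B' | Q.IsMaximal}.Finite := by
    refine (Algebra.QuasiFinite.finite_primesOver (S := B') (IsLocalRing.maximalIdeal A)).subset ?_
    intro Q hQ
    have hQ' : Q.IsMaximal := hQ
    exact ⟨hQ'.isPrime, ⟨(IsLocalRing.eq_maximalIdeal
      (Ideal.isMaximal_comap_of_isIntegral_of_isMaximal (R := A) Q)).symm⟩⟩
  have hfp1 : Algebra.FinitePresentation B' (Localization.AtPrime (m.comap (algebraMap B' B))) :=
    Groth.Agent.Lib.Seat95.Inertia.finitePresentation_localization_atPrime _ hfin
  have hfp2 : Algebra.FinitePresentation A B' :=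
    Algebra.FinitePresentation.of_finiteType.mp inferInstance
  have hfp : Algebra.FinitePresentation A (Localization.AtPrime (m.comap (algebraMap B' B))) :=
    .trans A B' _
  exact ⟨hfe, hfp⟩

/-- A is a discrete valuation ring, K its field of fractions, and L/K is finite Galois with Galois group
G. Write B for the integral closure of A in L, equipped with the induced G-action, m a maximal ideal
of B and I ⊆ G its inertia group. Denote by B' the integral closure of A inside the fixed field L^I,
with a map to B compatible with L^I ⊆ L. Then the image of B' in B is the ring of invariants B^I,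
and A → B'_{m'} is étale, where m' = m ∩ B'. -/
theorem result (A K L B : Type u) [CommRing A] [IsDomain A]
    [IsDiscreteValuationRing A] [Field K] [Field L] [Algebra A K] [IsFractionRing A K] [Algebra K L]
    [Algebra A L] [IsScalarTower A K L] [FiniteDimensional K L] [IsGalois K L]
    [CommRing B] [Algebra A B] [Algebra B L] [IsScalarTower A B L] [IsIntegralClosure B A L]
    [MulSemiringAction (L ≃ₐ[K] L) B]
    (hact : ∀ (σ : L ≃ₐ[K] L) (b : B), algebraMap B L (σ • b) = σ (algebraMap B L b))
    (m : Ideal B) [m.IsMaximal]
    (B' : Type u) [CommRing B'] [Algebra A B'] [Algebra B' B] [IsScalarTower A B' B] [Algebra B' L]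
    [IsScalarTower B' B L]
    [Algebra B' (IntermediateField.fixedField (m.inertia (L ≃ₐ[K] L)))]
    [IsScalarTower B' (IntermediateField.fixedField (m.inertia (L ≃ₐ[K] L))) L]
    [IsIntegralClosure B' A (IntermediateField.fixedField (m.inertia (L ≃ₐ[K] L)))] :
    (∀ b : B, (∀ σ ∈ m.inertia (L ≃ₐ[K] L), σ • b = b) ↔ b ∈ Set.range (algebraMap B' B)) ∧
      Algebra.Etale A (Localization.AtPrime (m.comap (algebraMap B' B))) :=
  aux A K L B hact m _ rfl B'

end Groth.Agent.S7139
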