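import Groth.Statements.S7143
import Mathlib.RingTheory.Valuation.LocalSubring
import Mathlib.RingTheory.Flat.EquationalCriterion
import Mathlib.RingTheory.Flat.Localization
import Mathlib.Algebra.Category.Ring.Instances
import Mathlib.Algebra.Group.Pi.Units

set_option autoImplicit false
universe u
open CategoryTheory
open EtAlg

namespace Groth.Agent.S7143

section aux

/-- Among finitely many elements of a valuation ring, one divides all the others. -/
theorem exists_dvd_all {V : Type*} [CommRing V] [IsDomain V] [ValuationRing V] :
    ∀ (l : ℕ) (x : Fin (l + 1) → V), ∃ m, ∀ i, x m ∣ x i := by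
  intro l
  induction l with
  | zero =>
    intro x
    refine ⟨0, fun i => ?_⟩
    have : i = 0 := Fin.ext (by omega)
    rw [this]
  | succ l ih =>
    intro x
    obtain ⟨m, hm⟩ := ih (fun i => x (Fin.castSucc i))
    rcases ValuationRing.dvd_total (x (Fin.castSucc m)) (x (Fin.last _)) with h | h
    · refine ⟨Fin.castSucc m, fun i => ?_⟩
      refine Fin.lastCases h (fun i' => hm i') i
    · refine ⟨Fin.last _, fun i => ?_⟩
      refine Fin.lastCases (dvd_refl _) (fun i' => h.trans (hm i')) i

variable {K : Type u} [Field K] {J : Type u} (W : J → ValuationSubring K)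

/-- Every ideal of a product of valuation rings is flat. -/
theorem flat_ideal (I : Ideal (∀ j, W j)) : Module.Flat (∀ j, W j) I := by
  classical
  rw [Module.Flat.iff_forall_isTrivialRelation]
  intro l f x hfx
  rcases l with _ | l
  · exact ⟨0, fun i => i.elim0, Fin.elim0, fun i => i.elim0, fun j => j.elim0⟩
  · have hm : ∀ j, ∃ m : Fin (l + 1), ∀ i,
        ((x m : ∀ j, W j) j) ∣ ((x i : ∀ j, W j) j) :=
      fun j => exists_dvd_all l (fun i => (x i : ∀ j, W j) j)
    choose m hm using hm
    have hq : ∀ i j, ∃ q : W j, (x i : ∀ j, W j) j = q * (x (m j) : ∀ j, W j) j ∧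
        ((x (m j) : ∀ j, W j) j = 0 → q = 0) := by
      intro i j
      by_cases h0 : (x (m j) : ∀ j, W j) j = 0
      · refine ⟨0, ?_, fun _ => rfl⟩
        obtain ⟨q, hq⟩ := hm j i
        rw [hq, h0]
        simp
      · obtain ⟨q, hq⟩ := hm j i
        exact ⟨q, by rw [hq, mul_comm], fun h => absurd h h0⟩
    choose a ha ha0 using hq
    let c : ∀ j, W j := fun j => (x (m j) : ∀ j, W j) j
    have hcI : c ∈ I := by
      have hc : c = ∑ i, (fun j => if m j = i then (1 : W j) else 0) * (x i : ∀ j, W j) := by
        funext j
        simp only [c, Finset.sum_apply, Pi.mul_apply, ite_mul, one_mul, zero_mul]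
        rw [Finset.sum_ite_eq]
        simp
      rw [hc]
      exact I.sum_mem (fun i _ => I.mul_mem_left _ (x i).2)
    refine ⟨1, fun i _ => a i, fun _ => ⟨c, hcI⟩, ?_, ?_⟩
    · intro i
      apply Subtype.ext
      funext j
      simpa [c] using ha i j
    · intro _
      funext j
      simp only [Finset.sum_apply, Pi.mul_apply, Pi.zero_apply]
      by_cases h0 : c j = 0
      · refine Finset.sum_eq_zero (fun i _ => ?_)
        rw [ha0 i j h0, mul_zero]
      · have h1 := congrFun (congrArg Subtype.val hfx) j
        simp only [Submodule.coe_sum, Submodule.coe_smul, smul_eq_mul, Finset.sum_apply,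
          Pi.mul_apply, ZeroMemClass.coe_zero, Pi.zero_apply] at h1
        have h2 : (∑ i, f i j * a i j) * c j = 0 := by
          rw [Finset.sum_mul, ← h1]
          refine Finset.sum_congr rfl (fun i _ => ?_)
          rw [ha i j]
          ring
        exact (mul_eq_zero.mp h2).resolve_right h0

/-- The componentwise inclusion of a product of valuation subrings into the product of copies of
the field. -/
def incl : (∀ j, W j) →+* (J → K) :=
  RingHom.pi (fun j => (W j).subtype.comp (Pi.evalRingHom (fun j => W j) j))

@[simp] theorem incl_apply (v : ∀ j, W j) (j : J) : incl W v j = (v j : K) := rfl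

theorem incl_injective : Function.Injective (incl W) := by
  intro v w h
  funext j
  exact Subtype.ext (congrFun h j)

/-- The submonoid of elements all of whose components are nonzero. -/
def nz : Submonoid (∀ j, W j) where
  carrier := {v | ∀ j, v j ≠ 0}
  one_mem' := fun j => one_ne_zero
  mul_mem' := fun {a b} ha hb j => mul_ne_zero (ha j) (hb j)

theorem isLocalization_incl :
    @IsLocalization _ _ (nz W) (J → K) _ (incl W).toAlgebra := by
  classical
  let _ := (incl W).toAlgebra
  refine ⟨?_, ?_, ?_⟩
  · rintro ⟨s, hs⟩
    change IsUnit (incl W s)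
    rw [Pi.isUnit_iff]
    intro j
    rw [isUnit_iff_ne_zero, incl_apply]
    exact fun h => hs j (Subtype.ext h)
  · intro z
    have hz : ∀ j, ∃ (v s : W j), s ≠ 0 ∧ z j * (s : K) = (v : K) := by
      intro j
      rcases (W j).mem_or_inv_mem (z j) with h | h
      · exact ⟨⟨z j, h⟩, 1, one_ne_zero, by simp⟩
      · by_cases h0 : z j = 0
        · exact ⟨0, 1, one_ne_zero, by simp [h0]⟩
        · refine ⟨1, ⟨(z j)⁻¹, h⟩, fun h' => ?_, by simp [h0]⟩
          exact inv_ne_zero h0 (congrArg Subtype.val h')
    choose v s hs hvs using hz
    refine ⟨(v, ⟨s, hs⟩), ?_⟩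
    funext j
    exact hvs j
  · intro a b hab
    exact ⟨1, by rw [incl_injective W hab]⟩

end aux

/-- Every normal domain A with fraction field K is the fibre product V ×_L K for suitable rings V and L
with maps A → V, V → L, K → L (together with the given A → K), where every ideal of V is flat (weak
dimension at most one) and V → L is flat, injective and an epimorphism of rings. -/
theorem result (A K : Type u) [CommRing A] [IsDomain A] [Field K] [Algebra A K]
    [IsFractionRing A K] [IsIntegrallyClosed A] :
    ∃ (V L : Type u) (_ : CommRing V) (_ : CommRing L) (f : A →+* V) (g : V →+* L) (h : K →+* L),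
      g.comp f = h.comp (algebraMap A K) ∧
      (∀ I : Ideal V, Module.Flat V I) ∧ g.Flat ∧ Function.Injective g ∧ Epi (CommRingCat.ofHom g) ∧
      ∀ (v : V) (k : K), g v = h k → ∃! a : A, f a = v ∧ algebraMap A K a = k := by
  classical
  let R₀ : Subring K := (integralClosure A K).toSubring
  let J : Type u := {W : ValuationSubring K // R₀ ≤ W.toSubring}
  let W : J → ValuationSubring K := fun j => j.1
  have hmem : ∀ (a : A) (j : J), algebraMap A K a ∈ W j :=
    fun a j => j.2 (algebraMap_mem (integralClosure A K) a)
  let f : A →+* (∀ j, W j) :=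
    RingHom.pi (fun j => (algebraMap A K).codRestrict (W j).toSubring (fun a => hmem a j))
  refine ⟨∀ j, W j, J → K, inferInstance, inferInstance, f, incl W,
    RingHom.pi (fun _ => RingHom.id K), ?_, flat_ideal W, ?_, incl_injective W, ?_, ?_⟩
  · ext a j
    rfl
  · let _ := (incl W).toAlgebra
    have := isLocalization_incl W
    exact IsLocalization.flat (J → K) (nz W)
  · let _ := (incl W).toAlgebra
    have := isLocalization_incl W
    exact IsLocalization.epi (nz W) (J → K)
  · intro v k hvk
    have hk : ∀ j : J, k ∈ W j := by
      intro j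
      have := congrFun hvk j
      simp only [incl_apply, RingHom.pi_apply, RingHom.id_apply] at this
      rw [← this]
      exact (v j).2
    have hkR : k ∈ R₀ := by
      by_contra hkR
      obtain ⟨V', hV', hkV'⟩ := Subring.exists_le_valuationSubring_of_isIntegrallyClosedIn hkR
      exact hkV' (hk ⟨V', hV'⟩)
    obtain ⟨a, rfl⟩ := (isIntegrallyClosed_iff K).mp ‹IsIntegrallyClosed A› hkR
    refine ⟨a, ⟨?_, rfl⟩, fun b hb => IsFractionRing.injective A K hb.2⟩
    apply incl_injective W
    rw [hvk]
    funext j
    rfl

end Groth.Agent.S7143
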