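import Groth.Statements.S7156
import Groth.Agent.Lib.Seat10InsepA
import Groth.Agent.Lib.Seat10InsepC
import Groth.Agent.Lib.Seat10InsepF
import Groth.Agent.Lib.Seat10InsepJ
import Groth.Agent.Lib.Seat10TowerQ
import Groth.Agent.Lib.Seat10TowerC
import Groth.Agent.S7157

set_option autoImplicit false
universe u
open EtAlg

namespace Groth.Agent.S7156

open TensorProduct in
/-- Let A → B → C be injective local homomorphisms of discrete valuation rings whose fields of fractions
are K ⊆ L ⊆ M, and let π be a uniformizer of A; suppose B is a Nagata ring, A → B is weakly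
unramified, and M/L is purely inseparable of prime degree p. Then one of the following holds: the
extension A → C is itself weakly unramified; or else C = B[π^(1/p)]; or else there is a separable
degree-p extension K₁/K, totally ramified with respect to A, for which L ⊗_K K₁ and M ⊗_K K₁ are
fields and the integral closures A₁ → B₁ → C₁ are weakly unramified extensions, i.e. K₁ is a weak
solution for A ⊆ B and for A ⊆ C. -/
theorem result (p : ℕ) (hp : p.Prime) (A B C K L M : Type u)
    [CommRing A] [IsDomain A] [IsDiscreteValuationRing A] [CommRing B] [IsDomain B] [IsDiscreteValuationRing B]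
    [CommRing C] [IsDomain C] [IsDiscreteValuationRing C]
    [Algebra A B] [Algebra B C] [Algebra A C] [IsScalarTower A B C]
    (hAB : Function.Injective (algebraMap A B)) (hBC : Function.Injective (algebraMap B C))
    [IsLocalHom (algebraMap A B)] [IsLocalHom (algebraMap B C)]
    [Field K] [Field L] [Field M] [Algebra A K] [IsFractionRing A K] [Algebra B L] [IsFractionRing B L]
    [Algebra C M] [IsFractionRing C M] [Algebra K L] [Algebra L M] [Algebra K M] [IsScalarTower K L M]
    [Algebra A L] [IsScalarTower A K L] [IsScalarTower A B L] [Algebra B M] [IsScalarTower B L M] [IsScalarTower B C M]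
    [Algebra A M] [IsScalarTower A K M] [IsScalarTower A C M]
    (π : A) (hπ : IsLocalRing.maximalIdeal A = Ideal.span {π}) (hB : CAlg.IsNagata B)
    (hw : EtRam.IsWeaklyUnramified A B) [IsPurelyInseparable L M] (hdeg : Module.finrank L M = p) :
    EtRam.IsWeaklyUnramified A C ∨
      (∃ c : C, c ^ p = algebraMap A C π ∧ Algebra.adjoin B {c} = ⊤) ∨
      ∃ (K₁ : Type u) (_ : Field K₁) (_ : Algebra K K₁),
        Module.finrank K K₁ = p ∧ Algebra.IsSeparable K K₁ ∧
          EtRam.IsTotallyRamified A ((algebraMap K K₁).comp (algebraMap A K)) ∧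
          IsField (L ⊗[K] K₁) ∧ IsField (M ⊗[K] K₁) ∧
          EtRam.IsWeakSolution B K L K₁ ∧ EtRam.IsWeakSolution C K M K₁ := by
  classical
  have hchar : CharP L p := Groth.Agent.Lib.Seat10.Insep.charP_of_finrank (L := L) (M := M) p hp hdeg
  have hπB : Irreducible (algebraMap A B π) := by
    rw [IsDiscreteValuationRing.irreducible_iff_uniformizer]
    unfold EtRam.IsWeaklyUnramified at hw
    rw [← hw, hπ, Ideal.map_span, Set.image_singleton]
  rcases Groth.Agent.Lib.Seat10.Insep.ramification_dichotomy (L := L) (M := M) p hp hdeg hBC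
    (algebraMap A B π) hπB with h1 | ⟨ϖ, u, hϖirr, hϖp⟩
  · left
    unfold EtRam.IsWeaklyUnramified
    rw [hπ, Ideal.map_span, Set.image_singleton, IsScalarTower.algebraMap_apply A B C, h1]
  right
  have hN2 : CAlg.IsN2 B := by
    have h1 : CAlg.IsN2 (B ⧸ (⊥ : Ideal B)) := hB.2 ⊥
    exact Groth.Agent.Lib.Helper14.isN2_of_ringEquiv (RingEquiv.quotientBot B) h1
  have hϖM : (algebraMap C M ϖ) ^ p = algebraMap B M ((u : B) * algebraMap A B π) := by
    rw [← map_pow, hϖp, ← IsScalarTower.algebraMap_apply]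
  have hϖL : ∀ l : L, algebraMap L M l ≠ algebraMap C M ϖ := by
    intro l hl
    obtain ⟨b', hb'⟩ := Groth.Agent.Lib.Seat10.Insep.exists_of_algebraMap_eq (B := B) l ϖ hl
    have h1 : algebraMap B C b' = ϖ := by
      apply IsFractionRing.injective C M
      rw [← hl, ← hb', ← IsScalarTower.algebraMap_apply, ← IsScalarTower.algebraMap_apply]
    have h2 : (u : B) * algebraMap A B π = b' * b' ^ (p - 1) := by
      apply hBC
      rw [← hϖp, ← h1, ← map_pow, ← pow_succ', Nat.sub_add_cancel hp.pos]
    have hb'nu : ¬ IsUnit b' := fun h => hϖirr.not_isUnit (h1 ▸ h.map (algebraMap B C))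
    have h3 : Irreducible ((u : B) * algebraMap A B π) := (irreducible_units_mul u).mpr hπB
    rcases h3.isUnit_or_isUnit h2 with h4 | h4
    · exact hb'nu h4
    · have : p - 1 ≠ 0 := by have := hp.two_le; omega
      exact hb'nu ((isUnit_pow_iff this).mp h4)
  rcases Groth.Agent.Lib.Seat10.Insep.exists_root_or_expansion hN2 p hp hdeg (algebraMap A B π) hπB u
    (algebraMap C M ϖ) hϖM hϖL with ⟨θ, hθ⟩ | ⟨m, f, b, hu, hb⟩
  · left
    obtain ⟨c, hc, hadj⟩ := Groth.Agent.Lib.Seat10.Insep.exists_root_adjoin (L := L) (M := M) p hp hdeg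
      hBC (algebraMap A B π) hπB ϖ u hϖirr hϖp θ hθ
    exact ⟨c, by rw [hc, ← IsScalarTower.algebraMap_apply], hadj⟩
  right
  -- the residue characteristic
  have hinjAL : Function.Injective (algebraMap A L) := by
    rw [IsScalarTower.algebraMap_eq A K L]
    exact (algebraMap K L).injective.comp (IsFractionRing.injective A K)
  have hcharA : CharP A p := ((algebraMap A L).charP_iff hinjAL p).mpr hchar
  have hcharRes : CharP (IsLocalRing.ResidueField A) p := by
    rw [CharP.charP_iff_prime_eq_zero hp]
    have h1 : IsLocalRing.residue A (p : A) = 0 := by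
      rw [CharP.cast_eq_zero A p, map_zero]
    rwa [map_natCast] at h1
  obtain ⟨K₁, hK₁f, hK₁a, hK₁aA, hK₁t, hfr, hsep, htr, π₁, b₁, b₁', hπ₁int, hb₁int, -, hπ₁eq, -⟩ :=
    Groth.Agent.S7157.result p hp A K π hπ (m + 2) (by omega) 1
  rw [pow_one] at hfr hπ₁eq
  have hfinK₁ : FiniteDimensional K K₁ :=
    Module.finite_of_finrank_pos (by rw [hfr]; exact hp.pos)
  have htr' : EtRam.IsTotallyRamified A ((algebraMap K K₁).comp (algebraMap A K)) := by
    rw [← IsScalarTower.algebraMap_eq A K K₁]
    exact htr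
  have hcore := fun (M' : Type u) [Field M'] [Algebra K M'] [Algebra M M'] [Algebra K₁ M']
      [IsScalarTower K M M'] [IsScalarTower K K₁ M'] =>
    Groth.Agent.Lib.Seat10.Insep.concrete_core p hp A B C K L M hdeg π hπB u m f b hu hb ϖ hϖp K₁ hfr
      π₁ b₁ hπ₁int hb₁int hπ₁eq M'
  refine ⟨K₁, hK₁f, hK₁a, hfr, hsep, htr', ?_, ?_, ?_, ?_⟩
  · exact Groth.Agent.Lib.Seat10.Tower.isField_tensor_of_totallyRamified A B K L hw K₁ htr'
  · apply Groth.Agent.Lib.Seat10.Insep.isField_tensor_of_forall_le_finrank K M K₁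
    intro M' _ _ _ _ _ _ hadj
    obtain ⟨W, hW⟩ := Groth.Agent.Lib.Seat10.Insep.exists_dominates (C := C)
      ((algebraMap M M').comp (algebraMap C M))
    rw [hfr]
    exact (hcore M' hadj W hW).2.2.2
  · exact Groth.Agent.Lib.Seat10.Tower.isWeakSolution_of_residue_surjective A B K L hw K₁ htr'.2.2
  · intro M' _ _ _ _ _ _ hadj W hW
    rw [Groth.Agent.Lib.Seat10.Tower.isWeaklyUnramified_iff]
    obtain ⟨h1, h2, h3, -⟩ := hcore M' hadj W hW
    intro w hw' hlt
    exact ⟨π₁, h1, h2, h3 w hw' hlt⟩

end Groth.Agent.S7156
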