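import Groth.Statements.S7159
import Groth.Agent.Lib.Seat10DomL
import Groth.Agent.Lib.Seat10DomM
import Groth.Agent.Lib.Seat10KumA
import Groth.Agent.Lib.Seat10KumB

set_option autoImplicit false
universe u
open EtAlg

namespace Groth.Agent.S7159

open Polynomial in
/-- Let A be a discrete valuation ring whose fraction field K has characteristic 0 and whose residue
field has characteristic p, and suppose A contains an element ζ with 1 + ζ + ... + ζ^(p-1) = 0 (a
primitive p-th root of unity); set w = 1 - ζ and let P in A[t] be the polynomial with w^p·P(t) = (1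
+ wt)^p - 1. Let ξ be an element of K and let L = K(z) be obtained by adjoining a root z of P(z) =
ξ. Then L/K is a Galois extension, and it falls under one of four cases: (1) L = K; (2) L/K has
degree p and is unramified with respect to A; (3) L/K has degree p and is totally ramified with
respect to A (ramification index p); (4) exactly one valuation ring of L dominates A (so B, the
integral closure of A in L, is itself a discrete valuation ring), the extension A → B is weakly
unramified, and its residue field extension is purely inseparable of degree p. Moreover, with π a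
uniformizer of A: (A) if ξ lies in A, case (1) or (2) holds; (B) if ξ = π⁻ⁿa with n > 0 prime to p
and a a unit of A, case (3) holds; (C) if ξ = π⁻ⁿa with n > 0 divisible by p and the residue class
of a not a p-th power, case (4) holds. -/
theorem result (p : ℕ) (hp : p.Prime) (A K L : Type u) [CommRing A] [IsDomain A]
    [IsDiscreteValuationRing A] [Field K] [Algebra A K] [IsFractionRing A K] [Field L] [Algebra K L] [Algebra A L]
    [IsScalarTower A K L] [CharZero K] [CharP (IsLocalRing.ResidueField A) p] (ζ : A)
    (hζ : aeval ζ (cyclotomic p ℤ) = 0) (P : A[X]) (hP : C ((1 - ζ) ^ p) * P = (1 + C (1 - ζ) * X) ^ p - 1) (π : A) (hπ : IsLocalRing.maximalIdeal A = Ideal.span {π})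
    (ξ : K) (z : L) (hz : aeval z P = algebraMap K L ξ) (hgen : IntermediateField.adjoin K {z} = ⊤) :
    let g : A →+* L := algebraMap A L
    let case1 : Prop := Module.finrank K L = 1
    let case2 : Prop := EtRam.IsUnramifiedExt A g ∧ Module.finrank K L = p
    let case3 : Prop := EtRam.IsTotallyRamified A g ∧ Module.finrank K L = p
    let case4 : Prop := (∃ V : ValuationSubring L, EtRam.Dominates A g V) ∧
      (∀ V V' : ValuationSubring L, EtRam.Dominates A g V → EtRam.Dominates A g V' → V = V') ∧
      ∀ (V : ValuationSubring L) (h : EtRam.Dominates A g V),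
        letI : Algebra A V := (RingHom.codRestrict g V h.1).toAlgebra
        ∀ [IsLocalHom (algebraMap A V)],
          EtRam.IsWeaklyUnramified A V ∧
            IsPurelyInseparable (IsLocalRing.ResidueField A) (IsLocalRing.ResidueField V) ∧
            Module.finrank (IsLocalRing.ResidueField A) (IsLocalRing.ResidueField V) = p
    IsGalois K L ∧ (case1 ∨ case2 ∨ case3 ∨ case4) ∧
      ((∃ a : A, algebraMap A K a = ξ) → case1 ∨ case2) ∧
      (∀ (n : ℕ) (a : Aˣ), 0 < n → ¬ p ∣ n → ξ * algebraMap A K π ^ n = algebraMap A K a → case3) ∧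
      (∀ (n : ℕ) (a : A), 0 < n → p ∣ n → (∀ r : A, IsLocalRing.residue A a ≠ IsLocalRing.residue A r ^ p) →
          ξ * algebraMap A K π ^ n = algebraMap A K a → case4) := by
  intro g case1 case2 case3 case4
  haveI : Fact p.Prime := ⟨hp⟩
  have hinjAK : Function.Injective (algebraMap A K) := IsFractionRing.injective A K
  haveI hczA : CharZero A := (algebraMap A K).charZero
  have hζA : IsPrimitiveRoot ζ p :=
    Groth.Agent.Lib.Seat10.Kum.isPrimitiveRoot_of_aeval_cyclotomic hp ζ hζ
  have hζK : IsPrimitiveRoot (algebraMap A K ζ) p := hζA.map_of_injective hinjAK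
  have hw : (1 - ζ : A) ≠ 0 := Groth.Agent.Lib.Seat10.Kum.one_sub_ne_zero hp hζA
  have hPm : P.Monic := Groth.Agent.Lib.Seat10.Kum.P_monic hp hζA hP
  have hPd : P.natDegree = p := Groth.Agent.Lib.Seat10.Kum.P_natDegree hp hζA hP
  have hwK : algebraMap A K (1 - ζ) ≠ 0 := by
    intro h0
    exact hw (hinjAK (by rw [h0, map_zero]))
  -- the Kummer generator
  have hu : (1 + algebraMap A L (1 - ζ) * z) ^ p =
      algebraMap K L (1 + algebraMap A K (1 - ζ) ^ p * ξ) := by
    have h1 := congrArg (Polynomial.aeval z) hP
    simp only [map_mul, map_sub, map_pow, map_add, map_one, Polynomial.aeval_C,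
      Polynomial.aeval_X] at h1
    rw [map_add, map_one, map_mul, map_pow, ← IsScalarTower.algebraMap_apply A K L, ← hz]
    have h2 : algebraMap A L (1 - ζ) = 1 - algebraMap A L ζ := by rw [map_sub, map_one]
    rw [h2]
    linear_combination (-1 : L) * h1
  have hgenu : IntermediateField.adjoin K {1 + algebraMap A L (1 - ζ) * z} = ⊤ := by
    rw [eq_top_iff, ← hgen, IntermediateField.adjoin_simple_le_iff]
    have h1 : (1 + algebraMap A L (1 - ζ) * z) ∈
        IntermediateField.adjoin K {1 + algebraMap A L (1 - ζ) * z} :=
      IntermediateField.mem_adjoin_simple_self K _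
    have h2 : algebraMap A L (1 - ζ) ∈
        IntermediateField.adjoin K {1 + algebraMap A L (1 - ζ) * z} := by
      rw [IsScalarTower.algebraMap_apply A K L]
      exact IntermediateField.algebraMap_mem _ _
    have h3 : algebraMap A L (1 - ζ) ≠ 0 := by
      rw [IsScalarTower.algebraMap_apply A K L, Ne, map_eq_zero]
      exact hwK
    have h4 : z = ((1 + algebraMap A L (1 - ζ) * z) - 1) * (algebraMap A L (1 - ζ))⁻¹ := by
      field_simp
      ring
    have h5 : ((1 + algebraMap A L (1 - ζ) * z) - 1) * (algebraMap A L (1 - ζ))⁻¹ ∈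
        IntermediateField.adjoin K {1 + algebraMap A L (1 - ζ) * z} :=
      mul_mem (sub_mem h1 (one_mem _)) (inv_mem h2)
    rwa [← h4] at h5
  obtain ⟨hfd, hgal, hdeg⟩ :=
    Groth.Agent.Lib.Seat10.Kum.kummer_isGalois_and_degree hp hζK _ _ hu hgenu
  have hle : Module.finrank K L ≤ p := by
    rcases hdeg with h | h
    · rw [h]; exact hp.one_lt.le
    · exact h.le
  have hzint : IsIntegral K z := .of_finite K z
  refine ⟨hgal, ?_, ?_, ?_, ?_⟩
  · rcases hdeg with h | h
    · exact Or.inl h
    · exact Or.inr (Groth.Agent.Lib.Seat10.Dom.prime_degree_cases A K p hp h)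
  · rintro ⟨a, rfl⟩
    have hwm : (1 - ζ : A) ∈ IsLocalRing.maximalIdeal A := by
      rw [← IsLocalRing.residue_eq_zero_iff, map_sub, map_one]
      have h1 : (IsLocalRing.residue A ζ - 1) ^ p = 0 := by
        rw [sub_pow_char, ← map_pow, hζA.pow_eq_one, map_one, one_pow, sub_self]
      have h2 := (pow_eq_zero_iff hp.ne_zero).mp h1
      rw [sub_eq_zero] at h2
      rw [h2, sub_self]
    have hunit : IsUnit (1 + (1 - ζ) ^ p * a) := by
      have h1 : -((1 - ζ) ^ p * a) ∈ nonunits A := by
        rw [← IsLocalRing.mem_maximalIdeal]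
        exact neg_mem (Ideal.mul_mem_right _ _ (Ideal.pow_mem_of_mem _ hwm p hp.pos))
      have := IsLocalRing.isUnit_one_sub_self_of_mem_nonunits _ h1
      rwa [sub_neg_eq_add] at this
    have hun : EtRam.IsUnramifiedExt A (algebraMap A L) := by
      apply Groth.Agent.Lib.Seat10.Dom.isUnramifiedExt_of_isUnit_derivative A K
        (P - Polynomial.C a) ?_
        (Groth.Agent.Lib.Seat10.Kum.isUnit_mk_derivative hp hζA hP a hunit) z ?_
        (Groth.Agent.Lib.Seat10.AS.algebra_adjoin_eq_top K hzint hgen)
      · apply hPm.sub_of_left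
        apply Polynomial.degree_C_le.trans_lt
        rw [Polynomial.degree_eq_natDegree hPm.ne_zero, hPd]
        exact_mod_cast hp.pos
      · rw [map_sub, hz, Polynomial.aeval_C, IsScalarTower.algebraMap_apply A K L, sub_self]
    rcases hdeg with h | h
    · exact Or.inl h
    · exact Or.inr ⟨hun, h⟩
  · intro n a hn hpn hξ
    exact Groth.Agent.Lib.Seat10.Dom.case3_of_pole A K p hp hle π hπ P hPm hPd ξ z hz n a hn hpn hξ
  · intro n a hn hpn hnp hξ
    exact Groth.Agent.Lib.Seat10.Dom.case4_of_pole A K p hp hle π hπ P hPm hPd ξ z hz n a hn hpn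
      hnp hξ

end Groth.Agent.S7159
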