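import Groth.Statements.S7161
import Groth.Agent.Lib.Seat35HalfExactAR
import Groth.Agent.Lib.Helper13Tor

set_option autoImplicit false
universe u
open CategoryTheory
open CAlg

namespace Groth.Agent.S7161

/-- Let A be a Noetherian ring, I an ideal, M a finite A-module and N an A-module annihilated by I. Then
there is an integer n > 0 such that the maps Tor_p^A(IⁿM, N) → Tor_p^A(M, N) induced by IⁿM ⊆ M are
zero for all p ≥ 0. -/
theorem result (A : Type u) [CommRing A] [IsNoetherianRing A] (I : Ideal A)
    (M N : Type u) [AddCommGroup M] [Module A M] [Module.Finite A M] [AddCommGroup N] [Module A N]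
    (hN : ∀ a ∈ I, ∀ y : N, a • y = 0) :
    ∃ n : ℕ, 0 < n ∧ ∀ p : ℕ,
      ((CategoryTheory.Tor (ModuleCat.{u} A) p).map (ModuleCat.ofHom (I ^ n • ⊤ : Submodule A M).subtype)).app
        (ModuleCat.of A N) = 0 := by
  obtain ⟨n, hn, h⟩ := Groth.Agent.Lib.Seat35.HalfExactAR.exists_Tm_subtype_eq_zero I M
  refine ⟨n, hn, fun p => ?_⟩
  have hT : Groth.Agent.Lib.Seat35.HalfExactAR.HEK I
      ((CategoryTheory.Tor (ModuleCat.{u} A) p).flip.obj (ModuleCat.of A N)) := by
    refine ⟨?_, ?_⟩
    · intro S hS y hy
      have hex := Groth.Agent.Helper13Tor.tor_exact₂ S hS (ModuleCat.of A N) p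
      rw [ShortComplex.moduleCat_exact_iff] at hex
      exact hex y hy
    · intro X a ha
      show ((CategoryTheory.Tor (ModuleCat.{u} A) p).map (a • 𝟙 X)).app (ModuleCat.of A N) = 0
      let P := ProjectiveResolution.of (ModuleCat.of A N)
      have hzero : (a • 𝟙 (ModuleCat.of A N) : ModuleCat.of A N ⟶ ModuleCat.of A N) = 0 := by
        apply ModuleCat.hom_ext
        apply LinearMap.ext
        intro y
        exact hN a ha y
      have w : (a • 𝟙 P.complex) ≫ P.π =
          P.π ≫ (ChainComplex.single₀ (ModuleCat.{u} A)).map (a • 𝟙 (ModuleCat.of A N)) := by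
        ext
        simp
        rfl
      have h2 := Functor.leftDerived_map_eq (Groth.Agent.Helper13Tor.tL X) p
        (a • 𝟙 (ModuleCat.of A N)) (P := P) (Q := P) (a • 𝟙 P.complex) w
      have w0 : (0 : P.complex ⟶ P.complex) ≫ P.π =
          P.π ≫ (ChainComplex.single₀ (ModuleCat.{u} A)).map (a • 𝟙 (ModuleCat.of A N)) := by
        rw [hzero, Functor.map_zero, Limits.zero_comp, Limits.comp_zero]
      have h3 := Functor.leftDerived_map_eq (Groth.Agent.Helper13Tor.tL X) p
        (a • 𝟙 (ModuleCat.of A N)) (P := P) (Q := P) 0 w0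
      rw [Functor.map_zero, Limits.zero_comp, Limits.comp_zero] at h3
      rw [h3] at h2
      rw [Groth.Agent.Helper13Tor.tor_map_app_eq P (a • 𝟙 X) p]
      have hc : Groth.Agent.Helper13Tor.tCmap (a • 𝟙 X) P.complex =
          ((Groth.Agent.Helper13Tor.tL X).mapHomologicalComplex (ComplexShape.down ℕ)).map
            (a • 𝟙 P.complex) := by
        ext j : 1
        show ((MonoidalCategory.tensoringLeft (ModuleCat.{u} A)).map (a • 𝟙 X)).app (P.complex.X j) =
          (Groth.Agent.Helper13Tor.tL X).map ((a • 𝟙 P.complex : P.complex ⟶ P.complex).f j)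
        rw [HomologicalComplex.smul_f_apply, HomologicalComplex.id_f]
        apply ModuleCat.hom_ext
        apply TensorProduct.ext'
        intro x q
        show (a • x) ⊗ₜ[A] q = x ⊗ₜ[A] (a • q)
        rw [TensorProduct.tmul_smul, TensorProduct.smul_tmul']
      rw [hc]
      exact h2.symm
  apply ModuleCat.hom_ext
  exact h _ hT

end Groth.Agent.S7161
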