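-- Statement S7167.
import Groth.Statements.S7167
import Groth.Agent.Lib.Seat0PCMor
import Groth.Agent.Lib.Seat0PCMorBC

set_option autoImplicit false
universe u
attribute [local instance] HasDerivedCategory.standard
open FlatMor

namespace Groth.Agent.S7167

open Groth.Agent.Lib.Seat0.PCHom Groth.Agent.Lib.Seat0.PCMor

open AlgebraicGeometry CategoryTheory Limits in
/-- Let S' → S be flat and f' : X' → S' the base change of a pseudo-coherent morphism f : X → S. Then f'
is pseudo-coherent. -/
theorem result {X S X' S' : Scheme.{u}} (f : X ⟶ S) (f' : X' ⟶ S') (g' : X' ⟶ X) (g : S' ⟶ S)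
    [Flat g] (hc : IsPullback g' f' f g) (hf : MoreMor.IsPseudoCoherentMor f) : MoreMor.IsPseudoCoherentMor f' := by
  rw [isPseudoCoherentMor_iff] at hf ⊢
  exact Groth.Agent.Lib.Seat0.PCMorBC.pcm_of_isPullback_of_flat hc hf

end Groth.Agent.S7167
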