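-- Statement S7168.
import Groth.Statements.S7168
import Groth.Agent.S2066
import Groth.Agent.S6935

set_option autoImplicit false
universe u
attribute [local instance] HasDerivedCategory.standard
open FlatMor

namespace Groth.Agent.S7168

/-- A pseudo-coherent ring map is of finite presentation. -/
theorem finitePresentation_of_isPseudoCoherentHom (A B : Type u) [CommRing A] [CommRing B]
    [Algebra A B] (h : MoreMor.IsPseudoCoherentHom A B) : Algebra.FinitePresentation A B := by
  obtain ⟨n, φ, hφ, hpc⟩ := h
  letI : Algebra (MvPolynomial (Fin n) A) B := φ.toRingHom.toAlgebra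
  have h1 : ∀ m : ℤ, DRing.IsPseudoCoherent (MvPolynomial (Fin n) A) m
      (Dual.inD (MvPolynomial (Fin n) A) B) :=
    (Groth.Agent.S2066.result (Dual.inD (MvPolynomial (Fin n) A) B)).1.mpr hpc
  have h2 : Module.FinitePresentation (MvPolynomial (Fin n) A) B :=
    (Groth.Agent.S6935.result (MvPolynomial (Fin n) A) B).2.mp (h1 (-1))
  have h3 : (LinearMap.ker (Algebra.linearMap (MvPolynomial (Fin n) A) B)).FG :=
    Module.FinitePresentation.fg_ker (Algebra.linearMap (MvPolynomial (Fin n) A) B) hφ
  refine ⟨n, φ, hφ, ?_⟩
  exact h3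

open AlgebraicGeometry CategoryTheory Limits in
/-- A pseudo-coherent morphism of schemes is locally of finite presentation. -/
theorem result {X S : Scheme.{u}} (f : X ⟶ S) (hf : MoreMor.IsPseudoCoherentMor f) :
    LocallyOfFinitePresentation f := by
  rw [HasRingHomProperty.iff_appLE (P := @LocallyOfFinitePresentation)]
  intro U V e
  have h := hf V.1 U.1 V.2 U.2 e
  exact @finitePresentation_of_isPseudoCoherentHom _ _ _ _ (f.appLE U.1 V.1 e).hom.toAlgebra h

end Groth.Agent.S7168
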