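-- Statement S7169.
import Groth.Statements.S7169
import Groth.Agent.Lib.Seat0PCMor

set_option autoImplicit false
universe u
attribute [local instance] HasDerivedCategory.standard
open FlatMor

namespace Groth.Agent.S7169

open Groth.Agent.Lib.Seat0.PCHom Groth.Agent.Lib.Seat0.PCMor

open AlgebraicGeometry CategoryTheory Limits in
/-- If X and Y are pseudo-coherent over a base scheme S (via g : Y → S and f ≫ g), then any S-morphism f
: X → Y is pseudo-coherent. -/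
theorem result {X Y S : Scheme.{u}} (f : X ⟶ Y) (g : Y ⟶ S)
    (hX : MoreMor.IsPseudoCoherentMor (f ≫ g)) (hY : MoreMor.IsPseudoCoherentMor g) : MoreMor.IsPseudoCoherentMor f := by
  rw [isPseudoCoherentMor_iff] at hX hY ⊢
  rw [pcm_iff_exists]
  intro x
  obtain ⟨W, hW, hxW, -⟩ := TopologicalSpace.Opens.isBasis_iff_nbhd.mp S.isBasis_affineOpens
    (TopologicalSpace.Opens.mem_top (g (f x)))
  obtain ⟨V, hV, hxV, eV⟩ := TopologicalSpace.Opens.isBasis_iff_nbhd.mp Y.isBasis_affineOpens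
    (show f x ∈ g ⁻¹ᵁ W from hxW)
  obtain ⟨U, hU, hxU, eU⟩ := TopologicalSpace.Opens.isBasis_iff_nbhd.mp X.isBasis_affineOpens
    (show x ∈ f ⁻¹ᵁ V from hxV)
  refine ⟨⟨V, hV⟩, ⟨U, hU⟩, hxU, eU, ?_⟩
  have h1 : PCH (g.appLE W V eV).hom :=
    (HasRingHomProperty.iff_appLE (P := PCM)).1 hY ⟨W, hW⟩ ⟨V, hV⟩ eV
  have e' : U ≤ (f ≫ g) ⁻¹ᵁ W := fun y hy => eV (eU hy)
  have h2 : PCH ((f ≫ g).appLE W U e').hom :=
    (HasRingHomProperty.iff_appLE (P := PCM)).1 hX ⟨W, hW⟩ ⟨U, hU⟩ e'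
  have h3 : ((f ≫ g).appLE W U e').hom = (f.appLE V U eU).hom.comp (g.appLE W V eV).hom := by
    rw [← CommRingCat.hom_comp, Scheme.Hom.appLE_comp_appLE]
  rw [h3] at h2
  exact pch_cancel h1 h2

end Groth.Agent.S7169
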