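-- Statement S7170.
import Groth.Statements.S7170
import Groth.Agent.Lib.Seat0PCMor
import Groth.Agent.Lib.Seat0PCFinite

set_option autoImplicit false
universe u
attribute [local instance] HasDerivedCategory.standard
open FlatMor

namespace Groth.Agent.S7170

open Groth.Agent.Lib.Seat0.PCHom Groth.Agent.Lib.Seat0.PCMor Groth.Agent.Lib.Seat0.PCFinite
open Groth.Agent.Lib.Helper1.Restrict Groth.Agent.Lib.Helper1.RelPC

open AlgebraicGeometry CategoryTheory Limits in
/-- For a finite morphism f : X → S, pseudo-coherence of f is equivalent to pseudo-coherence of the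
O_S-module f_* O_X; as f is affine, the latter means that O_X(f⁻¹ V) is a pseudo-coherent
O_S(V)-module for every affine open V of S, the form used here. -/
theorem result {X S : Scheme.{u}} (f : X ⟶ S) [IsFinite f] :
    MoreMor.IsPseudoCoherentMor f ↔ ∀ (V : S.Opens), IsAffineOpen V →
      (letI := (f.app V).hom.toAlgebra
       DRing.IsPseudoCoherentModule' Γ(S, V) Γ(X, f ⁻¹ᵁ V)) := by
  rw [isPseudoCoherentMor_iff]
  constructor
  · intro h V hV
    have hU : IsAffineOpen (f ⁻¹ᵁ V) := hV.preimage f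
    have h1 : PCH (f.appLE V (f ⁻¹ᵁ V) le_rfl).hom :=
      (HasRingHomProperty.iff_appLE (P := PCM)).1 h ⟨V, hV⟩ ⟨f ⁻¹ᵁ V, hU⟩ le_rfl
    rw [Scheme.Hom.appLE_eq_app] at h1
    have h2 : BPC (f.app V).hom := (pch_iff_bpc_of_finite _ (IsFinite.finite_app f V hV)).1 h1
    letI := (f.app V).hom.toAlgebra
    exact pcModule'_of_bpc (A := Γ(S, V)) (B := Γ(X, f ⁻¹ᵁ V)) h2
  · intro h
    rw [pcm_iff_exists]
    intro x
    obtain ⟨V, hV, hxV, -⟩ := TopologicalSpace.Opens.isBasis_iff_nbhd.mp S.isBasis_affineOpens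
      (TopologicalSpace.Opens.mem_top (f x))
    have hU : IsAffineOpen (f ⁻¹ᵁ V) := hV.preimage f
    refine ⟨⟨V, hV⟩, ⟨f ⁻¹ᵁ V, hU⟩, hxV, le_rfl, ?_⟩
    show PCH (f.appLE V (f ⁻¹ᵁ V) le_rfl).hom
    rw [Scheme.Hom.appLE_eq_app]
    have h2 : BPC (f.app V).hom := by
      letI := (f.app V).hom.toAlgebra
      exact bpc_of_algebra (A := Γ(S, V)) (B := Γ(X, f ⁻¹ᵁ V)) (h V hV)
    exact (pch_iff_bpc_of_finite _ (IsFinite.finite_app f V hV)).2 h2

end Groth.Agent.S7170
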