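import Groth.Statements.S7173
import Groth.Agent.Lib.Seat7RegPerf
import Groth.Agent.Lib.Helper4RectDepthB

set_option autoImplicit false
universe u
attribute [local instance] HasDerivedCategory.standard
open FlatMor

namespace Groth.Agent.S7173

open AlgebraicGeometry CategoryTheory Limits in
/-- A morphism locally of finite type to a regular scheme S (locally Noetherian with all local rings
regular) whose affine opens have finite Krull dimension is perfect. (The published statement carries
no dimension hypothesis; its proof is the ring statement for a finite type algebra over a regular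
ring of finite dimension, so finite Krull dimension of the affine opens of S is assumed here.) -/
theorem result {X S : Scheme.{u}} (f : X ⟶ S) [LocallyOfFiniteType f] [IsLocallyNoetherian S]
    (hreg : ∀ s : S, IsRegularLocalRing (S.presheaf.stalk s))
    (hdim : ∀ V : S.Opens, IsAffineOpen V → ringKrullDim Γ(S, V) < ⊤) :
    MoreMor.IsPerfectMor f := by
  intro U V hU hV hUV
  letI := (f.appLE V U hUV).hom.toAlgebra
  haveI : IsRegularRing Γ(S, V) := Groth.Agent.Lib.Helper4.RectDepth.isRegularRing_sections hreg hV
  haveI : Algebra.FiniteType Γ(S, V) Γ(X, U) :=
    LocallyOfFiniteType.finiteType_appLE f hV hU hUV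
  exact Groth.Agent.Lib.Seat0.PerfHom.isPerfectHom_iff.2
    (Groth.Agent.Lib.Seat7.RegPerf.perfH_of_isRegularRing Γ(S, V) Γ(X, U) (hdim V hV))

end Groth.Agent.S7173
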