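-- Statement S7175.
import Groth.Statements.S7175
import Groth.Agent.Lib.Seat63AffPerf
import Groth.Agent.S7170
import Groth.Agent.S6954
import Groth.Agent.Lib.Helper1TorDim

set_option autoImplicit false
universe u
attribute [local instance] HasDerivedCategory.standard
open FlatMor

namespace Groth.Agent.S7175

open AlgebraicGeometry CategoryTheory Limits

/-- finite tor dimension does not depend on the (propositionally equal) algebra structure -/
lemma hasFiniteTorDim_of_eq {A B : Type u} [CommRing A] [CommRing B] (φ ψ : A →+* B) (h : φ = ψ)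
    (hφ : letI := φ.toAlgebra; DRing.HasFiniteTorDim A B) :
    letI := ψ.toAlgebra; DRing.HasFiniteTorDim A B := by
  subst h
  exact hφ

/-- a pseudo-coherent module of finite tor dimension is perfect -/
lemma isPerfectModule_of_pc_of_finiteTorDim {A : Type u} [CommRing A] (M : Type u) [AddCommGroup M]
    [Module A M] (h1 : DRing.IsPseudoCoherentModule' A M) (h2 : DRing.HasFiniteTorDim A M) :
    DRing.IsPerfectModule A M := by
  obtain ⟨n, hn⟩ := h2
  exact (Groth.Agent.S6954.result A (Dual.inD A M)).2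
    ⟨h1, ⟨-(n : ℤ), 0, (Groth.Agent.Lib.Helper1.TorDim.hasTorDimLE_iff_hasTorAmp M n).1 hn⟩⟩

open DerivedCategory Groth.Agent.Lib.Seat63.AffPerf Groth.Agent.Lib.Seat63.RegPerf
  Groth.Agent.Lib.Seat0.PerfLocal Groth.Agent.Lib.Helper20.Thickening in
/-- For a perfect closed immersion i : Z → X, the O_X-module i_* O_Z is a perfect object of D(O_X). -/
theorem result {Z X : Scheme.{u}} (i : Z ⟶ X) [IsClosedImmersion i]
    (hi : MoreMor.IsPerfectMor i) :
    DCoh.IsPerfect (DCoh.inD X ((Coh.push i).obj (Coh.structureModule Z))) := by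
  haveI : ((Scheme.Modules.pushforward i).obj (Coh.structureModule Z)).IsQuasicoherent :=
    Groth.Agent.Lib.Helper23.QCohLocal.isQuasicoherent_pushforward i _
  refine isPerfect_of_sprep _ (fun x => ?_)
  obtain ⟨V, hV, hxV, -⟩ := TopologicalSpace.Opens.isBasis_iff_nbhd.mp X.isBasis_affineOpens
    (TopologicalSpace.Opens.mem_top x)
  refine ⟨Spec Γ(X, V), hV.fromSpec, hV.isOpenImmersion_fromSpec, ?_,
    sprep_fromSpec_of_isPerfect _ hV ?_⟩
  · rw [hV.range_fromSpec]
    exact hxV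
  · have hU : IsAffineOpen (i ⁻¹ᵁ V) := hV.preimage i
    have hpc := (Groth.Agent.S7170.result i).1
      (fun U V hU hV hUV => (hi U V hU hV hUV).1) V hV
    have hft := hasFiniteTorDim_of_eq _ _
      (congrArg CommRingCat.Hom.hom (Scheme.Hom.appLE_eq_app i (U := V)))
      (hi (i ⁻¹ᵁ V) V hU hV le_rfl).2
    letI : Algebra Γ(X, V) Γ(Z, i ⁻¹ᵁ V) := (i.app V).hom.toAlgebra
    obtain ⟨E, a, b, hv, hfp, ⟨e⟩⟩ :=
      isPerfectModule_of_pc_of_finiteTorDim Γ(Z, i ⁻¹ᵁ V) hpc hft
    let e2 : (ΓUF hV).obj ((Scheme.Modules.pushforward i).obj (Coh.structureModule Z)) ≅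
        ModuleCat.of Γ(X, V) Γ(Z, i ⁻¹ᵁ V) :=
      ((Groth.Agent.Lib.Helper20.PullbackAff.ΓUEquiv hV _).symm ≪≫ₗ
        Groth.Agent.Helper18FinFlat.pushEquiv i V).toModuleIso
    exact ⟨E, a, b, hv, hfp, ⟨e ≪≫ (singleFunctor _ 0).mapIso e2.symm⟩⟩

end Groth.Agent.S7175
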