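-- Statement S7185.
import Groth.Statements.S7185
import Groth.Agent.Lib.Helper2Weight

set_option autoImplicit false
universe u
open MoreMor

namespace Groth.Agent.S7185

open AlgebraicGeometry CategoryTheory Limits in
/-- The restriction of a weighting of a locally quasi-finite morphism f : X → Y (locally of finite type
with discrete fibres) to an open subscheme X' of X is a weighting of X' → Y. -/
theorem result {X Y : Scheme.{u}} (f : X ⟶ Y) [LocallyQuasiFinite f] [LocallyOfFiniteType f] (w : X → ℤ)
    (hw : MoreMor.IsWeighting f w) (X' : X.Opens) : MoreMor.IsWeighting (X'.ι ≫ f) (fun x => w (X'.ι x)) := by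
  intro V g _ U hU
  let j : pullback (X'.ι ≫ f) g ⟶ pullback f g :=
    pullback.map (X'.ι ≫ f) g f g X'.ι (𝟙 V) (𝟙 Y) (by simp) (by simp)
  have hj1 : j ≫ pullback.fst f g = pullback.fst (X'.ι ≫ f) g ≫ X'.ι := by
    simp only [j, pullback.map, pullback.lift_fst]
  have hj2 : j ≫ pullback.snd f g = pullback.snd (X'.ι ≫ f) g := by
    simp only [j, pullback.map, pullback.lift_snd, Category.comp_id]
  have sq : IsPullback (pullback.fst (X'.ι ≫ f) g) j X'.ι (pullback.fst f g) := by
    refine IsPullback.of_bot ?_ hj1.symm (IsPullback.of_hasPullback f g)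
    rw [hj2]
    exact IsPullback.of_hasPullback (X'.ι ≫ f) g
  have hj : IsOpenImmersion j :=
    MorphismProperty.of_isPullback (P := @IsOpenImmersion) sq inferInstance
  let J : (U : Scheme.{u}) ⟶ pullback f g := U.ι ≫ j
  have hJ : IsOpenImmersion J := inferInstance
  let A : (pullback f g).Opens := J.opensRange
  have e1 : U.ι ≫ pullback.snd (X'.ι ≫ f) g = J ≫ pullback.snd f g := by
    simp only [J, Category.assoc, hj2]
  have hA : IsFinite (A.ι ≫ pullback.snd f g) := by
    have h2 : A.ι ≫ pullback.snd f g =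
        J.isoOpensRange.inv ≫ (U.ι ≫ pullback.snd (X'.ι ≫ f) g) := by
      rw [e1, ← Category.assoc, Scheme.Hom.isoOpensRange_inv_comp]
    rw [h2]
    infer_instance
  have key := hw V g A hA
  have heq : MoreMor.fibreIntegral (U.ι ≫ pullback.snd (X'.ι ≫ f) g)
      (fun u => w (X'.ι (pullback.fst (X'.ι ≫ f) g (U.ι u)))) =
      MoreMor.fibreIntegral (A.ι ≫ pullback.snd f g)
        (fun u => w (pullback.fst f g (A.ι u))) := by
    funext v
    rw [Groth.Agent.Lib.Helper2.Weight.fibreIntegral_opens A (pullback.snd f g)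
      (fun p => w (pullback.fst f g p)) v, e1]
    have h3 := Groth.Agent.Lib.Helper2.Weight.fibreIntegral_openImmersion J (pullback.snd f g)
      (fun p => w (pullback.fst f g p)) v
    have h4 : (fun u : (U : Scheme.{u}) => w (X'.ι (pullback.fst (X'.ι ≫ f) g (U.ι u)))) =
        (fun p => w (pullback.fst f g p)) ∘ J := by
      funext u
      change w (X'.ι (pullback.fst (X'.ι ≫ f) g (U.ι u))) = w (pullback.fst f g (j (U.ι u)))
      congr 1
      calc X'.ι (pullback.fst (X'.ι ≫ f) g (U.ι u))
          = (pullback.fst (X'.ι ≫ f) g ≫ X'.ι) (U.ι u) := (Scheme.Hom.comp_apply _ _ _).symm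
        _ = (j ≫ pullback.fst f g) (U.ι u) := by rw [hj1]
        _ = pullback.fst f g (j (U.ι u)) := Scheme.Hom.comp_apply _ _ _
    rw [h4, h3]
    congr 1
  rw [heq]
  exact key

end Groth.Agent.S7185
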