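import Groth.Statements.S7287
import Groth.Agent.Lib.Seat32ResFieldGen
import Groth.Agent.Lib.Seat32TrdegFree

set_option autoImplicit false
open CategoryTheory CategoryTheory.Limits AlgebraicGeometry Opposite
universe u
open RelCyc

namespace Groth.Agent.S7287

open Groth.Agent.Lib.Seat32.ResFieldGen Groth.Agent.Lib.Seat32.TrdegFree

/-- Let f from X to S be locally of finite type, r a natural number and g from S' to S a surjective
morphism. Let S'' be the fibre product of S' with itself over S (projections p, q), X' the base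
change of X along g (structure map f', projection g' to X), and X'' the base change of X along S''
with structure map f'' and the two projections p', q' to X' lying over p and q and compatible with
the projections to X. Let x be a point of X whose residue field has transcendence degree r over that
of f(x). If x1 and x2 are points of X' mapping to x whose residue fields have transcendence degree r
over those of their images in S', then there is a point of X'' whose residue field has transcendence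
degree r over that of its image in S'' and whose two projections are x1 and x2. -/
theorem result {X S S' S'' X' X'' : Scheme.{u}}
    (f : X ⟶ S) [LocallyOfFiniteType f] (r : ℕ) (g : S' ⟶ S) [Surjective g]
    (p q : S'' ⟶ S') (hS : IsPullback p q g g)
    (f' : X' ⟶ S') (g' : X' ⟶ X) (hX : IsPullback g' f' f g)
    (f'' : X'' ⟶ S'') (p' q' : X'' ⟶ X') (hp : IsPullback p' f'' f' p) (hq : IsPullback q' f'' f' q)
    (hpq : p' ≫ g' = q' ≫ g')
    (x : ↥X) (hx : Dual3.resTrdeg f x = r)
    (x₁ x₂ : ↥X') (h₁ : g'.base x₁ = x) (h₂ : g'.base x₂ = x)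
    (hx₁ : Dual3.resTrdeg f' x₁ = r) (hx₂ : Dual3.resTrdeg f' x₂ = r) :
    ∃ x'' : ↥X'', Dual3.resTrdeg f'' x'' = r ∧ p'.base x'' = x₁ ∧ q'.base x'' = x₂ := by
  subst h₁
  have e₁ : f (g' x₁) = g (f' x₁) := congr($(hX.w) x₁)
  have e₂ : f (g' x₁) = g (f' x₂) := by
    have h : g' x₁ = g' x₂ := h₂.symm
    rw [h]
    exact congr($(hX.w) x₂)
  -- ring homs
  let i := f.residueFieldMap (g' x₁)
  let k₁ := f'.residueFieldMap x₁
  let k₂ := f'.residueFieldMap x₂
  let l₁ := g'.residueFieldMap x₁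
  let l₂ := (X.residueFieldCongr h₂.symm).hom ≫ g'.residueFieldMap x₂
  let j₁ := (S.residueFieldCongr e₁).hom ≫ g.residueFieldMap (f' x₁)
  let j₂ := (S.residueFieldCongr e₂).hom ≫ g.residueFieldMap (f' x₂)
  have sq₁ : i ≫ l₁ = j₁ ≫ k₁ := by
    apply Spec.map_injective
    rw [← cancel_mono (S.fromSpecResidueField (f (g' x₁)))]
    simp only [i, l₁, j₁, k₁, Spec.map_comp, Category.assoc, Scheme.residueFieldCongr_fromSpecResidueField,
      Scheme.Hom.SpecMap_residueFieldMap_fromSpecResidueField,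
      Scheme.Hom.SpecMap_residueFieldMap_fromSpecResidueField_assoc]
    rw [hX.w]
  have sq₂ : i ≫ l₂ = j₂ ≫ k₂ := by
    apply Spec.map_injective
    rw [← cancel_mono (S.fromSpecResidueField (f (g' x₁)))]
    simp only [i, l₂, j₂, k₂, Spec.map_comp, Category.assoc, Scheme.residueFieldCongr_fromSpecResidueField,
      Scheme.residueFieldCongr_fromSpecResidueField_assoc,
      Scheme.Hom.SpecMap_residueFieldMap_fromSpecResidueField,
      Scheme.Hom.SpecMap_residueFieldMap_fromSpecResidueField_assoc]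
    rw [hX.w]
  -- algebra instances
  letI aKL : Algebra (S.residueField (f (g' x₁))) (X.residueField (g' x₁)) := i.hom.toAlgebra
  letI aKK₁ : Algebra (S.residueField (f (g' x₁))) (S'.residueField (f' x₁)) := j₁.hom.toAlgebra
  letI aKK₂ : Algebra (S.residueField (f (g' x₁))) (S'.residueField (f' x₂)) := j₂.hom.toAlgebra
  letI aK₁L₁ : Algebra (S'.residueField (f' x₁)) (X'.residueField x₁) := k₁.hom.toAlgebra
  letI aK₂L₂ : Algebra (S'.residueField (f' x₂)) (X'.residueField x₂) := k₂.hom.toAlgebra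
  letI aLL₁ : Algebra (X.residueField (g' x₁)) (X'.residueField x₁) := l₁.hom.toAlgebra
  letI aLL₂ : Algebra (X.residueField (g' x₁)) (X'.residueField x₂) := l₂.hom.toAlgebra
  letI aKL₁ : Algebra (S.residueField (f (g' x₁))) (X'.residueField x₁) := (i ≫ l₁).hom.toAlgebra
  letI aKL₂ : Algebra (S.residueField (f (g' x₁))) (X'.residueField x₂) := (i ≫ l₂).hom.toAlgebra
  haveI : IsScalarTower (S.residueField (f (g' x₁))) (X.residueField (g' x₁)) (X'.residueField x₁) :=
    IsScalarTower.of_algebraMap_eq' rfl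
  haveI : IsScalarTower (S.residueField (f (g' x₁))) (X.residueField (g' x₁)) (X'.residueField x₂) :=
    IsScalarTower.of_algebraMap_eq' rfl
  haveI : IsScalarTower (S.residueField (f (g' x₁))) (S'.residueField (f' x₁)) (X'.residueField x₁) :=
    IsScalarTower.of_algebraMap_eq' (congrArg CommRingCat.Hom.hom sq₁)
  haveI : IsScalarTower (S.residueField (f (g' x₁))) (S'.residueField (f' x₂)) (X'.residueField x₂) :=
    IsScalarTower.of_algebraMap_eq' (congrArg CommRingCat.Hom.hom sq₂)
  have hr : Algebra.trdeg (S.residueField (f (g' x₁))) (X.residueField (g' x₁)) = r := hx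
  have hr₁ : Algebra.trdeg (S'.residueField (f' x₁)) (X'.residueField x₁) = r := hx₁
  have hr₂ : Algebra.trdeg (S'.residueField (f' x₂)) (X'.residueField x₂) = r := hx₂
  have hgen₁ : ∀ E : Subfield (X'.residueField x₁),
      (∀ a : S'.residueField (f' x₁), algebraMap (S'.residueField (f' x₁)) (X'.residueField x₁) a ∈ E) →
      (∀ b : X.residueField (g' x₁), algebraMap (X.residueField (g' x₁)) (X'.residueField x₁) b ∈ E) →
      ∀ z, z ∈ E := fun E ha hb => mem_of_isPullback hX x₁ E hb ha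
  have hgen₂ : ∀ E : Subfield (X'.residueField x₂),
      (∀ a : S'.residueField (f' x₂), algebraMap (S'.residueField (f' x₂)) (X'.residueField x₂) a ∈ E) →
      (∀ b : X.residueField (g' x₁), algebraMap (X.residueField (g' x₁)) (X'.residueField x₂) b ∈ E) →
      ∀ z, z ∈ E := by
    intro E ha hb
    refine mem_of_isPullback hX x₂ E ?_ ha
    intro a
    have := hb ((X.residueFieldCongr h₂.symm).inv a)
    have h3 : algebraMap (X.residueField (g' x₁)) (X'.residueField x₂) ((X.residueFieldCongr h₂.symm).inv a) =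
        g'.residueFieldMap x₂ a := by
      have h4 : (X.residueFieldCongr h₂.symm).hom ((X.residueFieldCongr h₂.symm).inv a) = a := by
        rw [← CommRingCat.comp_apply, Iso.inv_hom_id]; rfl
      show (g'.residueFieldMap x₂) ((X.residueFieldCongr h₂.symm).hom
        ((X.residueFieldCongr h₂.symm).inv a)) = _
      rw [h4]
    rwa [h3] at this
  obtain ⟨ι, hι, t, ht, Ω, hΩ, σ₁, σ₂, E, hσ, hE₁, hE₂, hind⟩ :=
    exists_free_compositum hgen₁ hgen₂ r hr hr₁ hr₂
  -- stage 2: the field valued point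
  let σ₁c : X'.residueField x₁ ⟶ CommRingCat.of Ω := CommRingCat.ofHom σ₁
  let σ₂c : X'.residueField x₂ ⟶ CommRingCat.of Ω := CommRingCat.ofHom σ₂
  have hσc : l₁ ≫ σ₁c = l₂ ≫ σ₂c := by
    ext a
    exact congr($hσ a)
  obtain ⟨a₁, ha₁⟩ : ∃ a₁ : Spec (.of Ω) ⟶ X', a₁ = Spec.map σ₁c ≫ X'.fromSpecResidueField x₁ :=
    ⟨_, rfl⟩
  obtain ⟨a₂, ha₂⟩ : ∃ a₂ : Spec (.of Ω) ⟶ X', a₂ = Spec.map σ₂c ≫ X'.fromSpecResidueField x₂ :=
    ⟨_, rfl⟩
  have ha₁g : a₁ ≫ g' = Spec.map (l₁ ≫ σ₁c) ≫ X.fromSpecResidueField (g' x₁) := by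
    simp only [ha₁, l₁, Spec.map_comp, Category.assoc,
      Scheme.Hom.SpecMap_residueFieldMap_fromSpecResidueField]
  have ha₂g : a₂ ≫ g' = Spec.map (l₂ ≫ σ₂c) ≫ X.fromSpecResidueField (g' x₁) := by
    simp only [ha₂, l₂, Spec.map_comp, Category.assoc,
      Scheme.Hom.SpecMap_residueFieldMap_fromSpecResidueField,
      Scheme.residueFieldCongr_fromSpecResidueField]
  have ha : a₁ ≫ g' = a₂ ≫ g' := by rw [ha₁g, ha₂g, hσc]
  have ha₁f : a₁ ≫ f' = Spec.map (k₁ ≫ σ₁c) ≫ S'.fromSpecResidueField (f' x₁) := by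
    simp only [ha₁, k₁, Spec.map_comp, Category.assoc,
      Scheme.Hom.SpecMap_residueFieldMap_fromSpecResidueField]
  have ha₂f : a₂ ≫ f' = Spec.map (k₂ ≫ σ₂c) ≫ S'.fromSpecResidueField (f' x₂) := by
    simp only [ha₂, k₂, Spec.map_comp, Category.assoc,
      Scheme.Hom.SpecMap_residueFieldMap_fromSpecResidueField]
  have hab : (a₁ ≫ f') ≫ g = (a₂ ≫ f') ≫ g := by
    calc (a₁ ≫ f') ≫ g = a₁ ≫ (g' ≫ f) := by rw [Category.assoc, hX.w]
      _ = (a₁ ≫ g') ≫ f := (Category.assoc _ _ _).symm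
      _ = (a₂ ≫ g') ≫ f := by rw [ha]
      _ = a₂ ≫ (g' ≫ f) := Category.assoc _ _ _
      _ = (a₂ ≫ f') ≫ g := by rw [hX.w, Category.assoc]
  obtain ⟨b, hb1, hb2⟩ : ∃ b : Spec (.of Ω) ⟶ S'', b ≫ p = a₁ ≫ f' ∧ b ≫ q = a₂ ≫ f' :=
    ⟨hS.lift _ _ hab, hS.lift_fst _ _ _, hS.lift_snd _ _ _⟩
  obtain ⟨ξ, hξp, hξf⟩ : ∃ ξ : Spec (.of Ω) ⟶ X'', ξ ≫ p' = a₁ ∧ ξ ≫ f'' = b :=
    ⟨hp.lift a₁ b hb1.symm, hp.lift_fst _ _ _, hp.lift_snd _ _ _⟩
  have hξq : ξ ≫ q' = a₂ := by
    apply hX.hom_ext
    · rw [Category.assoc, ← hpq, ← Category.assoc, hξp, ha]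
    · rw [Category.assoc, hq.w, ← Category.assoc, hξf, hb2]
  obtain ⟨ep, hevp⟩ := fieldPt_eq x₁ σ₁c (ξ ≫ p') (hξp.trans ha₁)
  obtain ⟨eq, hevq⟩ := fieldPt_eq x₂ σ₂c (ξ ≫ q') (hξq.trans ha₂)
  refine ⟨ctr ξ, ?_, ep, eq⟩
  -- stage 3: the transcendence degree at `ctr ξ`
  have ep' : p' (ctr ξ) = x₁ := ep
  have hevp' : p'.residueFieldMap (ctr ξ) ≫ ev ξ = (X'.residueFieldCongr ep').hom ≫ σ₁c := by
    rw [← ev_comp]; exact hevp
  have e₃ : f' x₁ = p (f'' (ctr ξ)) := by
    rw [← ep']
    exact congr($(hp.w) (ctr ξ))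
  let φ := f''.residueFieldMap (ctr ξ)
  let lam : X'.residueField x₁ ⟶ X''.residueField (ctr ξ) :=
    (X'.residueFieldCongr ep').inv ≫ p'.residueFieldMap (ctr ξ)
  let kap : S'.residueField (f' x₁) ⟶ S''.residueField (f'' (ctr ξ)) :=
    (S'.residueFieldCongr e₃).hom ≫ p.residueFieldMap (f'' (ctr ξ))
  have sq₃ : k₁ ≫ lam = kap ≫ φ := by
    apply Spec.map_injective
    rw [← cancel_mono (S'.fromSpecResidueField (f' x₁))]
    simp only [k₁, lam, kap, φ, Spec.map_comp, Category.assoc, Scheme.residueFieldCongr_inv,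
      Scheme.residueFieldCongr_fromSpecResidueField,
      Scheme.residueFieldCongr_fromSpecResidueField_assoc,
      Scheme.Hom.SpecMap_residueFieldMap_fromSpecResidueField,
      Scheme.Hom.SpecMap_residueFieldMap_fromSpecResidueField_assoc]
    rw [hp.w]
  have hlam : lam ≫ ev ξ = σ₁c := by
    rw [Category.assoc, hevp', Iso.inv_hom_id_assoc]
  letI aFM : Algebra (S''.residueField (f'' (ctr ξ))) (X''.residueField (ctr ξ)) := φ.hom.toAlgebra
  letI aL₁M : Algebra (X'.residueField x₁) (X''.residueField (ctr ξ)) := lam.hom.toAlgebra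
  letI aK₁F : Algebra (S'.residueField (f' x₁)) (S''.residueField (f'' (ctr ξ))) := kap.hom.toAlgebra
  letI aK₁M : Algebra (S'.residueField (f' x₁)) (X''.residueField (ctr ξ)) := (k₁ ≫ lam).hom.toAlgebra
  haveI : IsScalarTower (S'.residueField (f' x₁)) (X'.residueField x₁) (X''.residueField (ctr ξ)) :=
    IsScalarTower.of_algebraMap_eq' rfl
  haveI : IsScalarTower (S'.residueField (f' x₁)) (S''.residueField (f'' (ctr ξ)))
      (X''.residueField (ctr ξ)) :=
    IsScalarTower.of_algebraMap_eq' (congrArg CommRingCat.Hom.hom sq₃)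
  show Algebra.trdeg (S''.residueField (f'' (ctr ξ))) (X''.residueField (ctr ξ)) = r
  let tM : ι → X''.residueField (ctr ξ) := fun i => lam (l₁ (t i))
  -- independence
  have hFE : ∀ z : S''.residueField (f'' (ctr ξ)), ev ξ (φ z) ∈ E := by
    have key := mem_of_isPullback_fieldPt hS (ξ ≫ f'') E ?_ ?_
    · intro z
      have := key z
      rw [ev_comp] at this
      exact this
    · obtain ⟨e, he⟩ := fieldPt_eq (f' x₁) (k₁ ≫ σ₁c) ((ξ ≫ f'') ≫ p)
        (by rw [hξf, hb1, ha₁f])
      intro a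
      rw [he]
      exact hE₁ _
    · obtain ⟨e, he⟩ := fieldPt_eq (f' x₂) (k₂ ≫ σ₂c) ((ξ ≫ f'') ≫ q)
        (by rw [hξf, hb2, ha₂f])
      intro a
      rw [he]
      exact hE₂ _
  let fE : S''.residueField (f'' (ctr ξ)) →+* E :=
    RingHom.codRestrict ((ev ξ).hom.comp φ.hom) E hFE
  have hindM : AlgebraicIndependent (S''.residueField (f'' (ctr ξ))) tM := by
    refine AlgebraicIndependent.of_ringHom_of_comp_eq fE (ev ξ).hom ?_ fE.injective (by ext z; rfl)
    have hfun : (ev ξ).hom ∘ tM = fun i => σ₁ (algebraMap (X.residueField (g' x₁)) (X'.residueField x₁) (t i)) := by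
      funext i
      exact congr($hlam (l₁ (t i)))
    rw [hfun]
    exact hind
  -- algebraicity
  have ht₁ : IsTranscendenceBasis (S'.residueField (f' x₁))
      (algebraMap (X.residueField (g' x₁)) (X'.residueField x₁) ∘ t) :=
    isTranscendenceBasis_of_gen t ht hgen₁ (hr₁.trans hr.symm)
  haveI := ht₁.isAlgebraic
  have hgenM : ∀ E' : Subfield (X''.residueField (ctr ξ)),
      (∀ a : S''.residueField (f'' (ctr ξ)),
        algebraMap (S''.residueField (f'' (ctr ξ))) (X''.residueField (ctr ξ)) a ∈ E') →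
      (∀ b : X'.residueField x₁, algebraMap (X'.residueField x₁) (X''.residueField (ctr ξ)) b ∈ E') →
      ∀ z, z ∈ E' := by
    intro E' ha hb
    refine mem_of_isPullback hp (ctr ξ) E' ?_ ha
    intro a'
    have h4 : (X'.residueFieldCongr ep').inv ((X'.residueFieldCongr ep').hom a') = a' := by
      rw [← CommRingCat.comp_apply, Iso.hom_inv_id]; rfl
    have := hb ((X'.residueFieldCongr ep').hom a')
    have h5 : algebraMap (X'.residueField x₁) (X''.residueField (ctr ξ)) ((X'.residueFieldCongr ep').hom a') =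
        p'.residueFieldMap (ctr ξ) a' := by
      show (p'.residueFieldMap (ctr ξ)) ((X'.residueFieldCongr ep').inv
        ((X'.residueFieldCongr ep').hom a')) = _
      rw [h4]
    rwa [h5] at this
  have halgM : Algebra.IsAlgebraic (Algebra.adjoin (S''.residueField (f'' (ctr ξ))) (Set.range tM))
      (X''.residueField (ctr ξ)) :=
    isAlgebraic_adjoin_of_gen (K := S'.residueField (f' x₁)) hgenM
      (algebraMap (X.residueField (g' x₁)) (X'.residueField x₁) ∘ t)
  have hbasis : IsTranscendenceBasis (S''.residueField (f'' (ctr ξ))) tM :=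
    hindM.isTranscendenceBasis_iff_isAlgebraic.mpr halgM
  rw [← hbasis.cardinalMk_eq_trdeg, ht.cardinalMk_eq_trdeg, hr]

end Groth.Agent.S7287
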