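import Groth.Statements.S7304
import Groth.Agent.Lib.Seat82CompletionDescent2
import Groth.Agent.Lib.Seat82BlowUpExists
import Groth.Agent.Lib.Seat82BlowUpDominate
import Groth.Agent.S1680

set_option autoImplicit false
universe u
open CategoryTheory CategoryTheory.Limits AlgebraicGeometry
open Resolve

namespace Groth.Agent.S7304

/-- Let (A, m) be a Noetherian local ring with m-adic completion A^, and U ⊂ Spec A, U^ ⊂ Spec A^ the
punctured spectra. If c : Y → Spec A^ is a U^-admissible blowing up (a blowing up in a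
quasi-coherent ideal of finite type whose support misses U^), then there is a U-admissible blowing
up b : X → Spec A such that Y is isomorphic, over Spec A^, to the base change of X to Spec A^. -/
theorem result (A : Type u) [CommRing A] [IsLocalRing A] [IsNoetherianRing A]
    (Y : Scheme.{u}) (c : Y ⟶ Spec (CommRingCat.of (Curv2.cpl A)))
    (J : (Spec (CommRingCat.of (Curv2.cpl A))).IdealSheafData)
    (hJ : BlowUp.IsAdmissibleFor (FEt.puncturedSpec (Curv2.cpl A)) J) (hc : BlowUp.IsBlowUp c J) :
    ∃ (I : (Spec (CommRingCat.of A)).IdealSheafData) (X : Scheme.{u}) (b : X ⟶ Spec (CommRingCat.of A)),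
      BlowUp.IsAdmissibleFor (FEt.puncturedSpec A) I ∧ BlowUp.IsBlowUp b I ∧
      ∃ e : Y ≅ Curv2.bcCpl A b, e.hom ≫ Curv2.bcCplSnd A b = c := by
  classical
  have hfg : (IsLocalRing.maximalIdeal A).FG := (IsLocalRing.maximalIdeal A).fg_of_isNoetherianRing
  have hsupp : ∀ x ∈ (J.support : Set (Spec (CommRingCat.of (Curv2.cpl A)))),
      x = IsLocalRing.closedPoint (Curv2.cpl A) := by
    intro x hx
    by_contra hne
    exact Set.disjoint_left.1 hJ.2 hx hne
  have hJ' : ∀ a ∈ IsLocalRing.maximalIdeal A,
      ∀ x ∈ (J.support : Set (Spec (CommRingCat.of (AdicCompletion (IsLocalRing.maximalIdeal A) A)))),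
      algebraMap A (AdicCompletion (IsLocalRing.maximalIdeal A) A) a ∈ x.asIdeal := by
    intro a ha x hx
    rw [hsupp x hx]
    change _ ∈ IsLocalRing.maximalIdeal (AdicCompletion (IsLocalRing.maximalIdeal A) A)
    rw [AdicCompletion.maximalIdeal_eq_map]
    exact Ideal.mem_map_of_mem _ ha
  have hcomap := Groth.Agent.Lib.Seat82.CompletionDescent.comap_descIdeal_eq_spec
    (IsLocalRing.maximalIdeal A) hfg J hJ'
  have hflat : Flat (Spec.map (CommRingCat.ofHom (algebraMap A (Curv2.cpl A)))) := by
    rw [Flat.SpecMap_iff, CommRingCat.hom_ofHom, RingHom.flat_algebraMap_iff]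
    infer_instance
  obtain ⟨X, b, hb⟩ := Groth.Agent.Lib.Seat82.BlowUpExists.exists_isBlowUp (Spec (CommRingCat.of A))
    (Groth.Agent.Lib.Seat82.CompletionDescent.descIdeal
      (Spec.map (CommRingCat.ofHom (algebraMap A (AdicCompletion (IsLocalRing.maximalIdeal A) A)))) J)
  refine ⟨_, X, b, ⟨?_, ?_⟩, hb, ?_⟩
  · intro U
    have hN : IsNoetherianRing Γ(Spec (CommRingCat.of A), U.1) :=
      IsLocallyNoetherian.component_noetherian U
    exact IsNoetherian.noetherian _
  · rw [Set.disjoint_left]
    intro x hx hxU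
    apply hxU
    have := Groth.Agent.Lib.Seat82.CompletionDescent.support_descIdeal_subset
      (Spec.map (CommRingCat.ofHom (algebraMap A (AdicCompletion (IsLocalRing.maximalIdeal A) A))))
      (𝟙 (Spec (CommRingCat.of A))) J (IsLocalRing.closedPoint A)
      (IsLocalRing.isClosed_singleton_closedPoint A) (by
        intro y hy
        rw [hsupp y hy]
        exact IsLocalRing.comap_closedPoint (algebraMap A (AdicCompletion (IsLocalRing.maximalIdeal A) A)))
    exact this hx
  · have h1 := Groth.Agent.S1680.result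
      (Spec.map (CommRingCat.ofHom (algebraMap A (Curv2.cpl A)))) _ b hb
    rw [hcomap] at h1
    have h2 := Groth.Agent.Lib.Seat82.BlowUpDominate.isBlowUp_iso_comp _ _ h1
      (pullbackSymmetry b (Spec.map (CommRingCat.ofHom (algebraMap A (Curv2.cpl A)))))
    rw [pullbackSymmetry_hom_comp_fst] at h2
    exact Groth.Agent.Lib.Seat82.CompletionDescent.isBlowUp_unique J c _ hc h2


end Groth.Agent.S7304
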