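import Groth.Statements.S7357
import Groth.Agent.Lib.Seat79PthRootTraceAR

set_option autoImplicit false
universe u
open Polynomial
open Resolve

namespace Groth.Agent.S7357

set_option maxHeartbeats 1000000 in
/-- Let p be a prime number, Λ → R a ring map with R of characteristic p, a ∈ R and S = R[x]/(x^p - a).
For every t ≥ 0 there is a canonical R-linear map Tr : Ω^{t+1}_{S/Λ} → Ω^{t+1}_{R/Λ} with η_1 ∧ … ∧
η_t ∧ x^i dx ↦ 0 for 0 ≤ i ≤ p - 2 and η_1 ∧ … ∧ η_t ∧ x^{p-1} dx ↦ η_1 ∧ … ∧ η_t ∧ da (η_j ∈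
Ω_{R/Λ}, pulled back to Ω_{S/Λ}), and Tr annihilates the image of S ⊗_R Ω^{t+1}_{R/Λ} →
Ω^{t+1}_{S/Λ}. (Existence of such a map is asserted; R-linearity is written through the R-action on
S.) -/
theorem result (p : ℕ) [Fact p.Prime] (Λ R : Type u) [CommRing Λ] [CommRing R] [Algebra Λ R]
    [CharP Λ p] [CharP R p] (a : R) (t : ℕ) :
    ∃ Tr : (⋀[AdjoinRoot (X ^ p - C a : R[X])]^(t + 1) (Ω[AdjoinRoot (X ^ p - C a : R[X])⁄Λ])) →+ (⋀[R]^(t + 1) (Ω[R⁄Λ])),
      (∀ (r : R) (ω : ⋀[AdjoinRoot (X ^ p - C a : R[X])]^(t + 1) (Ω[AdjoinRoot (X ^ p - C a : R[X])⁄Λ])),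
        Tr (algebraMap R (AdjoinRoot (X ^ p - C a : R[X])) r • ω) = r • Tr ω) ∧
      (∀ (η : Fin t → Ω[R⁄Λ]) (i : ℕ), i + 2 ≤ p →
        Tr (exteriorPower.ιMulti _ (t + 1) (Fin.snoc (fun j => KaehlerDifferential.map Λ Λ R (AdjoinRoot (X ^ p - C a : R[X])) (η j))
          (AdjoinRoot.root (X ^ p - C a) ^ i • KaehlerDifferential.D Λ _ (AdjoinRoot.root (X ^ p - C a))))) = 0) ∧
      (∀ (η : Fin t → Ω[R⁄Λ]),
        Tr (exteriorPower.ιMulti _ (t + 1) (Fin.snoc (fun j => KaehlerDifferential.map Λ Λ R (AdjoinRoot (X ^ p - C a : R[X])) (η j))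
          (AdjoinRoot.root (X ^ p - C a) ^ (p - 1) • KaehlerDifferential.D Λ _ (AdjoinRoot.root (X ^ p - C a))))) =
          exteriorPower.ιMulti R (t + 1) (Fin.snoc η (KaehlerDifferential.D Λ R a))) ∧
      (∀ (s : AdjoinRoot (X ^ p - C a : R[X])) (η : Fin (t + 1) → Ω[R⁄Λ]),
        Tr (s • exteriorPower.ιMulti _ (t + 1) (fun j => KaehlerDifferential.map Λ Λ R (AdjoinRoot (X ^ p - C a : R[X])) (η j))) = 0) := by
  classical
  have hp : Fact p.Prime := inferInstance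
  have hmonic : (X ^ p - C a : R[X]).Monic := monic_X_pow_sub_C a hp.out.ne_zero
  have hnt : Nontrivial R := CharP.nontrivial_of_char_ne_one (R := R) hp.out.ne_one
  have hsurj : Function.Surjective
      (aeval (AdjoinRoot.root (X ^ p - C a : R[X])) : R[X] → AdjoinRoot (X ^ p - C a : R[X])) := by
    intro s
    obtain ⟨q, rfl⟩ := AdjoinRoot.mk_surjective s
    exact ⟨q, AdjoinRoot.aeval_eq q⟩
  have hker : ∀ g : R[X], aeval (AdjoinRoot.root (X ^ p - C a : R[X])) g = 0 →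
      (X ^ p - C a : R[X]) ∣ g := by
    intro g hg
    rwa [AdjoinRoot.aeval_eq, AdjoinRoot.mk_eq_zero] at hg
  have hf : aeval (AdjoinRoot.root (X ^ p - C a : R[X])) (X ^ p - C a : R[X]) = 0 := by
    rw [AdjoinRoot.aeval_eq, AdjoinRoot.mk_self]
  -- the coefficient of `x ^ (p - 1)`
  let c : AdjoinRoot (X ^ p - C a : R[X]) →ₗ[R] R :=
    (Polynomial.lcoeff R (p - 1)) ∘ₗ (AdjoinRoot.modByMonicHom hmonic)
  have hc : ∀ i : ℕ, i < p →
      c (AdjoinRoot.root (X ^ p - C a : R[X]) ^ i) = if i = p - 1 then 1 else 0 := by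
    intro i hi
    have h1 : AdjoinRoot.root (X ^ p - C a : R[X]) ^ i =
        AdjoinRoot.mk (X ^ p - C a : R[X]) (X ^ i) := by
      rw [map_pow, AdjoinRoot.mk_X]
    have h2 : (X ^ i : R[X]) %ₘ (X ^ p - C a : R[X]) = X ^ i := by
      rw [Polynomial.modByMonic_eq_self_iff hmonic, degree_X_pow_sub_C hp.out.pos, degree_X_pow]
      exact_mod_cast hi
    change Polynomial.lcoeff R (p - 1) (AdjoinRoot.modByMonicHom hmonic _) = _
    rw [h1, AdjoinRoot.modByMonicHom_mk, h2, Polynomial.lcoeff_apply, coeff_X_pow]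
    by_cases h : i = p - 1
    · rw [if_pos h, if_pos h.symm]
    · rw [if_neg h, if_neg (Ne.symm h)]
  obtain ⟨Tr, h0, h1, h3⟩ := Groth.Agent.Lib.Seat79.PthRootTraceAR.exists_trace p Λ a
    (AdjoinRoot.root (X ^ p - C a : R[X])) hsurj hker hf c t
  refine ⟨Tr, h0, fun η i hi => ?_, fun η => ?_, h3⟩
  · rw [h1, hc i (by omega), if_neg (by omega), zero_smul]
  · rw [h1, hc (p - 1) (by have := hp.out.pos; omega), if_pos rfl, one_smul]

end Groth.Agent.S7357
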