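import Groth.Statements.S7396
import Mathlib
import Groth.Agent.Lib.Seat32LimClosed
import Groth.Agent.S2154

set_option autoImplicit false
universe u
open CategoryTheory AlgebraicGeometry
open Lim

namespace Groth.Agent.S7396

open Groth.Agent.Lib.Helper22 Groth.Agent.Lib.Seat32.LimClosed

/-- Let `f : X → S` be finite with `S` quasi-compact and quasi-separated. Then there are a morphism `f'
: X' → S` which is finite and of finite presentation and a closed immersion `X → X'` over `S`. -/
theorem result {X S : Scheme.{u}} (f : X ⟶ S) [IsFinite f]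
    [CompactSpace S] [QuasiSeparatedSpace S] :
    ∃ (X' : Scheme.{u}) (f' : X' ⟶ S) (j : X ⟶ X'), IsFinite f' ∧ LocallyOfFinitePresentation f' ∧
      IsClosedImmersion j ∧ j ≫ f' = f := by
  have hX1 : CompactSpace X := QuasiCompact.compactSpace_of_compactSpace f
  have hX2 : QuasiSeparatedSpace X := quasiSeparatedSpace_of_quasiSeparated f
  obtain ⟨Y, f', j, h1, h2, h3, h4, h5, h6, h7⟩ := NA13.exists_closedImmersion_fp f
  have hfin : ∀ (a b : (FTLimit.Idx j.ker)ᵒᵖ) (φ : a ⟶ b), IsFinite ((sysOver j f').map φ).left :=
    fun a b φ => inferInstance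
  have hlft : ∀ a, LocallyOfFiniteType ((sysOver j f').obj a).hom := fun a => by
    have := sysOver_lfp j f' a
    infer_instance
  have hint : IsIntegralHom (sysCone j f').pt.hom := by
    have hiso : (sysCone j f').pt.hom = (sysConePtIso j f').hom.left ≫ f := by
      have := Over.w (sysConePtIso j f').hom
      simpa [h7] using this.symm
    rw [hiso]
    have hisoL : IsIso (sysConePtIso j f').hom.left :=
      (Over.forget S).map_isIso (sysConePtIso j f').hom
    have hf : IsIntegralHom f := inferInstance
    infer_instance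
  obtain ⟨i₀, hi₀⟩ := S2154.result S (sysOver j f') (sysCone j f') (sysConeIsLimit j f')
  refine ⟨i₀.unop.1.subscheme, i₀.unop.1.subschemeι ≫ f', toStage j i₀, hi₀ i₀ (𝟙 _),
    sysOver_lfp j f' i₀, inferInstance, ?_⟩
  rw [toStage_subschemeι_assoc, h7]

end Groth.Agent.S7396
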