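import Groth.Statements.S7394
import Groth.Agent.Lib.Seat32FieldExt

set_option autoImplicit false
universe u
open CategoryTheory AlgebraicGeometry
open Lim

namespace Groth.Agent.S7394

/-- Let `S` be a scheme and `T_i → S`, `i ∈ I`, surjective affine morphisms. Then any product of the
`T_i` in the category of schemes over `S` maps surjectively onto `S`. -/
theorem result {S : Scheme.{u}} {I : Type u} (T : I → Over S)
    (hT : ∀ i, IsAffineHom (T i).hom ∧ Surjective (T i).hom) (c : Limits.Fan T) (hc : Limits.IsLimit c) :
    Surjective c.pt.hom := by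
  refine ⟨fun s => ?_⟩
  have hsurj : ∀ i, ∃ t : (T i).left, (T i).hom t = s := fun i => (hT i).2.surj s
  choose t ht using hsurj
  -- the residue field extensions `κ(s) → κ(t i)`
  let a : ∀ i, S.residueField s ⟶ (T i).left.residueField (t i) := fun i =>
    (S.residueFieldCongr (ht i)).inv ≫ (T i).hom.residueFieldMap (t i)
  have ha : ∀ i, Spec.map (a i) ≫ S.fromSpecResidueField s =
      (T i).left.fromSpecResidueField (t i) ≫ (T i).hom := by
    intro i
    simp only [a, Spec.map_comp, Category.assoc]
    rw [Scheme.residueFieldCongr_inv, Scheme.residueFieldCongr_fromSpecResidueField,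
      Scheme.Hom.SpecMap_residueFieldMap_fromSpecResidueField]
  letI : ∀ i, Algebra (S.residueField s) ((T i).left.residueField (t i)) :=
    fun i => (a i).hom.toAlgebra
  obtain ⟨K, _, _, hK⟩ := Groth.Agent.Lib.Seat32.FieldExt.exists_common_extension
    (S.residueField s) (fun i => (T i).left.residueField (t i))
  have φ : ∀ i, (T i).left.residueField (t i) →ₐ[S.residueField s] K := fun i => (hK i).some
  -- the `K`-point of `S` over `s` and its lifts to the `T i`
  let base : Spec (CommRingCat.of K) ⟶ S :=
    Spec.map (CommRingCat.ofHom (algebraMap (S.residueField s) K)) ≫ S.fromSpecResidueField s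
  let m : ∀ i, Spec (CommRingCat.of K) ⟶ (T i).left := fun i =>
    Spec.map (CommRingCat.ofHom (φ i).toRingHom) ≫ (T i).left.fromSpecResidueField (t i)
  have hm : ∀ i, m i ≫ (T i).hom = base := by
    intro i
    simp only [m, base, Category.assoc]
    rw [← ha i, ← Spec.map_comp_assoc]
    congr 2
    ext x
    exact (φ i).commutes x
  let fan : Limits.Fan T := Limits.Fan.mk (Over.mk base) (fun i => Over.homMk (m i) (hm i))
  let l : Over.mk base ⟶ c.pt := hc.lift fan
  have hl : l.left ≫ c.pt.hom = base := Over.w l
  let p : Spec (CommRingCat.of K) := IsLocalRing.closedPoint K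
  refine ⟨l.left p, ?_⟩
  rw [← Scheme.Hom.comp_apply, hl]
  exact Scheme.fromSpecResidueField_apply s _

end Groth.Agent.S7394
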