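import Groth.Statements.S7395
import Mathlib
import Groth.Agent.Lib.Seat32LimClosed
import Groth.Agent.S9199

set_option autoImplicit false
universe u
open CategoryTheory AlgebraicGeometry
open Lim

namespace Groth.Agent.S7395

open Groth.Agent.Lib.Helper22 Groth.Agent.Lib.Seat32.LimClosed

/-- Let `f : X → S` be separated and of finite type with `S` quasi-compact and quasi-separated. Then
there are a separated morphism `f' : X' → S` of finite presentation and a closed immersion `X → X'`
over `S`. -/
theorem result {X S : Scheme.{u}} (f : X ⟶ S) [IsSeparated f]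
    [LocallyOfFiniteType f] [QuasiCompact f] [CompactSpace S] [QuasiSeparatedSpace S] :
    ∃ (X' : Scheme.{u}) (f' : X' ⟶ S) (j : X ⟶ X'), IsSeparated f' ∧ LocallyOfFinitePresentation f' ∧
      QuasiCompact f' ∧ IsClosedImmersion j ∧ j ≫ f' = f := by
  have hX1 : CompactSpace X := QuasiCompact.compactSpace_of_compactSpace f
  have hX2 : QuasiSeparatedSpace X := quasiSeparatedSpace_of_quasiSeparated f
  obtain ⟨Y, f', j, h1, h2, h3, h4, h5, h6, h7⟩ := NA13.exists_closedImmersion_fp f
  have haff : ∀ (a b : (FTLimit.Idx j.ker)ᵒᵖ) (φ : a ⟶ b), IsAffineHom ((sysSch j f').map φ) :=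
    fun a b φ => inferInstance
  obtain ⟨i₀⟩ : Nonempty (FTLimit.Idx j.ker)ᵒᵖ := inferInstance
  have hsep : IsSeparated ((sysSchCone j f').π.app i₀ ≫ (sysT j f').app i₀) := by
    have h := toImage_sysSchCone_π_sysT j f' i₀
    rw [h7] at h
    have hiso : IsIso j.toImage := inferInstance
    have : (sysSchCone j f').π.app i₀ ≫ (sysT j f').app i₀ = inv j.toImage ≫ f :=
      (IsIso.eq_inv_comp j.toImage).mpr h
    rw [this]
    exact (MorphismProperty.cancel_left_of_respectsIso @IsSeparated (inv j.toImage) f).mpr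
      inferInstance
  obtain ⟨i₁, hi₁⟩ := S9199.result S (sysSch j f') (sysT j f') (sysSchCone j f')
    (sysSchConeIsLimit j f') i₀
  have hsep₁ : IsSeparated (i₁.unop.1.subschemeι ≫ f') := hi₁ i₁ (𝟙 _)
  refine ⟨i₁.unop.1.subscheme, i₁.unop.1.subschemeι ≫ f', toStage j i₁, hsep₁,
    sysOver_lfp j f' i₁, inferInstance, inferInstance, ?_⟩
  rw [toStage_subschemeι_assoc, h7]

end Groth.Agent.S7395
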