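import Groth.Statements.S7448
import Groth.Agent.Lib.Seat81SecRpush2
import Groth.Agent.Lib.Seat54PushLin
import Groth.Agent.Lib.Seat54PnVanish2
import Groth.Agent.Lib.Helper13ProjBC
import Groth.Agent.Lib.Helper20PullbackAff
import Groth.Agent.Lib.Helper23TensorQCoh

set_option autoImplicit false
universe u
open Lim

namespace Groth.Agent.S7448

open AlgebraicGeometry CategoryTheory TopologicalSpace in
/-- a quasi-compact open of a quasi-separated scheme is retrocompact. -/
theorem quasiCompact_ι {X : Scheme.{u}} [QuasiSeparatedSpace X] (W : X.Opens)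
    (hW : IsCompact (W : Set X)) : QuasiCompact W.ι := by
  constructor
  intro U hU hUc
  have h1 : IsCompact ((W : Set X) ∩ U) :=
    QuasiSeparatedSpace.inter_isCompact _ _ W.2 hW hU hUc
  have hemb := W.ι.isOpenEmbedding.isEmbedding
  rw [hemb.isCompact_iff, Set.image_preimage_eq_inter_range]
  have : Set.range W.ι = (W : Set X) := by
    simp
  rw [this, Set.inter_comm]
  exact h1

open AlgebraicGeometry CategoryTheory in
theorem isQCoh_restrict {X : Scheme.{u}} (M : X.Modules) [M.IsQuasicoherent] (W : X.Opens) :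
    (M.restrict W.ι).IsQuasicoherent := by
  have : ((Scheme.Modules.pullback W.ι).obj M).IsQuasicoherent :=
    Groth.Agent.Lib.Helper20.PullbackAff.isQuasicoherent_pullback _ _
  exact Groth.Agent.Lib.Helper23.TensorQCoh.isQuasicoherent_of_iso
    ((Scheme.Modules.restrictFunctorIsoPullback W.ι).app M).symm

open AlgebraicGeometry CategoryTheory in
/-- Let `f : X → Y` be a morphism with `X`, `Y` quasi-compact and quasi-separated, and `d ≥ 0` such that
`R^i f_* F = 0` for all `i > d` and all quasi-coherent `F`. Then for every cartesian square with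
base change `f' : X' → Y'` of `f`, `R^i f'_* F' = 0` for all `i > d` and all quasi-coherent
`O_{X'}`-modules `F'`. -/
theorem result {X Y X' Y' : Scheme.{u}} (f : X ⟶ Y) [CompactSpace X]
    [QuasiSeparatedSpace X] [CompactSpace Y] [QuasiSeparatedSpace Y] (d : ℕ)
    (hvan : ∀ (M : X.Modules) (i : ℕ), Coh.IsQCoh M → d < i → Limits.IsZero ((Coh.RpushAb f i).obj (Coh.toAb M)))
    (g : Y' ⟶ Y) (f' : X' ⟶ Y') (g' : X' ⟶ X) (sq : IsPullback g' f' f g) (M' : X'.Modules) [Coh.IsQCoh M']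
    (i : ℕ) (hi : d < i) : Limits.IsZero ((Coh.RpushAb f' i).obj (Coh.toAb M')) := by
  have hfqc : QuasiCompact f := inferInstance
  have hfqs : QuasiSeparated f := inferInstance
  have hf'qc : QuasiCompact f' := MorphismProperty.of_isPullback sq hfqc
  have hf'qs : QuasiSeparated f' := MorphismProperty.of_isPullback sq hfqs
  -- reformulate the hypothesis
  have hvan' : ∀ (M : X.Modules), Coh.IsQCoh M → ∀ V : Y.Opens, IsAffineOpen V →
      Subsingleton (Coh.HHon X M (f ⁻¹ᵁ V) i) := by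
    intro M hM V hV
    have : M.IsQuasicoherent := hM
    exact (Groth.Agent.Lib.Seat81.SecRpush.isZero_RpushAb_iff_forall_affine f M i).mp
      (hvan M i hM hi) V hV
  refine Groth.Agent.Lib.Seat81.SecRpush.isZero_RpushAb_of_affine_cover f' M' i
    (fun P : Groth.Agent.Helper13ProjBC.Pairs g => (P.1.2 : Y'.Opens)) ?_ (fun P => P.1.2.2)
    (fun P => ?_)
  · rw [TopologicalSpace.IsOpenCover, eq_top_iff]
    intro y _
    obtain ⟨P, hP⟩ := Groth.Agent.Helper13ProjBC.exists_pair g y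
    exact TopologicalSpace.Opens.mem_iSup.mpr ⟨P, hP⟩
  · obtain ⟨⟨⟨V, hV⟩, ⟨V', hV'⟩⟩, hle⟩ := P
    change Subsingleton (Coh.HHon X' M' (f' ⁻¹ᵁ V') i)
    replace hle : V' ≤ g ⁻¹ᵁ V := hle
    have hW'eq : f' ⁻¹ᵁ V' = g' ⁻¹ᵁ (f ⁻¹ᵁ V) ⊓ f' ⁻¹ᵁ V' := by
      apply le_antisymm
      · refine le_inf ?_ le_rfl
        intro x hx
        change f (g' x) ∈ V
        have hxx : f (g' x) = g (f' x) := congr($(sq.w) x)
        rw [hxx]
        exact hle hx
      · exact inf_le_right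
    have hpb := Scheme.Hom.isPullback_resLE sq hle (le_refl (f ⁻¹ᵁ V)) hW'eq
    have : IsAffine (V : Scheme.{u}) := hV
    have : IsAffine (V' : Scheme.{u}) := hV'
    have haff : IsAffineHom (g.resLE V V' hle) := inferInstance
    have hle' : f' ⁻¹ᵁ V' ≤ g' ⁻¹ᵁ (f ⁻¹ᵁ V) := by rw [hW'eq]; exact inf_le_left
    have hh : IsAffineHom (g'.resLE (f ⁻¹ᵁ V) (f' ⁻¹ᵁ V') hle') :=
      MorphismProperty.of_isPullback hpb.flip haff
    have hqM : (M'.restrict (f' ⁻¹ᵁ V').ι).IsQuasicoherent := isQCoh_restrict M' _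
    refine Groth.Agent.Lib.Seat54.PushLin.subsingleton_of_push
      (g'.resLE (f ⁻¹ᵁ V) (f' ⁻¹ᵁ V') hle') (M'.restrict (f' ⁻¹ᵁ V').ι) i ?_
    have hWc : IsCompact ((f ⁻¹ᵁ V : X.Opens) : Set X) :=
      QuasiCompact.isCompact_preimage (f := f) _ V.2 hV.isCompact
    have := quasiCompact_ι (f ⁻¹ᵁ V) hWc
    have hqN := Groth.Agent.Lib.Helper23.QCohLocal.isQuasicoherent_pushforward
      (g'.resLE (f ⁻¹ᵁ V) (f' ⁻¹ᵁ V') hle')
      (M'.restrict (f' ⁻¹ᵁ V').ι)
    have hqN' := Groth.Agent.Lib.Helper23.QCohLocal.isQuasicoherent_pushforward (f ⁻¹ᵁ V).ι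
      ((Scheme.Modules.pushforward
        (g'.resLE (f ⁻¹ᵁ V) (f' ⁻¹ᵁ V') hle')).obj
        (M'.restrict (f' ⁻¹ᵁ V').ι))
    have h1 := hvan' _ hqN' V hV
    exact Groth.Agent.Lib.Seat54.PnVanish.subsingleton_HH_of_iso
      ((Scheme.Modules.restrictFunctorAdjCounitIso (f ⁻¹ᵁ V).ι).app _).symm i h1

end Groth.Agent.S7448
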