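import Groth.Statements.S7463
import Groth.Agent.Lib.Seat33ClosureComp

set_option autoImplicit false
universe u
open CategoryTheory CategoryTheory.Limits AlgebraicGeometry
open Grpd

namespace Groth.Agent.S7463

/-- Consider a groupoid scheme (U, R, s, t, c) over S in which U is the spectrum of a field, and write Z
for the closure of the image of the morphism j = (t, s) : R -> U x_S U. Then, set-theoretically,
pr_02 carries Z x_(pr_1,U,pr_0) Z into Z: given the morphism pr_02 from (U x_S U) x_(pr_1,U,pr_0) (U
x_S U) to U x_S U, whose components are pr_0 of the first factor and pr_1 of the second, any point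
both of whose projections land in Z is mapped to a point of Z. (A groupoid scheme consists of U, R,
s, t, c, e, i over S satisfying the groupoid axioms on T-points; c is defined on the fibre product
of s and t and takes a pair (a, b) with s(a) = t(b) to the composite of a with b.) -/
theorem result (S : Scheme.{u}) (G : Grpd.GroupoidScheme S) (k : Type u) [Field k] (eU : G.U ≅ Spec (CommRingCat.of k)) (pr02 : pullback (pullback.snd G.pU G.pU) (pullback.fst G.pU G.pU) ⟶ pullback G.pU G.pU) (h0 : pr02 ≫ pullback.fst G.pU G.pU = pullback.fst (pullback.snd G.pU G.pU) (pullback.fst G.pU G.pU) ≫ pullback.fst G.pU G.pU) (h1 : pr02 ≫ pullback.snd G.pU G.pU = pullback.snd (pullback.snd G.pU G.pU) (pullback.fst G.pU G.pU) ≫ pullback.snd G.pU G.pU) (p : ↑(pullback (pullback.snd G.pU G.pU) (pullback.fst G.pU G.pU))) (h₁ : pullback.fst (pullback.snd G.pU G.pU) (pullback.fst G.pU G.pU) p ∈ closure (Set.range ⇑G.j)) (h₂ : pullback.snd (pullback.snd G.pU G.pU) (pullback.fst G.pU G.pU) p ∈ closure (Set.range ⇑G.j)) : pr02 p ∈ closure (Set.range ⇑G.j) := by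
  have hI : IsIntegral G.U := by
    have : IsIntegral (Spec (CommRingCat.of k)) := inferInstance
    have : Nonempty G.U := ⟨eU.inv (IsLocalRing.closedPoint k)⟩
    exact isIntegral_of_isOpenImmersion eU.hom
  have hS : Subsingleton G.U :=
    (eU.hom.homeomorph.injective).subsingleton
  have hjs : G.j ≫ pullback.snd G.pU G.pU = G.s := pullback.lift_snd _ _ _
  have hjt : G.j ≫ pullback.fst G.pU G.pU = G.t := pullback.lift_fst _ _ _
  let M : pullback G.s G.t ⟶ pullback (pullback.snd G.pU G.pU) (pullback.fst G.pU G.pU) :=
    pullback.map G.s G.t (pullback.snd G.pU G.pU) (pullback.fst G.pU G.pU) G.j G.j (𝟙 G.U)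
      (by rw [Category.comp_id, hjs]) (by rw [Category.comp_id, hjt])
  have hM : Set.range ⇑M = pullback.fst (pullback.snd G.pU G.pU) (pullback.fst G.pU G.pU) ⁻¹'
        Set.range ⇑G.j ∩
      pullback.snd (pullback.snd G.pU G.pU) (pullback.fst G.pU G.pU) ⁻¹' Set.range ⇑G.j :=
    Scheme.Pullback.range_map _ _ _ _ _ _ _ _ _
  have hcs : G.c ≫ G.s = pullback.snd G.s G.t ≫ G.s := by
    have h := G.comp_s (pullback.fst G.s G.t) (pullback.snd G.s G.t) pullback.condition
    have e1 : pullback.lift (pullback.fst G.s G.t) (pullback.snd G.s G.t) pullback.condition =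
        𝟙 _ := by
      apply pullback.hom_ext <;> simp
    rwa [e1, Category.id_comp] at h
  have hct : G.c ≫ G.t = pullback.fst G.s G.t ≫ G.t := by
    have h := G.comp_t (pullback.fst G.s G.t) (pullback.snd G.s G.t) pullback.condition
    have e1 : pullback.lift (pullback.fst G.s G.t) (pullback.snd G.s G.t) pullback.condition =
        𝟙 _ := by
      apply pullback.hom_ext <;> simp
    rwa [e1, Category.id_comp] at h
  have hc : M ≫ pr02 = G.c ≫ G.j := by
    apply pullback.hom_ext
    · rw [Category.assoc, h0, Category.assoc, hjt, hct]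
      simp only [M, pullback.map, pullback.lift_fst_assoc, Category.assoc, hjt]
    · rw [Category.assoc, h1, Category.assoc, hjs, hcs]
      simp only [M, pullback.map, pullback.lift_snd_assoc, Category.assoc, hjs]
  exact Groth.Agent.Lib.Seat33.ClosureComp.mem_closure_of_mem_closure _ _ _ _ M hM pr02 G.c
    G.j hc p h₁ h₂

end Groth.Agent.S7463
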