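import Groth.Statements.S7468
import Groth.Agent.Lib.Seat33VLift

set_option autoImplicit false
universe w u
open HTop

namespace Groth.Agent.S7468

open CategoryTheory CategoryTheory.Limits AlgebraicGeometry in
/-- If T is affine and a finite family is obtained by restricting one proper surjective morphism U -> T
to the pieces of a finite affine open cover of U, then the family is a standard V covering. -/
theorem result {T : Scheme.{u}} (E : PreZeroHypercover.{w} T) (hE : HTop.IsStandardPh E) : HTop.IsStandardV E := by
  obtain ⟨hT, hfin, haff, U, f, ι, hprop, hsurj, hopen, hι, hcov⟩ := hE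
  refine ⟨hT, hfin, haff, ?_⟩
  intro V _ _ g
  let η : Spec V := (⟨⊥, Ideal.isPrime_bot⟩ : PrimeSpectrum V)
  -- a point of the fibre product over the generic point
  have : Surjective (pullback.fst g f) := inferInstance
  obtain ⟨w', hw'⟩ := (pullback.fst g f).surjective η
  have hη : (pullback.fst g f) w' ⤳ IsLocalRing.closedPoint V := by
    rw [hw']
    exact IsLocalRing.specializes_closedPoint (R := V) η
  have : IsProper (pullback.fst g f) := inferInstance
  obtain ⟨w, hw1, hw2⟩ := (pullback.fst g f).isClosedMap.specializingMap hη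
  obtain ⟨W, hWd, hWv, φ, hφ, g', hg', hg'c⟩ :=
    Groth.Agent.Lib.Seat33.VLift.exists_extVal_of_specializes V g f hw1 (by rw [hw']) hw2
  obtain ⟨j, hj⟩ := hcov (pullback.snd g f w)
  have : IsOpenImmersion (ι j) := hopen j
  have hrange : Set.range g' ⊆ Set.range (ι j) := by
    rintro _ ⟨y, rfl⟩
    have hy : y ⤳ IsLocalRing.closedPoint W := IsLocalRing.specializes_closedPoint (R := W) y
    have h2 : g' y ⤳ g' (IsLocalRing.closedPoint W) := hy.map g'.continuous
    rw [hg'c] at h2
    exact h2.mem_open (ι j).isOpenEmbedding.isOpen_range hj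
  refine ⟨W, hWd, hWv, φ, hφ, j, IsOpenImmersion.lift (ι j) g' hrange, ?_⟩
  rw [← hι j, ← Category.assoc, IsOpenImmersion.lift_fac, hg']

end Groth.Agent.S7468
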