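import Groth.Statements.S7481
import Groth.Agent.Lib.Seat33PhCalc

set_option autoImplicit false
universe w u
open HTop

namespace Groth.Agent.S7481

open CategoryTheory CategoryTheory.Limits AlgebraicGeometry in
/-- Let E be a ph covering of a scheme T and, for every member T_i of E, let F_i be a ph covering of
T_i. Then the composite family of all T_ij -> T is a ph covering of T. -/
theorem result {T : Scheme.{u}} (E : PreZeroHypercover.{w} T) (hE : HTop.IsPhCover E) (F : ∀ i, PreZeroHypercover.{w} (E.X i)) (hF : ∀ i, HTop.IsPhCover (F i)) : HTop.IsPhCover (E.bind F) := by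
  refine ⟨fun ij => ?_, fun U => ?_⟩
  · have := hE.1 ij.1
    have := (hF ij.1).1 ij.2
    exact inferInstanceAs (LocallyOfFiniteType ((F ij.1).f ij.2 ≫ E.f ij.1))
  · have : IsAffine ((U : T.Opens) : Scheme.{u}) := U.2
    obtain ⟨G, hG, hGr⟩ := hE.2 U
    choose i h hh using hGr
    have h0 : Groth.Agent.Lib.Seat33.PhCalc.PhFac (U : T.Opens).ι (E.bind F) := by
      refine Groth.Agent.Lib.Seat33.PhCalc.phFac_of_isStandardPh_of_forall G hG _ (fun k => ?_)
      have := hG.isAffine_obj k
      have h1 := (Groth.Agent.Lib.Seat33.PhCalc.phFac_of_isPhCover (h k) (F (i k))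
        (hF (i k))).bind (E := E)
      exact h1.congr (hh k)
    exact h0.exists_isStandardPh


end Groth.Agent.S7481
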