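import Groth.Statements.S7498
import Groth.Agent.Lib.Helper2Grpd

set_option autoImplicit false
universe u
open CategoryTheory CategoryTheory.Limits AlgebraicGeometry
open Grpd
open Groth.Agent.Lib.Helper2.Grpd

namespace Groth.Agent.S7498

/-- Let (U, R, s, t, c) be a groupoid scheme over S and r, r' points of R with t(r) = t(r'); put u =
s(r), u' = s(r') and let F_u, F_u' be the scheme-theoretic fibres of s. Then there are a field k
which is a common extension of κ(u) and κ(u') (morphisms a, b : Spec k -> U with images u, u') and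
an isomorphism of the base changes (F_u)_k and (F_u')_k over Spec k, which moreover can be chosen to
send some point lying over r to a point lying over r'. (The published statement also compares the
germs of s at r and at r' when s and t are flat or flat of finite presentation; this row omits
that.) (A groupoid scheme carries U, R, s, t, c, e, i over S with the groupoid axioms on T-points; c
is defined on the fibre product of s and t and sends a pair (a, b) with s(a) = t(b) to a composed
with b.) -/
theorem result (S : Scheme.{u}) (G : Grpd.GroupoidScheme S) (r r' : G.R) (h : G.t r = G.t r') : ∃ (k : Type u) (_ : Field k) (a b : Spec (CommRingCat.of k) ⟶ G.U) (φ : pullback G.s a ≅ pullback G.s b) (p : ↑(pullback G.s a)), a (IsLocalRing.closedPoint k) = G.s r ∧ b (IsLocalRing.closedPoint k) = G.s r' ∧ φ.hom ≫ pullback.snd G.s b = pullback.snd G.s a ∧ pullback.fst G.s a p = r ∧ pullback.fst G.s b (φ.hom p) = r' := by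
  classical
  obtain ⟨ρ, hρ₁, hρ₂⟩ := Scheme.Pullback.exists_preimage_pullback (f := G.t) (g := G.t) r r' h
  let κ := (pullback G.t G.t).residueField ρ
  let g : Spec (CommRingCat.of ↑κ) ⟶ pullback G.t G.t := (pullback G.t G.t).fromSpecResidueField ρ
  have hg : g (IsLocalRing.closedPoint ↑κ) = ρ :=
    (pullback G.t G.t).fromSpecResidueField_apply ρ _
  let α : Spec (CommRingCat.of ↑κ) ⟶ G.R := g ≫ pullback.fst G.t G.t
  let α' : Spec (CommRingCat.of ↑κ) ⟶ G.R := g ≫ pullback.snd G.t G.t
  have hαα' : α ≫ G.t = α' ≫ G.t := by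
    simp only [α, α', Category.assoc, pullback.condition]
  have hα : α (IsLocalRing.closedPoint ↑κ) = r := by
    simp only [α, Scheme.Hom.comp_base, TopCat.hom_comp, ContinuousMap.comp_apply, hg, hρ₁]
  have hα' : α' (IsLocalRing.closedPoint ↑κ) = r' := by
    simp only [α', Scheme.Hom.comp_base, TopCat.hom_comp, ContinuousMap.comp_apply, hg, hρ₂]
  have hγc : (α ≫ G.i) ≫ G.s = α' ≫ G.t := by rw [Category.assoc, G.i_s, hαα']
  let γ : Spec (CommRingCat.of ↑κ) ⟶ G.R := comp G (α ≫ G.i) α' hγc
  have hγs : γ ≫ G.s = α' ≫ G.s := comp_s G _ _ _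
  have hγt : γ ≫ G.t = α ≫ G.s := by
    rw [comp_t G, Category.assoc, G.i_t]
  let a : Spec (CommRingCat.of ↑κ) ⟶ G.U := α ≫ G.s
  let b : Spec (CommRingCat.of ↑κ) ⟶ G.U := α' ≫ G.s
  -- forward map
  have hf₁ : pullback.fst G.s a ≫ G.s = (pullback.snd G.s a ≫ γ) ≫ G.t := by
    rw [Category.assoc, hγt, pullback.condition]
  have hf₂ : comp G (pullback.fst G.s a) (pullback.snd G.s a ≫ γ) hf₁ ≫ G.s =
      pullback.snd G.s a ≫ b := by
    rw [comp_s G, Category.assoc, hγs]
  let F : pullback G.s a ⟶ pullback G.s b :=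
    pullback.lift (comp G (pullback.fst G.s a) (pullback.snd G.s a ≫ γ) hf₁) (pullback.snd G.s a) hf₂
  have hb₁ : pullback.fst G.s b ≫ G.s = ((pullback.snd G.s b ≫ γ) ≫ G.i) ≫ G.t := by
    rw [Category.assoc, G.i_t, Category.assoc, hγs, pullback.condition]
  have hb₂ : comp G (pullback.fst G.s b) ((pullback.snd G.s b ≫ γ) ≫ G.i) hb₁ ≫ G.s =
      pullback.snd G.s b ≫ a := by
    rw [comp_s G, Category.assoc, G.i_s, Category.assoc, hγt]
  let B : pullback G.s b ⟶ pullback G.s a :=
    pullback.lift (comp G (pullback.fst G.s b) ((pullback.snd G.s b ≫ γ) ≫ G.i) hb₁)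
      (pullback.snd G.s b) hb₂
  have hFB : F ≫ B = 𝟙 _ := by
    apply pullback.hom_ext
    · have e0 : B ≫ pullback.fst G.s a =
          comp G (pullback.fst G.s b) ((pullback.snd G.s b ≫ γ) ≫ G.i) hb₁ := pullback.lift_fst _ _ _
      rw [Category.assoc, Category.id_comp, e0, precomp_comp G]
      have e1 : F ≫ pullback.fst G.s b =
          comp G (pullback.fst G.s a) (pullback.snd G.s a ≫ γ) hf₁ := pullback.lift_fst _ _ _
      have e2 : F ≫ (pullback.snd G.s b ≫ γ) ≫ G.i = (pullback.snd G.s a ≫ γ) ≫ G.i := by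
        simp only [F, Category.assoc, pullback.lift_snd_assoc]
      rw [comp_congr G _ e1 e2]
      exact comp_comp_i G _ _ _ _
    · simp only [F, B, Category.assoc, pullback.lift_snd, Category.id_comp]
  have hBF : B ≫ F = 𝟙 _ := by
    apply pullback.hom_ext
    · have e0 : F ≫ pullback.fst G.s b =
          comp G (pullback.fst G.s a) (pullback.snd G.s a ≫ γ) hf₁ := pullback.lift_fst _ _ _
      rw [Category.assoc, Category.id_comp, e0, precomp_comp G]
      have e1 : B ≫ pullback.fst G.s a =
          comp G (pullback.fst G.s b) ((pullback.snd G.s b ≫ γ) ≫ G.i) hb₁ := pullback.lift_fst _ _ _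
      have e2 : B ≫ pullback.snd G.s a ≫ γ = pullback.snd G.s b ≫ γ := by
        simp only [B, pullback.lift_snd_assoc]
      rw [comp_congr G _ e1 e2]
      exact comp_i_comp' G _ _ _ _
    · simp only [F, B, Category.assoc, pullback.lift_snd, Category.id_comp]
  let P : Spec (CommRingCat.of ↑κ) ⟶ pullback G.s a :=
    pullback.lift α (𝟙 _) (by rw [Category.id_comp])
  refine ⟨↑κ, inferInstance, a, b, ⟨F, B, hFB, hBF⟩, P (IsLocalRing.closedPoint ↑κ), ?_, ?_, ?_, ?_, ?_⟩
  · simp only [a, Scheme.Hom.comp_base, TopCat.hom_comp, ContinuousMap.comp_apply, hα]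
  · simp only [b, Scheme.Hom.comp_base, TopCat.hom_comp, ContinuousMap.comp_apply, hα']
  · exact pullback.lift_snd _ _ _
  · rw [← Scheme.Hom.comp_apply, pullback.lift_fst, hα]
  · have e : P ≫ F ≫ pullback.fst G.s b = α' := by
      have e0 : F ≫ pullback.fst G.s b =
          comp G (pullback.fst G.s a) (pullback.snd G.s a ≫ γ) hf₁ := pullback.lift_fst _ _ _
      rw [e0, precomp_comp G]
      have e1 : P ≫ pullback.fst G.s a = α := pullback.lift_fst _ _ _
      have e2 : P ≫ pullback.snd G.s a ≫ γ = γ := by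
        simp only [P, pullback.lift_snd_assoc, Category.id_comp]
      rw [comp_congr G _ e1 e2]
      exact comp_i_comp G _ _ _ _
    rw [← Scheme.Hom.comp_apply, ← Scheme.Hom.comp_apply, e, hα']

end Groth.Agent.S7498
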