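import Groth.Statements.S7499
import Groth.Agent.S0593

set_option autoImplicit false
universe u
open CategoryTheory CategoryTheory.Limits AlgebraicGeometry
open Grpd

namespace Groth.Agent.S7499

section aux

variable {S : Scheme.{u}} (G : Grpd.GroupoidScheme S)

lemma c_t : G.c ≫ G.t = pullback.fst G.s G.t ≫ G.t := by
  have h := G.comp_t (pullback.fst G.s G.t) (pullback.snd G.s G.t) pullback.condition
  have h1 : pullback.lift (pullback.fst G.s G.t) (pullback.snd G.s G.t) pullback.condition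
      = 𝟙 _ := by
    apply pullback.hom_ext <;> simp
  rwa [h1, Category.id_comp] at h

lemma c_s : G.c ≫ G.s = pullback.snd G.s G.t ≫ G.s := by
  have h := G.comp_s (pullback.fst G.s G.t) (pullback.snd G.s G.t) pullback.condition
  have h1 : pullback.lift (pullback.fst G.s G.t) (pullback.snd G.s G.t) pullback.condition
      = 𝟙 _ := by
    apply pullback.hom_ext <;> simp
  rwa [h1, Category.id_comp] at h

/-- Composition of arrows, on points. -/
lemma exists_comp (a b : G.R) (h : G.s a = G.t b) :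
    ∃ r : G.R, G.t r = G.t a ∧ G.s r = G.s b := by
  obtain ⟨z, hz1, hz2⟩ := Scheme.Pullback.exists_preimage_pullback (f := G.s) (g := G.t) a b h
  refine ⟨G.c z, ?_, ?_⟩
  · rw [← Scheme.Hom.comp_apply, c_t, Scheme.Hom.comp_apply, hz1]
  · rw [← Scheme.Hom.comp_apply, c_s, Scheme.Hom.comp_apply, hz2]

lemma i_s_apply (r : G.R) : G.s (G.i r) = G.t r := by
  rw [← Scheme.Hom.comp_apply, G.i_s]

lemma i_t_apply (r : G.R) : G.t (G.i r) = G.s r := by
  rw [← Scheme.Hom.comp_apply, G.i_t]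

/-- `a ∘ b⁻¹` for two arrows with the same source, on points. -/
lemma exists_comp_inv (a b : G.R) (h : G.s a = G.s b) :
    ∃ r : G.R, G.t r = G.t a ∧ G.s r = G.t b := by
  obtain ⟨r, h1, h2⟩ := exists_comp G a (G.i b) (by rw [i_t_apply, h])
  exact ⟨r, h1, by rw [h2, i_s_apply]⟩

end aux

/-- Let (U, R, s, t, c) be a groupoid scheme over S with s and t integral, and g : U' -> U an integral
morphism such that every R-orbit of U meets the image of g. Let R' = (U' x_(g,U,t) R) x_(s pr, U, g)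
U' be the restriction of R to U', with t' the projection to the first factor U' and s' the
projection to the last. If u' is a point of U' contained in an affine open W' of U' with t'^{-1}(W')
= s'^{-1}(W'), then g(u') is contained in an affine open W of U with s^{-1}(W) = t^{-1}(W). (A
groupoid scheme carries U, R, s, t, c, e, i over S with the groupoid axioms on T-points; c is
defined on the fibre product of s and t and sends a pair (a, b) with s(a) = t(b) to a composed with
b.) -/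
theorem result (S : Scheme.{u}) (G : Grpd.GroupoidScheme S) [IsIntegralHom G.s] [IsIntegralHom G.t] (U' : Scheme.{u}) (g : U' ⟶ G.U) [IsIntegralHom g] (horb : ∀ u : G.U, ∃ r : G.R, G.s r = u ∧ G.t r ∈ Set.range ⇑g) (u' : U') (W' : U'.Opens) (hW' : IsAffineOpen W') (hu' : u' ∈ W') (hinv : (pullback.fst (pullback.snd g G.t ≫ G.s) g ≫ pullback.fst g G.t) ⁻¹ᵁ W' = (pullback.snd (pullback.snd g G.t ≫ G.s) g) ⁻¹ᵁ W') : ∃ W : G.U.Opens, IsAffineOpen W ∧ g u' ∈ W ∧ G.s ⁻¹ᵁ W = G.t ⁻¹ᵁ W := by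
  -- notation
  set p₀ : pullback g G.t ⟶ U' := pullback.fst g G.t with hp₀
  set p₁ : pullback g G.t ⟶ G.R := pullback.snd g G.t with hp₁
  set h : pullback g G.t ⟶ G.U := p₁ ≫ G.s with hh
  -- points of `R̃` from pairs
  have hpt : ∀ (x : U') (r : G.R), g x = G.t r → ∃ w : ↥(pullback g G.t), p₀ w = x ∧ h w = G.s r := by
    intro x r hxr
    obtain ⟨w, hw1, hw2⟩ := Scheme.Pullback.exists_preimage_pullback (f := g) (g := G.t) x r hxr
    exact ⟨w, hw1, by rw [hh, Scheme.Hom.comp_apply]; exact congrArg _ hw2⟩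
  have hcond : ∀ w : ↥(pullback g G.t), g (p₀ w) = G.t (p₁ w) := by
    intro w
    rw [← Scheme.Hom.comp_apply, ← Scheme.Hom.comp_apply, pullback.condition]
  -- saturation
  have hsat : ∀ p q : ↥(pullback g G.t), h p = h q → p₀ p ∈ W' → p₀ q ∈ W' := by
    intro p q hpq hp
    have hs : G.s (p₁ p) = G.s (p₁ q) := by
      simpa [hh, Scheme.Hom.comp_apply] using hpq
    obtain ⟨r, hr1, hr2⟩ := exists_comp_inv G (p₁ p) (p₁ q) hs
    obtain ⟨w, hw1, hw2⟩ := hpt (p₀ p) r (by rw [hr1, hcond])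
    -- a point of `R'`
    obtain ⟨ρ, hρ1, hρ2⟩ := Scheme.Pullback.exists_preimage_pullback (f := h) (g := g) w (p₀ q)
      (by rw [hw2, hr2, hcond])
    have hmem : ρ ∈ (pullback.fst h g ≫ p₀) ⁻¹ᵁ W' := by
      show (pullback.fst h g ≫ p₀) ρ ∈ W'
      rw [Scheme.Hom.comp_apply, hρ1, hw1]
      exact hp
    rw [hinv] at hmem
    have : (pullback.snd h g) ρ ∈ W' := hmem
    rwa [hρ2] at this
  -- integrality of `p₀`, `p₁`, `h`
  have hp₀int : IsIntegralHom p₀ := by rw [hp₀]; infer_instance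
  have hp₁int : IsIntegralHom p₁ := by rw [hp₁]; infer_instance
  have hhint : IsIntegralHom h := by rw [hh]; infer_instance
  -- `h` is surjective
  have hsurj : ∀ u : G.U, ∃ w : ↥(pullback g G.t), h w = u := by
    intro u
    obtain ⟨r, hr, x, hx⟩ := horb u
    obtain ⟨w, -, hw2⟩ := hpt x r hx
    exact ⟨w, hw2.trans hr⟩
  -- the set `W`
  have hcompl : (h '' (p₀ ⁻¹' (W' : Set U')))ᶜ = h '' (p₀ ⁻¹' (W' : Set U'))ᶜ := by
    ext u
    constructor
    · intro hu
      obtain ⟨w, rfl⟩ := hsurj u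
      exact ⟨w, fun hw => hu ⟨w, hw, rfl⟩, rfl⟩
    · rintro ⟨w, hw, rfl⟩ ⟨w', hw', hww'⟩
      exact hw (hsat w' w hww' hw')
  have hopen : IsOpen (h '' (p₀ ⁻¹' (W' : Set U'))) := by
    rw [← isClosed_compl_iff, hcompl]
    exact h.isClosedMap _ ((W'.isOpen.preimage p₀.continuous).isClosed_compl)
  let W : G.U.Opens := ⟨h '' (p₀ ⁻¹' (W' : Set U')), hopen⟩
  have hpre : h ⁻¹ᵁ W = p₀ ⁻¹ᵁ W' := by
    ext w
    constructor
    · rintro ⟨w', hw', hww'⟩
      exact hsat w' w hww' hw'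
    · intro hw
      exact ⟨w, hw, rfl⟩
  refine ⟨W, ?_, ?_, ?_⟩
  · -- affine
    have haff : IsAffineOpen (h ⁻¹ᵁ W) := by
      rw [hpre]
      exact hW'.preimage p₀
    have : IsAffine (h ⁻¹ᵁ W).toScheme := haff
    have : IsIntegralHom (h ∣_ W) := IsZariskiLocalAtTarget.restrict hhint W
    have : Surjective (h ∣_ W) := by
      refine ⟨fun ⟨u, hu⟩ => ?_⟩
      obtain ⟨w, hw, rfl⟩ := hu
      refine ⟨⟨w, ⟨w, hw, rfl⟩⟩, ?_⟩
      apply Subtype.ext
      rw [morphismRestrict_base_coe]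
    exact Groth.Agent.S0593.result _ _ (h ∣_ W)
  · -- contains `g u'`
    obtain ⟨w, hw1, hw2⟩ := hpt u' (G.e (g u')) (by
      rw [← Scheme.Hom.comp_apply, G.e_t]; rfl)
    refine ⟨w, ?_, ?_⟩
    · show p₀ w ∈ W'
      rw [hw1]; exact hu'
    · rw [hw2, ← Scheme.Hom.comp_apply, G.e_s]; rfl
  · -- invariance
    have key : ∀ r : G.R, G.s r ∈ W → G.t r ∈ W := by
      rintro r ⟨p, hp, hpr⟩
      have hs : G.s (p₁ p) = G.s r := by
        simpa [hh, Scheme.Hom.comp_apply] using hpr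
      obtain ⟨r', hr1, hr2⟩ := exists_comp_inv G (p₁ p) r hs
      obtain ⟨w, hw1, hw2⟩ := hpt (p₀ p) r' (by rw [hr1, hcond])
      refine ⟨w, ?_, ?_⟩
      · show p₀ w ∈ W'
        rw [hw1]; exact hp
      · rw [hw2, hr2]
    ext r
    constructor
    · intro hr
      exact key r hr
    · intro hr
      have := key (G.i r) (by rw [i_s_apply]; exact hr)
      rwa [i_t_apply] at this

end Groth.Agent.S7499
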