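import Groth.Statements.S7502
import Groth.Agent.Lib.Helper23QCohAbelian
import Groth.Agent.Lib.Helper26FpqcMod
import Groth.Agent.Lib.Helper20FpqcFT
import Groth.Agent.Lib.Helper2PullbackSec
import Groth.Agent.Lib.Helper23FinType

set_option autoImplicit false
universe u
open CategoryTheory CategoryTheory.Limits AlgebraicGeometry
open Coh

namespace Groth.Agent.S7502

/-- Let f : Y -> X be a morphism of schemes which is quasi-compact, quasi-separated, flat and
surjective, with X and Y locally Noetherian. Let F be a quasi-coherent O_X-module, G a coherent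
O_Y-module and φ : G -> f^*F an injective map of O_Y-modules. Then the O_X-module F ∩ f_*G, defined
as the fibre product of the adjunction unit F -> f_*f^*F with f_*φ : f_*G -> f_*f^*F, is coherent.
('Coherent' is quasi-coherent of finite type, the usual notion on locally Noetherian schemes.) -/
theorem result {X Y : Scheme.{u}} (f : Y ⟶ X) [QuasiCompact f] [QuasiSeparated f] [Flat f] [Surjective f] [IsLocallyNoetherian X] [IsLocallyNoetherian Y] (F : X.Modules) (hF : Coh.IsQCoh F) (G : Y.Modules) (hG : Coh.IsCoh G) (φ : G ⟶ (Scheme.Modules.pullback f).obj F) [Mono φ] : Coh.IsCoh (Limits.pullback ((Scheme.Modules.pullbackPushforwardAdjunction f).unit.app F) ((Scheme.Modules.pushforward f).map φ)) := by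
  have hFq : F.IsQuasicoherent := hF
  have hGq : G.IsQuasicoherent := hG.1
  have hGf := hG.2
  have hPq : ((Scheme.Modules.pullback f).obj F).IsQuasicoherent :=
    Groth.Agent.Lib.Helper2.PullbackSec.isQuasicoherent_pullback f F
  have h1 : ((Scheme.Modules.pushforward f).obj G).IsQuasicoherent :=
    Groth.Agent.Lib.Helper23.QCohLocal.isQuasicoherent_pushforward f G
  have h2 : ((Scheme.Modules.pushforward f).obj ((Scheme.Modules.pullback f).obj F)).IsQuasicoherent :=
    Groth.Agent.Lib.Helper23.QCohLocal.isQuasicoherent_pushforward f _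
  let adj := Scheme.Modules.pullbackPushforwardAdjunction f
  have h2' : (((Scheme.Modules.pullback f) ⋙ (Scheme.Modules.pushforward f)).obj F).IsQuasicoherent := h2
  have h0' : ((𝟭 X.Modules).obj F).IsQuasicoherent := hFq
  have hHq : (Limits.pullback (adj.unit.app F) ((Scheme.Modules.pushforward f).map φ)).IsQuasicoherent :=
    Groth.Agent.Lib.Helper23.QCohLocal.isQuasicoherent_pullback (adj.unit.app F) ((Scheme.Modules.pushforward f).map φ)
  refine ⟨hHq, ?_⟩
  set H := Limits.pullback (adj.unit.app F) ((Scheme.Modules.pushforward f).map φ) with hH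
  let p₁ : H ⟶ F := Limits.pullback.fst _ _
  let p₂ : H ⟶ (Scheme.Modules.pushforward f).obj G := Limits.pullback.snd _ _
  have hmφ : Mono ((Scheme.Modules.pushforward f).map φ) := inferInstance
  have hp₁ : Mono p₁ := inferInstanceAs (Mono (Limits.pullback.fst (adj.unit.app F) ((Scheme.Modules.pushforward f).map φ)))
  let ψ : (Scheme.Modules.pullback f).obj H ⟶ G := (Scheme.Modules.pullback f).map p₂ ≫ adj.counit.app G
  have hψ : ψ ≫ φ = (Scheme.Modules.pullback f).map p₁ := by
    have hc : p₁ ≫ adj.unit.app F = p₂ ≫ (Scheme.Modules.pushforward f).map φ := Limits.pullback.condition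
    have hn := adj.counit.naturality φ
    have ht := adj.left_triangle_components F
    simp only [Functor.comp_obj, Functor.id_obj, Functor.comp_map, Functor.id_map] at hn ht
    calc ψ ≫ φ = (Scheme.Modules.pullback f).map p₂ ≫ (adj.counit.app G ≫ φ) := by
          simp only [ψ, Category.assoc]
      _ = (Scheme.Modules.pullback f).map p₂ ≫ ((Scheme.Modules.pullback f).map ((Scheme.Modules.pushforward f).map φ) ≫
            adj.counit.app ((Scheme.Modules.pullback f).obj F)) := by rw [hn]
      _ = (Scheme.Modules.pullback f).map (p₂ ≫ (Scheme.Modules.pushforward f).map φ) ≫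
            adj.counit.app ((Scheme.Modules.pullback f).obj F) := by rw [Functor.map_comp, Category.assoc]
      _ = (Scheme.Modules.pullback f).map (p₁ ≫ adj.unit.app F) ≫
            adj.counit.app ((Scheme.Modules.pullback f).obj F) := by rw [hc]
      _ = (Scheme.Modules.pullback f).map p₁ := by
          rw [Functor.map_comp, Category.assoc, ht, Category.comp_id]
  have hm1 : Mono ((Scheme.Modules.pullback f).map p₁) :=
    Groth.Agent.Lib.Helper26.FpqcMod.mono_pullback_of_flat f p₁
  have hmψ : Mono ψ := by
    have : Mono (ψ ≫ φ) := hψ ▸ hm1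
    exact mono_of_mono ψ φ
  have hfH : ((Scheme.Modules.pullback f).obj H).IsQuasicoherent :=
    Groth.Agent.Lib.Helper2.PullbackSec.isQuasicoherent_pullback f H
  have hft : SheafOfModules.IsFiniteType (R := Y.ringCatSheaf) ((Scheme.Modules.pullback f).obj H) :=
    Groth.Agent.Lib.Helper23.FinType.isFiniteType_of_mono ψ
  exact Groth.Agent.Lib.Helper20.FpqcFT.isFiniteType_of_pullback f H hft

end Groth.Agent.S7502
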