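import Groth.Statements.S7521
import Groth.Agent.Lib.Seat33DescGrpd
import Groth.Agent.Lib.Helper23SecTw9

set_option autoImplicit false
open CategoryTheory CategoryTheory.Limits AlgebraicGeometry
universe u
open Desc

namespace Groth.Agent.S7521

/-- Let p : X -> Y be a surjective finite locally free morphism and V a scheme over X which has an
invertible module ample relative to V -> X. Then every descent datum on V relative to p is
effective. (A quasi-projective morphism V -> X, in particular a projective one, carries such a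
module.) (Descent data are taken in functor-of-points form.) -/
theorem result {X Y : Scheme.{u}} (p : X ⟶ Y) [Surjective p] [IsFinite p] [Flat p] [LocallyOfFinitePresentation p] (D : Desc.SchDD p) (L : D.obj.left.Modules) (hL : RelAmple.IsRelAmple D.obj.hom L) : ∃ W : Over Y, Nonempty ((Desc.toDD p).obj W ≅ D) := by
  classical
  apply Groth.Agent.Lib.Seat33.DescGrpd.effective_of_finsets D
  intro y S hS
  obtain ⟨_, ⟨Y₀, hY₀, rfl⟩, hyY₀, -⟩ :=
    Y.isBasis_affineOpens.exists_subset_of_mem_open (Set.mem_univ y) isOpen_univ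
  have hX₀ : IsAffineOpen (p ⁻¹ᵁ Y₀) := hY₀.preimage p
  have hamp := hL.2 ⟨p ⁻¹ᵁ Y₀, hX₀⟩
  have hSV₀ : ∀ v ∈ S, v ∈ D.obj.hom ⁻¹ᵁ (p ⁻¹ᵁ Y₀) := fun v hv => by
    show p (D.obj.hom v) ∈ Y₀
    rw [hS v hv]; exact hyY₀
  have hZ : ((D.obj.hom ⁻¹ᵁ (p ⁻¹ᵁ Y₀)).ι ⁻¹' (S : Set D.obj.left)).Finite :=
    S.finite_toSet.preimage ((D.obj.hom ⁻¹ᵁ (p ⁻¹ᵁ Y₀)).ι.isOpenEmbedding.injective.injOn)
  obtain ⟨n, s, hZs, -, haff⟩ :=
    @Groth.Agent.Lib.Helper23.SecTw.exists_affine_genLocus_of_finite _ hamp.2.1 _ hamp _ hZ ⊤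
      (fun _ _ => trivial)
  refine ⟨(D.obj.hom ⁻¹ᵁ (p ⁻¹ᵁ Y₀)).ι ''ᵁ (CohB1.genLocus _ s),
    haff.image_of_isOpenImmersion _, fun v hv => ?_⟩
  exact ⟨⟨v, hSV₀ v hv⟩, hZs (by exact hv), rfl⟩

end Groth.Agent.S7521
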