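import Groth.Statements.S7629
import Groth.Agent.Lib.Helper4BirIso

set_option autoImplicit false
universe u
open CategoryTheory CategoryTheory.Limits AlgebraicGeometry
open Variety

namespace Groth.Agent.S7629

/-- (2) ⇒ (3): let X and Y be varieties over a field k (integral, separated, of finite type) and suppose
the function fields k(X) and k(Y) are isomorphic as k-algebras. Then there are nonempty open
subschemes U ⊆ X and V ⊆ Y which are isomorphic as schemes over k. -/
theorem result (k : Type u) [Field k] (X : Scheme.{u}) [X.Over (Spec (CommRingCat.of k))] [IsIntegral X] [IsSeparated (X ↘ (Spec (CommRingCat.of k)))] [LocallyOfFiniteType (X ↘ (Spec (CommRingCat.of k)))] [QuasiCompact (X ↘ (Spec (CommRingCat.of k)))]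
    (Y : Scheme.{u}) [Y.Over (Spec (CommRingCat.of k))] [IsIntegral Y] [IsSeparated (Y ↘ (Spec (CommRingCat.of k)))] [LocallyOfFiniteType (Y ↘ (Spec (CommRingCat.of k)))] [QuasiCompact (Y ↘ (Spec (CommRingCat.of k)))]
    (e : X.functionField ≅ Y.functionField)
    (he : e.hom.hom.comp (Curv2.stalkMap k X (genericPoint X)) = Curv2.stalkMap k Y (genericPoint Y)) :
    ∃ (U : X.Opens) (V : Y.Opens), (U : Set ↥X).Nonempty ∧
      ∃ φ : (U : Scheme.{u}) ≅ (V : Scheme.{u}), φ.hom ≫ V.ι ≫ (Y ↘ (Spec (CommRingCat.of k))) = U.ι ≫ (X ↘ (Spec (CommRingCat.of k))) := by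
  let S : Scheme.{u} := Spec (CommRingCat.of k)
  let sX : X ⟶ S := X ↘ (Spec (CommRingCat.of k))
  let sY : Y ⟶ S := Y ↘ (Spec (CommRingCat.of k))
  let x₀ : X := genericPoint X
  let y₀ : Y := genericPoint Y
  have hs : sX x₀ = sY y₀ := Subsingleton.elim (α := PrimeSpectrum k) _ _
  let θ : Y.presheaf.stalk y₀ ≅ X.presheaf.stalk x₀ := e.symm
  -- the compatibility on global sections
  have he' : sX.appTop ≫ X.presheaf.germ ⊤ x₀ (TopologicalSpace.Opens.mem_top _) =
      sY.appTop ≫ Y.presheaf.germ ⊤ y₀ (TopologicalSpace.Opens.mem_top _) ≫ e.inv := by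
    have h1 : (Scheme.ΓSpecIso (CommRingCat.of k)).inv ≫ sX.appTop ≫
        X.presheaf.germ ⊤ x₀ (TopologicalSpace.Opens.mem_top _) ≫ e.hom =
        (Scheme.ΓSpecIso (CommRingCat.of k)).inv ≫ sY.appTop ≫ Y.presheaf.germ ⊤ y₀ (TopologicalSpace.Opens.mem_top _) := by
      ext a
      exact congrArg (fun φ : k →+* Y.functionField => φ a) he
    have h2 := (cancel_epi _).1 h1
    rw [← Category.assoc, ← h2]
    simp
  have hθ : sY.stalkMap y₀ ≫ θ.hom =
      S.presheaf.stalkSpecializes (Inseparable.of_eq hs).specializes ≫ sX.stalkMap x₀ := by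
    let alg : Algebra Γ(S, ⊤) (S.presheaf.stalk (sY y₀)) :=
      TopCat.Presheaf.algebra_section_stalk S.presheaf ⟨sY y₀, TopologicalSpace.Opens.mem_top _⟩
    have loc : IsLocalization.AtPrime (S.presheaf.stalk (sY y₀))
        ((isAffineOpen_top S).primeIdealOf ⟨sY y₀, TopologicalSpace.Opens.mem_top _⟩).asIdeal :=
      (isAffineOpen_top S).isLocalization_stalk ⟨sY y₀, TopologicalSpace.Opens.mem_top _⟩
    ext1
    refine IsLocalization.ringHom_ext
      ((isAffineOpen_top S).primeIdealOf ⟨sY y₀, TopologicalSpace.Opens.mem_top _⟩).asIdeal.primeCompl ?_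
    have h3 : S.presheaf.germ ⊤ (sY y₀) (TopologicalSpace.Opens.mem_top _) ≫ sY.stalkMap y₀ ≫ θ.hom =
        S.presheaf.germ ⊤ (sY y₀) (TopologicalSpace.Opens.mem_top _) ≫
          S.presheaf.stalkSpecializes (Inseparable.of_eq hs).specializes ≫ sX.stalkMap x₀ := by
      rw [← Category.assoc, Scheme.Hom.germ_stalkMap, ← Category.assoc,
        TopCat.Presheaf.germ_stalkSpecializes, Scheme.Hom.germ_stalkMap]
      exact he'.symm
    exact congrArg CommRingCat.Hom.hom h3
  obtain ⟨P, hP⟩ := Groth.Agent.Lib.Helper4.BirIso.birationalOver_of_stalk_iso sX sY x₀ y₀ hs θ hθ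
  exact ⟨P.source, P.target, P.dense_source.nonempty, P.iso, hP⟩

end Groth.Agent.S7629
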