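import Groth.Statements.S7671
import Groth.Agent.Lib.Seat70PicDescent
import Groth.Agent.Lib.Seat70GGDescent

set_option autoImplicit false
universe u
open CategoryTheory CategoryTheory.Limits AlgebraicGeometry
open Variety

namespace Groth.Agent.S7671

/-- Let A → B be faithfully flat and X a quasi-compact and quasi-separated scheme over A such that
H^0(X, O_X) is a semi-local ring. Then Pic(X) → Pic(X_B) is injective: an invertible module on X
which becomes trivial on X_B is trivial. -/
theorem result (A B : Type u) [CommRing A]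
    [CommRing B] [Algebra A B] [Module.FaithfullyFlat A B]
    (X : Scheme.{u}) (f : X ⟶ Spec (CommRingCat.of A)) [CompactSpace X] [QuasiSeparatedSpace X]
    (hsl : Finite (MaximalSpectrum Γ(X, ⊤))) (L : X.Modules) (hL : PicF.IsInvertible L)
    (htriv : Nonempty ((Scheme.Modules.pullback
        (pullback.fst f (Spec.map (CommRingCat.ofHom (algebraMap A B))))).obj L ≅
      Coh.structureModule (pullback f (Spec.map (CommRingCat.ofHom (algebraMap A B)))))) :
    Nonempty (L ≅ Coh.structureModule X) := by
  have : L.IsQuasicoherent := Groth.Agent.Lib.Helper23.SecTw.isQuasicoherent_of_isInvertible L hL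
  have : QuasiCompact f := (quasiCompact_iff_compactSpace f).2 inferInstance
  have : QuasiSeparated f := (quasiSeparated_iff_quasiSeparatedSpace f).2 inferInstance
  have hflat : (CommRingCat.ofHom (algebraMap A B)).hom.Flat :=
    (RingHom.faithfullyFlat_algebraMap_iff.2 (inferInstance : Module.FaithfullyFlat A B)).flat
  have : Flat (Spec.map (CommRingCat.ofHom (algebraMap A B))) := Flat.SpecMap_iff.2 hflat
  have hle : (⊤ : (Spec (CommRingCat.of B)).Opens) ≤
      (Spec.map (CommRingCat.ofHom (algebraMap A B))) ⁻¹ᵁ (⊤ : (Spec (CommRingCat.of A)).Opens) :=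
    le_of_eq rfl
  obtain ⟨Φ⟩ := htriv
  obtain ⟨e₀, he₀⟩ := Groth.Agent.Lib.Seat70.PicDescent.exists_isGen_top_of_iso _ Φ
  have : Finite (MaximalSpectrum Γ(X, f ⁻¹ᵁ (⊤ : (Spec (CommRingCat.of A)).Opens))) := hsl
  obtain ⟨s, hs⟩ := Groth.Agent.Lib.Seat70.PicDescent.exists_isGen_of_pullback f
    (Spec.map (CommRingCat.ofHom (algebraMap A B)))
    (pullback.fst f (Spec.map (CommRingCat.ofHom (algebraMap A B))))
    (pullback.snd f (Spec.map (CommRingCat.ofHom (algebraMap A B))))
    (IsPullback.of_hasPullback f (Spec.map (CommRingCat.ofHom (algebraMap A B)))) L hle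
    (isAffineOpen_top _) (isAffineOpen_top _)
    (Groth.Agent.Lib.Seat70.GGDescent.faithfullyFlat_appLE_top hle)
    _ (he₀.mono le_top)
  exact Groth.Agent.Lib.Seat70.PicDescent.nonempty_iso_of_isGen_top L s hs

end Groth.Agent.S7671
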