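import Groth.Statements.S8303
import Mathlib
import Groth.Agent.Lib.Seat93RSpFT
import Groth.Agent.Lib.Helper2QCoh
import Groth.Agent.Lib.Helper23FinType2
-- import your own Groth.Agent.* helpers here

set_option autoImplicit false
universe u
open CategoryTheory CategoryTheory.Limits AlgebraicGeometry Opposite TopologicalSpace
noncomputable section
open EGA2

namespace Groth.Agent.S8303

section helpers

open Groth.Agent.Lib.Helper1.StalkTensor

variable {X S : Scheme.{u}} (f : X ⟶ S) [IsAffineHom f]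

/-- the sheaf of commutative rings `f_* O_X` -/
abbrev OB : TopCat.Sheaf CommRingCat.{u} S.carrier :=
  ⟨(RelSpec.QCAlg.directImage f).presheaf, (RelSpec.QCAlg.directImage f).isSheaf⟩

/-- an `O_X`-module as a module on the ringed space -/
abbrev asM (F : X.Modules) : ModSite.Mod X.sheaf := F

/-- the direct image as a module on the ringed space `(S, f_* O_X)` -/
abbrev dI (F : X.Modules) : ModSite.Mod (OB f) := (AMod.dirImg f).obj F

/-- underlying presheaf of modules of `F` -/
abbrev pF (F : X.Modules) : PMod X.presheaf := F.val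

/-- underlying presheaf of modules of `f_* F` -/
abbrev pN (F : X.Modules) : PMod (OB f).presheaf := ((AMod.dirImg f).obj F).val

theorem ft_iff_X (F : X.Modules) :
    SheafOfModules.IsFiniteType.{u} (R := X.ringCatSheaf) F ↔
      ∀ x : X, ∃ (U : Opens X) (_ : x ∈ U) (ι : Type u) (_ : Finite ι) (s : ι → (pF F).obj (op U)),
        ∀ (y : X) (hy : y ∈ U),
          Submodule.span (Rx X.presheaf y) (Set.range fun i => gm (pF F) y U hy (s i)) = ⊤ :=
  Groth.Agent.Lib.Seat93.RSpFT.isFiniteType_iff (O := X.sheaf) (asM F)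

theorem ft_iff_S (F : X.Modules) :
    SheafOfModules.IsFiniteType.{u} (R := AMod.ringSheaf (RelSpec.QCAlg.directImage f))
        ((AMod.dirImg f).obj F) ↔
      ∀ x : S, ∃ (U : Opens S) (_ : x ∈ U) (ι : Type u) (_ : Finite ι)
        (s : ι → (pN f F).obj (op U)),
        ∀ (y : S) (hy : y ∈ U),
          Submodule.span (Rx (OB f).presheaf y)
            (Set.range fun i => gm (pN f F) y U hy (s i)) = ⊤ :=
  Groth.Agent.Lib.Seat93.RSpFT.isFiniteType_iff (O := OB f) (dI f F)

/-- sections of `f_* F` over `U` are sections of `F` over `f⁻¹ U` -/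
example (F : X.Modules) (U : Opens S) : (pN f F).obj (op U) = (pF F).obj (op (f ⁻¹ᵁ U)) := rfl

example (U : Opens S) : (OB f).presheaf.obj (op U) = X.presheaf.obj (op (f ⁻¹ᵁ U)) := rfl

example (F : X.Modules) (U : Opens S) (r : (OB f).presheaf.obj (op U)) (m : (pN f F).obj (op U)) :
    (r • m : (pN f F).obj (op U)) = ((r : X.presheaf.obj (op (f ⁻¹ᵁ U))) • (m : (pF F).obj (op (f ⁻¹ᵁ U))) : (pF F).obj (op (f ⁻¹ᵁ U))) := rfl

/-- the comparison of stalks `(f_* F)_{f x} → F_x` -/
def θ (F : X.Modules) (x : X) : St (pN f F) (f x) →+ St (pF F) x :=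
  (TopCat.Presheaf.stalkPushforward Ab f.base (pF F).presheaf x).hom

/-- the comparison of stalk rings `(f_* O_X)_{f x} → O_{X,x}` -/
def ρ (x : X) : Rx (OB f).presheaf (f x) →+* Rx X.presheaf x :=
  (TopCat.Presheaf.stalkPushforward CommRingCat f.base X.presheaf x).hom

lemma θ_gm (F : X.Modules) (x : X) (U : Opens S) (hx : f x ∈ U) (m : (pN f F).obj (op U)) :
    θ f F x (gm (pN f F) (f x) U hx m) = gm (pF F) x (f ⁻¹ᵁ U) hx m :=
  TopCat.Presheaf.stalkPushforward_germ_apply Ab f.base (pF F).presheaf U x hx m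

lemma ρ_gr (x : X) (U : Opens S) (hx : f x ∈ U) (r : (OB f).presheaf.obj (op U)) :
    ρ f x (gr (OB f).presheaf (f x) U hx r) = gr X.presheaf x (f ⁻¹ᵁ U) hx r :=
  TopCat.Presheaf.stalkPushforward_germ_apply CommRingCat f.base X.presheaf U x hx r

lemma θ_smul (F : X.Modules) (x : X) (b : Rx (OB f).presheaf (f x)) (a : St (pN f F) (f x)) :
    θ f F x (b • a) = ρ f x b • θ f F x a := by
  obtain ⟨W, hW, c, p, rfl, rfl⟩ := gm_surj_smul b a
  rw [← gm_smul, θ_gm, ρ_gr, θ_gm]
  exact gm_smul (P := pF F) hW c p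


set_option linter.style.haveILetI false

/-- a section over a basic open, times a power of the function, extends; stalk version: the germ of a
section of a quasi-coherent module near `x` is a unit multiple of the germ of a section over the
affine open. -/
theorem exists_unit_smul_gm (F : X.Modules) [F.IsQuasicoherent] {W : X.Opens} (hW : IsAffineOpen W)
    (x : X) (hx : x ∈ W) (a : St (pF F) x) :
    ∃ (u : Rx X.presheaf x) (_ : IsUnit u) (τ : (pF F).obj (op W)),
      gm (pF F) x W hx τ = u • a := by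
  obtain ⟨W', hxW', m, rfl⟩ := exists_gm_eq a
  obtain ⟨h, hh1, hh2⟩ := hW.exists_basicOpen_le ⟨x, hxW'⟩ hx
  have hDW : X.basicOpen h ≤ W := X.basicOpen_le h
  let m₁ : Γ(F, X.basicOpen h) := F.presheaf.map (homOfLE hh1).op m
  obtain ⟨n, τ, hτ⟩ := Groth.Agent.Lib.Helper2.QCoh.exists_extension hW F h m₁
  have e1 : gm (pF F) x W' hxW' m = gm (pF F) x (X.basicOpen h) hh2 m₁ :=
    (gm_rs (P := pF F) (homOfLE hh1) hh2 m).symm
  let hD : X.presheaf.obj (op (X.basicOpen h)) := X.presheaf.map (homOfLE hDW).op h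
  have hu0 : IsUnit hD := RingedSpace.isUnit_res_basicOpen X.toRingedSpace h
  have hu : IsUnit (gr X.presheaf x (X.basicOpen h) hh2 hD) := hu0.map _
  refine ⟨(gr X.presheaf x (X.basicOpen h) hh2 hD) ^ n, hu.pow n, τ, ?_⟩
  rw [e1, ← gm_rs (P := pF F) (homOfLE hDW) hh2 τ, ← map_pow, ← gm_smul]
  exact congrArg _ hτ

/-- `F` is of finite type if `f_* F` is of finite type over `f_* O_X` (criterion form). -/
theorem crit_X_of_crit_S (F : X.Modules) [F.IsQuasicoherent]
    (h : ∀ x : S, ∃ (U : Opens S) (_ : x ∈ U) (ι : Type u) (_ : Finite ι)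
        (s : ι → (pN f F).obj (op U)),
        ∀ (y : S) (hy : y ∈ U),
          Submodule.span (Rx (OB f).presheaf y)
            (Set.range fun i => gm (pN f F) y U hy (s i)) = ⊤) :
    ∀ x : X, ∃ (U : Opens X) (_ : x ∈ U) (ι : Type u) (_ : Finite ι) (s : ι → (pF F).obj (op U)),
        ∀ (y : X) (hy : y ∈ U),
          Submodule.span (Rx X.presheaf y) (Set.range fun i => gm (pF F) y U hy (s i)) = ⊤ := by
  intro x
  obtain ⟨U, hxU, ι, hι, t, ht⟩ := h (f x)
  obtain ⟨_, ⟨U₀, hU₀, rfl⟩, hxU₀, hU₀U⟩ :=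
    S.isBasis_affineOpens.exists_subset_of_mem_open hxU U.2
  have hle : U₀ ≤ U := hU₀U
  have hW : IsAffineOpen (f ⁻¹ᵁ U₀) := hU₀.preimage f
  let tW : ι → (pF F).obj (op (f ⁻¹ᵁ U₀)) := fun i => rs (pN f F) (homOfLE hle) (t i)
  refine ⟨f ⁻¹ᵁ U₀, hxU₀, ι, hι, tW, ?_⟩
  intro x' hx'
  rw [eq_top_iff]
  rintro a -
  obtain ⟨u, hu, τ, hτ⟩ := exists_unit_smul_gm F hW x' hx' a
  have hy : f x' ∈ U := hle hx'
  have e3 : gm (pF F) x' (f ⁻¹ᵁ U₀) hx' τ ∈ Submodule.span (Rx X.presheaf x')
      (Set.range fun i => gm (pF F) x' (f ⁻¹ᵁ U₀) hx' (tW i)) := by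
    have h0 : gm (pN f F) (f x') U₀ hx' τ ∈ Submodule.span (Rx (OB f).presheaf (f x'))
        (Set.range fun i => gm (pN f F) (f x') U hy (t i)) := by
      rw [ht]; trivial
    have key : ∀ b ∈ Submodule.span (Rx (OB f).presheaf (f x'))
        (Set.range fun i => gm (pN f F) (f x') U hy (t i)),
        θ f F x' b ∈ Submodule.span (Rx X.presheaf x')
          (Set.range fun i => gm (pF F) x' (f ⁻¹ᵁ U₀) hx' (tW i)) := by
      intro b hb
      induction hb using Submodule.span_induction with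
      | mem b hb =>
        obtain ⟨i, rfl⟩ := hb
        apply Submodule.subset_span
        refine ⟨i, ?_⟩
        rw [θ_gm]
        exact gm_rs (P := pF F) (homOfLE (f.preimage_mono hle)) hx' (t i)
      | zero => rw [map_zero]; exact Submodule.zero_mem _
      | add b c _ _ hb hc => rw [map_add]; exact Submodule.add_mem _ hb hc
      | smul r b _ hb => rw [θ_smul]; exact Submodule.smul_mem _ _ hb
    have h1 := key _ h0
    rwa [θ_gm] at h1
  rw [hτ] at e3
  have h2 := Submodule.smul_mem _ (↑hu.unit⁻¹ : Rx X.presheaf x') e3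
  rwa [smul_smul, IsUnit.val_inv_mul, one_smul] at h2


/-- `exists_extension` over an open equal to a basic open -/
theorem exists_extension' (F : X.Modules) [F.IsQuasicoherent] {W : X.Opens} (hW : IsAffineOpen W)
    (h : Γ(X, W)) (D : X.Opens) (hD : D = X.basicOpen h) (hDW : D ≤ W) (m : Γ(F, D)) :
    ∃ (n : ℕ) (τ : Γ(F, W)), F.presheaf.map (homOfLE hDW).op τ =
        (X.presheaf.map (homOfLE hDW).op h) ^ n • m ∧
      IsUnit (X.presheaf.map (homOfLE hDW).op h) := by
  subst hD
  obtain ⟨n, τ, hτ⟩ := Groth.Agent.Lib.Helper2.QCoh.exists_extension hW F h m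
  exact ⟨n, τ, hτ, RingedSpace.isUnit_res_basicOpen X.toRingedSpace h⟩

/-- `f_* F` is of finite type over `f_* O_X` if `F` is of finite type (criterion form). -/
theorem crit_S_of_ft (F : X.Modules) [F.IsQuasicoherent]
    [SheafOfModules.IsFiniteType (R := X.ringCatSheaf) F] :
    ∀ x : S, ∃ (U : Opens S) (_ : x ∈ U) (ι : Type u) (_ : Finite ι)
        (s : ι → (pN f F).obj (op U)),
        ∀ (y : S) (hy : y ∈ U),
          Submodule.span (Rx (OB f).presheaf y)
            (Set.range fun i => gm (pN f F) y U hy (s i)) = ⊤ := by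
  intro s
  obtain ⟨_, ⟨U, hU, rfl⟩, hsU, -⟩ :=
    S.isBasis_affineOpens.exists_subset_of_mem_open (Set.mem_univ s) isOpen_univ
  have hW : IsAffineOpen (f ⁻¹ᵁ U) := hU.preimage f
  haveI : Module.Finite Γ(X, f ⁻¹ᵁ U) Γ(F, f ⁻¹ᵁ U) :=
    Groth.Agent.Lib.Helper23.FinType.finite_of_isFiniteType F hW
  obtain ⟨T, hT⟩ := (Module.Finite.fg_top : (⊤ : Submodule Γ(X, f ⁻¹ᵁ U) Γ(F, f ⁻¹ᵁ U)).FG)
  let tU : T → (pN f F).obj (op U) := fun i => i.1
  refine ⟨U, hsU, T, inferInstance, tU, ?_⟩
  intro y hy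
  rw [eq_top_iff]
  rintro a -
  obtain ⟨V, hyV, m, rfl⟩ := exists_gm_eq a
  obtain ⟨g, hg1, hg2⟩ := hU.exists_basicOpen_le ⟨y, hyV⟩ hy
  let h : Γ(X, f ⁻¹ᵁ U) := f.app U g
  have hpre : f ⁻¹ᵁ (S.basicOpen g) = X.basicOpen h := Scheme.preimage_basicOpen f g
  have hDU : S.basicOpen g ≤ U := S.basicOpen_le g
  let mD : (pN f F).obj (op (S.basicOpen g)) := rs (pN f F) (homOfLE hg1) m
  obtain ⟨n, τ, hτ, hb⟩ := exists_extension' F hW h (f ⁻¹ᵁ (S.basicOpen g)) hpre
    (f.preimage_mono hDU) mD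
  let b : (OB f).presheaf.obj (op (S.basicOpen g)) :=
    X.presheaf.map (homOfLE (f.preimage_mono hDU)).op h
  let τN : (pN f F).obj (op U) := τ
  have hu : IsUnit (gr (OB f).presheaf y (S.basicOpen g) hg2 b) := hb.map _
  have e2 : gm (pN f F) y U hy τN =
      gr (OB f).presheaf y (S.basicOpen g) hg2 b ^ n • gm (pN f F) y V hyV m := by
    rw [← gm_rs (P := pN f F) (homOfLE hDU) hg2 τN, ← gm_rs (P := pN f F) (homOfLE hg1) hg2 m,
      ← map_pow, ← gm_smul]
    exact congrArg _ hτ
  have key : ∀ τ' ∈ Submodule.span Γ(X, f ⁻¹ᵁ U) (T : Set Γ(F, f ⁻¹ᵁ U)),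
      gm (pN f F) y U hy (τ' : (pN f F).obj (op U)) ∈ Submodule.span (Rx (OB f).presheaf y)
        (Set.range fun i => gm (pN f F) y U hy (tU i)) := by
    intro τ' hτ'
    induction hτ' using Submodule.span_induction with
    | mem t ht => exact Submodule.subset_span ⟨⟨t, ht⟩, rfl⟩
    | zero => exact (map_zero (gm (pN f F) y U hy)).symm ▸ Submodule.zero_mem _
    | add t t' _ _ ht ht' =>
      have := Submodule.add_mem _ ht ht'
      rwa [← map_add] at this
    | smul r t _ ht =>
      have := Submodule.smul_mem _ (gr (OB f).presheaf y U hy r) ht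
      rwa [← gm_smul (P := pN f F)] at this
  have e3 : gm (pN f F) y U hy τN ∈ Submodule.span (Rx (OB f).presheaf y)
      (Set.range fun i => gm (pN f F) y U hy (tU i)) :=
    key τ (by rw [hT]; trivial)
  rw [e2] at e3
  have h2 := Submodule.smul_mem _ (↑(hu.pow n).unit⁻¹ : Rx (OB f).presheaf y) e3
  rwa [smul_smul, IsUnit.val_inv_mul, one_smul] at h2


end helpers

/-- For the algebra f_*O_X of a scheme X affine over S: let f : X → S be an affine morphism and F a
quasi-coherent O_X-module. Then F is of finite type (locally on X generated by finitely many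
sections) if and only if the direct image f_*F is of finite type as a module over the sheaf of rings
f_*O_X (locally on S generated by finitely many sections over f_*O_X). -/
theorem result {X S : Scheme.{u}} (f : X ⟶ S) [IsAffineHom f]
    (F : X.Modules) (hF : Coh.IsQCoh F) :
    SheafOfModules.IsFiniteType.{u} (R := X.ringCatSheaf) F ↔
      SheafOfModules.IsFiniteType.{u} (R := AMod.ringSheaf (RelSpec.QCAlg.directImage f)) ((AMod.dirImg f).obj F) := by
  have : F.IsQuasicoherent := hF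
  constructor
  · intro h
    have := h
    exact (ft_iff_S f F).2 (crit_S_of_ft f F)
  · intro h
    exact (ft_iff_X F).2 (crit_X_of_crit_S f F ((ft_iff_S f F).1 h))

end Groth.Agent.S8303
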