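import Groth.Statements.S8357
import Groth.Agent.Lib.Seat37DualGlue

set_option autoImplicit false
universe u
open CategoryTheory MonObj AlgebraicGeometry
open LieS

namespace Groth.Agent.S8357

open Groth.Agent.Lib.Seat37.DualGlue

variable {S : Scheme.{u}} {G : Over S} [GrpObj G] {B : Type u} [CommRing B]
  {f : Spec (CommRingCat.of B) ⟶ S}

theorem add_smul' (v : LieS.Lie G B f) (a b : B) : (a + b) • v = (a • v) * (b • v) := by
  apply Subtype.ext
  rw [Subgroup.coe_mul, smul_val, smul_val, smul_val]
  exact (scale_add_comp v.1 v.2 a b).symm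

theorem zero_smul' (v : LieS.Lie G B f) : (0 : B) • v = 1 := by
  apply Subtype.ext
  rw [smul_val, Subgroup.coe_one]
  exact scale_zero_comp v.1 v.2

theorem one_smul' (v : LieS.Lie G B f) : (1 : B) • v = v := by
  apply Subtype.ext
  rw [smul_val, scale_one, Category.id_comp]

theorem pow_eq_smul (v : LieS.Lie G B f) (n : ℕ) : v ^ n = ((n : B) • v : LieS.Lie G B f) := by
  induction n with
  | zero => rw [pow_zero, Nat.cast_zero, zero_smul']
  | succ n ih => rw [pow_succ, ih, Nat.cast_succ, add_smul', one_smul']

/-- For a group scheme G over a scheme S and an affine S-scheme T = Spec B, the map induced on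
Lie(G/S)(T) by the n-th power map of G is multiplication by n; that is, for v in Lie(G/S)(T) and an
integer n, the n-th power of v in the group law inherited from G is the rescaling of v by the image
of n in B. -/
theorem result (S : Scheme.{u}) (G : Over S) [GrpObj G] (B : Type u) [CommRing B]
    (f : Spec (CommRingCat.of B) ⟶ S) (v : LieS.Lie G B f) (n : ℤ) :
    v ^ n = ((n : B) • v : LieS.Lie G B f) := by
  obtain ⟨m, rfl | rfl⟩ := Int.eq_nat_or_neg n
  · rw [zpow_natCast, Int.cast_natCast]
    exact pow_eq_smul v m
  · rw [zpow_neg, zpow_natCast, Int.cast_neg, Int.cast_natCast, pow_eq_smul v m]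
    apply inv_eq_of_mul_eq_one_right
    rw [← add_smul', add_neg_cancel, zero_smul']

end Groth.Agent.S8357
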