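import Groth.Statements.S8359
import Groth.Agent.Lib.Seat37DiagGlobal

set_option autoImplicit false
universe u
open CategoryTheory MonObj AlgebraicGeometry
open Red

namespace Groth.Agent.S8359

open Limits LieS Groth.Agent.Lib.Seat37.SqZero Groth.Agent.Lib.Seat37.DiagKer
  Groth.Agent.Lib.Seat37.DiagKerAlg Groth.Agent.Lib.Seat37.DiagGlobal

theorem one_left {S : Scheme.{u}} {X : Over S} [GrpObj X] (Y : Over S) :
    (1 : Y ⟶ X).left = Y.hom ≫ (η[X]).left := rfl


/-- Over an affine base S = Spec R with S₀ = Spec (R/I) for a nilpotent ideal I: for a commutative group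
M, the diagonalisable group D(M) = Spec R[M] over S, a group scheme X locally of finite presentation
over S and a homomorphism f from D(M) to X, if the base change of f to S₀ is the unit homomorphism
then f is the unit homomorphism. (The published statement is over an arbitrary base scheme with S₀
defined by a nilpotent quasi-coherent ideal; this row is its case of an affine base.) -/
theorem result (R : Type u) [CommRing R] (I : Ideal R) (hI : IsNilpotent I)
    (M : Type) [AddCommGroup M] (X : Over (Spec (CommRingCat.of R))) [GrpObj X]
    [LocallyOfFinitePresentation X.hom] (f : Red.diag R M ⟶ X) [IsMonHom f]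
    (h : (Over.pullback (Spec.map (CommRingCat.ofHom (Ideal.Quotient.mk I)))).map f = 1) :
    f = 1 := by
  obtain ⟨n, hn⟩ := hI
  apply Over.OverMorphism.ext
  apply Scheme.hom_ext_of_forall
  intro x
  -- the unit section
  let e : Spec (CommRingCat.of R) ⟶ X.left := (η[X]).left
  let x' : Spec (CommRingCat.of (MonoidAlgebra R (Multiplicative M))) := x
  let s : Spec (CommRingCat.of R) :=
    (Spec.map (CommRingCat.ofHom (algebraMap R (MonoidAlgebra R (Multiplicative M))))) x'
  obtain ⟨U, hU, hsU, -⟩ := TopologicalSpace.Opens.isBasis_iff_nbhd.mp X.left.isBasis_affineOpens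
    (show e s ∈ (⊤ : X.left.Opens) from trivial)
  have hsU' : s ∈ e ⁻¹ᵁ U := hsU
  obtain ⟨_, ⟨r, rfl⟩, hsr, hrU⟩ := TopologicalSpace.Opens.isBasis_iff_nbhd.mp
    (PrimeSpectrum.isBasis_basic_opens (R := R)) hsU'
  -- the unit section over `Spec R_r` lies in `U`
  have hUe : Set.range (1 : pt (Localization.Away r) (sB (R := R) (Localization.Away r)) ⟶ X).left ⊆
      (U : Set X.left) := by
    rw [one_left]
    rintro _ ⟨z, rfl⟩
    apply hrU
    have hz : (Spec.map (CommRingCat.ofHom (algebraMap R (Localization.Away r)))) z ∈
        Set.range (PrimeSpectrum.comap (algebraMap R (Localization.Away r))) := ⟨z, rfl⟩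
    rw [PrimeSpectrum.localization_away_comap_range (Localization.Away r) r] at hz
    exact hz
  have h1 := trivT_of_nilpotent M f I n hn h (Localization.Away r) U hU hUe
  -- the ring map `R_r[G] → R[G]_r`
  set r' : MonoidAlgebra R (Multiplicative M) :=
    algebraMap R (MonoidAlgebra R (Multiplicative M)) r with hr'
  have hunit : IsUnit (algebraMap R (Localization.Away r') r) := by
    rw [IsScalarTower.algebraMap_apply R (MonoidAlgebra R (Multiplicative M)) (Localization.Away r')]
    exact IsLocalization.Away.algebraMap_isUnit r'
  let ψ : MonoidAlgebra (Localization.Away r) (Multiplicative M) →+* Localization.Away r' :=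
    MonoidAlgebra.liftNCRingHom (IsLocalization.Away.lift r hunit)
      (((algebraMap (MonoidAlgebra R (Multiplicative M)) (Localization.Away r') :
        MonoidAlgebra R (Multiplicative M) →* Localization.Away r')).comp
          (MonoidAlgebra.of R (Multiplicative M))) (fun _ _ => Commute.all _ _)
  have hψ : ψ.comp (MonoidAlgebra.mapRingHom (Multiplicative M)
      (algebraMap R (Localization.Away r))) =
      algebraMap (MonoidAlgebra R (Multiplicative M)) (Localization.Away r') := by
    apply MonoidAlgebra.ringHom_ext
    · intro c
      simp [ψ, MonoidAlgebra.liftNCRingHom_single, IsLocalization.Away.lift_eq]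
      rw [IsScalarTower.algebraMap_apply R (MonoidAlgebra R (Multiplicative M))
        (Localization.Away r'), ← map_mul]
      congr 1
      rw [MonoidAlgebra.coe_algebraMap]
      simp [MonoidAlgebra.single_mul_single]
    · intro m
      simp [ψ, MonoidAlgebra.liftNCRingHom_single]
  have h2 := h1.comp ψ
  rw [hψ] at h2
  -- the basic open `D(r')` of `Spec R[G]`
  let j : Spec (CommRingCat.of (Localization.Away r')) ⟶
      Spec (CommRingCat.of (MonoidAlgebra R (Multiplicative M))) :=
    Spec.map (CommRingCat.ofHom (algebraMap (MonoidAlgebra R (Multiplicative M)) (Localization.Away r')))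
  haveI : IsOpenImmersion j := inferInstance
  refine ⟨j.opensRange, ?_, ?_⟩
  · have hx : x' ∈ PrimeSpectrum.basicOpen r' := by
      have h3 : r ∉ (s : PrimeSpectrum R).asIdeal := hsr
      exact h3
    have hr : Set.range (PrimeSpectrum.comap (algebraMap (MonoidAlgebra R (Multiplicative M))
        (Localization.Away r'))) = PrimeSpectrum.basicOpen r' :=
      PrimeSpectrum.localization_away_comap_range (Localization.Away r') r'
    have hx2 : x' ∈ Set.range (PrimeSpectrum.comap (algebraMap (MonoidAlgebra R (Multiplicative M))
        (Localization.Away r'))) := by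
      rw [hr]; exact hx
    exact hx2
  · have h3 : j ≫ leftS M f = j ≫ leftS M (1 : Red.diag R M ⟶ X) := h2
    have h4 := congrArg (fun t => j.isoOpensRange.inv ≫ t) h3
    simp only [← Category.assoc, Scheme.Hom.isoOpensRange_inv_comp] at h4
    exact h4

end Groth.Agent.S8359
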