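import Groth.Statements.S8363
import Groth.Agent.S8362
import Groth.Agent.Lib.Seat37SqZero

set_option autoImplicit false
universe u
open CategoryTheory MonObj AlgebraicGeometry
open SGA3

namespace Groth.Agent.S8363

open Limits LieS Groth.Agent.Lib.Seat37.SqZero

/-- The kernel of the reduction map is commutative: over an affine base S = Spec R with S₀ = Spec (R/J)
for an ideal J of square zero: for a group scheme X over S and an arbitrary S-scheme Y, the kernel
of the reduction map from X(Y) to X(Y ×_S S₀) = X₀(Y₀) is a commutative group: two Y-valued points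
of X whose base changes to S₀ are the unit commute. (The published statement identifies this kernel,
as a group functor, with the commutative functor of homomorphisms from the pulled-back invariant
differentials of X₀ to J·O_Y, over an arbitrary base with a quasi-coherent ideal of square zero;
this row states only the resulting commutativity, over an affine base.) -/
theorem result (R : Type u) [CommRing R] (J : Ideal R) (hJ : J * J = ⊥)
    (X : Over (Spec (CommRingCat.of R))) [GrpObj X] (Y : Over (Spec (CommRingCat.of R))) (g g' : Y ⟶ X)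
    (hg : (Over.pullback (Spec.map (CommRingCat.ofHom (Ideal.Quotient.mk J)))).map g = 1)
    (hg' : (Over.pullback (Spec.map (CommRingCat.ofHom (Ideal.Quotient.mk J)))).map g' = 1) :
    g * g' = g' * g := by
  set f₀ := Spec.map (CommRingCat.ofHom (Ideal.Quotient.mk J)) with hf₀
  set e : Y ⟶ X := 1 with he
  -- (K): reduction of a point in the kernel agrees with the reduction of the unit
  have hK : ∀ k : Y ⟶ X, (Over.pullback f₀).map k = 1 →
      pullback.fst Y.hom f₀ ≫ k.left = pullback.fst Y.hom f₀ ≫ e.left := by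
    intro k hk
    have h0 : (Over.pullback f₀).map k = (Over.pullback f₀).map e := by
      rw [hk, he]
      exact ((Over.pullback f₀).map_one).symm
    have h1 := congrArg (fun m => m.left ≫ pullback.fst X.hom f₀) h0
    simp only [Over.pullback_map_left] at h1
    rw [pullback.lift_fst, pullback.lift_fst] at h1
    exact h1
  have : Surjective f₀ := Groth.Agent.S8362.surjective_SpecMap_mk J hJ
  have hpt : ∀ k : Y ⟶ X, (Over.pullback f₀).map k = 1 → ∀ y : Y.left, k.left y = e.left y := by
    intro k hk y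
    obtain ⟨z, rfl⟩ := (pullback.fst Y.hom f₀).surjective y
    rw [← Scheme.Hom.comp_apply, hK k hk, Scheme.Hom.comp_apply]
  apply Over.OverMorphism.ext
  apply Scheme.hom_ext_of_forall
  intro y
  -- an affine open of `X` around the unit point
  obtain ⟨U', hU', hxU, -⟩ := TopologicalSpace.Opens.isBasis_iff_nbhd.mp X.left.isBasis_affineOpens
    (show e.left y ∈ (⊤ : X.left.Opens) from trivial)
  -- an affine open of `Y` around `y` mapping into `U` under `g`, `g'` and the unit
  let W : Y.left.Opens := g.left ⁻¹ᵁ U' ⊓ g'.left ⁻¹ᵁ U' ⊓ e.left ⁻¹ᵁ U'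
  have hyW : y ∈ W := by
    refine ⟨⟨?_, ?_⟩, ?_⟩
    · show g.left y ∈ U'
      rw [hpt g hg y]; exact hxU
    · show g'.left y ∈ U'
      rw [hpt g' hg' y]; exact hxU
    · exact hxU
  obtain ⟨V', hV', hyV, hVW⟩ := TopologicalSpace.Opens.isBasis_iff_nbhd.mp Y.left.isBasis_affineOpens hyW
  refine ⟨V', hyV, ?_⟩
  -- the affine `S`-scheme `Spec Γ(Y, V')` and its tautological point of `Y`
  let C : Type u := Γ(Y.left, V')
  let v₀ : Spec (CommRingCat.of C) ⟶ Y.left := hV'.fromSpec
  let h : Spec (CommRingCat.of C) ⟶ Spec (CommRingCat.of R) := v₀ ≫ Y.hom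
  let v : pt C h ⟶ Y := Over.homMk v₀ rfl
  have hv₀ : ∀ z, v₀ z ∈ W := by
    intro z
    apply hVW
    have : v₀ z ∈ Set.range v₀ := ⟨z, rfl⟩
    rw [hV'.range_fromSpec] at this
    exact this
  obtain ⟨ρ, hρ⟩ := Spec.map_surjective h
  let I : Ideal C := J.map ρ.hom
  have hI : I * I = ⊥ := by rw [← Ideal.map_mul, hJ, Ideal.map_bot]
  let q : CommRingCat.of C ⟶ CommRingCat.of (C ⧸ I) := CommRingCat.ofHom (Ideal.Quotient.mk I)
  let ψ' : CommRingCat.of (R ⧸ J) ⟶ CommRingCat.of (C ⧸ I) :=
    CommRingCat.ofHom (Ideal.quotientMap I ρ.hom Ideal.le_comap_map)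
  have hcomm : CommRingCat.ofHom (Ideal.Quotient.mk J) ≫ ψ' = ρ ≫ q := by
    ext r
    simp [ψ', q]
  let l : Spec (CommRingCat.of (C ⧸ I)) ⟶ pullback Y.hom f₀ :=
    pullback.lift (Spec.map q ≫ v₀) (Spec.map ψ') (by
      rw [Category.assoc]
      change Spec.map q ≫ h = _
      rw [← hρ, ← Spec.map_comp, hf₀, ← Spec.map_comp, hcomm])
  have hl : l ≫ pullback.fst Y.hom f₀ = Spec.map q ≫ v₀ := pullback.lift_fst _ _ _
  have hred : ∀ k : Y ⟶ X, (Over.pullback f₀).map k = 1 → qMor h I ≫ (v ≫ k) = 1 := by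
    intro k hk
    have h1 : qMor h I ≫ (v ≫ k) = qMor h I ≫ (v ≫ e) := by
      apply Over.OverMorphism.ext
      change Spec.map q ≫ v₀ ≫ k.left = Spec.map q ≫ v₀ ≫ e.left
      rw [← Category.assoc, ← hl, Category.assoc, hK k hk, ← Category.assoc, hl, Category.assoc]
    rw [h1, he, MonObj.comp_one, MonObj.comp_one]
  have hcm : (v ≫ g) * (v ≫ g') = (v ≫ g') * (v ≫ g) := by
    apply mul_comm_of_affine h I hI U' hU' (v ≫ g) (v ≫ g') (hred g hg) (hred g' hg')
    · rintro _ ⟨z, rfl⟩
      exact (hv₀ z).1.1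
    · rintro _ ⟨z, rfl⟩
      exact (hv₀ z).1.2
    · rintro _ ⟨z, rfl⟩
      have : (1 : pt C h ⟶ X) = v ≫ e := by rw [he, MonObj.comp_one]
      rw [this]
      exact (hv₀ z).2
  rw [← MonObj.comp_mul, ← MonObj.comp_mul] at hcm
  have hcm' : v₀ ≫ (g * g').left = v₀ ≫ (g' * g).left := congrArg (fun t => t.left) hcm
  have hiso : v₀ = hV'.isoSpec.inv ≫ Scheme.Opens.ι (X := Y.left) V' := (hV'.isoSpec_inv_ι).symm
  rw [hiso, Category.assoc, Category.assoc] at hcm'
  exact (cancel_epi _).mp hcm'

end Groth.Agent.S8363
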