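import Groth.Statements.S8365
import Groth.Agent.Lib.Seat37DualGlue

set_option autoImplicit false
universe u
open CategoryTheory MonObj AlgebraicGeometry
open LieS

namespace Groth.Agent.S8365

/-- For a monoid scheme X over a scheme S (an associative unital monoid object in S-schemes) and an
affine S-scheme T = Spec B, a point of X with values in the dual numbers over T is invertible if and
only if its restriction along the zero section ε = 0 is invertible in X(T); in particular every such
point restricting to the unit section is invertible. (The published statement is for monoid-valued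
functors satisfying a tangent-space exactness condition, which every representable functor
satisfies, and its special case where the restriction is the unit section allows unital composition
laws that need not be associative; this row treats monoid schemes only.) -/
theorem result (S : Scheme.{u}) (X : Over S) [MonObj X] (B : Type u) [CommRing B]
    (f : Spec (CommRingCat.of B) ⟶ S) (v : LieS.dpt B f ⟶ X) :
    IsUnit v ↔ IsUnit (LieS.zeroSec B f ≫ v) := by
  constructor
  · intro hv
    let φ : (LieS.dpt B f ⟶ X) →* (LieS.pt B f ⟶ X) :=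
      { toFun := fun w => LieS.zeroSec B f ≫ w
        map_one' := MonObj.comp_one _
        map_mul' := fun a b => MonObj.comp_mul _ a b }
    exact hv.map φ
  · rintro ⟨w, hw⟩
    -- `c = proj ≫ w⁻¹` is a unit
    have hc : IsUnit (LieS.proj B f ≫ (w⁻¹ : (LieS.pt B f ⟶ X)ˣ).1) := by
      refine ⟨⟨LieS.proj B f ≫ (w⁻¹ : (LieS.pt B f ⟶ X)ˣ).1, LieS.proj B f ≫ w.1, ?_, ?_⟩, rfl⟩
      · rw [← MonObj.comp_mul, Units.inv_mul, MonObj.comp_one]
      · rw [← MonObj.comp_mul, Units.mul_inv, MonObj.comp_one]
    -- `v' = c * v` restricts to the unit, hence is a unit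
    set v' := (LieS.proj B f ≫ (w⁻¹ : (LieS.pt B f ⟶ X)ˣ).1) * v with hv'
    have h0 : LieS.zeroSec B f ≫ v' = 1 := by
      rw [hv', MonObj.comp_mul, ← Category.assoc, LieS.zeroSec_proj, Category.id_comp, ← hw,
        Units.inv_mul]
    have hunit : IsUnit v' := by
      refine ⟨⟨v', LieS.scale B f (-1) ≫ v', ?_, ?_⟩, rfl⟩
      · have h := Groth.Agent.Lib.Seat37.DualGlue.scale_add_comp v' h0 1 (-1)
        rw [Groth.Agent.Lib.Seat37.DualGlue.scale_one, Category.id_comp, add_neg_cancel,
          Groth.Agent.Lib.Seat37.DualGlue.scale_zero_comp v' h0] at h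
        exact h
      · have h := Groth.Agent.Lib.Seat37.DualGlue.scale_add_comp v' h0 (-1) 1
        rw [Groth.Agent.Lib.Seat37.DualGlue.scale_one, Category.id_comp, neg_add_cancel,
          Groth.Agent.Lib.Seat37.DualGlue.scale_zero_comp v' h0] at h
        exact h
    have hv : v = (hc.unit⁻¹ : (LieS.dpt B f ⟶ X)ˣ).1 * v' := by
      rw [hv', ← _root_.mul_assoc]
      have : (hc.unit⁻¹ : (LieS.dpt B f ⟶ X)ˣ).1 * (LieS.proj B f ≫ (w⁻¹ : (LieS.pt B f ⟶ X)ˣ).1) = 1 :=
        hc.unit.inv_mul
      rw [this, _root_.one_mul]
    rw [hv]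
    exact (hc.unit⁻¹).isUnit.mul hunit

end Groth.Agent.S8365
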