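import Groth.Statements.S8366
import Groth.Agent.Lib.Seat37NilIsoOver
import Groth.Agent.Lib.Seat37Shear
import Groth.Agent.Lib.Seat37ShearBC

set_option autoImplicit false
set_option linter.style.haveILetI false
universe u
open CategoryTheory MonoidalCategory MonObj AlgebraicGeometry
open SGA3

namespace Groth.Agent.S8366


open Groth.Agent.Lib.Seat37 CartesianMonoidalCategory Limits in
/-- the structure morphism of `X` is surjective when the reduction has a section -/
theorem surjective_hom (R : Type u) [CommRing R] (I : Ideal R) (hI : IsNilpotent I)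
    (X : Over (Spec (CommRingCat.of R)))
    (η₀ : 𝟙_ (Over (Spec (CommRingCat.of (R ⧸ I)))) ⟶
      (Over.pullback (Spec.map (CommRingCat.ofHom (Ideal.Quotient.mk I)))).obj X) :
    Surjective X.hom := by
  rw [surjective_iff]
  intro s
  haveI := NilIsoOver.surjective_iI I hI
  obtain ⟨s₀, rfl⟩ := (NilIsoOver.iI I).surjective s
  refine ⟨(pullback.fst X.hom (NilIsoOver.iI I)) (η₀.left s₀), ?_⟩
  have h1 : η₀.left ≫ pullback.snd X.hom (NilIsoOver.iI I) = 𝟙 _ := Over.w η₀
  have h2 : η₀.left ≫ pullback.fst X.hom (NilIsoOver.iI I) ≫ X.hom = NilIsoOver.iI I := by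
    rw [pullback.condition, ← Category.assoc, h1, Category.id_comp]
  have := congrArg (fun k => k s₀) h2
  exact this

open Groth.Agent.Lib.Seat37 CartesianMonoidalCategory Limits in
/-- fpqc descent of the unit section -/
theorem exists_section {S : Scheme.{u}} (X : Over S) (P : X ⊗ X ⟶ X)
    (hassoc : (P ▷ X) ≫ P = (α_ X X X).hom ≫ (X ◁ P) ≫ P)
    [IsIso (lift (fst X X) P)] [IsIso (lift P (snd X X))] [EffectiveEpi X.hom] :
    Nonempty (𝟙_ (Over S) ⟶ X) := by
  obtain ⟨eX, heX₁, -, -⟩ := Shear.exists_unit P hassoc (𝟙 X)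
  have hdesc : ∀ {W : Scheme.{u}} (g₁ g₂ : W ⟶ X.left), g₁ ≫ X.hom = g₂ ≫ X.hom →
      g₁ ≫ eX.left = g₂ ≫ eX.left := by
    intro W g₁ g₂ h
    let W' : Over S := Over.mk (g₁ ≫ X.hom)
    let g₁' : W' ⟶ X := Over.homMk g₁ rfl
    let g₂' : W' ⟶ X := Over.homMk g₂ h.symm
    obtain ⟨eW, heW, -, -⟩ := Shear.exists_unit P hassoc g₁'
    have h1 : g₁' ≫ eX = eW := Shear.comp_unit P hassoc g₁' eX heX₁ eW heW
    have h2 : g₂' ≫ eX = eW := Shear.comp_unit P hassoc g₂' eX heX₁ eW heW
    have := congrArg (fun k => k.left) (h1.trans h2.symm)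
    exact this
  let s₀ : S ⟶ X.left := EffectiveEpi.desc X.hom eX.left hdesc
  have hfac : X.hom ≫ s₀ = eX.left := EffectiveEpi.fac X.hom eX.left hdesc
  have hs : s₀ ≫ X.hom = 𝟙 S := by
    rw [← cancel_epi X.hom, ← Category.assoc, hfac, Over.w eX, Category.comp_id]
  exact ⟨Over.homMk s₀ (by simpa using hs)⟩

/-- Over an affine base S = Spec R with S₀ = Spec (R/I) for a nilpotent ideal I: let X be an S-scheme
which is flat and either quasi-compact or locally of finite presentation over S, and P : X ×_S X → X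
a composition law. If P is associative and its base change to S₀ is the multiplication of some
group-scheme structure on X ×_S S₀, then P is the multiplication of a group-scheme structure on X.
(The published statement is over an arbitrary base scheme with S₀ defined by a nilpotent
quasi-coherent ideal; this row is its case of an affine base.) -/
theorem result (R : Type u) [CommRing R] (I : Ideal R)
    (hI : IsNilpotent I) (X : Over (Spec (CommRingCat.of R))) [Flat X.hom]
    (hX : QuasiCompact X.hom ∨ LocallyOfFinitePresentation X.hom) (P : X ⊗ X ⟶ X)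
    (hassoc : (P ▷ X) ≫ P = (α_ X X X).hom ≫ (X ◁ P) ≫ P)
    (h0 : ∃ _ : GrpObj ((Over.pullback (Spec.map (CommRingCat.ofHom (Ideal.Quotient.mk I)))).obj X),
      μ[(Over.pullback (Spec.map (CommRingCat.ofHom (Ideal.Quotient.mk I)))).obj X] =
        Functor.LaxMonoidal.μ (Over.pullback (Spec.map (CommRingCat.ofHom (Ideal.Quotient.mk I)))) X X ≫ (Over.pullback (Spec.map (CommRingCat.ofHom (Ideal.Quotient.mk I)))).map P) :
    ∃ _ : GrpObj X, μ[X] = P := by
  obtain ⟨G₀, hμ⟩ := h0
  have hL := Groth.Agent.Lib.Seat37.ShearBC.isIso_map_shearL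
    (Over.pullback (Spec.map (CommRingCat.ofHom (Ideal.Quotient.mk I)))) P hμ
  have hR := Groth.Agent.Lib.Seat37.ShearBC.isIso_map_shearR
    (Over.pullback (Spec.map (CommRingCat.ofHom (Ideal.Quotient.mk I)))) P hμ
  haveI : Flat (X ⊗ X).hom := by
    rw [Over.tensorObj_hom]
    infer_instance
  haveI : IsIso (CartesianMonoidalCategory.lift (CartesianMonoidalCategory.fst X X) P) :=
    Groth.Agent.Lib.Seat37.NilIsoOver.isIso_of_isIso_pullback_map I _ hI hL
  haveI : IsIso (CartesianMonoidalCategory.lift P (CartesianMonoidalCategory.snd X X)) :=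
    Groth.Agent.Lib.Seat37.NilIsoOver.isIso_of_isIso_pullback_map I _ hI hR
  haveI : Surjective X.hom := surjective_hom R I hI X η[(Over.pullback (Spec.map (CommRingCat.ofHom (Ideal.Quotient.mk I)))).obj X]
  haveI : EffectiveEpi X.hom := by
    rcases hX with hX | hX
    · infer_instance
    · infer_instance
  obtain ⟨s⟩ := exists_section X P hassoc
  exact Groth.Agent.Lib.Seat37.Shear.exists_grpObj P hassoc s

end Groth.Agent.S8366
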