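import Groth.Statements.S8370
import Mathlib

set_option autoImplicit false
universe u
open CategoryTheory MonObj AlgebraicGeometry
open LieS

namespace Groth.Agent.S8370

section Rings

variable {B C : Type u} [CommRing B] [CommRing C]

/-- Every ring homomorphism out of the dual numbers is a `dualHom`. -/
theorem eq_dualHom (φ : DualNumber B →+* C) (hc : φ DualNumber.eps * φ DualNumber.eps = 0) :
    φ = dualHom (φ.comp (algebraMap B (DualNumber B))) (φ DualNumber.eps) hc := by
  apply RingHom.ext
  intro x
  rw [dualHom_apply]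
  have hx : x = algebraMap B (DualNumber B) x.fst +
      algebraMap B (DualNumber B) x.snd * DualNumber.eps := by
    ext <;> simp [TrivSqZeroExt.algebraMap_eq_inl']
  conv_lhs => rw [hx]
  rw [map_add, map_mul]
  rfl

theorem dualHom_id_comp_bcHom (h : B →+* C) (c : C) (hc : c * c = 0) :
    (dualHom (RingHom.id C) c hc).comp (bcHom h) = dualHom h c hc := by
  apply RingHom.ext
  intro x
  simp [bcHom, TrivSqZeroExt.algebraMap_eq_inl']

end Rings

section Sect

variable {S : Scheme.{u}} (B : Type u) [CommRing B] (f : Spec (CommRingCat.of B) ⟶ S)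

/-- The section of `I_T → T` given by an element of square zero. -/
noncomputable def sect (c : B) (hc : c * c = 0) : pt B f ⟶ dpt B f :=
  Over.homMk (Spec.map (CommRingCat.ofHom (dualHom (RingHom.id B) c hc))) (by
    change Spec.map _ ≫ Spec.map _ ≫ f = f
    rw [← Category.assoc, specMap_comp, dualHom_comp_algebraMap, CommRingCat.ofHom_id]
    erw [Spec.map_id]
    exact Category.id_comp f)

theorem sect_proj (c : B) (hc : c * c = 0) : sect B f c hc ≫ proj B f = 𝟙 _ := by
  ext
  change Spec.map _ ≫ Spec.map _ = 𝟙 _
  rw [specMap_comp, dualHom_comp_algebraMap, CommRingCat.ofHom_id]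
  erw [Spec.map_id]

end Sect

/-- For a group scheme G over a scheme S (the group law of the Lie algebra functor of a group scheme is
commutative, which the published statement assumes), a sub-group-scheme K of G given by a
monomorphic homomorphism i, and an affine S-scheme T = Spec B: an element x of Lie(G/S)(T) belongs
to the Lie algebra of the centraliser of K, i.e. the point x of G with values in the dual numbers
I_T commutes with every point of K with values in any scheme over I_T, if and only if x is fixed by
the adjoint action of every point of K with values in an affine scheme T' = Spec B' over T (acting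
on the restriction of x to T'). -/
theorem result (S : Scheme.{u}) (G K : Over S) [GrpObj G] [GrpObj K] (i : K ⟶ G)
    [IsMonHom i] [Mono i] (B : Type u) [CommRing B] (f : Spec (CommRingCat.of B) ⟶ S) (x : LieS.Lie G B f) :
    (∀ (X' : Over S) (y : X' ⟶ LieS.dpt B f) (h : X' ⟶ K), (y ≫ x.1) * (h ≫ i) = (h ≫ i) * (y ≫ x.1)) ↔
    (∀ (B' : Type u) [CommRing B'] (h : B →+* B')
      (k : LieS.pt B' (Spec.map (CommRingCat.ofHom h) ≫ f) ⟶ K),
      LieS.Ad G B' (Spec.map (CommRingCat.ofHom h) ≫ f) (k ≫ i) (LieS.pull G f h x) = LieS.pull G f h x) := by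
  constructor
  · intro hL B' _ h k
    apply Subtype.ext
    show (proj B' _ ≫ k ≫ i) * (dptMap f h ≫ x.1) * (proj B' _ ≫ k ≫ i)⁻¹ = dptMap f h ≫ x.1
    have h1 := hL (dpt B' (Spec.map (CommRingCat.ofHom h) ≫ f)) (dptMap f h) (proj B' _ ≫ k)
    rw [Category.assoc] at h1
    rw [← h1, mul_inv_cancel_right]
  · intro hR X' y h
    apply Over.OverMorphism.ext
    apply (X'.left.affineOpenCover.openCover).hom_ext
    intro j
    -- the ring of the `j`-th affine piece
    let B' : Type u := X'.left.affineOpenCover.X j
    let jj : Spec (CommRingCat.of B') ⟶ X'.left := X'.left.affineOpenCover.f j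
    let φ : CommRingCat.of (DualNumber B) ⟶ CommRingCat.of B' := Spec.preimage (jj ≫ y.left)
    have hφ : Spec.map φ = jj ≫ y.left := Spec.map_preimage _
    let h₀ : B →+* B' := φ.hom.comp (algebraMap B (DualNumber B))
    let c : B' := φ.hom DualNumber.eps
    have hc : c * c = 0 := by
      show φ.hom DualNumber.eps * φ.hom DualNumber.eps = 0
      rw [← map_mul, eps_sq, map_zero]
    have hφ' : φ = CommRingCat.ofHom (dualHom h₀ c hc) := by
      apply CommRingCat.hom_ext
      exact eq_dualHom φ.hom hc
    -- the structure map of the affine piece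
    have hstr : jj ≫ X'.hom = Spec.map (CommRingCat.ofHom h₀) ≫ f := by
      have hy : y.left ≫ (dpt B f).hom = X'.hom := Over.w y
      rw [← hy, ← Category.assoc, ← hφ]
      change Spec.map φ ≫ Spec.map _ ≫ f = _
      rw [← Category.assoc, ← Spec.map_comp]
      rfl
    let u : pt B' (Spec.map (CommRingCat.ofHom h₀) ≫ f) ⟶ X' := Over.homMk jj hstr
    let k : pt B' (Spec.map (CommRingCat.ofHom h₀) ≫ f) ⟶ K := u ≫ h
    have hk := hR B' h₀ k
    have hk1 := congrArg Subtype.val hk
    change (proj B' _ ≫ k ≫ i) * (dptMap f h₀ ≫ x.1) * (proj B' _ ≫ k ≫ i)⁻¹ = dptMap f h₀ ≫ x.1 at hk1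
    have hk2 : (proj B' _ ≫ k ≫ i) * (dptMap f h₀ ≫ x.1) = (dptMap f h₀ ≫ x.1) * (proj B' _ ≫ k ≫ i) := by
      rw [← hk1, inv_mul_cancel_right, hk1]
    -- restrict along the section
    have hk3 := congrArg (fun t => sect B' (Spec.map (CommRingCat.ofHom h₀) ≫ f) c hc ≫ t) hk2
    simp only [MonObj.comp_mul] at hk3
    rw [← Category.assoc, sect_proj, Category.id_comp] at hk3
    have hψ : sect B' (Spec.map (CommRingCat.ofHom h₀) ≫ f) c hc ≫ dptMap f h₀ = u ≫ y := by
      apply Over.OverMorphism.ext
      change Spec.map _ ≫ Spec.map _ = jj ≫ y.left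
      rw [specMap_comp, dualHom_id_comp_bcHom, ← hφ', hφ]
    rw [← Category.assoc, hψ] at hk3
    -- conclude
    have hgoal : u ≫ ((y ≫ x.1) * (h ≫ i)) = u ≫ ((h ≫ i) * (y ≫ x.1)) := by
      simp only [MonObj.comp_mul]
      rw [← Category.assoc u h i, ← Category.assoc u y x.1]
      exact hk3.symm
    have hfin := congrArg (fun t => t.left) hgoal
    simp only [Over.comp_left] at hfin
    exact hfin

end Groth.Agent.S8370
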