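import Groth.Statements.S8385
import Groth.Agent.Lib.Seat37FinComplete
-- import your own Groth.Agent.* helpers here

set_option autoImplicit false
set_option linter.style.haveILetI false
universe u
open CategoryTheory MonoidalCategory CartesianMonoidalCategory MonObj GrpObj AlgebraicGeometry
open SGA3x

namespace Groth.Agent.S8385

open Groth.Agent.Lib.Seat37.FinComplete Groth.Agent.Lib.Seat37

section aux

variable (A : Type u) [CommRing A] [IsLocalRing A]
    [IsNoetherianRing A] [IsAdicComplete (IsLocalRing.maximalIdeal A) A] (B : Type u) [CommRing B] [Algebra A B]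
    [Module.Finite A B]

/-- uniqueness part -/
theorem uniq {Y : Scheme.{u}} (f g : Spec (CommRingCat.of B) ⟶ Y)
    (h : ∀ n : ℕ, Spec.map (CommRingCat.ofHom (Ideal.Quotient.mk (K A B n))) ≫ f =
        Spec.map (CommRingCat.ofHom (Ideal.Quotient.mk (K A B n))) ≫ g) : f = g := by
  obtain ⟨hfin, hbij, -⟩ := Groth.Agent.Lib.Helper18ComplProd.main A B
  refine ProdEpi.hom_ext (fun 𝔫 : MaximalSpectrum B => Localization.AtPrime 𝔫.asIdeal) hbij f g
    (fun 𝔫 => ?_)
  refine LocalLim.local_hom_ext (JL A B 𝔫) (JL_le A B 𝔫 0) (JL_hausdorff A B 𝔫) _ _ (fun n => ?_)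
  rw [← Category.assoc, ← Category.assoc, ← Spec.map_comp, ← CommRingCat.ofHom_comp,
    ← qbar_comp_mk, CommRingCat.ofHom_comp, Spec.map_comp, Category.assoc, Category.assoc, h (n + 1)]

/-- local existence at a maximal ideal -/
theorem exists_local {Y : Scheme.{u}} (u : (n : ℕ) → (Spec (CommRingCat.of (B ⧸ K A B n)) ⟶ Y))
    (hu : ∀ n : ℕ, Spec.map (CommRingCat.ofHom (Ideal.Quotient.factor (K_anti A B n))) ≫ u (n + 1) = u n)
    (𝔫 : MaximalSpectrum B) :
    ∃ f : Spec (CommRingCat.of (Localization.AtPrime 𝔫.asIdeal)) ⟶ Y,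
      ∀ n, Spec.map (CommRingCat.ofHom (Ideal.Quotient.mk (JL A B 𝔫 n))) ≫ f =
        Spec.map (CommRingCat.ofHom (qbar A B 𝔫 n)) ≫ u (n + 1) := by
  refine LocalLim.local_exists (JL A B 𝔫) (JL_le A B 𝔫) (JL_anti A B 𝔫) (JL_hausdorff A B 𝔫)
    (JL_complete A B 𝔫) (fun n => Spec.map (CommRingCat.ofHom (qbar A B 𝔫 n)) ≫ u (n + 1))
    (fun n => ?_)
  rw [← Category.assoc, ← Spec.map_comp, ← CommRingCat.ofHom_comp, factor_comp_qbar,
    CommRingCat.ofHom_comp, Spec.map_comp, Category.assoc, hu (n + 1)]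

/-- the glued morphism restricts correctly to `Spec (B ⧸ m^(n+1) B)` -/
theorem comp_eq_of_local {Y : Scheme.{u}} (u : (n : ℕ) → (Spec (CommRingCat.of (B ⧸ K A B n)) ⟶ Y))
    (f : Spec (CommRingCat.of B) ⟶ Y)
    (fl : ∀ 𝔫 : MaximalSpectrum B, Spec (CommRingCat.of (Localization.AtPrime 𝔫.asIdeal)) ⟶ Y)
    (hf : ∀ 𝔫 : MaximalSpectrum B,
      Spec.map (CommRingCat.ofHom (algebraMap B (Localization.AtPrime 𝔫.asIdeal))) ≫ f = fl 𝔫)
    (hfl : ∀ (𝔫 : MaximalSpectrum B) (n : ℕ),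
      Spec.map (CommRingCat.ofHom (Ideal.Quotient.mk (JL A B 𝔫 n))) ≫ fl 𝔫 =
        Spec.map (CommRingCat.ofHom (qbar A B 𝔫 n)) ≫ u (n + 1)) (n : ℕ) :
    Spec.map (CommRingCat.ofHom (Ideal.Quotient.mk (K A B (n + 1)))) ≫ f = u (n + 1) := by
  haveI : Module.Finite A (B ⧸ K A B (n + 1)) :=
    Module.Finite.of_surjective (Ideal.Quotient.mkₐ A (K A B (n + 1))).toLinearMap
      (Ideal.Quotient.mkₐ_surjective A _)
  obtain ⟨hfinC, hbijC, -⟩ := Groth.Agent.Lib.Helper18ComplProd.main A (B ⧸ K A B (n + 1))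
  refine ProdEpi.hom_ext
    (fun 𝔮 : MaximalSpectrum (B ⧸ K A B (n + 1)) => Localization.AtPrime 𝔮.asIdeal) hbijC _ _
    (fun 𝔮 => ?_)
  haveI : (𝔮.asIdeal.comap (Ideal.Quotient.mk (K A B (n + 1)))).IsMaximal :=
    Ideal.comap_isMaximal_of_surjective _ Ideal.Quotient.mk_surjective
  let 𝔫 : MaximalSpectrum B :=
    ⟨𝔮.asIdeal.comap (Ideal.Quotient.mk (K A B (n + 1))), inferInstance⟩
  let ρ : Localization.AtPrime 𝔫.asIdeal →+* Localization.AtPrime 𝔮.asIdeal :=
    Localization.localRingHom 𝔫.asIdeal 𝔮.asIdeal (Ideal.Quotient.mk (K A B (n + 1))) rfl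
  have hρ : ρ.comp (algebraMap B (Localization.AtPrime 𝔫.asIdeal)) =
      (algebraMap (B ⧸ K A B (n + 1)) (Localization.AtPrime 𝔮.asIdeal)).comp
        (Ideal.Quotient.mk (K A B (n + 1))) := by
    ext b
    exact Localization.localRingHom_to_map _ _ _ rfl b
  have hker : ∀ a ∈ JL A B 𝔫 n, ρ a = 0 := by
    have hle : JL A B 𝔫 n ≤ RingHom.ker ρ := by
      rw [Ideal.map_le_iff_le_comap]
      intro b hb
      rw [Ideal.mem_comap, RingHom.mem_ker]
      have := congrArg (fun φ => φ b) hρ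
      simp only [RingHom.comp_apply] at this
      rw [this, Ideal.Quotient.eq_zero_iff_mem.mpr hb, map_zero]
    exact fun a ha => hle ha
  let ρb : Localization.AtPrime 𝔫.asIdeal ⧸ JL A B 𝔫 n →+* Localization.AtPrime 𝔮.asIdeal :=
    Ideal.Quotient.lift _ ρ hker
  have hρb : ρb.comp (Ideal.Quotient.mk (JL A B 𝔫 n)) = ρ := by
    ext a
    exact Ideal.Quotient.lift_mk (JL A B 𝔫 n) ρ hker
  have hρq : ρb.comp (qbar A B 𝔫 n) =
      algebraMap (B ⧸ K A B (n + 1)) (Localization.AtPrime 𝔮.asIdeal) := by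
    apply Ideal.Quotient.ringHom_ext
    ext b
    have := congrArg (fun φ => φ b) hρ
    simp only [RingHom.comp_apply] at this
    simp only [RingHom.comp_apply, Ideal.quotientMap_mk]
    rw [← this]
    exact Ideal.Quotient.lift_mk (JL A B 𝔫 n) ρ hker
  calc Spec.map (CommRingCat.ofHom (algebraMap (B ⧸ K A B (n + 1)) (Localization.AtPrime 𝔮.asIdeal))) ≫
        Spec.map (CommRingCat.ofHom (Ideal.Quotient.mk (K A B (n + 1)))) ≫ f
      = Spec.map (CommRingCat.ofHom (ρ.comp (algebraMap B (Localization.AtPrime 𝔫.asIdeal)))) ≫ f := by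
        rw [hρ, CommRingCat.ofHom_comp (Ideal.Quotient.mk (K A B (n + 1)))
          (algebraMap (B ⧸ K A B (n + 1)) (Localization.AtPrime 𝔮.asIdeal)), Spec.map_comp,
          Category.assoc]
    _ = Spec.map (CommRingCat.ofHom ρ) ≫ fl 𝔫 := by
        rw [CommRingCat.ofHom_comp (algebraMap B (Localization.AtPrime 𝔫.asIdeal)) ρ,
          Spec.map_comp, Category.assoc, hf 𝔫]
    _ = Spec.map (CommRingCat.ofHom ρb) ≫ Spec.map (CommRingCat.ofHom (qbar A B 𝔫 n)) ≫ u (n + 1) := by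
        rw [← hfl 𝔫 n, ← Category.assoc, ← Spec.map_comp, ← CommRingCat.ofHom_comp, hρb]
    _ = Spec.map (CommRingCat.ofHom (algebraMap (B ⧸ K A B (n + 1)) (Localization.AtPrime 𝔮.asIdeal))) ≫
          u (n + 1) := by
        rw [← Category.assoc, ← Spec.map_comp, ← CommRingCat.ofHom_comp, hρq]

/-- the glued morphism is a morphism over `Spec A` -/
theorem comp_str {Y : Scheme.{u}} (p : Y ⟶ Spec (CommRingCat.of A))
    (u : (n : ℕ) → (Spec (CommRingCat.of (B ⧸ K A B n)) ⟶ Y))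
    (hstr : ∀ n : ℕ, u n ≫ p =
      Spec.map (CommRingCat.ofHom ((Ideal.Quotient.mk (K A B n)).comp (algebraMap A B))))
    (f : Spec (CommRingCat.of B) ⟶ Y)
    (fl : ∀ 𝔫 : MaximalSpectrum B, Spec (CommRingCat.of (Localization.AtPrime 𝔫.asIdeal)) ⟶ Y)
    (hf : ∀ 𝔫 : MaximalSpectrum B,
      Spec.map (CommRingCat.ofHom (algebraMap B (Localization.AtPrime 𝔫.asIdeal))) ≫ f = fl 𝔫)
    (hfl : ∀ (𝔫 : MaximalSpectrum B) (n : ℕ),
      Spec.map (CommRingCat.ofHom (Ideal.Quotient.mk (JL A B 𝔫 n))) ≫ fl 𝔫 =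
        Spec.map (CommRingCat.ofHom (qbar A B 𝔫 n)) ≫ u (n + 1)) :
    f ≫ p = Spec.map (CommRingCat.ofHom (algebraMap A B)) := by
  obtain ⟨hfin, hbij, -⟩ := Groth.Agent.Lib.Helper18ComplProd.main A B
  refine ProdEpi.hom_ext (fun 𝔫 : MaximalSpectrum B => Localization.AtPrime 𝔫.asIdeal) hbij _ _
    (fun 𝔫 => ?_)
  refine LocalLim.local_hom_ext (JL A B 𝔫) (JL_le A B 𝔫 0) (JL_hausdorff A B 𝔫) _ _ (fun n => ?_)
  have hL : Spec.map (CommRingCat.ofHom (Ideal.Quotient.mk (JL A B 𝔫 n))) ≫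
      Spec.map (CommRingCat.ofHom (algebraMap B (Localization.AtPrime 𝔫.asIdeal))) ≫ f ≫ p =
      Spec.map (CommRingCat.ofHom (qbar A B 𝔫 n)) ≫
        Spec.map (CommRingCat.ofHom ((Ideal.Quotient.mk (K A B (n + 1))).comp (algebraMap A B))) := by
    rw [← Category.assoc (Spec.map (CommRingCat.ofHom (algebraMap B _))) f p, hf 𝔫,
      ← Category.assoc, hfl 𝔫 n, Category.assoc, hstr (n + 1)]
  have hR : Spec.map (CommRingCat.ofHom (Ideal.Quotient.mk (JL A B 𝔫 n))) ≫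
      Spec.map (CommRingCat.ofHom (algebraMap B (Localization.AtPrime 𝔫.asIdeal))) ≫
        Spec.map (CommRingCat.ofHom (algebraMap A B)) =
      Spec.map (CommRingCat.ofHom (qbar A B 𝔫 n)) ≫
        Spec.map (CommRingCat.ofHom ((Ideal.Quotient.mk (K A B (n + 1))).comp (algebraMap A B))) := by
    rw [← Category.assoc, ← Spec.map_comp, ← CommRingCat.ofHom_comp, ← qbar_comp_mk]
    simp only [CommRingCat.ofHom_comp, Spec.map_comp, Category.assoc]
  rw [hL, hR]

end aux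

/-- Let A be a complete Noetherian local ring with maximal ideal m, S = Spec A, Sₙ = Spec(A/mⁿ), X =
Spec B a scheme finite over S (B a finite A-algebra) and Y an S-scheme. Then the canonical map
Hom_S(X, Y) → lim Hom_{Sₙ}(Xₙ, Yₙ), Xₙ = Spec(B/mⁿB), is bijective: two S-morphisms X → Y agreeing
on every Xₙ are equal, and every family of S-morphisms Xₙ → Y compatible with the closed immersions
Xₙ → Xₙ₊₁ comes from an S-morphism X → Y. -/
theorem result (A : Type u) [CommRing A] [IsLocalRing A]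
    [IsNoetherianRing A] [IsAdicComplete (IsLocalRing.maximalIdeal A) A] (B : Type u) [CommRing B] [Algebra A B]
    [Module.Finite A B] (Y : Over (Spec (CommRingCat.of A))) :
    (∀ f g : Spec (CommRingCat.of B) ⟶ Y.left, f ≫ Y.hom = Spec.map (CommRingCat.ofHom (algebraMap A B)) →
      g ≫ Y.hom = Spec.map (CommRingCat.ofHom (algebraMap A B)) →
      (∀ n : ℕ, Spec.map (CommRingCat.ofHom (Ideal.Quotient.mk (Ideal.map (algebraMap A B) ((IsLocalRing.maximalIdeal A) ^ n)))) ≫ f =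
        Spec.map (CommRingCat.ofHom (Ideal.Quotient.mk (Ideal.map (algebraMap A B) ((IsLocalRing.maximalIdeal A) ^ n)))) ≫ g) → f = g) ∧
    (∀ u : (n : ℕ) → (Spec (CommRingCat.of (B ⧸ (Ideal.map (algebraMap A B) ((IsLocalRing.maximalIdeal A) ^ n)))) ⟶ Y.left),
      (∀ n : ℕ, u n ≫ Y.hom =
        Spec.map (CommRingCat.ofHom ((Ideal.Quotient.mk (Ideal.map (algebraMap A B) ((IsLocalRing.maximalIdeal A) ^ n))).comp (algebraMap A B)))) →
      (∀ n : ℕ, Spec.map (CommRingCat.ofHom (Ideal.Quotient.factor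
          (Ideal.map_mono (Ideal.pow_le_pow_right (I := (IsLocalRing.maximalIdeal A)) (Nat.le_succ n))))) ≫ u (n + 1) = u n) →
      ∃ f : Spec (CommRingCat.of B) ⟶ Y.left, f ≫ Y.hom = Spec.map (CommRingCat.ofHom (algebraMap A B)) ∧
        ∀ n : ℕ, Spec.map (CommRingCat.ofHom (Ideal.Quotient.mk (Ideal.map (algebraMap A B) ((IsLocalRing.maximalIdeal A) ^ n)))) ≫ f = u n) := by
  refine ⟨fun f g _ _ h => uniq A B f g h, fun u hstr hu => ?_⟩
  obtain ⟨hfin, hbij, -⟩ := Groth.Agent.Lib.Helper18ComplProd.main A B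
  choose fl hfl using exists_local A B u hu
  obtain ⟨f, hf⟩ := ProdEpi.exists_glue
    (fun 𝔫 : MaximalSpectrum B => Localization.AtPrime 𝔫.asIdeal) hbij fl
  have hsucc : ∀ n : ℕ, Spec.map (CommRingCat.ofHom (Ideal.Quotient.mk (K A B (n + 1)))) ≫ f =
      u (n + 1) := by
    intro n
    exact comp_eq_of_local A B u f fl hf hfl n
  refine ⟨f, ?_, ?_⟩
  · exact comp_str A B Y.hom u hstr f fl hf hfl
  · intro n
    rcases n with _ | n
    · rw [← hu 0, ← hsucc 0, ← Category.assoc, ← Spec.map_comp, ← CommRingCat.ofHom_comp,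
        Ideal.Quotient.factor_comp_mk]
    · exact hsucc n

end Groth.Agent.S8385
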