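import Groth.Statements.S8392
import Groth.Agent.Lib.Seat37DSAdd

set_option autoImplicit false
set_option linter.style.haveILetI false
universe u
open CategoryTheory MonoidalCategory CartesianMonoidalCategory MonObj GrpObj AlgebraicGeometry
open SGA3x

namespace Groth.Agent.S8392

open Limits LieS Groth.Agent.Lib.Helper27.GaGm Groth.Agent.Lib.Seat27.DSPoints
  Groth.Agent.Lib.Seat37.DSAdd

/-- naturality of the adjunction bijection in the source -/
theorem adjEquiv_comp {S Z : Scheme.{u}} (f : S ⟶ Z) (G : Over Z) [GrpObj G] {X X' : Over S}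
    (k : X' ⟶ X) (x : X ⟶ Red.bc f G) :
    adjEquiv f G X' (k ≫ x) = (Over.map f).map k ≫ adjEquiv f G X x := by
  apply Over.OverMorphism.ext
  rw [adjEquiv_left, Over.comp_left, Over.comp_left, adjEquiv_left, Category.assoc]
  rfl

/-- local step: over an open `U` of the covering on which `H` becomes diagonalisable, the base change of `u`
is trivial. -/
theorem local_step {S : Scheme.{u}} (H : Over S) [GrpObj H] (u : H ⟶ Red.Ga S) [IsMonHom u]
    {U : Scheme.{u}} (g : U ⟶ S) (M : Type) [AddCommGroup M]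
    (φ : Grp.mk (Red.bc g H) ≅ Grp.mk (Red.DS U M)) :
    pullback.fst H.hom g ≫ u.left = pullback.fst H.hom g ≫ (1 : H ⟶ Red.Ga S).left := by
  -- the inverse isomorphism as a homomorphism
  let ψ : Red.DS U M ⟶ Red.bc g H := φ.inv.hom.hom
  have : IsMonHom ψ := inferInstance
  -- the additive character
  let w : ∀ (T : Over U), (T ⟶ Red.DS U M) → Γ(T.left, ⊤) :=
    fun T y => Red.gaFn (S := S) (X := (Over.map g).obj T) (adjEquiv g H T (y ≫ ψ) ≫ u)
  have hmul : ∀ (T : Over U) (y y' : T ⟶ Red.DS U M), w T (y * y') = w T y + w T y' := by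
    intro T y y'
    change Red.gaFn (S := S) (X := (Over.map g).obj T) (adjEquiv g H T ((y * y') ≫ ψ) ≫ u) = _
    rw [MonObj.mul_comp, adjEquiv_mul]
    rw [MonObj.mul_comp (adjEquiv g H T (y ≫ ψ)) (adjEquiv g H T (y' ≫ ψ)) u, gaFn_mul]
  have hcomp : ∀ (T T' : Over U) (k : T' ⟶ T) (y : T ⟶ Red.DS U M),
      w T' (k ≫ y) = k.left.appTop (w T y) := by
    intro T T' k y
    change Red.gaFn (S := S) (X := (Over.map g).obj T') (adjEquiv g H T' ((k ≫ y) ≫ ψ) ≫ u) = _
    rw [Category.assoc, adjEquiv_comp, Category.assoc, gaFn_comp]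
    rfl
  -- the tautological point of `bc g H`
  let y₀ : Red.bc g H ⟶ Red.DS U M := φ.hom.hom.hom
  have hy₀ : y₀ ≫ ψ = 𝟙 _ := by
    have := congrArg (fun k => k.hom.hom) φ.hom_inv_id
    exact this
  apply Scheme.hom_ext_of_forall
  intro x
  obtain ⟨W, hW, hxW, -⟩ := TopologicalSpace.Opens.isBasis_iff_nbhd.mp
    (Red.bc g H).left.isBasis_affineOpens (show x ∈ (⊤ : (Red.bc g H).left.Opens) from trivial)
  refine ⟨W, hxW, ?_⟩
  let C : Type u := Γ((Red.bc g H).left, W)
  let v₀ : Spec (CommRingCat.of C) ⟶ (Red.bc g H).left := hW.fromSpec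
  let p : Spec (CommRingCat.of C) ⟶ U := v₀ ≫ (Red.bc g H).hom
  let kW : pt C p ⟶ Red.bc g H := Over.homMk v₀ rfl
  have h0 : w (pt C p) (kW ≫ y₀) = 0 := addChar_eq_zero_of_affine w hmul hcomp p _
  have h1 : (kW ≫ y₀) ≫ ψ = kW := by rw [Category.assoc, hy₀, Category.comp_id]
  change Red.gaFn (S := S) (X := (Over.map g).obj (pt C p))
    (adjEquiv g H _ ((kW ≫ y₀) ≫ ψ) ≫ u) = 0 at h0
  rw [h1] at h0
  have h2 : adjEquiv g H _ kW ≫ u = 1 := gaFn_injective (h0.trans gaFn_one.symm)
  have e1 : (1 : (Over.map g).obj (pt C p) ⟶ Red.Ga S) = adjEquiv g H _ kW ≫ 1 :=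
    (MonObj.comp_one _).symm
  rw [e1] at h2
  have h3 : v₀ ≫ pullback.fst H.hom g ≫ u.left =
      v₀ ≫ pullback.fst H.hom g ≫ (1 : H ⟶ Red.Ga S).left := by
    have ha : (adjEquiv g H _ kW).left = v₀ ≫ pullback.fst H.hom g := adjEquiv_left g H _ kW
    have := congrArg (fun t => t.left) h2
    simp only [Over.comp_left] at this
    rw [ha] at this
    simpa only [Category.assoc] using this
  have hiso : v₀ = hW.isoSpec.inv ≫ Scheme.Opens.ι (X := (Red.bc g H).left) W :=
    (hW.isoSpec_inv_ι).symm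
  rw [hiso, Category.assoc, Category.assoc] at h3
  exact (cancel_epi _).mp h3

/-- Let H be an S-group scheme of multiplicative type. Then every homomorphism of S-groups H → 𝔾_a is
trivial. (Stated for H of multiplicative type and of finite type, the class of multiplicative groups
available here; the published statement allows any group of multiplicative type.) -/
theorem result (S : Scheme.{u}) (H : Over S) [GrpObj H] (hH : SGA3x.IsMultTypeFT H)
    (u : H ⟶ Red.Ga S) [IsMonHom u] : u = 1 := by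
  obtain ⟨S', f, hflat, hsurj, -, hloc⟩ := hH
  choose Uo hmem hrest using hloc
  haveI : Flat f := hflat
  let gg : ∀ s' : S', ((Uo s' : S'.Opens) : Scheme.{u}) ⟶ S := fun s' => (Uo s').ι ≫ f
  let π : ∀ s' : S', pullback H.hom (gg s') ⟶ H.left := fun s' => pullback.fst _ _
  have hπ : ∀ s', π s' ≫ u.left = π s' ≫ (1 : H ⟶ Red.Ga S).left := by
    intro s'
    obtain ⟨M, inst, -, ⟨φ⟩⟩ := hrest s'
    exact local_step H u (gg s') M φ
  haveI : ∀ s', Flat (gg s') := fun s' => inferInstance
  haveI : ∀ s', Flat (π s') := fun s' => inferInstance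
  let σ : (∐ fun s' : S' => pullback H.hom (gg s')) ⟶ H.left := Sigma.desc π
  haveI : Flat σ := inferInstance
  haveI : Surjective σ := by
    constructor
    intro h
    obtain ⟨s', hs'⟩ := hsurj.surj (H.hom h)
    let z₀ : ((Uo s' : S'.Opens) : Scheme.{u}) := ⟨s', hmem s'⟩
    have heq : H.hom h = (gg s') z₀ := by
      rw [← hs']
      rfl
    obtain ⟨z, hz, -⟩ := Scheme.Pullback.exists_preimage_pullback h z₀ heq
    refine ⟨(Sigma.ι (fun s' : S' => pullback H.hom (gg s')) s') z, ?_⟩
    rw [← Scheme.Hom.comp_apply, Sigma.ι_desc]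
    exact hz
  haveI : Epi σ := Flat.epi_of_flat_of_surjective σ
  apply Over.OverMorphism.ext
  rw [← cancel_epi σ]
  apply Sigma.hom_ext
  intro s'
  rw [Sigma.ι_desc_assoc, Sigma.ι_desc_assoc]
  exact hπ s'

end Groth.Agent.S8392
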