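import Groth.Statements.S8517
import Groth.Agent.Lib.Seat38RootBase

set_option autoImplicit false
open CategoryTheory MonoidalCategory CartesianMonoidalCategory MonObj GrpObj AlgebraicGeometry
universe u
open RedSub

namespace Groth.Agent.S8517

/-- Let R be the set of roots of a root pairing over ℤ with finitely many roots, and R₁, R₂ two closed
subsets of R (if a, b ∈ Rᵢ and root a + root b is a root c then c ∈ Rᵢ), each containing a system of
positive roots (the positive roots of some base). If R₁ ∪ R₂ = R, then R₁ ∩ (−R₂) (the roots of R₁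
whose negative is a root in R₂) contains a system of positive roots. -/
theorem result {idx M N : Type} [Finite idx] [AddCommGroup M] [AddCommGroup N] (P : RootPairing idx ℤ M N) (R₁ R₂ : Set idx)
    (h₁ : ∀ a b c : idx, a ∈ R₁ → b ∈ R₁ → P.root a + P.root b = P.root c → c ∈ R₁)
    (h₂ : ∀ a b c : idx, a ∈ R₂ → b ∈ R₂ → P.root a + P.root b = P.root c → c ∈ R₂)
    (hb₁ : ∃ b : P.Base, RedSub.posRoots P b ⊆ R₁) (hb₂ : ∃ b : P.Base, RedSub.posRoots P b ⊆ R₂)
    (hunion : R₁ ∪ R₂ = Set.univ) :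
    ∃ b : P.Base, RedSub.posRoots P b ⊆ {a | a ∈ R₁ ∧ ∃ c ∈ R₂, P.root a = -P.root c} := by
  open Groth.Agent.Lib.Seat38.RootBase in
  have conv : ∀ (b : P.Base) (R : Set idx), RedSub.posRoots P b ⊆ R → ∀ i, b.IsPos i → i ∈ R :=
    fun b R h i hi => h ((mem_closure_iff_isPos b i).mpr hi)
  obtain ⟨b, hb⟩ := exists_base_pos_subset_inter_neg (P := P) R₁ R₂ h₂
    (hb₁.imp fun b h => conv b R₁ h) (hb₂.imp fun b h => conv b R₂ h) hunion
  refine ⟨b, fun a ha => ?_⟩
  have hpos : b.IsPos a := (mem_closure_iff_isPos b a).mp ha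
  exact ⟨(hb a hpos).1, _, (hb a hpos).2, by rw [root_neg, neg_neg]⟩

end Groth.Agent.S8517
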