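import Groth.Statements.S8542
import Groth.Agent.Lib.Seat38SecPull

set_option autoImplicit false
universe u
open CategoryTheory CategoryTheory.Limits AlgebraicGeometry Opposite
open EtBC

namespace Groth.Agent.S8542

/-- Let h : Y → X be a morphism of quasi-compact quasi-separated schemes such that for every sheaf of
sets F on the small etale site of X the pullback map Γ(X, F) → Γ(Y, h^*F) is injective. Let u : F →
G be a monomorphism of sheaves of sets on X and ξ ∈ Γ(Y, h^*F) a section whose image in Γ(Y, h^*G)
lies in the image of Γ(X, G). Then ξ lies in the image of Γ(X, F). -/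
theorem result {X Y : Scheme.{u}} [CompactSpace X] [QuasiSeparatedSpace X]
    [CompactSpace Y] [QuasiSeparatedSpace Y] (h : Y ⟶ X)
    (hinj : ∀ F : EtDesc.Sh X, Function.Injective (EtDesc.secPull h F))
    {F G : EtDesc.Sh X} (u : F ⟶ G) [Mono u] (ξ : EtDesc.sect ((EtDesc.pullSh h).obj F) (EtCoh.top Y))
    (hξ : ((EtDesc.pullSh h).map u).hom.app (op (EtCoh.top Y)) ξ ∈ Set.range (EtDesc.secPull h G)) :
    ξ ∈ Set.range (EtDesc.secPull h F) := by
  open Groth.Agent.Lib.Seat38.SecPull Groth.Agent.Lib.Seat38.PullExact in
  obtain ⟨η, hη⟩ := hξ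
  -- the two images of `η` in the cokernel pair of `u` agree, because they agree after pullback to `Y`
  have h1 : (pushout.inl u u).hom.app (op (EtCoh.top X)) η = (pushout.inr u u).hom.app (op (EtCoh.top X)) η := by
    apply hinj (pushout u u)
    rw [secPull_naturality, secPull_naturality, hη]
    have e : (EtDesc.pullSh h).map u ≫ (EtDesc.pullSh h).map (pushout.inl u u) =
        (EtDesc.pullSh h).map u ≫ (EtDesc.pullSh h).map (pushout.inr u u) := by
      rw [← Functor.map_comp, ← Functor.map_comp, pushout.condition]
    exact congrArg (fun φ => φ.hom.app (op (EtCoh.top Y)) ξ) e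
  obtain ⟨ζ, hζ⟩ := exists_section_of_inl_eq_inr u (op (EtCoh.top X)) η h1
  refine ⟨ζ, ?_⟩
  -- `h^* u` is a monomorphism, hence injective on sections
  have : Mono ((EtDesc.pullSh h).map u) := inferInstance
  apply injective_app_of_mono ((EtDesc.pullSh h).map u) (op (EtCoh.top Y))
  rw [← secPull_naturality, hζ, hη]

end Groth.Agent.S8542
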