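import Groth.Statements.S8562
-- import your own Groth.Agent.* helpers here

set_option autoImplicit false
universe u
open CategoryTheory CategoryTheory.Limits AlgebraicGeometry Opposite
open NonAbH1

namespace Groth.Agent.S8562

set_option backward.isDefEq.respectTransparency.types false in
/-- a covering sieve of the small etale site is jointly surjective (pointwise form) -/
theorem exists_of_mem_smallEtaleTopology {Y : Scheme.{u}} (T : Y.Etale) (S : Sieve T)
    (hS : S ∈ Y.smallEtaleTopology T) :
    ∀ x : T.left, ∃ (V : Y.Etale) (g : V ⟶ T) (y : V.left), S g ∧ g.left y = x := by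
  have h := Scheme.smallGrothendieckTopology_eq_toGrothendieck_smallPretopology
    (S := Y) (P := @Etale) (Q := @Etale) le_rfl
  change S ∈ (Y.smallGrothendieckTopology (P := @Etale)) T at hS
  rw [h] at hS
  have hS2 := (Scheme.mem_toGrothendieck_smallPretopology (P := @Etale) (Q := @Etale) T S).1 hS
  intro x
  obtain ⟨V, g, y, h1, -, h3⟩ := hS2 x
  exact ⟨V, g, y, h1, h3⟩


/-- Exactness of the sequence 0 → H¹(Y, f_*F) → H¹(X, F) → H⁰(Y, R¹f_*F) at its middle term, in terms of
torsors: let f : X ⟶ Y be a morphism of schemes, F a sheaf of groups on the small etale site of X,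
f_*F its direct image on Y (sections over an etale Y-scheme V are the sections of F over X ×_Y V),
and Q an F-torsor. Then Q is the image of a class in H¹(Y, f_*F), in the sense that there are an
f_*F-torsor P on Y and a morphism of sheaves of sets from P to the direct image of the sheaf
underlying Q which is equivariant for the actions of f_*F, if and only if the class of Q is locally
trivial over Y: there is a jointly surjective family of etale Y-schemes Y_i such that Q has a
section over every X ×_Y Y_i. -/
theorem result {X Y : Scheme.{u}} (f : X ⟶ Y)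
    [EtCoh.BCCont f] (F : Sheaf X.smallEtaleTopology GrpCat.{u + 1}) (Q : NonAbH1.Torsor F) :
    (∃ (P : NonAbH1.Torsor (((EtCoh.bc f).sheafPushforwardContinuous GrpCat.{u + 1}
        Y.smallEtaleTopology X.smallEtaleTopology).obj F))
      (φ : P.P ⟶ ((EtCoh.bc f).sheafPushforwardContinuous (Type (u + 1))
        Y.smallEtaleTopology X.smallEtaleTopology).obj Q.P),
      ∀ (V : Y.Etaleᵒᵖ) (g : F.obj.obj (op ((EtCoh.bc f).obj V.unop))) (s : P.P.obj.obj V),
        φ.hom.app V (P.smul g s) = Q.smul g (φ.hom.app V s)) ↔
    ∃ (ι : Type u) (V : ι → Y.Etale), EtCoh.Covers V ∧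
      ∀ i, Nonempty (Q.P.obj.obj (op ((EtCoh.bc f).obj (V i)))) := by
  classical
  constructor
  · rintro ⟨P, φ, -⟩
    -- the final object of the small etale site of `Y`
    let T : Y.Etale := Scheme.Etale.mk (𝟙 Y)
    obtain ⟨S, hS, hne⟩ := P.isTorsor.2 T
    have hS' := exists_of_mem_smallEtaleTopology T S hS
    choose V g v hSg hv using hS'
    refine ⟨Y, V, ?_, ?_⟩
    · intro y
      refine ⟨y, v y, ?_⟩
      have hw : (g y).left ≫ T.hom = (V y).hom := MorphismProperty.Over.w (g y)
      have h1 : (V y).hom = (g y).left := by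
        rw [← hw]
        exact Category.comp_id _
      rw [h1]
      exact hv y
    · intro y
      obtain ⟨s⟩ := hne (g y) (hSg y)
      exact ⟨φ.hom.app (op (V y)) s⟩
  · rintro ⟨ι, V, hV, hq⟩
    let G := ((EtCoh.bc f).sheafPushforwardContinuous GrpCat.{u + 1}
      Y.smallEtaleTopology X.smallEtaleTopology).obj F
    let P0 : NonAbH1.GSheaf G :=
      { P := ((EtCoh.bc f).sheafPushforwardContinuous (Type (u + 1))
          Y.smallEtaleTopology X.smallEtaleTopology).obj Q.P
        smul := fun {U} g p => Q.smul (U := op ((EtCoh.bc f).obj U.unop)) g p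
        one_smul := fun p => Q.one_smul p
        mul_smul := fun g h p => Q.mul_smul g h p
        map_smul := fun φ g p => Q.map_smul ((EtCoh.bc f).op.map φ) g p }
    have hP : P0.IsTorsor := by
      refine ⟨fun U p q => Q.isTorsor.1 (op ((EtCoh.bc f).obj U.unop)) p q, ?_⟩
      intro U
      let W : ι → Y.Etale := fun i => Scheme.Etale.mk (pullback.fst U.hom (V i).hom ≫ U.hom)
      let pr : ∀ i, W i ⟶ U := fun i =>
        MorphismProperty.Over.homMk (pullback.fst U.hom (V i).hom) rfl
      let r : ∀ i, W i ⟶ V i := fun i =>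
        MorphismProperty.Over.homMk (pullback.snd U.hom (V i).hom) pullback.condition.symm
      refine ⟨Sieve.ofArrows W pr, ?_, ?_⟩
      · rw [Scheme.ofArrows_mem_smallEtaleTopology_iff]
        ext x
        simp only [Set.mem_iUnion, Set.mem_range, Set.mem_univ, iff_true]
        obtain ⟨i, v, hv⟩ := hV (U.hom.base x)
        obtain ⟨z, hz, -⟩ := Scheme.Pullback.exists_preimage_pullback (f := U.hom) (g := (V i).hom)
          x v hv.symm
        exact ⟨i, z, hz⟩
      · intro W' g hg
        obtain ⟨i, a, rfl⟩ := (Sieve.mem_ofArrows_iff _ _ _).1 hg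
        obtain ⟨s⟩ := hq i
        exact ⟨Q.P.obj.map ((EtCoh.bc f).map (a ≫ r i)).op s⟩
    exact ⟨⟨P0, hP⟩, 𝟙 _, fun V g s => rfl⟩

end Groth.Agent.S8562
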