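import Groth.Statements.S8567
import Groth.Agent.Lib.Seat38PullUnitLocal

set_option autoImplicit false
open CategoryTheory TopologicalSpace Opposite
universe u
open CohTop

namespace Groth.Agent.S8567

/-- Let X be a topological space, K ⊆ X a compact subset such that any two distinct points of K have
disjoint neighbourhoods in X, and F a flasque abelian sheaf on X. Then the inverse image F|K of F on
the subspace K is a soft sheaf: for every closed subset A of K, every section of (F|K)|A over A is
the restriction of a section of F|K over K (the restriction map is the unit of the inverse image /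
direct image adjunction for the inclusion A → K, taken on global sections). -/
theorem result {X : TopCat.{u}} {K : Set X} (hK : IsCompact K)
    (hsep : ∀ x ∈ K, ∀ y ∈ K, x ≠ y → ∃ U V : Set X, IsOpen U ∧ IsOpen V ∧ x ∈ U ∧ y ∈ V ∧ Disjoint U V)
    (F : CohTop.Ab X) [TopCat.Sheaf.IsFlasque F] {A : Set K} (hA : IsClosed A) :
    Function.Surjective
      ((((TopCat.Sheaf.pullbackPushforwardAdjunction AddCommGrpCat.{u}
        (TopCat.ofHom ⟨((↑) : A → K), continuous_subtype_val⟩ : TopCat.of A ⟶ TopCat.of K)).unit.app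
        ((CohTop.pull (TopCat.ofHom ⟨((↑) : K → X), continuous_subtype_val⟩ : TopCat.of K ⟶ X)).obj F)).hom.app
        (op ⊤)).hom) := by
  classical
  open Groth.Agent.Lib.Seat38.CompactNhd Groth.Agent.Lib.Seat38.PullUnitLocal in
  intro s
  let i : TopCat.of K ⟶ X := TopCat.ofHom ⟨((↑) : K → X), continuous_subtype_val⟩
  let j : TopCat.of A ⟶ TopCat.of K := TopCat.ofHom ⟨((↑) : A → K), continuous_subtype_val⟩
  let G : CohTop.Ab (TopCat.of K) := (CohTop.pull i).obj F
  let H : CohTop.Ab (TopCat.of A) := (CohTop.pull j).obj G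
  have hKc : CompactSpace K := isCompact_iff_compactSpace.mp hK
  have hAc : CompactSpace (TopCat.of A) := isCompact_iff_compactSpace.mp hA.isCompact
  have hsep' : ∀ z z' : TopCat.of A, z ≠ z' →
      ∃ U V : Set X, IsOpen U ∧ IsOpen V ∧ (j ≫ i) z ∈ U ∧ (j ≫ i) z' ∈ V ∧ Disjoint U V := by
    intro z z' hne
    refine hsep ((z : K) : X) (z : K).2 ((z' : K) : X) (z' : K).2 ?_
    intro h
    exact hne (Subtype.ext (Subtype.ext h))
  let η := compUnit i j (unitF i F) (unitF j G)
  have hLS : LS (j ≫ i) η := LS_comp i j _ _ (unit_LS i F) (unit_LS j G)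
  have hLI : LI (j ≫ i) η := LI_comp i j _ _ (unit_LI i F) (unit_LI j G)
  obtain ⟨U, hU, t, ht⟩ := exists_section_nhd (j ≫ i) η hsep' hLS hLI s
  -- extend `t` to a global section by flasqueness
  have hepi : Epi (F.obj.map (homOfLE (le_top : U ≤ ⊤)).op) := TopCat.Presheaf.IsFlasque.epi _
  obtain ⟨t', ht'⟩ := (AddCommGrpCat.epi_iff_surjective _).1 hepi t
  refine ⟨(unitF i F).hom.app (op ⊤) t', ?_⟩
  have h1 : ev (j ≫ i) η U ⊤ hU (res F.obj le_top t') = s := by
    have : res F.obj le_top t' = t := ht'
    rw [this]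
    exact ht
  rw [ev_natural, ev_compUnit] at h1
  have h2 : ev i (unitF i F) ⊤ ((Opens.map i).obj ⊤) le_rfl t' = (unitF i F).hom.app (op ⊤) t' :=
    res_self _ _
  rw [h2] at h1
  refine Eq.trans ?_ h1
  exact (res_self H.obj _).symm

end Groth.Agent.S8567
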