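import Groth.Statements.S8570
import Groth.Agent.Lib.Seat38HyperSS
import Groth.Agent.Lib.Seat38ClosedCechExact
import Groth.Agent.Lib.Seat38ProdRes
import Groth.Agent.Lib.Helper23ExtRD

set_option autoImplicit false
open CategoryTheory TopologicalSpace
universe u
open CohTop

namespace Groth.Agent.S8570

open CategoryTheory.Limits Opposite
open Groth.Agent.Lib.Seat38 Groth.Agent.Lib.Seat38.ClosedCech Groth.Agent.Lib.Seat38.ClosedModel
  Groth.Agent.Lib.Seat38.ProdRes

/-- the tuple intersections of a locally finite closed family form a locally finite family -/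
lemma locFinSets_ZZ {X : TopCat.{u}} {I : Type u} (U : I → Set X)
    (hU : ∀ i, IsClosed (U i)) (hlf : LocallyFinite U) (p : ℕ) :
    LocFinSets (fun σ : Fin (p + 1) → I => ZZ U σ) := by
  intro x
  obtain ⟨V, -, hxV, hV⟩ := exists_good_nhd hU hlf x ⊤ trivial
  exact ⟨V, hxV, Sx U x p, finite_Sx hlf x p, fun σ hσ => disjoint_ZZ_of_not_mem_Sx hV hσ⟩

/-- Let (U_i), i in I, be a locally finite covering of a topological space X by closed subsets and F an
abelian sheaf on X. The disjoint union of the U_i is then of cohomological descent over X, and the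
descent spectral sequence reads, in existence form: there is a bounded spectral sequence of abelian
groups starting at page one, with E_1^{p,q} isomorphic for p, q ≥ 0 to the product, over all ordered
(p+1)-tuples of indices (i_0, ..., i_p), of the groups H^q(U_{i_0} ∩ ... ∩ U_{i_p}, F|(U_{i_0} ∩ ...
∩ U_{i_p})) (inverse image of F on the closed subspace) and zero otherwise, together with abutment
data whose filtrations are finite on H^n(X, F) for n ≥ 0 (zero for n < 0). (The E_1 identifications
and the abutment isomorphisms are asserted to exist only; the first differential, which is the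
alternating sum of the restriction maps, is not part of this statement.) -/
theorem result {X : TopCat.{u}} {I : Type u} (U : I → Set X)
    (hU : ∀ i, IsClosed (U i)) (hlf : LocallyFinite U) (hcov : ⋃ i, U i = Set.univ) (F : CohTop.Ab X) :
    ∃ (E : CohomologicalSpectralSequence AddCommGrpCat.{u} 1)
      (a : SpSeq.Abutment E (fun n : ℤ =>
        if 0 ≤ n then AddCommGrpCat.of (CohTop.H F n.toNat) else AddCommGrpCat.of PUnit.{u + 1})),
      (∀ n, a.IsFinite n) ∧ SpSeq.IsBounded E ∧
      ∀ p q : ℤ, Nonempty ((E.page 1 le_rfl).X (p, q) ≅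
        (if 0 ≤ p ∧ 0 ≤ q then
          AddCommGrpCat.of (∀ σ : Fin (p.toNat + 1) → I,
            CohTop.H ((CohTop.pull (TopCat.ofHom ⟨((↑) : (⋂ k, U (σ k) : Set X) → X), continuous_subtype_val⟩ :
              TopCat.of (⋂ k, U (σ k) : Set X) ⟶ X)).obj F) q.toNat)
         else AddCommGrpCat.of PUnit.{u + 1})) := by
  have hHab : ∀ n : ℕ, Nonempty (((preadditiveCoyoneda.obj (op (cZ X))).rightDerived n).obj
      ((CK hU F).homology 0) ≅ AddCommGrpCat.of (CohTop.H F n)) := by
    intro n
    obtain ⟨e0⟩ := nonempty_iso_homology_zero hU hlf F hcov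
    obtain ⟨e1⟩ := Groth.Agent.Lib.Helper23ExtRD.rightDerived_coyoneda_iso (cZ X) F n
    exact ⟨((preadditiveCoyoneda.obj (op (cZ X))).rightDerived n).mapIso e0.symm ≪≫ e1⟩
  have hE1 : ∀ p q : ℕ, Nonempty (((preadditiveCoyoneda.obj (op (cZ X))).rightDerived q).obj
      ((CK hU F).X p) ≅ AddCommGrpCat.of (∀ σ : Fin (p + 1) → I,
        CohTop.H ((CohTop.pull (kk (ZZ U σ))).obj F) q)) := by
    intro p q
    obtain ⟨e1⟩ := Groth.Agent.Lib.Helper23ExtRD.rightDerived_coyoneda_iso (cZ X) ((CK hU F).X p) q
    obtain ⟨e2⟩ := nonempty_H_prod_iso (Z := fun σ : Fin (p + 1) → I => ZZ U σ)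
      (fun σ => isClosed_ZZ hU σ) (locFinSets_ZZ U hU hlf p)
      (fun σ => (CohTop.pull (kk (ZZ U σ))).obj F) q
    exact ⟨e1 ≪≫ e2⟩
  exact HyperSS.exists_specSeq (preadditiveCoyoneda.obj (op (cZ X))) (CK hU F)
    (exactAt_CK hU hlf F hcov) (fun n => AddCommGrpCat.of (CohTop.H F n)) hHab
    (fun p q => AddCommGrpCat.of (∀ σ : Fin (p + 1) → I,
        CohTop.H ((CohTop.pull (kk (ZZ U σ))).obj F) q)) hE1

end Groth.Agent.S8570
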