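import Groth.Statements.S8572
-- import your own Groth.Agent.* helpers here
import Groth.Agent.Lib.Seat38WideSec
import Groth.Agent.Lib.Seat38CechPsh
import Groth.Agent.Lib.Seat38LocalHomeoD

set_option autoImplicit false
open CategoryTheory CategoryTheory.Limits TopologicalSpace
universe u
open CohTop

namespace Groth.Agent.S8572

open Opposite Simplicial
open Groth.Agent.Lib.Seat38 Groth.Agent.Lib.Seat38.LocalHomeo Groth.Agent.Lib.Seat38.WideSec
  Groth.Agent.Lib.Seat38.CechFree

/-- the presheaf of local sections of a surjective local homeomorphism covers the base -/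
lemma isCovering {X S : TopCat.{u}} (f : X ⟶ S)
    (hf : IsLocalHomeomorph f) (hsurj : Function.Surjective f) :
    CechPsh.IsCovering (secPsh f ⊤) (Opens.grothendieckTopology S) := by
  intro U
  refine ⟨{ arrows := fun V _ => Nonempty (LSec f ⊤ V)
            downward_closed := ?_ }, ?_, ?_⟩
  · rintro V W i ⟨σ⟩ j
    exact ⟨σ.restrict j.le⟩
  · intro x hx
    obtain ⟨y, rfl⟩ := hsurj x
    obtain ⟨V, σ, a, ha⟩ := exists_lsec hf ⊤ y trivial
    have hVa : f y ∈ V := by
      rw [← ha, σ.sec a]
      exact a.2
    refine ⟨V ⊓ U, homOfLE inf_le_right, ⟨σ.restrict inf_le_left⟩, ⟨hVa, hx⟩⟩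
  · intro V i h
    exact h

/-- the terms of the Čech complex of presheaves are the free presheaves on the tuples of sections -/
noncomputable def pXIso {X S : TopCat.{u}} (f : X ⟶ S) (n : ℕ) :
    (CechPsh.P (secPsh f ⊤)).X n ≅ powPsh f n ⋙ AddCommGrpCat.free :=
  NatIso.ofComponents (fun U => Iso.refl _) (fun {U V} i =>
    (Category.comp_id (((CechPsh.P (secPsh f ⊤)).X n).map i)).trans
      (Category.id_comp ((powPsh f n ⋙ AddCommGrpCat.free).map i)).symm)

/-- the free abelian sheaf on the tuples of sections is the free abelian sheaf on the sections of the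
fibre product -/
noncomputable def aIso {X S : TopCat.{u}} (f : X ⟶ S) (n : ℕ) :
    CechPsh.A (secPsh f ⊤) (Opens.grothendieckTopology S) n ≅ B (bs f n) ⊤ :=
  (presheafToSheaf (Opens.grothendieckTopology S) AddCommGrpCat.{u}).mapIso
    (pXIso f n ≪≫ Functor.isoWhiskerRight (powPshIso f n) AddCommGrpCat.free)

/-- `Ext` is invariant under isomorphisms in the first variable. -/
noncomputable def extIsoLeft {𝒜 : Type*} [Category 𝒜] [Abelian 𝒜] [HasExt.{u} 𝒜] {X X' : 𝒜}
    (e : X ≅ X') (Y : 𝒜) (n : ℕ) :
    AddCommGrpCat.of (Abelian.Ext.{u} X Y n) ≅ AddCommGrpCat.of (Abelian.Ext.{u} X' Y n) :=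
  ((Abelian.extFunctor.{u} n).mapIso e.symm.op).app Y

/-- Let f : X → S be a surjective local homeomorphism of topological spaces and F an abelian sheaf on S.
Then f is of universal cohomological descent, and the descent spectral sequence reads, in existence
form: there is a bounded spectral sequence of abelian groups starting at page one with E_1^{p,q}
isomorphic, for p, q ≥ 0, to H^q(X_p, F|X_p), where X_p is the (p+1)-fold fibre product of X over S
and F|X_p the inverse image of F along its projection to S, and zero otherwise, together with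
abutment data whose filtrations are finite on H^n(S, F) for n ≥ 0 (zero for n < 0). (The E_1
identifications and the abutment isomorphisms are asserted to exist only; the differentials are not
part of this statement.) -/
theorem result {X S : TopCat.{u}} (f : X ⟶ S)
    (hf : IsLocalHomeomorph f) (hsurj : Function.Surjective f) (F : CohTop.Ab S) :
    ∃ (E : CohomologicalSpectralSequence AddCommGrpCat.{u} 1)
      (a : SpSeq.Abutment E (fun n : ℤ =>
        if 0 ≤ n then AddCommGrpCat.of (CohTop.H F n.toNat) else AddCommGrpCat.of PUnit.{u + 1})),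
      (∀ n, a.IsFinite n) ∧ SpSeq.IsBounded E ∧
      ∀ p q : ℤ, Nonempty ((E.page 1 le_rfl).X (p, q) ≅
        (if 0 ≤ p ∧ 0 ≤ q then
          AddCommGrpCat.of (CohTop.H ((CohTop.pull
            (WidePullback.base (fun _ : Fin (p.toNat + 1) => f) :
              widePullback S (fun _ : Fin (p.toNat + 1) => X) (fun _ => f) ⟶ S)).obj F) q.toNat)
         else AddCommGrpCat.of PUnit.{u + 1})) := by
  obtain ⟨E, a, hfin, hbdd, hE⟩ := CechPsh.exists_specSeq (isCovering f hf hsurj) F
  refine ⟨E, a, hfin, hbdd, fun p q => ?_⟩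
  obtain ⟨e⟩ := hE p q
  by_cases hpq : 0 ≤ p ∧ 0 ≤ q
  · rw [if_pos hpq] at e ⊢
    obtain ⟨e'⟩ := ext_iso_H (isLocalHomeomorph_bs f p.toNat hf) F q.toNat
    exact ⟨e ≪≫ extIsoLeft (aIso f p.toNat) F q.toNat ≪≫ e'⟩
  · rw [if_neg hpq] at e ⊢
    exact ⟨e⟩

end Groth.Agent.S8572
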