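import Groth.Statements.S8607
-- import your own Groth.Agent.* helpers here

set_option autoImplicit false
universe u
open CategoryTheory CategoryTheory.Limits AlgebraicGeometry Opposite

namespace Groth.Agent.S8607

/-- The equalizing half of 'the category of compactifications of f is cofiltering': let f : X -> Y be a
morphism of quasi-compact quasi-separated schemes, (Xbar_1, j_1, fbar_1) and (Xbar_2, j_2, fbar_2)
two compactifications of f, and r, s : Xbar_1 -> Xbar_2 two morphisms of compactifications (r ∘ j_1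
= j_2 = s ∘ j_1 and fbar_2 ∘ r = fbar_1 = fbar_2 ∘ s). Then there are a compactification (Xbar, j,
fbar) of f and a proper morphism t : Xbar -> Xbar_1 of compactifications (t ∘ j = j_1, fbar_1 ∘ t =
fbar) with r ∘ t = s ∘ t. -/
theorem result {X Y : Scheme.{u}} [CompactSpace ↥X] [QuasiSeparatedSpace ↥X]
    [CompactSpace ↥Y] [QuasiSeparatedSpace ↥Y] {f : X ⟶ Y} (c₁ c₂ : DEt.Compactification f)
    (r s : c₁.Xbar ⟶ c₂.Xbar) (hr : c₁.j ≫ r = c₂.j) (hs : c₁.j ≫ s = c₂.j)
    (hr' : r ≫ c₂.fbar = c₁.fbar) (hs' : s ≫ c₂.fbar = c₁.fbar) :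
    ∃ (c : DEt.Compactification f) (t : c.Xbar ⟶ c₁.Xbar), IsProper t ∧ c.j ≫ t = c₁.j ∧ t ≫ c₁.fbar = c.fbar ∧
      t ≫ r = t ≫ s := by
  -- work in `Over Y`
  let X₁ : Over Y := Over.mk c₁.fbar
  let X₂ : Over Y := Over.mk c₂.fbar
  let r' : X₁ ⟶ X₂ := Over.homMk r hr'
  let s' : X₁ ⟶ X₂ := Over.homMk s hs'
  have : IsSeparated X₂.hom := by
    change IsSeparated c₂.fbar
    infer_instance
  let ι : (equalizer r' s').left ⟶ c₁.Xbar := (equalizer.ι r' s').left
  have hι : IsClosedImmersion ι := isClosedImmersion_equalizer_ι_left r' s'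
  -- the lift of `j₁`
  let j₁' : Over.mk f ⟶ X₁ := Over.homMk c₁.j c₁.fac
  have hj₁' : j₁' ≫ r' = j₁' ≫ s' := by
    ext
    change c₁.j ≫ r = c₁.j ≫ s
    rw [hr, hs]
  let j : X ⟶ (equalizer r' s').left := (equalizer.lift j₁' hj₁').left
  have hjι : j ≫ ι = c₁.j := by
    have := congrArg CommaMorphism.left (equalizer.lift_ι j₁' hj₁')
    exact this
  have : IsOpenImmersion (j ≫ ι) := by rw [hjι]; infer_instance
  have : IsOpenImmersion j :=
    MorphismProperty.of_postcomp (W := @IsOpenImmersion) (W' := MorphismProperty.monomorphisms Scheme.{u})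
      j ι (MorphismProperty.monomorphisms.infer_property ι) inferInstance
  have hfac : j ≫ (ι ≫ c₁.fbar) = f := by
    rw [← Category.assoc, hjι, c₁.fac]
  refine ⟨⟨(equalizer r' s').left, j, ι ≫ c₁.fbar, inferInstance, inferInstance, hfac⟩, ι, inferInstance,
    hjι, rfl, ?_⟩
  have := congrArg CommaMorphism.left (equalizer.condition r' s')
  exact this

end Groth.Agent.S8607
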