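import Groth.Statements.S8656
import Groth.Agent.Lib.Seat40SmoothIff
import Groth.Agent.Lib.Seat7RegImmDescent

set_option autoImplicit false
universe u
open CategoryTheory CategoryTheory.Limits AlgebraicGeometry
open Synt

namespace Groth.Agent.S8656

/-- Let f : X ⟶ Y be a local complete intersection morphism in the factorisation sense: every point of X
has an open neighbourhood on which f is locally of finite type and factors as a Koszul-regular
immersion followed by a smooth morphism. Let p : Z ⟶ Y be smooth and i : X ⟶ Z an immersion with i ≫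
p = f. Then i is a Koszul-regular immersion. -/
theorem result {X Y Z : Scheme.{u}} (f : X ⟶ Y) (hf : ∀ x : X, Synt.IsKoszulAt f x)
    (p : Z ⟶ Y) [Smooth p] (i : X ⟶ Z) [IsImmersion i] (h : i ≫ p = f) :
    RegImm.IsRegularImmersion .koszul i := by
  open Groth.Agent.Lib.Seat31.LciHom in
  apply Groth.Agent.Lib.Seat7.RegImmDescent.isRegularImmersion_of_lciM i
  choose U P i' π hxU hft hreg hsm hfac using hf
  have hU : iSup U = ⊤ := by
    rw [eq_top_iff]
    rintro x -
    simp only [TopologicalSpace.Opens.mem_iSup]
    exact ⟨x, hxU x⟩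
  rw [IsZariskiLocalAtSource.iff_of_iSup_eq_top (P := LciM) U hU]
  intro x
  apply lciM_of_regImm
  have := hsm x
  let k : ((U x : X.Opens) : Scheme.{u}) ⟶ pullback p (π x) :=
    pullback.lift ((U x).ι ≫ i) (i' x) (by rw [Category.assoc, h, hfac x])
  have hfst : k ≫ pullback.fst p (π x) = (U x).ι ≫ i := pullback.lift_fst _ _ _
  have hsnd : k ≫ pullback.snd p (π x) = i' x := pullback.lift_snd _ _ _
  have : IsImmersion (i' x) := (hreg x).1
  have : IsImmersion (k ≫ pullback.fst p (π x)) := by rw [hfst]; infer_instance
  have : IsImmersion (k ≫ pullback.snd p (π x)) := by rw [hsnd]; infer_instance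
  have : IsImmersion k := IsImmersion.of_comp k (pullback.fst p (π x))
  have hk : RegImm.IsRegularImmersion .koszul k :=
    (Groth.Agent.Lib.Seat40.SmoothIff.regularImmersion_iff (pullback.snd p (π x)) k).1
      (by rw [hsnd]; exact hreg x)
  have := Groth.Agent.Lib.Seat40.SmoothIff.regularImmersion_comp (pullback.fst p (π x)) k hk
  rwa [hfst] at this

end Groth.Agent.S8656
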