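-- Statement S8663.
import Groth.Statements.S8663
import Groth.Agent.S7172
import Groth.Agent.Lib.Seat0PerfMor
import Groth.Agent.Lib.Seat31LciPerf

set_option autoImplicit false
universe u
open CategoryTheory CategoryTheory.Limits AlgebraicGeometry
open Synt

namespace Groth.Agent.S8663

open Groth.Agent.Lib.Seat0.PerfMor Groth.Agent.Lib.Seat0.PerfHom

attribute [local instance] HasDerivedCategory.standard in
/-- a Koszul-regular immersion is a perfect morphism -/
theorem perfM_of_regImm {Z X : Scheme.{u}} (i : Z ⟶ X)
    (h : RegImm.IsRegularImmersion .koszul i) : PerfM i := by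
  rw [perfM_iff_exists]
  intro z
  obtain ⟨W, hzW, hcl, rs, hrs, hker⟩ := h.2 z
  have : IsAffine (W.1 : Scheme.{u}) := W.2
  have haff : IsAffineOpen (i ⁻¹ᵁ W.1) := by
    have : IsAffineHom (i ∣_ W.1) := inferInstance
    exact isAffine_of_isAffineHom (i ∣_ W.1)
  refine ⟨W, ⟨i ⁻¹ᵁ W.1, haff⟩, hzW, le_rfl, ?_⟩
  have hsurj : Function.Surjective (i.app W.1).hom := by
    have h1 : Function.Surjective ((i ∣_ W.1).app ⊤).hom :=
      Scheme.Hom.app_surjective (i ∣_ W.1) ⊤ (isAffineOpen_top _)
    have h1' := (congrArg (fun φ => Function.Surjective φ.hom) (morphismRestrict_app i W.1 ⊤)).mp h1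
    have h1'' : Function.Surjective
        ((Z.presheaf.map (eqToHom (image_morphismRestrict_preimage i W.1 ⊤)).op).hom ∘
          (i.app (W.1.ι ''ᵁ ⊤)).hom) := h1'
    have h3 : Function.Surjective (i.app (W.1.ι ''ᵁ ⊤)).hom :=
      Function.Surjective.of_comp_left h1'' (ConcreteCategory.bijective_of_isIso
        (Z.presheaf.map (eqToHom (image_morphismRestrict_preimage i W.1 ⊤)).op)).1
    have h4 : ∀ (W' : X.Opens), W' = W.1 → Function.Surjective (i.app W').hom →
        Function.Surjective (i.app W.1).hom := by
      rintro W' rfl hs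
      exact hs
    exact h4 _ (Scheme.Opens.ι_image_top W.1) h3
  rw [← Scheme.Hom.app_eq_appLE]
  letI := (i.app W.1).hom.toAlgebra
  exact Groth.Agent.Lib.Seat31.LciPerf.perfH_of_koszulRegular hsurj rs hker hrs

/-- Let f : X ⟶ Y be a local complete intersection morphism in the factorisation sense (around each
point of X, f is locally of finite type and factors as a Koszul-regular immersion followed by a
smooth morphism). Then f is a perfect morphism: for all affine opens U ⊆ f⁻¹(V), the ring map O_Y(V)
→ O_X(U) is pseudo-coherent and of finite tor-dimension. -/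
theorem result {X Y : Scheme.{u}} (f : X ⟶ Y) (hf : ∀ x : X, Synt.IsKoszulAt f x) :
    MoreMor.IsPerfectMor f := by
  rw [isPerfectMor_iff]
  choose U P i π hxU hft hreg hsm hfac using hf
  have hU : iSup U = ⊤ := by
    rw [eq_top_iff]
    rintro x -
    simp only [TopologicalSpace.Opens.mem_iSup]
    exact ⟨x, hxU x⟩
  rw [IsZariskiLocalAtSource.iff_of_iSup_eq_top (P := PerfM) U hU]
  intro x
  rw [← hfac x]
  refine perfM_comp (perfM_of_regImm _ (hreg x)) ?_
  have := hsm x
  exact (isPerfectMor_iff _).1 (Groth.Agent.S7172.result (π x))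

end Groth.Agent.S8663
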