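import Groth.Statements.S8695
import Groth.Agent.Lib.Seat70LamDiv

set_option autoImplicit false
universe u v
open Finset nonZeroDivisors
open LambdaRing

namespace Groth.Agent.S8695

/-- In the case where λ_{−1}(N) is a non-zero-divisor: let K be a binomial ring with its binomial
λ-structure, A a λ-ring in the strict sense which is an augmented K-λ-algebra with augmentation ε,
and Fil^n A the γ-filtration (the ideal generated by products of γ^{i}(z) with ε(z) = 0 of total
weight ≥ n; all of A for n = 0). Let d ≥ 1 and N ∈ A be of rank d, that is λ^k(N) = 0 for all k > d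
and ε(N) = d; put λ_{−1}(N) = Σ_{i ≤ d} (−1)^i λ^i(N), and suppose λ_{−1}(N) is a non-zero-divisor.
Then for p ≥ 1 and x ∈ A, the unique y with y · λ_{−1}(N) = γ^p(x · λ_{−1}(N)) — when it exists —
lies in Fil^{p−d} A. (The published statement is γ^p(N, x) ∈ Fil^{p−d} A for the element γ^p(N, x)
defined by substitution from the universal λ-ring, where it is characterised by γ^p(N, x) ·
λ_{−1}(N) = γ^p(x · λ_{−1}(N)); this row covers the case in which that identity determines the
element, λ_{−1}(N) being a non-zero-divisor. The published statement also omits the condition ε(N) =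
d, which its proof uses when it maps the universal generator to N − d compatibly with the
augmentations; without it N = 0, d = 1, x = 1, p = 2 in the integers gives γ^2(1) = 1 outside Fil^1
= 0, so ε(N) = d is assumed here, as is the standing assumption d ≥ 1.) The hypotheses hP and hQ,
existence of the universal polynomials, are true statements carried so that the identities of A can
be used at every index. -/
theorem result
    (K : Type u) [CommRing K] [LambdaRing.LambdaOps K] [BinomialRing K] (hKb : LambdaRing.IsBinomial K)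
    (hK : LambdaRing.IsSpecial K)
    (A : Type v) [CommRing A] [LambdaRing.LambdaOps A] [Algebra K A] (hA : LambdaRing.IsSpecial A)
    (hP : ∀ n : ℕ, ∃ P : MvPolynomial (Fin n ⊕ Fin n) ℤ, LambdaRing.IsMulPoly n P)
    (hQ : ∀ i j : ℕ, ∃ Q : MvPolynomial (Fin (i * j)) ℤ, LambdaRing.IsCompPoly i j Q)
    (ε : A →ₐ[K] K) (hε : LambdaRing.IsAugLambdaAlg K A ε)
    (d : ℕ) (hd : 1 ≤ d) (N : A) (hN : ∀ k : ℕ, d < k → LambdaRing.LambdaOps.lam k N = 0) (hNε : ε N = (d : K))
    (hnzd : (∑ j ∈ range (d + 1), (-1 : A) ^ j * LambdaRing.LambdaOps.lam j N) ∈ A⁰)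
    (p : ℕ) (hp : 1 ≤ p) (x y : A)
    (hy : y * (∑ j ∈ range (d + 1), (-1 : A) ^ j * LambdaRing.LambdaOps.lam j N) = LambdaRing.gamma p (x * (∑ j ∈ range (d + 1), (-1 : A) ^ j * LambdaRing.LambdaOps.lam j N))) :
    y ∈ LambdaRing.gammaFil (ε : A →+* K) (p - d) := by
  classical
  have h1 : ∀ k : ℕ, 2 ≤ k → LambdaOps.lam k (1 : A) = 0 := hA.lam_one_eq_zero
  set L : A := ∑ j ∈ range (d + 1), (-1 : A) ^ j * LambdaOps.lam j N with hL
  set n : A := N - (d : A) with hn
  have hεn : (ε : A →+* K) n = 0 := by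
    rw [hn, map_sub, map_natCast]
    change ε N - _ = 0
    rw [hNε, sub_self]
  have hvan : ∀ k, d < k → gamma k n = 0 :=
    Groth.Agent.Lib.Seat70.LamDiv.gamma_rank_eq_zero h1 N d hN
  have htop : gamma d n = (-1 : A) ^ d * L :=
    Groth.Agent.Lib.Seat70.LamDiv.gamma_rank_top h1 N d hN
  set z : A := gamma d n with hz
  have hsq : ((-1 : A) ^ d) * ((-1 : A) ^ d) = 1 := by
    rw [← mul_pow]; simp
  have hLz : L = (-1 : A) ^ d * z := by
    rw [htop, ← mul_assoc, hsq, one_mul]
  have hzFil : z ∈ gammaFil (ε : A →+* K) d :=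
    Groth.Agent.Lib.Seat56.LamFil.gamma_mem_gammaFil _ hεn d
  -- split `x`
  set c : K := (-1 : K) ^ d * ε x with hc
  set x₂ : A := (-1 : A) ^ d * (x - algebraMap K A (ε x)) with hx₂
  have hεx₂ : (ε : A →+* K) x₂ = 0 := by
    rw [hx₂, map_mul, map_sub]
    change _ * (ε x - ε (algebraMap K A (ε x))) = 0
    rw [ε.commutes]
    simp
  have hxL : x * L = algebraMap K A c * z + x₂ * z := by
    rw [hLz, hc, hx₂, map_mul, map_pow, map_neg, map_one]
    ring
  -- the family `(n, x₂)`
  let fam : ULift.{v} Bool → A := fun s => if s.down = true then n else x₂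
  have hfam : ∀ s, (ε : A →+* K) (fam s) = 0 := by
    intro s
    by_cases h : s.down = true
    · simp only [fam, h, if_true]; exact hεn
    · simp only [fam, h]; exact hεx₂
  have hfam0 : fam (ULift.up true) = n := by simp [fam]
  have hfam1 : fam (ULift.up false) = x₂ := by simp [fam]
  have hvan' : ∀ k, d < k → gamma k (fam (ULift.up true)) = 0 := by
    rw [hfam0]; exact hvan
  have hJ0 := Groth.Agent.Lib.Seat70.LamDiv.Jz_zero (ε : A →+* K) z d
  have hJmul := Groth.Agent.Lib.Seat70.LamDiv.Jz_mul (ε : A →+* K) hzFil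
  -- Claim B
  have hB : Groth.Agent.Lib.Seat56.LamFil.JGood (Groth.Agent.Lib.Seat70.LamDiv.Jz (ε : A →+* K) z d)
      (Groth.Agent.Lib.Helper4.gammaSeries z) := by
    intro a
    rw [Groth.Agent.Lib.Helper4.coeff_gammaSeries]
    rcases Nat.eq_zero_or_pos a with ha | ha
    · subst ha; rw [hJ0]; trivial
    · rw [Groth.Agent.Lib.Seat70.LamDiv.Jz_of_pos _ z d ha]
      have := Groth.Agent.Lib.Seat70.LamDiv.gamma_mul_mem (ε : A →+* K) hA hP hQ fam hfam
        (ULift.up true) d hd hvan' 1 a ha
      rwa [map_one, one_mul, hfam0] at this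
  -- Claim A
  have hA' : Groth.Agent.Lib.Seat56.LamFil.JGood (Groth.Agent.Lib.Seat70.LamDiv.Jz (ε : A →+* K) z d)
      (Groth.Agent.Lib.Helper4.gammaSeries (x₂ * z)) := by
    intro a
    rw [Groth.Agent.Lib.Helper4.coeff_gammaSeries]
    rcases Nat.eq_zero_or_pos a with ha | ha
    · subst ha; rw [hJ0]; trivial
    · rw [Groth.Agent.Lib.Seat70.LamDiv.Jz_of_pos _ z d ha]
      have := Groth.Agent.Lib.Seat70.LamDiv.gamma_mul_mem (ε : A →+* K) hA hP hQ fam hfam
        (ULift.up true) d hd hvan' (MvPolynomial.X (ULift.up false, 0)) a ha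
      rwa [Groth.Agent.Lib.Seat56.LamOps.evG_X, hfam0, hfam1,
        Groth.Agent.Lib.Seat56.LamGr.gamma_one_eq] at this
  have hC := Groth.Agent.Lib.Seat56.LamFil.jgood_binom hKb hA hε.isLambdaAlg hP hJ0 hJmul c hB
  have hsum : Groth.Agent.Lib.Seat56.LamFil.JGood
      (Groth.Agent.Lib.Seat70.LamDiv.Jz (ε : A →+* K) z d)
      (Groth.Agent.Lib.Helper4.gammaSeries (x * L)) := by
    rw [hxL, Groth.Agent.Lib.Helper4.gammaSeries_add]
    exact Groth.Agent.Lib.Seat56.LamFil.jgood_mul hJmul hC hA'
  have hmem := hsum p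
  rw [Groth.Agent.Lib.Helper4.coeff_gammaSeries,
    Groth.Agent.Lib.Seat70.LamDiv.Jz_of_pos _ z d hp, Ideal.mem_span_singleton_mul] at hmem
  obtain ⟨w, hw, hzw⟩ := hmem
  have hyw : y = (-1 : A) ^ d * w := by
    have h0 : (y - (-1 : A) ^ d * w) * L = 0 := by
      have hzL : z = (-1 : A) ^ d * L := htop
      rw [sub_mul, hy, ← hzw, hzL]
      ring
    have := (mem_nonZeroDivisors_iff_right.mp hnzd) _ h0
    exact sub_eq_zero.mp this
  rw [hyw]
  exact Ideal.mul_mem_left _ _ hw

end Groth.Agent.S8695
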