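import Groth.Statements.S8697
import Groth.Agent.Lib.Seat56LamFil

set_option autoImplicit false
universe u v
open Finset
open LambdaRing
open Groth.Agent.Lib.Seat56

namespace Groth.Agent.S8697

/-- Let K be a binomial ring with its binomial λ-structure and B a λ-ring in the strict sense which is
an augmented K-λ-algebra with augmentation ε. Let x ∈ B satisfy ε(x) = 0 and γ^k(x) = 0 for every k
> n, and assume that γ^1(x), …, γ^n(x) are algebraically independent over K and generate B as a
K-algebra — so B is the K-λ-algebra generated by one element subject to the relations γ^k = 0 for k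
> n, a polynomial ring K[γ^1 x, …, γ^n x]. Then for every k, the k-th ideal Fil^k B of the
γ-filtration (generated by the products of γ^{i}(z), ε(z) = 0, of total weight ≥ k) is the ideal
generated by the monomials ∏_j (γ^j x)^{e_j} with Σ_j j·e_j ≥ k: the λ-ring filtration is the
filtration by the weight in the γ^j x. (With λ in place of γ — relations λ^k x = 0 for k > n and
weights in the λ^j x — the assertion fails already for n = 1, where γ^i(x) = x for all i ≥ 1 puts x
in every Fil^k while x is not in the ideal (x²); the form with γ stated here is the one the proof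
establishes.) The hypotheses hP and hQ, existence of the universal polynomials, are true statements
carried so that the identities of B can be used at every index. -/
theorem result
    (K : Type u) [CommRing K] [LambdaRing.LambdaOps K] [BinomialRing K] (hKb : LambdaRing.IsBinomial K)
    (hK : LambdaRing.IsSpecial K)
    (B : Type v) [CommRing B] [LambdaRing.LambdaOps B] [Algebra K B] (hB : LambdaRing.IsSpecial B)
    (hP : ∀ n : ℕ, ∃ P : MvPolynomial (Fin n ⊕ Fin n) ℤ, LambdaRing.IsMulPoly n P)
    (hQ : ∀ i j : ℕ, ∃ Q : MvPolynomial (Fin (i * j)) ℤ, LambdaRing.IsCompPoly i j Q)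
    (ε : B →ₐ[K] K) (hε : LambdaRing.IsAugLambdaAlg K B ε)
    (n : ℕ) (x : B) (hx : ε x = 0) (hγ : ∀ k : ℕ, n < k → LambdaRing.gamma k x = 0)
    (hind : AlgebraicIndependent K (fun j : Fin n => LambdaRing.gamma ((j : ℕ) + 1) x))
    (hgen : Algebra.adjoin K (Set.range fun j : Fin n => LambdaRing.gamma ((j : ℕ) + 1) x) = ⊤)
    (k : ℕ) :
    LambdaRing.gammaFil (ε : B →+* K) k =
      Ideal.span {m : B | ∃ e : Fin n → ℕ, k ≤ ∑ j : Fin n, ((j : ℕ) + 1) * e j ∧
        m = ∏ j : Fin n, LambdaRing.gamma ((j : ℕ) + 1) x ^ e j} := by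
  classical
  -- notation
  set εr : B →+* K := (ε : B →+* K) with hεr
  set g : Fin n → B := fun j => LambdaRing.gamma ((j : ℕ) + 1) x with hg
  set J : ℕ → Ideal B := fun k => Ideal.span {m : B | ∃ e : Fin n → ℕ,
    k ≤ ∑ j : Fin n, ((j : ℕ) + 1) * e j ∧ m = ∏ j : Fin n, g j ^ e j} with hJ
  have hxr : εr x = 0 := hx
  have hεgamma : ∀ (k : ℕ) (a : B), εr (LambdaRing.gamma k a) = LambdaRing.gamma k (εr a) :=
    fun k a => LamFil.map_gamma_of_map_lam εr (fun m b => hε.map_lam m b) k a
  -- properties of `J`
  have hJ0 : J 0 = ⊤ := by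
    rw [Ideal.eq_top_iff_one]
    exact Ideal.subset_span ⟨fun _ => 0, Nat.zero_le _, by simp⟩
  have hJanti : ∀ i j, i ≤ j → J j ≤ J i := by
    intro i j hij
    apply Ideal.span_mono
    rintro m ⟨e, he, rfl⟩
    exact ⟨e, hij.trans he, rfl⟩
  have hJmul : ∀ i j, J i * J j ≤ J (i + j) := by
    intro i j
    rw [hJ, Ideal.span_mul_span']
    apply Ideal.span_mono
    rintro m ⟨a, ⟨e, he, rfl⟩, b, ⟨e', he', rfl⟩, rfl⟩
    refine ⟨fun t => e t + e' t, ?_, ?_⟩
    · have : ∑ t : Fin n, ((t : ℕ) + 1) * (e t + e' t) =
          ∑ t : Fin n, ((t : ℕ) + 1) * e t + ∑ t : Fin n, ((t : ℕ) + 1) * e' t := by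
        rw [← sum_add_distrib]
        exact sum_congr rfl fun t _ => by ring
      change i + j ≤ ∑ t : Fin n, ((t : ℕ) + 1) * (e t + e' t)
      omega
    · simp only
      rw [← prod_mul_distrib]
      exact prod_congr rfl fun t _ => by rw [pow_add]
  -- evaluation of operation polynomials in one variable
  have hE : ∀ (β : ℕ) (F : LamOps.U PUnit.{v + 1}), LamSym.InW β F →
      LamOps.evG (fun _ : PUnit.{v + 1} => x) F ∈ J β := by
    intro β F hF
    rw [← MvPolynomial.support_sum_monomial_coeff F, map_sum]
    apply Ideal.sum_mem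
    intro ν hν
    rw [LamOps.evG, MvPolynomial.aeval_monomial]
    apply Ideal.mul_mem_left
    have h1 : (ν.prod fun p k => LambdaRing.gamma (p.2 + 1) x ^ k) =
        ∏ p ∈ ν.support, LambdaRing.gamma (p.2 + 1) x ^ ν p := rfl
    rw [h1]
    by_cases hbig : ∃ p ∈ ν.support, n ≤ p.2
    · obtain ⟨p, hp, hpn⟩ := hbig
      rw [prod_eq_zero hp]
      · exact (J β).zero_mem
      · rw [hγ (p.2 + 1) (by omega)]
        exact zero_pow (Finsupp.mem_support_iff.mp hp)
    · push Not at hbig
      set emb : Fin n ↪ PUnit.{v + 1} × ℕ := ⟨fun j => (PUnit.unit, (j : ℕ)), fun a b hab => by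
        apply Fin.ext
        exact congrArg Prod.snd hab⟩ with hemb
      have hsub : ν.support ⊆ (univ : Finset (Fin n)).map emb := by
        intro p hp
        rw [mem_map]
        exact ⟨⟨p.2, hbig p hp⟩, mem_univ _, rfl⟩
      have hprod : ∏ p ∈ ν.support, LambdaRing.gamma (p.2 + 1) x ^ ν p =
          ∏ j : Fin n, g j ^ ν (PUnit.unit, (j : ℕ)) := by
        rw [prod_subset hsub, prod_map]
        · rfl
        · intro p _ hp
          rw [Finsupp.notMem_support_iff.mp hp, pow_zero]
      have hsum : Finsupp.weight (LamSym.wfun (ι := PUnit.{v + 1})) ν =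
          ∑ j : Fin n, ((j : ℕ) + 1) * ν (PUnit.unit, (j : ℕ)) := by
        rw [Finsupp.weight_apply, Finsupp.sum, sum_subset hsub, sum_map]
        · apply sum_congr rfl
          intro j _
          rw [smul_eq_mul, mul_comm]
          rfl
        · intro p _ hp
          rw [Finsupp.notMem_support_iff.mp hp, zero_smul]
      rw [hprod]
      refine Ideal.subset_span ⟨fun j => ν (PUnit.unit, (j : ℕ)), ?_, rfl⟩
      rw [← hsum]
      exact hF ν hν
  -- the two inclusions
  apply le_antisymm
  · -- `⊆`
    apply LamFil.gammaFil_le_of_gamma_mem εr hJ0 hJmul hJanti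
    intro z hz
    have hzmem : z ∈ Algebra.adjoin K (Set.range g) := by rw [hgen]; trivial
    rw [Algebra.adjoin_range_eq_range_aeval] at hzmem
    obtain ⟨q, rfl⟩ := hzmem
    -- the constant coefficient vanishes
    have hεg : ∀ j, ε (g j) = 0 := by
      intro j
      have := hεgamma ((j : ℕ) + 1) x
      rw [hxr, LamFil.gamma_zero_arg _ (by omega)] at this
      exact this
    have hconst : MvPolynomial.constantCoeff q = 0 := by
      have h1 : ε (MvPolynomial.aeval g q) = MvPolynomial.aeval (fun j => ε (g j)) q := by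
        rw [← AlgHom.comp_apply, MvPolynomial.comp_aeval]
      have h2 : (fun j => ε (g j)) = (0 : Fin n → K) := by funext j; exact hεg j
      rw [h2, MvPolynomial.aeval_zero] at h1
      have : εr (MvPolynomial.aeval g q) = 0 := hz
      rw [hεr] at this
      change ε (MvPolynomial.aeval g q) = 0 at this
      rw [h1] at this
      simpa using this
    -- decompose into monomials
    have hdecomp : MvPolynomial.aeval g q = ∑ μ ∈ q.support,
        algebraMap K B (MvPolynomial.coeff μ q) * ∏ j ∈ μ.support, g j ^ μ j := by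
      conv_lhs => rw [← MvPolynomial.support_sum_monomial_coeff q]
      rw [map_sum]
      apply sum_congr rfl
      intro μ _
      rw [MvPolynomial.aeval_monomial]
      rfl
    have hgood : LamFil.JGood J (Groth.Agent.Lib.Helper4.gammaSeries (MvPolynomial.aeval g q)) := by
      rw [hdecomp, Groth.Agent.Lib.Helper4.gammaSeries_sum]
      apply LamFil.jgood_prod hJ0 hJmul
      intro μ hμ
      by_cases hμ0 : μ = 0
      · subst hμ0
        have : MvPolynomial.coeff 0 q = 0 := hconst
        rw [this, map_zero, zero_mul, Groth.Agent.Lib.Helper4.gammaSeries_zero]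
        exact LamFil.jgood_one hJ0
      · apply LamFil.jgood_binom hKb hB hε.isLambdaAlg hP hJ0 hJmul
        -- the monomial as an operation polynomial
        set M : LamOps.U PUnit.{v + 1} :=
          ∏ j ∈ μ.support, (MvPolynomial.X (PUnit.unit, (j : ℕ)) : LamOps.U PUnit.{v + 1}) ^ μ j
          with hM
        have hMev : LamOps.evG (fun _ : PUnit.{v + 1} => x) M = ∏ j ∈ μ.support, g j ^ μ j := by
          rw [hM, map_prod]
          apply prod_congr rfl
          intro j _
          rw [map_pow, LamOps.evG_X]
        have hMc : MvPolynomial.constantCoeff M = 0 := by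
          obtain ⟨j, hj⟩ : ∃ j, j ∈ μ.support := by
            by_contra hne
            push Not at hne
            exact hμ0 (Finsupp.support_eq_empty.mp (Finset.eq_empty_of_forall_notMem hne))
          rw [hM, map_prod]
          apply prod_eq_zero hj
          rw [map_pow, MvPolynomial.constantCoeff_X]
          exact zero_pow (Finsupp.mem_support_iff.mp hj)
        intro β
        obtain ⟨G, hGW, hG⟩ := LamUniv.exists_repG_inW.{v} hP hQ M hMc β
        rw [Groth.Agent.Lib.Helper4.coeff_gammaSeries, ← hMev,
          hG B hB (fun _ : PUnit.{v + 1} => x)]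
        exact hE β G hGW
    intro i
    have := hgood i
    rwa [Groth.Agent.Lib.Helper4.coeff_gammaSeries] at this
  · -- `⊇`
    rw [Ideal.span_le]
    rintro m ⟨e, he, rfl⟩
    refine LamFil.gammaFil_anti εr he ?_
    apply LamFil.prod_mem_gammaFil
    intro j _
    exact LamFil.pow_mem_gammaFil εr (LamFil.gamma_mem_gammaFil εr hxr _) _

end Groth.Agent.S8697
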