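import Groth.Statements.S8698
import Groth.Agent.Lib.Seat56LamFil

set_option autoImplicit false
universe u v w
open Finset
open LambdaRing
open Groth.Agent.Lib.Seat56

namespace Groth.Agent.S8698

/-- Let K be a binomial ring with its binomial λ-structure, A a λ-ring in the strict sense which is an
augmented K-λ-algebra with augmentation ε_A, and B a λ-ring in the strict sense which is at once an
augmented K-λ-algebra with augmentation ε_B and an A-algebra compatibly with the K-structures, the
structure map A → B commuting with the λ^n and ε_B restricting to ε_A on A. Let x ∈ B with ε_B(x) =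
0, and assume that the family (γ^{j+1} x)_{j ∈ ℕ} is algebraically independent over A and generates
B as an A-algebra: B is the free λ-ring A[X, γ^2 X, γ^3 X, …] on one generator over A, augmented by
X ↦ 0. Then for every k the k-th ideal Fil^k B of the γ-filtration of B is the ideal generated by
the products a · m where m = ∏_j (γ^{j+1} x)^{e_j} is a monomial of weight i = Σ_j (j+1) e_j and a
lies in (the image of) Fil^{k−i} A, with Fil^s A = A for s ≤ 0; that is, Fil^k B = Fil^k A +
Fil^{k−1} A·M_1 + ⋯ + Fil^0 A·M_k + (monomials of weight > k), M_i denoting the monomials of weight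
i. The hypotheses hP and hQ, existence of the universal polynomials, are true statements carried so
that the identities of A and B can be used at every index. -/
theorem result
    (K : Type u) [CommRing K] [LambdaRing.LambdaOps K] [BinomialRing K] (hKb : LambdaRing.IsBinomial K)
    (hK : LambdaRing.IsSpecial K)
    (A : Type v) [CommRing A] [LambdaRing.LambdaOps A] [Algebra K A] (hA : LambdaRing.IsSpecial A)
    (εA : A →ₐ[K] K) (hεA : LambdaRing.IsAugLambdaAlg K A εA)
    (B : Type w) [CommRing B] [LambdaRing.LambdaOps B] [Algebra K B] [Algebra A B] [IsScalarTower K A B]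
    (hB : LambdaRing.IsSpecial B) (hAB : LambdaRing.IsLambdaAlg A B)
    (εB : B →ₐ[K] K) (hεB : LambdaRing.IsAugLambdaAlg K B εB) (hεAB : ∀ a : A, εB (algebraMap A B a) = εA a)
    (hP : ∀ n : ℕ, ∃ P : MvPolynomial (Fin n ⊕ Fin n) ℤ, LambdaRing.IsMulPoly n P)
    (hQ : ∀ i j : ℕ, ∃ Q : MvPolynomial (Fin (i * j)) ℤ, LambdaRing.IsCompPoly i j Q)
    (x : B) (hx : εB x = 0)
    (hind : AlgebraicIndependent A (fun j : ℕ => LambdaRing.gamma (j + 1) x))
    (hgen : Algebra.adjoin A (Set.range fun j : ℕ => LambdaRing.gamma (j + 1) x) = ⊤)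
    (k : ℕ) :
    LambdaRing.gammaFil (εB : B →+* K) k =
      Ideal.span {b : B | ∃ (e : ℕ →₀ ℕ) (a : A),
        a ∈ LambdaRing.gammaFil (εA : A →+* K) (k - e.sum fun j n => (j + 1) * n) ∧
        b = algebraMap A B a * e.prod fun j n => LambdaRing.gamma (j + 1) x ^ n} := by
  classical
  -- notation
  set εAr : A →+* K := (εA : A →+* K) with hεAr
  set εBr : B →+* K := (εB : B →+* K) with hεBr
  set g : ℕ → B := fun j => LambdaRing.gamma (j + 1) x with hg
  set wt : (ℕ →₀ ℕ) → ℕ := fun e => e.sum fun j n => (j + 1) * n with hwt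
  set mon : (ℕ →₀ ℕ) → B := fun e => e.prod fun j n => g j ^ n with hmon
  set J : ℕ → Ideal B := fun k => Ideal.span {b : B | ∃ (e : ℕ →₀ ℕ) (a : A),
    a ∈ LambdaRing.gammaFil εAr (k - wt e) ∧ b = algebraMap A B a * mon e} with hJ
  change LambdaRing.gammaFil εBr k = J k
  have hxr : εBr x = 0 := hx
  have hgamB : ∀ (k : ℕ) (b : B), εBr (LambdaRing.gamma k b) = LambdaRing.gamma k (εBr b) :=
    fun k b => LamFil.map_gamma_of_map_lam εBr (fun m b => hεB.map_lam m b) k b
  have hεg : ∀ j, εBr (g j) = 0 := by
    intro j
    have := hgamB (j + 1) x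
    rwa [hxr, LamFil.gamma_zero_arg _ (by omega)] at this
  have halg_gamma : ∀ (k : ℕ) (a : A),
      algebraMap A B (LambdaRing.gamma k a) = LambdaRing.gamma k (algebraMap A B a) :=
    fun k a => LamFil.map_gamma_of_map_lam (algebraMap A B) (fun m b => hAB m b) k a
  have hmap : ∀ (i : ℕ) (a : A), a ∈ LambdaRing.gammaFil εAr i →
      algebraMap A B a ∈ LambdaRing.gammaFil εBr i := by
    intro i a ha
    refine LamFil.map_mem_gammaFil εAr εBr (algebraMap A B) halg_gamma ?_ ha
    intro a' ha'
    change εB (algebraMap A B a') = 0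
    rw [hεAB]
    exact ha'
  have hwt0 : wt 0 = 0 := by simp [hwt]
  have hmon0 : mon 0 = 1 := by simp [hmon]
  have hwt_add : ∀ e e' : ℕ →₀ ℕ, wt (e + e') = wt e + wt e' := by
    intro e e'
    simp only [hwt]
    rw [Finsupp.sum_add_index']
    · intro j; simp
    · intro j a b; ring
  have hmon_add : ∀ e e' : ℕ →₀ ℕ, mon (e + e') = mon e * mon e' := by
    intro e e'
    simp only [hmon]
    rw [Finsupp.prod_add_index']
    · intro j; simp
    · intro j a b; rw [pow_add]
  have hgamma_one : ∀ y : B, LambdaRing.gamma 1 y = y := by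
    intro y
    simp [LambdaRing.gamma, Finset.sum_range_succ, LambdaRing.LambdaOps.lam_one]
  -- properties of `J`
  have hJ0 : J 0 = ⊤ := by
    rw [Ideal.eq_top_iff_one]
    refine Ideal.subset_span ⟨0, 1, ?_, ?_⟩
    · rw [hwt0, Nat.sub_zero, LamFil.gammaFil_zero]; trivial
    · rw [map_one, hmon0, mul_one]
  have hJanti : ∀ i j, i ≤ j → J j ≤ J i := by
    intro i j hij
    apply Ideal.span_mono
    rintro m ⟨e, a, ha, rfl⟩
    exact ⟨e, a, LamFil.gammaFil_anti εAr (by omega) ha, rfl⟩
  have hJmul : ∀ i j, J i * J j ≤ J (i + j) := by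
    intro i j
    rw [hJ, Ideal.span_mul_span']
    apply Ideal.span_mono
    rintro m ⟨b, ⟨e, a, ha, rfl⟩, b', ⟨e', a', ha', rfl⟩, rfl⟩
    refine ⟨e + e', a * a', ?_, ?_⟩
    · have h1 := LamFil.mul_mem_gammaFil εAr ha ha'
      refine LamFil.gammaFil_anti εAr ?_ h1
      rw [hwt_add]
      omega
    · rw [map_mul, hmon_add]
      ring
  -- the two inclusions
  apply le_antisymm
  · -- `⊆`
    apply LamFil.gammaFil_le_of_gamma_mem εBr hJ0 hJmul hJanti
    intro z hz
    have hzmem : z ∈ Algebra.adjoin A (Set.range g) := by rw [hgen]; trivial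
    rw [Algebra.adjoin_range_eq_range_aeval] at hzmem
    obtain ⟨q, rfl⟩ := hzmem
    have hdecomp : MvPolynomial.aeval g q = ∑ μ ∈ q.support,
        algebraMap A B (MvPolynomial.coeff μ q) * mon μ := by
      conv_lhs => rw [← MvPolynomial.support_sum_monomial_coeff q]
      rw [map_sum]
      apply sum_congr rfl
      intro μ _
      rw [MvPolynomial.aeval_monomial]
    have hεmon : ∀ μ : ℕ →₀ ℕ, μ ≠ 0 → εBr (mon μ) = 0 := by
      intro μ hμ
      obtain ⟨j, hj⟩ : ∃ j, j ∈ μ.support := by
        by_contra hne
        push Not at hne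
        exact hμ (Finsupp.support_eq_empty.mp (Finset.eq_empty_of_forall_notMem hne))
      have : mon μ = ∏ j ∈ μ.support, g j ^ μ j := rfl
      rw [this, map_prod]
      apply prod_eq_zero hj
      rw [map_pow, hεg]
      exact zero_pow (Finsupp.mem_support_iff.mp hj)
    have hε0 : εAr (MvPolynomial.coeff 0 q) = 0 := by
      have h1 : εBr (MvPolynomial.aeval g q) = εAr (MvPolynomial.coeff 0 q) := by
        rw [hdecomp, map_sum, Finset.sum_eq_single (0 : ℕ →₀ ℕ)]
        · rw [map_mul, hmon0, map_one, mul_one]
          exact hεAB _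
        · intro μ _ hμ
          rw [map_mul, hεmon μ hμ, mul_zero]
        · intro h0
          rw [MvPolynomial.notMem_support_iff.mp h0, map_zero, zero_mul, map_zero]
      rw [← h1]
      exact hz
    have hgood : LamFil.JGood J (Groth.Agent.Lib.Helper4.gammaSeries (MvPolynomial.aeval g q)) := by
      rw [hdecomp, Groth.Agent.Lib.Helper4.gammaSeries_sum]
      apply LamFil.jgood_prod hJ0 hJmul
      intro μ hμ
      by_cases hμ0 : μ = 0
      · subst hμ0
        intro i
        rw [Groth.Agent.Lib.Helper4.coeff_gammaSeries, hmon0, mul_one, ← halg_gamma]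
        refine Ideal.subset_span ⟨0, LambdaRing.gamma i (MvPolynomial.coeff 0 q), ?_, ?_⟩
        · rw [hwt0, Nat.sub_zero]
          exact LamFil.gamma_mem_gammaFil εAr hε0 i
        · rw [hmon0, mul_one]
      · -- split the coefficient into its augmentation and the rest
        set a : A := MvPolynomial.coeff μ q with ha
        set c : K := εA a with hc
        set a' : A := a - algebraMap K A c with ha'
        have hεa' : εAr a' = 0 := by
          change εA (a - algebraMap K A c) = 0
          rw [map_sub, AlgHom.commutes, hc]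
          simp
        have hsplit : algebraMap A B a * mon μ =
            algebraMap K B c * mon μ + algebraMap A B a' * mon μ := by
          rw [ha', map_sub, ← IsScalarTower.algebraMap_apply K A B c]
          ring
        -- two generators
        set x2 : PUnit.{w + 1} ⊕ PUnit.{w + 1} → B :=
          Sum.elim (fun _ => algebraMap A B a') (fun _ => x) with hx2
        have hgen2 : ∀ p : (PUnit.{w + 1} ⊕ PUnit.{w + 1}) × ℕ,
            LambdaRing.gamma (p.2 + 1) (x2 p.1) ∈ J (p.2 + 1) := by
          rintro ⟨s | s, t⟩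
          · simp only [hx2, Sum.elim_inl]
            rw [← halg_gamma]
            refine Ideal.subset_span ⟨0, LambdaRing.gamma (t + 1) a', ?_, ?_⟩
            · rw [hwt0, Nat.sub_zero]
              exact LamFil.gamma_mem_gammaFil εAr hεa' _
            · rw [hmon0, mul_one]
          · simp only [hx2, Sum.elim_inr]
            refine Ideal.subset_span ⟨Finsupp.single t 1, 1, ?_, ?_⟩
            · have : wt (Finsupp.single t 1) = t + 1 := by simp [hwt]
              rw [this, Nat.sub_self, LamFil.gammaFil_zero]
              trivial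
            · have : mon (Finsupp.single t 1) = g t := by simp [hmon]
              rw [this, map_one, one_mul]
        set M : LamOps.U (PUnit.{w + 1} ⊕ PUnit.{w + 1}) :=
          ∏ j ∈ μ.support, (MvPolynomial.X (Sum.inr PUnit.unit, j) :
            LamOps.U (PUnit.{w + 1} ⊕ PUnit.{w + 1})) ^ μ j with hM
        have hMev : LamOps.evG x2 M = mon μ := by
          rw [hM, map_prod]
          apply prod_congr rfl
          intro j _
          rw [map_pow, LamOps.evG_X]
          rfl
        have hMc : MvPolynomial.constantCoeff M = 0 := by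
          obtain ⟨j, hj⟩ : ∃ j, j ∈ μ.support := by
            by_contra hne
            push Not at hne
            exact hμ0 (Finsupp.support_eq_empty.mp (Finset.eq_empty_of_forall_notMem hne))
          rw [hM, map_prod]
          apply prod_eq_zero hj
          rw [map_pow, MvPolynomial.constantCoeff_X]
          exact zero_pow (Finsupp.mem_support_iff.mp hj)
        set M' : LamOps.U (PUnit.{w + 1} ⊕ PUnit.{w + 1}) :=
          MvPolynomial.X (Sum.inl PUnit.unit, 0) * M with hM'
        have hM'ev : LamOps.evG x2 M' = algebraMap A B a' * mon μ := by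
          rw [hM', map_mul, LamOps.evG_X, hMev]
          simp only [hx2, Sum.elim_inl, zero_add]
          rw [hgamma_one]
        have hM'c : MvPolynomial.constantCoeff M' = 0 := by
          rw [hM', map_mul, MvPolynomial.constantCoeff_X, zero_mul]
        rw [hsplit, Groth.Agent.Lib.Helper4.gammaSeries_add]
        apply LamFil.jgood_mul hJmul
        · apply LamFil.jgood_binom hKb hB hεB.isLambdaAlg hP hJ0 hJmul
          intro β
          obtain ⟨G, hGW, hG⟩ := LamUniv.exists_repG_inW.{w} hP hQ M hMc β
          rw [Groth.Agent.Lib.Helper4.coeff_gammaSeries, ← hMev, hG B hB x2]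
          exact LamFil.evG_mem_of_gen_mem hJ0 hJmul hJanti x2 hgen2 hGW
        · intro β
          obtain ⟨G, hGW, hG⟩ := LamUniv.exists_repG_inW.{w} hP hQ M' hM'c β
          rw [Groth.Agent.Lib.Helper4.coeff_gammaSeries, ← hM'ev, hG B hB x2]
          exact LamFil.evG_mem_of_gen_mem hJ0 hJmul hJanti x2 hgen2 hGW
    intro i
    have := hgood i
    rwa [Groth.Agent.Lib.Helper4.coeff_gammaSeries] at this
  · -- `⊇`
    rw [Ideal.span_le]
    rintro m ⟨e, a, ha, rfl⟩
    have h1 := hmap _ a ha
    have h2 : mon e ∈ LambdaRing.gammaFil εBr (wt e) := by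
      have e1 : mon e = ∏ j ∈ e.support, g j ^ e j := rfl
      have e2 : wt e = ∑ j ∈ e.support, (j + 1) * e j := rfl
      rw [e1, e2]
      apply LamFil.prod_mem_gammaFil
      intro j _
      exact LamFil.pow_mem_gammaFil εBr (LamFil.gamma_mem_gammaFil εBr hxr _) _
    exact LamFil.gammaFil_anti εBr (by omega) (LamFil.mul_mem_gammaFil εBr h1 h2)

end Groth.Agent.S8698
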