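import Groth.Statements.S8737
import Groth.Agent.Lib.Seat37CliffEvenCenterAz
import Groth.Agent.Lib.Seat37AzCenterDescent
import Groth.Agent.Lib.Seat37CliffSetupEven

set_option autoImplicit false
set_option linter.style.haveILetI false
universe u v
open SGA7II

namespace Groth.Agent.S8737

/-- Let A be a commutative ring, V a free A-module of rank 2m with m >= 1, and Q a quadratic form on V
which is non-degenerate in the sense that its polar bilinear form induces a bijection V -> Hom_A(V,
A). Let Z be the centre of the even Clifford algebra C^+(Q), and regard C^+(Q) as a Z-algebra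
through the inclusion of the centre. Then Z is an etale A-algebra which is finitely generated
projective of rank 2 at every prime of A, and C^+(Q) is an Azumaya algebra over Z. (The published
statement allows V locally free of rank 2m; this row takes V free.) -/
theorem result (A : Type u) [CommRing A] (V : Type v) [AddCommGroup V] [Module A V]
    [Module.Free A V] [Module.Finite A V] (m : ℕ) (hm : 1 ≤ m) (hV : Module.finrank A V = 2 * m)
    (Q : QuadraticForm A V) (hQ : Function.Bijective (QuadraticMap.polarBilin Q)) :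
    letI : Algebra ↥(Subalgebra.center A ↥(CliffordAlgebra.even Q)) ↥(CliffordAlgebra.even Q) :=
      (Subalgebra.center A ↥(CliffordAlgebra.even Q)).val.toRingHom.toAlgebra'
        (fun c x => (Subalgebra.mem_center_iff.mp c.2 x).symm)
    Algebra.Etale A ↥(Subalgebra.center A ↥(CliffordAlgebra.even Q)) ∧
      Module.Finite A ↥(Subalgebra.center A ↥(CliffordAlgebra.even Q)) ∧
      Module.Projective A ↥(Subalgebra.center A ↥(CliffordAlgebra.even Q)) ∧
      (∀ p : PrimeSpectrum A, Module.rankAtStalk ↥(Subalgebra.center A ↥(CliffordAlgebra.even Q)) p = 2) ∧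
      IsAzumaya ↥(Subalgebra.center A ↥(CliffordAlgebra.even Q)) ↥(CliffordAlgebra.even Q) := by
  classical
  have hA : Nontrivial A := by
    by_contra h
    rw [not_nontrivial_iff_subsingleton] at h
    have h1 : Module.finrank A V = 1 := Module.finrank_subsingleton
    omega
  let b : Module.Basis (Fin (2 * m)) A V := Module.finBasisOfFinrankEq A V hV
  obtain ⟨A', iA, iAlg, hff, hfp, ⟨φ⟩⟩ :=
    Groth.Agent.Lib.Seat37.CliffSetupEven.exists_split_even m b Q hQ
  obtain ⟨k, rfl⟩ : ∃ k, m = k + 1 := ⟨m - 1, by omega⟩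
  obtain ⟨ψ⟩ := Groth.Agent.Lib.Seat37.CliffEvenCenterAz.nonempty_bc_even_pi A' Q k φ
  letI alg : Algebra ↥(Subalgebra.center A ↥(CliffordAlgebra.even Q)) ↥(CliffordAlgebra.even Q) :=
    (Subalgebra.center A ↥(CliffordAlgebra.even Q)).val.toRingHom.toAlgebra'
      (fun c x => (Subalgebra.mem_center_iff.mp c.2 x).symm)
  haveI tower : @IsScalarTower A ↥(Subalgebra.center A ↥(CliffordAlgebra.even Q))
      ↥(CliffordAlgebra.even Q) _ alg.toSMul _ :=
    IsScalarTower.of_algebraMap_eq (fun r => rfl)
  haveI : Module.Finite A ↥(CliffordAlgebra.even Q) :=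
    Groth.Agent.Lib.Seat37.CliffEvenCenterAz.finite_even Q
  haveI : Inhabited (Fin (2 ^ k)) := ⟨⟨0, Nat.pos_of_neZero _⟩⟩
  have hinj : Function.Injective
      (algebraMap ↥(Subalgebra.center A ↥(CliffordAlgebra.even Q)) ↥(CliffordAlgebra.even Q)) :=
    Subtype.val_injective
  have hrange : ∀ x : ↥(CliffordAlgebra.even Q), (∀ y, x * y = y * x) →
      x ∈ Set.range (algebraMap ↥(Subalgebra.center A ↥(CliffordAlgebra.even Q))
        ↥(CliffordAlgebra.even Q)) :=
    fun x hx => ⟨⟨x, Subalgebra.mem_center_iff.mpr (fun y => (hx y).symm)⟩, rfl⟩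
  let θ := Groth.Agent.Lib.Seat37.AzCenter.sigma A ↥(CliffordAlgebra.even Q)
    ↥(Subalgebra.center A ↥(CliffordAlgebra.even Q)) A' (Fin 2 → A') ψ hinj hrange
  have hEt : Algebra.Etale A ↥(Subalgebra.center A ↥(CliffordAlgebra.even Q)) := by
    haveI : Algebra.Etale A' (TensorProduct A A' ↥(Subalgebra.center A ↥(CliffordAlgebra.even Q))) :=
      Algebra.Etale.of_equiv θ.symm
    exact Algebra.Etale.of_etale_tensorProduct_of_faithfullyFlat A'
  have hfp' : Module.Finite A ↥(Subalgebra.center A ↥(CliffordAlgebra.even Q)) ∧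
      Module.Projective A ↥(Subalgebra.center A ↥(CliffordAlgebra.even Q)) := by
    haveI : Module.Finite A'
        (TensorProduct A A' ↥(Subalgebra.center A ↥(CliffordAlgebra.even Q))) :=
      Module.Finite.equiv θ.symm.toLinearEquiv
    haveI : Module.Projective A'
        (TensorProduct A A' ↥(Subalgebra.center A ↥(CliffordAlgebra.even Q))) :=
      Module.Projective.of_equiv θ.symm.toLinearEquiv
    exact Groth.Agent.Lib.LeadAzumaya.finite_projective_of_faithfullyFlat_baseChange A' _
  refine ⟨hEt, hfp'.1, hfp'.2, ?_,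
    Groth.Agent.Lib.Seat37.AzCenter.isAzumaya_center A ↥(CliffordAlgebra.even Q)
      ↥(Subalgebra.center A ↥(CliffordAlgebra.even Q)) A' (Fin 2 → A') ψ hinj hrange⟩
  intro p
  obtain ⟨P, rfl⟩ := PrimeSpectrum.comap_surjective_of_faithfullyFlat (A := A) (B := A') p
  haveI := hfp'.1
  haveI := hfp'.2
  rw [← Module.rankAtStalk_baseChange, Module.rankAtStalk_eq_of_equiv θ.toLinearEquiv,
    Module.rankAtStalk_eq_finrank_of_free]
  haveI : Nontrivial A' := (FaithfulSMul.algebraMap_injective A A').nontrivial
  exact Module.finrank_fin_fun A'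

end Groth.Agent.S8737
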