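import Groth.Statements.S8739
import Groth.Agent.Lib.Seat39Adeq
import Groth.Agent.Lib.Seat39AlgColim
import Groth.Agent.Lib.Seat39FiltDesc

set_option autoImplicit false
universe u
open CategoryTheory Limits
open Adeq
open scoped TensorProduct

namespace Groth.Agent.S8739

/-- An adequate functor `F` on `A`-algebras commutes with filtered colimits: for a filtered colimit `B =
colim B_i` of `A`-algebras one has `F(B) = colim F(B_i)`, in the sense that the image under `F` of a
colimit cocone of a filtered diagram of algebras is a colimit cocone of abelian groups. -/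
theorem result (A : Type u) [CommRing A] (F : Adeq.MVF A)
    (hF : Adeq.adequate A F) {J : Type u} [SmallCategory J] [IsFiltered J] (D : J ⥤ Adeq.Alg A)
    (c : Cocone D) (hc : IsColimit c) : Nonempty (IsColimit (F.toAb.mapCocone c)) := by
  obtain ⟨P⟩ := (Groth.Agent.Lib.Seat39.AdeqF.adequate_iff_nonempty_pres F).mp hF
  -- the system of the algebras
  let tr : ∀ ⦃i j : J⦄, (i ⟶ j) → (D.obj i : Type u) →ₗ[A] (D.obj j : Type u) :=
    fun i j f => (D.map f).hom.toLinearMap
  let inc : ∀ i, (D.obj i : Type u) →ₗ[A] (c.pt : Type u) := fun i => (c.ι.app i).hom.toLinearMap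
  have tr_id : ∀ i (p : D.obj i), tr (𝟙 i) p = p := by
    intro i p
    change (D.map (𝟙 i)).hom p = p
    rw [D.map_id]
    rfl
  have tr_comp : ∀ ⦃i j k : J⦄ (f : i ⟶ j) (g : j ⟶ k) (p : D.obj i),
      tr (f ≫ g) p = tr g (tr f p) := by
    intro i j k f g p
    change (D.map (f ≫ g)).hom p = (D.map g).hom ((D.map f).hom p)
    rw [D.map_comp]
    rfl
  have inc_tr : ∀ ⦃i j : J⦄ (f : i ⟶ j) (p : D.obj i), inc j (tr f p) = inc i p := by
    intro i j f p
    exact congrArg (fun m => m.hom p) (c.w f)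
  have sur : ∀ x : c.pt, ∃ i, ∃ p : D.obj i, inc i p = x :=
    Groth.Agent.Lib.Seat39.AlgColim.exists_rep hc
  have inj : ∀ i (p : D.obj i), inc i p = 0 → ∃ k, ∃ f : i ⟶ k, tr f p = 0 := by
    intro i p hp
    have h : (c.ι.app i).hom p = (c.ι.app i).hom 0 := by
      rw [map_zero]
      exact hp
    obtain ⟨k, f, g, hk⟩ := Groth.Agent.Lib.Seat39.AlgColim.exists_eq hc p 0 h
    refine ⟨k, f, ?_⟩
    change (D.map f).hom p = 0
    rw [hk, map_zero]
  have tsurM := Groth.Agent.Lib.Seat39.FiltDesc.tensor_sur tr inc inc_tr sur P.M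
  have tinjM := Groth.Agent.Lib.Seat39.FiltDesc.tensor_inj tr inc tr_id tr_comp inc_tr sur inj P.M
  have tinjN := Groth.Agent.Lib.Seat39.FiltDesc.tensor_inj tr inc tr_id tr_comp inc_tr sur inj P.N
  -- naturality of the presentation
  have natj : ∀ {B B' : Alg A} (f : B ⟶ B') (y : F.obj (pt B)),
      Groth.Agent.Lib.Seat39.MVF.ap P.j (pt B') (Groth.Agent.Lib.Seat39.MVF.mp F (ptHom f) y) =
        (f.hom.toLinearMap.rTensor P.M (Groth.Agent.Lib.Seat39.MVF.ap P.j (pt B) y) :
          (B' : Type u) ⊗[A] P.M) := by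
    intro B B' f y
    exact Groth.Agent.Lib.Seat39.MVF.ap_mp P.j (ptHom f) y
  have natφ : ∀ {B B' : Alg A} (f : B ⟶ B') (s : (B : Type u) ⊗[A] P.M),
      P.φ.hom.baseChange (B' : Type u) (f.hom.toLinearMap.rTensor P.M s) =
        f.hom.toLinearMap.rTensor P.N (P.φ.hom.baseChange (B : Type u) s) := by
    intro B B' f s
    exact Groth.Agent.Lib.Seat39.MVF.ap_mp ((underline A).map P.φ) (ptHom f)
      (Groth.Agent.Lib.Seat39.AdeqF.ofT P.M s)
  apply Groth.Agent.Lib.Seat39.FiltDesc.nonempty_isColimit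
  · -- joint surjectivity
    intro x
    let x' : F.obj (pt c.pt) := x
    obtain ⟨i, s, hs⟩ := tsurM (Groth.Agent.Lib.Seat39.MVF.ap P.j (pt c.pt) x')
    have h0 : (inc i).rTensor P.N (P.φ.hom.baseChange (D.obj i : Type u) s) = 0 := by
      have h1 := natφ (c.ι.app i) s
      have h2 : (c.ι.app i).hom.toLinearMap.rTensor P.M s =
          Groth.Agent.Lib.Seat39.MVF.ap P.j (pt c.pt) x' := hs
      rw [h2] at h1
      exact h1.symm.trans (P.zero_apply (pt c.pt) x')
    obtain ⟨k, f, hk⟩ := tinjN i _ h0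
    have h3 : P.φ.hom.baseChange (D.obj k : Type u) ((tr f).rTensor P.M s) = 0 :=
      (natφ (D.map f) s).trans hk
    obtain ⟨y, hy⟩ := P.exact (pt (D.obj k)) ((tr f).rTensor P.M s) h3
    refine ⟨k, y, ?_⟩
    apply P.inj (pt c.pt)
    refine (natj (c.ι.app k) y).trans ?_
    have hy' : Groth.Agent.Lib.Seat39.MVF.ap P.j (pt (D.obj k)) y = (tr f).rTensor P.M s := hy
    rw [hy']
    exact (Groth.Agent.Lib.Seat39.FiltDesc.inc_tr_rTensor tr inc inc_tr P.M f s).trans hs
  · -- elements with zero image die at a later stage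
    intro i y hy
    let y' : F.obj (pt (D.obj i)) := y
    have hy' : Groth.Agent.Lib.Seat39.MVF.mp F (ptHom (c.ι.app i)) y' = 0 := hy
    have h0 : (inc i).rTensor P.M (Groth.Agent.Lib.Seat39.MVF.ap P.j (pt (D.obj i)) y') = 0 := by
      have h1 := natj (c.ι.app i) y'
      rw [hy', map_zero] at h1
      exact h1.symm
    obtain ⟨k, f, hk⟩ := tinjM i _ h0
    refine ⟨k, f, ?_⟩
    apply P.inj (pt (D.obj k))
    refine (natj (D.map f) y').trans ?_
    exact hk.trans (map_zero (Groth.Agent.Lib.Seat39.MVF.ap P.j (pt (D.obj k)))).symm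

end Groth.Agent.S8739
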