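import Groth.Statements.S8740
import Groth.Agent.Lib.Seat39FlatBC

set_option autoImplicit false
universe u
open CategoryTheory Limits
open Adeq

namespace Groth.Agent.S8740

/-- For an adequate functor `F` on `A`-algebras and a flat map of `A`-algebras `f : B → B'`, the
canonical map `B' ⊗_B F(B) → F(B')` is an isomorphism. -/
theorem result (A : Type u) [CommRing A] (F : Adeq.MVF A) (hF : Adeq.adequate A F)
    {B B' : Adeq.Alg A} (f : B ⟶ B') (hf : f.hom.toRingHom.Flat) : IsIso (F.bc f) := by
  obtain ⟨P⟩ := (Groth.Agent.Lib.Seat39.AdeqF.adequate_iff_nonempty_pres F).mp hF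
  exact Groth.Agent.Lib.Seat39.FlatBC.isIso_bc_of_pres P f hf

end Groth.Agent.S8740
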