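import Groth.Statements.S8759
import Groth.Agent.Lib.Seat39BigCartan
import Groth.Agent.Lib.Seat39AdeqAmitsur
import Groth.Agent.Lib.Seat39ShfColim

set_option autoImplicit false
universe u
open CategoryTheory Limits AlgebraicGeometry
open Adeq

namespace Groth.Agent.S8759

/-- For an adequate `O`-module `M` on the big fppf site of `S` and an affine scheme `U` over `S`,
`H^q(U, M) = 0` for all `q > 0`. -/
theorem result (S : Scheme.{u}) (M : BigSite.Mod Scheme.fppfPrecoverage S)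
    (hM : Adeq.adequateMod Scheme.fppfPrecoverage S M) (U : Over S) [IsAffine U.left] (q : ℕ) (hq : 0 < q) :
    Subsingleton (BigSite.HU Scheme.fppfPrecoverage ((BigSite.toAbMod Scheme.fppfPrecoverage S).obj M) q U) := by
  obtain ⟨p, rfl⟩ : ∃ p, q = p + 1 := ⟨q - 1, by omega⟩
  refine subsingleton_of_forall_eq 0 (fun x => ?_)
  refine Groth.Agent.Lib.Seat39.BigCartan.ext_eq_zero_of_amitsur
    ((BigSite.pullBig Scheme.fppfPrecoverage U.hom AddCommGrpCat.{u + 1}).obj
      ((BigSite.toAbMod Scheme.fppfPrecoverage S).obj M)) ?_ p x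
  intro R w B _ _ _ n
  have hF : adequate R ((toMVF Scheme.fppfPrecoverage (w ≫ U.hom)).obj M) :=
    Groth.Agent.Lib.Seat39.ShfColim.adequate_of_adequateMod_fppf M hM R (w ≫ U.hom)
  have hB : ∀ k : ℕ,
      AddCommGrpCat.Hom.hom (Groth.Agent.Lib.Seat39.CechModel.DP
        ((Over.map (w ≫ U.hom)).op ⋙ ((BigSite.toAbMod Scheme.fppfPrecoverage S).obj M).obj)
        (Groth.Agent.Lib.Seat39.OverPower.W R B) (Groth.Agent.Lib.Seat39.OverPower.dW R B) k) =
      Groth.Agent.Lib.Seat39.AdeqAmitsur.DF B ((toMVF Scheme.fppfPrecoverage (w ≫ U.hom)).obj M) (k + 1) := by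
    intro k
    unfold Groth.Agent.Lib.Seat39.CechModel.DP Groth.Agent.Lib.Seat39.AdeqAmitsur.DF
    refine (map_sum AddCommGrpCat.homAddEquiv _ _).trans ?_
    apply Finset.sum_congr rfl
    intro i _
    rfl
  let e : ((Over.map w).op ⋙ ((BigSite.pullBig Scheme.fppfPrecoverage U.hom AddCommGrpCat.{u + 1}).obj
        ((BigSite.toAbMod Scheme.fppfPrecoverage S).obj M)).obj) ≅
      ((Over.map (w ≫ U.hom)).op ⋙ ((BigSite.toAbMod Scheme.fppfPrecoverage S).obj M).obj) :=
    Functor.isoWhiskerRight (NatIso.op (Over.mapComp w U.hom))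
      ((BigSite.toAbMod Scheme.fppfPrecoverage S).obj M).obj
  refine Groth.Agent.Lib.Seat39.BigCartan.DP_exact_of_iso (Groth.Agent.Lib.Seat39.OverPower.W R B)
    (Groth.Agent.Lib.Seat39.OverPower.dW R B) e n ?_
  intro y hy
  rw [hB] at hy
  obtain ⟨z, hz⟩ := Groth.Agent.Lib.Seat39.AdeqAmitsur.adequate_exact B
    ((toMVF Scheme.fppfPrecoverage (w ≫ U.hom)).obj M) hF (n + 1) y hy
  refine ⟨z, ?_⟩
  rw [hB]
  exact hz

end Groth.Agent.S8759
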