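import Groth.Statements.S8767
import Groth.Agent.Lib.Seat39Parasitic

set_option autoImplicit false
universe u
open CategoryTheory Limits AlgebraicGeometry
open Adeq

namespace Groth.Agent.S8767

/-- For an adequate `O`-module `M` on the big fppf site of `S` the following are equivalent: `M` is
parasitic; `M` is parasitic for the fppf topology; `M(U) = 0` for every open `U ⊂ S`; `M(U_i) = 0`
for the members of some affine open covering `S = ⋃ U_i`. (The published statement has a fifth
equivalent condition, the vanishing of the quasi-coherent module obtained by restriction to the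
small Zariski site; it is not included here.) -/
theorem result (S : Scheme.{u}) (M : BigSite.Mod Scheme.fppfPrecoverage S)
    (hM : Adeq.adequateMod Scheme.fppfPrecoverage S M) :
    List.TFAE [Adeq.parasitic Scheme.fppfPrecoverage S M, Adeq.parasiticFor Scheme.fppfPrecoverage S M,
      ∀ U : S.Opens, Subsingleton (BigSite.sectMod Scheme.fppfPrecoverage M ((BigSite.zarIncl S).obj U)),
      ∃ (ι : Type u) (U : ι → S.Opens), (∀ i, IsAffineOpen (U i)) ∧ (⨆ i, U i) = ⊤ ∧
        ∀ i, Subsingleton (BigSite.sectMod Scheme.fppfPrecoverage M ((BigSite.zarIncl S).obj (U i)))] := by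
  have hcovS : Presieve.ofArrows (fun U : S.affineOpens => ((U.1 : S.Opens) : Scheme.{u}))
      (fun U => (U.1 : S.Opens).ι) ∈ Scheme.fppfPrecoverage.coverings S := by
    refine Scheme.zariskiPrecoverage_le_fppfPrecoverage _ ?_
    unfold Scheme.zariskiPrecoverage
    rw [Scheme.ofArrows_mem_precoverage_iff]
    constructor
    · intro x
      have hmem : x ∈ (⨆ i : S.affineOpens, (i : S.Opens)) := by
        rw [AlgebraicGeometry.iSup_affineOpens_eq_top]; trivial
      obtain ⟨U, hU⟩ := TopologicalSpace.Opens.mem_iSup.mp hmem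
      refine ⟨U, ?_⟩
      rw [Scheme.Opens.range_ι]
      exact hU
    · intro U
      infer_instance
  tfae_have 1 → 2 := by
    intro h P hP V g hg
    exact h (Over.mk g) (Groth.Agent.Lib.Seat39.EpiLoc.flat_of_mem_fppf hP hg)
  tfae_have 1 → 3 := by
    intro h U
    exact h ((BigSite.zarIncl S).obj U) (inferInstanceAs (Flat U.ι))
  tfae_have 3 → 4 := by
    intro h
    exact ⟨S.affineOpens, fun U => U.1, fun U => U.2, AlgebraicGeometry.iSup_affineOpens_eq_top S,
      fun U => h U.1⟩
  tfae_have 2 → 4 := by
    intro h
    refine ⟨S.affineOpens, fun U => U.1, fun U => U.2, AlgebraicGeometry.iSup_affineOpens_eq_top S,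
      fun U => ?_⟩
    exact h hcovS (U.1 : S.Opens).ι ⟨U⟩
  tfae_have 4 → 1 := by
    rintro ⟨ι, U, hU, hcov, h0⟩
    exact Groth.Agent.Lib.Seat39.Parasitic.parasitic_of_affine_open_cover M hM U hU hcov h0
  tfae_finish

end Groth.Agent.S8767
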