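import Groth.Statements.S8780
import Groth.Agent.Lib.Seat39TF
import Groth.Agent.Lib.Seat39Rep

set_option autoImplicit false
universe u
open CategoryTheory Limits
open AdeqTF

namespace Groth.Agent.S8780

/-- Take `I` injective in the category of module-valued functors on `A`-algebras. For every `A`-algebra
`B` and every short exact sequence `0 → N₁ → N → N₂ → 0` of `B`-modules, the induced map of tangent
modules `TI(B, N) → TI(B, N₂)` is surjective (`TI(B, N)` is the kernel of `I(B[N]) → I(B)`, `B[N]`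
the trivial square-zero extension). (The published statement asserts that `TI(B, N₁) → TI(B, N) →
TI(B, N₂) → 0` is exact; exactness at the middle term is false: for `A = B = ℚ`, the split sequence
`0 → ℚ → ℚ² → ℚ → 0` and the injective functor `D ↦ Map(Hom(D, ℚ[ε]/(ε²)), E)` with `E` an injective
hull of `ℚ[ε]/(ε²)`, the indicator function of the first coordinate form lies in the kernel of
`TI(B, ℚ²) → TI(B, ℚ)` and not in the image of `TI(B, ℚ) → TI(B, ℚ²)`. This row keeps the
surjectivity, which the published argument does establish.) -/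
theorem result (A : Type u) [CommRing A] (I : Adeq.MVF A) [Injective I]
    (B : Adeq.Alg A) (S : ShortComplex (ModuleCat.{u} B)) (hS : S.ShortExact) :
    Function.Surjective (AdeqTF.tangentMap B I S.g) := by
  have hsurj : Function.Surjective S.g := hS.moduleCat_surjective_g
  have hepi : Epi (AdeqTF.map B S.g) := by
    apply ConcreteCategory.epi_of_surjective
    intro x
    obtain ⟨n, hn⟩ := hsurj (TrivSqZeroExt.snd x)
    refine ⟨TrivSqZeroExt.inl (TrivSqZeroExt.fst x) + TrivSqZeroExt.inr n, ?_⟩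
    show TrivSqZeroExt.map S.g.hom _ = x
    apply TrivSqZeroExt.ext
    · rw [TrivSqZeroExt.fst_map]; simp
    · rw [TrivSqZeroExt.snd_map]; simp [hn]
  intro z
  obtain ⟨y₀, hy₀⟩ := Groth.Agent.Lib.Seat39.Rep.surjective_of_injective_of_epi I (AdeqTF.map B S.g)
    (z : I.obj (Adeq.pt (AdeqTF.ext B S.X₃)))
  refine ⟨⟨_, Groth.Agent.Lib.Seat39.TF.sub_mem_tangent B I y₀⟩, ?_⟩
  apply Subtype.ext
  rw [Groth.Agent.Lib.Seat39.TF.tangentMap_coe]
  have hz : Groth.Agent.Lib.Seat39.MVF.mp I (Adeq.ptHom (AdeqTF.fst B S.X₃))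
      (z : I.obj (Adeq.pt (AdeqTF.ext B S.X₃))) = 0 := z.2
  have e1 : Adeq.ptHom (AdeqTF.map B S.g) ≫ Adeq.ptHom (AdeqTF.fst B S.X₃) =
      Adeq.ptHom (AdeqTF.fst B S.X₂) := congrArg Adeq.ptHom (AdeqTF.map_fst B S.g)
  have e2 : Adeq.ptHom (AdeqTF.inl B S.X₂) ≫ Adeq.ptHom (AdeqTF.map B S.g) =
      Adeq.ptHom (AdeqTF.inl B S.X₃) := by
    refine congrArg Adeq.ptHom ?_
    apply CommAlgCat.hom_ext
    refine AlgHom.ext fun b => ?_
    show TrivSqZeroExt.map S.g.hom (TrivSqZeroExt.inl b) = TrivSqZeroExt.inl b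
    exact TrivSqZeroExt.map_inl _ _
  change Groth.Agent.Lib.Seat39.MVF.mp I _ (y₀ - _) = _
  rw [map_sub, hy₀, ← Groth.Agent.Lib.Seat39.MVF.mp_comp, Groth.Agent.Lib.Seat39.MVF.mp_congr I e2,
    ← Groth.Agent.Lib.Seat39.MVF.mp_congr I e1, Groth.Agent.Lib.Seat39.MVF.mp_comp, hy₀, hz, map_zero,
    sub_zero]

end Groth.Agent.S8780
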