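import Groth.Statements.S8781
import Groth.Agent.Lib.Seat39TF

set_option autoImplicit false
universe u
open CategoryTheory Limits
open AdeqTF

namespace Groth.Agent.S8781

/-- Say a module-valued functor `F` on `A`-algebras has right exact tangent functors if for every
`A`-algebra `B` and every short exact sequence `0 → N₁ → N → N₂ → 0` of `B`-modules the sequence
`TF(B, N₁) → TF(B, N) → TF(B, N₂) → 0` is exact. If `0 → F → G → H → 0` is a short exact sequence of
module-valued functors and `F`, `G` have right exact tangent functors, so does `H`. -/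
theorem result (A : Type u) [CommRing A] (C : ShortComplex (Adeq.MVF A))
    (hC : C.ShortExact)
    (h₁ : (∀ (B : Adeq.Alg A) (S : ShortComplex (ModuleCat.{u} B)), S.ShortExact →
        Function.Surjective (AdeqTF.tangentMap B C.X₁ S.g) ∧
          (AdeqTF.tangentMap B C.X₁ S.g).ker = (AdeqTF.tangentMap B C.X₁ S.f).range))
    (h₂ : (∀ (B : Adeq.Alg A) (S : ShortComplex (ModuleCat.{u} B)), S.ShortExact →
        Function.Surjective (AdeqTF.tangentMap B C.X₂ S.g) ∧
          (AdeqTF.tangentMap B C.X₂ S.g).ker = (AdeqTF.tangentMap B C.X₂ S.f).range)) :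
    (∀ (B : Adeq.Alg A) (S : ShortComplex (ModuleCat.{u} B)), S.ShortExact →
        Function.Surjective (AdeqTF.tangentMap B C.X₃ S.g) ∧
          (AdeqTF.tangentMap B C.X₃ S.g).ker = (AdeqTF.tangentMap B C.X₃ S.f).range) := by
  intro B S hS
  have hgS : S.f ≫ S.g = 0 := S.zero
  obtain ⟨h₁s, h₁k⟩ := h₁ B S hS
  obtain ⟨h₂s, h₂k⟩ := h₂ B S hS
  refine ⟨?_, ?_⟩
  · intro z
    obtain ⟨y, hy⟩ := Groth.Agent.Lib.Seat39.TF.tmor_g_surjective B C hC z
    obtain ⟨y', hy'⟩ := h₂s y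
    refine ⟨Groth.Agent.Lib.Seat39.TF.tmor B C.g y', ?_⟩
    rw [← Groth.Agent.Lib.Seat39.TF.tmor_tangentMap, hy', hy]
  · apply le_antisymm
    · intro z hz
      rw [AddMonoidHom.mem_ker] at hz
      obtain ⟨y, hy⟩ := Groth.Agent.Lib.Seat39.TF.tmor_g_surjective B C hC z
      have h1 : Groth.Agent.Lib.Seat39.TF.tmor B C.g (tangentMap B C.X₂ S.g y) = 0 := by
        rw [Groth.Agent.Lib.Seat39.TF.tmor_tangentMap, hy, hz]
      obtain ⟨x₂, hx₂⟩ := Groth.Agent.Lib.Seat39.TF.tmor_exact B C hC _ h1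
      obtain ⟨x, hx⟩ := h₁s x₂
      have h2 : y - Groth.Agent.Lib.Seat39.TF.tmor B C.f x ∈ (tangentMap B C.X₂ S.g).ker := by
        rw [AddMonoidHom.mem_ker, map_sub, ← Groth.Agent.Lib.Seat39.TF.tmor_tangentMap, hx, hx₂,
          sub_self]
      rw [h₂k] at h2
      obtain ⟨y₁, hy₁⟩ := h2
      refine ⟨Groth.Agent.Lib.Seat39.TF.tmor B C.g y₁, ?_⟩
      rw [← Groth.Agent.Lib.Seat39.TF.tmor_tangentMap, hy₁, map_sub,
        Groth.Agent.Lib.Seat39.TF.tmor_g_f, sub_zero, hy]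
    · rintro _ ⟨z₁, rfl⟩
      rw [AddMonoidHom.mem_ker]
      exact Groth.Agent.Lib.Seat39.TF.tangentMap_comp_eq_zero B C.X₃ S.f S.g hgS z₁

end Groth.Agent.S8781
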