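import Groth.Statements.S8782
import Groth.Agent.Lib.Seat39TF

set_option autoImplicit false
universe u
open CategoryTheory Limits
open AdeqTF

namespace Groth.Agent.S8782

/-- If `0 → F → G → H → 0` is a short exact sequence of module-valued functors on `A`-algebras and `F`,
`H` have right exact tangent functors (for every `A`-algebra `B` and short exact `0 → N₁ → N → N₂ →
0` of `B`-modules, `T(B, N₁) → T(B, N) → T(B, N₂) → 0` is exact), so does `G`. -/
theorem result (A : Type u) [CommRing A] (C : ShortComplex (Adeq.MVF A))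
    (hC : C.ShortExact)
    (h₁ : (∀ (B : Adeq.Alg A) (S : ShortComplex (ModuleCat.{u} B)), S.ShortExact →
        Function.Surjective (AdeqTF.tangentMap B C.X₁ S.g) ∧
          (AdeqTF.tangentMap B C.X₁ S.g).ker = (AdeqTF.tangentMap B C.X₁ S.f).range))
    (h₃ : (∀ (B : Adeq.Alg A) (S : ShortComplex (ModuleCat.{u} B)), S.ShortExact →
        Function.Surjective (AdeqTF.tangentMap B C.X₃ S.g) ∧
          (AdeqTF.tangentMap B C.X₃ S.g).ker = (AdeqTF.tangentMap B C.X₃ S.f).range)) :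
    (∀ (B : Adeq.Alg A) (S : ShortComplex (ModuleCat.{u} B)), S.ShortExact →
        Function.Surjective (AdeqTF.tangentMap B C.X₂ S.g) ∧
          (AdeqTF.tangentMap B C.X₂ S.g).ker = (AdeqTF.tangentMap B C.X₂ S.f).range) := by
  intro B S hS
  have hgS : S.f ≫ S.g = 0 := S.zero
  obtain ⟨h₁s, h₁k⟩ := h₁ B S hS
  obtain ⟨h₃s, h₃k⟩ := h₃ B S hS
  refine ⟨?_, ?_⟩
  · intro y₂
    obtain ⟨z, hz⟩ := h₃s (Groth.Agent.Lib.Seat39.TF.tmor B C.g y₂)
    obtain ⟨y, hy⟩ := Groth.Agent.Lib.Seat39.TF.tmor_g_surjective B C hC z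
    have h1 : Groth.Agent.Lib.Seat39.TF.tmor B C.g (y₂ - tangentMap B C.X₂ S.g y) = 0 := by
      rw [map_sub, Groth.Agent.Lib.Seat39.TF.tmor_tangentMap, hy, hz, sub_self]
    obtain ⟨x₂, hx₂⟩ := Groth.Agent.Lib.Seat39.TF.tmor_exact B C hC _ h1
    obtain ⟨x, hx⟩ := h₁s x₂
    refine ⟨y + Groth.Agent.Lib.Seat39.TF.tmor B C.f x, ?_⟩
    rw [map_add, ← Groth.Agent.Lib.Seat39.TF.tmor_tangentMap, hx, hx₂]
    abel
  · apply le_antisymm
    · intro y hy
      rw [AddMonoidHom.mem_ker] at hy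
      have h1 : Groth.Agent.Lib.Seat39.TF.tmor B C.g y ∈ (tangentMap B C.X₃ S.g).ker := by
        rw [AddMonoidHom.mem_ker, ← Groth.Agent.Lib.Seat39.TF.tmor_tangentMap, hy, map_zero]
      rw [h₃k] at h1
      obtain ⟨z₁, hz₁⟩ := h1
      obtain ⟨y₁, hy₁⟩ := Groth.Agent.Lib.Seat39.TF.tmor_g_surjective B C hC z₁
      have h2 : Groth.Agent.Lib.Seat39.TF.tmor B C.g (y - tangentMap B C.X₂ S.f y₁) = 0 := by
        rw [map_sub, Groth.Agent.Lib.Seat39.TF.tmor_tangentMap, hy₁, hz₁, sub_self]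
      obtain ⟨x, hx⟩ := Groth.Agent.Lib.Seat39.TF.tmor_exact B C hC _ h2
      have h3 : x ∈ (tangentMap B C.X₁ S.g).ker := by
        rw [AddMonoidHom.mem_ker]
        apply Groth.Agent.Lib.Seat39.TF.tmor_f_injective B C hC
        rw [Groth.Agent.Lib.Seat39.TF.tmor_tangentMap, hx, map_sub, hy,
          Groth.Agent.Lib.Seat39.TF.tangentMap_comp_eq_zero B C.X₂ S.f S.g hgS, sub_zero, map_zero]
      rw [h₁k] at h3
      obtain ⟨x₁, hx₁⟩ := h3
      refine ⟨y₁ + Groth.Agent.Lib.Seat39.TF.tmor B C.f x₁, ?_⟩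
      rw [map_add, ← Groth.Agent.Lib.Seat39.TF.tmor_tangentMap, hx₁, hx]
      abel
    · rintro _ ⟨y₁, rfl⟩
      rw [AddMonoidHom.mem_ker]
      exact Groth.Agent.Lib.Seat39.TF.tangentMap_comp_eq_zero B C.X₂ S.f S.g hgS y₁

end Groth.Agent.S8782
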