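import Groth.Statements.S8784
import Groth.Agent.Lib.Seat39EpiLoc

set_option autoImplicit false
universe u
open CategoryTheory Limits AlgebraicGeometry
open Adeq

namespace Groth.Agent.S8784

/-- The parasitic adequate `O`-modules form a Serre subcategory of the category of adequate `O`-modules
on the big fppf site of a scheme `S`; concretely, if `M₁ → M₂ → M₃` is a complex of adequate
`O`-modules, exact at `M₂` (exactness taken in the category of all `O`-modules, which agrees with
exactness among adequate modules), and `M₁`, `M₃` are parasitic, then `M₂` is parasitic. (The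
published statement also identifies the quotient by this Serre subcategory with the category of
quasi-coherent modules on `S`; that part is not included here.) -/
theorem result (S : Scheme.{u}) (C : ShortComplex (BigSite.Mod Scheme.fppfPrecoverage S))
    (hC : C.Exact) (h₁ : Adeq.adequateMod Scheme.fppfPrecoverage S C.X₁) (h₂ : Adeq.adequateMod Scheme.fppfPrecoverage S C.X₂)
    (h₃ : Adeq.adequateMod Scheme.fppfPrecoverage S C.X₃) (p₁ : Adeq.parasitic Scheme.fppfPrecoverage S C.X₁)
    (p₃ : Adeq.parasitic Scheme.fppfPrecoverage S C.X₃) :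
    Adeq.parasitic Scheme.fppfPrecoverage S C.X₂ := by
  intro U hU
  have key : ∀ x : C.X₂.val.obj (Opposite.op U), x = 0 := by
    intro x
    have hg : Groth.Agent.Lib.Seat39.MVF.ap C.g.val (Opposite.op U) x = 0 := by
      have := p₃ U hU
      exact Subsingleton.elim _ _
    obtain ⟨k, hk⟩ := Groth.Agent.Lib.Seat39.BigKer.kernel_ι_val_exact Scheme.fppfPrecoverage C.g
      (Opposite.op U) x hg
    have : Epi (kernel.lift C.g C.f C.zero) := (ShortComplex.exact_iff_epi_kernel_lift C).mp hC
    obtain ⟨T, hT, hTz⟩ := Groth.Agent.Lib.Seat39.EpiLoc.epi_locally_surjective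
      (BigSite.ORing Scheme.fppfPrecoverage S) (kernel.lift C.g C.f C.zero) U k
    obtain ⟨P, hP, hPT⟩ := Groth.Agent.Lib.Seat39.EpiLoc.exists_fppf_cover_le T hT
    refine Groth.Agent.Lib.Seat39.EpiLoc.eq_zero_of_cover Scheme.fppfPrecoverage C.X₂ x P hP ?_
    intro V g hPg
    obtain ⟨z, hz⟩ := hTz _ (hPT g hPg)
    have hflat : Flat g := Groth.Agent.Lib.Seat39.EpiLoc.flat_of_mem_fppf hP hPg
    have hflat' : Flat (g ≫ U.hom) := by
      have := hflat
      have := hU
      infer_instance
    have hz0 : z = 0 := by
      have := p₁ (Over.mk (g ≫ U.hom)) hflat'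
      exact Subsingleton.elim _ _
    rw [hz0, map_zero] at hz
    rw [← hk, ← Groth.Agent.Lib.Seat39.MVF.ap_mp, ← hz, map_zero]
  exact ⟨fun x y => (key x).trans (key y).symm⟩

end Groth.Agent.S8784
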