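import Groth.Statements.S8788
import Groth.Agent.Lib.Seat39CechModel
import Groth.Agent.Lib.Seat39OverPower
import Groth.Agent.Lib.Seat39AdeqAmitsur
import Groth.Agent.Lib.Seat39ShfColim

set_option autoImplicit false
universe u
open CategoryTheory Limits AlgebraicGeometry
open Adeq

namespace Groth.Agent.S8788

/-- For an adequate `O`-module `M` on the big fppf site of `S`, an affine object `Spec R → S` and a
faithfully flat `R`-algebra `B`, the Cech complex of `M` for the single covering map `Spec B → Spec
R`, whose degree-`n` term is `M` of the `(n+1)`-fold fibre product of `Spec B` over `Spec R` (the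
spectrum of the `(n+1)`-fold tensor power of `B` over `R`) and whose differential is the alternating
sum of the coface maps, is exact in every degree `n ≥ 1`. (Exactness of the extended complex at its
first two terms, namely that `M(Spec R)` maps isomorphically onto the kernel of the first
differential, is a separate statement and not part of this row; in degree `0` the complex without
its first term `M(Spec R)` need not be exact.) -/
theorem result (S : Scheme.{u}) (M : BigSite.Mod Scheme.fppfPrecoverage S)
    (hM : Adeq.adequateMod Scheme.fppfPrecoverage S M) (R : CommRingCat.{u}) (a : Spec R ⟶ S)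
    (B : Type u) [CommRing B] [Algebra R B] [Module.FaithfullyFlat R B] (n : ℕ) (hn : 0 < n) :
    ((cechComplexFunctor (A := AddCommGrpCat.{u + 1})
        (fun _ : PUnit.{u + 2} => (Over.mk (Spec.map (CommRingCat.ofHom (algebraMap R B))) : Over (Spec R)))).obj
      ((Over.map a).op ⋙ ((BigSite.toAbMod Scheme.fppfPrecoverage S).obj M).obj)).ExactAt n := by
  obtain ⟨m, rfl⟩ : ∃ m, n = m + 1 := ⟨n - 1, by omega⟩
  have hF : adequate R ((toMVF Scheme.fppfPrecoverage a).obj M) :=
    Groth.Agent.Lib.Seat39.ShfColim.adequate_of_adequateMod_fppf M hM R a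
  have hB : ∀ k : ℕ,
      AddCommGrpCat.Hom.hom (Groth.Agent.Lib.Seat39.CechModel.DP
        ((Over.map a).op ⋙ ((BigSite.toAbMod Scheme.fppfPrecoverage S).obj M).obj)
        (Groth.Agent.Lib.Seat39.OverPower.W R B) (Groth.Agent.Lib.Seat39.OverPower.dW R B) k) =
      Groth.Agent.Lib.Seat39.AdeqAmitsur.DF B ((toMVF Scheme.fppfPrecoverage a).obj M) (k + 1) := by
    intro k
    unfold Groth.Agent.Lib.Seat39.CechModel.DP Groth.Agent.Lib.Seat39.AdeqAmitsur.DF
    refine (map_sum AddCommGrpCat.homAddEquiv _ _).trans ?_
    apply Finset.sum_congr rfl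
    intro i _
    rfl
  refine Groth.Agent.Lib.Seat39.CechModel.exactAt_of_model
    ((Over.map a).op ⋙ ((BigSite.toAbMod Scheme.fppfPrecoverage S).obj M).obj)
    (Groth.Agent.Lib.Seat39.OverPower.W R B) (Groth.Agent.Lib.Seat39.OverPower.pr R B)
    (Groth.Agent.Lib.Seat39.OverPower.isLimitW R B) (Groth.Agent.Lib.Seat39.OverPower.dW R B)
    (Groth.Agent.Lib.Seat39.OverPower.dW_pr R B) m ?_
  intro y hy
  rw [hB] at hy
  obtain ⟨x, hx⟩ := Groth.Agent.Lib.Seat39.AdeqAmitsur.adequate_exact B
    ((toMVF Scheme.fppfPrecoverage a).obj M) hF (m + 1) y hy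
  refine ⟨x, ?_⟩
  rw [hB]
  exact hx

end Groth.Agent.S8788
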