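import Groth.Statements.S8833
import Groth.Agent.Lib.Seat40GradedPolyMod

set_option autoImplicit false
universe u
open scoped BigOperators TensorProduct
open LocCoh

namespace Groth.Agent.S8833

section Aux
variable {A : Type u} [CommRing A] {r : ℕ} (J : Ideal A)
  (B : Type u) [CommRing B] [Algebra A B] (N : Type u) [AddCommGroup N] [Module B N]
  (Φn : A → MvPolynomial (Fin r) A)

lemma smul_eq_C_smul (b : B) (y : MvPolynomial (Fin r) B ⊗[B] N) :
    b • y = (MvPolynomial.C b : MvPolynomial (Fin r) B) • y := by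
  induction y using TensorProduct.induction_on with
  | zero => simp
  | tmul p x =>
    rw [TensorProduct.smul_tmul', TensorProduct.smul_tmul', MvPolynomial.smul_eq_C_mul, smul_eq_mul]
  | add x y hx hy => rw [smul_add, smul_add, hx, hy]

lemma mem_smul_top_of_mem_Yspan (𝔠 : Ideal (MvPolynomial (Fin r) B))
    (hmem : ∀ g ∈ J, MvPolynomial.map (algebraMap A B) (Φn g) ∈ 𝔠)
    (Y : MvPolynomial (Fin r) B ⊗[B] N) (hY : Y ∈ Lib.Seat40.GradedPolyMod.Yspan J B N Φn) :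
    Y ∈ 𝔠 • (⊤ : Submodule (MvPolynomial (Fin r) B) (MvPolynomial (Fin r) B ⊗[B] N)) := by
  refine Submodule.span_induction (p := fun Y _ => Y ∈ 𝔠 • (⊤ : Submodule (MvPolynomial (Fin r) B)
    (MvPolynomial (Fin r) B ⊗[B] N))) ?_ ?_ ?_ ?_ hY
  · rintro _ ⟨g, hg, x, rfl⟩
    have : MvPolynomial.map (algebraMap A B) (Φn g) ⊗ₜ[B] x =
        MvPolynomial.map (algebraMap A B) (Φn g) •
          ((1 : MvPolynomial (Fin r) B) ⊗ₜ[B] x) := by
      rw [TensorProduct.smul_tmul', smul_eq_mul, mul_one]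
    rw [this]
    exact Submodule.smul_mem_smul (hmem g hg) Submodule.mem_top
  · exact Submodule.zero_mem _
  · intro x y _ _ hx hy
    exact Submodule.add_mem _ hx hy
  · intro b x _ hx
    rw [smul_eq_C_smul]
    exact Submodule.smul_mem _ _ hx

lemma smul_eq_zero_of_mem_map (ρ : A →+* MvPolynomial (Fin r) B)
    (Y : MvPolynomial (Fin r) B ⊗[B] N) (hkill : ∀ h ∈ J, ρ h • Y = 0)
    (b : MvPolynomial (Fin r) B) (hb : b ∈ Ideal.map ρ J) : b • Y = 0 := by
  refine Submodule.span_induction (p := fun b _ => b • Y = 0) ?_ ?_ ?_ ?_ hb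
  · rintro _ ⟨h, hh, rfl⟩
    exact hkill h hh
  · exact zero_smul _ _
  · intro x y _ _ hx hy
    rw [add_smul, hx, hy, add_zero]
  · intro a x _ hx
    rw [smul_eq_mul, mul_smul, hx, smul_zero]

end Aux

/-- Let A be a Noetherian ring, f_1, …, f_r ∈ A and I = (f_1, …, f_r) with cd(A, I) = 1; let c ≥ 1 and
φ_j : I^c → A be A-linear maps with x = Σ_j f_j φ_j(x) for all x ∈ I^c. Let B be a Noetherian
A-algebra and N a finite B-module. Then there is c' ≥ c with the following property. Write φ_j again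
for the restrictions of the φ_j to I^{c'} and let Φ be a graded A-algebra homomorphism from ⊕_{n ≥
0} I^{nc'} to A[T_1, …, T_r] with Φ(g) = Σ_j φ_j(g) T_j for g ∈ I^{c'} (there is exactly one; it is
encoded by functions Φ_n : A → A[T_1, …, T_r] whose values on I^{nc'} are additive, A-homogeneous,
homogeneous of degree n and multiplicative across degrees, with Φ_0 the structure map and Φ_1 as
prescribed). Then for every n there is a unique B-linear map Ψ_n from the submodule I^{nc'}N of N to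
N[T_1, …, T_r] = B[T_1, …, T_r] ⊗_B N with Ψ_n(g x) = Φ_n(g) ⊗ x for g ∈ I^{nc'} and x ∈ N; that is,
the Ψ_n form the unique graded B-module map from ⊕_n I^{nc'}N to N[T_1, …, T_r] with this property.
Moreover substituting T_j ↦ f_j after Ψ_n gives back the inclusion of I^{nc'}N into N. -/
theorem result (A : Type u) [CommRing A] [IsNoetherianRing A] (r : ℕ) (f : Fin r → A) (I : Ideal A) (hI : I = Ideal.span (Set.range f)) (h1 : LocCoh.CdLE A I 1) (h0 : ¬ LocCoh.CdLE A I 0) (c : ℕ) (hc : 1 ≤ c) (φ : Fin r → (↥(I ^ c) →ₗ[A] A)) (hφ : ∀ x : ↥(I ^ c), (x : A) = ∑ j, f j * φ j x) (B : Type u) [CommRing B] [Algebra A B] [IsNoetherianRing B] (N : Type u) [AddCommGroup N] [Module B N] [Module.Finite B N] : ∃ c' : ℕ, ∃ hcc' : c ≤ c', ∀ Φ : ℕ → A → MvPolynomial (Fin r) A, ((∀ n : ℕ, ∀ g ∈ I ^ (n * c'), ∀ h ∈ I ^ (n * c'), Φ n (g + h) = Φ n g + Φ n h) ∧ (∀ (n : ℕ) (a : A), ∀ g ∈ I ^ (n * c'), Φ n (a * g) = a • Φ n g) ∧ (∀ n :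 ℕ, ∀ g ∈ I ^ (n * c'), (Φ n g).IsHomogeneous n) ∧ (∀ n m : ℕ, ∀ g ∈ I ^ (n * c'), ∀ h ∈ I ^ (m * c'), Φ (n + m) (g * h) = Φ n g * Φ m h) ∧ (∀ a : A, Φ 0 a = MvPolynomial.C a) ∧ (∀ (g : A) (hg : g ∈ I ^ c'), Φ 1 g = ∑ j, MvPolynomial.C (φ j ⟨g, Ideal.pow_le_pow_right hcc' hg⟩) * MvPolynomial.X j)) → ∀ n : ℕ, ∃ Ψ : ↥(Submodule.span B {y : N | ∃ g ∈ I ^ (n * c'), ∃ x : N, y = algebraMap A B g • x}) →ₗ[B] (MvPolynomial (Fin r) B ⊗[B] N), (∀ (g : A) (hg : g ∈ I ^ (n * c')) (x : N), Ψ ⟨algebraMap A B g • x, Submodule.subset_span ⟨g, hg, x, rfl⟩⟩ = MvPolynomial.map (algebraMap A B) (Φ n g) ⊗ₜ[B] x) ∧ (∀ y : ↥(Submodule.span B {y : N | ∃ g ∈ I ^ (n * c'), ∃ x : N, y = algebraMap A B g • x}), TensorProduct.lift ((LinearMap.lsmul B N).comp (MvPolynomial.aeval (fun j ↦ algebraMap A B (f j))).toLinearMap) (Ψ y) = (y : N)) ∧ (∀ Ψ' : ↥(Submodule.span B {y : N | ∃ g ∈ I ^ (n * c'), ∃ x : N, y = algebraMap A B g • x}) →ₗ[B] (MvPolynomial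 (Fin r) B ⊗[B] N), (∀ (g : A) (hg : g ∈ I ^ (n * c')) (x : N), Ψ' ⟨algebraMap A B g • x, Submodule.subset_span ⟨g, hg, x, rfl⟩⟩ = MvPolynomial.map (algebraMap A B) (Φ n g) ⊗ₜ[B] x) → Ψ' = Ψ) := by
  classical
  -- the ideal of `B[T]` generated by `I`
  let ρ : A →+* MvPolynomial (Fin r) B := (MvPolynomial.C).comp (algebraMap A B)
  obtain ⟨m₀, hm₀⟩ := Lib.Seat40.GradedPolyMod.exists_pow_smul_top_inf_torsion_eq_bot
    (Ideal.map ρ I) (MvPolynomial (Fin r) B ⊗[B] N)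
  refine ⟨c + m₀, Nat.le_add_right c m₀, ?_⟩
  rintro Φ ⟨hadd, hsmul, -, hmul, hΦ0, hΦ1⟩ n
  have hcc' : c ≤ c + m₀ := Nat.le_add_right c m₀
  -- the restricted maps
  let φ' : Fin r → (↥(I ^ (c + m₀)) →ₗ[A] A) := fun j =>
    (φ j).comp (Submodule.inclusion (Ideal.pow_le_pow_right hcc'))
  have hφ' : ∀ x : ↥(I ^ (c + m₀)), (x : A) = ∑ j, f j * φ' j x := fun x =>
    hφ (Submodule.inclusion (Ideal.pow_le_pow_right hcc') x)
  have hΦeq : ∀ (k : ℕ) {g : A}, g ∈ I ^ (k * (c + m₀)) →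
      Φ k g = Lib.Seat40.GradedPoly.Phi I (c + m₀) φ' k g :=
    Lib.Seat40.GradedPoly.Phi_unique I (c + m₀) φ' Φ hadd hmul hΦ0 (fun g hg => hΦ1 g hg)
  have hdrop : ∀ (j : Fin r) (e : ℕ) (g : A), g ∈ I ^ (e + (c + m₀)) →
      Lib.Seat40.GradedPoly.phi' I (c + m₀) φ' j g ∈ I ^ (e + m₀) := by
    intro j e g hg
    have hgc' : g ∈ I ^ (c + m₀) := Ideal.pow_le_pow_right (Nat.le_add_left _ _) hg
    have hgc : g ∈ I ^ c := Ideal.pow_le_pow_right hcc' hgc'
    have e1 : Lib.Seat40.GradedPoly.phi' I (c + m₀) φ' j g =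
        Lib.Seat40.GradedPoly.phi' I c φ j g := by
      rw [Lib.Seat40.GradedPoly.phi'_of_mem I (c + m₀) φ' j hgc',
        Lib.Seat40.GradedPoly.phi'_of_mem I c φ j hgc]
      rfl
    rw [e1]
    apply Lib.Seat40.GradedPoly.phi'_mem I c φ j
    have : e + (c + m₀) = e + m₀ + c := by ring
    rwa [this] at hg
  apply Lib.Seat40.GradedPolyMod.exists_Psi f (I ^ (n * (c + m₀))) B N (Φ n)
  · -- symmetry
    intro g hg h hh
    rw [← hsmul n h g hg, ← hsmul n g h hh, mul_comm]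
  · -- aeval
    intro g hg
    rw [hΦeq n hg]
    exact Lib.Seat40.GradedPoly.Phi_aeval I (c + m₀) φ' f hφ' n hg
  · -- kernel condition
    intro Y hY hkill
    rcases Nat.eq_zero_or_pos n with hn | hn
    · subst hn
      have h1 := hkill 1 (by rw [Nat.zero_mul, pow_zero, Ideal.one_eq_top]; exact Submodule.mem_top)
      rwa [map_one, map_one, one_smul] at h1
    · apply hm₀ Y
      · -- `Y ∈ 𝔟^m₀ • ⊤`
        apply mem_smul_top_of_mem_Yspan (I ^ (n * (c + m₀))) B N (Φ n) _ _ Y hY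
        intro g hg
        have h1 := Lib.Seat40.GradedPolyMod.Phi_coeff_mem I (c + m₀) φ' m₀ hdrop n 0 g
          (by rwa [Nat.add_zero])
        rw [← hΦeq n hg, Nat.add_zero] at h1
        have h2 := Ideal.mem_map_of_mem (MvPolynomial.map (algebraMap A B)) h1
        rw [Ideal.map_map] at h2
        have h3 : (MvPolynomial.map (algebraMap A B)).comp
            (MvPolynomial.C : A →+* MvPolynomial (Fin r) A) = ρ := by
          ext a
          simp [ρ]
        rw [h3, Ideal.map_pow] at h2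
        have h4 : m₀ ≤ n * m₀ := Nat.le_mul_of_pos_left m₀ hn
        exact Ideal.pow_le_pow_right h4 h2
      · -- torsion
        refine ⟨n * (c + m₀), fun b hb => ?_⟩
        have hb' : b ∈ Ideal.map ρ (I ^ (n * (c + m₀))) := by
          rwa [Ideal.map_pow]
        exact smul_eq_zero_of_mem_map (I ^ (n * (c + m₀))) B N ρ Y hkill b hb'

end Groth.Agent.S8833
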