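import Groth.Statements.S8850
import Mathlib

set_option autoImplicit false
universe u
open CategoryTheory CategoryTheory.Limits AlgebraicGeometry TopologicalSpace
open SDiv

namespace Groth.Agent.S8850

/-- Let S be a scheme, X a Noetherian S-scheme, Y a proper S-scheme, U ⊆ X an open subscheme and f : U ⟶
Y a morphism compatible with the structure morphisms to S. Then there are a proper morphism p : X' ⟶
X restricting to an isomorphism over U and an S-morphism f' : X' ⟶ Y whose restriction to p⁻¹(U) is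
f composed with p. The published statement takes U dense, so that f is an S-rational map; this row
allows any open U, which its proof does not need. -/
theorem result {X Y S : Scheme.{u}} [IsNoetherian X] (a : X ⟶ S) (b : Y ⟶ S)
    [IsProper b] (U : X.Opens) (f : (U : Scheme.{u}) ⟶ Y) (hf : f ≫ b = U.ι ≫ a) :
    ∃ (X' : Scheme.{u}) (p : X' ⟶ X) (f' : X' ⟶ Y), IsProper p ∧ IsIso (p ∣_ U) ∧ f' ≫ b = p ≫ a ∧
      (p ⁻¹ᵁ U).ι ≫ f' = (p ∣_ U) ≫ f := by
  -- the graph of `f` and its scheme-theoretic image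
  let γ : (U : Scheme.{u}) ⟶ pullback a b := pullback.lift U.ι f hf.symm
  have hγ₁ : γ ≫ pullback.fst a b = U.ι := pullback.lift_fst _ _ _
  have hγ₂ : γ ≫ pullback.snd a b = f := pullback.lift_snd _ _ _
  have : NoetherianSpace ↥(U : Scheme.{u}) := inferInstanceAs (NoetherianSpace (U : Set X))
  have hqc : QuasiCompact γ := inferInstance
  let τ : (U : Scheme.{u}) ⟶ γ.image := γ.toImage
  have hτ : τ ≫ γ.imageι = γ := γ.toImage_imageι
  let p : γ.image ⟶ X := γ.imageι ≫ pullback.fst a b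
  let f' : γ.image ⟶ Y := γ.imageι ≫ pullback.snd a b
  have hp : IsProper p := inferInstance
  have hτp : τ ≫ p = U.ι := by
    change τ ≫ γ.imageι ≫ pullback.fst a b = U.ι
    rw [← Category.assoc, hτ, hγ₁]
  -- `τ` is scheme-theoretically dominant
  have hτdom : IsSchemeTheoreticallyDominant τ := by
    rw [isSchemeTheoreticallyDominant_iff]
    refine Scheme.IdealSheafData.ext_of_iSup_eq_top
      (fun W : (pullback a b).affineOpens =>
        ⟨γ.imageι ⁻¹ᵁ W.1, W.2.preimage γ.imageι⟩) ?_ ?_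
    · rw [eq_top_iff]
      intro x _
      obtain ⟨_, ⟨W, hW, rfl⟩, hxW, -⟩ :=
        (pullback a b).isBasis_affineOpens.exists_subset_of_mem_open
          (Set.mem_univ (γ.imageι x)) isOpen_univ
      exact TopologicalSpace.Opens.mem_iSup.mpr ⟨⟨W, hW⟩, hxW⟩
    · intro W
      rw [Scheme.Hom.ker_apply, Scheme.IdealSheafData.ideal_bot, Pi.bot_apply,
        ← RingHom.injective_iff_ker_eq_bot]
      exact γ.toImage_app_injective W
  -- restrict to `P = p⁻¹ U`
  set P : γ.image.Opens := p ⁻¹ᵁ U with hP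
  have htop : τ ⁻¹ᵁ P = ⊤ := by
    rw [eq_top_iff]
    intro x _
    change p (τ x) ∈ U
    rw [← Scheme.Hom.comp_apply, hτp]
    have : U.ι x ∈ Set.range U.ι := ⟨x, rfl⟩
    rwa [Scheme.Opens.range_ι] at this
  have hσdom : IsSchemeTheoreticallyDominant (τ ∣_ P) :=
    IsSchemeTheoreticallyDominant.of_isPullback (f := τ) (g := P.ι)
      (isPullback_morphismRestrict τ P).flip
  have hcomp : (τ ∣_ P) ≫ (p ∣_ U) = (τ ⁻¹ᵁ P).ι := by
    rw [← cancel_mono U.ι, Category.assoc, morphismRestrict_ι, ← Category.assoc,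
      morphismRestrict_ι, Category.assoc, hτp]
  have hι : IsIso (τ ⁻¹ᵁ P).ι :=
    isIso_of_isOpenImmersion_of_opensRange_eq_top _ (by rw [Scheme.Opens.opensRange_ι, htop])
  have hcl : IsClosedImmersion (τ ∣_ P) := by
    have : IsClosedImmersion ((τ ∣_ P) ≫ (p ∣_ U)) := by rw [hcomp]; infer_instance
    exact IsClosedImmersion.of_comp (τ ∣_ P) (p ∣_ U)
  have hσiso : IsIso (τ ∣_ P) := IsClosedImmersion.isIso_iff_ker_eq_bot.mpr (τ ∣_ P).ker_eq_bot
  have hcompiso : IsIso ((τ ∣_ P) ≫ (p ∣_ U)) := by rw [hcomp]; exact hι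
  have hq : IsIso (p ∣_ U) := IsIso.of_isIso_comp_left (τ ∣_ P) (p ∣_ U)
  refine ⟨γ.image, p, f', hp, hq, ?_, ?_⟩
  · change (γ.imageι ≫ pullback.snd a b) ≫ b = (γ.imageι ≫ pullback.fst a b) ≫ a
    rw [Category.assoc, Category.assoc, pullback.condition]
  · rw [← cancel_epi (τ ∣_ P)]
    have e1 : (τ ∣_ P) ≫ (p ⁻¹ᵁ U).ι ≫ f' = (τ ⁻¹ᵁ P).ι ≫ f := by
      change (τ ∣_ P) ≫ P.ι ≫ γ.imageι ≫ pullback.snd a b = _
      rw [← Category.assoc, morphismRestrict_ι, Category.assoc, ← Category.assoc τ, hτ, hγ₂]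
    have e2 : (τ ∣_ P) ≫ (p ∣_ U) ≫ f = (τ ⁻¹ᵁ P).ι ≫ f := by
      rw [← Category.assoc, hcomp]
    rw [e1, e2]

end Groth.Agent.S8850
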