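import Groth.Statements.S8900
import Groth.Agent.Lib.Seat64WeakAssPt
import Groth.Agent.Lib.Seat64BCWeakAss
import Groth.Agent.Lib.Helper20PullbackAff

set_option autoImplicit false
universe u
open CategoryTheory CategoryTheory.Limits AlgebraicGeometry TopologicalSpace
open SDiv

namespace Groth.Agent.S8900

open Groth.Agent.Lib.Seat64.WeakAssPt Groth.Agent.Lib.Seat64.BCWeakAss
  Groth.Agent.Lib.Helper20.PullbackAff Groth.Agent.Lib.Seat6.WeakAss
  Groth.Agent.Lib.Helper20.Thickening

/-- Let K/k be an extension of fields, X a scheme over k, F a quasi-coherent O_X-module, and y a point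
of X_K = X ×_k Spec K with image x in X. If y is weakly associated to the pullback of F to X_K, then
x is weakly associated to F. -/
theorem result (k : Type u) [Field k] (K : Type u) [Field K] [Algebra k K] (X : Scheme.{u})
    [X.Over (Spec (CommRingCat.of k))] (F : X.Modules) (hF : Coh.IsQCoh F) (y : ↥(Curv2.bc k X K))
    (hy : Curv2.IsWeakAssPoint ((Scheme.Modules.pullback (Curv2.bcFst k X K)).obj F) y) :
    Curv2.IsWeakAssPoint F (Curv2.bcFst k X K y) := by
  have : F.IsQuasicoherent := hF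
  obtain ⟨U, hU, hxU, -⟩ :=
    exists_isAffineOpen_mem_and_subset (x := Curv2.bcFst k X K y) (U := ⊤) trivial
  have hAff : IsAffineHom (Curv2.bcFst k X K) :=
    Groth.Agent.Lib.Seat64.BCPushout.isAffineHom_bcFst k K X
  have hW : IsAffineOpen ((Curv2.bcFst k X K) ⁻¹ᵁ U) := hU.preimage (Curv2.bcFst k X K)
  have h1 := (isWeakAssPoint_iff hW ((Scheme.Modules.pullback (Curv2.bcFst k X K)).obj F) y hxU).1 hy
  rw [weakAss_eq_of_linearEquiv (ΓUEquiv hW _)] at h1
  rw [weakAss_eq_of_linearEquiv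
    (ΓUFPullbackIso (Curv2.bcFst k X K) hU hW le_rfl F).toLinearEquiv] at h1
  have : (hW.primeIdealOf ⟨y, hxU⟩).asIdeal.IsPrime := (hW.primeIdealOf ⟨y, hxU⟩).2
  have h2 := comap_mem_weakAss k K X U hU ((ΓUF hU).obj F) _ h1
  rw [← weakAss_eq_of_linearEquiv (ΓUEquiv hU F)] at h2
  rw [isWeakAssPoint_iff hU F (Curv2.bcFst k X K y) hxU]
  have h3 := Groth.Agent.Lib.Helper2.Push.primeIdealOf_map (Curv2.bcFst k X K) hU hW y hxU
  rw [h3, Scheme.Hom.app_eq_appLE]
  exact h2

end Groth.Agent.S8900
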