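import Groth.Statements.S8930
import Mathlib.Algebra.Category.Ring.Epi
import Mathlib.AlgebraicGeometry.Morphisms.Flat
import Mathlib.RingTheory.IsTensorProduct
import Mathlib.Algebra.Category.Ring.Constructions
import Mathlib.AlgebraicGeometry.Pullbacks
import Mathlib.RingTheory.TensorProduct.Finite

set_option autoImplicit false
universe u
open AlgebraicGeometry
open Disc

namespace Groth.Agent.S8930

open CategoryTheory TensorProduct

section Aux

variable {R S T : Type u} [CommRing R] [CommRing S] [CommRing T] [Algebra R S] [Algebra R T]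
  [Algebra T S] [IsScalarTower R T S]

/-- the `T`-linear map `T ⊗[R] S → S`, `t ⊗ s ↦ t • s` -/
noncomputable def mu : T ⊗[R] S →ₗ[T] S :=
  AlgebraTensorModule.lift (LinearMap.restrictScalarsₗ R T S S T ∘ₗ LinearMap.lsmul T S)

omit [IsScalarTower R T S] in
lemma mu_tmul [IsScalarTower R T S] (t : T) (s : S) : mu (R := R) (t ⊗ₜ[R] s) = t • s := rfl

/-- If `R → S` is a flat epimorphism and `T ⊆ S` an intermediate ring, then `T ⊗[R] S → S` is bijective. -/
lemma bijective_mu [Module.Flat R S] [Algebra.IsEpi R S]
    (hinj : Function.Injective (algebraMap T S)) :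
    Function.Bijective (mu (R := R) (S := S) (T := T)) := by
  constructor
  · have h1 : Function.Injective ((IsScalarTower.toAlgHom R T S).toLinearMap.rTensor S) :=
      Module.Flat.rTensor_preserves_injective_linearMap _ hinj
    have h2 : Function.Injective (TensorProduct.lift (LinearMap.mul R S)) :=
      Algebra.IsEpi.injective_lift_mul
    have h3 : (mu (R := R) (S := S) (T := T)).restrictScalars R =
        (TensorProduct.lift (LinearMap.mul R S)) ∘ₗ
          ((IsScalarTower.toAlgHom R T S).toLinearMap.rTensor S) := by
      apply TensorProduct.ext'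
      intro t s
      simp [mu_tmul, Algebra.smul_def]
    have h4 : (mu (R := R) (S := S) (T := T) : T ⊗[R] S → S) =
        (TensorProduct.lift (LinearMap.mul R S)) ∘
          ((IsScalarTower.toAlgHom R T S).toLinearMap.rTensor S) := by
      ext x
      exact congrArg (fun φ => φ x) h3
    rw [h4]
    exact h2.comp h1
  · intro s
    exact ⟨1 ⊗ₜ s, by rw [mu_tmul, one_smul]⟩

lemma isPushout_of_flat_epi [Module.Flat R S] [Algebra.IsEpi R S]
    (hinj : Function.Injective (algebraMap T S)) : Algebra.IsPushout R T S S := by
  constructor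
  refine IsBaseChange.of_equiv (LinearEquiv.ofBijective mu (bijective_mu (R := R) hinj)) ?_
  intro x
  simp [mu_tmul]

lemma isOpenImmersion_of_intermediate
    (hopen : IsOpenImmersion (Spec.map (CommRingCat.ofHom (algebraMap R S))))
    (hinj : Function.Injective (algebraMap T S)) :
    IsOpenImmersion (Spec.map (CommRingCat.ofHom (algebraMap T S))) := by
  have hflat : Module.Flat R S := by
    have : Flat (Spec.map (CommRingCat.ofHom (algebraMap R S))) := inferInstance
    rw [Flat.SpecMap_iff] at this
    exact (RingHom.flat_algebraMap_iff).mp this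
  have hepi : Algebra.IsEpi R S := by
    rw [← CommRingCat.epi_iff_epi]
    have hm : Mono (Scheme.Spec.map (CommRingCat.ofHom (algebraMap R S)).op) := by
      show Mono (Spec.map (CommRingCat.ofHom (algebraMap R S)))
      infer_instance
    have hm' : Mono (CommRingCat.ofHom (algebraMap R S)).op := Functor.mono_of_mono_map Scheme.Spec hm
    exact unop_epi_of_mono (CommRingCat.ofHom (algebraMap R S)).op
  have hpo : Algebra.IsPushout R T S S := isPushout_of_flat_epi hinj
  have h1 := CommRingCat.isPushout_of_isPushout R T S S
  have h2 := isPullback_SpecMap_of_isPushout _ _ _ _ h1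
  exact MorphismProperty.of_isPullback (P := @IsOpenImmersion) h2.flip hopen

end Aux



/-- Given two factorizations A → B' → B and A → B'' → B of a ring map with A → B' and A → B'' finite and
Spec(B) → Spec(B'), Spec(B) → Spec(B'') open immersions, there is an A-subalgebra C of B which is
finite over A, contains the images of B' and B'', and is such that Spec(B) → Spec(C) is an open
immersion. (Such an A → B is quasi-finite; that hypothesis of the published statement is implied by
the factorizations and is not repeated.) -/
theorem result (A B B' B'' : Type u) [CommRing A] [CommRing B] [CommRing B'] [CommRing B''] [Algebra A B] [Algebra A B'] [Algebra A B''] [Algebra B' B] [Algebra B'' B] [IsScalarTower A B' B] [IsScalarTower A B'' B] [Module.Finite A B'] [Module.Finite A B''] (h' : IsOpenImmersion (Spec.map (CommRingCat.ofHom (algebraMap B' B)))) (h'' : IsOpenImmersion (Spec.map (CommRingCat.ofHom (algebraMap B'' B)))) : ∃ C : Subalgebra A B, Module.Finite A C ∧ Set.range (algebraMap B' B) ⊆ (C : Set B) ∧ Set.range (algebraMap B'' B) ⊆ (C : Set B) ∧ IsOpenImmersion (Spec.map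 (CommRingCat.ofHom C.val.toRingHom)) := by
  classical
  let φ : B' ⊗[A] B'' →ₐ[A] B :=
    Algebra.TensorProduct.productMap (IsScalarTower.toAlgHom A B' B) (IsScalarTower.toAlgHom A B'' B)
  have hB' : ∀ x : B', algebraMap B' B x ∈ φ.range := fun x =>
    ⟨x ⊗ₜ 1, by simp [φ]⟩
  have hB'' : ∀ x : B'', algebraMap B'' B x ∈ φ.range := fun x =>
    ⟨1 ⊗ₜ x, by simp [φ]⟩
  refine ⟨φ.range, ?_, ?_, ?_, ?_⟩
  · exact Module.Finite.of_surjective φ.rangeRestrict.toLinearMap φ.rangeRestrict_surjective
  · rintro _ ⟨x, rfl⟩
    exact hB' x
  · rintro _ ⟨x, rfl⟩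
    exact hB'' x
  · let j : B' →+* φ.range := (algebraMap B' B).codRestrict φ.range hB'
    letI : Algebra B' φ.range := j.toAlgebra
    haveI : IsScalarTower B' φ.range B := IsScalarTower.of_algebraMap_eq (fun x => rfl)
    exact isOpenImmersion_of_intermediate (R := B') (T := φ.range) (S := B) h'
      Subtype.val_injective

end Groth.Agent.S8930
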