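import Mathlib
import Groth.Prelude
import Groth.Statements.S8935
import Groth.Agent.Lib.Seat90GciOmega

set_option autoImplicit false
universe u
open Disc

namespace Groth.Agent.S8935

/-- Let k be a field and B = k[x_1, …, x_n]/(f_1, …, f_n), a global complete intersection with as many
equations as variables, of Krull dimension 0. Then ω_{B/k} = Hom_k(B, k), with B acting through the
argument, is an invertible B-module; since B is Artinian this means it is free of rank one, which is
the form stated. -/
theorem result (k : Type u) [Field k] (n : ℕ) (f : Fin n → MvPolynomial (Fin n) k) (h0 : ringKrullDim (MvPolynomial (Fin n) k ⧸ Ideal.span (Set.range f)) = 0) : Nonempty (Disc.Omega k (MvPolynomial (Fin n) k ⧸ Ideal.span (Set.range f)) ≃ₗ[MvPolynomial (Fin n) k ⧸ Ideal.span (Set.range f)] (MvPolynomial (Fin n) k ⧸ Ideal.span (Set.range f))) := by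
  classical
  have hnt : Nontrivial (MvPolynomial (Fin n) k ⧸ Ideal.span (Set.range f)) := by
    by_contra hnt
    rw [not_nontrivial_iff_subsingleton] at hnt
    rw [ringKrullDim_eq_bot_of_subsingleton] at h0
    exact absurd h0 (by decide)
  have hdim : Ring.KrullDimLE 0 (MvPolynomial (Fin n) k ⧸ Ideal.span (Set.range f)) :=
    ringKrullDimZero_iff_ringKrullDim_eq_zero.2 h0
  have hfin : Module.Finite k (MvPolynomial (Fin n) k ⧸ Ideal.span (Set.range f)) :=
    (Module.finite_iff_krullDimLE_zero k _).2 hdim
  have hart : IsArtinianRing (MvPolynomial (Fin n) k ⧸ Ideal.span (Set.range f)) :=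
    (Module.finite_iff_isArtinianRing k _).1 hfin
  have hqf : Algebra.QuasiFinite k (MvPolynomial (Fin n) k ⧸ Ideal.span (Set.range f)) :=
    inferInstance
  have hqf0 : ∀ i, Groth.Agent.Lib.Seat90.GciOmega.qq f (f i) = 0 := fun i =>
    Ideal.Quotient.eq_zero_iff_mem.2 (Ideal.subset_span ⟨i, rfl⟩)
  obtain ⟨c, hc, -⟩ := Groth.Agent.Lib.Seat90.S2210Aux.exists_matrix
    (Groth.Agent.Lib.Seat90.GciOmega.qq f) f hqf0
  have h1 := Groth.Agent.Lib.Seat90.GciOmega.exists_theta_eq_one f c hc
  have hbij := Groth.Agent.Lib.Seat90.OmegaFrob.thetaOf_bijective _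
    (Groth.Agent.Lib.Seat90.GciOmega.casimir_mem f c hc) h1
  exact ⟨LinearEquiv.ofBijective _ hbij⟩

end Groth.Agent.S8935
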