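import Groth.Statements.S8954
import Groth.Agent.Lib.Seat56SqArt
import Groth.Agent.Lib.Seat56SqLift
import Groth.Agent.Lib.Seat56RelGCI5

set_option autoImplicit false
universe u
open Synt

namespace Groth.Agent.S8954

open Groth.Agent.Lib.Seat56.SqPres Groth.Agent.Lib.Seat56.SqArt Groth.Agent.Lib.Seat56.SqLift
open scoped TensorProduct

/-- Being syntomic is invariant under algebra isomorphisms. -/
theorem isSyntomic_of_algEquiv {R S S' : Type u} [CommRing R] [CommRing S] [CommRing S']
    [Algebra R S] [Algebra R S'] (e : S ≃ₐ[R] S') (h : Synt.IsSyntomic R S) :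
    Synt.IsSyntomic R S' := by
  obtain ⟨hflat, hfp, hfib⟩ := h
  refine ⟨Module.Flat.of_linearEquiv e.toLinearEquiv.symm, Algebra.FinitePresentation.equiv e,
    fun p => ?_⟩
  exact Groth.Agent.Lib.Seat41.SyntLocal.isLCIOver_of_algEquiv p.asIdeal.ResidueField _ _
    (Algebra.TensorProduct.congr AlgEquiv.refl e) (hfib p)


/-- The equivalence of being finite syntomic with having a square presentation, stated over a local
base. For a local ring A and a finite A-algebra B, the map A → B is syntomic if and only if B ≅
A[x_1, …, x_n]/(f_1, …, f_n) as A-algebras for some n and f_1, …, f_n ∈ A[x_1, …, x_n]. (The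
published statement is for a finite morphism of schemes and asserts such a presentation over some
affine open neighbourhood of each point of the base; over a local base that neighbourhood is the
whole spectrum.) -/
theorem result (A B : Type u) [CommRing A] [IsLocalRing A] [CommRing B] [Algebra A B] [Module.Finite A B] : Synt.IsSyntomic A B ↔ ∃ (n : ℕ) (F : Fin n → MvPolynomial (Fin n) A), Nonempty (B ≃ₐ[A] Synt.RelGCIRing A n n F) := by
  constructor
  · rintro ⟨hflat, hfp, hfib⟩
    have hmax : (IsLocalRing.closedPoint A).asIdeal.IsMaximal :=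
      IsLocalRing.maximalIdeal.isMaximal A
    have hK : Function.Surjective
        (algebraMap A (IsLocalRing.closedPoint A).asIdeal.ResidueField) :=
      Ideal.algebraMap_residueField_surjective _
    have hS : IsSq (IsLocalRing.closedPoint A).asIdeal.ResidueField
        ((IsLocalRing.closedPoint A).asIdeal.ResidueField ⊗[A] B) :=
      isSq_of_isLCIOver _ _ (hfib (IsLocalRing.closedPoint A))
    exact (isSq_of_fibre hK hS).exists_fin
  · rintro ⟨n, F, ⟨e⟩⟩
    have hfin : Module.Finite A (Synt.RelGCIRing A n n F) :=
      Module.Finite.equiv e.toLinearEquiv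
    have hrel : Synt.IsRelGCI A n n F := by
      intro p hp
      refine ⟨le_rfl, ?_⟩
      have : Ring.KrullDimLE 0 (p.asIdeal.Fiber (Synt.RelGCIRing A n n F)) :=
        ((isArtinianRing_iff_isNoetherianRing_krullDimLE_zero
          (R := p.asIdeal.Fiber (Synt.RelGCIRing A n n F))).mp
          (IsArtinianRing.of_finite p.asIdeal.ResidueField _)).2
      rw [Nat.sub_self, Nat.cast_zero]
      exact ringKrullDimZero_iff_ringKrullDim_eq_zero.mp this
    exact isSyntomic_of_algEquiv e.symm
      (Groth.Agent.Lib.Seat56.RelGCI.isSyntomic_of_isRelGCI hrel)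

end Groth.Agent.S8954
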