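import Groth.Statements.S8960
import Mathlib.RingTheory.Flat.EquationalCriterion
import Mathlib.RingTheory.Finiteness.Projective
import Mathlib.RingTheory.Localization.Module
import Mathlib.Algebra.Module.LocalizedModule.IsLocalization
import Mathlib.LinearAlgebra.Trace
import Mathlib.RingTheory.Trace.Defs
import Mathlib.Algebra.Module.FinitePresentation

set_option autoImplicit false
universe u
open QFDual

namespace Groth.Agent.S8960

/-- Suppose the Dedekind different of A → B is defined: A is Noetherian, B is a finite A-algebra,
nonzerodivisors of A are nonzerodivisors on B, and with K = Q(A) the total ring of fractions and L =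
B ⊗_A K the map K → L is étale (here with L finite free over K). If A → B is flat, then
Trace_{L/K}(b) lies in A for every b ∈ B; equivalently 1 ∈ 𝓛_{B/A}, the Dedekind complementary
module. -/
theorem result (A K B L : Type u) [CommRing A] [CommRing K] [CommRing B] [CommRing L] [Algebra A K] [Algebra A B] [Algebra B L] [Algebra K L] [Algebra A L] [IsScalarTower A K L] [IsScalarTower A B L] (h : QFDual.IsDedekindDefined A K B L) [Module.Flat A B] : (1 : L) ∈ QFDual.complementary A K B L := by
  classical
  obtain ⟨hfr, hloc, hnoeth, hfin, -, -, hfree, hfinKL⟩ := h
  intro b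
  have := hfr
  have := hloc
  have := hnoeth
  have := hfin
  have := hfree
  have := hfinKL
  let S : Submonoid A := nonZeroDivisors A
  let fL : B →ₗ[A] L := (IsScalarTower.toAlgHom A B L).toLinearMap
  have : IsLocalizedModule S fL := inferInstance
  have : IsLocalizedModule S (Algebra.linearMap A K) := inferInstance
  have : Module.FinitePresentation A B := Module.finitePresentation_of_finite A B
  have : Module.Projective A B := Module.Flat.projective_of_finitePresentation
  obtain ⟨n, p, i, -, -, hpi⟩ := Module.Finite.exists_comp_eq_id_of_projective A B
  -- coordinates and the dual basis identity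
  let ik : Fin n → (B →ₗ[A] A) := fun k => (LinearMap.proj k) ∘ₗ i
  let bk : Fin n → B := fun k => p (Pi.single k 1)
  have hdual : ∀ x : B, x = ∑ k, ik k x • bk k := by
    intro x
    have h1 : i x = ∑ k, (i x) k • (Pi.single k (1 : A) : Fin n → A) := by
      ext j
      simp [Finset.sum_apply, Pi.single_apply]
    have h2 : p (i x) = x := by
      have := congrArg (fun φ => φ x) hpi
      simpa using this
    conv_lhs => rw [← h2, h1, map_sum]
    refine Finset.sum_congr rfl fun k _ => ?_
    rw [map_smul]
    rfl
  -- localize the coordinate functionals
  let ψ : Fin n → (L →ₗ[K] K) := fun k =>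
    IsLocalizedModule.mapExtendScalars S fL (Algebra.linearMap A K) K (ik k)
  have hψ : ∀ (k : Fin n) (x : B), ψ k (algebraMap B L x) = algebraMap A K (ik k x) := by
    intro k x
    have := IsLocalizedModule.map_apply S fL (Algebra.linearMap A K) (ik k) x
    simpa [ψ, fL] using this
  let β : Fin n → L := fun k => algebraMap B L (bk k)
  have hdualL : ∀ x : L, x = ∑ k, ψ k x • β k := by
    have heq : (LinearMap.id : L →ₗ[A] L) =
        ∑ k, ((ψ k).restrictScalars A).smulRight (β k) := by
      apply IsLocalizedModule.linearMap_ext S fL fL
      ext x
      simp only [LinearMap.coe_comp, Function.comp_apply, LinearMap.id_coe, id_eq,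
        LinearMap.coe_sum, Finset.sum_apply, LinearMap.smulRight_apply,
        LinearMap.coe_restrictScalars]
      show algebraMap B L x = ∑ k, ψ k (algebraMap B L x) • β k
      conv_lhs => rw [hdual x, map_sum]
      refine Finset.sum_congr rfl fun k _ => ?_
      rw [hψ, algebraMap_smul, Algebra.smul_def, map_mul, ← IsScalarTower.algebraMap_apply A B L,
        Algebra.smul_def]
    intro x
    have := congrArg (fun φ => φ x) heq
    simpa using this
  -- multiplication by `b` as a sum of rank one operators
  have hmul : Algebra.lmul K L (algebraMap B L b) =
      ∑ k, (ψ k).smulRight (algebraMap B L b * β k) := by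
    ext x
    simp only [LinearMap.coe_sum, Finset.sum_apply, LinearMap.smulRight_apply]
    show algebraMap B L b * x = _
    conv_lhs => rw [hdualL x, Finset.mul_sum]
    refine Finset.sum_congr rfl fun k _ => ?_
    rw [mul_smul_comm]
  show Algebra.trace K L (1 * algebraMap B L b) ∈ (algebraMap A K).range
  rw [one_mul, Algebra.trace_apply, hmul, map_sum]
  refine ⟨∑ k, ik k (b * bk k), ?_⟩
  rw [map_sum]
  refine Finset.sum_congr rfl fun k _ => ?_
  rw [LinearMap.trace_smulRight, ← map_mul, hψ]

end Groth.Agent.S8960
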