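import Groth.Statements.S8971
import Groth.Agent.Lib.Seat86QFAss
import Groth.Agent.S2218

set_option autoImplicit false
universe u
open TensorProduct
open QFDual

namespace Groth.Agent.S8971

/-- Let A → B be a quasi-finite homomorphism of Noetherian rings, presented by writing it as a composite
A → B' → B, where the map A → B' is finite and the induced morphism Spec B → Spec B' is an open
immersion, so that ω_{B/A} = B ⊗_{B'} Hom_A(B', A) (B' acting on Hom_A(B', A) through the argument).
Then Ass_B(ω_{B/A}) is the set of primes of B whose preimage in A is an associated prime of A. -/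
theorem result (A B' B : Type u) [CommRing A] [CommRing B'] [CommRing B] [IsNoetherianRing A] [IsNoetherianRing B] [Algebra A B'] [Algebra B' B] [Algebra A B] [IsScalarTower A B' B] (hf : QFDual.IsQFFactor A B' B) : associatedPrimes B (QFDual.omega A B' B) = {q : Ideal B | q.IsPrime ∧ q.comap (algebraMap A B) ∈ associatedPrimes A A} := by
  have hfin : Module.Finite A B' := hf.finite
  have : Algebra.FiniteType A B' := inferInstance
  have : IsNoetherianRing B' := Algebra.FiniteType.isNoetherianRing A B'
  have hS := Groth.Agent.S2218.result (A := A) (B := B')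
  have hcomap : ∀ q : Ideal B, (q.comap (algebraMap B' B)).comap (algebraMap A B') =
      q.comap (algebraMap A B) := by
    intro q
    rw [Ideal.comap_comap, ← IsScalarTower.algebraMap_eq]
  ext q
  constructor
  · intro hq
    have hqp : q.IsPrime := (AssociatedPrimes.mem_iff.mp hq).isPrime
    have hψ := Groth.Agent.Lib.Seat86.QFAss.localRingHom_bijective_of_isOpenImmersion
      (algebraMap B' B) hf.isOpenImmersion q
    have h1 := (Groth.Agent.Lib.Seat86.QFAss.mem_associatedPrimes_baseChange_iff
      (R := B') (S := B) (Disc.Omega A B') q hψ).mp hq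
    rw [hS] at h1
    refine ⟨hqp, ?_⟩
    rw [← hcomap]
    exact h1.2
  · rintro ⟨hqp, hq⟩
    have := hqp
    have hψ := Groth.Agent.Lib.Seat86.QFAss.localRingHom_bijective_of_isOpenImmersion
      (algebraMap B' B) hf.isOpenImmersion q
    refine (Groth.Agent.Lib.Seat86.QFAss.mem_associatedPrimes_baseChange_iff
      (R := B') (S := B) (Disc.Omega A B') q hψ).mpr ?_
    rw [hS]
    refine ⟨Ideal.comap_isPrime _ _, ?_⟩
    rw [hcomap]
    exact hq

end Groth.Agent.S8971
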