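import Groth.Statements.S8972
import Mathlib

set_option autoImplicit false
open Synt

namespace Groth.Agent.S8972

section aux
open MvPolynomial
variable {n d : ℕ}

/-- the zero exponent index -/
def zeroIdx : UnivIdx n d := ⟨fun _ => 0, by simp⟩

theorem zeroIdx_exponent : (zeroIdx : UnivIdx n d).exponent = 0 := by
  ext j
  simp [UnivIdx.exponent, zeroIdx]

variable (n d) in
/-- the variables of the polynomial ring `B` is isomorphic to -/
abbrev Var : Type := {p : Fin n × UnivIdx n d // p.2 ≠ zeroIdx} ⊕ Fin n

variable (n d) in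
abbrev R' : Type := MvPolynomial (Var n d) ℤ

/-- the monomial `x^E` in `R'` -/
noncomputable def xmon (E : UnivIdx n d) : R' n d :=
  E.exponent.prod (fun j k => (X (Sum.inr j) : R' n d) ^ k)

theorem xmon_zero : xmon (zeroIdx : UnivIdx n d) = 1 := by
  unfold xmon; rw [zeroIdx_exponent]; simp

/-- `g'_i = Σ_{E ≠ 0} a_{i,E} x^E` -/
noncomputable def g' (i : Fin n) : R' n d :=
  ∑ E : UnivIdx n d, if h : E = zeroIdx then 0 else X (Sum.inl ⟨(i, E), h⟩) * xmon E

noncomputable def alpha0 : UnivBase n d →+* R' n d :=
  eval₂Hom (Int.castRingHom (R' n d))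
    (fun p => if h : p.2 = zeroIdx then - g' p.1 else X (Sum.inl ⟨p, h⟩))

noncomputable def alpha1 : MvPolynomial (Fin n) (UnivBase n d) →+* R' n d :=
  eval₂Hom alpha0 (fun j => X (Sum.inr j))

theorem alpha1_univPoly (i : Fin n) : alpha1 (univPoly n d i) = 0 := by
  unfold univPoly
  rw [map_sum]
  have : ∀ E : UnivIdx n d, alpha1 (monomial E.exponent (X (i, E) : UnivBase n d)) =
      (if E = zeroIdx then - g' i else 0) +
        (if h : E = zeroIdx then 0 else X (Sum.inl ⟨(i, E), h⟩) * xmon E) := by
    intro E
    unfold alpha1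
    rw [coe_eval₂Hom, eval₂_monomial]
    unfold alpha0
    rw [coe_eval₂Hom, eval₂_X]
    by_cases h : E = zeroIdx
    · subst h
      simp [zeroIdx_exponent]
    · simp only [h, dif_neg, if_false, not_false_eq_true, zero_add]
      rfl
  simp only [this]
  rw [Finset.sum_add_distrib, Finset.sum_ite_eq' Finset.univ zeroIdx]
  simp only [Finset.mem_univ, if_true]
  exact neg_add_cancel _


/-- `B → R'` -/
noncomputable def alphaBar : UnivAlg n d →+* R' n d :=
  Ideal.Quotient.lift _ (alpha1 (n := n) (d := d)) (by
    intro a ha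
    have hle : Ideal.span (Set.range (univPoly n d)) ≤ RingHom.ker (alpha1 (n := n) (d := d)) := by
      rw [Ideal.span_le]
      rintro _ ⟨i, rfl⟩
      exact alpha1_univPoly i
    exact hle ha)

/-- the quotient map -/
noncomputable def mkB : MvPolynomial (Fin n) (UnivBase n d) →+* UnivAlg n d :=
  Ideal.Quotient.mk (univIdeal n d)

theorem alphaBar_mkB (p : MvPolynomial (Fin n) (UnivBase n d)) : alphaBar (mkB p) = alpha1 p :=
  Ideal.Quotient.lift_mk _ _ _

theorem mkB_univPoly (i : Fin n) : mkB (univPoly n d i) = 0 :=
  Ideal.Quotient.eq_zero_iff_mem.2 (Ideal.subset_span ⟨i, rfl⟩)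

/-- `R' → B` -/
noncomputable def beta : R' n d →+* UnivAlg n d :=
  eval₂Hom (Int.castRingHom (UnivAlg n d))
    (Sum.elim (fun p => mkB (C (X p.1))) (fun j => mkB (X j)))

theorem alphaBar_beta : (alphaBar (n := n) (d := d)).comp beta = RingHom.id _ := by
  apply MvPolynomial.ringHom_ext
  · intro z
    simp
  · rintro (⟨p, hp⟩ | j)
    · simp only [RingHom.comp_apply, RingHom.id_apply, beta, coe_eval₂Hom, eval₂_X, Sum.elim_inl]
      rw [alphaBar_mkB]
      unfold alpha1
      rw [coe_eval₂Hom, eval₂_C]
      unfold alpha0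
      rw [coe_eval₂Hom, eval₂_X, dif_neg hp]
    · simp only [RingHom.comp_apply, RingHom.id_apply, beta, coe_eval₂Hom, eval₂_X, Sum.elim_inr]
      rw [alphaBar_mkB]
      unfold alpha1
      rw [coe_eval₂Hom, eval₂_X]

theorem beta_xmon (E : UnivIdx n d) :
    beta (xmon E) = E.exponent.prod (fun j k => (mkB (X j) : UnivAlg n d) ^ k) := by
  unfold xmon
  rw [map_finsuppProd]
  congr 1
  ext j k
  rw [map_pow]
  congr 1
  simp [beta]

theorem mkB_monomial (E : UnivIdx n d) (i : Fin n) :
    mkB (monomial E.exponent (X (i, E) : UnivBase n d)) =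
      mkB (C (X (i, E))) * E.exponent.prod (fun j k => (mkB (X j) : UnivAlg n d) ^ k) := by
  rw [monomial_eq, map_mul, map_finsuppProd]
  simp only [map_pow]

theorem beta_g' (i : Fin n) : beta (g' (n := n) (d := d) i) = - mkB (C (X (i, zeroIdx))) := by
  have h0 := mkB_univPoly (n := n) (d := d) i
  unfold univPoly at h0
  rw [map_sum] at h0
  have h1 : ∀ E : UnivIdx n d, mkB (monomial E.exponent (X (i, E) : UnivBase n d)) =
      (if E = zeroIdx then mkB (C (X (i, zeroIdx))) else 0) +
        beta (if h : E = zeroIdx then 0 else X (Sum.inl ⟨(i, E), h⟩) * xmon E) := by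
    intro E
    by_cases h : E = zeroIdx
    · subst h
      rw [mkB_monomial, zeroIdx_exponent]
      simp
    · rw [mkB_monomial, if_neg h, dif_neg h, zero_add, map_mul, beta_xmon]
      congr 1
      simp [beta]
  simp only [h1] at h0
  rw [Finset.sum_add_distrib, Finset.sum_ite_eq' Finset.univ zeroIdx] at h0
  simp only [Finset.mem_univ, if_true] at h0
  unfold g'
  rw [map_sum]
  exact eq_neg_of_add_eq_zero_right h0

theorem beta_alpha1 : (beta (n := n) (d := d)).comp alpha1 = mkB := by
  apply MvPolynomial.ringHom_ext
  · intro a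
    simp only [RingHom.comp_apply, alpha1, coe_eval₂Hom, eval₂_C]
    revert a
    have : (beta (n := n) (d := d)).comp alpha0 = mkB.comp C := by
      apply MvPolynomial.ringHom_ext
      · intro z; simp
      · intro p
        simp only [RingHom.comp_apply, alpha0, coe_eval₂Hom, eval₂_X]
        by_cases h : p.2 = zeroIdx
        · rw [dif_pos h, map_neg, beta_g', neg_neg]
          obtain ⟨i, E⟩ := p
          simp only at h
          subst h
          rfl
        · rw [dif_neg h]
          simp [beta]
    intro a
    exact RingHom.congr_fun this a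
  · intro j
    simp [alpha1, beta]

theorem beta_alphaBar : (beta (n := n) (d := d)).comp alphaBar = RingHom.id _ := by
  apply RingHom.ext
  intro x
  obtain ⟨p, rfl⟩ := Ideal.Quotient.mk_surjective x
  exact RingHom.congr_fun beta_alpha1 p

/-- the isomorphism -/
noncomputable def equiv : UnivAlg n d ≃+* R' n d :=
  RingEquiv.ofRingHom (alphaBar (n := n) (d := d)) (beta (n := n) (d := d)) alphaBar_beta beta_alphaBar


theorem main : IsDomain (UnivAlg n d) ∧
    ∀ q : PrimeSpectrum (UnivAlg n d), IsRegularLocalRing (Localization.AtPrime q.asIdeal) := by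
  haveI : IsRegularRing (R' n d) := inferInstance
  haveI : IsRegularRing (UnivAlg n d) := IsRegularRing.of_ringEquiv (equiv (n := n) (d := d)).symm
  refine ⟨(equiv (n := n) (d := d)).toMulEquiv.isDomain (R' n d), ?_⟩
  intro q
  infer_instance

end aux

/-- Let n, d ≥ 1 and let B = A[x_1, …, x_n]/(f_1, …, f_n) be the universal algebra over A = ℤ[a_{i,E}],
f_i = Σ_E a_{i,E} x^E summed over exponent vectors E with |E| ≤ d. Then B is an integral domain and
every localization of B at a prime ideal is a regular local ring. (The published statement says that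
X_{n,d} = Spec A and the quasi-finite locus Y_{n,d} ⊆ Spec B are regular and irreducible; for A, a
polynomial ring over ℤ, this is standard, and for the open Y_{n,d} it follows from the assertion
about all of Spec B made here, which is what the printed argument shows. The published statement
also asserts that Y_{n,d} → X_{n,d} is locally quasi-finite and syntomic, an instance of the general
characterisation of quasi-finite syntomic maps; that clause is not part of this row.) -/
theorem result (n d : ℕ) (hn : 1 ≤ n) (hd : 1 ≤ d) : IsDomain (Synt.UnivAlg n d) ∧ ∀ q : PrimeSpectrum (Synt.UnivAlg n d), IsRegularLocalRing (Localization.AtPrime q.asIdeal) := by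
  exact main

end Groth.Agent.S8972
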