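import Groth.Statements.S8973
import Groth.Agent.Lib.Seat3EtaleLift

set_option autoImplicit false
open Synt

namespace Groth.Agent.S8973

section aux
open MvPolynomial
variable (n d : ℕ)

/-- the quotient ring underlying `UnivAlg` -/
abbrev Q : Type := UnivAlg n d

variable {n d}

/-- the unit-vector index `e_i` -/
def unitIdx (hd : 1 ≤ d) (i : Fin n) : UnivIdx n d :=
  ⟨fun j => if j = i then ⟨1, by omega⟩ else ⟨0, by omega⟩, by
    have : ∀ j : Fin n, (((if j = i then (⟨1, by omega⟩ : Fin (d + 1)) else ⟨0, by omega⟩) :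
        Fin (d + 1)) : ℕ) = if j = i then 1 else 0 := by
      intro j; split_ifs <;> rfl
    simp only [this, Finset.sum_ite_eq', Finset.mem_univ, if_true]
    exact hd⟩

theorem unitIdx_exponent (hd : 1 ≤ d) (i : Fin n) :
    (unitIdx hd i).exponent = Finsupp.single i 1 := by
  ext j
  simp only [UnivIdx.exponent, unitIdx, Finsupp.coe_equivFunOnFinite_symm,
    Finsupp.single_apply]
  by_cases h : j = i
  · simp [h]
  · have : ¬ i = j := fun h' => h h'.symm
    simp [h, this]


/-- the specialization `a_{i,E} ↦ [E = e_i]` -/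
noncomputable def phi0 (hd : 1 ≤ d) : UnivBase n d →+* ℤ :=
  MvPolynomial.eval (fun p : Fin n × UnivIdx n d => if p.2 = unitIdx hd p.1 then 1 else 0)

/-- the point `a ↦ phi0 a`, `x ↦ 0` -/
noncomputable def psi0 (hd : 1 ≤ d) : MvPolynomial (Fin n) (UnivBase n d) →+* ℤ :=
  MvPolynomial.eval₂Hom (phi0 (n := n) hd) (fun _ => 0)

theorem psi0_monomial (hd : 1 ≤ d) (s : Fin n →₀ ℕ) (c : UnivBase n d) :
    psi0 hd (monomial s c) = if s = 0 then phi0 hd c else 0 := by
  unfold psi0
  rw [MvPolynomial.coe_eval₂Hom, MvPolynomial.eval₂_monomial]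
  split_ifs with h
  · subst h; simp
  · obtain ⟨k, hk⟩ : ∃ k, s k ≠ 0 := by
      by_contra hcon
      push Not at hcon
      exact h (Finsupp.ext hcon)
    rw [Finsupp.prod, Finset.prod_eq_zero (i := k) (Finsupp.mem_support_iff.2 hk)
      (zero_pow hk), mul_zero]

theorem psi0_univPoly (hd : 1 ≤ d) (i : Fin n) : psi0 hd (univPoly n d i) = 0 := by
  unfold univPoly
  rw [map_sum]
  apply Finset.sum_eq_zero
  intro E _
  rw [psi0_monomial]
  split_ifs with h
  · -- E.exponent = 0, so E ≠ unitIdx
    unfold phi0
    rw [MvPolynomial.eval_X]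
    have : E ≠ unitIdx hd i := by
      intro hE
      rw [hE, unitIdx_exponent] at h
      have := congrArg (fun f => f i) h
      simp at this
    simp [this]
  · rfl

theorem psi0_pderiv_univPoly (hd : 1 ≤ d) (i j : Fin n) :
    psi0 hd (pderiv i (univPoly n d j)) = if i = j then 1 else 0 := by
  unfold univPoly
  rw [map_sum, map_sum]
  rw [Finset.sum_eq_single (unitIdx hd j)]
  · rw [pderiv_monomial, psi0_monomial, unitIdx_exponent]
    by_cases h : i = j
    · subst h
      simp [phi0]
    · have h' : ¬ j = i := fun h' => h h'.symm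
      simp [h]
  · intro E _ hE
    rw [pderiv_monomial, psi0_monomial]
    split_ifs with h
    · rw [map_mul]
      unfold phi0
      rw [MvPolynomial.eval_X]
      simp [hE]
    · rfl
  · intro h; exact absurd (Finset.mem_univ _) h


/-- the point of `Spec B` -/
noncomputable def psi (hd : 1 ≤ d) : Q n d →+* ℤ :=
  Ideal.Quotient.lift _ (psi0 hd) (by
    intro a ha
    have hle : Ideal.span (Set.range (univPoly n d)) ≤ RingHom.ker (psi0 (n := n) hd) := by
      rw [Ideal.span_le]
      rintro _ ⟨i, rfl⟩
      exact psi0_univPoly hd i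
    exact hle ha)

/-- the naive presentation -/
noncomputable def pres : Algebra.PreSubmersivePresentation (UnivBase n d) (Q n d) (Fin n) (Fin n) :=
  Algebra.PreSubmersivePresentation.naive (v := univPoly n d) id Function.injective_id

theorem psi_jacobian (hd : 1 ≤ d) : psi hd (pres (n := n) (d := d)).jacobian = 1 := by
  classical
  rw [Algebra.PreSubmersivePresentation.jacobian_eq_jacobiMatrix_det]
  have h1 : ∀ p : MvPolynomial (Fin n) (UnivBase n d),
      psi hd (algebraMap (pres (n := n) (d := d)).Ring (Q n d) p) = psi0 hd p := by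
    intro p
    exact Ideal.Quotient.lift_mk _ _ _
  refine (h1 _).trans ?_
  rw [RingHom.map_det]
  have : (psi0 (n := n) hd).mapMatrix (pres (n := n) (d := d)).jacobiMatrix = 1 := by
    ext i j
    rw [RingHom.mapMatrix_apply, Matrix.map_apply,
      Algebra.PreSubmersivePresentation.jacobiMatrix_apply, Matrix.one_apply]
    exact psi0_pderiv_univPoly hd i j
  rw [this, Matrix.det_one]

theorem main (hd : 1 ≤ d) : ∃ q : PrimeSpectrum (Q n d),
    Algebra.QuasiFiniteAt (UnivBase n d) q.asIdeal ∧ Algebra.IsEtaleAt (UnivBase n d) q.asIdeal := by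
  let q : PrimeSpectrum (Q n d) := ⟨RingHom.ker (psi (n := n) hd), RingHom.ker_isPrime _⟩
  have hjac : (pres (n := n) (d := d)).jacobian ∉ q.asIdeal := by
    change ¬ (psi hd _ = 0)
    rw [psi_jacobian]; exact one_ne_zero
  have het : Algebra.Etale (UnivBase n d) (Localization.Away (pres (n := n) (d := d)).jacobian) :=
    Groth.Agent.Lib.Seat3.EtaleLift.etale_away_jacobian' _ rfl
  have hsub : (PrimeSpectrum.basicOpen (pres (n := n) (d := d)).jacobian : Set _) ⊆
      Algebra.etaleLocus (UnivBase n d) (Q n d) :=
    Algebra.basicOpen_subset_etaleLocus_iff.2 het.formallyEtale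
  haveI : q.asIdeal.IsPrime := q.2
  have hq : Algebra.IsEtaleAt (UnivBase n d) q.asIdeal := hsub hjac
  refine ⟨q, ?_, hq⟩
  haveI : Algebra.FiniteType (UnivBase n d) (Q n d) := (pres (n := n) (d := d)).finiteType
  haveI : Algebra.FormallyEtale (UnivBase n d) (Localization.AtPrime q.asIdeal) := hq
  change Algebra.QuasiFinite (UnivBase n d) (Localization.AtPrime q.asIdeal)
  infer_instance

end aux

/-- Let n, d ≥ 1 and let B = A[x_1, …, x_n]/(f_1, …, f_n) be the universal algebra over A = ℤ[a_{i,E}],
f_i = Σ_E a_{i,E} x^E summed over exponent vectors E with |E| ≤ d. Then there is a prime q of B at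
which B is quasi-finite over A and étale over A (that is, B_q is quasi-finite and formally étale
over A). (The published statement asserts a dense open V of the quasi-finite locus Y_{n,d} ⊆ Spec B
that is étale over Spec A; as Spec B is irreducible and the étale locus is open, that amounts to the
existence of one such point, which is what is stated here and what the printed argument exhibits.) -/
theorem result (n d : ℕ) (hn : 1 ≤ n) (hd : 1 ≤ d) : ∃ q : PrimeSpectrum (Synt.UnivAlg n d), Algebra.QuasiFiniteAt (Synt.UnivBase n d) q.asIdeal ∧ Algebra.IsEtaleAt (Synt.UnivBase n d) q.asIdeal := by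
  exact main hd

end Groth.Agent.S8973
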