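import Groth.Statements.S8979
import Groth.Agent.Lib.Seat33VSingle
-- import your own Groth.Agent.* helpers here

set_option autoImplicit false
universe u
open HTop

namespace Groth.Agent.S8979

open CategoryTheory CategoryTheory.Limits AlgebraicGeometry in
/-- A surjective proper morphism of finite presentation, as a one-member family, is an h covering of its
target. -/
theorem result {X Y : Scheme.{u}} (f : Y ⟶ X) [IsProper f] [Surjective f] [LocallyOfFinitePresentation f] : HTop.IsHCover (PreZeroHypercover.singleton.{0} f) := by
  refine ⟨fun _ => ‹LocallyOfFinitePresentation f›, ?_⟩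
  apply Groth.Agent.Lib.Seat33.VSingle.isVCover_singleton_of_hasValLift
  apply Groth.Agent.Lib.Seat33.VSingle.hasValLift_singleton_of_exists_specializes
  intro Z g z' z hz
  obtain ⟨w', hw'⟩ := (pullback.fst g f).surjective z'
  have hspec : SpecializingMap (pullback.fst g f) :=
    (pullback.fst g f).isClosedMap.specializingMap
  obtain ⟨w, hw, hwz⟩ := hspec (a := w') (b := z) (by rw [hw']; exact hz)
  exact ⟨w', w, hw, hw', hwz⟩

end Groth.Agent.S8979
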