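import Groth.Statements.S8980
import Groth.Agent.Lib.Seat40HRefine
-- import your own Groth.Agent.* helpers here

set_option autoImplicit false
universe u
open HTop

namespace Groth.Agent.S8980

open CategoryTheory CategoryTheory.Limits AlgebraicGeometry in
/-- A family of morphisms T_i → T, indexed by a type in the universe of T and all locally of finite
presentation, is an h covering if and only if the one-member family given by the induced morphism
from the coproduct of the T_i to T is an h covering. (The published statement also lists, as a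
further equivalent condition, that some h covering refines the family; that equivalence is immediate
from the definitions and is not restated here.) -/
theorem result {T : Scheme.{u}} (E : PreZeroHypercover.{u} T) (hE : ∀ i, LocallyOfFinitePresentation (E.f i)) : HTop.IsHCover E ↔ HTop.IsHCover (PreZeroHypercover.singleton.{0} (Sigma.desc E.f)) := by
  constructor
  · rintro ⟨-, hV⟩
    refine ⟨fun _ => IsZariskiLocalAtSource.sigmaDesc hE, ?_⟩
    intro U
    obtain ⟨F, hF, hFE⟩ := hV U
    refine ⟨F, hF, fun j => ?_⟩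
    obtain ⟨i, h, hh⟩ := hFE j
    refine ⟨PUnit.unit, h ≫ Sigma.ι E.X i, ?_⟩
    change (h ≫ Sigma.ι E.X i) ≫ Sigma.desc E.f = _
    rw [Category.assoc, Sigma.ι_desc, hh]
  · rintro ⟨-, hV⟩
    refine ⟨hE, ?_⟩
    intro U
    obtain ⟨F, hF, hFE⟩ := hV U
    -- the maps to the coproduct
    have hk : ∀ j, ∃ k : F.X j ⟶ ∐ E.X, k ≫ Sigma.desc E.f = F.f j ≫ (U : T.Opens).ι := by
      intro j
      obtain ⟨_, h, hh⟩ := hFE j
      exact ⟨h, hh⟩
    choose k hk using hk
    obtain ⟨F', hF', hF'P⟩ := Groth.Agent.Lib.Seat40.HRefine.exists_isStandardV_refine F hF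
      (fun j V => ∃ i : E.I₀, V ≤ (k j) ⁻¹ᵁ (Sigma.ι E.X i).opensRange) (by
        intro j x
        obtain ⟨i, y, hy⟩ := (sigmaOpenCover E.X).exists_eq (k j x)
        have hx : x ∈ (k j) ⁻¹ᵁ (Sigma.ι E.X i).opensRange := ⟨y, hy⟩
        obtain ⟨_, ⟨V, hV : IsAffineOpen V, rfl⟩, hxV, hVle⟩ :=
          (F.X j).isBasis_affineOpens.exists_subset_of_mem_open hx
            ((k j) ⁻¹ᵁ (Sigma.ι E.X i).opensRange).2
        exact ⟨V, hV, hxV, i, hVle⟩)
    refine ⟨F', hF', fun m => ?_⟩
    obtain ⟨j, V, h, ⟨i, hle⟩, hfac⟩ := hF'P m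
    have hrange : Set.range (h ≫ V.ι ≫ k j) ⊆ Set.range (Sigma.ι E.X i) := by
      rintro _ ⟨z, rfl⟩
      have : (V.ι (h z)) ∈ (k j) ⁻¹ᵁ (Sigma.ι E.X i).opensRange := hle (h z).2
      exact this
    refine ⟨i, IsOpenImmersion.lift (Sigma.ι E.X i) (h ≫ V.ι ≫ k j) hrange, ?_⟩
    rw [← Sigma.ι_desc E.f i, ← Category.assoc, IsOpenImmersion.lift_fac, Category.assoc,
      Category.assoc, hk, ← hfac, Category.assoc, Category.assoc]

end Groth.Agent.S8980
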