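import Groth.Statements.S8982
import Groth.Agent.Lib.Seat82AlmostBlowUp

set_option autoImplicit false
universe u
open HTop

namespace Groth.Agent.S8982

open CategoryTheory CategoryTheory.Limits AlgebraicGeometry in
/-- The base change of an almost blow up square along an arbitrary morphism Y → X is an almost blow up
square over Y. The base-changed corners are introduced through fibre-product squares; the morphism
from the new exceptional corner to the new centre is the one compatible with them. -/
theorem result {E Z X' X Y E₁ Z₁ X₁ : Scheme.{u}} {e : E ⟶ X'} {π : E ⟶ Z} {b : X' ⟶ X} {i : Z ⟶ X} (h : HTop.IsAlmostBlowUpSquare e π b i) (g : Y ⟶ X) {b₁ : X₁ ⟶ Y} {gX : X₁ ⟶ X'} (hX : IsPullback gX b₁ b g) {i₁ : Z₁ ⟶ Y} {gZ : Z₁ ⟶ Z} (hZ : IsPullback gZ i₁ i g) {e₁ : E₁ ⟶ X₁} {gE : E₁ ⟶ E} (hE : IsPullback gE e₁ e gX) {π₁ : E₁ ⟶ Z₁} (hπ : π₁ ≫ i₁ = e₁ ≫ b₁) : HTop.IsAlmostBlowUpSquare e₁ π₁ b₁ i₁ := by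
  open Groth.Agent.Lib.Seat82 Scheme.IdealSheafData in
  have := h.isClosedImmersion
  have := h.finitePresentation_base
  have := h.isProper
  have := h.finitePresentation
  have hi₁ : IsClosedImmersion i₁ := MorphismProperty.of_isPullback hZ h.isClosedImmersion
  have hker : i₁.ker = i.ker.comap g := by
    have e1 : hZ.flip.isoPullback.hom ≫ pullback.fst g i = i₁ := IsPullback.isoPullback_hom_fst _
    rw [← e1, Scheme.Hom.ker_comp_of_isIso, ker_fst_of_isClosedImmersion]
  have hcomap : i₁.ker.comap b₁ = (i.ker.comap b).comap gX := by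
    rw [hker, ← comap_comp, ← comap_comp, hX.w]
  have hπ' : π₁ ≫ gZ = gE ≫ π := by
    rw [← cancel_mono i, Category.assoc, Category.assoc, hZ.w, ← Category.assoc, hπ,
      Category.assoc, ← hX.w, ← Category.assoc, ← hE.w, Category.assoc, h.isPullback.w]
  have hpb : IsPullback e₁ π₁ b₁ i₁ := by
    have houter : IsPullback (π₁ ≫ gZ) e₁ i (b₁ ≫ g) := by
      rw [hπ', ← hX.w]
      exact hE.paste_horiz h.isPullback.flip
    exact (IsPullback.of_right houter hπ hZ).flip
  refine ⟨hi₁, MorphismProperty.of_isPullback hZ h.finitePresentation_base, hpb, ?_,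
    MorphismProperty.of_isPullback hX h.isProper,
    MorphismProperty.of_isPullback hX h.finitePresentation, ?_⟩
  · rw [hcomap]
    exact AlmostBlowUp.isLocPrincipal_comap _ gX h.locPrincipal
  · have key := AlmostBlowUp.isBlowUp_baseChange i.ker b h.locPrincipal h.isBlowUp g hX
    rw [← hker] at key
    exact key

end Groth.Agent.S8982
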