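import Groth.Statements.S8987
import Groth.Agent.Lib.Seat82HSquareApply
import Groth.Agent.Lib.Seat82HCover
import Groth.Agent.Lib.Helper6LfpComp
import Groth.Agent.Lib.Seat82AlmostBlowUp3

set_option autoImplicit false
universe u
open HTop

namespace Groth.Agent.S8987

open CategoryTheory CategoryTheory.Limits AlgebraicGeometry Opposite in
/-- An h sheaf on schemes over S turns every almost blow up square of S-schemes into a cartesian square
of sets of sections. -/
theorem result (S : Scheme.{u}) (F : HTop.ShH S) {E Z X' X : Over S} (e : E ⟶ X') (π : E ⟶ Z) (b : X' ⟶ X) (i : Z ⟶ X) (h : HTop.IsAlmostBlowUpSquare e.left π.left b.left i.left) (t : F.obj.obj (op Z)) (s' : F.obj.obj (op X')) (hts : F.obj.map π.op t = F.obj.map e.op s') : ∃! s : F.obj.obj (op X), F.obj.map i.op s = t ∧ F.obj.map b.op s = s' := by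
  have hP : Presieve.IsSheaf (HTop.hPrecoverage.toGrothendieck.over S) F.obj :=
    (isSheaf_iff_isSheaf_of_type _ _).1 F.property
  have : IsClosedImmersion i.left := h.isClosedImmersion
  have : LocallyOfFinitePresentation i.left := h.finitePresentation_base
  have : IsProper b.left := h.isProper
  have : LocallyOfFinitePresentation b.left := h.finitePresentation
  have : Mono i.left := inferInstance
  have hiso : IsIso (b.left ∣_ Groth.Agent.Lib.Helper20.BlowUpBasic.compl i.left.ker) :=
    Groth.Agent.Lib.Seat82.AlmostBlowUp3.isIso_morphismRestrict_of_isAlmostBlowUpSquare h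
  have hU := Groth.Agent.Lib.Seat82.AlmostBlowUp3.coe_compl_ker i.left
  have : IsClosedImmersion (pullback.diagonal b.left) := inferInstance
  have : LocallyOfFinitePresentation (pullback.diagonal b.left) :=
    Groth.Agent.Lib.Helper6.locallyOfFinitePresentation_diagonal b.left
  refine Groth.Agent.Lib.Seat82.HSquareApply.existsUnique_section HTop.hPrecoverage F.obj hP
    e π b i h.isPullback ?_ ?_ t s' hts
  · exact Groth.Agent.Lib.Seat82.HCover.two_mem_hPrecoverage b.left i.left
      (Groth.Agent.Lib.Seat82.HSquareApply.mem_range_or b.left i.left _ hU)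
  · exact Groth.Agent.Lib.Seat82.HCover.two_mem_hPrecoverage (pullback.diagonal b.left)
      (pullback.fst (pullback.fst b.left b.left ≫ b.left) i.left)
      (Groth.Agent.Lib.Seat82.HSquareApply.mem_range_diagonal_or b.left i.left _ hU)

end Groth.Agent.S8987
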