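import Groth.Statements.S8988
import Groth.Agent.Lib.Seat41Thick

set_option autoImplicit false
universe u
open HTop

namespace Groth.Agent.S8988

open CategoryTheory CategoryTheory.Limits AlgebraicGeometry Opposite in
/-- An h sheaf on schemes over S takes the same sections on an S-scheme and on any thickening of it of
finite presentation. -/
theorem result (S : Scheme.{u}) (F : HTop.ShH S) {X X' : Over S} (f : X ⟶ X') (hf : MoreMor.IsThickening f.left) [LocallyOfFinitePresentation f.left] : Function.Bijective (F.obj.map f.op) := by
  have : IsClosedImmersion f.left := hf.1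
  have : Mono f := Over.mono_of_mono_left f
  apply Groth.Agent.Lib.Seat41.Thick.bijective_map_of_mono_of_isSheafFor
  apply Groth.Agent.Lib.Seat41.Thick.isSheafFor_singleton_over HTop.hPrecoverage f _ F.obj
    ((isSheaf_iff_isSheaf_of_type _ _).1 F.property)
  exact Groth.Agent.Lib.Seat41.Thick.singleton_mem_hPrecoverage f.left hf

end Groth.Agent.S8988
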