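import Groth.Statements.S8990
import Groth.Agent.Lib.Seat82HSquareApply
import Groth.Agent.Lib.Seat82PhCover
import Groth.Agent.Lib.Seat82AlmostBlowUp3
import Groth.Agent.Lib.Seat92BlowUpProper
import Groth.Agent.Lib.Seat26IdealFT

set_option autoImplicit false
universe u
open HTop

namespace Groth.Agent.S8990

open CategoryTheory CategoryTheory.Limits AlgebraicGeometry Opposite in
/-- A ph sheaf on schemes over S turns every blow up square (centre a closed subscheme of finite
presentation, X' → X the blowing up, E the inverse image of the centre) into a cartesian square of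
sets of sections. -/
theorem result (S : Scheme.{u}) (F : HTop.ShPh S) {E Z X' X : Over S} (e : E ⟶ X') (π : E ⟶ Z) (b : X' ⟶ X) (i : Z ⟶ X) [IsClosedImmersion i.left] [LocallyOfFinitePresentation i.left] (hb : BlowUp.IsBlowUp b.left i.left.ker) (hE : IsPullback e.left π.left b.left i.left) (t : F.obj.obj (op Z)) (s' : F.obj.obj (op X')) (hts : F.obj.map π.op t = F.obj.map e.op s') : ∃! s : F.obj.obj (op X), F.obj.map i.op s = t ∧ F.obj.map b.op s = s' := by
  have hP : Presieve.IsSheaf (HTop.phPrecoverage.toGrothendieck.over S) F.obj :=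
    (isSheaf_iff_isSheaf_of_type _ _).1 F.property
  have : IsProper b.left :=
    Groth.Agent.Lib.Seat92.BlowUpProper.isProper_of_isBlowUp i.left.ker
      (fun W => Groth.Agent.Lib.Seat26.IdealFT.ker_ideal_fg i.left W.2) b.left hb
  have : Mono i.left := inferInstance
  have hiso : IsIso (b.left ∣_ Groth.Agent.Lib.Helper20.BlowUpBasic.compl i.left.ker) :=
    Groth.Agent.Lib.Helper20.BlowUpBasic.isIso_morphismRestrict i.left.ker b.left hb
  have hU := Groth.Agent.Lib.Seat82.AlmostBlowUp3.coe_compl_ker i.left
  have : IsClosedImmersion (pullback.diagonal b.left) := inferInstance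
  refine Groth.Agent.Lib.Seat82.HSquareApply.existsUnique_section HTop.phPrecoverage F.obj hP
    e π b i hE ?_ ?_ t s' hts
  · exact Groth.Agent.Lib.Seat82.PhCover.two_mem_phPrecoverage b.left i.left
      (Groth.Agent.Lib.Seat82.HSquareApply.mem_range_or b.left i.left _ hU)
  · exact Groth.Agent.Lib.Seat82.PhCover.two_mem_phPrecoverage (pullback.diagonal b.left)
      (pullback.fst (pullback.fst b.left b.left ≫ b.left) i.left)
      (Groth.Agent.Lib.Seat82.HSquareApply.mem_range_diagonal_or b.left i.left _ hU)

end Groth.Agent.S8990
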