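import Groth.Statements.S9005
import Groth.Agent.Lib.Seat67ProjPure

set_option autoImplicit false
universe u
open FlatMor

namespace Groth.Agent.S9005

/-- For an affine finite type morphism Spec B → Spec A: a finite B-module which is projective as an
A-module is universally pure over Spec A. (The published statement allows any base scheme S and asks
the direct image to be locally projective; over an affine base a projective module gives such a
direct image, so this row is that case.) -/
theorem result {A B : Type u} [CommRing A] [CommRing B] [Algebra A B] [Algebra.FiniteType A B] (N : Type u) [AddCommGroup N] [Module B N] [Module A N] [IsScalarTower A B N] [Module.Finite B N] [Module.Projective A N] : FlatCA.IsUnivPure A B N := by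
  open TensorProduct Groth.Agent.Lib.Seat67.ProjPure in
  intro p _ A' B' N' _ _ _ _ _ _ _ _ _ _ _ _ _ _ f t' t _ _ P _ himp
  obtain ⟨hpo, hbc, hle, hpt, hPt', hass, hno⟩ := himp
  letI : Algebra B' (t'.Fiber B') := Algebra.TensorProduct.rightAlgebra
  -- N' is projective over A'
  haveI : Algebra.IsPushout A A' B B' := hpo.symm
  haveI : Module.Projective A' N' :=
    Module.Projective.of_equiv
      ((Algebra.IsPushout.cancelBaseChange A A' B B' N).symm ≪≫ₗ hbc.equiv.restrictScalars A')
  obtain ⟨s, hs, g, hg, h, hh, hsgh⟩ := exists_s_g t P hno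
  obtain ⟨hprime, x, hx⟩ := hass
  -- a power of `1 ⊗ g` kills `x`
  have hgmem : Algebra.TensorProduct.includeRight (R := A') (A := t'.ResidueField) (B := B') g ∈
      FlatCA.fiberIdeal t' P := Ideal.mem_map_of_mem _ hg
  rw [hx] at hgmem
  obtain ⟨m, hm⟩ := hgmem
  rw [Submodule.mem_colon_singleton, Submodule.mem_bot] at hm
  -- the power relation
  have hsm : s ^ m ∉ t := fun h' => hs (Ideal.IsPrime.mem_of_pow_mem ‹t.IsPrime› m h')
  have hh' : algebraMap A' B' (s ^ m) - g ^ m ∈ t.map (algebraMap A' B') := by
    rw [← Ideal.Quotient.eq, map_pow, map_pow, map_pow]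
    congr 1
    rw [Ideal.Quotient.eq, hsgh, add_sub_cancel_left]
    exact hh
  let y : t'.ResidueField ⊗[A'] N' := fibEquiv t' B' N' x
  have hy0 : LinearMap.lTensor t'.ResidueField (mu (A' := A') N' (g ^ m)) y = 0 := by
    apply (fibEquiv t' B' N').symm.injective
    rw [fibEquiv_symm_lTensor, map_zero, map_pow]
    have hsa : (fibEquiv t' B' N').symm y = x := (fibEquiv t' B' N').symm_apply_apply x
    rw [hsa]
    exact hm
  have hyz : y = 0 := core hle y (s ^ m) hsm (g ^ m) _ hy0 hh' (by ring)
  have hx0 : x = 0 := by
    have hsa : (fibEquiv t' B' N').symm y = x := (fibEquiv t' B' N').symm_apply_apply x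
    have h0 : (fibEquiv t' B' N').symm y = 0 := by rw [hyz, map_zero]
    exact hsa.symm.trans h0
  -- contradiction with primality
  have htop : FlatCA.fiberIdeal t' P = ⊤ := by
    rw [hx, hx0, Ideal.radical_eq_top, Ideal.eq_top_iff_one, Submodule.mem_colon_singleton]
    simp
  exact hprime.ne_top htop

end Groth.Agent.S9005
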