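import Groth.Statements.S9011
import Groth.Agent.S0448
import Groth.Agent.Lib.Seat6UnivInjLoc
import Groth.Agent.Lib.Helper5LocalFlat2

set_option autoImplicit false
universe u
open FlatMor

namespace Groth.Agent.S9011

open IsLocalRing in
/-- For a local ring R with maximal ideal m, an R-algebra S with S/mS Noetherian and an S-module N with
N/mN finite over S/mS which is projective as an R-module, every element of S that is a
nonzerodivisor on N/mN acts R-universally injectively on N, and the map from N to its localization
at all such elements is R-universally injective. -/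
theorem result {R S : Type u} [CommRing R] [IsLocalRing R] [CommRing S] [Algebra R S] (N : Type u) [AddCommGroup N] [Module S N] [Module R N] [IsScalarTower R S N] [IsNoetherianRing ((maximalIdeal R).Fiber S)] [Module.Finite ((maximalIdeal R).Fiber S) (FlatCA.fiberMod (maximalIdeal R) S N)] [Module.Projective R N] : (∀ s ∈ FlatCA.nzdFiber R S N, FlatCA.UnivInj R ((LinearMap.lsmul S N s).restrictScalars R)) ∧ FlatCA.UnivInj R ((LocalizedModule.mkLinearMap (FlatCA.nzdFiber R S N) N).restrictScalars R) := by
  have hflat : Module.Flat R N := inferInstance
  have key : ∀ s ∈ FlatCA.nzdFiber R S N,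
      FlatCA.UnivInj R ((LinearMap.lsmul S N s).restrictScalars R) := by
    intro s hs
    set u : N →ₗ[R] N := (LinearMap.lsmul S N s).restrictScalars R with hu
    have h1 : Function.Injective (LinearMap.lTensor (IsLocalRing.ResidueField R) u) := by
      refine (Groth.Agent.Lib.Helper5.lTensor_quotient_injective_iff u (maximalIdeal R)).2 ?_
      intro n hn
      exact Groth.Agent.Lib.Seat6.UnivInjLoc.mem_smul_top_of_mem_nzdFiber hs n hn
    have h2 := Groth.Agent.S0448.result u h1
    intro Q _ _
    have h3 : LinearMap.lTensor Q u =
        (TensorProduct.comm R N Q).toLinearMap ∘ₗ LinearMap.rTensor Q u ∘ₗ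
          (TensorProduct.comm R Q N).toLinearMap := by
      apply TensorProduct.ext'
      intro q n
      simp
    rw [h3]
    exact (TensorProduct.comm R N Q).injective.comp
      ((h2 Q).comp (TensorProduct.comm R Q N).injective)
  exact ⟨key, Groth.Agent.Lib.Seat6.UnivInjLoc.univInj_mkLinearMap_of_forall _ key⟩

end Groth.Agent.S9011
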