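import Groth.Statements.S9036
import Groth.Agent.Lib.Seat41CompactRetract
import Groth.Agent.Lib.Seat41FreeOnSec
import Groth.Agent.Lib.Helper21ModTensor3
import Groth.Agent.S6152

set_option autoImplicit false
set_option linter.style.haveILetI false
universe u
open CategoryTheory CategoryTheory.Limits Opposite
open ModSite

namespace Groth.Agent.S9036

section Aux

variable {C : Type u} [SmallCategory C] {J : GrothendieckTopology C} (O : Sheaf J CommRingCat.{u})

/-- quasi-compact objects -/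
def Qc (U : C) : Prop := CohCx.IsQcObject ((presheafToSheaf J (Type u)).obj (yoneda.obj U))

/-- the modules `j_{U!}O_U` with `U` quasi-compact -/
def SQ : Set (ModSite.Mod O) := {M | ∃ U : C, Qc (J := J) U ∧ M = ModSite.freeOn O U}

lemma cover_qc
    (hC : ∀ V : C, ∃ R ∈ J V, ∀ ⦃W : C⦄ (g : W ⟶ V), R g →
      ∃ (U : C) (a : W ⟶ U) (b : U ⟶ V), Qc (J := J) U ∧ a ≫ b = g) (V : C) :
    ∃ (ι : Type u) (Y : ι → C) (f : ∀ i, Y i ⟶ V), Sieve.ofArrows Y f ∈ J V ∧
      ∀ i, Y i ∈ {U : C | Qc (J := J) U} := by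
  obtain ⟨R, hR, h⟩ := hC V
  let ι := Σ W : C, {g : W ⟶ V // R g}
  have hch : ∀ x : ι, ∃ (U : C) (a : x.1 ⟶ U) (b : U ⟶ V), Qc (J := J) U ∧ a ≫ b = x.2.1 :=
    fun x => h x.2.1 x.2.2
  choose U a b hU hab using hch
  refine ⟨ι, U, b, ?_, hU⟩
  refine J.superset_covering ?_ hR
  intro W g hg
  exact ⟨_, a ⟨W, g, hg⟩, b ⟨W, g, hg⟩, Presieve.ofArrows.mk _, hab ⟨W, g, hg⟩⟩

lemma sq_cover
    (hC : ∀ V : C, ∃ R ∈ J V, ∀ ⦃W : C⦄ (g : W ⟶ V), R g →
      ∃ (U : C) (a : W ⟶ U) (b : U ⟶ V), Qc (J := J) U ∧ a ≫ b = g) (M : ModSite.Mod O) :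
    ∃ (ι : Type u) (E : ι → ModSite.Mod O) (π : ∐ E ⟶ M), (∀ i, E i ∈ SQ O) ∧ Epi π := by
  have hsep := (Groth.Agent.S6152.result O {U : C | Qc (J := J) U} (cover_qc hC)).2
  let I := Σ U : {U : C | Qc (J := J) U}, (ModSite.freeOn O (U : C) ⟶ M)
  let φ : (∐ fun x : I => ModSite.freeOn O (x.1 : C)) ⟶ M := Sigma.desc fun x => x.2
  refine ⟨I, fun x => ModSite.freeOn O (x.1 : C), φ, fun x => ⟨x.1.1, x.1.2, rfl⟩, ?_⟩
  apply Abelian.epi_of_cokernel_π_eq_zero
  refine hsep _ _ ?_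
  rintro G ⟨U⟩ s
  have hs : s = Sigma.ι (fun x : I => ModSite.freeOn O (x.1 : C)) ⟨U, s⟩ ≫ φ :=
    (Sigma.ι_desc (f := fun x : I => ModSite.freeOn O (x.1 : C)) (fun x : I => x.2)
      (⟨U, s⟩ : I)).symm
  change s ≫ cokernel.π φ = s ≫ 0
  rw [comp_zero, hs, Category.assoc, cokernel.condition, comp_zero]

end Aux

/-- Let (C, O) be a ringed site in which every object has a covering by quasi-compact objects (an object
U is called quasi-compact here when the sheaf h_U^# is a quasi-compact object of the topos, which is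
equivalent to the site-level definition). Then every compact object of D(O) is a retract in D(O) of
the image of a bounded complex whose terms are finite direct sums of modules of the form j_{U!} O_U
with U quasi-compact. The derived category of O-modules, direct sums in it and finite biproducts of
O-modules (automatic) are instance hypotheses. -/
theorem result
    {C : Type u} [SmallCategory C] {J : GrothendieckTopology C} (O : Sheaf J CommRingCat.{u})
    [HasFiniteBiproducts (ModSite.Mod O)]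
    [HasDerivedCategory.{u} (ModSite.Mod O)] [HasCoproducts.{u} (DerivedCategory (ModSite.Mod O))]
    (hC : ∀ V : C, ∃ R ∈ J V, ∀ ⦃W : C⦄ (g : W ⟶ V), R g →
      ∃ (U : C) (a : W ⟶ U) (b : U ⟶ V), CohCx.IsQcObject ((presheafToSheaf J (Type u)).obj (yoneda.obj U)) ∧ a ≫ b = g)
    (K : DerivedCategory (ModSite.Mod O)) (hK : CohDer.IsCompactObject K) :
    ∃ (L : CochainComplex (ModSite.Mod O) ℤ) (a b : ℤ),
      (∀ i : ℤ, i < a ∨ b < i → IsZero (L.X i)) ∧
      (∀ i : ℤ, ∃ (n : ℕ) (U : Fin n → C),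
        (∀ j, CohCx.IsQcObject ((presheafToSheaf J (Type u)).obj (yoneda.obj (U j)))) ∧
        Nonempty (L.X i ≅ ⨁ fun j => ModSite.freeOn O (U j))) ∧
      Nonempty (Retract K (DerivedCategory.Q.obj L)) := by
  haveI := Groth.Agent.Lib.Helper21.ModTensor3.isGrothendieckAbelian O
  obtain ⟨L, a, b, hz, hF, hr⟩ := Groth.Agent.Lib.Seat41.CompactRetract.main (SQ O)
    (sq_cover O hC) (fun E hE ι => by
      obtain ⟨U, hU, rfl⟩ := hE
      exact Groth.Agent.Lib.Seat41.FreeOnSec.preservesColimitsOfShape_coyoneda_freeOn O U hU ι)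
    K hK
  refine ⟨L, a, b, hz, fun i => ?_, hr⟩
  obtain ⟨n, E, hE, ⟨e⟩⟩ := hF i
  choose U hU hEU using hE
  exact ⟨n, U, hU, ⟨e ≪≫ biproduct.mapIso (fun j => eqToIso (hEU j))⟩⟩

end Groth.Agent.S9036
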