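import Groth.Statements.S9046
import Groth.Agent.Lib.Seat41LocNull
import Groth.Agent.Lib.Helper17PCoh10
-- import your own Groth.Agent.* helpers here

set_option autoImplicit false
set_option linter.style.haveILetI false
universe u
open CategoryTheory CategoryTheory.Limits Opposite
open ModSite

namespace Groth.Agent.S9046

/-- On a ringed site (C, O), let α : E → F and f : G → F be maps of complexes of O-modules where E is
strictly perfect and vanishes in degrees below a, and f induces isomorphisms on H^j for all j > a
and a surjection on H^a. Then locally α lifts through f up to homotopy: every object V has a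
covering sieve such that over each of its arrows W → V there is a map of complexes β : E|_W → G|_W
with β ≫ f|_W homotopic to α|_W. (The published statement is phrased over the localisation (C/U,
O_U) at an object U with a covering of U; this row states it at every object of an arbitrary ringed
site, which covers that case.) -/
theorem result
    {C : Type u} [SmallCategory C] {J : GrothendieckTopology C} (O : Sheaf J CommRingCat.{u})
    (E F G : CochainComplex (ModSite.Mod O) ℤ) (α : E ⟶ F) (f : G ⟶ F)
    (hE : DCoh.IsStrictlyPerfectMod (ModSite.ringSh O) E) (a : ℤ)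
    (hEa : ∀ j : ℤ, j < a → IsZero (E.X j))
    (hiso : ∀ j : ℤ, a < j → IsIso (HomologicalComplex.homologyMap f j))
    (hepi : Epi (HomologicalComplex.homologyMap f a)) (V : C) :
    ∃ R ∈ J V, ∀ ⦃W : C⦄ (g : W ⟶ V), R g →
      ∃ β : ((ModSite.restr O W).mapHomologicalComplex (ComplexShape.up ℤ)).obj E ⟶
          ((ModSite.restr O W).mapHomologicalComplex (ComplexShape.up ℤ)).obj G,
        Nonempty (Homotopy (β ≫ ((ModSite.restr O W).mapHomologicalComplex (ComplexShape.up ℤ)).map f)
          (((ModSite.restr O W).mapHomologicalComplex (ComplexShape.up ℤ)).map α)) := by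
  open Groth.Agent.Lib.Seat41.LocalLift in
  have hCf : ∀ j : ℤ, a ≤ j → (CochainComplex.mappingCone f).ExactAt j := fun j hj =>
    (HomologicalComplex.exactAt_iff_isZero_homology _ _).2
      (Groth.Agent.Lib.Helper17.PCoh10.isZero_homology_mappingCone f a ⟨hiso, hepi⟩ j hj)
  obtain ⟨R, hR, hh⟩ := Groth.Agent.Lib.Seat41.LocNull.exists_local_nullHomotopy O hE a hEa hCf
    (α ≫ CochainComplex.mappingCone.inr f) V
  refine ⟨R, hR, fun W g hg => ?_⟩
  obtain ⟨H⟩ := hh g hg
  let Fn := (ModSite.restr O W).mapHomologicalComplex (ComplexShape.up ℤ)
  -- the image of the null-homotopy, transported to the mapping cone of `restr f`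
  have H' : Homotopy (Fn.map α ≫ CochainComplex.mappingCone.inr (Fn.map f)) 0 := by
    have e := CochainComplex.mappingCone.map_inr f (ModSite.restr O W)
    have H1 := H.compRight (CochainComplex.mappingCone.mapHomologicalComplexIso f
      (ModSite.restr O W)).hom
    rw [zero_comp] at H1
    refine (Homotopy.ofEq ?_).trans H1
    rw [← e, ← Category.assoc, ← Functor.map_comp]
  have hT := HomotopyCategory.mappingCone_triangleh_distinguished (Fn.map f)
  have he : (HomotopyCategory.quotient _ _).map (Fn.map α) ≫
      (CochainComplex.mappingCone.triangleh (Fn.map f)).mor₂ = 0 := by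
    have := HomotopyCategory.eq_of_homotopy _ _ H'
    rw [Functor.map_comp, Functor.map_zero] at this
    exact this
  obtain ⟨β', hβ'⟩ := Pretriangulated.Triangle.coyoneda_exact₂ _ hT _ he
  obtain ⟨β, rfl⟩ := (HomotopyCategory.quotient _ _).map_surjective β'
  refine ⟨β, ⟨HomotopyCategory.homotopyOfEq _ _ ?_⟩⟩
  exact ((HomotopyCategory.quotient _ _).map_comp β (Fn.map f)).trans hβ'.symm

end Groth.Agent.S9046
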