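import Groth.Statements.S9078
import Groth.Agent.Lib.Seat41PTower
import Groth.Agent.Lib.Seat41SeqColim
import Groth.Agent.Lib.Seat41TypeAKer
import Groth.Agent.Lib.Helper21ModTensor5
import Groth.Agent.S6152

set_option autoImplicit false
set_option linter.style.haveILetI false
universe u
open CategoryTheory CategoryTheory.Limits Opposite
attribute [local instance] HasDerivedCategory.standard
open ModSite

namespace Groth.Agent.S9078

section Aux

variable {C : Type u} [SmallCategory C] {J : GrothendieckTopology C} (O : Sheaf J CommRingCat.{u})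

/-- the class of coproducts of modules `j_{U!}O_U` -/
def PF : ObjectProperty (ModSite.Mod O) := fun M =>
  ∃ (ι : Type u) (U : ι → C), Nonempty (M ≅ ∐ fun j => ModSite.freeOn O (U j))

instance : (PF O).IsClosedUnderIsomorphisms where
  of_iso := fun e ⟨ι, U, ⟨f⟩⟩ => ⟨ι, U, ⟨e.symm ≪≫ f⟩⟩

lemma pf_zero : ∃ Z : ModSite.Mod O, IsZero Z ∧ PF O Z := by
  refine ⟨∐ fun j : PEmpty.{u + 1} => ModSite.freeOn O (PEmpty.elim j : C), ?_,
    ⟨PEmpty.{u + 1}, fun j => PEmpty.elim j, ⟨Iso.refl _⟩⟩⟩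
  rw [IsZero.iff_id_eq_zero]
  exact Sigma.hom_ext _ _ (fun j => j.elim)

lemma pf_sum (X Y : ModSite.Mod O) (hX : PF O X) (hY : PF O Y) : PF O (X ⊞ Y) := by
  obtain ⟨ι, U, ⟨eX⟩⟩ := hX
  obtain ⟨κ, V, ⟨eY⟩⟩ := hY
  obtain ⟨e⟩ := Groth.Agent.Lib.Seat41.TypeAKer.nonempty_sigma_sum_iso_biprod
    (fun x : ι ⊕ κ => ModSite.freeOn O (Sum.elim U V x)) eX eY
  exact ⟨ι ⊕ κ, Sum.elim U V, ⟨e.symm⟩⟩

lemma pf_cover (M : ModSite.Mod O) : ∃ (Y : ModSite.Mod O) (π : Y ⟶ M), PF O Y ∧ Epi π := by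
  have hsep := (Groth.Agent.S6152.result O (Set.univ : Set C) (fun X =>
    ⟨PUnit.{u + 1}, fun _ => X, fun _ => 𝟙 X, by
      apply J.covering_of_eq_top
      rw [← Sieve.id_mem_iff_eq_top]
      exact ⟨X, 𝟙 X, 𝟙 X, Presieve.ofArrows.mk PUnit.unit, Category.id_comp _⟩,
      fun _ => Set.mem_univ _⟩)).2
  let I := Σ U : C, (ModSite.freeOn O U ⟶ M)
  let φ : (∐ fun x : I => ModSite.freeOn O x.1) ⟶ M := Sigma.desc fun x => x.2
  refine ⟨_, φ, ⟨I, fun x => x.1, ⟨Iso.refl _⟩⟩, ?_⟩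
  apply Abelian.epi_of_cokernel_π_eq_zero
  refine hsep _ _ ?_
  rintro G ⟨⟨U, hU⟩⟩ s
  have hs : s = Sigma.ι (fun x : I => ModSite.freeOn O x.1) ⟨U, s⟩ ≫ φ :=
    (Sigma.ι_desc (f := fun x : I => ModSite.freeOn O x.1) (fun x : I => x.2) (⟨U, s⟩ : I)).symm
  change s ≫ cokernel.π φ = s ≫ 0
  rw [comp_zero, hs, Category.assoc, cokernel.condition, comp_zero]

lemma hasExactColimitsOfShape_nat : HasExactColimitsOfShape ℕ (ModSite.Mod O) := by
  haveI := Groth.Agent.Lib.Helper21.ModTensor3.isGrothendieckAbelian O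
  haveI : AB5OfSize.{u, u} (ModSite.Mod O) := IsGrothendieckAbelian.ab5OfSize
  haveI : AB5OfSize.{0, 0} (ModSite.Mod O) := AB5OfSize_of_univLE.{0, 0, u, u} (ModSite.Mod O)
  exact AB5OfSize.ofShape ℕ

end Aux

/-- Let (C, O) be a ringed site and G a complex of O-modules. There is a commutative diagram of
complexes K_1 → K_2 → … over τ_{≤1}G → τ_{≤2}G → … such that (1) the vertical maps K_n → τ_{≤n}G are
termwise surjective quasi-isomorphisms, (2) every K_n is bounded above with terms direct sums of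
modules of the form j_{U!}O_U, (3) each K_n → K_{n+1} is split injective in every degree, with
cokernel in each degree a direct sum of modules j_{U!}O_U; moreover colim K_n → G is a
quasi-isomorphism. Here the system is indexed by n ≥ 0 with K_n mapping to τ_{≤ n+1}G, commutativity
of the diagram is expressed after composing with the inclusions τ_{≤ m}G → G, 'direct sum of modules
j_{U!}O_U' means isomorphic to a coproduct of such modules, and the map colim K_n → G is the one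
induced by the K_n → τ_{≤ n+1}G → G. -/
theorem result
    {C : Type u} [SmallCategory C] {J : GrothendieckTopology C} (O : Sheaf J CommRingCat.{u})
    (G : CochainComplex (ModSite.Mod O) ℤ) :
    ∃ (Kc : ℕ ⥤ CochainComplex (ModSite.Mod O) ℤ) (π : ∀ n : ℕ, Kc.obj n ⟶ G.truncLE ((n : ℤ) + 1)),
      (∀ n : ℕ, Kc.map (homOfLE (Nat.le_succ n)) ≫ π (n + 1) ≫ G.ιTruncLE (((n + 1 : ℕ) : ℤ) + 1) =
        π n ≫ G.ιTruncLE ((n : ℤ) + 1)) ∧
      (∀ n : ℕ, QuasiIso (π n) ∧ ∀ i : ℤ, Epi ((π n).f i)) ∧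
      (∀ n : ℕ, ∃ b : ℤ, (Kc.obj n).IsStrictlyLE b) ∧
      (∀ (n : ℕ) (i : ℤ), ∃ (ι : Type u) (U : ι → C),
        Nonempty ((Kc.obj n).X i ≅ ∐ fun j => ModSite.freeOn O (U j))) ∧
      (∀ (n : ℕ) (i : ℤ), ∃ r : (Kc.obj (n + 1)).X i ⟶ (Kc.obj n).X i,
        (Kc.map (homOfLE (Nat.le_succ n))).f i ≫ r = 𝟙 _ ∧
        ∃ (ι : Type u) (U : ι → C),
          Nonempty (cokernel ((Kc.map (homOfLE (Nat.le_succ n))).f i) ≅ ∐ fun j => ModSite.freeOn O (U j))) ∧
      ∃ c : colimit Kc ⟶ G, (∀ n : ℕ, colimit.ι Kc n ≫ c = π n ≫ G.ιTruncLE ((n : ℤ) + 1)) ∧ QuasiIso c := by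
  haveI := hasExactColimitsOfShape_nat O
  have hle : ∀ n : ℕ, (n : ℤ) + 1 ≤ ((n + 1 : ℕ) : ℤ) + 1 := fun n => by push_cast; omega
  obtain ⟨Q, ι, π, h1, h2, h3, h4, h5⟩ :=
    Groth.Agent.Lib.Seat41.PTower.exists_tower (PF O) (pf_cover O) (pf_zero O) (pf_sum O)
      (fun n : ℕ => G.truncLE ((n : ℤ) + 1))
      (fun n => Groth.Agent.Lib.Seat41.PTower.truncLEtr G ((n : ℤ) + 1) (((n + 1 : ℕ) : ℤ) + 1)
        (hle n))
      (fun n => ⟨(n : ℤ) + 1, inferInstance⟩)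
  have hmap : ∀ n : ℕ, (Functor.ofSequence ι).map (homOfLE (Nat.le_succ n)) = ι n :=
    fun n => Functor.ofSequence_map_homOfLE_succ ι n
  have hcompat : ∀ n : ℕ, ι n ≫ π (n + 1) ≫ G.ιTruncLE (((n + 1 : ℕ) : ℤ) + 1) =
      π n ≫ G.ιTruncLE ((n : ℤ) + 1) := by
    intro n
    rw [← Category.assoc, h5 n, Category.assoc, Groth.Agent.Lib.Seat41.PTower.truncLEtr_ι]
  refine ⟨Functor.ofSequence ι, π, fun n => ?_, h1, h2, h3, fun n i => ?_, ?_⟩
  · rw [hmap]
    exact hcompat n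
  · obtain ⟨⟨r, hr⟩, hcok⟩ := h4 n i
    rw [hmap]
    exact ⟨r, hr, hcok⟩
  · let s : Cocone (Functor.ofSequence ι) :=
      { pt := G
        ι := NatTrans.ofSequence (F := Functor.ofSequence ι) (G := (Functor.const ℕ).obj G)
          (fun n => π n ≫ G.ιTruncLE ((n : ℤ) + 1)) (fun n =>
            (congrArg (· ≫ (π (n + 1) ≫ G.ιTruncLE (((n + 1 : ℕ) : ℤ) + 1))) (hmap n)).trans
              ((hcompat n).trans (Category.comp_id _).symm)) }
    refine ⟨colimit.desc (Functor.ofSequence ι) s, fun n => colimit.ι_desc s n, ?_⟩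
    apply Groth.Agent.Lib.Seat41.SeqColim.quasiIso_colimit_desc
    intro i
    refine ⟨(i - 1).toNat, fun n hn => ?_⟩
    have hi : i ≤ (n : ℤ) + 1 := by omega
    haveI := (h1 n).1
    haveI : QuasiIsoAt (π n) i := (h1 n).1.quasiIsoAt i
    haveI : QuasiIsoAt (G.ιTruncLE ((n : ℤ) + 1)) i := G.quasiIsoAt_ιTruncLE _ _ hi
    exact quasiIsoAt_comp (π n) (G.ιTruncLE ((n : ℤ) + 1)) i

end Groth.Agent.S9078
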