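import Groth.Statements.S9123
import Groth.Agent.Lib.Seat48Chaotic

set_option autoImplicit false
universe u
open CategoryTheory CategoryTheory.Limits Opposite
open ModSite

namespace Groth.Agent.S9123

/-- Let C be a small category endowed with the chaotic topology (only maximal sieves are covering) and O
a sheaf of commutative rings on it such that for every morphism U → V of C the restriction map O(V)
→ O(U) is a flat ring homomorphism. Then the quasi-coherent O-modules form a weak Serre subcategory
of Mod(O): kernels and cokernels of morphisms between quasi-coherent modules are quasi-coherent, and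
in a short exact sequence 0 → F₁ → F₂ → F₃ → 0 with F₁ and F₃ quasi-coherent, F₂ is quasi-coherent. -/
theorem result {C : Type u} [SmallCategory C]
    (O : Sheaf (⊥ : GrothendieckTopology C) CommRingCat.{u})
    (hO : ∀ (U V : C) (g : U ⟶ V), (O.obj.map g.op).hom.Flat) :
    (∀ (F G : ModSite.Mod O) (α : F ⟶ G), SheafOfModules.IsQuasicoherent (R := ModSite.ringSh O) F → SheafOfModules.IsQuasicoherent (R := ModSite.ringSh O) G →
        SheafOfModules.IsQuasicoherent (R := ModSite.ringSh O) (kernel α) ∧ SheafOfModules.IsQuasicoherent (R := ModSite.ringSh O) (cokernel α)) ∧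
    (∀ (S : ShortComplex (ModSite.Mod O)), S.ShortExact → SheafOfModules.IsQuasicoherent (R := ModSite.ringSh O) S.X₁ → SheafOfModules.IsQuasicoherent (R := ModSite.ringSh O) S.X₃ → SheafOfModules.IsQuasicoherent (R := ModSite.ringSh O) S.X₂) := by
  classical
  have : Groth.Agent.Lib.Seat48.BCSite.IsCommPresheaf (ModSite.ringSh O).obj :=
    ⟨fun E a b => mul_comm (G := O.obj.obj E) a b⟩
  have hJ : Groth.Agent.Lib.Seat48.Chaotic.IsTrivialTop (⊥ : GrothendieckTopology C) :=
    Groth.Agent.Lib.Seat48.Chaotic.isTrivialTop_bot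
  refine ⟨fun F G α hF hG => ?_, fun T hT h₁ h₃ => ?_⟩
  · have hF' := (Groth.Agent.Lib.Seat48.Chaotic.isQuasicoherent_iff_forall_hasBCAt hJ F).1 hF
    have hG' := (Groth.Agent.Lib.Seat48.Chaotic.isQuasicoherent_iff_forall_hasBCAt hJ G).1 hG
    constructor
    · refine (Groth.Agent.Lib.Seat48.Chaotic.isQuasicoherent_iff_forall_hasBCAt hJ _).2 ?_
      intro E E' g
      exact Groth.Agent.Lib.Seat48.Chaotic.hasBCAt_of_isLimit_kernelFork α
        (KernelFork.ofι (kernel.ι α) (kernel.condition α)) (kernelIsKernel α) g (hO E' E g)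
        (hF' g) (hG' g)
    · refine (Groth.Agent.Lib.Seat48.Chaotic.isQuasicoherent_iff_forall_hasBCAt hJ _).2 ?_
      intro E E' g
      exact Groth.Agent.Lib.Seat48.Chaotic.hasBCAt_of_isColimit_cokernelCofork hJ α
        (CokernelCofork.ofπ (cokernel.π α) (cokernel.condition α)) (cokernelIsCokernel α) g
        (hF' g) (hG' g)
  · have h₁' := (Groth.Agent.Lib.Seat48.Chaotic.isQuasicoherent_iff_forall_hasBCAt hJ _).1 h₁
    have h₃' := (Groth.Agent.Lib.Seat48.Chaotic.isQuasicoherent_iff_forall_hasBCAt hJ _).1 h₃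
    refine (Groth.Agent.Lib.Seat48.Chaotic.isQuasicoherent_iff_forall_hasBCAt hJ _).2 ?_
    intro E E' g
    exact Groth.Agent.Lib.Seat48.Chaotic.hasBCAt_X₂_of_shortExact hJ T hT g (h₁' g) (h₃' g)

end Groth.Agent.S9123
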