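import Groth.Statements.S9143
import Groth.Agent.Lib.Seat42CISpread

set_option autoImplicit false
universe u
open Synt

namespace Groth.Agent.S9143

open Groth.Agent.Lib.Seat42.CIIdeal Groth.Agent.Lib.Seat42.CICover Groth.Agent.Lib.Seat42.CISpread

theorem spanFinrank_ofList_le {R : Type u} [CommRing R] (rs : List R) :
    (Ideal.ofList rs).spanFinrank ≤ rs.length := by
  classical
  have hset : {r | r ∈ rs} = ((rs.toFinset : Finset R) : Set R) := by
    ext x; simp
  unfold Ideal.ofList
  rw [hset]
  refine (Submodule.spanFinrank_span_le_ncard_of_finite (Finset.finite_toSet _)).trans ?_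
  rw [Set.ncard_coe_finset]
  exact List.toFinset_card_le rs


/-- For a local k-algebra S which is essentially of finite type over a field k, being a complete
intersection over k is equivalent to each of: (2) whenever a regular local ring R, essentially of
finite type over k, maps onto S by a surjective k-algebra map, the kernel is generated by a regular
sequence; (3) some regular local ring R, essentially of finite type over k, maps onto S by a
surjective k-algebra map whose kernel is generated by a list of dim R − dim S elements (stated as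
dim R = dim S + the length of the list); (4) S is isomorphic over k to a localization at a prime of
a global complete intersection over k; (5) the same with a local complete intersection over k. -/
theorem result (k S : Type u) [Field k] [CommRing S]
    [IsLocalRing S] [Algebra k S] [Algebra.EssFiniteType k S] :
    (Synt.IsCIOver k S ↔
        ∀ (R : Type u) [CommRing R] [IsRegularLocalRing R] [Algebra k R], Algebra.EssFiniteType k R →
          ∀ π : R →ₐ[k] S, Function.Surjective π →
            ∃ rs : List R, RingTheory.Sequence.IsRegular R rs ∧ RingHom.ker π.toRingHom = Ideal.ofList rs) ∧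
      (Synt.IsCIOver k S ↔
        ∃ (R : Type u) (_ : CommRing R) (_ : IsRegularLocalRing R) (_ : Algebra k R),
          Algebra.EssFiniteType k R ∧ ∃ π : R →ₐ[k] S, Function.Surjective π ∧
            ∃ rs : List R, RingHom.ker π.toRingHom = Ideal.ofList rs ∧
              ringKrullDim R = ringKrullDim S + (rs.length : WithBot ℕ∞)) ∧
      (Synt.IsCIOver k S ↔
        ∃ (A : Type u) (_ : CommRing A) (_ : Algebra k A) (a : Ideal A) (_ : a.IsPrime),
          Algebra.FiniteType k A ∧ Synt.IsGlobalCI k A ∧ Nonempty (S ≃ₐ[k] Localization.AtPrime a)) ∧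
      (Synt.IsCIOver k S ↔
        ∃ (A : Type u) (_ : CommRing A) (_ : Algebra k A) (a : Ideal A) (_ : a.IsPrime),
          Synt.IsLCIOver k A ∧ Nonempty (S ≃ₐ[k] Localization.AtPrime a)) := by
  refine ⟨⟨fun h R _ _ _ hess π hπ => ?_, fun h => ?_⟩, ⟨fun h => ?_, fun h => ?_⟩,
    ⟨fun h => ?_, fun h => ?_⟩, ⟨fun h => ?_, fun h => ?_⟩⟩
  · -- (1) ⟹ (2)
    obtain ⟨rs, hrs, hreg⟩ := isCI_ker_of_isCIOver k S h R π hπ
    exact ⟨rs, hreg, hrs.symm⟩
  · -- (2) ⟹ (1)
    obtain ⟨P, _, _, _, hess, ρ, hρ⟩ := exists_regular_cover k S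
    obtain ⟨rs, hreg, hrs⟩ := h P hess ρ hρ
    exact isCIOver_of_isCI k S P ρ hρ ⟨rs, hrs.symm, hreg⟩
  · -- (1) ⟹ (3)
    obtain ⟨R, i1, i2, i3, hess, rs, hmem, hreg, ⟨e⟩⟩ := h
    let π : R →ₐ[k] S := (e.symm : (R ⧸ Ideal.ofList rs) →ₐ[k] S).comp
      (Ideal.Quotient.mkₐ k (Ideal.ofList rs))
    have hπ : Function.Surjective π :=
      e.symm.surjective.comp (Ideal.Quotient.mkₐ_surjective k _)
    have hker : RingHom.ker π.toRingHom = Ideal.ofList rs := by
      ext z
      rw [RingHom.mem_ker]
      show e.symm (Ideal.Quotient.mk _ z) = 0 ↔ _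
      rw [map_eq_zero_iff _ e.symm.injective, Ideal.Quotient.eq_zero_iff_mem]
    refine ⟨R, i1, i2, i3, hess, π, hπ, rs, hker, ?_⟩
    rw [ringKrullDim_eq_of_ringEquiv e.toRingEquiv]
    exact (ringKrullDim_add_length_eq_ringKrullDim_of_isRegular rs hreg).symm
  · -- (3) ⟹ (1)
    obtain ⟨R, _, _, _, hess, π, hπ, rs, hker, hdim⟩ := h
    refine isCIOver_of_isCI k S R π hπ ?_
    rw [isCI_iff _ (RingHom.ker_ne_top _)]
    rw [ringKrullDim_eq_of_ringEquiv (RingHom.quotientKerEquivOfSurjective hπ), hdim, hker,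
      add_comm]
    refine add_le_add le_rfl ?_
    exact_mod_cast spanFinrank_ofList_le rs
  · -- (1) ⟹ (4)
    obtain ⟨A₀, _, _, 𝔮, _, hft, ⟨e₀⟩⟩ := exists_finiteType_atPrime_equiv k S
    have h1 := isCIOver_of_algEquiv k _ _ e₀ h
    obtain ⟨g, hg, hG⟩ := exists_isGlobalCI_away_of_isCIOver_atPrime k A₀ 𝔮 h1
    have hp := isPrime_map_away g 𝔮 hg
    obtain ⟨e₁⟩ := nonempty_atPrime_away_equiv k g 𝔮 hg
      (𝔮.map (algebraMap A₀ (Localization.Away g))) rfl
    have hftg : Algebra.FiniteType k (Localization.Away g) := by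
      have : Algebra.FiniteType A₀ (Localization.Away g) :=
        IsLocalization.finiteType_of_monoid_fg (Submonoid.powers g) _
      exact Algebra.FiniteType.trans hft this
    exact ⟨Localization.Away g, inferInstance, inferInstance,
      𝔮.map (algebraMap A₀ (Localization.Away g)), hp, hftg, hG, ⟨e₀.trans e₁.symm⟩⟩
  · -- (4) ⟹ (1)
    obtain ⟨A, _, _, 𝔞, _, -, hG, ⟨e⟩⟩ := h
    exact isCIOver_of_algEquiv k _ _ e.symm (isCIOver_atPrime_of_isGlobalCI k A hG 𝔞)
  · -- (1) ⟹ (5)
    obtain ⟨A₀, _, _, 𝔮, _, hft, ⟨e₀⟩⟩ := exists_finiteType_atPrime_equiv k S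
    have h1 := isCIOver_of_algEquiv k _ _ e₀ h
    obtain ⟨g, hg, hG⟩ := exists_isGlobalCI_away_of_isCIOver_atPrime k A₀ 𝔮 h1
    have hp := isPrime_map_away g 𝔮 hg
    obtain ⟨e₁⟩ := nonempty_atPrime_away_equiv k g 𝔮 hg
      (𝔮.map (algebraMap A₀ (Localization.Away g))) rfl
    have hftg : Algebra.FiniteType k (Localization.Away g) := by
      have : Algebra.FiniteType A₀ (Localization.Away g) :=
        IsLocalization.finiteType_of_monoid_fg (Submonoid.powers g) _
      exact Algebra.FiniteType.trans hft this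
    exact ⟨Localization.Away g, inferInstance, inferInstance,
      𝔮.map (algebraMap A₀ (Localization.Away g)), hp,
      isLCIOver_of_isGlobalCI k _ hG, ⟨e₀.trans e₁.symm⟩⟩
  · -- (5) ⟹ (1)
    obtain ⟨A, _, _, 𝔞, _, hL, ⟨e⟩⟩ := h
    obtain ⟨g, hg, hG⟩ := hL.2 ⟨𝔞, inferInstance⟩
    exact isCIOver_of_algEquiv k _ _ e.symm
      (isCIOver_atPrime_of_isGlobalCI_away k A 𝔞 g hg hG)


end Groth.Agent.S9143
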