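import Groth.Statements.S9148
import Groth.Agent.Lib.Seat62RelGCIDescend

set_option autoImplicit false
universe u
open Synt
open Groth.Agent.Lib.Helper4.FibDim Groth.Agent.Lib.Seat62.RelGCIBC Groth.Agent.Lib.Seat62.RelGCIDescend

namespace Groth.Agent.S9148

/-- A relative global complete intersection over a ring R descends to a relative global complete
intersection over a finite type ℤ-subalgebra of R containing the coefficients. -/
theorem result (R : Type u) [CommRing R] (n c : ℕ)
    (F : Fin c → MvPolynomial (Fin n) R) (h : Synt.IsRelGCI R n c F) :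
    ∃ (R₀ : Subalgebra ℤ R) (F₀ : Fin c → MvPolynomial (Fin n) R₀), Algebra.FiniteType ℤ R₀ ∧
      (∀ i, MvPolynomial.map (algebraMap R₀ R) (F₀ i) = F i) ∧ Synt.IsRelGCI R₀ n c F₀ := by
  classical
  -- lift the relations to a finitely generated subring
  obtain ⟨R₁, -, h₁, F₁, hF₁⟩ :=
    exists_subalgebra_lift F (⊥ : Subalgebra ℤ R) Subalgebra.fg_bot
  obtain rfl : F = mapRel R₁ R n c F₁ := funext fun i => (hF₁ i).symm
  -- the two cases produce a finitely generated `R₂ ⊇ R₁` over which the presentation is a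
  -- relative global complete intersection
  suffices hmain : ∃ (R₂ : Subalgebra ℤ R) (h12 : R₁ ≤ R₂), R₂.FG ∧
      Synt.IsRelGCI R₂ n c
        (fun i => MvPolynomial.map (σ := Fin n) (Subalgebra.inclusion h12).toRingHom (F₁ i)) by
    obtain ⟨R₂, h12, h₂, hgci⟩ := hmain
    refine ⟨R₂, _, (Subalgebra.fg_iff_finiteType R₂).mp h₂, fun i => ?_, hgci⟩
    rw [MvPolynomial.map_map]
    rfl
  by_cases hcn : c ≤ n
  · -- Case `c ≤ n`: the fibre dimension criterion
    have hgood : Good R₁ n c F₁ (n - c) R := by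
      apply good_of_fibLD_le
      intro q
      rw [fibLD_comap_eq]
      exact (Groth.Agent.Lib.Seat62.RelGCIFib.localDim_fibre_eq R n c _ h _ _).le
    obtain ⟨R₂, h12, h₂, hone⟩ :=
      exists_subalgebra_one_mem R₁ h₁ (badIdeal R₁ n c F₁ (n - c)) hgood
    refine ⟨R₂, h12, h₂, ?_⟩
    let _ : Algebra R₁ R₂ := (Subalgebra.inclusion h12).toRingHom.toAlgebra
    have hgood₂ : Good R₁ n c F₁ (n - c) R₂ := hone
    have hle := fibLD_le_of_good R₁ n c F₁ (n - c) R₂ hgood₂
    intro p hnt
    refine ⟨hcn, le_antisymm ?_ ?_⟩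
    · exact Groth.Agent.Lib.Seat62.RelGCINhd.dim_fibre_le R₂ _ _ hle p
    · exact Groth.Agent.Lib.Seat62.RelGCINhd.le_dim_fibre R₂ n c _ p.asIdeal hnt
  · -- Case `c > n`: the ring `R[x]/(F)` is trivial
    have hsub : Subsingleton (Synt.RelGCIRing R n c (mapRel R₁ R n c F₁)) := by
      by_contra hns
      rw [not_subsingleton_iff_nontrivial] at hns
      obtain ⟨q⟩ : Nonempty (PrimeSpectrum (Synt.RelGCIRing R n c (mapRel R₁ R n c F₁))) :=
        inferInstance
      have hne : Nonempty (PrimeSpectrum ((PrimeSpectrum.comap (algebraMap R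
          (Synt.RelGCIRing R n c (mapRel R₁ R n c F₁))) q).asIdeal.Fiber
            (Synt.RelGCIRing R n c (mapRel R₁ R n c F₁)))) :=
        ⟨PrimeSpectrum.preimageHomeomorphFiber R _ _ ⟨q, rfl⟩⟩
      have hnt : Nontrivial ((PrimeSpectrum.comap (algebraMap R
          (Synt.RelGCIRing R n c (mapRel R₁ R n c F₁))) q).asIdeal.Fiber
            (Synt.RelGCIRing R n c (mapRel R₁ R n c F₁))) := by
        by_contra hnn
        rw [not_nontrivial_iff_subsingleton] at hnn
        obtain ⟨Q⟩ := hne
        exact Q.2.ne_top (Subsingleton.elim _ _)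
      exact hcn (h _ hnt).1
    have hone : (1 : MvPolynomial (Fin n) R) ∈
        (Ideal.span (Set.range F₁)).map (MvPolynomial.map (σ := Fin n) (algebraMap R₁ R)) := by
      rw [Ideal.map_span, ← Set.range_comp]
      rw [Ideal.Quotient.subsingleton_iff] at hsub
      have : Ideal.span (Set.range (mapRel R₁ R n c F₁)) = ⊤ := hsub
      rw [Ideal.eq_top_iff_one] at this
      exact this
    obtain ⟨R₂, h12, h₂, hone₂⟩ :=
      exists_subalgebra_one_mem R₁ h₁ (Ideal.span (Set.range F₁)) hone
    refine ⟨R₂, h12, h₂, ?_⟩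
    rw [Ideal.map_span, ← Set.range_comp] at hone₂
    have htop : Ideal.span (Set.range (fun i => MvPolynomial.map (σ := Fin n)
        (Subalgebra.inclusion h12).toRingHom (F₁ i))) = ⊤ :=
      (Ideal.eq_top_iff_one _).mpr hone₂
    have hsub₂ : Subsingleton (Synt.RelGCIRing R₂ n c (fun i => MvPolynomial.map (σ := Fin n)
        (Subalgebra.inclusion h12).toRingHom (F₁ i))) :=
      Ideal.Quotient.subsingleton_iff.mpr htop
    intro p hnt
    exfalso
    have : Subsingleton (p.asIdeal.Fiber (Synt.RelGCIRing R₂ n c (fun i =>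
        MvPolynomial.map (σ := Fin n) (Subalgebra.inclusion h12).toRingHom (F₁ i)))) := by
      unfold Ideal.Fiber
      infer_instance
    exact (not_subsingleton_iff_nontrivial.mpr hnt) this

end Groth.Agent.S9148
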