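import Groth.Statements.S9149
import Groth.Agent.Lib.Seat62SplitAlg
import Groth.Agent.Lib.Seat56RelGCI5

set_option autoImplicit false
universe u
open Synt

namespace Groth.Agent.S9149

open Polynomial in
/-- A monic polynomial over a ring A splits into linear factors over some A-algebra A' that is syntomic,
finite free and faithfully flat over A. -/
theorem result (A : Type u) [CommRing A] (P : A[X]) (hP : P.Monic) :
    ∃ (A' : Type u) (_ : CommRing A') (_ : Algebra A A'),
      Synt.IsSyntomic A A' ∧ Module.Finite A A' ∧ Module.Free A A' ∧ Module.FaithfullyFlat A A' ∧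
        ∃ s : Multiset A', P.map (algebraMap A A') = (s.map fun b => X - C b).prod := by
  obtain ⟨N, F, hfin, hfree, hnt, s, hs⟩ := Groth.Agent.Lib.Seat62.SplitAlg.main A P hP
  have hgci : Synt.IsRelGCI A N N F := by
    intro p hp
    refine ⟨le_rfl, ?_⟩
    have hfinF : Module.Finite p.asIdeal.ResidueField
        (p.asIdeal.Fiber (Synt.RelGCIRing A N N F)) := by
      have : Module.Finite A (Synt.RelGCIRing A N N F) := hfin
      infer_instance
    rw [Nat.sub_self, Nat.cast_zero]
    have := hp
    have := hfinF
    exact Groth.Agent.Lib.Seat62.SplitAlg.ringKrullDim_eq_zero_of_finite p.asIdeal.ResidueField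
      (p.asIdeal.Fiber (Synt.RelGCIRing A N N F))
  have hff : Module.FaithfullyFlat A (Synt.RelGCIRing A N N F) := by
    have : Module.Free A (Synt.RelGCIRing A N N F) := hfree
    rcases subsingleton_or_nontrivial A with hs' | hn'
    · have : Subsingleton (Synt.RelGCIRing A N N F) := Module.subsingleton A _
      refine ⟨fun m hm => ?_⟩
      exfalso
      exact hm.ne_top (Subsingleton.elim _ _)
    · have : Nontrivial (Synt.RelGCIRing A N N F) := hnt hn'
      infer_instance
  exact ⟨Synt.RelGCIRing A N N F, inferInstance, inferInstance,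
    Groth.Agent.Lib.Seat56.RelGCI.isSyntomic_of_isRelGCI hgci, hfin, hfree, hff, s, hs⟩

end Groth.Agent.S9149
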