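import Groth.Statements.S9172
import Groth.Agent.Lib.Seat62RelGCINhd
import Groth.Agent.Lib.Seat62RelGCIQuot

set_option autoImplicit false
universe u
open Synt

namespace Groth.Agent.S9172

open MvPolynomial in
/-- Let S = R[x_1, …, x_n]/(F_1, …, F_c) over a ring R. Let I be an ideal of R such that the reduction
R/I[x]/(F mod I) = S/IS is a relative global complete intersection over R/I (its nonempty fibres
have dimension n − c). Then some h in the polynomial ring, with image g in S, satisfies: g maps to 1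
in S/IS, and the presentation S_g = R[x_1, …, x_{n+1}]/(F_1, …, F_c, h·x_{n+1} − 1) is a relative
global complete intersection over R (with S_g isomorphic to it over R). -/
theorem result (R : Type u) [CommRing R] (n c : ℕ) (F : Fin c → MvPolynomial (Fin n) R)
    (I : Ideal R)
    (hI : Synt.IsRelGCI (R ⧸ I) n c (fun i => MvPolynomial.map (Ideal.Quotient.mk I) (F i))) :
    ∃ h : MvPolynomial (Fin n) R,
      Ideal.Quotient.mk (I.map (algebraMap R (Synt.RelGCIRing R n c F)))
        (Ideal.Quotient.mk (Ideal.span (Set.range F)) h) = 1 ∧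
      Synt.IsRelGCI R (n + 1) (c + 1)
        (Fin.snoc (fun i => rename Fin.castSucc (F i)) (rename Fin.castSucc h * X (Fin.last n) - 1)) ∧
      Nonempty (Localization.Away (Ideal.Quotient.mk (Ideal.span (Set.range F)) h) ≃ₐ[R]
        Synt.RelGCIRing R (n + 1) (c + 1)
          (Fin.snoc (fun i => rename Fin.castSucc (F i)) (rename Fin.castSucc h * X (Fin.last n) - 1))) := by
  classical
  have hft : Algebra.FiniteType R (Synt.RelGCIRing R n c F) :=
    Algebra.FiniteType.of_surjective (Ideal.Quotient.mkₐ R (Ideal.span (Set.range F)))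
      (Ideal.Quotient.mkₐ_surjective R _)
  have hopen := Groth.Agent.Lib.Helper4.FibDim.isOpen_setOf_fibLD_comap_le R
    (Synt.RelGCIRing R n c F) (n - c)
  set U : Set (PrimeSpectrum (Synt.RelGCIRing R n c F)) :=
    {q | Groth.Agent.Lib.Helper4.FibDim.fibLD
      (PrimeSpectrum.comap (algebraMap R (Synt.RelGCIRing R n c F))) q ≤
        ((n - c : ℕ) : WithBot ℕ∞)} with hUdef
  set J : Ideal (Synt.RelGCIRing R n c F) := PrimeSpectrum.vanishingIdeal Uᶜ with hJdef
  have hzero : PrimeSpectrum.zeroLocus (J : Set (Synt.RelGCIRing R n c F)) = Uᶜ := by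
    rw [hJdef, PrimeSpectrum.zeroLocus_vanishingIdeal_eq_closure]
    exact hopen.isClosed_compl.closure_eq
  have hover : ∀ (P : PrimeSpectrum R),
      ringKrullDim (P.asIdeal.Fiber (Synt.RelGCIRing R n c F)) ≤ ((n - c : ℕ) : WithBot ℕ∞) →
      ∀ q : PrimeSpectrum (Synt.RelGCIRing R n c F),
        PrimeSpectrum.comap (algebraMap R (Synt.RelGCIRing R n c F)) q = P → q ∈ U := by
    intro P hP q hq
    subst hq
    rw [hUdef, Set.mem_ofPred_eq, Groth.Agent.Lib.Helper4.FibDim.fibLD_comap_eq]
    refine (Groth.Agent.Lib.Helper7.TopDim.localDim_le_dim _).trans ?_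
    rw [PrimeSpectrum.topologicalKrullDim_eq_ringKrullDim]
    exact hP
  -- points over `V(I)` lie in `U`, and their existence forces `c ≤ n`
  have hA : ∀ q : PrimeSpectrum (Synt.RelGCIRing R n c F),
      I.map (algebraMap R (Synt.RelGCIRing R n c F)) ≤ q.asIdeal → c ≤ n ∧ q ∈ U := by
    intro q hq
    have hIp : I ≤ (PrimeSpectrum.comap (algebraMap R (Synt.RelGCIRing R n c F)) q).asIdeal := by
      intro r hr
      show algebraMap R (Synt.RelGCIRing R n c F) r ∈ q.asIdeal
      exact hq (Ideal.mem_map_of_mem _ hr)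
    obtain ⟨pb, hpb, ⟨e⟩⟩ := Groth.Agent.Lib.Seat62.RelGCIQuot.exists_fibre_ringEquiv_quotient
      R n c F I (PrimeSpectrum.comap (algebraMap R (Synt.RelGCIRing R n c F)) q).asIdeal hIp
    have hnt : Nontrivial ((PrimeSpectrum.comap
        (algebraMap R (Synt.RelGCIRing R n c F)) q).asIdeal.Fiber (Synt.RelGCIRing R n c F)) := by
      have Q := PrimeSpectrum.preimageHomeomorphFiber R (Synt.RelGCIRing R n c F)
        (PrimeSpectrum.comap (algebraMap R (Synt.RelGCIRing R n c F)) q) ⟨q, rfl⟩
      by_contra hnt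
      rw [not_nontrivial_iff_subsingleton] at hnt
      exact Q.2.ne_top (Subsingleton.elim _ _)
    have hnt' : Nontrivial (pb.Fiber (Synt.RelGCIRing (R ⧸ I) n c
        (fun i => MvPolynomial.map (Ideal.Quotient.mk I) (F i)))) := e.symm.toEquiv.nontrivial
    obtain ⟨hcn, hdim⟩ := hI ⟨pb, hpb⟩ hnt'
    refine ⟨hcn, hover _ ?_ q rfl⟩
    exact (ringKrullDim_eq_of_ringEquiv e).le.trans hdim.le
  by_cases hcn : c ≤ n
  · have hsup : J ⊔ I.map (algebraMap R (Synt.RelGCIRing R n c F)) = ⊤ := by
      by_contra hne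
      obtain ⟨m, hm, hle⟩ := Ideal.exists_le_maximal _ hne
      have hq := (hA ⟨m, hm.isPrime⟩ (le_sup_right.trans hle)).2
      have hz : (⟨m, hm.isPrime⟩ : PrimeSpectrum (Synt.RelGCIRing R n c F)) ∈
          PrimeSpectrum.zeroLocus (J : Set (Synt.RelGCIRing R n c F)) := by
        rw [PrimeSpectrum.mem_zeroLocus]
        intro x hx
        exact hle (Ideal.mem_sup_left hx)
      rw [hzero] at hz
      exact hz hq
    obtain ⟨g, hg, i, hi, hgi⟩ := Submodule.mem_sup.mp ((Ideal.eq_top_iff_one _).mp hsup)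
    obtain ⟨h, rfl⟩ := Ideal.Quotient.mk_surjective g
    refine ⟨h, ?_, ?_, ⟨Groth.Agent.Lib.Seat62.RelGCIAway.awayEquiv R n c F h⟩⟩
    · rw [← map_one (Ideal.Quotient.mk (I.map (algebraMap R (Synt.RelGCIRing R n c F)))),
        Ideal.Quotient.eq]
      have : Ideal.Quotient.mk (Ideal.span (Set.range F)) h - 1 = -i := by
        rw [← hgi]; ring
      rw [this]
      exact neg_mem hi
    · apply Groth.Agent.Lib.Seat62.RelGCINhd.isRelGCI_extRel R n c F h
      intro q hq
      refine ⟨hcn, ?_⟩
      by_contra hnot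
      have hqZ : q ∈ PrimeSpectrum.zeroLocus (J : Set (Synt.RelGCIRing R n c F)) := by
        rw [hzero]
        exact hnot
      rw [PrimeSpectrum.mem_zeroLocus] at hqZ
      exact hq (hqZ hg)
  · have htop : I.map (algebraMap R (Synt.RelGCIRing R n c F)) = ⊤ := by
      by_contra hne
      obtain ⟨m, hm, hle⟩ := Ideal.exists_le_maximal _ hne
      exact hcn (hA ⟨m, hm.isPrime⟩ hle).1
    refine ⟨0, ?_, ?_, ⟨Groth.Agent.Lib.Seat62.RelGCIAway.awayEquiv R n c F 0⟩⟩
    · have : Subsingleton (Synt.RelGCIRing R n c F ⧸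
          I.map (algebraMap R (Synt.RelGCIRing R n c F))) :=
        Ideal.Quotient.subsingleton_iff.mpr htop
      exact Subsingleton.elim _ _
    · apply Groth.Agent.Lib.Seat62.RelGCINhd.isRelGCI_extRel R n c F 0
      intro q hq
      exfalso
      apply hq
      have h0 : Groth.Agent.Lib.Seat62.RelGCIAway.gOf R n c F 0 = 0 :=
        map_zero (Ideal.Quotient.mk (Ideal.span (Set.range F)))
      rw [h0]
      exact q.asIdeal.zero_mem

end Groth.Agent.S9172
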