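import Groth.Statements.S9150
import Groth.Agent.Lib.Seat62SyntLift
import Groth.Agent.S9172

set_option autoImplicit false
universe u
open Synt

namespace Groth.Agent.S9150

open Groth.Agent.Lib.Seat62.SyntLift Groth.Agent.Lib.Seat62.RelGCIAway in
/-- A relative global complete intersection over `R ⧸ I` is `S/IS` for a relative global complete
intersection `S` over `R`. -/
theorem exists_lift_relGCI (R : Type u) [CommRing R] (I : Ideal R) (n c : ℕ)
    (Fb : Fin c → MvPolynomial (Fin n) (R ⧸ I)) (hI : Synt.IsRelGCI (R ⧸ I) n c Fb) :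
    ∃ (n' c' : ℕ) (F' : Fin c' → MvPolynomial (Fin n') R), Synt.IsRelGCI R n' c' F' ∧
      Nonempty (Synt.RelGCIRing (R ⧸ I) n c Fb ≃ₐ[R]
        (Synt.RelGCIRing R n' c' F' ⧸ I.map (algebraMap R (Synt.RelGCIRing R n' c' F')))) := by
  have hsurj : ∀ i, ∃ P : MvPolynomial (Fin n) R, MvPolynomial.map (Ideal.Quotient.mk I) P = Fb i :=
    fun i => MvPolynomial.map_surjective (Ideal.Quotient.mk I) Ideal.Quotient.mk_surjective (Fb i)
  choose F hF using hsurj
  obtain rfl : redRel R I n c F = Fb := funext hF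
  obtain ⟨h, hh, hrel, -⟩ := Groth.Agent.S9172.result R n c F I hI
  exact ⟨n + 1, c + 1, extRel R n c F h, hrel, ⟨redEquivQuot R I n c F h hh⟩⟩

/-- Let I be an ideal of a ring R and S̄ an R-algebra killed by I which is syntomic over R/I. Then S̄ is
covered by finitely many basic opens S̄_g each isomorphic, as an R-algebra, to S/IS for some
relative global complete intersection S over R. -/
theorem result (R : Type u) [CommRing R] (I : Ideal R) (Sb : Type u) [CommRing Sb]
    [Algebra R Sb] [Algebra (R ⧸ I) Sb] [IsScalarTower R (R ⧸ I) Sb] (h : Synt.IsSyntomic (R ⧸ I) Sb) :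
    ∃ s : Finset Sb, Ideal.span (s : Set Sb) = ⊤ ∧ ∀ g ∈ s,
      ∃ (n c : ℕ) (F : Fin c → MvPolynomial (Fin n) R), Synt.IsRelGCI R n c F ∧
        Nonempty (Localization.Away g ≃ₐ[R]
          (Synt.RelGCIRing R n c F ⧸ I.map (algebraMap R (Synt.RelGCIRing R n c F)))) := by
  classical
  set G : Set Sb := {g | ∃ (n c : ℕ) (F : Fin c → MvPolynomial (Fin n) R), Synt.IsRelGCI R n c F ∧
        Nonempty (Localization.Away g ≃ₐ[R]
          (Synt.RelGCIRing R n c F ⧸ I.map (algebraMap R (Synt.RelGCIRing R n c F))))} with hGdef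
  have hG : Ideal.span G = ⊤ := by
    by_contra hne
    obtain ⟨m, hm, hle⟩ := Ideal.exists_le_maximal _ hne
    have hmp : m.IsPrime := hm.isPrime
    obtain ⟨g, hg, n, c, Fb, hrel, ⟨e⟩⟩ :=
      Groth.Agent.Lib.Seat62.SyntLift.exists_relGCI_nhd_of_isSyntomic (R ⧸ I) Sb h m
    apply hg
    apply hle
    apply Ideal.subset_span
    obtain ⟨n', c', F', hrel', ⟨e'⟩⟩ := exists_lift_relGCI R I n c Fb hrel
    exact ⟨n', c', F', hrel', ⟨(e.restrictScalars R).trans e'⟩⟩
  obtain ⟨s, hsG, hs⟩ := (Ideal.span_eq_top_iff_finite G).mp hG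
  exact ⟨s, hs, fun g hg => hsG hg⟩

end Groth.Agent.S9150
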