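import Groth.Statements.S9182
import Groth.Agent.Lib.Seat78CotLoc

set_option autoImplicit false
universe u
open CAlg

namespace Groth.Agent.S9182

/-- For presentations α : R[x_1, …, x_n] → S and β : R[y_1, …, y_m] → S_g (g ∈ S) with kernels I and J,
the S_g-modules (I/I²)_g ⊕ S_g^m and J/J² ⊕ S_g^n are isomorphic. -/
theorem result (R S : Type u) [CommRing R] [CommRing S] [Algebra R S]
    (g : S) (n m : ℕ) (α : MvPolynomial (Fin n) R →ₐ[R] S) (hα : Function.Surjective α)
    (β : MvPolynomial (Fin m) R →ₐ[R] Localization.Away g) (hβ : Function.Surjective β) :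
    Nonempty ((LocalizedModule (Submonoid.powers g) (Algebra.Extension.ofSurjective α hα).Cotangent ×
        (Fin m → Localization.Away g)) ≃ₗ[Localization.Away g]
      ((Algebra.Extension.ofSurjective β hβ).Cotangent × (Fin n → Localization.Away g))) := by
  classical
  let T := Localization.Away g
  let P : Algebra.Extension.{u} R S := Algebra.Extension.ofSurjective α hα
  let Pβ : Algebra.Extension.{u} R T := Algebra.Extension.ofSurjective β hβ
  have : Algebra.FormallySmooth R P.Ring :=
    inferInstanceAs (Algebra.FormallySmooth R (MvPolynomial (Fin n) R))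
  have : Algebra.FormallySmooth R Pβ.Ring :=
    inferInstanceAs (Algebra.FormallySmooth R (MvPolynomial (Fin m) R))
  obtain ⟨Q, hQ, ⟨e1⟩, ⟨e2⟩⟩ :=
    Groth.Agent.Lib.Seat78.CotLoc.exists_localized_extension (T := T) P (Submonoid.powers g)
  have := hQ
  obtain ⟨e⟩ := Groth.Agent.Lib.Seat78.CotLoc.cotangent_prod_equiv_of_formallySmooth Q Pβ
  have hbc : IsBaseChange T (LocalizedModule.mkLinearMap (Submonoid.powers g) P.Cotangent) :=
    (isLocalizedModule_iff_isBaseChange (Submonoid.powers g) T _).mp inferInstance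
  let a : TensorProduct S T P.Cotangent ≃ₗ[T] LocalizedModule (Submonoid.powers g) P.Cotangent :=
    hbc.equiv
  let b : Pβ.CotangentSpace ≃ₗ[T] (Fin m → T) := Groth.Agent.S9162.cotSpaceEquiv m β hβ
  let c0 : P.CotangentSpace ≃ₗ[S] (Fin n → S) := Groth.Agent.S9162.cotSpaceEquiv n α hα
  let c : TensorProduct S T P.CotangentSpace ≃ₗ[T] (Fin n → T) :=
    (TensorProduct.AlgebraTensorModule.congr (LinearEquiv.refl T T) c0) ≪≫ₗ
      TensorProduct.piScalarRight S T T (Fin n)
  exact ⟨((a.symm ≪≫ₗ e1).prodCongr b.symm) ≪≫ₗ e ≪≫ₗ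
    ((LinearEquiv.refl T _).prodCongr (e2.symm ≪≫ₗ c))⟩

end Groth.Agent.S9182
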