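import Groth.Statements.S9151
import Groth.Agent.S9287
import Groth.Agent.S9182
import Groth.Agent.Lib.Seat31KoszulCot

set_option autoImplicit false
universe u
open Synt

namespace Groth.Agent.S9151

theorem nonempty_cotangentEquiv {A : Type u} [CommRing A] (I J : Ideal A) (h : I = J) :
    Nonempty (I.Cotangent ≃ₗ[A] J.Cotangent) := by
  subst h
  exact ⟨LinearEquiv.refl _ _⟩

set_option backward.isDefEq.respectTransparency false in
theorem nonempty_cotangent_linearEquiv {R P : Type u} [CommRing R] [CommRing P] [Algebra R P]
    (I : Ideal P) (hα : Function.Surjective (Ideal.Quotient.mkₐ R I)) :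
    Nonempty ((Algebra.Extension.ofSurjective (Ideal.Quotient.mkₐ R I) hα).Cotangent
      ≃ₗ[P ⧸ I] I.Cotangent) := by
  have hker : (Algebra.Extension.ofSurjective (Ideal.Quotient.mkₐ R I) hα).ker = I :=
    Ideal.Quotient.mkₐ_ker R I
  obtain ⟨e0⟩ := nonempty_cotangentEquiv
    (A := (Algebra.Extension.ofSurjective (Ideal.Quotient.mkₐ R I) hα).Ring) _ I hker
  refine ⟨{ toFun := fun x => e0 x.val
            invFun := fun y => .of (e0.symm y)
            left_inv := fun x => ?left
            right_inv := fun y => ?right
            map_add' := fun x y => ?add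
            map_smul' := fun s x => ?smul }⟩
  case left =>
    apply Algebra.Extension.Cotangent.ext
    exact e0.symm_apply_apply x.val
  case right => exact e0.apply_symm_apply y
  case add => exact map_add e0 x.val y.val
  case smul =>
    obtain ⟨p', rfl⟩ := (Algebra.Extension.ofSurjective (Ideal.Quotient.mkₐ R I)
      hα).algebraMap_surjective s
    have h1 : (algebraMap (Algebra.Extension.ofSurjective (Ideal.Quotient.mkₐ R I) hα).Ring
        (P ⧸ I) p' • x).val = p' • x.val :=
      Algebra.Extension.Cotangent.val_smul'
        (P := Algebra.Extension.ofSurjective (Ideal.Quotient.mkₐ R I) hα) p' x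
    show e0 (algebraMap (Algebra.Extension.ofSurjective (Ideal.Quotient.mkₐ R I) hα).Ring
        (P ⧸ I) p' • x).val = _
    rw [h1, map_smul]
    exact (algebraMap_smul (P ⧸ I) (p' : P) (e0 x.val)).symm

/-- Let S = R[x_1, …, x_n]/I with I finitely generated and let g ∈ S be such that S_g is syntomic over
R. Then the localization (I/I²)_g of the conormal module is a finite projective S_g-module. -/
theorem result (R : Type u) [CommRing R] (n : ℕ)
    (I : Ideal (MvPolynomial (Fin n) R)) (hI : I.FG) (g : MvPolynomial (Fin n) R ⧸ I)
    (hg : Synt.IsSyntomic R (Localization.Away g)) :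
    Module.Finite (Localization.Away g) (LocalizedModule (Submonoid.powers g) I.Cotangent) ∧
      Module.Projective (Localization.Away g) (LocalizedModule (Submonoid.powers g) I.Cotangent) := by
  classical
  have hlci : LCI.IsLCI R (Localization.Away g) := ((Groth.Agent.S9287.result _ _).1 hg).2
  obtain ⟨-, m, β, hβ, hK⟩ := hlci
  have hα : Function.Surjective (Ideal.Quotient.mkₐ R I) := Ideal.Quotient.mkₐ_surjective R I
  obtain ⟨e⟩ := Groth.Agent.S9182.result R (MvPolynomial (Fin n) R ⧸ I) g n m
    (Ideal.Quotient.mkₐ R I) hα β hβ
  -- the right hand side is finite projective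
  have hK' : LCI.IsKoszulRegularIdeal (Algebra.Extension.ofSurjective β hβ).ker := hK
  obtain ⟨h1, h2⟩ := Groth.Agent.Lib.Seat31.KoszulCot.finite_projective_cotangent _ hK'
  have hfin : Module.Finite (Localization.Away g) (LocalizedModule (Submonoid.powers g)
      (Algebra.Extension.ofSurjective (Ideal.Quotient.mkₐ R I) hα).Cotangent) := by
    have : Module.Finite (Localization.Away g) (LocalizedModule (Submonoid.powers g)
        (Algebra.Extension.ofSurjective (Ideal.Quotient.mkₐ R I) hα).Cotangent ×
          (Fin m → Localization.Away g)) := Module.Finite.equiv e.symm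
    exact Module.Finite.of_surjective (LinearMap.fst (Localization.Away g)
      (LocalizedModule (Submonoid.powers g)
        (Algebra.Extension.ofSurjective (Ideal.Quotient.mkₐ R I) hα).Cotangent)
      (Fin m → Localization.Away g)) LinearMap.fst_surjective
  have hproj : Module.Projective (Localization.Away g) (LocalizedModule (Submonoid.powers g)
      (Algebra.Extension.ofSurjective (Ideal.Quotient.mkₐ R I) hα).Cotangent) := by
    have : Module.Projective (Localization.Away g) (LocalizedModule (Submonoid.powers g)
        (Algebra.Extension.ofSurjective (Ideal.Quotient.mkₐ R I) hα).Cotangent ×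
          (Fin m → Localization.Away g)) := Module.Projective.of_equiv e.symm
    exact Module.Projective.of_split (LinearMap.inl (Localization.Away g)
      (LocalizedModule (Submonoid.powers g)
        (Algebra.Extension.ofSurjective (Ideal.Quotient.mkₐ R I) hα).Cotangent)
      (Fin m → Localization.Away g)) (LinearMap.fst (Localization.Away g) _ _)
      (LinearMap.fst_comp_inl _ _ _)
  -- transport to `I.Cotangent`
  obtain ⟨e2⟩ := nonempty_cotangent_linearEquiv I hα
  let e3 := IsLocalizedModule.mapEquiv (Submonoid.powers g)
    (LocalizedModule.mkLinearMap (Submonoid.powers g)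
      (Algebra.Extension.ofSurjective (Ideal.Quotient.mkₐ R I) hα).Cotangent)
    (LocalizedModule.mkLinearMap (Submonoid.powers g) I.Cotangent) (Localization.Away g) e2
  exact ⟨Module.Finite.equiv e3, Module.Projective.of_equiv e3⟩

end Groth.Agent.S9151
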