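import Groth.Statements.S9156
import Groth.Agent.Lib.Helper28FGDim
import Groth.Agent.Lib.Helper14FTDim

set_option autoImplicit false
universe u
open CAlg

namespace Groth.Agent.S9156

open Groth.Agent.Lib.Helper28

section Aux

/-- The dimension of `S / p` as a natural number. -/
noncomputable def δ (S : Type u) [CommRing S] (p : Ideal S) : ℕ :=
  ((ringKrullDim (S ⧸ p)).unbotD 0).toNat

variable (k : Type u) [Field k] (S : Type u) [CommRing S] [Algebra k S] [Algebra.FiniteType k S]

include k in
theorem dim_eq_δ (p : Ideal S) [hp : p.IsPrime] : ringKrullDim (S ⧸ p) = (δ S p : WithBot ℕ∞) := by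
  obtain ⟨d, -, h2, -⟩ := Groth.Agent.Lib.Helper14.FTDim.exists_dim k (S ⧸ p)
  rw [δ, h2]
  simp

include k in
/-- In a Cohen–Macaulay finite type algebra over a field, a maximal ideal containing a minimal
prime `p` has height `dim S/p`. -/
theorem height_eq_of_le [hS : LocCoh.IsCohenMacaulayRing S] (p : Ideal S)
    (hpmin : p ∈ minimalPrimes S) (m : Ideal S) (hm : m.IsMaximal) (hpm : p ≤ m) :
    m.height = (δ S p : ℕ∞) := by
  have hmp : m.IsPrime := hm.isPrime
  have hp : p.IsPrime := hpmin.1.1
  have hM : (m.map (Ideal.Quotient.mk p)).IsMaximal :=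
    Ideal.IsMaximal.map_of_surjective_of_ker_le Ideal.Quotient.mk_surjective
      (by rwa [Ideal.mk_ker])
  have hMp : (m.map (Ideal.Quotient.mk p)).IsPrime := hM.isPrime
  have hcm : (m.map (Ideal.Quotient.mk p)).comap (Ideal.Quotient.mk p) = m := by
    rw [Ideal.comap_map_of_surjective _ Ideal.Quotient.mk_surjective, ← RingHom.ker_eq_comap_bot,
      Ideal.mk_ker]
    exact sup_eq_left.mpr hpm
  have h1 := height_eq_ringKrullDim_quotient_of_isMaximal_of_finiteType k S p
    (m.map (Ideal.Quotient.mk p))
  rw [dim_eq_δ k S p] at h1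
  have h1' : (m.map (Ideal.Quotient.mk p)).height = (δ S p : ℕ∞) := by exact_mod_cast h1
  have h2 := height_comap_eq_height_add_height_map p (m.map (Ideal.Quotient.mk p))
  have hcp : ((m.map (Ideal.Quotient.mk p)).comap (Ideal.Quotient.mk p)).IsPrime :=
    Ideal.comap_isPrime _ _
  have hN : IsNoetherianRing S := inferInstance
  rw [IsLocalization.height_map_of_disjoint
    ((m.map (Ideal.Quotient.mk p)).comap (Ideal.Quotient.mk p)).primeCompl p
    (by
      rw [Set.disjoint_left]
      intro x hx hxp
      apply hx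
      rw [hcm]
      exact hpm hxp), hcm, h1', Ideal.height_eq_zero_iff.mpr hpmin, add_zero] at h2
  exact h2

end Aux

/-- A Cohen–Macaulay finite type algebra S over a field k decomposes as a finite product of k-algebras
S_0 × ⋯ × S_N in which every maximal ideal of the factor S_d has height d (so Spec S is a finite
disjoint union of equidimensional open and closed pieces). -/
theorem result (k S : Type u) [Field k] [CommRing S]
    [Algebra k S] [Algebra.FiniteType k S] [LocCoh.IsCohenMacaulayRing S] :
    ∃ (N : ℕ) (T : Fin (N + 1) → Type u) (_ : ∀ d, CommRing (T d)) (_ : ∀ d, Algebra k (T d)),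
      Nonempty (S ≃ₐ[k] ((d : Fin (N + 1)) → T d)) ∧
        ∀ (d : Fin (N + 1)) (m : Ideal (T d)), m.IsMaximal → m.height = (d : ℕ) := by
  classical
  have hNoeth : IsNoetherianRing S := inferInstance
  have hfin : (minimalPrimes S).Finite := minimalPrimes.finite_of_isNoetherianRing S
  set P : Finset (Ideal S) := hfin.toFinset with hP
  have hPmem : ∀ p, p ∈ P ↔ p ∈ minimalPrimes S := fun p => hfin.mem_toFinset
  set N : ℕ := P.sup (δ S) with hN
  -- the ideals cutting out the pieces
  let I : Fin (N + 1) → Ideal S := fun d => (P.filter (fun p => δ S p = (d : ℕ))).inf id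
  have hIle : ∀ (d : Fin (N + 1)) (p : Ideal S), p ∈ minimalPrimes S → δ S p = (d : ℕ) →
      I d ≤ p := by
    intro d p hp hd
    exact Finset.inf_le (f := id) (Finset.mem_filter.mpr ⟨(hPmem p).2 hp, hd⟩)
  have hcop : Pairwise (Function.onFun IsCoprime I) := by
    intro d d' hdd'
    rw [Function.onFun, Ideal.isCoprime_iff_sup_eq]
    by_contra hne
    obtain ⟨m, hm, hle⟩ := Ideal.exists_le_maximal _ hne
    have hmp : m.IsPrime := hm.isPrime
    obtain ⟨p, hp, hpm⟩ := hmp.inf_le'.mp (le_sup_left.trans hle : I d ≤ m)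
    obtain ⟨p', hp', hpm'⟩ := hmp.inf_le'.mp (le_sup_right.trans hle : I d' ≤ m)
    rw [Finset.mem_filter] at hp hp'
    have h1 := height_eq_of_le k S p ((hPmem p).1 hp.1) m hm hpm
    have h2 := height_eq_of_le k S p' ((hPmem p').1 hp'.1) m hm hpm'
    rw [h1] at h2
    have h3 : δ S p = δ S p' := by exact_mod_cast h2
    apply hdd'
    apply Fin.ext
    rw [← hp.2, ← hp'.2, h3]
  -- the intersection of the `I d` is nil
  have hnil : ∀ x ∈ ⨅ d, I d, IsNilpotent x := by
    intro x hx
    rw [← mem_nilradical, nilradical, ← Ideal.sInf_minimalPrimes, Ideal.mem_sInf]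
    intro p hp
    have hp' : p ∈ minimalPrimes S := hp
    have hle : δ S p ≤ N := Finset.le_sup (f := δ S) ((hPmem p).2 hp')
    have := hIle ⟨δ S p, Nat.lt_succ_of_le hle⟩ p hp' rfl
    exact this ((Ideal.mem_iInf.mp hx) _)
  -- the CRT map
  let g : S →+* ∀ d, S ⧸ I d :=
    (Ideal.quotientInfRingEquivPiQuotient I hcop : _ →+* _).comp (Ideal.Quotient.mk (⨅ d, I d))
  have hgsurj : Function.Surjective g :=
    (Ideal.quotientInfRingEquivPiQuotient I hcop).surjective.comp Ideal.Quotient.mk_surjective
  have hgapply : ∀ (x : S) (d : Fin (N + 1)), g x d = Ideal.Quotient.mk (I d) x := fun x d => rfl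
  have hgker : ∀ x ∈ RingHom.ker g, IsNilpotent x := by
    intro x hx
    apply hnil
    rw [Ideal.mem_iInf]
    intro d
    rw [← Ideal.Quotient.eq_zero_iff_mem, ← hgapply]
    rw [RingHom.mem_ker] at hx
    rw [hx]
    rfl
  obtain ⟨e, he, hge⟩ := CompleteOrthogonalIdempotents.lift_of_isNilpotent_ker g hgker
    (CompleteOrthogonalIdempotents.single (fun d : Fin (N + 1) => S ⧸ I d))
    (fun d => by
      obtain ⟨x, hx⟩ := hgsurj (Pi.single d 1)
      exact ⟨x, hx⟩)
  -- `e d` lies in `I d'` for `d' ≠ d`
  have hemem : ∀ d d' : Fin (N + 1), d' ≠ d → e d ∈ I d' := by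
    intro d d' hne
    rw [← Ideal.Quotient.eq_zero_iff_mem, ← hgapply]
    have := congrFun (congrFun hge d) d'
    simp only [Function.comp_apply] at this
    rw [this, Pi.single_eq_of_ne hne]
  refine ⟨N, fun d => S ⧸ Ideal.span {1 - e d}, fun d => inferInstance, fun d => inferInstance,
    ⟨?_⟩, ?_⟩
  · refine AlgEquiv.ofBijective
      (AlgHom.pi (fun d => Ideal.Quotient.mkₐ k (Ideal.span {1 - e d}))) ?_
    exact he.bijective_pi
  · intro d M hM
    have hMp : M.IsPrime := hM.isPrime
    have hloc : IsLocalization.Away (e d) (S ⧸ Ideal.span {1 - e d}) :=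
      IsLocalization.away_of_isIdempotentElem (he.idem d) Ideal.mk_ker
        Ideal.Quotient.mk_surjective
    rw [← IsLocalization.height_under (Submonoid.powers (e d)) M]
    have hm : (M.under S).IsMaximal :=
      Ideal.comap_isMaximal_of_surjective _ Ideal.Quotient.mk_surjective
    have hmp : (M.under S).IsPrime := hm.isPrime
    have h1e : (1 - e d) ∈ M.under S := by
      rw [Ideal.under_def, Ideal.mem_comap]
      have : algebraMap S (S ⧸ Ideal.span {1 - e d}) (1 - e d) = 0 :=
        Ideal.Quotient.eq_zero_iff_mem.mpr (Ideal.subset_span rfl)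
      rw [this]
      exact M.zero_mem
    have hed : e d ∉ M.under S := by
      intro hmem
      apply hm.ne_top
      rw [Ideal.eq_top_iff_one]
      have := (M.under S).add_mem h1e hmem
      rwa [sub_add_cancel] at this
    obtain ⟨p, hpmin, hpm⟩ := Ideal.exists_minimalPrimes_le (I := (⊥ : Ideal S))
      (J := M.under S) bot_le
    have hpmin' : p ∈ minimalPrimes S := hpmin
    have hle : δ S p ≤ N := Finset.le_sup (f := δ S) ((hPmem p).2 hpmin')
    have hdp : δ S p = (d : ℕ) := by
      by_contra hne
      apply hed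
      apply hpm
      refine hIle ⟨δ S p, Nat.lt_succ_of_le hle⟩ p hpmin' rfl
        (hemem d ⟨δ S p, Nat.lt_succ_of_le hle⟩ ?_)
      intro heq
      apply hne
      rw [← heq]
    rw [height_eq_of_le k S p hpmin' _ hm hpm, hdp]

end Groth.Agent.S9156
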