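import Groth.Statements.S9158
import Groth.Agent.Lib.Seat14GenFreeRed

set_option autoImplicit false
universe u
open CAlg

namespace Groth.Agent.S9158

/-- Generic freeness over a reduced ring: let R → S be of finite type with R reduced and M a finite
S-module. There is a dense open subset U of Spec R such that each point of U lies in a basic open
D(f) ⊆ U with M_f and S_f free over R_f, S_f of finite presentation over R_f, and M_f of finite
presentation over S_f. -/
theorem result (R S : Type u) [CommRing R] [IsReduced R] [CommRing S]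
    [Algebra R S] [Algebra.FiniteType R S] (M : Type u) [AddCommGroup M] [Module S M] [Module R M]
    [IsScalarTower R S M] [Module.Finite S M] :
    ∃ U : Set (PrimeSpectrum R), IsOpen U ∧ Dense U ∧ ∀ u ∈ U, ∃ f : R, f ∉ u.asIdeal ∧
      (PrimeSpectrum.basicOpen f : Set (PrimeSpectrum R)) ⊆ U ∧
      Module.Free (Localization.Away f) (LocalizedModule (Submonoid.powers f) M) ∧
      Module.Free (Localization.Away f) (LocalizedModule (Submonoid.powers f) S) ∧
      (Localization.awayMap (algebraMap R S) f).FinitePresentation ∧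
      Module.FinitePresentation (Localization.Away (algebraMap R S f))
        (LocalizedModule (Submonoid.powers (algebraMap R S f)) M) := by
  classical
  refine ⟨⋃ f ∈ {f : R | Groth.Agent.Lib.Seat14.GenFreeRed.Good R S M f},
    (PrimeSpectrum.basicOpen f : Set (PrimeSpectrum R)), ?_, ?_, ?_⟩
  · exact isOpen_biUnion fun f _ => (PrimeSpectrum.basicOpen f).isOpen
  · rw [dense_iff_inter_open]
    rintro V hV ⟨x, hx⟩
    obtain ⟨_, ⟨g₀, rfl⟩, hxg, hgV⟩ :=
      PrimeSpectrum.isTopologicalBasis_basic_opens.exists_subset_of_mem_open hx hV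
    have hg₀ : ¬ IsNilpotent g₀ := by
      intro hn
      have : g₀ ∈ x.asIdeal := by
        obtain ⟨n, hn⟩ := hn
        exact x.2.mem_of_pow_mem n (by rw [hn]; exact Ideal.zero_mem _)
      exact hxg this
    obtain ⟨f, hf, hdvd, hgood⟩ :=
      Groth.Agent.Lib.Seat14.GenFreeRed.exists_good_multiple R S M g₀ hg₀
    have hne : PrimeSpectrum.basicOpen f ≠ ⊥ := fun h =>
      hf (PrimeSpectrum.basicOpen_eq_bot_iff f |>.mp h)
    obtain ⟨y, hy⟩ : ∃ y, y ∈ PrimeSpectrum.basicOpen f := by
      by_contra hcon
      push Not at hcon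
      exact hne (TopologicalSpace.Opens.ext (Set.eq_empty_of_forall_notMem hcon))
    refine ⟨y, hgV ?_, Set.mem_biUnion hgood hy⟩
    intro hmem
    exact hy (Ideal.mem_of_dvd _ hdvd hmem)
  · intro u hu
    obtain ⟨f, hfgood, huf⟩ := Set.mem_iUnion₂.mp hu
    exact ⟨f, huf, fun z hz => Set.mem_biUnion hfgood hz, hfgood⟩

end Groth.Agent.S9158
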