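import Groth.Statements.S9169
import Groth.Agent.Lib.Seat62SyntNhdD
import Groth.Agent.Lib.Seat62SyntNhdE
import Groth.Agent.Lib.Seat56RelGCI5

set_option autoImplicit false
universe u
open Synt

namespace Groth.Agent.S9169

open TensorProduct in
/-- Let R → S be a ring map and q a prime of S lying over p; write Q for the prime of the fibre ring
κ(p) ⊗ S that pulls back to q. Equivalent: (1) some basic open neighbourhood S_g of q is syntomic
over R; (2) some S_g is isomorphic over R to a relative global complete intersection; (3) some S_g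
is of finite presentation over R, the local ring S_q is flat over R (equivalently over R_p), and the
fibre local ring (κ(p) ⊗ S)_Q is a complete intersection over κ(p). Stated as (1) ↔ (2) and (1) ↔
(3). -/
theorem result (R S : Type u) [CommRing R] [CommRing S] [Algebra R S]
    (p : Ideal R) [p.IsPrime] (q : Ideal S) [q.IsPrime] [q.LiesOver p]
    (Q : Ideal (p.Fiber S)) [Q.IsPrime]
    (hQ : Q.comap (Algebra.TensorProduct.includeRight.toRingHom) = q) :
    ((∃ g : S, g ∉ q ∧ Synt.IsSyntomic R (Localization.Away g)) ↔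
        ∃ g : S, g ∉ q ∧ ∃ (n c : ℕ) (F : Fin c → MvPolynomial (Fin n) R), Synt.IsRelGCI R n c F ∧
          Nonempty (Localization.Away g ≃ₐ[R] Synt.RelGCIRing R n c F)) ∧
      ((∃ g : S, g ∉ q ∧ Synt.IsSyntomic R (Localization.Away g)) ↔
        ∃ g : S, g ∉ q ∧ Algebra.FinitePresentation R (Localization.Away g) ∧
          Module.Flat R (Localization.AtPrime q) ∧
          Synt.IsCIOver p.ResidueField (Localization.AtPrime Q)) := by
  -- (2) ⇒ (1)
  have h21 : (∃ g : S, g ∉ q ∧ ∃ (n c : ℕ) (F : Fin c → MvPolynomial (Fin n) R),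
      Synt.IsRelGCI R n c F ∧ Nonempty (Localization.Away g ≃ₐ[R] Synt.RelGCIRing R n c F)) →
      ∃ g : S, g ∉ q ∧ Synt.IsSyntomic R (Localization.Away g) := by
    rintro ⟨g, hg, n, c, F, hrel, ⟨e⟩⟩
    exact ⟨g, hg, Groth.Agent.Lib.Seat62.SyntNhdE.isSyntomic_of_algEquiv e.symm
      (Groth.Agent.Lib.Seat56.RelGCI.isSyntomic_of_isRelGCI hrel)⟩
  -- (1) ⇒ (3)
  have h13 : (∃ g : S, g ∉ q ∧ Synt.IsSyntomic R (Localization.Away g)) →
      ∃ g : S, g ∉ q ∧ Algebra.FinitePresentation R (Localization.Away g) ∧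
        Module.Flat R (Localization.AtPrime q) ∧
        Synt.IsCIOver p.ResidueField (Localization.AtPrime Q) := by
    rintro ⟨g, hg, hflat, hfp, hfib⟩
    refine ⟨g, hg, hfp, ?_, ?_⟩
    · have hq'p := Groth.Agent.Lib.Seat42.CISpread.isPrime_map_away g q hg
      obtain ⟨e⟩ := Groth.Agent.Lib.Seat42.CISpread.nonempty_atPrime_away_equiv R g q hg
        (q.map (algebraMap S (Localization.Away g))) rfl
      have h1 : Module.Flat R
          (Localization.AtPrime (q.map (algebraMap S (Localization.Away g)))) :=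
        Module.Flat.trans R (Localization.Away g) _
      exact Module.Flat.of_linearEquiv e.toLinearEquiv.symm
    · have h1g : (1 : p.ResidueField) ⊗ₜ[R] g ∉ Q := by
        intro hmem
        apply hg
        rw [← hQ]
        exact hmem
      have h1 := Groth.Agent.Lib.Seat41.SyntLocal.isLCIOver_of_algEquiv p.ResidueField _ _
        (IsLocalization.Away.tensorProductEquivTMulRight R p.ResidueField g (Localization.Away g))
        (hfib ⟨p, inferInstance⟩)
      exact Groth.Agent.Lib.Seat42.CISpread.isCIOver_atPrime_of_isLCIOver_away p.ResidueField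
        (p.Fiber S) Q _ h1g h1
  -- (3) ⇒ (2)
  have h32 : (∃ g : S, g ∉ q ∧ Algebra.FinitePresentation R (Localization.Away g) ∧
        Module.Flat R (Localization.AtPrime q) ∧
        Synt.IsCIOver p.ResidueField (Localization.AtPrime Q)) →
      ∃ g : S, g ∉ q ∧ ∃ (n c : ℕ) (F : Fin c → MvPolynomial (Fin n) R),
        Synt.IsRelGCI R n c F ∧ Nonempty (Localization.Away g ≃ₐ[R] Synt.RelGCIRing R n c F) := by
    rintro ⟨g, hg, hfp, hflat, hCI⟩
    have hq'p := Groth.Agent.Lib.Seat42.CISpread.isPrime_map_away g q hg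
    obtain ⟨Q', hQ'p, hQ'c, ⟨eQ⟩⟩ :=
      Groth.Agent.Lib.Seat62.SyntNhdE.exists_fibre_prime R S p g q hg Q hQ
    obtain ⟨eq⟩ := Groth.Agent.Lib.Seat42.CISpread.nonempty_atPrime_away_equiv R g q hg
      (q.map (algebraMap S (Localization.Away g))) rfl
    have hp : p = (q.map (algebraMap S (Localization.Away g))).comap
        (algebraMap R (Localization.Away g)) := by
      rw [IsScalarTower.algebraMap_eq R S (Localization.Away g), ← Ideal.comap_comap,
        Groth.Agent.Lib.Seat42.CISpread.comap_map_away g q hg]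
      exact Ideal.LiesOver.over
    have hflat' : Module.Flat R
        (Localization.AtPrime (q.map (algebraMap S (Localization.Away g)))) :=
      Module.Flat.of_linearEquiv eq.toLinearEquiv
    have hCI' : Synt.IsCIOver p.ResidueField (Localization.AtPrime Q') :=
      Groth.Agent.Lib.Seat42.CISpread.isCIOver_of_algEquiv p.ResidueField _ _ eQ.symm hCI
    obtain ⟨g', hg', n, c, F, hrel, ⟨e⟩⟩ :=
      Groth.Agent.Lib.Seat62.SyntNhdD.exists_away_relGCI R (Localization.Away g) p
        (q.map (algebraMap S (Localization.Away g))) hp Q' hQ'c hflat' hCI'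
    obtain ⟨g'', hg'', ⟨e'⟩⟩ :=
      Groth.Agent.Lib.Seat62.SyntNhdE.exists_away_equiv R S g q hg g' hg'
    exact ⟨g'', hg'', n, c, F, hrel, ⟨e'.trans e⟩⟩
  exact ⟨⟨fun h => h32 (h13 h), h21⟩, ⟨h13, fun h => h21 (h32 h)⟩⟩

end Groth.Agent.S9169
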