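import Groth.Statements.S9171
import Groth.Agent.Lib.Seat42CISpread

set_option autoImplicit false
universe u
open Synt

namespace Groth.Agent.S9171

open Groth.Agent.Lib.Seat42.CIIdeal Groth.Agent.Lib.Seat42.CICover Groth.Agent.Lib.Seat42.CISpread

/-- Let S = k[x_1, …, x_n]/I over a field k, q a prime of S, q' the corresponding prime of the
polynomial ring and c the integer with c + ht(q) = ht(q'). Equivalent: (1) S_g is a global complete
intersection over k for some g ∉ q; (2) the extension of I to the local ring k[x]_{q'} is generated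
by c elements; (5) that extension is generated by a regular sequence. Stated as (1) ↔ (2) and (1) ↔
(5). -/
theorem result (k : Type u) [Field k] (n : ℕ)
    (I : Ideal (MvPolynomial (Fin n) k)) (q : Ideal (MvPolynomial (Fin n) k ⧸ I)) [q.IsPrime] (c : ℕ)
    (hc : (c : ℕ∞) + q.height = (q.comap (Ideal.Quotient.mk I)).height) :
    ((∃ g : MvPolynomial (Fin n) k ⧸ I, g ∉ q ∧ Synt.IsGlobalCI k (Localization.Away g)) ↔
        ∃ s : Finset (Localization.AtPrime (q.comap (Ideal.Quotient.mk I))), s.card = c ∧
          Ideal.span (s : Set _) =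
            I.map (algebraMap _ (Localization.AtPrime (q.comap (Ideal.Quotient.mk I))))) ∧
      ((∃ g : MvPolynomial (Fin n) k ⧸ I, g ∉ q ∧ Synt.IsGlobalCI k (Localization.Away g)) ↔
        ∃ rs : List (Localization.AtPrime (q.comap (Ideal.Quotient.mk I))),
          RingTheory.Sequence.IsRegular (Localization.AtPrime (q.comap (Ideal.Quotient.mk I))) rs ∧
          Ideal.ofList rs =
            I.map (algebraMap _ (Localization.AtPrime (q.comap (Ideal.Quotient.mk I))))) := by
  classical
  have hNP : IsNoetherianRing (Localization.AtPrime (q.comap (Ideal.Quotient.mk I))) :=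
    inferInstance
  have hCM : LocCoh.IsCohenMacaulayLocalRing
      (Localization.AtPrime (q.comap (Ideal.Quotient.mk I))) :=
    Groth.Agent.Lib.Helper5.isCohenMacaulayLocalRing_of_isRegularLocalRing _
  have hφ : Function.Surjective (Ideal.Quotient.mkₐ k I) := Ideal.Quotient.mkₐ_surjective k I
  obtain ⟨ρ, hρ, -, hkerρ⟩ := exists_atPrime_cover (Ideal.Quotient.mkₐ k I) hφ q
    (q.comap (Ideal.Quotient.mk I)) rfl
  have hkI : RingHom.ker (Ideal.Quotient.mkₐ k I).toRingHom = I := Ideal.Quotient.mkₐ_ker k I
  rw [hkI] at hkerρ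
  have hess : Algebra.EssFiniteType k (Localization.AtPrime (q.comap (Ideal.Quotient.mk I))) := by
    have : Algebra.EssFiniteType (MvPolynomial (Fin n) k)
        (Localization.AtPrime (q.comap (Ideal.Quotient.mk I))) :=
      Algebra.EssFiniteType.of_isLocalization _ (q.comap (Ideal.Quotient.mk I)).primeCompl
    exact Algebra.EssFiniteType.comp k (MvPolynomial (Fin n) k) _
  have hne : I.map (algebraMap _ (Localization.AtPrime (q.comap (Ideal.Quotient.mk I)))) ≠ ⊤ := by
    rw [← hkerρ]; exact RingHom.ker_ne_top _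
  -- (1) ↔ `S_q` is a complete intersection ↔ `I P` is generated by a regular sequence
  have hA : (∃ g : MvPolynomial (Fin n) k ⧸ I, g ∉ q ∧ Synt.IsGlobalCI k (Localization.Away g)) ↔
      IsCI (Localization.AtPrime (q.comap (Ideal.Quotient.mk I)))
        (I.map (algebraMap _ (Localization.AtPrime (q.comap (Ideal.Quotient.mk I))))) := by
    constructor
    · rintro ⟨g, hg, hG⟩
      have h1 := isCIOver_atPrime_of_isGlobalCI_away k _ q g hg hG
      have h2 := isCI_ker_of_isCIOver k _ h1 _ ρ hρ
      rwa [hkerρ] at h2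
    · intro h
      rw [← hkerρ] at h
      exact exists_isGlobalCI_away_of_isCIOver_atPrime k _ q
        (isCIOver_of_isCI k _ _ ρ hρ h)
  -- numerics
  obtain ⟨e, he⟩ := ENat.ne_top_iff_exists.mp (Ideal.height_ne_top_of_isPrime (I := q))
  obtain ⟨d, hd⟩ := ENat.ne_top_iff_exists.mp
    (Ideal.height_ne_top_of_isPrime (I := q.comap (Ideal.Quotient.mk I)))
  rw [← he, ← hd] at hc
  have hced : c + e = d := by exact_mod_cast hc
  have hdP : ringKrullDim (Localization.AtPrime (q.comap (Ideal.Quotient.mk I))) = d := by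
    rw [IsLocalization.AtPrime.ringKrullDim_eq_height (q.comap (Ideal.Quotient.mk I)), ← hd]
    rfl
  have heP : ringKrullDim (Localization.AtPrime (q.comap (Ideal.Quotient.mk I)) ⧸
      I.map (algebraMap _ (Localization.AtPrime (q.comap (Ideal.Quotient.mk I))))) = e := by
    rw [ringKrullDim_eq_of_ringEquiv ((Ideal.quotEquivOfEq hkerρ.symm).trans
      (RingHom.quotientKerEquivOfSurjective (f := ρ.toRingHom) hρ)),
      IsLocalization.AtPrime.ringKrullDim_eq_height q, ← he]
    rfl
  have hnum := isCI_iff_nat _ hne d e hdP heP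
  have hht : (I.map (algebraMap _
      (Localization.AtPrime (q.comap (Ideal.Quotient.mk I))))).height = c := by
    have h1 := Groth.Agent.Lib.Helper28.height_add_ringKrullDim_quotient_eq_of_isCohenMacaulayLocalRing
      _ hne
    rw [hdP, heP] at h1
    obtain ⟨t, ht⟩ := ENat.ne_top_iff_exists.mp (Ideal.height_ne_top hne)
    rw [← ht] at h1 ⊢
    have h1' : t + e = d := by exact_mod_cast h1
    have : t = c := by omega
    rw [this]
  have hge : c ≤ (I.map (algebraMap _
      (Localization.AtPrime (q.comap (Ideal.Quotient.mk I))))).spanFinrank := by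
    have := Ideal.height_le_spanFinrank _ hne
    rw [hht] at this
    exact_mod_cast this
  refine ⟨hA.trans ⟨fun h => ?_, fun h => ?_⟩, hA.trans ⟨fun h => ?_, fun h => ?_⟩⟩
  · rw [hnum] at h
    have heq : (I.map (algebraMap _
        (Localization.AtPrime (q.comap (Ideal.Quotient.mk I))))).spanFinrank = c := by omega
    obtain ⟨s, hs1, hs2⟩ := Submodule.FG.exists_span_finset_card_eq_spanFinrank
      (p := I.map (algebraMap _ (Localization.AtPrime (q.comap (Ideal.Quotient.mk I)))))
      (IsNoetherian.noetherian _)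
    exact ⟨s, hs1.trans heq, hs2⟩
  · obtain ⟨s, hs1, hs2⟩ := h
    rw [hnum]
    have hle : (I.map (algebraMap _
        (Localization.AtPrime (q.comap (Ideal.Quotient.mk I))))).spanFinrank ≤ c := by
      rw [← hs2, ← hs1]
      have := Submodule.spanFinrank_span_le_ncard_of_finite
        (R := Localization.AtPrime (q.comap (Ideal.Quotient.mk I))) (s.finite_toSet)
      rwa [Set.ncard_coe_finset] at this
    omega
  · obtain ⟨rs, hrs, hreg⟩ := h
    exact ⟨rs, hreg, hrs⟩
  · obtain ⟨rs, hreg, hrs⟩ := h
    exact ⟨rs, hrs, hreg⟩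


end Groth.Agent.S9171
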