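import Groth.Statements.S9173
import Groth.Agent.Lib.Seat62RelGCINhd

set_option autoImplicit false
universe u
open Synt

namespace Groth.Agent.S9173

open MvPolynomial TensorProduct in
/-- Let S = R[x_1, …, x_n]/(F_1, …, F_c) over a ring R. Let p be a prime of R whose fibre ring κ(p) ⊗ S
has Krull dimension n − c (with c ≤ n). Then some h in the polynomial ring, with image g in S,
satisfies: g maps to a unit of κ(p) ⊗ S, and the presentation S_g = R[x_1, …, x_{n+1}]/(F_1, …, F_c,
h·x_{n+1} − 1) is a relative global complete intersection over R (with S_g isomorphic to it over R). -/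
theorem result (R : Type u) [CommRing R] (n c : ℕ) (F : Fin c → MvPolynomial (Fin n) R)
    (p : Ideal R) [p.IsPrime]
    (hp : c ≤ n ∧ ringKrullDim (p.Fiber (Synt.RelGCIRing R n c F)) = ((n - c : ℕ) : WithBot ℕ∞)) :
    ∃ h : MvPolynomial (Fin n) R,
      IsUnit ((1 : p.ResidueField) ⊗ₜ[R] (Ideal.Quotient.mk (Ideal.span (Set.range F)) h) :
        p.Fiber (Synt.RelGCIRing R n c F)) ∧
      Synt.IsRelGCI R (n + 1) (c + 1)
        (Fin.snoc (fun i => rename Fin.castSucc (F i)) (rename Fin.castSucc h * X (Fin.last n) - 1)) ∧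
      Nonempty (Localization.Away (Ideal.Quotient.mk (Ideal.span (Set.range F)) h) ≃ₐ[R]
        Synt.RelGCIRing R (n + 1) (c + 1)
          (Fin.snoc (fun i => rename Fin.castSucc (F i)) (rename Fin.castSucc h * X (Fin.last n) - 1))) := by
  classical
  obtain ⟨hcn, hdim⟩ := hp
  have hft : Algebra.FiniteType R (Synt.RelGCIRing R n c F) :=
    Algebra.FiniteType.of_surjective (Ideal.Quotient.mkₐ R (Ideal.span (Set.range F)))
      (Ideal.Quotient.mkₐ_surjective R _)
  -- the open set where the fibre dimension is `≤ n - c`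
  have hopen := Groth.Agent.Lib.Helper4.FibDim.isOpen_setOf_fibLD_comap_le R
    (Synt.RelGCIRing R n c F) (n - c)
  set U : Set (PrimeSpectrum (Synt.RelGCIRing R n c F)) :=
    {q | Groth.Agent.Lib.Helper4.FibDim.fibLD
      (PrimeSpectrum.comap (algebraMap R (Synt.RelGCIRing R n c F))) q ≤
        ((n - c : ℕ) : WithBot ℕ∞)} with hUdef
  set J : Ideal (Synt.RelGCIRing R n c F) := PrimeSpectrum.vanishingIdeal Uᶜ with hJdef
  have hzero : PrimeSpectrum.zeroLocus (J : Set (Synt.RelGCIRing R n c F)) = Uᶜ := by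
    rw [hJdef, PrimeSpectrum.zeroLocus_vanishingIdeal_eq_closure]
    exact hopen.isClosed_compl.closure_eq
  -- all points over `p` lie in `U`
  have hover : ∀ (P : PrimeSpectrum R),
      ringKrullDim (P.asIdeal.Fiber (Synt.RelGCIRing R n c F)) ≤ ((n - c : ℕ) : WithBot ℕ∞) →
      ∀ q : PrimeSpectrum (Synt.RelGCIRing R n c F),
        PrimeSpectrum.comap (algebraMap R (Synt.RelGCIRing R n c F)) q = P → q ∈ U := by
    intro P hP q hq
    subst hq
    rw [hUdef, Set.mem_ofPred_eq, Groth.Agent.Lib.Helper4.FibDim.fibLD_comap_eq]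
    refine (Groth.Agent.Lib.Helper7.TopDim.localDim_le_dim _).trans ?_
    rw [PrimeSpectrum.topologicalKrullDim_eq_ringKrullDim]
    exact hP
  -- a `g ∈ J` which is a unit on the fibre
  obtain ⟨g, hgJ, hgu⟩ := Groth.Agent.Lib.Seat62.RelGCINhd.exists_mem_isUnit_tmul R
    (Synt.RelGCIRing R n c F) p J (by
      intro Q hle
      have hq := ((PrimeSpectrum.preimageHomeomorphFiber R (Synt.RelGCIRing R n c F)
        ⟨p, inferInstance⟩).symm Q).2
      have hmemU := hover ⟨p, inferInstance⟩ hdim.le _ hq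
      have hmemZ : ((PrimeSpectrum.preimageHomeomorphFiber R (Synt.RelGCIRing R n c F)
          ⟨p, inferInstance⟩).symm Q).1 ∈ PrimeSpectrum.zeroLocus
            (J : Set (Synt.RelGCIRing R n c F)) := by
        rw [PrimeSpectrum.mem_zeroLocus]
        exact hle
      rw [hzero] at hmemZ
      exact hmemZ hmemU)
  obtain ⟨h, rfl⟩ := Ideal.Quotient.mk_surjective g
  refine ⟨h, hgu, ?_, ⟨Groth.Agent.Lib.Seat62.RelGCIAway.awayEquiv R n c F h⟩⟩
  apply Groth.Agent.Lib.Seat62.RelGCINhd.isRelGCI_extRel R n c F h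
  intro q hq
  refine ⟨hcn, ?_⟩
  by_contra hnot
  have hqZ : q ∈ PrimeSpectrum.zeroLocus (J : Set (Synt.RelGCIRing R n c F)) := by
    rw [hzero]
    exact hnot
  rw [PrimeSpectrum.mem_zeroLocus] at hqZ
  exact hq (hqZ hgJ)

end Groth.Agent.S9173
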