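import Groth.Statements.S9221
import Groth.Agent.Lib.Seat92LimProper
import Groth.Agent.Lib.Helper1ProperOver
import Groth.Agent.S0020
import Groth.Agent.S4357

set_option autoImplicit false
universe u
open CategoryTheory AlgebraicGeometry
open Lim

namespace Groth.Agent.S9221

/-- Let S = lim S_i be a cofiltered limit of schemes with affine transition morphisms, S_{i₀} a
quasi-compact quasi-separated stage, f₀ : X₀ → Y₀ a morphism of quasi-compact quasi-separated
schemes over S_{i₀}, and f : X → Y its base change along S → S_{i₀} (base changes expressed by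
pullback squares). Let F₀ be a quasi-coherent O_{X₀}-module of finite type, with pullbacks F to X
and F_i to X_i, and assume f₀ is locally of finite type. If the support of F (a closed subset of X,
taken with its reduced structure; equivalently the scheme-theoretic support of F) is proper over Y,
then for some index i over i₀, with f_i : X_i → Y_i the base change of f₀ along S_i → S_{i₀}, the
support of F_i is proper over Y_i. -/
theorem result {I : Type u} [SmallCategory I] [IsCofiltered I]
    (D : I ⥤ Scheme.{u}) (c : Limits.Cone D) (hc : Limits.IsLimit c)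
    [∀ (i j : I) (f : i ⟶ j), IsAffineHom (D.map f)] (i₀ : I) [CompactSpace (D.obj i₀)]
    [QuasiSeparatedSpace (D.obj i₀)] {X₀ Y₀ : Scheme.{u}} (f₀ : X₀ ⟶ Y₀) (g₀ : Y₀ ⟶ D.obj i₀)
    [CompactSpace X₀] [QuasiSeparatedSpace X₀] [CompactSpace Y₀] [QuasiSeparatedSpace Y₀]
    [LocallyOfFiniteType f₀] (F₀ : X₀.Modules) [Coh.IsQCoh F₀] (hF₀ : CohB1.IsFT F₀)
    {X Y : Scheme.{u}} (f : X ⟶ Y) (g : Y ⟶ c.pt) (qY : Y ⟶ Y₀) (qX : X ⟶ X₀)
    (hY : IsPullback qY g g₀ (c.π.app i₀)) (hX : IsPullback qX f f₀ qY) (hF : ClSub.IsProperOver f (CohB1.support ((Scheme.Modules.pullback qX).obj F₀))) :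
    ∃ (i : I) (φ : i ⟶ i₀) (Xi Yi : Scheme.{u}) (fi : Xi ⟶ Yi) (gi : Yi ⟶ D.obj i) (pY : Yi ⟶ Y₀)
      (pX : Xi ⟶ X₀), IsPullback pY gi g₀ (D.map φ) ∧ IsPullback pX fi f₀ pY ∧ ClSub.IsProperOver fi (CohB1.support ((Scheme.Modules.pullback pX).obj F₀)) := by
  open Groth.Agent.Lib.Helper1 CategoryTheory.Limits in
  have hZ₀ : IsClosed (CohB1.support F₀) := Groth.Agent.S0020.result X₀ F₀ hF₀
  have hlft : LocallyOfFiniteType f :=
    MorphismProperty.of_isPullback (P := @LocallyOfFiniteType) hX inferInstance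
  -- the reduced closed subscheme `W₀` on the support of `F₀`
  let ι₀ := redι (CohB1.support F₀) hZ₀
  have : CompactSpace (Scheme.IdealSheafData.vanishingIdeal ⟨CohB1.support F₀, hZ₀⟩).subscheme :=
    QuasiCompact.compactSpace_of_compactSpace ι₀
  have : QuasiSeparatedSpace
      (Scheme.IdealSheafData.vanishingIdeal ⟨CohB1.support F₀, hZ₀⟩).subscheme :=
    quasiSeparatedSpace_of_quasiSeparated ι₀
  -- its base change to `X`
  have hr : Set.range (pullback.snd ι₀ qX) =
      CohB1.support ((Scheme.Modules.pullback qX).obj F₀) := by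
    rw [Scheme.Pullback.range_snd, range_redι, Groth.Agent.S4357.result qX F₀ hF₀]
  have hp : IsProper (pullback.snd ι₀ qX ≫ f) :=
    (isProperOver_iff_isProper_comp f (pullback.snd ι₀ qX) _ hr).1 hF
  have big : IsPullback (pullback.fst ι₀ qX) (pullback.snd ι₀ qX ≫ f) (ι₀ ≫ f₀) qY :=
    (IsPullback.of_hasPullback ι₀ qX).paste_vert hX
  obtain ⟨i, φ, Wi, Yi, hi, gi, pY, pW, h1, h2, h3⟩ :=
    Groth.Agent.Lib.Seat92.LimProper.exists_isProper_descend D c hc i₀ (ι₀ ≫ f₀) g₀ hY big
  -- the stage `X_i`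
  have hXi := IsPullback.of_hasPullback f₀ pY
  have hlfti : LocallyOfFiniteType (pullback.snd f₀ pY) :=
    MorphismProperty.of_isPullback (P := @LocallyOfFiniteType) hXi inferInstance
  let ιi : Wi ⟶ pullback f₀ pY := pullback.lift (pW ≫ ι₀) hi (by rw [Category.assoc, h2.w])
  have hιi1 : ιi ≫ pullback.fst f₀ pY = pW ≫ ι₀ := pullback.lift_fst _ _ _
  have hιi2 : ιi ≫ pullback.snd f₀ pY = hi := pullback.lift_snd _ _ _
  have hsq : IsPullback pW ιi ι₀ (pullback.fst f₀ pY) := by
    have h2' : IsPullback pW (ιi ≫ pullback.snd f₀ pY) (ι₀ ≫ f₀) pY := by rw [hιi2]; exact h2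
    exact IsPullback.of_bot h2' hιi1.symm hXi
  have : IsClosedImmersion ιi :=
    MorphismProperty.of_isPullback (P := @IsClosedImmersion) hsq inferInstance
  have hri : Set.range ιi =
      CohB1.support ((Scheme.Modules.pullback (pullback.fst f₀ pY)).obj F₀) := by
    have := Scheme.image_preimage_eq_of_isPullback hsq Set.univ
    rw [Set.preimage_univ, Set.image_univ, Set.image_univ] at this
    rw [Groth.Agent.S4357.result (pullback.fst f₀ pY) F₀ hF₀, ← range_redι (CohB1.support F₀) hZ₀]
    exact this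
  refine ⟨i, φ, pullback f₀ pY, Yi, pullback.snd f₀ pY, gi, pY, pullback.fst f₀ pY, h1, hXi, ?_⟩
  rw [isProperOver_iff_isProper_comp (pullback.snd f₀ pY) ιi _ hri, hιi2]
  exact h3

end Groth.Agent.S9221
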