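import Groth.Statements.S9312
import Groth.Agent.S9260
import Groth.Agent.S9261

set_option autoImplicit false
universe u
open CAlg

namespace Groth.Agent.S9312

open TensorProduct Polynomial

set_option linter.unusedSectionVars false
set_option warn.classDefReducibility false

section aux

variable (R G : Type u) [CommRing R] [Group G] [Fintype G] [MulSemiringAction G R]

/-- the ring of invariants -/
abbrev S : Type u := FixedPoints.subring R G

instance instIsInvariantS : Algebra.IsInvariant (S R G) R G where
  isInvariant := fun b hb => ⟨⟨b, hb⟩, rfl⟩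

variable (P : Type u) [CommRing P] [Algebra (S R G) P]

/-- the action of `σ` on `P ⊗ R` through the second factor. -/
noncomputable abbrev actHom (σ : G) : P ⊗[S R G] R →ₐ[S R G] P ⊗[S R G] R :=
  Algebra.TensorProduct.map (AlgHom.id (S R G) P) (MulSemiringAction.toAlgHom (S R G) R σ)

lemma actHom_tmul (σ : G) (p : P) (r : R) :
    actHom R G P σ (p ⊗ₜ r) = p ⊗ₜ (σ • r) := by
  simp [actHom]

lemma actHom_one (t : P ⊗[S R G] R) : actHom R G P 1 t = t := by
  induction t using TensorProduct.induction_on with
  | zero => simp
  | tmul p r => simp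
  | add x y hx hy => rw [map_add, hx, hy]

lemma actHom_mul (σ τ : G) (t : P ⊗[S R G] R) :
    actHom R G P (σ * τ) t = actHom R G P σ (actHom R G P τ t) := by
  induction t using TensorProduct.induction_on with
  | zero => simp
  | tmul p r => simp [mul_smul]
  | add x y hx hy => rw [map_add, map_add, map_add, hx, hy]

/-- the action of `G` on `P ⊗ R`. -/
noncomputable def actInst : MulSemiringAction G (P ⊗[S R G] R) where
  smul σ t := actHom R G P σ t
  one_smul t := actHom_one R G P t
  mul_smul σ τ t := actHom_mul R G P σ τ t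
  smul_zero σ := map_zero (actHom R G P σ)
  smul_add σ x y := map_add (actHom R G P σ) x y
  smul_one σ := map_one (actHom R G P σ)
  smul_mul σ x y := map_mul (actHom R G P σ) x y


variable {R G} {P}
variable {A : Type u} [CommRing A] [Algebra (S R G) A]

lemma smulComm_aux (σ : G) (p : P) (t : P ⊗[S R G] R) :
    actHom R G P σ (p • t) = p • actHom R G P σ t := by
  rw [Algebra.smul_def, Algebra.smul_def, map_mul]
  congr 1
  rw [Algebra.TensorProduct.algebraMap_apply, actHom_tmul, smul_one]

theorem main [Module.Flat (S R G) P] (π : P →ₐ[S R G] A) (hπ : Function.Surjective π) :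
    (∀ b : A ⊗[S R G] R,
      (∀ σ : G, Algebra.TensorProduct.map (AlgHom.id (S R G) A)
        (MulSemiringAction.toAlgHom (S R G) R σ) b = b) →
      ∃ Q : Polynomial A, Q.Monic ∧
        Polynomial.map (algebraMap A (A ⊗[S R G] R)) Q =
          (Polynomial.X - Polynomial.C b) ^ Fintype.card G) ∧
    (∀ a : A, algebraMap A (A ⊗[S R G] R) a = 0 →
      ∀ i : ℕ, i < Fintype.card G → ((Polynomial.X - Polynomial.C a) ^ Fintype.card G).coeff i = 0) := by
  classical
  letI : MulSemiringAction G (P ⊗[S R G] R) := actInst R G P
  have hsmul : ∀ (σ : G) (t : P ⊗[S R G] R), σ • t = actHom R G P σ t := fun _ _ => rfl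
  have : SMulCommClass G P (P ⊗[S R G] R) := ⟨fun σ p t => by
    rw [hsmul, hsmul]; exact smulComm_aux σ p t⟩
  obtain ⟨hinj, hinv⟩ := Groth.Agent.S9261.result (S R G) R P G
  have : Algebra.IsInvariant P (P ⊗[S R G] R) G := ⟨fun t ht => hinv t ht⟩
  let q : P ⊗[S R G] R →ₐ[S R G] A ⊗[S R G] R :=
    Algebra.TensorProduct.map π (AlgHom.id (S R G) R)
  have hq : Function.Surjective q :=
    Algebra.TensorProduct.map_surjective π (AlgHom.id (S R G) R) hπ Function.surjective_id
  have hqσ : ∀ (σ : G) (t : P ⊗[S R G] R), q (σ • t) =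
      Algebra.TensorProduct.map (AlgHom.id (S R G) A) (MulSemiringAction.toAlgHom (S R G) R σ) (q t) := by
    intro σ t
    rw [hsmul]
    induction t using TensorProduct.induction_on with
    | zero => simp
    | tmul p r => simp [q]
    | add x y hx hy => simp only [map_add, hx, hy]
  have hcomp : ∀ p : P, algebraMap A (A ⊗[S R G] R) (π p) = q (algebraMap P (P ⊗[S R G] R) p) := by
    intro p
    simp [q, Algebra.TensorProduct.algebraMap_apply]
  have hcomp' : (algebraMap A (A ⊗[S R G] R)).comp π.toRingHom =
      q.toRingHom.comp (algebraMap P (P ⊗[S R G] R)) := RingHom.ext hcomp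
  refine ⟨fun b hb => ?_, fun a ha i hi => ?_⟩
  · obtain ⟨b', rfl⟩ := hq b
    obtain ⟨Q, hQm, -, -, hQ⟩ := Groth.Agent.S9260.result P (P ⊗[S R G] R) G ⊤ b'
      (by rw [Ideal.map_top]; trivial)
    refine ⟨Q.map π.toRingHom, hQm.map _, ?_⟩
    rw [Polynomial.map_map, hcomp', ← Polynomial.map_map, hQ, Polynomial.map_prod]
    simp only [Polynomial.map_sub, Polynomial.map_X, Polynomial.map_C]
    have : ∀ σ : G, q.toRingHom (σ • b') = q b' := by
      intro σ
      change q (σ • b') = q b'
      rw [hqσ, hb]
    simp only [this, Finset.prod_const, Finset.card_univ]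
  · -- lift `a`
    obtain ⟨a', ha'⟩ := hπ a
    set x : P ⊗[S R G] R := algebraMap P (P ⊗[S R G] R) a' with hx
    have hqx : q x = 0 := by
      rw [hx, ← hcomp, ha', ha]
    have hxmem : x ∈ Ideal.map (algebraMap P (P ⊗[S R G] R)) (RingHom.ker π) := by
      have h1 : x ∈ RingHom.ker q := hqx
      rw [Algebra.TensorProduct.rTensor_ker π hπ] at h1
      exact h1
    obtain ⟨Q, hQm, hQd, hQc, hQ⟩ := Groth.Agent.S9260.result P (P ⊗[S R G] R) G
      (RingHom.ker π) x hxmem
    have hσx : ∀ σ : G, σ • x = x := by
      intro σ
      rw [hsmul, hx, Algebra.TensorProduct.algebraMap_apply, actHom_tmul, smul_one]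
    have hQeq : Q = (X - C a') ^ Fintype.card G := by
      apply Polynomial.map_injective _ hinj
      rw [hQ]
      simp only [hσx, Finset.prod_const, Finset.card_univ, Polynomial.map_pow, Polynomial.map_sub,
        Polynomial.map_X, Polynomial.map_C]
      rfl
    have hcoeff : ((X - C a') ^ Fintype.card G).coeff i ∈ RingHom.ker π := hQeq ▸ hQc i hi
    have hmap : ((X - C a) ^ Fintype.card G : A[X]) =
        ((X - C a') ^ Fintype.card G : P[X]).map π.toRingHom := by
      simp only [Polynomial.map_pow, Polynomial.map_sub, Polynomial.map_X, Polynomial.map_C]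
      congr 3
      exact ha'.symm
    rw [hmap, Polynomial.coeff_map]
    exact hcoeff

end aux

/-- Let a finite group G with n elements act on a ring R by ring automorphisms, with invariant ring R^G,
and let A be an algebra over R^G; G acts on A ⊗ R through the factor R. (1) For every G-invariant b
∈ A ⊗ R there is a monic polynomial over A whose image in (A ⊗ R)[T] is (T - b)^n. (2) For every a
in the kernel of A → A ⊗ R, all coefficients of (T - a)^n below degree n vanish, that is (T - a)^n =
T^n in A[T]. -/
theorem result (R G A : Type u) [CommRing R] [Group G] [Fintype G]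
    [MulSemiringAction G R] [CommRing A] [Algebra (FixedPoints.subring R G) A] :
    (∀ b : TensorProduct (FixedPoints.subring R G) A R,
      (∀ σ : G, Algebra.TensorProduct.map (AlgHom.id (FixedPoints.subring R G) A)
        (MulSemiringAction.toAlgHom (FixedPoints.subring R G) R σ) b = b) →
      ∃ P : Polynomial A, P.Monic ∧
        Polynomial.map (algebraMap A (TensorProduct (FixedPoints.subring R G) A R)) P =
          (Polynomial.X - Polynomial.C b) ^ Fintype.card G) ∧
    (∀ a : A, algebraMap A (TensorProduct (FixedPoints.subring R G) A R) a = 0 →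
      ∀ i : ℕ, i < Fintype.card G → ((Polynomial.X - Polynomial.C a) ^ Fintype.card G).coeff i = 0) := by
  have hπ : Function.Surjective (MvPolynomial.aeval id : MvPolynomial A (S R G) →ₐ[S R G] A) :=
    fun a => ⟨MvPolynomial.X a, by simp⟩
  exact main (R := R) (G := G) (P := MvPolynomial A (S R G)) (MvPolynomial.aeval id) hπ

end Groth.Agent.S9312
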