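import Groth.Statements.S9325
import Groth.Agent.Lib.Seat42H1Conormal

set_option autoImplicit false
universe u
open CAlg

namespace Groth.Agent.S9325

open Groth.Agent.Lib.Seat42.H1Conormal

/-- the comparison map `A_g̃ → (A/I)_g`. -/
theorem exists_phi {A : Type u} [CommRing A] (I : Ideal A) (gt : A) :
    ∃ φ : Localization.Away gt →+* Localization.Away (Ideal.Quotient.mk I gt),
      Function.Surjective φ ∧ RingHom.ker φ = I.map (algebraMap A (Localization.Away gt)) ∧
      φ.comp (algebraMap A (Localization.Away gt)) =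
        (algebraMap (A ⧸ I) (Localization.Away (Ideal.Quotient.mk I gt))).comp
          (Ideal.Quotient.mk I) := by
  set A' := Localization.Away gt
  set I' := I.map (algebraMap A A')
  set g := Ideal.Quotient.mk I gt
  have hM : Algebra.algebraMapSubmonoid (A ⧸ I) (Submonoid.powers gt) = Submonoid.powers g := by
    rw [Algebra.algebraMapSubmonoid, Submonoid.map_powers]
    rfl
  have : IsLocalization (Submonoid.powers g) (A' ⧸ I') := by
    rw [← hM]; infer_instance
  let e : Localization.Away g ≃ₐ[A ⧸ I] (A' ⧸ I') :=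
    IsLocalization.algEquiv (Submonoid.powers g) _ _
  refine ⟨(e.symm : (A' ⧸ I') →+* Localization.Away g).comp (Ideal.Quotient.mk I'), ?_, ?_, ?_⟩
  · exact e.symm.surjective.comp Ideal.Quotient.mk_surjective
  · ext a
    rw [RingHom.mem_ker, RingHom.comp_apply]
    constructor
    · intro h
      have : Ideal.Quotient.mk I' a = 0 := by
        have := congrArg e h
        simpa using this
      exact Ideal.Quotient.eq_zero_iff_mem.mp this
    · intro h
      rw [Ideal.Quotient.eq_zero_iff_mem.mpr h, map_zero]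
  · ext a
    simp only [RingHom.comp_apply]
    have : Ideal.Quotient.mk I' (algebraMap A A' a) =
        algebraMap (A ⧸ I) (A' ⧸ I') (Ideal.Quotient.mk I a) := rfl
    rw [this]
    exact e.symm.commutes _

theorem result {A : Type u} [CommRing A] (I J : Ideal A)
    (hIJ : I ≤ J)
    (h : ∀ (𝔮 : Ideal (A ⧸ I)) [𝔮.IsPrime], J.map (Ideal.Quotient.mk I) ≤ 𝔮 →
      ∃ g : A ⧸ I, g ∉ 𝔮 ∧ ∃ (c : ℕ) (f : Fin c → Localization.Away g),
        CAlgX.IsH1Regular f ∧
          Ideal.span (Set.range f) =
            (J.map (Ideal.Quotient.mk I)).map (algebraMap (A ⧸ I) (Localization.Away g))) :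
    I ⊓ J ^ 2 = I * J := by
  refine le_antisymm ?_ (le_inf Ideal.mul_le_left ?_)
  swap
  · rw [pow_two]; exact Ideal.mul_mono_left hIJ
  rintro x ⟨hxI, hxJ⟩
  by_contra hx
  set K : Ideal A := (I * J).colon {x} with hK
  have hKtop : K ≠ ⊤ := by
    intro htop
    have : (1 : A) ∈ K := htop ▸ Submodule.mem_top
    rw [hK, Submodule.mem_colon_singleton, one_smul] at this
    exact hx this
  obtain ⟨𝔪, hmax, hKm⟩ := Ideal.exists_le_maximal K hKtop
  have hJK : J ≤ K := by
    intro j hj
    rw [hK, Submodule.mem_colon_singleton, smul_eq_mul, mul_comm j x]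
    exact Ideal.mul_mem_mul hxI hj
  have hIm : I ≤ 𝔪 := hIJ.trans (hJK.trans hKm)
  have : (𝔪.map (Ideal.Quotient.mk I)).IsPrime :=
    Ideal.map_isPrime_of_surjective Ideal.Quotient.mk_surjective (by rwa [Ideal.mk_ker])
  obtain ⟨g, hg, c, f, hreg, hspan⟩ := h (𝔪.map (Ideal.Quotient.mk I))
    (Ideal.map_mono (hJK.trans hKm))
  obtain ⟨gt, rfl⟩ := Ideal.Quotient.mk_surjective g
  have hgt : gt ∉ 𝔪 := fun hmem => hg (Ideal.mem_map_of_mem _ hmem)
  obtain ⟨φ, hφs, hφk, hφc⟩ := exists_phi I gt
  have key := inf_sq_le φ hφs (J.map (algebraMap A (Localization.Away gt)))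
    (by rw [hφk]; exact Ideal.map_mono hIJ) f hreg
    (by rw [hspan, Ideal.map_map, Ideal.map_map, hφc])
  have hx' : algebraMap A (Localization.Away gt) x ∈
      (I * J).map (algebraMap A (Localization.Away gt)) := by
    rw [Ideal.map_mul, ← hφk]
    apply key
    refine ⟨?_, ?_⟩
    · rw [hφk]; exact Ideal.mem_map_of_mem _ hxI
    · rw [← Ideal.map_pow]; exact Ideal.mem_map_of_mem _ hxJ
  obtain ⟨m, ⟨N, rfl⟩, hm⟩ :=
    (IsLocalization.algebraMap_mem_map_algebraMap_iff (Submonoid.powers gt)
      (Localization.Away gt) (I * J) x).mp hx'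
  have : gt ^ N ∈ K := by
    rw [hK, Submodule.mem_colon_singleton, smul_eq_mul]; exact hm
  exact hgt (hmax.isPrime.mem_of_pow_mem N (hKm this))

end Groth.Agent.S9325
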