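import Groth.Statements.S9362
import Groth.Agent.Lib.Seat16SubSheaf
import Groth.Agent.Lib.Helper23TensorQCoh

set_option linter.style.haveILetI false

set_option autoImplicit false
universe u
open QCohSub

namespace Groth.Agent.S9362

open AlgebraicGeometry CategoryTheory CategoryTheory.Limits
open Groth.Agent.Lib.Seat16.SubSheaf

variable {X : Scheme.{u}}

/-- the image of a morphism between quasi-coherent modules is quasi-coherent. -/
theorem isQuasicoherent_image {A B : X.Modules} [A.IsQuasicoherent] [B.IsQuasicoherent] (σ : A ⟶ B) :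
    (Limits.image σ).IsQuasicoherent := by
  haveI : (cokernel σ).IsQuasicoherent :=
    Groth.Agent.Lib.Helper23.QCohLocal.isQuasicoherent_cokernel σ
  haveI : (Abelian.image σ).IsQuasicoherent :=
    Groth.Agent.Lib.Helper23.QCohLocal.isQuasicoherent_kernel (cokernel.π σ)
  exact Groth.Agent.Lib.Helper23.TensorQCoh.isQuasicoherent_of_iso (Abelian.imageIsoImage σ)

/-- quasi-coherent subobjects of `F` contained in `G`, recorded through their sections. -/
def IsQSub (F G : X.Modules) (j : G ⟶ F) (S : ∀ U : X.Opens, Set Γ(F, U)) : Prop :=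
  ∃ (H : X.Modules) (m : H ⟶ F) (l : H ⟶ G), H.IsQuasicoherent ∧ Mono m ∧ l ≫ j = m ∧
    ∀ U : X.Opens, S U = Set.range (m.app U)

open AlgebraicGeometry CategoryTheory in
/-- Let F be a quasi-coherent O_X-module and G ⊆ F an O_X-submodule. There is a quasi-coherent submodule
G' ⊆ G such that Hom(H, G') → Hom(H, G) is bijective for every quasi-coherent O_X-module H; in
particular G' is the largest quasi-coherent submodule of F contained in G (it is unique up to unique
isomorphism over G). -/
theorem result (X : Scheme.{u}) (F G : X.Modules) (hF : Coh.IsQCoh F) (j : G ⟶ F) [Mono j] :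
    ∃ (G' : X.Modules) (k : G' ⟶ G), Coh.IsQCoh G' ∧ Mono k ∧
      ∀ H : X.Modules, Coh.IsQCoh H → Function.Bijective (fun φ : H ⟶ G' => φ ≫ k) := by
  haveI : F.IsQuasicoherent := hF
  -- the index type
  let ι : Type u := {S : ∀ U : X.Opens, Set Γ(F, U) // IsQSub F G j S}
  choose Hs ms ls hq hmono hfac hrange using fun i : ι => i.2
  haveI : ∀ i, (Hs i).IsQuasicoherent := hq
  haveI : ∀ i, Mono (ms i) := hmono
  haveI : (∐ Hs).IsQuasicoherent :=
    Groth.Agent.Lib.Helper23.QCohLocal.isQuasicoherent_colimit (Discrete.functor Hs)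
      (fun i => hq i.as)
  let σ : ∐ Hs ⟶ F := Sigma.desc ms
  haveI : (Limits.image σ).IsQuasicoherent := isQuasicoherent_image σ
  have hσ : Sigma.desc ls ≫ j = σ := by
    apply Sigma.hom_ext
    intro i
    simp only [σ, colimit.ι_desc_assoc, colimit.ι_desc, Cofan.mk_ι_app, hfac]
  let MF : MonoFactorisation σ := { I := G, m := j, e := Sigma.desc ls, fac := hσ }
  let k : Limits.image σ ⟶ G := image.lift MF
  have hk : k ≫ j = image.ι σ := image.lift_fac MF
  haveI : Mono k := mono_of_mono_fac hk
  refine ⟨Limits.image σ, k, inferInstance, inferInstance, fun H hH => ⟨?_, ?_⟩⟩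
  · intro φ₁ φ₂ h
    exact (cancel_mono k).1 h
  · intro φ
    haveI : H.IsQuasicoherent := hH
    -- the image of `φ ≫ j` is a quasi-coherent subobject contained in `G`
    haveI : (Limits.image (φ ≫ j)).IsQuasicoherent := isQuasicoherent_image (φ ≫ j)
    let MF' : MonoFactorisation (φ ≫ j) := { I := G, m := j, e := φ, fac := rfl }
    let i : ι := ⟨fun U => Set.range ((image.ι (φ ≫ j)).app U),
      ⟨Limits.image (φ ≫ j), image.ι (φ ≫ j), image.lift MF', inferInstance, inferInstance,
        image.lift_fac MF', fun U => rfl⟩⟩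
    obtain ⟨a, ha⟩ := exists_lift_of_forall_affine (image.ι (φ ≫ j)) (ms i) (by
      intro U s
      have h1 : (image.ι (φ ≫ j)).app U.1 s ∈ Set.range ((ms i).app U.1) := by
        rw [← hrange i U.1]
        exact ⟨s, rfl⟩
      exact h1)
    refine ⟨factorThruImage (φ ≫ j) ≫ a ≫ Sigma.ι Hs i ≫ factorThruImage σ, ?_⟩
    change (factorThruImage (φ ≫ j) ≫ a ≫ Sigma.ι Hs i ≫ factorThruImage σ) ≫ k = φ
    rw [← cancel_mono j]
    simp only [Category.assoc, hk, image.fac]
    simp only [σ, colimit.ι_desc, Cofan.mk_ι_app, ha, image.fac]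

end Groth.Agent.S9362
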