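import Groth.Statements.S9363
import Groth.Agent.S9758

set_option autoImplicit false
universe u
open Synt

namespace Groth.Agent.S9363

open AlgebraicGeometry CategoryTheory in
/-- f : X → S is syntomic if and only if, for every affine open V of S and every affine open U of X
mapped into V, the induced map O_S(V) → O_X(U) makes O_X(U) a syntomic algebra over O_S(V). -/
theorem result {X S : Scheme.{u}} (f : X ⟶ S) :
    Synt.IsSyntomicMor f ↔
      ∀ (U : X.affineOpens) (V : S.affineOpens) (e : U.1 ≤ f ⁻¹ᵁ V.1),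
        letI := (f.appLE V.1 U.1 e).hom.toAlgebra
        Synt.IsSyntomic Γ(S, V.1) Γ(X, U.1) := by
  classical
  constructor
  · intro h U V e
    obtain ⟨hfl, hk⟩ := (Groth.Agent.S9758.result f).2 h
    have hlci := (Groth.Agent.Lib.Seat31.LciHom.forall_isKoszulAt_iff_lciM f).1 hk
    have h1 : Groth.Agent.Lib.Seat31.LciHom.LciH (f.appLE V.1 U.1 e).hom :=
      (HasRingHomProperty.iff_appLE (P := Groth.Agent.Lib.Seat31.LciHom.LciM)).1 hlci V U e
    have h2 : (f.appLE V.1 U.1 e).hom.Flat :=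
      (HasRingHomProperty.iff_appLE (P := @Flat)).1 hfl V U e
    letI := (f.appLE V.1 U.1 e).hom.toAlgebra
    exact (Groth.Agent.S9287.result _ _).2 ⟨h2, h1⟩
  · intro h x
    obtain ⟨V, hV, hxV, -⟩ := TopologicalSpace.Opens.isBasis_iff_nbhd.mp S.isBasis_affineOpens
      (TopologicalSpace.Opens.mem_top (f x))
    obtain ⟨U, hU, hxU, hUV⟩ := TopologicalSpace.Opens.isBasis_iff_nbhd.mp X.isBasis_affineOpens
      (show x ∈ f ⁻¹ᵁ V from hxV)
    exact ⟨⟨U, hU⟩, ⟨V, hV⟩, hUV, hxU, h ⟨U, hU⟩ ⟨V, hV⟩ hUV⟩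

end Groth.Agent.S9363
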