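import Groth.Statements.S9367
import Groth.Agent.Lib.Seat62SyntLift
import Groth.Agent.Lib.Seat62SyntFibDim
import Groth.Agent.Lib.Helper4FibDimF

set_option autoImplicit false
universe u
open Synt

namespace Groth.Agent.S9367

open AlgebraicGeometry CategoryTheory in
/-- If f : X → S is syntomic, then x ↦ dim_x(X_{f x}) is locally constant on X. -/
theorem result {X S : Scheme.{u}} (f : X ⟶ S) (hf : Synt.IsSyntomicMor f) :
    IsLocallyConstant (fun x : ↑X => FlatMor.fibreDimAt f x) := by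
  rw [IsLocallyConstant.iff_exists_open]
  intro x
  obtain ⟨U, V, e, hx, hsyn⟩ := hf x
  let _ : Algebra Γ(S, V.1) Γ(X, U.1) := (f.appLE V.1 U.1 e).hom.toAlgebra
  have hsyn' : Synt.IsSyntomic Γ(S, V.1) Γ(X, U.1) := hsyn
  have hU : IsAffineOpen U.1 := U.2
  have hV : IsAffineOpen V.1 := V.2
  obtain ⟨zx, hzx⟩ : x ∈ Set.range hU.fromSpec := by rw [hU.range_fromSpec]; exact hx
  obtain ⟨g, hg, n, c, F, hrel, ⟨eq⟩⟩ :=
    Groth.Agent.Lib.Seat62.SyntLift.exists_relGCI_nhd_of_isSyntomic Γ(S, V.1) Γ(X, U.1) hsyn'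
      (show PrimeSpectrum Γ(X, U.1) from zx).asIdeal
  have hmem : ∀ z : Spec Γ(X, U.1), hU.fromSpec z ∈ X.basicOpen g ↔
      g ∉ (show PrimeSpectrum Γ(X, U.1) from z).asIdeal := by
    intro z
    have h1 : hU.fromSpec z ∈ X.basicOpen g ↔ z ∈ hU.fromSpec ⁻¹ᵁ X.basicOpen g := Iff.rfl
    rw [h1, hU.fromSpec_preimage_basicOpen]
    rfl
  have key : ∀ y ∈ X.basicOpen g, FlatMor.fibreDimAt f y = ((n - c : ℕ) : WithBot ℕ∞) := by
    intro y hy
    have hyU : y ∈ U.1 := X.basicOpen_le g hy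
    obtain ⟨z, rfl⟩ : y ∈ Set.range hU.fromSpec := by rw [hU.range_fromSpec]; exact hyU
    rw [Groth.Agent.Lib.Helper4.FibDim.fibreDimAt_eq_fibLD,
      Groth.Agent.Lib.Helper4.FibDim.fibLD_fromSpec f hU hV e]
    exact Groth.Agent.Lib.Seat62.SyntFibDim.fibLD_eq_of_away_equiv Γ(S, V.1) Γ(X, U.1) n c F hrel g
      eq z ((hmem z).mp hy)
  have hxg : x ∈ X.basicOpen g := by
    rw [← hzx]
    exact (hmem zx).mpr hg
  exact ⟨X.basicOpen g, (X.basicOpen g).isOpen, hxg, fun y hy => (key y hy).trans (key x hxg).symm⟩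

end Groth.Agent.S9367
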