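import Groth.Statements.S9395
import Mathlib.RingTheory.FractionalIdeal.Operations
import Mathlib.Tactic

set_option autoImplicit false
universe u
open CAlg

namespace Groth.Agent.S9395

/-- For a Noetherian domain R, if the Laurent polynomial ring R[X, 1/X] (the localization of R[X] away
from X) is N-1, then R is N-1. -/
theorem result (R : Type u) [CommRing R] [IsDomain R] [IsNoetherianRing R]
    (S : Type u) [CommRing S] [IsDomain S] [Algebra (Polynomial R) S]
    [IsLocalization.Away (Polynomial.X : Polynomial R) S] (h : CAlg.IsN1 S) : CAlg.IsN1 R := by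
  classical
  -- notation
  let K := FractionRing R
  let L := FractionRing S
  have hXle : Submonoid.powers (Polynomial.X : Polynomial R) ≤ nonZeroDivisors (Polynomial R) := by
    rintro _ ⟨n, rfl⟩
    exact mem_nonZeroDivisors_of_ne_zero (pow_ne_zero _ Polynomial.X_ne_zero)
  have hι : Function.Injective (algebraMap (Polynomial R) S) :=
    IsLocalization.injective S hXle
  have hSL : Function.Injective (algebraMap S L) := IsFractionRing.injective S L
  let g : R →+* S := (algebraMap (Polynomial R) S).comp Polynomial.C
  let f : R →+* L := (algebraMap S L).comp g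
  have hf : Function.Injective f := hSL.comp (hι.comp Polynomial.C_injective)
  let φ : K →+* L := IsFractionRing.lift (A := R) (K := K) (g := f) hf
  have hφ : ∀ r : R, φ (algebraMap R K r) = f r := fun r => IsFractionRing.lift_algebraMap hf r
  -- the conductor-type element
  have hfg : (integralClosure S L).toSubmodule.FG := by
    have h1 : Module.Finite S (integralClosure S L) := h
    have h2 : (⊤ : Submodule S (integralClosure S L)).FG := Module.finite_def.mp h1
    have h3 := h2.map (integralClosure S L).toSubmodule.subtype
    rwa [Submodule.map_top, Submodule.range_subtype] at h3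
  obtain ⟨d, hd, hdS⟩ := FractionalIdeal.isFractional_of_fg (S := nonZeroDivisors S) (P := L) hfg
  have hd0 : d ≠ 0 := nonZeroDivisors.ne_zero hd
  obtain ⟨⟨D, ⟨_, ⟨n, rfl⟩⟩⟩, hD⟩ := IsLocalization.surj (Submonoid.powers (Polynomial.X : Polynomial R)) d
  simp only at hD
  have hXunit : IsUnit (algebraMap (Polynomial R) S Polynomial.X) :=
    IsLocalization.map_units S (⟨Polynomial.X, Submonoid.mem_powers _⟩ :
      Submonoid.powers (Polynomial.X : Polynomial R))
  have hD0 : D ≠ 0 := by
    rintro rfl
    rw [map_zero, map_pow] at hD
    exact hd0 ((hXunit.pow n).mul_left_eq_zero.mp hD)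
  set c : R := D.leadingCoeff with hc
  have hc0 : c ≠ 0 := Polynomial.leadingCoeff_ne_zero.mpr hD0
  have hcK : algebraMap R K c ≠ 0 := by
    rwa [Ne, map_eq_zero_iff _ (IsFractionRing.injective R K)]
  -- key claim: `c • R' ⊆ R`
  have key : ∀ y : K, IsIntegral R y → ∃ q : R, algebraMap R K c * y = algebraMap R K q := by
    intro y hy
    -- image integral over S
    have hyS : IsIntegral S (φ y) := by
      obtain ⟨P, hPm, hP⟩ := hy
      refine ⟨P.map g, hPm.map g, ?_⟩
      rw [Polynomial.eval₂_map]
      have h1 : (algebraMap S L).comp g = φ.comp (algebraMap R K) := by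
        ext r
        exact (hφ r).symm
      rw [h1, ← Polynomial.hom_eval₂, hP, map_zero]
    obtain ⟨s, hs⟩ := hdS (φ y) hyS
    obtain ⟨⟨Q, ⟨_, ⟨m, rfl⟩⟩⟩, hQ⟩ :=
      IsLocalization.surj (Submonoid.powers (Polynomial.X : Polynomial R)) s
    simp only at hQ
    obtain ⟨a, b, hb, hab⟩ := IsFractionRing.div_surjective (A := R) y
    have hb0 : b ≠ 0 := nonZeroDivisors.ne_zero hb
    have hbK : algebraMap R K b ≠ 0 := by
      rwa [Ne, map_eq_zero_iff _ (IsFractionRing.injective R K)]
    have hyb : y * algebraMap R K b = algebraMap R K a := by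
      rw [← hab, div_mul_cancel₀ _ hbK]
    -- identity in `L`
    have hL : φ y * f b = f a := by
      rw [← hφ, ← hφ, ← map_mul, hyb]
    -- identity in `R[X]`
    have hpoly : D * Polynomial.C a * Polynomial.X ^ m = Polynomial.C b * Q * Polynomial.X ^ n := by
      apply hι
      apply hSL
      simp only [map_mul, map_pow]
      have e1 : algebraMap S L (algebraMap (Polynomial R) S (Polynomial.C a)) = f a := rfl
      have e2 : algebraMap S L (algebraMap (Polynomial R) S (Polynomial.C b)) = f b := rfl
      rw [e1, e2, ← hD, ← hQ]
      simp only [map_mul, map_pow]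
      have e3 : algebraMap S L s = algebraMap S L d * φ y := by
        rw [hs, Algebra.smul_def]
      rw [e3, ← hL]
      ring
    -- compare coefficients
    have hcoef := congrArg (fun T => Polynomial.coeff T (D.natDegree + m)) hpoly
    simp only [Polynomial.coeff_mul_X_pow, Polynomial.coeff_mul_C] at hcoef
    rw [mul_assoc, Polynomial.coeff_C_mul] at hcoef
    refine ⟨(Q * Polynomial.X ^ n).coeff (D.natDegree + m), ?_⟩
    have h5 : algebraMap R K c * algebraMap R K a
        = algebraMap R K b * algebraMap R K ((Q * Polynomial.X ^ n).coeff (D.natDegree + m)) := by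
      rw [← map_mul, ← map_mul]
      exact congrArg _ hcoef
    have h6 : y = algebraMap R K a / algebraMap R K b := hab.symm
    rw [h6, ← mul_div_assoc, h5, mul_div_cancel_left₀ _ hbK]
  -- conclude: `R'` sits inside the cyclic module generated by `c⁻¹`
  have hle : (integralClosure R K).toSubmodule ≤ Submodule.span R {(algebraMap R K c)⁻¹} := by
    intro y hy
    obtain ⟨q, hq⟩ := key y hy
    rw [Submodule.mem_span_singleton]
    refine ⟨q, ?_⟩
    rw [Algebra.smul_def, ← hq, mul_comm, inv_mul_cancel_left₀ hcK]
  have hnoeth : IsNoetherian R (Submodule.span R {(algebraMap R K c)⁻¹} : Submodule R K) :=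
    isNoetherian_span_of_finite R (Set.finite_singleton _)
  have hfgR : (integralClosure R K).toSubmodule.FG := by
    exact (isNoetherian_submodule.mp hnoeth) _ hle
  show Module.Finite R (integralClosure R K)
  exact Module.Finite.iff_fg.mpr hfgR

end Groth.Agent.S9395
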