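import Groth.Statements.S9432
import Groth.Agent.Lib.Seat6FppfQF

set_option autoImplicit false
set_option linter.style.haveILetI false
universe u
open CAlg

namespace Groth.Agent.S9432

open AlgebraicGeometry CategoryTheory in
/-- For a faithfully flat ring map R → S of finite presentation there is a quasi-finite (of finite type
with finite fibres), faithfully flat, finitely presented R-algebra S' together with an R-algebra map
S → S'. -/
theorem result (R : Type u) [CommRing R]
    (S : Type u) [CommRing S] [Algebra R S] [Module.FaithfullyFlat R S]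
    [Algebra.FinitePresentation R S] :
    ∃ (S' : Type u) (_ : CommRing S') (_ : Algebra R S'),
      Algebra.QuasiFinite R S' ∧ Algebra.FiniteType R S' ∧ Module.FaithfullyFlat R S' ∧
        Algebra.FinitePresentation R S' ∧ Nonempty (S →ₐ[R] S') := by
  classical
  let f : Spec (CommRingCat.of S) ⟶ Spec (CommRingCat.of R) :=
    Spec.map (CommRingCat.ofHom (algebraMap R S))
  haveI : Flat f := by
    rw [HasRingHomProperty.Spec_iff (P := @Flat)]
    change (algebraMap R S).Flat
    rw [RingHom.flat_algebraMap_iff]; infer_instance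
  haveI : LocallyOfFinitePresentation f := by
    rw [HasRingHomProperty.Spec_iff (P := @LocallyOfFinitePresentation)]
    change (algebraMap R S).FinitePresentation
    rw [RingHom.finitePresentation_algebraMap]; infer_instance
  have hsurj : Function.Surjective f := by
    intro p
    obtain ⟨q, hq⟩ := PrimeSpectrum.comap_surjective_of_faithfullyFlat (A := R) (B := S) p
    exact ⟨q, hq⟩
  obtain ⟨Z, hZ, g, hfl, hfp, hqf, hs⟩ :=
    Groth.Agent.Lib.Seat6.FppfQF.exists_affine_flat_lqf_surjective f hsurj
  -- the ring maps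
  let ρc : CommRingCat.of R ⟶ Γ(Z, ⊤) := (Scheme.ΓSpecIso (CommRingCat.of R)).inv ≫ (g ≫ f).appTop
  let σc : CommRingCat.of S ⟶ Γ(Z, ⊤) := (Scheme.ΓSpecIso (CommRingCat.of S)).inv ≫ g.appTop
  have hρσ : ρc = CommRingCat.ofHom (algebraMap R S) ≫ σc := by
    simp only [ρc, σc, f]
    rw [Scheme.Hom.comp_appTop, ← Category.assoc, ← Category.assoc,
      Scheme.ΓSpecIso_inv_naturality]
  have hfl' : ρc.hom.Flat := by
    have h1 := (HasRingHomProperty.iff_of_isAffine (P := @Flat) (f := g ≫ f)).1 hfl
    exact (RingHom.Flat.respectsIso.cancel_left_isIso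
      (Scheme.ΓSpecIso (CommRingCat.of R)).inv (g ≫ f).appTop).2 h1
  have hfp' : ρc.hom.FinitePresentation := by
    have h1 := (HasRingHomProperty.iff_of_isAffine (P := @LocallyOfFinitePresentation)
      (f := g ≫ f)).1 hfp
    exact (RingHom.finitePresentation_respectsIso.cancel_left_isIso
      (Scheme.ΓSpecIso (CommRingCat.of R)).inv (g ≫ f).appTop).2 h1
  have hqf' : ρc.hom.QuasiFinite := by
    have h1 := (HasRingHomProperty.iff_of_isAffine (P := @LocallyQuasiFinite) (f := g ≫ f)).1 hqf
    exact (RingHom.QuasiFinite.respectsIso.cancel_left_isIso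
      (Scheme.ΓSpecIso (CommRingCat.of R)).inv (g ≫ f).appTop).2 h1
  have hfact : g ≫ f = Z.toSpecΓ ≫ Spec.map ρc := by
    have h1 := Scheme.toSpecΓ_naturality (g ≫ f)
    rw [← SpecMap_ΓSpecIso_hom] at h1
    simp only [ρc]
    rw [Spec.map_comp, ← Category.assoc, ← h1, Category.assoc, ← Spec.map_comp,
      Iso.inv_hom_id, Spec.map_id, Category.comp_id]
  letI : Algebra R Γ(Z, ⊤) := ρc.hom.toAlgebra
  haveI hflat : Module.Flat R Γ(Z, ⊤) := hfl'
  haveI hfpA : Algebra.FinitePresentation R Γ(Z, ⊤) := hfp'
  refine ⟨Γ(Z, ⊤), inferInstance, inferInstance, hqf', inferInstance, ?_, hfpA, ?_⟩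
  · apply Module.FaithfullyFlat.of_comap_surjective
    intro p
    obtain ⟨z, hz⟩ := hs p
    refine ⟨Z.toSpecΓ z, ?_⟩
    have h1 : (Spec.map ρc) (Z.toSpecΓ z) = p := by
      rw [← Scheme.Hom.comp_apply, ← hfact]; exact hz
    exact h1
  · refine ⟨{ σc.hom with commutes' := fun r => ?_ }⟩
    have := congrArg (fun φ => φ.hom r) hρσ
    exact this.symm

end Groth.Agent.S9432
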