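import Groth.Statements.S9515
import Mathlib
import Groth.Agent.S10848
import Groth.Agent.S9362
import Groth.Agent.Lib.Seat16SubInf
import Groth.Agent.Lib.Seat16SubSheaf
import Groth.Agent.Lib.Seat16PowKill
import Groth.Agent.Lib.Helper23FinTypeLocal
import Groth.Agent.Lib.Helper23FinType2
-- import your own Groth.Agent.* helpers here

set_option autoImplicit false
universe u
open CategoryTheory CategoryTheory.Limits AlgebraicGeometry
attribute [local instance] HasDerivedCategory.standard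
open Coherent

namespace Groth.Agent.S9515

set_option linter.style.haveILetI false

section helpers

section alg
variable {A : Type*} [CommRing A] [IsNoetherianRing A] {P M : Type*} [AddCommGroup P] [Module A P]
  [AddCommGroup M] [Module A M] [Module.Finite A P]

/-- Artin–Rees: if `I^c` kills the kernel of `p`, then `I^n P` meets the kernel trivially for large `n`. -/
theorem exists_pow_smul_inf_ker_eq_bot (I : Ideal A) (p : P →ₗ[A] M) (c : ℕ)
    (hc : ∀ b ∈ I ^ c, ∀ y ∈ LinearMap.ker p, b • y = 0) :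
    ∃ n₀ : ℕ, ∀ n : ℕ, n₀ ≤ n → (I ^ n • ⊤ : Submodule A P) ⊓ LinearMap.ker p = ⊥ := by
  obtain ⟨k, hk⟩ := Ideal.exists_pow_inf_eq_pow_smul I (LinearMap.ker p)
  refine ⟨k + c, fun n hn => ?_⟩
  rw [hk n (by omega), eq_bot_iff]
  have h1 : (I ^ k • ⊤ ⊓ LinearMap.ker p : Submodule A P) ≤ LinearMap.ker p := inf_le_right
  refine (Submodule.smul_mono le_rfl h1).trans ?_
  rw [Submodule.smul_le]
  intro b hb y hy
  have hb' : b ∈ I ^ c := Ideal.pow_le_pow_right (by omega) hb
  rw [hc b hb' y hy]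
  exact Submodule.zero_mem _

omit [IsNoetherianRing A] [Module.Finite A P] in
/-- if `I^a M` lies in the range of `p`, then `I^(n+a) M` lies in `p (I^n P)`. -/
theorem exists_mem_pow_smul_of_mem (I : Ideal A) (p : P →ₗ[A] M) (a n : ℕ)
    (ha : ∀ b ∈ I ^ a, ∀ m : M, ∃ y : P, p y = b • m)
    (s : M) (hs : s ∈ (I ^ (n + a) • ⊤ : Submodule A M)) :
    ∃ u ∈ (I ^ n • ⊤ : Submodule A P), p u = s := by
  have h1 : (I ^ a • ⊤ : Submodule A M) ≤ LinearMap.range p := by
    rw [Submodule.smul_le]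
    intro b hb m _
    obtain ⟨y, hy⟩ := ha b hb m
    exact ⟨y, hy⟩
  have h2 : (I ^ (n + a) • ⊤ : Submodule A M) ≤ Submodule.map p (I ^ n • ⊤) := by
    rw [pow_add, mul_smul, Submodule.map_smul'', Submodule.map_top]
    exact Submodule.smul_mono le_rfl h1
  obtain ⟨u, hu, rfl⟩ := h2 hs
  exact ⟨u, hu, rfl⟩

end alg


variable {X : Scheme.{u}}

/-- the graph extension: a coherent `H` with `p : H ⟶ G`, `q : H ⟶ F` such that over `U`,
`p` is an isomorphism and `q = p ≫ φ`. -/
theorem exists_graph_extension [IsNoetherian X] (F G : X.Modules) [F.IsQuasicoherent]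
    [G.IsQuasicoherent] [SheafOfModules.IsFiniteType (R := X.ringCatSheaf) G] (U : X.Opens)
    (φ : (Scheme.Modules.restrictFunctor U.ι).obj G ⟶ (Scheme.Modules.restrictFunctor U.ι).obj F) :
    ∃ (H : X.Modules) (p : H ⟶ G) (q : H ⟶ F), H.IsQuasicoherent ∧
      SheafOfModules.IsFiniteType (R := X.ringCatSheaf) H ∧
      IsIso ((Scheme.Modules.restrictFunctor U.ι).map p) ∧
      (Scheme.Modules.restrictFunctor U.ι).map q = (Scheme.Modules.restrictFunctor U.ι).map p ≫ φ := by
  let R := Scheme.Modules.restrictFunctor U.ι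
  haveI : (G ⊞ F).IsQuasicoherent := Groth.Agent.Lib.Helper23.QCohLocal.isQuasicoherent_biprod G F
  let i' : R.obj G ⟶ (G ⊞ F).restrict U.ι := R.map biprod.inl + φ ≫ R.map biprod.inr
  have h1 : i' ≫ R.map biprod.fst = 𝟙 _ := by
    simp only [i', Preadditive.add_comp, Category.assoc, ← Functor.map_comp, biprod.inl_fst,
      biprod.inr_fst, Functor.map_zero, comp_zero, add_zero]
    exact R.map_id _
  have h2 : i' ≫ R.map biprod.snd = φ := by
    simp only [i', Preadditive.add_comp, Category.assoc, ← Functor.map_comp, biprod.inl_snd,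
      biprod.inr_snd, Functor.map_zero, zero_add]
    rw [R.map_id, Category.comp_id]
  haveI : Mono i' := mono_of_mono_fac h1
  haveI : (R.obj G).IsQuasicoherent := Scheme.Modules.isQuasicoherent_restrictFunctor U.ι G
  have hft : CohB1.IsFT (R.obj G) :=
    Groth.Agent.Lib.Helper23.FinType.isFiniteType_restrict U.ι G
  have hUc : IsCompact (U : Set X) := TopologicalSpace.NoetherianSpace.isCompact _
  obtain ⟨H, i, e, hi, hHq, hHf, he⟩ :=
    Groth.Agent.S10848.result U hUc (G ⊞ F) (R.obj G) hft i'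
  have hp : R.map (i ≫ biprod.fst) = e.hom := by
    rw [R.map_comp]
    exact (congrArg (· ≫ R.map biprod.fst) he).symm.trans
      ((Category.assoc _ _ _).trans ((congrArg (e.hom ≫ ·) h1).trans (Category.comp_id _)))
  have hq : R.map (i ≫ biprod.snd) = e.hom ≫ φ := by
    rw [R.map_comp]
    exact (congrArg (· ≫ R.map biprod.snd) he).symm.trans
      ((Category.assoc _ _ _).trans (congrArg (e.hom ≫ ·) h2))
  refine ⟨H, i ≫ biprod.fst, i ≫ biprod.snd, hHq, hHf, ?_, ?_⟩
  · change IsIso (R.map (i ≫ biprod.fst))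
    rw [hp]
    infer_instance
  · change R.map (i ≫ biprod.snd) = R.map (i ≫ biprod.fst) ≫ φ
    rw [hp, hq]


open Groth.Agent.Lib.Seat16.PowKill Groth.Agent.Lib.Seat16.SubSheaf Groth.Agent.Lib.Seat16.SubInf
  Groth.Agent.Lib.Seat16.IdealMul Groth.Agent.Lib.Helper23.FinType



section consts
variable [IsNoetherian X] {H G : X.Modules} [H.IsQuasicoherent] [G.IsQuasicoherent]
  [SheafOfModules.IsFiniteType (R := X.ringCatSheaf) H]
  [SheafOfModules.IsFiniteType (R := X.ringCatSheaf) G]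
  (I : X.IdealSheafData) (U : X.Opens) (hU : (U : Set X) = (I.support : Set X)ᶜ)
  (p : H ⟶ G) (hp : IsIso ((Scheme.Modules.restrictFunctor U.ι).map p))

omit [SheafOfModules.IsFiniteType (R := X.ringCatSheaf) H] in
include hU hp in
/-- a power of the ideal maps `G(V)` into the image of `p` on sections. -/
theorem exists_pow_smul_mem_range (V : X.affineOpens) :
    ∃ a : ℕ, ∀ b ∈ I.ideal V ^ a, ∀ m : Γ(G, V.1), ∃ y : Γ(H, V.1), p.app V.1 y = b • m := by
  let R := Scheme.Modules.restrictFunctor U.ι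
  haveI : (Limits.image p).IsQuasicoherent := Groth.Agent.S9362.isQuasicoherent_image p
  let ψ := cokernel.π (image.ι p)
  have hRψ : R.map ψ = 0 := by
    haveI : Epi (R.map (factorThruImage p) ≫ R.map (image.ι p)) := by
      rw [← R.map_comp, image.fac]
      haveI := hp
      exact inferInstanceAs (Epi (R.map p))
    haveI : Epi (R.map (image.ι p)) := epi_of_epi (R.map (factorThruImage p)) _
    rw [← cancel_epi (R.map (image.ι p)), ← R.map_comp, cokernel.condition, R.map_zero, comp_zero]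
  have hψ : ∀ W : X.Opens, W ≤ U → ∀ s : Γ(G, W), ψ.app W s = 0 :=
    fun W hW s => app_eq_zero_of_restrict_eq_zero ψ U hRψ W hW s
  haveI : (cokernel (image.ι p)).IsQuasicoherent :=
    Groth.Agent.Lib.Helper23.QCohLocal.isQuasicoherent_cokernel _
  have hfin : Module.Finite Γ(X, V.1) Γ(G, V.1) := finite_of_isFiniteType G V.2
  obtain ⟨k, hk⟩ := exists_pow_kill I U hU ψ hψ V hfin
  refine ⟨k, fun b hb m => ?_⟩
  have h0 : ψ.app V.1 (b • m) = 0 := by
    rw [Scheme.Modules.Hom.app_smul]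
    exact hk b hb m
  obtain ⟨z, hz⟩ := (exists_app_eq_iff (image.ι p) V.1 (b • m)).2 h0
  obtain ⟨y, hy⟩ := surjective_app_of_epi (factorThruImage p) V.2 z
  refine ⟨y, ?_⟩
  have e1 : p.app V.1 y = (image.ι p).app V.1 ((factorThruImage p).app V.1 y) := by
    conv_lhs => rw [← image.fac p]
    rfl
  rw [e1, hy, hz]

omit [SheafOfModules.IsFiniteType (R := X.ringCatSheaf) G] in
include hU hp in
/-- a power of the ideal kills the kernel of `p` on sections. -/
theorem exists_pow_smul_ker_eq_zero (V : X.affineOpens) :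
    ∃ c : ℕ, ∀ b ∈ I.ideal V ^ c, ∀ y : Γ(H, V.1), p.app V.1 y = 0 → b • y = 0 := by
  let R := Scheme.Modules.restrictFunctor U.ι
  haveI : (kernel p).IsQuasicoherent := Groth.Agent.Lib.Helper23.QCohLocal.isQuasicoherent_kernel p
  haveI := isFiniteType_of_mono (kernel.ι p)
  let ψ := kernel.ι p
  have hRψ : R.map ψ = 0 := by
    haveI : Mono (R.map p) := by haveI := hp; exact inferInstanceAs (Mono (R.map p))
    rw [← cancel_mono (R.map p), ← R.map_comp, kernel.condition, R.map_zero, zero_comp]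
  have hψ : ∀ W : X.Opens, W ≤ U → ∀ s : Γ(kernel p, W), ψ.app W s = 0 :=
    fun W hW s => app_eq_zero_of_restrict_eq_zero ψ U hRψ W hW s
  have hfin : Module.Finite Γ(X, V.1) Γ(kernel p, V.1) := finite_of_isFiniteType (kernel p) V.2
  obtain ⟨k, hk⟩ := exists_pow_kill I U hU ψ hψ V hfin
  refine ⟨k, fun b hb y hy => ?_⟩
  obtain ⟨t, rfl⟩ := exists_kernel_of_app_eq_zero p V.1 y hy
  exact hk b hb t

end consts


section main
variable [IsNoetherian X] {H G : X.Modules} [H.IsQuasicoherent] [G.IsQuasicoherent]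
  [SheafOfModules.IsFiniteType (R := X.ringCatSheaf) H]
  [SheafOfModules.IsFiniteType (R := X.ringCatSheaf) G]
  (I : X.IdealSheafData) (U : X.Opens) (hU : (U : Set X) = (I.support : Set X)ᶜ)
  (p : H ⟶ G) (hp : IsIso ((Scheme.Modules.restrictFunctor U.ι).map p))

include hU hp in
/-- for `N` large, `I^N G ⟶ G` factors through `I^n H ⟶ H ⟶ G` for some `n`. -/
theorem exists_lift_idealMul :
    ∃ (n N : ℕ) (l : (Dual3.idealMul (I ^ N)).obj G ⟶ (Dual3.idealMul (I ^ n)).obj H),
      l ≫ Dual3.idealMulι (I ^ n) H ≫ p = Dual3.idealMulι (I ^ N) G := by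
  classical
  -- a finite affine cover
  obtain ⟨t, ht⟩ := isCompact_univ.elim_finite_subcover (fun V : X.affineOpens => (V.1 : Set X))
    (fun V => V.1.2) (fun x _ => by
      obtain ⟨_, ⟨V, hV, rfl⟩, hxV, -⟩ :=
        X.isBasis_affineOpens.exists_subset_of_mem_open (Set.mem_univ x) isOpen_univ
      exact Set.mem_iUnion.2 ⟨⟨V, hV⟩, hxV⟩)
  let 𝒱 : Set X.Opens := {W | ∃ V ∈ t, W = V.1}
  have haff : ∀ W ∈ 𝒱, IsAffineOpen W := by
    rintro _ ⟨V, -, rfl⟩
    exact V.2
  have hcov : ∀ x : X, ∃ W ∈ 𝒱, x ∈ W := by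
    intro x
    obtain ⟨V, hVt, hxV⟩ : ∃ V ∈ t, x ∈ V.1 := by simpa using ht (Set.mem_univ x)
    exact ⟨V.1, ⟨V, hVt, rfl⟩, hxV⟩
  -- constants
  choose aV haV using fun V : X.affineOpens => exists_pow_smul_mem_range I U hU p hp V
  choose cV hcV using fun V : X.affineOpens => exists_pow_smul_ker_eq_zero I U hU p hp V
  have hAR : ∀ V : X.affineOpens, ∃ n₀ : ℕ, ∀ n : ℕ, n₀ ≤ n →
      (I.ideal V ^ n • ⊤ : Submodule Γ(X, V.1) Γ(H, V.1)) ⊓ LinearMap.ker (appₗ p V.1) = ⊥ := by
    intro V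
    haveI : IsNoetherianRing Γ(X, V.1) := IsLocallyNoetherian.component_noetherian V
    haveI : Module.Finite Γ(X, V.1) Γ(H, V.1) := finite_of_isFiniteType H V.2
    exact exists_pow_smul_inf_ker_eq_bot (A := Γ(X, V.1)) (P := Γ(H, V.1)) (M := Γ(G, V.1))
      (I.ideal V) (appₗ p V.1) (cV V)
      (fun b hb y hy => hcV V b hb y hy)
  choose nV hnV using hAR
  let a := t.sup aV
  let n := t.sup nV
  haveI : ((Dual3.idealMul (I ^ n)).obj H).IsQuasicoherent := isQuasicoherent_idealMul _ _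
  haveI : ((Dual3.idealMul (I ^ (n + a))).obj G).IsQuasicoherent := isQuasicoherent_idealMul _ _
  let bb : (Dual3.idealMul (I ^ n)).obj H ⟶ G := Dual3.idealMulι (I ^ n) H ≫ p
  -- `bb` is a monomorphism
  haveI hmono : Mono bb := by
    haveI : (kernel bb).IsQuasicoherent :=
      Groth.Agent.Lib.Helper23.QCohLocal.isQuasicoherent_kernel bb
    apply Preadditive.mono_of_kernel_zero
    refine hom_eq_zero_of_affine_cover _ 𝒱 haff hcov ?_
    rintro _ ⟨V, hVt, rfl⟩ s
    set t' := (kernel.ι bb).app V.1 s with ht'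
    have h0 : bb.app V.1 t' = 0 := app_kernel_ι_eq_zero bb V.1 s
    set u := (Dual3.idealMulι (I ^ n) H).app V.1 t' with hu
    have hu1 : u ∈ (I.ideal V ^ n • ⊤ : Submodule Γ(X, V.1) Γ(H, V.1)) :=
      idealMulι_app_mem (I ^ n) H V t'
    have hu2 : u ∈ LinearMap.ker (appₗ p V.1) := LinearMap.mem_ker.2 h0
    have hu0 : u = 0 := by
      have hmem : u ∈ (I.ideal V ^ n • ⊤ : Submodule Γ(X, V.1) Γ(H, V.1)) ⊓
          LinearMap.ker (appₗ p V.1) := ⟨hu1, hu2⟩
      rw [hnV V n (Finset.le_sup hVt)] at hmem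
      exact (Submodule.mem_bot _).1 hmem
    apply idealMulι_app_injective (I ^ n) H V.1
    rw [← hu, hu0, map_zero]
  -- the lift
  obtain ⟨l, hl⟩ := exists_lift_of_affine_cover (Dual3.idealMulι (I ^ (n + a)) G) bb 𝒱 haff hcov (by
    rintro _ ⟨V, hVt, rfl⟩ s
    have hm : (Dual3.idealMulι (I ^ (n + a)) G).app V.1 s ∈
        (I.ideal V ^ (n + a) • ⊤ : Submodule Γ(X, V.1) Γ(G, V.1)) :=
      idealMulι_app_mem (I ^ (n + a)) G V s
    have haV' : ∀ b ∈ I.ideal V ^ a, ∀ m : Γ(G, V.1), ∃ y : Γ(H, V.1), appₗ p V.1 y = b • m :=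
      fun b hb m => haV V b (Ideal.pow_le_pow_right (Finset.le_sup hVt) hb) m
    obtain ⟨u, hu, hpu⟩ := exists_mem_pow_smul_of_mem (A := Γ(X, V.1)) (P := Γ(H, V.1))
      (M := Γ(G, V.1)) (I.ideal V) (appₗ p V.1) a n haV' _ hm
    obtain ⟨t', ht'⟩ := exists_idealMulι_app_eq (I ^ n) H V u hu
    refine ⟨t', ?_⟩
    change p.app V.1 ((Dual3.idealMulι (I ^ n) H).app V.1 t') = _
    rw [ht']
    exact hpu)
  exact ⟨n, n + a, l, hl⟩

end main


end helpers

/-- Let X be a Noetherian scheme, F a quasi-coherent O_X-module, G a coherent O_X-module and I a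
quasi-coherent sheaf of ideals, with U the open complement of the closed subset cut out by I. For
every morphism φ : G|_U → F|_U there are an n ≥ 0 and a morphism ψ : I^n G → F whose restriction to
U is the restriction of the inclusion I^n G → G followed by φ. (Here I^n G ⊆ G is the submodule
sheaf Dual3.idealMul (I^n) G.) -/
theorem result (X : Scheme.{u}) [IsNoetherian X] (F G : X.Modules)
    (hF : Coh.IsQCoh F) (hG : Coh.IsCoh G) (I : X.IdealSheafData)
    (U : X.Opens) (hU : (U : Set X) = (I.support : Set X)ᶜ)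
    (φ : (Scheme.Modules.restrictFunctor U.ι).obj G ⟶
      (Scheme.Modules.restrictFunctor U.ι).obj F) :
    ∃ (n : ℕ) (ψ : (Dual3.idealMul (I ^ n)).obj G ⟶ F),
      (Scheme.Modules.restrictFunctor U.ι).map ψ =
        (Scheme.Modules.restrictFunctor U.ι).map (Dual3.idealMulι (I ^ n) G) ≫ φ := by
  haveI : F.IsQuasicoherent := hF
  haveI : G.IsQuasicoherent := hG.1
  haveI : SheafOfModules.IsFiniteType (R := X.ringCatSheaf) G := hG.2
  obtain ⟨H, p, q, hHq, hHf, hp, hq⟩ := exists_graph_extension F G U φ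
  haveI := hHq
  haveI := hHf
  obtain ⟨n, N, l, hl⟩ := exists_lift_idealMul I U hU p hp
  refine ⟨N, l ≫ Dual3.idealMulι (I ^ n) H ≫ q, ?_⟩
  let R := Scheme.Modules.restrictFunctor U.ι
  calc R.map (l ≫ Dual3.idealMulι (I ^ n) H ≫ q)
      = R.map (l ≫ Dual3.idealMulι (I ^ n) H) ≫ R.map q := by
        rw [← R.map_comp, Category.assoc]
    _ = R.map (l ≫ Dual3.idealMulι (I ^ n) H) ≫ R.map p ≫ φ := by rw [hq]
    _ = R.map ((l ≫ Dual3.idealMulι (I ^ n) H) ≫ p) ≫ φ := by
        rw [R.map_comp (l ≫ Dual3.idealMulι (I ^ n) H) p, Category.assoc]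
    _ = R.map (Dual3.idealMulι (I ^ N) G) ≫ φ := by rw [Category.assoc, hl]

end Groth.Agent.S9515
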