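import Groth.Statements.S9516
import Groth.Agent.Lib.Seat16PowKill
import Groth.Agent.Lib.Helper23FinType2

set_option linter.style.haveILetI false

set_option autoImplicit false
universe u
open CategoryTheory CategoryTheory.Limits AlgebraicGeometry
attribute [local instance] HasDerivedCategory.standard
open Coherent
open Groth.Agent.Lib.Seat16.PowKill Groth.Agent.Lib.Seat16.SubSheaf

namespace Groth.Agent.S9516

/-- Let X be a Noetherian scheme, F a quasi-coherent O_X-module, G a coherent O_X-module and I a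
quasi-coherent sheaf of ideals, with U the open complement of the closed subset cut out by I. If a
morphism ψ : I^n G → F restricts to zero on U, then ψ vanishes on I^N G for some N: there is a
morphism ι : I^N G → I^n G commuting with the inclusions into G and with ι ≫ ψ = 0. (Together with
the surjectivity statement this says that colim_n Hom(I^n G, F) → Hom(G|_U, F|_U) is bijective.) -/
theorem result (X : Scheme.{u}) [IsNoetherian X] (F G : X.Modules)
    (hF : Coh.IsQCoh F) (hG : Coh.IsCoh G) (I : X.IdealSheafData)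
    (U : X.Opens) (hU : (U : Set X) = (I.support : Set X)ᶜ) (n : ℕ)
    (ψ : (Dual3.idealMul (I ^ n)).obj G ⟶ F)
    (hψ : (Scheme.Modules.restrictFunctor U.ι).map ψ = 0) :
    ∃ (N : ℕ) (ι : (Dual3.idealMul (I ^ N)).obj G ⟶ (Dual3.idealMul (I ^ n)).obj G),
      ι ≫ Dual3.idealMulι (I ^ n) G = Dual3.idealMulι (I ^ N) G ∧ ι ≫ ψ = 0 := by
  classical
  haveI : F.IsQuasicoherent := hF
  haveI : G.IsQuasicoherent := hG.1
  haveI : SheafOfModules.IsFiniteType (R := X.ringCatSheaf) G := hG.2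
  have hψ' := app_eq_zero_of_restrict_eq_zero ψ U hψ
  -- finiteness of sections of `I^n G`
  have hfin : ∀ V : X.affineOpens,
      Module.Finite Γ(X, V.1) Γ((Dual3.idealMul (I ^ n)).obj G, V.1) := by
    intro V
    haveI : IsNoetherianRing Γ(X, V.1) := IsLocallyNoetherian.component_noetherian V
    haveI : Module.Finite Γ(X, V.1) Γ(G, V.1) :=
      Groth.Agent.Lib.Helper23.FinType.finite_of_isFiniteType G V.2
    haveI : IsNoetherian Γ(X, V.1) Γ(G, V.1) := isNoetherian_of_isNoetherianRing_of_finite _ _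
    exact Module.Finite.of_injective (appₗ (Dual3.idealMulι (I ^ n) G) V.1)
      (idealMulι_app_injective (I ^ n) G V.1)
  have step1 : ∀ V : X.affineOpens, ∃ k : ℕ, ∀ b ∈ (I.ideal V) ^ k,
      ∀ t : Γ((Dual3.idealMul (I ^ n)).obj G, V.1), b • ψ.app V.1 t = 0 :=
    fun V => exists_pow_kill I U hU ψ hψ' V (hfin V)
  choose k hk using step1
  -- a finite affine cover
  obtain ⟨T, hT⟩ : ∃ T : Finset X.affineOpens, ∀ x : X, ∃ V ∈ T, x ∈ V.1 := by
    obtain ⟨T, hT⟩ := isCompact_univ.elim_finite_subcover (fun V : X.affineOpens => (V.1 : Set X))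
      (fun V => V.1.isOpen) (by
        intro x _
        obtain ⟨V, hV, hxV, -⟩ :=
          exists_isAffineOpen_mem_and_subset (x := x) (U := (⊤ : X.Opens)) trivial
        exact Set.mem_iUnion.2 ⟨⟨V, hV⟩, hxV⟩)
    refine ⟨T, fun x => ?_⟩
    have := hT (Set.mem_univ x)
    simp only [Set.mem_iUnion] at this
    obtain ⟨V, hV, hx⟩ := this
    exact ⟨V, hV, hx⟩
  refine ⟨T.sup k + n, ?_⟩
  obtain ⟨ι, hι⟩ := exists_lift_of_forall_affine (Dual3.idealMulι (I ^ (T.sup k + n)) G)
    (Dual3.idealMulι (I ^ n) G) (by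
      intro V s
      have h1 := idealMulι_app_mem (I ^ (T.sup k + n)) G V s
      have hle : ((I ^ (T.sup k + n)).ideal V • ⊤ : Submodule Γ(X, V.1) Γ(G, V.1)) ≤
          (I ^ n).ideal V • ⊤ := by
        refine Submodule.smul_mono_left ?_
        change (I.ideal V) ^ (T.sup k + n) ≤ (I.ideal V) ^ n
        exact Ideal.pow_le_pow_right (Nat.le_add_left _ _)
      exact exists_idealMulι_app_eq (I ^ n) G V _ (hle h1))
  refine ⟨ι, hι, ?_⟩
  haveI : ((Dual3.idealMul (I ^ (T.sup k + n))).obj G).IsQuasicoherent := isQuasicoherent_idealMul _ G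
  refine hom_eq_zero_of_affine_cover (ι ≫ ψ) {W | ∃ V ∈ T, W = V.1} ?_ ?_ ?_
  · rintro W ⟨V, -, rfl⟩
    exact V.2
  · intro x
    obtain ⟨V, hV, hx⟩ := hT x
    exact ⟨V.1, ⟨V, hV, rfl⟩, hx⟩
  · rintro W ⟨V, hV, rfl⟩ s
    change ψ.app V.1 (ι.app V.1 s) = 0
    have hm := idealMulι_app_mem (I ^ (T.sup k + n)) G V s
    have hm' : (Dual3.idealMulι (I ^ (T.sup k + n)) G).app V.1 s ∈
        ((I.ideal V) ^ (T.sup k) • ((I.ideal V) ^ n • ⊤ : Submodule Γ(X, V.1) Γ(G, V.1)) :
          Submodule Γ(X, V.1) Γ(G, V.1)) := by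
      rw [← Submodule.mul_smul, ← pow_add]
      exact hm
    have claim : ∀ m ∈ ((I.ideal V) ^ (T.sup k) • ((I.ideal V) ^ n • ⊤ :
        Submodule Γ(X, V.1) Γ(G, V.1)) : Submodule Γ(X, V.1) Γ(G, V.1)),
        ∃ t' : Γ((Dual3.idealMul (I ^ n)).obj G, V.1),
          (Dual3.idealMulι (I ^ n) G).app V.1 t' = m ∧ ψ.app V.1 t' = 0 := by
      intro m hm
      refine Submodule.smul_induction_on
        (p := fun m : Γ(G, V.1) => ∃ t' : Γ((Dual3.idealMul (I ^ n)).obj G, V.1),
          (Dual3.idealMulι (I ^ n) G).app V.1 t' = m ∧ ψ.app V.1 t' = 0) hm ?_ ?_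
      · intro c hc m' hm'
        obtain ⟨t'', ht''⟩ := exists_idealMulι_app_eq (I ^ n) G V m' hm'
        refine ⟨c • t'', ?_, ?_⟩
        · rw [Scheme.Modules.Hom.app_smul, ht'']
        · rw [Scheme.Modules.Hom.app_smul]
          exact hk V c (Ideal.pow_le_pow_right (Finset.le_sup hV) hc) t''
      · rintro x y ⟨t₁, h₁, h₁'⟩ ⟨t₂, h₂, h₂'⟩
        exact ⟨t₁ + t₂, by rw [map_add, h₁, h₂], by rw [map_add, h₁', h₂', add_zero]⟩
    obtain ⟨t', ht', ht'0⟩ := claim _ hm'
    have hcomp : (Dual3.idealMulι (I ^ n) G).app V.1 (ι.app V.1 s) =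
        (Dual3.idealMulι (I ^ (T.sup k + n)) G).app V.1 s := by
      rw [← hι]
      rfl
    have : t' = ι.app V.1 s := idealMulι_app_injective (I ^ n) G V.1 (ht'.trans hcomp.symm)
    rw [← this]
    exact ht'0

end Groth.Agent.S9516
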