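import Groth.Statements.S9517
import Groth.Agent.Lib.Seat16SubInf
import Groth.Agent.Lib.Helper23FinType2

set_option linter.style.haveILetI false

set_option autoImplicit false
universe u
open CategoryTheory CategoryTheory.Limits AlgebraicGeometry
attribute [local instance] HasDerivedCategory.standard
open Coherent
open Groth.Agent.Lib.Seat16.PowKill Groth.Agent.Lib.Seat16.SubSheaf Groth.Agent.Lib.Seat16.SubInf

namespace Groth.Agent.S9517

theorem artin_rees_ge {R M : Type*} [CommRing R] [AddCommGroup M] [Module R M] (J : Ideal R)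
    (N : Submodule R M) (k : ℕ)
    (hk : ∀ n ≥ k, J ^ n • ⊤ ⊓ N = J ^ (n - k) • (J ^ k • ⊤ ⊓ N)) (c : ℕ) (hc : k ≤ c) (n : ℕ)
    (hn : c ≤ n) : J ^ n • ⊤ ⊓ N = J ^ (n - c) • (J ^ c • ⊤ ⊓ N) := by
  rw [hk n (hc.trans hn), hk c hc, ← Submodule.mul_smul, ← pow_add]
  congr 2
  omega

/-- sections of `I·F ⊓ G` over an affine open. -/
theorem inf_sections {X : Scheme.{u}} (F G : X.Modules) [F.IsQuasicoherent] (ι : G ⟶ F) [Mono ι]
    (J : X.IdealSheafData) (V : X.affineOpens) (s : Γ(F, V.1)) :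
    (∃ z : Γ(Subobject.underlying.obj (Subobject.mk (Dual3.idealMulι J F) ⊓ Subobject.mk ι), V.1),
        (Subobject.mk (Dual3.idealMulι J F) ⊓ Subobject.mk ι).arrow.app V.1 z = s) ↔
      s ∈ ((J.ideal V • ⊤ : Submodule Γ(X, V.1) Γ(F, V.1)) ⊓ LinearMap.range (appₗ ι V.1)) := by
  rw [exists_inf_arrow_app_eq_iff, Submodule.mem_inf]
  constructor
  · rintro ⟨⟨x, rfl⟩, ⟨y, hy⟩⟩
    exact ⟨idealMulι_app_mem J F V x, ⟨y, hy⟩⟩
  · rintro ⟨h1, ⟨y, hy⟩⟩
    exact ⟨exists_idealMulι_app_eq J F V s h1, ⟨y, hy⟩⟩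

/-- Let X be a Noetherian scheme, F a coherent O_X-module, G ⊆ F a quasi-coherent submodule (given by a
monomorphism ι : G → F) and I a quasi-coherent sheaf of ideals. Then there is c ≥ 0 such that for
every n ≥ c the two subobjects I^(n-c)·(I^c F ∩ G) and I^n F ∩ G of F are equal. (Products J·M are
the submodule sheaves Dual3.idealMul J M; intersections are taken in the lattice of subobjects of
F.) -/
theorem result (X : Scheme.{u}) [IsNoetherian X] (F G : X.Modules) (hF : Coh.IsCoh F)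
    (hG : Coh.IsQCoh G) (ι : G ⟶ F) [Mono ι] (I : X.IdealSheafData) :
    ∃ c : ℕ, ∀ n : ℕ, c ≤ n →
      Subobject.mk (Dual3.idealMulι (I ^ (n - c))
          (Subobject.underlying.obj (Subobject.mk (Dual3.idealMulι (I ^ c) F) ⊓ Subobject.mk ι)) ≫
        (Subobject.mk (Dual3.idealMulι (I ^ c) F) ⊓ Subobject.mk ι).arrow) =
      Subobject.mk (Dual3.idealMulι (I ^ n) F) ⊓ Subobject.mk ι := by
  classical
  haveI : F.IsQuasicoherent := hF.1
  haveI : SheafOfModules.IsFiniteType (R := X.ringCatSheaf) F := hF.2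
  haveI : G.IsQuasicoherent := hG
  -- a finite affine cover
  obtain ⟨T, hT⟩ : ∃ T : Finset X.affineOpens, ∀ x : X, ∃ V ∈ T, x ∈ V.1 := by
    obtain ⟨T, hT⟩ := isCompact_univ.elim_finite_subcover (fun V : X.affineOpens => (V.1 : Set X))
      (fun V => V.1.isOpen) (by
        intro x _
        obtain ⟨V, hV, hxV, -⟩ :=
          exists_isAffineOpen_mem_and_subset (x := x) (U := (⊤ : X.Opens)) trivial
        exact Set.mem_iUnion.2 ⟨⟨V, hV⟩, hxV⟩)
    refine ⟨T, fun x => ?_⟩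
    have := hT (Set.mem_univ x)
    simp only [Set.mem_iUnion] at this
    obtain ⟨V, hV, hx⟩ := this
    exact ⟨V, hV, hx⟩
  -- Artin–Rees on each affine open
  have AR : ∀ V : X.affineOpens, ∃ k : ℕ, ∀ n ≥ k,
      (I.ideal V ^ n • ⊤ ⊓ LinearMap.range (appₗ ι V.1) : Submodule Γ(X, V.1) Γ(F, V.1)) =
        I.ideal V ^ (n - k) • (I.ideal V ^ k • ⊤ ⊓ LinearMap.range (appₗ ι V.1)) := by
    intro V
    haveI : IsNoetherianRing Γ(X, V.1) := IsLocallyNoetherian.component_noetherian V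
    haveI : Module.Finite Γ(X, V.1) Γ(F, V.1) :=
      Groth.Agent.Lib.Helper23.FinType.finite_of_isFiniteType F V.2
    exact Ideal.exists_pow_inf_eq_pow_smul (I.ideal V) (LinearMap.range (appₗ ι V.1))
  choose k hk using AR
  refine ⟨T.sup k, fun n hn => ?_⟩
  have eqV : ∀ V ∈ T,
      (I.ideal V ^ n • ⊤ ⊓ LinearMap.range (appₗ ι V.1) : Submodule Γ(X, V.1) Γ(F, V.1)) =
        I.ideal V ^ (n - T.sup k) • (I.ideal V ^ (T.sup k) • ⊤ ⊓ LinearMap.range (appₗ ι V.1)) :=
    fun V hV => artin_rees_ge _ _ (k V) (hk V) (T.sup k) (Finset.le_sup hV) n hn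
  generalize T.sup k = c at eqV hn ⊢
  haveI qIc : ((Dual3.idealMul (I ^ c)).obj F).IsQuasicoherent := isQuasicoherent_idealMul _ F
  haveI qIn : ((Dual3.idealMul (I ^ n)).obj F).IsQuasicoherent := isQuasicoherent_idealMul _ F
  haveI qSc : (Subobject.underlying.obj
      (Subobject.mk (Dual3.idealMulι (I ^ c) F) ⊓ Subobject.mk ι)).IsQuasicoherent :=
    isQuasicoherent_inf _ _
  haveI qSn : (Subobject.underlying.obj
      (Subobject.mk (Dual3.idealMulι (I ^ n) F) ⊓ Subobject.mk ι)).IsQuasicoherent :=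
    isQuasicoherent_inf _ _
  haveI qL : ((Dual3.idealMul (I ^ (n - c))).obj (Subobject.underlying.obj
      (Subobject.mk (Dual3.idealMulι (I ^ c) F) ⊓ Subobject.mk ι))).IsQuasicoherent :=
    isQuasicoherent_idealMul _ _
  -- sections of the left hand side
  have secL : ∀ (V : X.affineOpens) (s : Γ(F, V.1)),
      (∃ w, (Dual3.idealMulι (I ^ (n - c))
          (Subobject.underlying.obj (Subobject.mk (Dual3.idealMulι (I ^ c) F) ⊓ Subobject.mk ι)) ≫
          (Subobject.mk (Dual3.idealMulι (I ^ c) F) ⊓ Subobject.mk ι).arrow).app V.1 w = s) ↔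
        s ∈ (I.ideal V ^ (n - c) • (I.ideal V ^ c • ⊤ ⊓ LinearMap.range (appₗ ι V.1)) :
          Submodule Γ(X, V.1) Γ(F, V.1)) := by
    intro V s
    have hrange : LinearMap.range
        (appₗ (Subobject.mk (Dual3.idealMulι (I ^ c) F) ⊓ Subobject.mk ι).arrow V.1) =
        (I.ideal V ^ c • ⊤ ⊓ LinearMap.range (appₗ ι V.1) : Submodule Γ(X, V.1) Γ(F, V.1)) := by
      ext s
      rw [LinearMap.mem_range]
      exact inf_sections F G ι (I ^ c) V s
    rw [← hrange, LinearMap.range_eq_map, ← Submodule.map_smul'']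
    constructor
    · rintro ⟨w, rfl⟩
      exact Submodule.mem_map.2 ⟨_, idealMulι_app_mem (I ^ (n - c)) _ V w, rfl⟩
    · intro hs
      obtain ⟨u, hu, rfl⟩ := Submodule.mem_map.1 hs
      obtain ⟨w, hw⟩ := exists_idealMulι_app_eq (I ^ (n - c)) _ V u hu
      exact ⟨w, congrArg _ hw⟩
  have haff : ∀ W ∈ {W : X.Opens | ∃ V ∈ T, W = V.1}, IsAffineOpen W := by
    rintro W ⟨V, -, rfl⟩
    exact V.2
  have hcov : ∀ x : X, ∃ W ∈ {W : X.Opens | ∃ V ∈ T, W = V.1}, x ∈ W := by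
    intro x
    obtain ⟨V, hV, hx⟩ := hT x
    exact ⟨V.1, ⟨V, hV, rfl⟩, hx⟩
  apply le_antisymm
  · obtain ⟨l, hl⟩ := exists_lift_of_affine_cover
      (Dual3.idealMulι (I ^ (n - c))
          (Subobject.underlying.obj (Subobject.mk (Dual3.idealMulι (I ^ c) F) ⊓ Subobject.mk ι)) ≫
          (Subobject.mk (Dual3.idealMulι (I ^ c) F) ⊓ Subobject.mk ι).arrow)
      (Subobject.mk (Dual3.idealMulι (I ^ n) F) ⊓ Subobject.mk ι).arrow _ haff hcov (by
        rintro W ⟨V, hV, rfl⟩ w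
        have := (secL V _).1 ⟨w, rfl⟩
        rw [← eqV V hV] at this
        exact (inf_sections F G ι (I ^ n) V _).2 this)
    exact Subobject.mk_le_of_comm l hl
  · obtain ⟨l, hl⟩ := exists_lift_of_affine_cover
      (Subobject.mk (Dual3.idealMulι (I ^ n) F) ⊓ Subobject.mk ι).arrow
      (Dual3.idealMulι (I ^ (n - c))
          (Subobject.underlying.obj (Subobject.mk (Dual3.idealMulι (I ^ c) F) ⊓ Subobject.mk ι)) ≫
          (Subobject.mk (Dual3.idealMulι (I ^ c) F) ⊓ Subobject.mk ι).arrow) _ haff hcov (by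
        rintro W ⟨V, hV, rfl⟩ z
        have : _ ∈ (I.ideal V ^ n • ⊤ ⊓ LinearMap.range (appₗ ι V.1) :
            Submodule Γ(X, V.1) Γ(F, V.1)) := (inf_sections F G ι (I ^ n) V _).1 ⟨z, rfl⟩
        rw [eqV V hV] at this
        exact (secL V _).2 this)
    exact Subobject.le_mk_of_comm l hl

end Groth.Agent.S9517
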