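import Groth.Statements.S9522
import Groth.Agent.Lib.Seat21DevSummand
import Groth.Agent.Lib.Seat21DevIdeal
import Groth.Agent.Lib.Helper6EquiSubB
import Groth.Agent.Lib.Helper10RedInd

set_option autoImplicit false
universe u
open CategoryTheory CategoryTheory.Limits AlgebraicGeometry
attribute [local instance] HasDerivedCategory.standard
open Coherent

namespace Groth.Agent.S9522

/-- Let X be a Noetherian scheme, Z₀ ⊆ X an irreducible closed subset with generic point ξ, and P an
isomorphism-invariant property of O_X-modules that holds for every zero module and such that (1) for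
every short exact sequence 0 → F₁ → F → F₂ → 0 of coherent modules, P(F₁) and P(F₂) imply P(F); (2)
for coherent F, P(F^⊕r) for some r ≥ 1 implies P(F); (3) P holds for i_*I for every closed immersion
i : Z → X with Z integral, i(Z) a proper subset of Z₀, and every quasi-coherent ideal sheaf I ⊆ O_Z;
(4) there is a coherent module G with support equal to Z₀, whose stalk at ξ is annihilated by the
maximal ideal of O_{X,ξ}, and such that for every quasi-coherent sheaf of ideals J on X with ξ ∉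
V(J) there is a quasi-coherent submodule G' ⊆ J·G whose inclusion into G induces an isomorphism on
stalks at ξ and for which P holds. Then P holds for every coherent O_X-module whose support is
contained in Z₀. (The published statement does not ask that P hold for the zero module, although its
proof uses this for a filtration with no steps; without it the conclusion fails for the zero module
when Z₀ is a closed point: on the spectrum of a field, with P(F) meaning that F is nonzero, every
other hypothesis holds. This row assumes that P holds for every zero module.) -/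
theorem result (X : Scheme.{u}) [IsNoetherian X]
    (Z₀ : Set X) (hZ₀ : IsClosed Z₀) (hirr : IsIrreducible Z₀) (ξ : X) (hξ : ξ ∈ Z₀ ∧ closure {ξ} = Z₀)
    (P : X.Modules → Prop) (hP : ∀ M N : X.Modules, Nonempty (M ≅ N) → P M → P N)
    (h₀ : ∀ M : X.Modules, IsZero M → P M)
    (h₁ : ∀ S : ShortComplex X.Modules, S.ShortExact → Coh.IsCoh S.X₁ → Coh.IsCoh S.X₂ → Coh.IsCoh S.X₃ →
      P S.X₁ → P S.X₃ → P S.X₂)
    (h₂ : ∀ (F : X.Modules) (r : ℕ), Coh.IsCoh F → 1 ≤ r → P (∐ fun _ : Fin r => F) → P F)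
    (h₃ : ∀ (Z : Scheme.{u}) (i : Z ⟶ X), IsClosedImmersion i → IsIntegral Z →
      Set.range ⇑i ⊆ Z₀ → Set.range ⇑i ≠ Z₀ →
      ∀ (I : Z.Modules) (ι : I ⟶ Coh.structureModule Z), Mono ι → Coh.IsQCoh I → P ((Coh.push i).obj I))
    (h₄ : ∃ G : X.Modules, Coh.IsCoh G ∧ CohB1.support G = Z₀ ∧
      (∀ a ∈ IsLocalRing.maximalIdeal (X.presheaf.stalk ξ), ∀ m : ↑(G.presheaf.stalk ξ), a • m = 0) ∧
      ∀ J : X.IdealSheafData, ξ ∉ (J.support : Set X) →
        ∃ (G' : X.Modules) (ι' : G' ⟶ (Dual3.idealMul J).obj G), Mono ι' ∧ Coh.IsQCoh G' ∧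
          IsIso ((TopCat.Presheaf.stalkFunctor _ ξ).map (ι' ≫ Dual3.idealMulι J G).mapPresheaf) ∧ P G')
    (F : X.Modules) (hF : Coh.IsCoh F) (hsupp : CohB1.support F ⊆ Z₀) : P F := by
  classical
  obtain ⟨G₀, hG₀c, hG₀s, hG₀k, hG₀'⟩ := h₄
  have hyp : Groth.Agent.Lib.Seat21.Dev.HypE P Z₀ :=
    ⟨hP, h₀, fun S hS h1 h2 h3 _ => h₁ S hS h1 h2 h3⟩
  have hroot : ∀ (F : X.Modules) (n : ℕ), Coh.IsCoh F → P (Groth.Agent.Lib.Seat21.Dev.pw F n) → P F := by
    intro F n hF hK
    obtain ⟨e⟩ := Groth.Agent.Lib.Seat21.Dev.nonempty_sigma_iso_pw F n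
    exact h₂ F (n + 1) hF (Nat.le_add_left 1 n) (hP _ _ ⟨e.symm⟩ hK)
  refine Groth.Agent.Lib.Seat21.Dev.coreE hyp hZ₀ ?_ F hF hsupp
  intro Z hZ _ hZZ₀ y hy hIH F' hF' hF'Z hkill
  by_cases hZeq : Z = Z₀
  · have hyξ : y = ξ := by
      have h : closure {y} = closure {ξ} := by rw [hy, hξ.2, hZeq]
      exact (inseparable_iff_closure_eq.2 h).eq
    subst hyξ
    have hyG : y ∈ CohB1.support G₀ := hG₀s ▸ hξ.1
    refine Groth.Agent.Lib.Seat21.Dev.K_of_killed_summand hyp hroot hZZ₀ hIH G₀ hG₀c (hZeq ▸ hG₀s.le) hyG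
      (fun r hr a => hG₀k r hr a) ?_ F' hF' hF'Z hkill
    intro J hJ
    obtain ⟨G', ι', hι', hG'q, hiso, hPG'⟩ := hG₀' J hJ
    have := hG₀c.1
    have := hG₀c.2
    have := hι'
    have hG'q' : G'.IsQuasicoherent := hG'q
    have hj : Mono (ι' ≫ Dual3.idealMulι J G₀) := mono_comp _ _
    refine ⟨G', ι' ≫ Dual3.idealMulι J G₀, hj,
      ⟨hG'q, Groth.Agent.Lib.Helper23.FinType.isFiniteType_of_mono (ι' ≫ Dual3.idealMulι J G₀)⟩, ?_, ?_, hPG'⟩
    · intro T t
      exact Groth.Agent.Lib.Seat21.Dev.idealMulι_app_mem J G₀ T.2 (ι'.app T.1 t)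
    · have hb := ConcreteCategory.bijective_of_isIso
        ((TopCat.Presheaf.stalkFunctor _ y).map (ι' ≫ Dual3.idealMulι J G₀).mapPresheaf)
      exact hb
  · let Zc : TopologicalSpace.Closeds X := ⟨Z, hZ⟩
    have : IrreducibleSpace ↥(Scheme.IdealSheafData.vanishingIdeal Zc).subscheme :=
      Groth.Agent.Lib.Helper6.EquiSub.irreducibleSpace_subscheme Zc y hy
    have : IsReduced (Scheme.IdealSheafData.vanishingIdeal Zc).subscheme :=
      Groth.Agent.Lib.Helper10.RedInd.isReduced_subscheme_vanishingIdeal Zc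
    have hint : IsIntegral (Scheme.IdealSheafData.vanishingIdeal Zc).subscheme :=
      isIntegral_of_irreducibleSpace_of_isReduced _
    have hr : Set.range ⇑(Scheme.IdealSheafData.vanishingIdeal Zc).subschemeι = Z :=
      Groth.Agent.Lib.Helper6.EquiSub.range_subschemeι_vanishingIdeal Zc
    have hideal : ∀ (N : X.Modules) (j : N ⟶ ClSub.quotMod (Scheme.IdealSheafData.vanishingIdeal Zc)),
        Mono j → Coh.IsCoh N → P N := by
      intro N j hj hN
      have := hN.1
      have := hj
      obtain ⟨I, ι, hι, hIq, ⟨e⟩⟩ := Groth.Agent.Lib.Seat21.Dev.exists_ideal_of_mono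
        (Scheme.IdealSheafData.vanishingIdeal Zc).subschemeι N j
      exact hP _ _ ⟨e⟩ (h₃ _ (Scheme.IdealSheafData.vanishingIdeal Zc).subschemeι inferInstance hint
        (hr ▸ hZZ₀) (hr ▸ hZeq) I ι hι hIq)
    exact Groth.Agent.Lib.Seat21.Dev.K_of_killed hyp hZZ₀ hIH
      (ClSub.quotMod (Scheme.IdealSheafData.vanishingIdeal Zc))
      (Groth.Agent.Lib.Seat21.Dev.isCoh_quotMod _)
      ((Groth.Agent.Lib.Seat21.Dev.support_quotMod_subset _).trans hr.le)
      (Groth.Agent.Lib.Seat21.Dev.rankOne_quotMod hZ hy)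
      (Groth.Agent.Lib.Seat21.Dev.torsionFreeAt_quotMod hZ hy)
      hideal F' hF' hF'Z hkill

end Groth.Agent.S9522
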