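import Groth.Statements.S9523
import Groth.Agent.Lib.Seat16SubSheaf
import Groth.Agent.Lib.Helper22IdealComap

set_option linter.style.haveILetI false

set_option autoImplicit false
universe u
open CategoryTheory CategoryTheory.Limits AlgebraicGeometry
attribute [local instance] HasDerivedCategory.standard
open Coherent

namespace Groth.Agent.S9523

theorem alg_key {A B : Type*} [CommRing A] [CommRing B] (φ : A →+* B) {N N' : Type*}
    [AddCommGroup N] [Module B N] [AddCommGroup N'] [Module A N'] (e : N' ≃+ N)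
    (he : ∀ (r : A) (x : N'), e (r • x) = φ r • e x) (I : Ideal A) (x : N') :
    x ∈ (I • ⊤ : Submodule A N') ↔ e x ∈ ((I.map φ) • ⊤ : Submodule B N) := by
  constructor
  · intro hx
    refine Submodule.smul_induction_on (p := fun x : N' => e x ∈ ((I.map φ) • ⊤ : Submodule B N))
      hx (fun r hr x _ => ?_) (fun x y hx hy => ?_)
    · rw [he]
      exact Submodule.smul_mem_smul (Ideal.mem_map_of_mem _ hr) trivial
    · rw [map_add]
      exact add_mem hx hy
  · intro hx
    have key : ∀ c ∈ I.map φ, ∀ y' : N, e.symm (c • y') ∈ (I • ⊤ : Submodule A N') := by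
      intro c hc
      refine Submodule.span_induction
        (p := fun c _ => ∀ y' : N, e.symm (c • y') ∈ (I • ⊤ : Submodule A N')) ?_ ?_ ?_ ?_ hc
      · rintro _ ⟨r, hr, rfl⟩ y'
        have h1 : e.symm (φ r • y') = r • e.symm y' := by
          apply e.injective
          rw [he, AddEquiv.apply_symm_apply, AddEquiv.apply_symm_apply]
        rw [h1]
        exact Submodule.smul_mem_smul hr trivial
      · intro y'
        rw [zero_smul, map_zero]
        exact zero_mem _
      · intro a b _ _ ha hb y'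
        rw [add_smul, map_add]
        exact add_mem (ha y') (hb y')
      · intro a c _ hc' y'
        rw [smul_eq_mul, mul_comm, mul_smul]
        exact hc' (a • y')
    have main : ∀ y ∈ ((I.map φ) • ⊤ : Submodule B N), e.symm y ∈ (I • ⊤ : Submodule A N') := by
      intro y hy
      refine Submodule.smul_induction_on (p := fun y : N => e.symm y ∈ (I • ⊤ : Submodule A N'))
        hy (fun c hc y' _ => key c hc y') (fun a b ha hb => ?_)
      rw [map_add]
      exact add_mem ha hb
    have := main _ hx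
    rwa [AddEquiv.symm_apply_apply] at this

/-- the identification of sections of a pushforward. -/
noncomputable def pushEquiv {Y X : Scheme.{u}} (f : Y ⟶ X) (F : Y.Modules) (U : X.Opens) :
    Γ((Scheme.Modules.pushforward f).obj F, U) ≃+ Γ(F, f ⁻¹ᵁ U) := AddEquiv.refl _

open Groth.Agent.Helper13PullbackUnit in
theorem key_aux {Y X : Scheme.{u}} (f : Y ⟶ X) (F : Y.Modules) (I : X.IdealSheafData)
    (U : X.affineOpens) (hV : IsAffineOpen (f ⁻¹ᵁ U.1))
    (m : Γ((Scheme.Modules.pushforward f).obj F, U.1)) :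
    (m ∈ (I.ideal U • ⊤ : Submodule Γ(X, U.1) Γ((Scheme.Modules.pushforward f).obj F, U.1))) ↔
      (pushEquiv f F U.1 m ∈ ((I.comap f).ideal ⟨f ⁻¹ᵁ U.1, hV⟩ • ⊤ :
        Submodule Γ(Y, f ⁻¹ᵁ U.1) Γ(F, f ⁻¹ᵁ U.1))) := by
  have hI : (I.comap f).ideal ⟨f ⁻¹ᵁ U.1, hV⟩ = (I.ideal U).map (f.app U.1).hom := by
    have h := Groth.Agent.Lib.Helper22.IdealComap.ideal_comap_eq_map f I ⟨f ⁻¹ᵁ U.1, hV⟩ U le_rfl
    rw [h]
    congr 2
    exact Scheme.Hom.appLE_eq_app f
  rw [hI]
  exact alg_key (f.app U.1).hom (pushEquiv f F U.1) (fun r x => rfl) (I.ideal U) m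

/-- Let f : Y → X be an affine morphism of schemes, F a quasi-coherent O_Y-module and I a quasi-coherent
sheaf of ideals on X. Then I·f_*F = f_*((f⁻¹I O_Y)·F) as submodules of f_*F: there is an isomorphism
I·f_*F ≅ f_*((f⁻¹I O_Y)·F) whose composite with f_* of the inclusion (f⁻¹I O_Y)·F → F is the
inclusion I·f_*F → f_*F. (J·M denotes the submodule sheaf Dual3.idealMul J M; f⁻¹I O_Y is the
pulled-back ideal sheaf I.comap f.) -/
theorem result {Y X : Scheme.{u}} (f : Y ⟶ X) [IsAffineHom f]
    (F : Y.Modules) (hF : Coh.IsQCoh F) (I : X.IdealSheafData) :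
    ∃ e : (Dual3.idealMul I).obj ((Scheme.Modules.pushforward f).obj F) ≅
        (Scheme.Modules.pushforward f).obj ((Dual3.idealMul (I.comap f)).obj F),
      e.hom ≫ (Scheme.Modules.pushforward f).map (Dual3.idealMulι (I.comap f) F) =
        Dual3.idealMulι I ((Scheme.Modules.pushforward f).obj F) := by
  haveI : F.IsQuasicoherent := hF
  haveI : ((Scheme.Modules.pushforward f).obj F).IsQuasicoherent :=
    Groth.Agent.Lib.Helper23.QCohLocal.isQuasicoherent_pushforward f F
  haveI : Mono ((Scheme.Modules.pushforward f).map (Dual3.idealMulι (I.comap f) F)) := inferInstance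
  refine Groth.Agent.Lib.Seat16.SubSheaf.exists_iso_of_forall_affine
    (Dual3.idealMulι I ((Scheme.Modules.pushforward f).obj F))
    ((Scheme.Modules.pushforward f).map (Dual3.idealMulι (I.comap f) F)) ?_ ?_
  · intro U s
    have h1 := Groth.Agent.Lib.Seat16.SubSheaf.idealMulι_app_mem I
      ((Scheme.Modules.pushforward f).obj F) U s
    rw [key_aux f F I U (U.2.preimage f)] at h1
    obtain ⟨t, ht⟩ := Groth.Agent.Lib.Seat16.SubSheaf.exists_idealMulι_app_eq (I.comap f) F
      ⟨f ⁻¹ᵁ U.1, U.2.preimage f⟩ _ h1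
    exact ⟨t, ht⟩
  · intro U t
    have h1 := Groth.Agent.Lib.Seat16.SubSheaf.idealMulι_app_mem (I.comap f) F
      ⟨f ⁻¹ᵁ U.1, U.2.preimage f⟩ t
    have h2 := (key_aux f F I U (U.2.preimage f)
      (((Scheme.Modules.pushforward f).map (Dual3.idealMulι (I.comap f) F)).app U.1 t)).2 h1
    obtain ⟨s, hs⟩ := Groth.Agent.Lib.Seat16.SubSheaf.exists_idealMulι_app_eq I
      ((Scheme.Modules.pushforward f).obj F) U _ h2
    exact ⟨s, hs⟩

end Groth.Agent.S9523
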