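import Groth.Statements.S9525
import Groth.Agent.Lib.Seat16PowKill
import Groth.Agent.Lib.Helper20Thickening
import Groth.Agent.Lib.Helper4ModEpi
import Groth.Agent.Lib.Helper23FinTypeLocal

set_option linter.style.haveILetI false

set_option autoImplicit false
universe u
open Coherent

namespace Groth.Agent.S9525

open CategoryTheory CategoryTheory.Limits AlgebraicGeometry TopologicalSpace Opposite
open Groth.Agent.Lib.Seat16.IdealMul Groth.Agent.Lib.Helper2.ModExact Groth.Agent.Lib.Helper23.ModLocal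

variable {X : Scheme.{u}}

/-- all sections of `M` over opens contained in `U` vanish. -/
def ZeroOn (M : X.Modules) (U : X.Opens) : Prop := ∀ W : X.Opens, W ≤ U → ∀ s : Γ(M, W), s = 0

theorem zeroOn_of_isZero_restrict (M : X.Modules) (U : X.Opens)
    (h : IsZero ((Scheme.Modules.restrictFunctor U.ι).obj M)) : ZeroOn M U := by
  intro W hW s
  have hW₂ : U.ι ''ᵁ (U.ι ⁻¹ᵁ W) = W := by
    rw [Groth.Agent.Helper18Strict.ι_image_preimage]
    exact inf_eq_right.2 hW
  obtain ⟨W', rfl⟩ : ∃ W', W = U.ι ''ᵁ W' := ⟨U.ι ⁻¹ᵁ W, hW₂.symm⟩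
  exact eq_zero_of_isZero h W' s

theorem isZero_restrict_of_zeroOn (M : X.Modules) (U : X.Opens) (h : ZeroOn M U) :
    IsZero ((Scheme.Modules.restrictFunctor U.ι).obj M) :=
  isZero_of_forall_eq_zero fun W s => h (U.ι ''ᵁ W) (Scheme.Hom.image_le_opensRange U.ι W |>.trans
    (by rw [Scheme.Opens.opensRange_ι])) s

theorem ZeroOn.mono {M : X.Modules} {U V : X.Opens} (h : ZeroOn M U) (hle : V ≤ U) : ZeroOn M V :=
  fun W hW s => h W (hW.trans hle) s

theorem mono_of_app_injective' {Y : Scheme.{u}} {M N : Y.Modules} (φ : M ⟶ N)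
    (h : ∀ U : Y.Opens, Function.Injective (φ.app U)) : Mono φ := by
  apply Functor.mono_of_mono_map (Scheme.Modules.toPresheaf Y)
  apply (config := { allowSynthFailures := true }) NatTrans.mono_of_mono_app
  intro U
  rw [AddCommGrpCat.mono_iff_injective]
  exact h U.unop

/-- if the kernel vanishes over `U`, the restriction to `U` is a monomorphism. -/
theorem mono_restrict_of_zeroOn_kernel {G F : X.Modules} (φ : G ⟶ F) (U : X.Opens)
    (h : ZeroOn (kernel φ) U) : Mono ((Scheme.Modules.restrictFunctor U.ι).map φ) := by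
  refine mono_of_app_injective' _ fun W => ?_
  rw [injective_iff_map_eq_zero]
  intro s hs
  have hs' : φ.app (U.ι ''ᵁ W) s = 0 := hs
  obtain ⟨t, ht⟩ := exists_kernel_of_app_eq_zero φ (U.ι ''ᵁ W) s hs'
  have hle : U.ι ''ᵁ W ≤ U := (Scheme.Hom.image_le_opensRange U.ι W).trans
    (by rw [Scheme.Opens.opensRange_ι])
  rw [← ht, h _ hle t, map_zero]
  rfl

/-- if the cokernel vanishes over `U`, the restriction to `U` is an epimorphism. -/
theorem epi_restrict_of_zeroOn_cokernel {G F : X.Modules} (φ : G ⟶ F) (U : X.Opens)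
    (h : ZeroOn (cokernel φ) U) : Epi ((Scheme.Modules.restrictFunctor U.ι).map φ) := by
  let R := Scheme.Modules.restrictFunctor U.ι
  have hz : R.map (cokernel.π φ) = 0 :=
    (isZero_restrict_of_zeroOn _ U h).eq_of_tgt _ _
  have hc : IsColimit ((CokernelCofork.ofπ (cokernel.π φ) (cokernel.condition φ)).map R) :=
    CokernelCofork.mapIsColimit _ (cokernelIsCokernel φ) R
  refine Preadditive.epi_of_cancel_zero _ (fun {P} g hg => ?_)
  have h1 : R.map (cokernel.π φ) ≫ hc.desc (CokernelCofork.ofπ g hg) = g :=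
    hc.fac (CokernelCofork.ofπ g hg) WalkingParallelPair.one
  rw [← h1, hz, zero_comp]

/-- the stalk of the kernel vanishes where the stalk map is injective. -/
theorem subsingleton_stalk_kernel {G F : X.Modules} (φ : G ⟶ F) (x : X)
    (h : Function.Injective ((TopCat.Presheaf.stalkFunctor _ x).map φ.mapPresheaf).hom) :
    Subsingleton ↑((kernel φ).presheaf.stalk x) := by
  suffices hz : ∀ a : ↑((kernel φ).presheaf.stalk x), a = 0 from ⟨fun a b => by rw [hz a, hz b]⟩
  intro a
  obtain ⟨W, hxW, t, rfl⟩ := (kernel φ).presheaf.exists_germ_eq a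
  -- the germ of `ι t` is zero
  have h1 : G.presheaf.germ W x hxW ((kernel.ι φ).app W t) = 0 := by
    apply h
    refine Eq.trans ?_
      (map_zero ((TopCat.Presheaf.stalkFunctor _ x).map φ.mapPresheaf).hom).symm
    have := TopCat.Presheaf.stalkFunctor_map_germ_apply W x hxW φ.mapPresheaf ((kernel.ι φ).app W t)
    refine this.trans ?_
    rw [Scheme.Modules.mapPresheaf_app]
    have h0 : φ.app W ((kernel.ι φ).app W t) = 0 := app_kernel_ι_eq_zero φ W t
    erw [h0]
    exact map_zero _
  obtain ⟨W', hxW', iU, iV, hres⟩ := TopCat.Presheaf.germ_eq G.presheaf x hxW hxW _ _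
    (h1.trans (map_zero (G.presheaf.germ W x hxW).hom).symm)
  have h2 : (kernel.ι φ).app W' ((kernel φ).presheaf.map iU.op t) = 0 := by
    rw [app_map, hres, map_zero]
  have h3 : (kernel φ).presheaf.map iU.op t = 0 :=
    app_injective_of_mono (kernel.ι φ) W' (h2.trans (map_zero _).symm)
  rw [← TopCat.Presheaf.germ_res_apply (kernel φ).presheaf iU x hxW' t, h3, map_zero]

/-- the stalk of the cokernel vanishes where the stalk map is surjective. -/
theorem subsingleton_stalk_cokernel {G F : X.Modules} (φ : G ⟶ F) (x : X)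
    (h : Function.Surjective ((TopCat.Presheaf.stalkFunctor _ x).map φ.mapPresheaf).hom) :
    Subsingleton ↑((cokernel φ).presheaf.stalk x) := by
  suffices hz : ∀ a : ↑((cokernel φ).presheaf.stalk x), a = 0 from ⟨fun a b => by rw [hz a, hz b]⟩
  intro a
  obtain ⟨b, rfl⟩ := Groth.Agent.Lib.Helper4.ModEpi.exists_germ_eq_of_epi (cokernel.π φ) x a
  obtain ⟨c, rfl⟩ := h b
  rw [← ConcreteCategory.comp_apply, ← Functor.map_comp]
  have h0 : φ.mapPresheaf ≫ (cokernel.π φ).mapPresheaf = 0 := by
    have := congrArg Scheme.Modules.Hom.mapPresheaf (cokernel.condition φ)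
    exact this
  rw [h0, Functor.map_zero]
  rfl

open CategoryTheory CategoryTheory.Limits AlgebraicGeometry in
/-- Let X be a locally Noetherian scheme, F and G coherent O_X-modules, φ : G → F a morphism and x ∈ X.
(1) If F_x = 0 there is an open neighbourhood U of x with F|_U = 0. (2) If the stalk map φ_x : G_x →
F_x is injective there is an open neighbourhood U of x with φ|_U injective. (4) If φ_x is bijective
there is an open neighbourhood U of x with φ|_U an isomorphism. (Part (3), surjectivity, is the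
finite-type statement valid on any ringed space and is not restated.) -/
theorem result (X : Scheme.{u}) [IsLocallyNoetherian X]
    (F G : X.Modules) (hF : Coh.IsCoh F) (hG : Coh.IsCoh G) (φ : G ⟶ F) (x : X) :
    (Subsingleton ↑(F.presheaf.stalk x) →
      ∃ U : X.Opens, x ∈ U ∧ IsZero ((Scheme.Modules.restrictFunctor U.ι).obj F)) ∧
    (Function.Injective ((TopCat.Presheaf.stalkFunctor _ x).map φ.mapPresheaf).hom →
      ∃ U : X.Opens, x ∈ U ∧ Mono ((Scheme.Modules.restrictFunctor U.ι).map φ)) ∧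
    (Function.Bijective ((TopCat.Presheaf.stalkFunctor _ x).map φ.mapPresheaf).hom →
      ∃ U : X.Opens, x ∈ U ∧ IsIso ((Scheme.Modules.restrictFunctor U.ι).map φ)) := by
  haveI : F.IsQuasicoherent := hF.1
  haveI : SheafOfModules.IsFiniteType (R := X.ringCatSheaf) F := hF.2
  haveI : G.IsQuasicoherent := hG.1
  haveI : SheafOfModules.IsFiniteType (R := X.ringCatSheaf) G := hG.2
  have part1 : ∀ (M : X.Modules) [M.IsQuasicoherent]
      [SheafOfModules.IsFiniteType (R := X.ringCatSheaf) M],
      Subsingleton ↑(M.presheaf.stalk x) →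
        ∃ U : X.Opens, x ∈ U ∧ IsZero ((Scheme.Modules.restrictFunctor U.ι).obj M) := by
    intro M _ _ h
    obtain ⟨W, hW, hz⟩ := Groth.Agent.Lib.Helper20.Thickening.exists_opens_isZero_restrict M {x}
      (fun y hy => by rw [Set.mem_singleton_iff.1 hy]; exact h)
    exact ⟨W, hW rfl, hz⟩
  haveI : (kernel φ).IsQuasicoherent := Groth.Agent.Lib.Helper23.QCohLocal.isQuasicoherent_kernel φ
  haveI : (cokernel φ).IsQuasicoherent :=
    Groth.Agent.Lib.Helper23.QCohLocal.isQuasicoherent_cokernel φ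
  haveI := Groth.Agent.Lib.Helper23.FinType.isFiniteType_of_mono (kernel.ι φ)
  haveI := Groth.Agent.Lib.Helper23.FinType.isFiniteType_of_epi (cokernel.π φ)
  refine ⟨part1 F, ?_, ?_⟩
  · intro h
    obtain ⟨U, hxU, hz⟩ := part1 (kernel φ) (subsingleton_stalk_kernel φ x h)
    exact ⟨U, hxU, mono_restrict_of_zeroOn_kernel φ U (zeroOn_of_isZero_restrict _ U hz)⟩
  · intro h
    obtain ⟨U₁, hx₁, hz₁⟩ := part1 (kernel φ) (subsingleton_stalk_kernel φ x h.1)
    obtain ⟨U₂, hx₂, hz₂⟩ := part1 (cokernel φ) (subsingleton_stalk_cokernel φ x h.2)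
    refine ⟨U₁ ⊓ U₂, ⟨hx₁, hx₂⟩, ?_⟩
    haveI := mono_restrict_of_zeroOn_kernel φ (U₁ ⊓ U₂)
      ((zeroOn_of_isZero_restrict _ U₁ hz₁).mono inf_le_left)
    haveI := epi_restrict_of_zeroOn_cokernel φ (U₁ ⊓ U₂)
      ((zeroOn_of_isZero_restrict _ U₂ hz₂).mono inf_le_right)
    exact isIso_of_mono_of_epi _

end Groth.Agent.S9525
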