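import Groth.Statements.S9552
import Groth.Agent.S9530

set_option autoImplicit false
universe u
open CategoryTheory CategoryTheory.Limits AlgebraicGeometry Opposite
open Algz

namespace Groth.Agent.S9552

/-- For the ideal sheaf I O_X of an ideal I of a base ring A and a Noetherian scheme X over Spec A, two
objects of Coh(X, I O_X) which are pro-isomorphic are isomorphic as inverse systems (existence of an
isomorphism; positions shifted by one). -/
theorem result (A : Type u) [CommRing A] (I : Ideal A) (X : Scheme.{u})
    [X.Over (Spec (CommRingCat.of A))] [IsNoetherian X] (F G : ℕᵒᵖ ⥤ X.Modules)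
    (hF : Formal.IsCohFormal I F) (hG : Formal.IsCohFormal I G) (h : Algz.IsProIsomorphic F G) :
    Nonempty (F ≅ G) := by
  obtain ⟨m, hm, hle, a, ha⟩ := h
  -- the canonical levelwise map from the re-indexed system
  let π : DerCA.reindex F hm ⟶ F :=
    { app := fun n => F.map (homOfLE (hle n.unop)).op
      naturality := by
        intro k n f
        change F.map _ ≫ F.map _ = F.map _ ≫ F.map _
        rw [← F.map_comp, ← F.map_comp]
        exact congrArg F.map (Subsingleton.elim _ _) }
  have hπ : ∀ n : ℕ, π.app (op n) = F.map (homOfLE (hle n)).op := fun n => rfl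
  obtain ⟨β, hβ, -⟩ := Groth.Agent.S9530.result A I X F G hF hG m hm hle π hπ a
  have hβn : ∀ n : ℕ, F.map (homOfLE (hle n)).op ≫ β.app (op n) = a.app (op n) := by
    intro n
    exact congrArg (fun t => t.app (op n)) hβ
  have hiso : ∀ n : ℕ, IsIso (β.app (op n)) := by
    intro n
    obtain ⟨k, hk, b0, hb1, hb2⟩ := ha n
    -- `b : G_k ⟶ F_{m n}`
    let b : G.obj (op k) ⟶ F.obj (op (m n)) := b0
    have hkill : ∀ c ∈ I ^ (n + 1), Formal.smulMod A (G.obj (op k)) c ≫
        (b ≫ F.map (homOfLE (hle n)).op) = 0 := by
      intro c hc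
      rw [Groth.Agent.S9530.smulMod_comp, hF.2.1 n c hc, comp_zero]
    obtain ⟨bb, hbb⟩ := Groth.Agent.S9530.exists_factor hG n k hk _
      (b ≫ F.map (homOfLE (hle n)).op) hkill
    have hnk : n ≤ m k := hk.trans (hle k)
    have e1 : Epi (F.map (homOfLE hnk).op) := Groth.Agent.S9530.epi_le hF n (m k) hnk
    have e2 : Epi (G.map (homOfLE hk).op) := Groth.Agent.S9530.epi_le hG n k hk
    have hb1' : a.app (op k) ≫ b = F.map (homOfLE (hm hk)).op := hb1
    have hb2' : b ≫ a.app (op n) = G.map (homOfLE hk).op := hb2
    have s1 : F.map (homOfLE hnk).op =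
        F.map (homOfLE (hle k)).op ≫ F.map (homOfLE hk).op := by
      rw [← F.map_comp]; exact congrArg F.map (Subsingleton.elim _ _)
    have s2 : F.map (homOfLE hnk).op =
        F.map (homOfLE (hm hk)).op ≫ F.map (homOfLE (hle n)).op := by
      rw [← F.map_comp]; exact congrArg F.map (Subsingleton.elim _ _)
    have nat : F.map (homOfLE hk).op ≫ β.app (op n) = β.app (op k) ≫ G.map (homOfLE hk).op :=
      β.naturality (homOfLE hk).op
    refine ⟨bb, ?_, ?_⟩
    · rw [← cancel_epi (F.map (homOfLE hnk).op), Category.comp_id]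
      have t1 : F.map (homOfLE hnk).op ≫ β.app (op n) = a.app (op k) ≫ G.map (homOfLE hk).op := by
        rw [s1, Category.assoc, nat, ← Category.assoc, hβn k]
        rfl
      have t2 : (a.app (op k) ≫ G.map (homOfLE hk).op) ≫ bb = F.map (homOfLE hnk).op := by
        rw [Category.assoc, hbb, ← Category.assoc, hb1']
        exact s2.symm
      rw [← Category.assoc, t1]
      exact t2
    · rw [← cancel_epi (G.map (homOfLE hk).op), Category.comp_id, ← Category.assoc, hbb,
        Category.assoc]
      have t3 : F.map (homOfLE (hle n)).op ≫ β.app (op n) = a.app (op n) := hβn n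
      rw [t3, hb2']
  have : IsIso β := by
    have : ∀ n : ℕᵒᵖ, IsIso (β.app n) := fun n => hiso n.unop
    exact NatIso.isIso_of_isIso_app β
  exact ⟨asIso β⟩

end Groth.Agent.S9552
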