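import Groth.Statements.S9661
import Groth.Agent.Lib.Helper4HilbMultA

set_option autoImplicit false
universe u
attribute [local instance] MvPolynomial.gradedAlgebra
open CAlg

namespace Groth.Agent.S9661

/-- Let k be a field, d ≥ 1, and I a nonzero homogeneous ideal of the standard-graded polynomial ring
k[X_1, …, X_d]; put M = k[X_1, …, X_d]/I. Then the function n ↦ dim_k M_n (equal to dim_k of the
degree-n part of the polynomial ring minus dim_k of the degree-n part of I) coincides for all large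
n with a polynomial of degree < d - 1, the zero polynomial if d = 1. -/
theorem result {k : Type u} [Field k] (d : ℕ) (hd : 0 < d)
    (I : HomogeneousIdeal (MvPolynomial.homogeneousSubmodule (Fin d) k)) (hI : I ≠ ⊥) :
    ∃ P : Polynomial ℚ, P.degree < ((d - 1 : ℕ) : WithBot ℕ) ∧ ∃ N : ℕ, ∀ n : ℕ, N ≤ n →
      ((Module.finrank k ↥(MvPolynomial.homogeneousSubmodule (Fin d) k n) : ℚ) -
        (Module.finrank k ↥(I.toIdeal.restrictScalars k ⊓ MvPolynomial.homogeneousSubmodule (Fin d) k n) : ℚ)) = P.eval (n : ℚ) := by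
  classical
  obtain ⟨n, rfl⟩ := Nat.exists_eq_succ_of_ne_zero hd.ne'
  have hJhom : I.toIdeal.IsHomogeneous (CohB1.polyGrading n k) := I.isHomogeneous
  have hJne : I.toIdeal ≠ ⊥ := by
    intro h
    apply hI
    exact HomogeneousIdeal.toIdeal_injective (by rw [h]; rfl)
  obtain ⟨r, hrI, hr0⟩ := Submodule.exists_mem_ne_zero_of_ne_bot hJne
  have hdimR : ringKrullDim (MvPolynomial (Fin (n + 1)) k) = ((n + 1 : ℕ) : WithBot ℕ∞) := by
    rw [MvPolynomial.ringKrullDim_of_isNoetherianRing, ringKrullDim_eq_zero_of_field]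
    simp
  have hdim : ringKrullDim (MvPolynomial (Fin (n + 1)) k ⧸ I.toIdeal) ≤ (n : WithBot ℕ∞) := by
    have h1 : ringKrullDim (MvPolynomial (Fin (n + 1)) k ⧸ I.toIdeal) ≤
        ringKrullDim (MvPolynomial (Fin (n + 1)) k ⧸ Ideal.span {r}) :=
      Groth.Agent.Lib.Helper4.HilbFun.ringKrullDim_quotient_anti
        ((Ideal.span_singleton_le_iff_mem _).2 hrI)
    have h2 := ringKrullDim_quotient_succ_le_of_nonZeroDivisor
      (mem_nonZeroDivisors_of_ne_zero hr0)
    rw [hdimR] at h2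
    have h3 : ringKrullDim (MvPolynomial (Fin (n + 1)) k ⧸ Ideal.span {r}) ≤ (n : WithBot ℕ∞) := by
      generalize ringKrullDim (MvPolynomial (Fin (n + 1)) k ⧸ Ideal.span {r}) = a at h2 ⊢
      induction a using WithBot.recBotCoe with
      | bot => exact bot_le
      | coe b =>
        have hb : (b : WithBot ℕ∞) + 1 = ((b + 1 : ℕ∞) : WithBot ℕ∞) := rfl
        have hn1 : ((n + 1 : ℕ) : WithBot ℕ∞) = (((n : ℕ∞) + 1 : ℕ∞) : WithBot ℕ∞) := by
          push_cast; rfl
        rw [hb, hn1, WithBot.coe_le_coe] at h2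
        have hn0 : ((n : ℕ) : WithBot ℕ∞) = (((n : ℕ∞)) : WithBot ℕ∞) := rfl
        rw [hn0, WithBot.coe_le_coe]
        exact (ENat.add_le_add_iff_right (by simp)).1 h2
    exact h1.trans h3
  have hpoly := Groth.Agent.Lib.Helper4.HilbFun.isPolyLike_hfun k n I.toIdeal hJhom n hdim
  rw [Groth.Agent.Lib.Helper5.PolyLike.isPolyLike_iff] at hpoly
  obtain ⟨c, N, hc⟩ := hpoly
  refine ⟨∑ i ∈ Finset.range n, (c i : ℚ) • Polynomial.preHilbertPoly ℚ i 0, ?_, N,
    fun m hm => ?_⟩
  · have hn : ((n + 1 - 1 : ℕ) : WithBot ℕ) = (n : WithBot ℕ) := by simp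
    rw [hn]
    refine lt_of_le_of_lt (Polynomial.degree_sum_le _ _) ?_
    refine (Finset.sup_lt_iff (WithBot.bot_lt_coe n)).2 fun i hi => ?_
    refine lt_of_le_of_lt (Polynomial.degree_smul_le _ _) ?_
    refine lt_of_le_of_lt Polynomial.degree_le_natDegree ?_
    rw [Polynomial.natDegree_preHilbertPoly]
    exact WithBot.coe_lt_coe.2 (Finset.mem_range.1 hi)
  · have h1 := Groth.Agent.Lib.Helper4.HilbFun.finrank_eq_hilb_add I.toIdeal m
    have h2 := hc m hm
    rw [Groth.Agent.Lib.Helper4.HilbFun.hfun_apply] at h2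
    rw [h1, Polynomial.eval_finsetSum]
    push_cast
    rw [add_sub_cancel_right]
    have h3 : ((Groth.Agent.Lib.Helper4.HilbFun.hilb I.toIdeal m : ℤ) : ℚ) =
        ((∑ i ∈ Finset.range n, c i * Groth.Agent.Lib.Helper5.PolyLike.B i m : ℤ) : ℚ) := by
      rw [h2]
    push_cast at h3
    rw [h3]
    refine Finset.sum_congr rfl fun i _ => ?_
    rw [Polynomial.eval_smul, smul_eq_mul,
      Polynomial.preHilbertPoly_eq_choose_sub_add ℚ i (Nat.zero_le m),
      Groth.Agent.Lib.Helper5.PolyLike.B_apply]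
    simp

end Groth.Agent.S9661
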