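import Groth.Statements.S9662
import Groth.Agent.Lib.Seat14KHilb

set_option autoImplicit false
universe u
open CategoryTheory
open CAlg

namespace Groth.Agent.S9662

/-- Let S be a Noetherian ℕ-graded ring, presented as a graded algebra over a ring A mapping onto S₀,
whose irrelevant ideal S₊ is generated as an ideal by the degree-1 part S₁, and let M be a finitely
generated graded S-module, graded in nonnegative degrees. (The published statement allows modules
graded in all integer degrees; this row takes modules graded in degrees ≥ 0, which loses nothing for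
large n.) Write K'₀(A) for the Grothendieck group of finite A-modules (the free abelian group on the
finite A-modules modulo the relations given by short exact sequences) and [M_n] for the class of the
finite A-module M_n. Then n ↦ [M_n] is a numerical polynomial: there are a_0, …, a_{r-1} in K'₀(A)
with [M_n] = Σ_i C(n, i) · a_i for all large n. (When A → S₀ is bijective K'₀(A) is K'₀(S₀), the
group of the published statement; in general the classes are taken after restricting scalars along A
→ S₀.) -/
theorem result {A S : Type u} [CommRing A] [CommRing S] [Algebra A S] [IsNoetherianRing S] (𝒜 : ℕ → Submodule A S) [GradedAlgebra 𝒜]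
    (h0 : ∀ s ∈ 𝒜 0, s ∈ Set.range (algebraMap A S))
    (h1 : (HomogeneousIdeal.irrelevant 𝒜).toIdeal = Ideal.span (𝒜 1 : Set S))
    (M : Type u) [AddCommGroup M] [Module A M] [Module S M] [IsScalarTower A S M] [Module.Finite S M] (ℳ : ℕ → Submodule A M) [DirectSum.Decomposition ℳ] [SetLike.GradedSMul 𝒜 ℳ] :
    ∃ (r : ℕ) (a : Fin r → KZero.K0sub (fun X : ModuleCat.{u} A => Module.Finite A X)) (N : ℕ), ∀ n : ℕ, N ≤ n →
      KZero.clSub (fun X : ModuleCat.{u} A => Module.Finite A X) (ModuleCat.of A ↥(ℳ n)) = ∑ i : Fin r, ((n.choose (i : ℕ) : ℕ) : ℤ) • a i := by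
  classical
  -- finitely many degree one generators of the irrelevant ideal
  have hfg : (Ideal.span (𝒜 1 : Set S)).FG := IsNoetherian.noetherian _
  obtain ⟨s', hs'sub, hs'⟩ := (Submodule.fg_span_iff_fg_span_finset_subset _).mp hfg
  let x : Fin s'.card → S := fun i => ((s'.equivFin.symm i : s') : S)
  have hrange : Set.range x = (s' : Set S) := by
    ext y
    constructor
    · rintro ⟨i, rfl⟩
      exact (s'.equivFin.symm i).2
    · intro hy
      exact ⟨s'.equivFin ⟨y, hy⟩, by simp [x]⟩
  have hx1 : ∀ i, x i ∈ 𝒜 1 := fun i => hs'sub (s'.equivFin.symm i).2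
  have hS : ∀ s : S, ∃ a : A, s - algebraMap A S a ∈ Ideal.span (Set.range x) := by
    intro s
    have hmem : GradedRing.proj 𝒜 0 s ∈ 𝒜 0 := by
      rw [GradedRing.proj_apply]
      exact SetLike.coe_mem _
    obtain ⟨a, ha⟩ := h0 _ hmem
    refine ⟨a, ?_⟩
    rw [hrange]
    change s - algebraMap A S a ∈ Submodule.span S (s' : Set S)
    rw [← hs']
    change s - algebraMap A S a ∈ Ideal.span (𝒜 1 : Set S)
    rw [← h1]
    change s - algebraMap A S a ∈ HomogeneousIdeal.irrelevant 𝒜
    rw [HomogeneousIdeal.mem_irrelevant_iff, map_sub, ha]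
    have : GradedRing.proj 𝒜 0 (GradedRing.proj 𝒜 0 s) = GradedRing.proj 𝒜 0 s := by
      rw [GradedRing.proj_apply, GradedRing.proj_apply]
      exact DirectSum.decompose_of_mem_same 𝒜 (SetLike.coe_mem _)
    rw [this, sub_self]
  have hgr : Groth.Agent.Lib.Seat14.KHilb.GrHyp' A S x M ℳ s'.card :=
    { smul_mem := by
        intro i n v hv
        have := SetLike.GradedSMul.smul_mem (hx1 i) hv
        rwa [vadd_eq_add, add_comm] at this
      indep := (DirectSum.Decomposition.isInternal ℳ).submodule_iSupIndep
      top := (DirectSum.Decomposition.isInternal ℳ).submodule_iSup_eq_top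
      kill := fun i hi => absurd i.2 (by omega) }
  obtain ⟨-, hpoly⟩ := Groth.Agent.Lib.Seat14.KHilb.main (A₀ := A) (S := S) (x := x) hS
    s'.card le_rfl M ℳ hgr
  obtain ⟨a, N, ha⟩ := hpoly.exists_choose
  exact ⟨s'.card, a, N, ha⟩

end Groth.Agent.S9662
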