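import Groth.Statements.S9673
import Groth.Agent.Lib.Seat85NormalSections

set_option autoImplicit false
universe u
open CategoryTheory CategoryTheory.Limits AlgebraicGeometry
open Mor

namespace Groth.Agent.S9673

/-- Let f : Y ⟶ X be quasi-compact and quasi-separated, with Y normal and the irreducible components of
Y locally finite (equivalently, each quasi-compact open subset of Y meets only finitely many of
them). Let X' be the normalization of X in Y and f' : Y ⟶ X' the canonical morphism. Then X' is
normal with locally finitely many irreducible components (hence a disjoint union of normal integral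
schemes), f' maps generic points of irreducible components of Y to generic points of irreducible
components of X', and over each generic point of a component of X' there lies exactly one generic
point of a component of Y. (Dominance of f' holds for every quasi-compact quasi-separated f and is
not restated.) -/
theorem result {X Y : Scheme.{u}} (f : Y ⟶ X)
    [QuasiCompact f] [QuasiSeparated f] (hY : Pi1.IsNormalScheme Y)
    (hfin : LocallyFinite (fun Z : ↥(irreducibleComponents ↥Y) => (Z : Set ↥Y))) :
    Pi1.IsNormalScheme f.normalization ∧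
    LocallyFinite (fun Z : ↥(irreducibleComponents ↥f.normalization) => (Z : Set ↥f.normalization)) ∧
    (∀ y : Y, closure {y} ∈ irreducibleComponents ↥Y →
      closure {f.toNormalization.base y} ∈ irreducibleComponents ↥f.normalization) ∧
    (∀ x' : ↥f.normalization, closure {x'} ∈ irreducibleComponents ↥f.normalization →
      ∃! y : Y, closure {y} ∈ irreducibleComponents ↥Y ∧ f.toNormalization.base y = x') := by
  have hdom : ∀ y : Y, IsDomain (Y.presheaf.stalk y) := fun y => (hY y).1
  have hic : ∀ y : Y, IsIntegrallyClosed (Y.presheaf.stalk y) := fun y => (hY y).2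
  have hopen := Groth.Agent.Lib.Seat85.NormalSections.isOpen_of_mem_irreducibleComponents hdom hfin
  set τ := f.toNormalization with hτ
  set ν := f.fromNormalization with hν
  have hfinU : ∀ U : X.Opens, IsAffineOpen U → {Z | Z ∈ irreducibleComponents Y ∧
      (Z ∩ (τ ⁻¹ᵁ ν ⁻¹ᵁ U : Set Y)).Nonempty}.Finite := by
    intro U hU
    apply Groth.Agent.Lib.Seat85.NormalSections.finite_components_meeting hfin
    exact τ.isCompact_preimage (hU.preimage ν).isCompact
  have haff : ∀ x' : f.normalization, ∃ U : X.Opens, IsAffineOpen U ∧ x' ∈ ν ⁻¹ᵁ U := by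
    intro x'
    obtain ⟨_, ⟨U, hU, rfl⟩, hxU, -⟩ := X.isBasis_affineOpens.exists_subset_of_mem_open
      (Set.mem_univ (ν x')) isOpen_univ
    exact ⟨U, hU, hxU⟩
  refine ⟨?_, ?_, ?_, ?_⟩
  · intro x'
    obtain ⟨U, hU, hxU⟩ := haff x'
    obtain ⟨hinj, hcl⟩ := Groth.Agent.Lib.Seat85.NormalSections.toNormalization_app_closed f U hU
    exact Groth.Agent.Lib.Seat85.NormalSections.normal_stalk_of_isNormalRing_sections
      (hU.preimage ν)
      (Groth.Agent.Lib.Seat85.NormalSections.isNormalRing_of_closed _ hinj hcl hdom hic hopen)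
      x' hxU
  · intro x'
    obtain ⟨U, hU, hxU⟩ := haff x'
    refine ⟨(ν ⁻¹ᵁ U : Set f.normalization), (ν ⁻¹ᵁ U).isOpen.mem_nhds hxU, ?_⟩
    have hfin' : ((fun Z : Set Y => closure (τ '' Z)) '' {Z | Z ∈ irreducibleComponents Y ∧
        (Z ∩ (τ ⁻¹ᵁ ν ⁻¹ᵁ U : Set Y)).Nonempty}).Finite := (hfinU U hU).image _
    refine (hfin'.preimage (Subtype.val_injective.injOn)).subset ?_
    rintro ⟨T', hT'⟩ hmeet
    obtain ⟨Z, hZ, hZV, hTZ⟩ :=
      Groth.Agent.Lib.Seat85.NormalSections.exists_eq_closure_image_of_meets f U (hfinU U hU)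
        T' hT' hmeet
    exact ⟨Z, ⟨hZ, hZV⟩, hTZ.symm⟩
  · intro y hy
    exact Groth.Agent.Lib.Seat85.NormalSections.closure_toNormalization_mem_irreducibleComponents
      f hdom y (hopen _ hy)
  · intro x' hx'
    obtain ⟨U, hU, hxU⟩ := haff x'
    obtain ⟨Z, hZ, hZV, hT'⟩ :=
      Groth.Agent.Lib.Seat85.NormalSections.exists_eq_closure_image_of_meets f U (hfinU U hU)
        _ hx' ⟨x', subset_closure rfl, hxU⟩
    obtain ⟨y, hy⟩ := QuasiSober.sober hZ.1 (isClosed_of_mem_irreducibleComponents Z hZ)
    have hτy : τ y = x' := by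
      have h1 : closure ({τ y} : Set f.normalization) = closure {x'} := by
        rw [hT', ← hy.def, closure_image_closure τ.continuous, Set.image_singleton]
      exact (inseparable_iff_closure_eq.mpr h1).eq
    have hyZ : closure ({y} : Set Y) ∈ irreducibleComponents Y := by rw [hy.def]; exact hZ
    refine ⟨y, ⟨hyZ, hτy⟩, ?_⟩
    rintro y₂ ⟨hy₂, hτy₂⟩
    by_contra hne
    have hy₂Z : y₂ ∉ closure ({y} : Set Y) := by
      intro hmem
      have h1 := Groth.Agent.Lib.Seat85.NormalSections.eq_of_mem_irreducibleComponents hdom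
        _ hyZ _ hy₂ y₂ hmem (subset_closure rfl)
      exact hne (inseparable_iff_closure_eq.mpr h1).eq.symm
    obtain ⟨e, he1, he0⟩ :=
      Groth.Agent.Lib.Seat85.NormalSections.exists_idempotent_of_isClopen f U hU (closure {y})
        (hopen _ hyZ) isClosed_closure
    have hxy₂ : τ y₂ ∈ ν ⁻¹ᵁ U := by rw [hτy₂]; exact hxU
    have hxy : τ y ∈ ν ⁻¹ᵁ U := by rw [hτy]; exact hxU
    have h0 : f.normalization.presheaf.germ (ν ⁻¹ᵁ U) (τ y₂) hxy₂ e = 0 := by
      apply Groth.Agent.Lib.Seat85.NormalSections.stalkMap_toNormalization_injective f hdom y₂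
        (hopen _ hy₂)
      rw [map_zero]
      exact (Scheme.Hom.germ_stalkMap_apply τ (ν ⁻¹ᵁ U) y₂ hxy₂ e).trans (he0 y₂ hxy₂ hy₂Z)
    have key : ∀ (x'' : f.normalization) (_ : x'' = τ y₂) (hx : x'' ∈ ν ⁻¹ᵁ U),
        f.normalization.presheaf.germ (ν ⁻¹ᵁ U) x'' hx e = 0 := by
      rintro _ rfl hx
      exact h0
    have h1 := (Scheme.Hom.germ_stalkMap_apply τ (ν ⁻¹ᵁ U) y hxy e).symm.trans
      (congrArg (τ.stalkMap y).hom (key (τ y) (hτy.trans hτy₂.symm) hxy))
    rw [he1 y hxy (subset_closure rfl)] at h1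
    have := hdom y
    exact one_ne_zero (h1.trans (map_zero _))

end Groth.Agent.S9673
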