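import Groth.Statements.S9692
import Mathlib
import Groth.Agent.S1616
-- import your own Groth.Agent.* helpers here

set_option autoImplicit false
universe u
open CategoryTheory CategoryTheory.Limits AlgebraicGeometry
open Mor

namespace Groth.Agent.S9692

/-- A composition of H-projective morphisms (closed immersions into a projective space P^n over the
target, followed by the projection) is H-projective. -/
theorem result {X Y Z : Scheme.{u}} (f : X ⟶ Y) (g : Y ⟶ Z)
    (hf : RelProj.IsHProjective f) (hg : RelProj.IsHProjective g) :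
    RelProj.IsHProjective (f ≫ g) := by
  obtain ⟨n, i, hi, hif⟩ := hf
  obtain ⟨m, j, hj, hjg⟩ := hg
  obtain ⟨φ, hφ, hφc⟩ := Groth.Agent.S1616.result Z n m
  -- the base change map `P^n_Y ⟶ P^n_Z`
  let b : CohB1.ProjSpaceOver n Y ⟶ CohB1.ProjSpaceOver n Z :=
    pullback.lift (pullback.fst _ _) (pullback.snd _ _ ≫ g)
      (by rw [Category.assoc, show g ≫ specULiftZIsTerminal.from Z = specULiftZIsTerminal.from Y from
        specULiftZIsTerminal.hom_ext _ _]; exact pullback.condition)
  have hb1 : b ≫ pullback.fst _ _ = pullback.fst _ _ := pullback.lift_fst _ _ _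
  have hb2 : b ≫ CohB1.ProjSpaceOver.toBase n Z = CohB1.ProjSpaceOver.toBase n Y ≫ g :=
    pullback.lift_snd _ _ _
  -- the square `P^n_Y ⟶ P^n_Z` over `g` is a pullback
  have sq1 : IsPullback b (CohB1.ProjSpaceOver.toBase n Y) (CohB1.ProjSpaceOver.toBase n Z) g := by
    have hright : IsPullback (pullback.fst (CohB1.ProjSpace.toSpec n (ULift.{u} ℤ))
        (specULiftZIsTerminal.from Z)) (CohB1.ProjSpaceOver.toBase n Z)
        (CohB1.ProjSpace.toSpec n (ULift.{u} ℤ)) (specULiftZIsTerminal.from Z) :=
      IsPullback.of_hasPullback _ _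
    have hbig : IsPullback (b ≫ pullback.fst (CohB1.ProjSpace.toSpec n (ULift.{u} ℤ))
        (specULiftZIsTerminal.from Z)) (CohB1.ProjSpaceOver.toBase n Y)
        (CohB1.ProjSpace.toSpec n (ULift.{u} ℤ)) (g ≫ specULiftZIsTerminal.from Z) := by
      rw [hb1, show g ≫ specULiftZIsTerminal.from Z = specULiftZIsTerminal.from Y from
        specULiftZIsTerminal.hom_ext _ _]
      exact IsPullback.of_hasPullback _ _
    exact IsPullback.of_right hbig hb2 hright
  -- the map into the product of projective spaces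
  let c : CohB1.ProjSpaceOver n Y ⟶
      pullback (CohB1.ProjSpaceOver.toBase n Z) (CohB1.ProjSpaceOver.toBase m Z) :=
    pullback.lift b (CohB1.ProjSpaceOver.toBase n Y ≫ j) (by rw [hb2, Category.assoc, hjg])
  have hc1 : c ≫ pullback.fst _ _ = b := pullback.lift_fst _ _ _
  have hc2 : c ≫ pullback.snd _ _ = CohB1.ProjSpaceOver.toBase n Y ≫ j := pullback.lift_snd _ _ _
  have sq2 : IsPullback c (CohB1.ProjSpaceOver.toBase n Y)
      (pullback.snd (CohB1.ProjSpaceOver.toBase n Z) (CohB1.ProjSpaceOver.toBase m Z)) j := by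
    have hright : IsPullback (pullback.fst (CohB1.ProjSpaceOver.toBase n Z)
        (CohB1.ProjSpaceOver.toBase m Z)) (pullback.snd _ _)
        (CohB1.ProjSpaceOver.toBase n Z) (CohB1.ProjSpaceOver.toBase m Z) :=
      IsPullback.of_hasPullback _ _
    have hbig : IsPullback (c ≫ pullback.fst (CohB1.ProjSpaceOver.toBase n Z)
        (CohB1.ProjSpaceOver.toBase m Z)) (CohB1.ProjSpaceOver.toBase n Y)
        (CohB1.ProjSpaceOver.toBase n Z) (j ≫ CohB1.ProjSpaceOver.toBase m Z) := by
      rw [hc1, hjg]
      exact sq1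
    exact IsPullback.of_right hbig hc2 hright
  have hc : IsClosedImmersion c := MorphismProperty.of_isPullback sq2.flip hj
  refine ⟨n * m + n + m, i ≫ c ≫ φ, inferInstance, ?_⟩
  rw [Category.assoc, Category.assoc, hφc, reassoc_of% hc1, hb2, reassoc_of% hif]

end Groth.Agent.S9692
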