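import Groth.Statements.S9703
import Groth.Agent.Lib.Seat42SplitTower

set_option autoImplicit false
universe u
open CategoryTheory CategoryTheory.Limits AlgebraicGeometry
open Mor

namespace Groth.Agent.S9703

/-- Let f : Y ⟶ X be finite with X affine. Then there exist a surjective finite locally free b : X' ⟶ X,
a finite locally free c : Z' ⟶ X' and a closed immersion i of Y' = X' ×_X Y into Z' over X' such
that Z' is, as a set, the union of finitely many closed subschemes each mapping isomorphically onto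
X'. (The published statement also records that Y' ⟶ Y is surjective finite locally free, which
follows by base change; this row omits it.) -/
theorem result {X Y : Scheme.{u}} [IsAffine X] (f : Y ⟶ X)
    [IsFinite f] :
    ∃ (X' : Scheme.{u}) (b : X' ⟶ X) (Z' : Scheme.{u}) (c : Z' ⟶ X') (i : pullback f b ⟶ Z'),
      Mor2.IsFinLocFree b ∧ Surjective b ∧ Mor2.IsFinLocFree c ∧ IsClosedImmersion i ∧
      i ≫ c = pullback.snd f b ∧
      ∃ (m : ℕ) (Zj : Fin m → Scheme.{u}) (ιj : ∀ j, Zj j ⟶ Z'),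
        (∀ j, IsClosedImmersion (ιj j)) ∧ (∀ j, IsIso (ιj j ≫ c)) ∧
        (⋃ j, Set.range (ιj j).base) = Set.univ := by
  have hY : IsAffine Y := isAffine_of_isAffineHom f
  have hfin : (f.appTop).hom.Finite :=
    ((HasAffineProperty.iff_of_isAffine (P := @IsFinite)).mp ‹IsFinite f›).2
  let _ : Algebra Γ(X, ⊤) Γ(Y, ⊤) := (f.appTop).hom.toAlgebra
  have : Module.Finite Γ(X, ⊤) Γ(Y, ⊤) := hfin
  obtain ⟨A', _, _, hfree, hfinA', hinj, C, _, _, hCfree, hCfin, π, hπ, m, σ, hσ⟩ :=
    Groth.Agent.Lib.Seat42.SplitTower.exists_cover_data Γ(X, ⊤) Γ(Y, ⊤)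
  -- ring maps
  let ψ : Γ(X, ⊤) ⟶ CommRingCat.of A' := CommRingCat.ofHom (algebraMap Γ(X, ⊤) A')
  let γ : CommRingCat.of A' ⟶ CommRingCat.of C := CommRingCat.ofHom (algebraMap A' C)
  let inl : CommRingCat.of A' ⟶ CommRingCat.of (TensorProduct Γ(X, ⊤) A' Γ(Y, ⊤)) :=
    CommRingCat.ofHom Algebra.TensorProduct.includeLeftRingHom
  let inr : Γ(Y, ⊤) ⟶ CommRingCat.of (TensorProduct Γ(X, ⊤) A' Γ(Y, ⊤)) :=
    CommRingCat.ofHom Algebra.TensorProduct.includeRight.toRingHom
  let πc : CommRingCat.of C ⟶ CommRingCat.of (TensorProduct Γ(X, ⊤) A' Γ(Y, ⊤)) :=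
    CommRingCat.ofHom π.toRingHom
  have hpo : IsPushout ψ f.appTop inl inr :=
    CommRingCat.isPushout_tensorProduct Γ(X, ⊤) A' Γ(Y, ⊤)
  have hpb0 : IsPullback (Spec.map inr) (Spec.map inl) (Spec.map f.appTop) (Spec.map ψ) :=
    (isPullback_SpecMap_of_isPushout _ _ _ _ hpo).flip
  let b : Spec (CommRingCat.of A') ⟶ X := Spec.map ψ ≫ X.isoSpec.inv
  have hpb : IsPullback (Spec.map inr ≫ Y.isoSpec.inv) (Spec.map inl) f b := by
    refine hpb0.of_iso (Iso.refl _) Y.isoSpec.symm (Iso.refl _) X.isoSpec.symm ?_ ?_ ?_ ?_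
    · simp
    · simp
    · simpa using Scheme.isoSpec_inv_naturality f
    · simp [b]
  have hψfin : ψ.hom.Finite := RingHom.finite_algebraMap.mpr hfinA'
  have hψflat : ψ.hom.Flat := by
    have : Module.Flat Γ(X, ⊤) A' := inferInstance
    exact RingHom.flat_algebraMap_iff.mpr this
  have hψfp : ψ.hom.FinitePresentation := by
    have : Module.FinitePresentation Γ(X, ⊤) A' := Module.finitePresentation_of_projective _ _
    have : Algebra.FinitePresentation Γ(X, ⊤) A' := inferInstance
    exact RingHom.finitePresentation_algebraMap.mpr this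
  have hγfin : γ.hom.Finite := RingHom.finite_algebraMap.mpr hCfin
  have hγflat : γ.hom.Flat := by
    have : Module.Flat A' C := inferInstance
    exact RingHom.flat_algebraMap_iff.mpr this
  have hγfp : γ.hom.FinitePresentation := by
    have : Module.FinitePresentation A' C := Module.finitePresentation_of_projective _ _
    have : Algebra.FinitePresentation A' C := inferInstance
    exact RingHom.finitePresentation_algebraMap.mpr this
  have h1 : IsFinite (Spec.map ψ) := (IsFinite.SpecMap_iff ψ).mpr hψfin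
  have h2 : Flat (Spec.map ψ) := Flat.SpecMap_iff.mpr hψflat
  have h3 : LocallyOfFinitePresentation (Spec.map ψ) :=
    (LocallyOfFinitePresentation.SpecMap_iff ψ).mpr hψfp
  have h4 : Surjective (Spec.map ψ) := by
    have hs : Function.Surjective (PrimeSpectrum.comap ψ.hom) :=
      RingHom.IsIntegral.comap_surjective hψfin.to_isIntegral hinj
    exact ⟨hs⟩
  have h5 : IsFinite (Spec.map γ) := (IsFinite.SpecMap_iff γ).mpr hγfin
  have h6 : Flat (Spec.map γ) := Flat.SpecMap_iff.mpr hγflat
  have h7 : LocallyOfFinitePresentation (Spec.map γ) :=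
    (LocallyOfFinitePresentation.SpecMap_iff γ).mpr hγfp
  have h8 : IsClosedImmersion (Spec.map πc) := IsClosedImmersion.spec_of_surjective πc hπ
  have hγπ : γ ≫ πc = inl := by
    ext a
    exact π.commutes a
  have hσsurj : ∀ j, Function.Surjective (σ j) := fun j a =>
    ⟨algebraMap A' C a, (σ j).commutes a⟩
  have hγσ : ∀ j, γ ≫ CommRingCat.ofHom (σ j).toRingHom = 𝟙 _ := by
    intro j
    ext a
    exact (σ j).commutes a
  refine ⟨Spec (CommRingCat.of A'), b, Spec (CommRingCat.of C), Spec.map γ,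
    hpb.isoPullback.inv ≫ Spec.map πc, ⟨?_, ?_, ?_⟩, ?_, ⟨h5, h6, h7⟩, ?_, ?_, m,
    fun _ => Spec (CommRingCat.of A'), fun j => Spec.map (CommRingCat.ofHom (σ j).toRingHom),
    ?_, ?_, ?_⟩
  · exact inferInstanceAs (IsFinite (Spec.map ψ ≫ X.isoSpec.inv))
  · exact inferInstanceAs (Flat (Spec.map ψ ≫ X.isoSpec.inv))
  · exact inferInstanceAs (LocallyOfFinitePresentation (Spec.map ψ ≫ X.isoSpec.inv))
  · exact inferInstanceAs (Surjective (Spec.map ψ ≫ X.isoSpec.inv))
  · infer_instance
  · rw [Category.assoc, ← Spec.map_comp, hγπ]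
    exact hpb.isoPullback_inv_snd
  · intro j
    exact IsClosedImmersion.spec_of_surjective _ (hσsurj j)
  · intro j
    rw [← Spec.map_comp, hγσ j, Spec.map_id]
    infer_instance
  · rw [Set.eq_univ_iff_forall]
    intro z
    obtain ⟨k, hk⟩ := hσ z.asIdeal z.isPrime
    rw [Set.mem_iUnion]
    refine ⟨k, ?_⟩
    have hr := range_comap_of_surjective _ (σ k).toRingHom (hσsurj k)
    have hz : z ∈ PrimeSpectrum.zeroLocus (RingHom.ker (σ k).toRingHom : Set C) := hk
    rw [← hr] at hz
    exact hz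


end Groth.Agent.S9703
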