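import Groth.Statements.S9727
import Groth.Agent.Lib.Seat88PreimmLift

set_option autoImplicit false
universe u
open FlatMor

namespace Groth.Agent.S9727

open AlgebraicGeometry CategoryTheory Limits in
/-- Let f : X ⟶ S be a morphism, x a point of X with image s, and (V, v) ⟶ (X_s, x) an étale
neighbourhood of x in its fibre. Then there is an étale neighbourhood (U, u) ⟶ (X, x) whose fibre
U_s over s admits a morphism of étale neighbourhoods (U_s, u) ⟶ (V, v) over X_s which is an open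
immersion. -/
theorem result {X S V : Scheme.{u}} (f : X ⟶ S) (x : X)
    (g : V ⟶ f.fiber (f x)) [Etale g] (v : V) (hv : g v = f.asFiber x) :
    ∃ (U : Scheme.{u}) (p : U ⟶ X) (u : U) (m : (p ≫ f).fiber (f x) ⟶ V) (u' : ↑((p ≫ f).fiber (f x))),
      Etale p ∧ p u = x ∧ IsOpenImmersion m ∧ m ≫ g = MoreMor.fiberMap p f (f x) ∧
      (p ≫ f).fiberι (f x) u' = u ∧ m u' = v := by
  classical
  obtain ⟨U, p, V₂, j, a, v₂, hp, hj, hjv, hsq⟩ :=
    Groth.Agent.Lib.Seat88.PreimmLift.exists_etale_lift (f.fiberι (f x)) g v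
  have hfib : IsPullback ((p ≫ f).fiberι (f x)) (MoreMor.fiberMap p f (f x)) p
      (f.fiberι (f x)) := Groth.Agent.Lib.Seat88.PreimmLift.isPullback_fiberMap p f (f x)
  let e : (p ≫ f).fiber (f x) ≅ V₂ := hfib.isoIsPullback _ _ hsq
  have he1 : e.hom ≫ a = (p ≫ f).fiberι (f x) := hfib.isoIsPullback_hom_fst _ _ hsq
  have he2 : e.hom ≫ (j ≫ g) = MoreMor.fiberMap p f (f x) := hfib.isoIsPullback_hom_snd _ _ hsq
  have he3 : e.inv ≫ (p ≫ f).fiberι (f x) = a := hfib.isoIsPullback_inv_fst _ _ hsq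
  refine ⟨U, p, a v₂, e.hom ≫ j, e.inv v₂, hp, ?_, inferInstance, ?_, ?_, ?_⟩
  · have h1 : p (a v₂) = (f.fiberι (f x)) (g (j v₂)) := by
      rw [← Scheme.Hom.comp_apply, ← Scheme.Hom.comp_apply, ← Scheme.Hom.comp_apply, hsq.w,
        Category.assoc]
    rw [h1, hjv, hv, Scheme.Hom.fiberι_asFiber]
  · rw [Category.assoc]
    exact he2
  · rw [← Scheme.Hom.comp_apply, he3]
  · rw [← Scheme.Hom.comp_apply, ← Category.assoc, Iso.inv_hom_id, Category.id_comp]
    exact hjv

end Groth.Agent.S9727
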