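import Groth.Statements.S9728
import Groth.Agent.Lib.Seat40SmoothIff

set_option autoImplicit false
universe u
open FlatMor

namespace Groth.Agent.S9728

open AlgebraicGeometry CategoryTheory Limits in
theorem aux {S U P P' : Scheme.{u}}
    (p : P ⟶ S) (p' : P' ⟶ S) [Smooth p] [Smooth p'] (i : U ⟶ P) (i' : U ⟶ P') [IsImmersion i]
    [IsImmersion i'] (hii' : i ≫ p = i' ≫ p') (V : U.Opens)
    (h : RegImm.IsRegularImmersion RegImm.Kind.koszul (V.ι ≫ i)) :
    RegImm.IsRegularImmersion RegImm.Kind.koszul (V.ι ≫ i') := by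
  let k : (V : Scheme.{u}) ⟶ pullback p p' :=
    pullback.lift (V.ι ≫ i) (V.ι ≫ i') (by rw [Category.assoc, Category.assoc, hii'])
  have hfst : k ≫ pullback.fst p p' = V.ι ≫ i := pullback.lift_fst _ _ _
  have hsnd : k ≫ pullback.snd p p' = V.ι ≫ i' := pullback.lift_snd _ _ _
  have : IsImmersion (k ≫ pullback.fst p p') := by rw [hfst]; infer_instance
  have : IsImmersion (k ≫ pullback.snd p p') := by rw [hsnd]; infer_instance
  have : IsImmersion k := IsImmersion.of_comp k (pullback.fst p p')
  have hk : RegImm.IsRegularImmersion RegImm.Kind.koszul k :=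
    (Groth.Agent.Lib.Seat40.SmoothIff.regularImmersion_iff (pullback.fst p p') k).1
      (by rw [hfst]; exact h)
  have := Groth.Agent.Lib.Seat40.SmoothIff.regularImmersion_comp (pullback.snd p p') k hk
  rwa [hsnd] at this

open AlgebraicGeometry CategoryTheory Limits in
/-- Given S-schemes U, P, P' with P and P' smooth over S, immersions i : U ⟶ P and i' : U ⟶ P'
compatible with the structure maps to S, and a point u of U, some restriction of i to an open
neighbourhood of u is a Koszul-regular immersion exactly when some restriction of i' to an open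
neighbourhood of u is. -/
theorem result {S U P P' : Scheme.{u}} (q : U ⟶ S)
    (p : P ⟶ S) (p' : P' ⟶ S) [Smooth p] [Smooth p'] (i : U ⟶ P) (i' : U ⟶ P') [IsImmersion i] [IsImmersion i']
    (hi : i ≫ p = q) (hi' : i' ≫ p' = q) (u : U) :
    (∃ V : U.Opens, u ∈ V ∧ RegImm.IsRegularImmersion RegImm.Kind.koszul (V.ι ≫ i)) ↔
      (∃ V : U.Opens, u ∈ V ∧ RegImm.IsRegularImmersion RegImm.Kind.koszul (V.ι ≫ i')) := by
  subst hi
  constructor
  · rintro ⟨V, hV, h⟩
    exact ⟨V, hV, aux p p' i i' hi'.symm V h⟩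
  · rintro ⟨V, hV, h⟩
    exact ⟨V, hV, aux p' p i' i hi' V h⟩

end Groth.Agent.S9728
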