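import Groth.Statements.S9736
import Groth.Agent.S9148

set_option autoImplicit false
universe u
open FlatMor

namespace Groth.Agent.S9736

open AlgebraicGeometry CategoryTheory Limits TensorProduct
open Groth.Agent.Lib.Seat62.RelGCIBC

set_option linter.style.haveILetI false

attribute [local instance] Algebra.TensorProduct.rightAlgebra in
/-- The square `R₀ → R`, `R₀[x]/(F₀) → R[x]/(F)` is a pushout of commutative rings. -/
theorem isPushout_relMap (R₁ : Type u) [CommRing R₁] (A : Type u) [CommRing A] [Algebra R₁ A]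
    (n c : ℕ) (F₁ : Fin c → MvPolynomial (Fin n) R₁) :
    IsPushout (CommRingCat.ofHom (algebraMap R₁ (Synt.RelGCIRing R₁ n c F₁)))
      (CommRingCat.ofHom (algebraMap R₁ A))
      (CommRingCat.ofHom (relMap R₁ A n c F₁).toRingHom)
      (CommRingCat.ofHom (algebraMap A (Synt.RelGCIRing A n c (mapRel R₁ A n c F₁)))) := by
  letI : Algebra (Synt.RelGCIRing R₁ n c F₁) (Synt.RelGCIRing A n c (mapRel R₁ A n c F₁)) :=
    (relMap R₁ A n c F₁).toRingHom.toAlgebra
  haveI : IsScalarTower R₁ (Synt.RelGCIRing R₁ n c F₁)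
      (Synt.RelGCIRing A n c (mapRel R₁ A n c F₁)) :=
    IsScalarTower.of_algebraMap_eq (fun r => ((relMap R₁ A n c F₁).commutes r).symm)
  have hpo : Algebra.IsPushout R₁ A (Synt.RelGCIRing R₁ n c F₁)
      (Synt.RelGCIRing A n c (mapRel R₁ A n c F₁)) :=
    Algebra.IsPushout.of_equiv (R := R₁) (R' := A) (S := Synt.RelGCIRing R₁ n c F₁)
      (S' := A ⊗[R₁] Synt.RelGCIRing R₁ n c F₁) (tensorEquiv R₁ A n c F₁)
      (RingHom.ext fun s => tensorEquiv_one_tmul R₁ A n c F₁ s)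
  haveI hpo' : Algebra.IsPushout R₁ (Synt.RelGCIRing R₁ n c F₁) A
      (Synt.RelGCIRing A n c (mapRel R₁ A n c F₁)) := hpo.symm
  exact CommRingCat.isPushout_of_isPushout R₁ (Synt.RelGCIRing R₁ n c F₁) A
    (Synt.RelGCIRing A n c (mapRel R₁ A n c F₁))

open AlgebraicGeometry CategoryTheory Limits in
/-- Let f : X ⟶ S be a standard syntomic morphism of affine schemes. Then f is the base change of a
morphism of finite type f₀ : X₀ ⟶ S₀ between affine schemes with S₀ of finite type over ℤ and f₀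
standard syntomic. -/
theorem result {X S : Scheme.{u}} (f : X ⟶ S) [IsAffine X] [IsAffine S] (hf : Synt.IsStandardSyntomic f) :
    ∃ (X₀ S₀ : Scheme.{u}) (f₀ : X₀ ⟶ S₀) (g : S ⟶ S₀) (g' : X ⟶ X₀), IsAffine X₀ ∧ IsAffine S₀ ∧ IsPullback g' f f₀ g ∧
      Algebra.FiniteType ℤ Γ(S₀, ⊤) ∧ LocallyOfFiniteType f₀ ∧ Synt.IsStandardSyntomic f₀ := by
  obtain ⟨R, _, n, c, F, hgci, e₁, e₂, hcomm⟩ := hf
  obtain ⟨R₀, F₀, hft, hF₀, hgci₀⟩ := Groth.Agent.S9148.result R n c F hgci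
  obtain rfl : F = mapRel R₀ R n c F₀ := funext fun i => (hF₀ i).symm
  have hpb := (isPullback_SpecMap_of_isPushout _ _ _ _ (isPushout_relMap R₀ R n c F₀))
  refine ⟨Spec (CommRingCat.of (Synt.RelGCIRing R₀ n c F₀)), Spec (CommRingCat.of R₀),
    Spec.map (CommRingCat.ofHom (algebraMap R₀ (Synt.RelGCIRing R₀ n c F₀))),
    e₂.hom ≫ Spec.map (CommRingCat.ofHom (algebraMap R₀ R)),
    e₁.hom ≫ Spec.map (CommRingCat.ofHom (relMap R₀ R n c F₀).toRingHom),
    inferInstance, inferInstance, ?_, ?_, ?_, ?_⟩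
  · refine hpb.of_iso e₁.symm (Iso.refl _) e₂.symm (Iso.refl _) ?_ ?_ ?_ ?_
    · simp
    · rw [Iso.symm_hom, Iso.symm_hom, Iso.comp_inv_eq, Category.assoc, Iso.eq_inv_comp]
      exact hcomm
    · simp
    · simp
  · exact Algebra.FiniteType.equiv hft
      (Scheme.ΓSpecIso (CommRingCat.of R₀)).commRingCatIsoToRingEquiv.symm.toIntAlgEquiv
  · rw [HasRingHomProperty.Spec_iff (P := @LocallyOfFiniteType)]
    exact RingHom.finiteType_algebraMap.mpr
      (Groth.Agent.Lib.Seat62.RelGCIDescend.finiteType_relGCIRing R₀ n c F₀)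
  · exact ⟨R₀, inferInstance, n, c, F₀, hgci₀, Iso.refl _, Iso.refl _, by simp⟩

end Groth.Agent.S9736
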