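import Groth.Statements.S9753
import Groth.Agent.Lib.Seat68BrEtG
import Groth.Agent.S9238

set_option autoImplicit false
universe u
open Brnch

namespace Groth.Agent.S9753

open AlgebraicGeometry CategoryTheory Limits in
/-- Let X be a scheme and x ∈ X. Over all étale neighbourhoods (U, u) of (X, x) (g : U ⟶ X étale with g
u = x), take the count (in ℕ∞) of irreducible components of U containing u; the supremum of these
counts is the geometric branch number of X at x. -/
theorem result (X : Scheme.{u}) (x : X) :
    Brnch.numGeomBranchesAt X x = ⨆ (U : Scheme.{u}) (g : U ⟶ X) (u : U) (_ : Etale g ∧ g u = x),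
      {Z : Set ↑U | Z ∈ irreducibleComponents ↑U ∧ u ∈ Z}.encard := by
  open IsLocalRing Groth.Agent.Lib.Helper3 Groth.Agent.Lib.Seat68 in
  let A := X.presheaf.stalk x
  let Ω := SeparableClosure (ResidueField A)
  letI : Algebra A Ω := ((algebraMap (ResidueField A) Ω).comp (residue A)).toAlgebra
  haveI : IsScalarTower A (ResidueField A) Ω := IsScalarTower.of_algebraMap_eq (fun _ => rfl)
  haveI : IsSepClosed Ω := IsSepClosure.sep_closed (ResidueField A)
  rw [BrEtG.geom_iSup_eq X x Ω, ← BrEtA.sh_encard_minimalPrimes A Ω]
  exact (Groth.Agent.S9238.result A (Sh.Rsh A Ω)).symm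

end Groth.Agent.S9753
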