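import Groth.Statements.S9756
import Groth.Agent.S1348
import Groth.Agent.Lib.Helper5FiberStalk

set_option autoImplicit false
universe u
open FlatMor

namespace Groth.Agent.S9756

/-- A local ring of depth at least one has a nonzerodivisor in its maximal ideal. -/
theorem exists_nzd_of_one_le_depth (R : Type u) [CommRing R] [IsLocalRing R]
    (h : 1 ≤ LocCoh.depth R R) :
    ∃ r : R, r ∈ IsLocalRing.maximalIdeal R ∧ r ∈ nonZeroDivisors R := by
  unfold LocCoh.depth LocCoh.idealDepth at h
  have hne : ¬ (IsLocalRing.maximalIdeal R • (⊤ : Submodule R R) = ⊤) := by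
    rw [smul_eq_mul, Ideal.mul_top]
    exact (IsLocalRing.maximalIdeal.isMaximal R).ne_top
  rw [if_neg hne] at h
  by_contra hcon
  push Not at hcon
  have hle : (⨆ (rs : List R) (_ : RingTheory.Sequence.IsWeaklyRegular R rs ∧
      ∀ r ∈ rs, r ∈ IsLocalRing.maximalIdeal R), (rs.length : ℕ∞)) ≤ 0 := by
    refine iSup₂_le fun rs hrs => ?_
    cases rs with
    | nil => simp
    | cons r rs =>
      exfalso
      have h1 := (RingTheory.Sequence.isWeaklyRegular_cons_iff R r rs).1 hrs.1
      have hr : r ∈ IsLocalRing.maximalIdeal R := hrs.2 r (by simp)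
      apply hcon r hr
      rw [mem_nonZeroDivisors_iff_right]
      intro z hz
      apply h1.1
      simpa [mul_comm] using hz
  have : (1 : ℕ∞) ≤ 0 := h.trans hle
  simp at this

open AlgebraicGeometry CategoryTheory Limits in
/-- Let f : X ⟶ S be locally of finite presentation and flat at a point x, and assume the local ring of
the fibre X_{f x} at x has depth at least 1. Then there are an affine open U ∋ x and a
nonzerodivisor h' of Γ(X, U) vanishing at x such that the closed subscheme V(h') of U, an effective
Cartier divisor through x, is flat and locally of finite presentation over S. The published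
statement concludes that V(h') ⟶ S is of finite presentation; this row concludes only that it is
flat and locally of finite presentation, which is what the published argument (slicing by a lift of
a fibrewise nonzerodivisor) yields, and which is equivalent when S is quasi-separated, V(h') being
affine. -/
theorem result {X S : Scheme.{u}} (f : X ⟶ S) [LocallyOfFinitePresentation f] (x : X)
    (hflat : (f.stalkMap x).hom.Flat)
    (hdepth : 1 ≤ LocCoh.depth ↑((f.fiber (f x)).presheaf.stalk (f.asFiber x)) ↑((f.fiber (f x)).presheaf.stalk (f.asFiber x))) :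
    ∃ (U : X.Opens) (hU : IsAffineOpen U) (hx : x ∈ U) (h' : Γ(X, U)), h' ∈ nonZeroDivisors Γ(X, U) ∧
      X.presheaf.germ U x hx h' ∈ IsLocalRing.maximalIdeal ↑(X.presheaf.stalk x) ∧
      Flat (Spec.map (CommRingCat.ofHom (Ideal.Quotient.mk (Ideal.span {h'}))) ≫ hU.fromSpec ≫ f) ∧
      LocallyOfFinitePresentation (Spec.map (CommRingCat.ofHom (Ideal.Quotient.mk (Ideal.span {h'}))) ≫ hU.fromSpec ≫ f) := by
  obtain ⟨r, hrm, hrn⟩ := exists_nzd_of_one_le_depth _ hdepth
  obtain ⟨e⟩ := Groth.Agent.Lib.Helper5.FiberStalk.nonempty_stalk_asFiber_equiv f x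
  obtain ⟨h, hh⟩ := Ideal.Quotient.mk_surjective (e r)
  have hreg : Ideal.Quotient.mk (Ideal.map (f.stalkMap x).hom
      (IsLocalRing.maximalIdeal (S.presheaf.stalk (f x)))) h ∈
      nonZeroDivisors (X.presheaf.stalk x ⧸ Ideal.map (f.stalkMap x).hom
        (IsLocalRing.maximalIdeal (S.presheaf.stalk (f x)))) := by
    rw [hh, mem_nonZeroDivisors_iff_right]
    intro z hz
    obtain ⟨w, rfl⟩ := e.surjective z
    rw [← map_mul, map_eq_zero_iff e e.injective] at hz
    rw [(mem_nonZeroDivisors_iff_right.1 hrn) w hz, map_zero]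
  have hm : h ∈ IsLocalRing.maximalIdeal (X.presheaf.stalk x) := by
    rw [IsLocalRing.mem_maximalIdeal, mem_nonunits_iff]
    intro hu
    have h1 : IsUnit (e r) := hh ▸ hu.map (Ideal.Quotient.mk _)
    have h2 : IsUnit r := by
      have := h1.map e.symm
      rwa [RingEquiv.symm_apply_apply] at this
    exact (IsLocalRing.mem_maximalIdeal _).1 hrm h2
  obtain ⟨U, hU, hx, h', hgerm, hnzd, hfl, hlfp⟩ := Groth.Agent.S1348.result f x hflat h hm hreg
  exact ⟨U, hU, hx, h', hnzd, hgerm ▸ hm, hfl, hlfp⟩

end Groth.Agent.S9756
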