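import Groth.Statements.S9782
import Groth.Agent.S9753
import Groth.Agent.S9236

set_option autoImplicit false
universe u
open Brnch

namespace Groth.Agent.S9782

open AlgebraicGeometry CategoryTheory Limits in
/-- The local ring of X at x is geometrically unibranch exactly when, for each étale morphism g : U ⟶ X
and each point u over x, the point u lies on a single irreducible component of U. -/
theorem result (X : Scheme.{u}) (x : X) :
    CAlg2.IsGeomUnibranch ↑(X.presheaf.stalk x) ↔ ∀ (U : Scheme.{u}) (g : U ⟶ X) (u : U), Etale g → g u = x →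
      {Z : Set ↑U | Z ∈ irreducibleComponents ↑U ∧ u ∈ Z}.encard = 1 := by
  have hone : ∀ (U : Scheme.{u}) (u : U),
      1 ≤ {Z : Set ↑U | Z ∈ irreducibleComponents ↑U ∧ u ∈ Z}.encard := by
    intro U u
    rw [Set.one_le_encard_iff_nonempty]
    exact ⟨irreducibleComponent u, irreducibleComponent_mem_irreducibleComponents u,
      mem_irreducibleComponent⟩
  rw [← Groth.Agent.S9236.result (X.presheaf.stalk x)]
  have hdef : Brnch.numGeomBranches (X.presheaf.stalk x) = Brnch.numGeomBranchesAt X x := rfl
  rw [hdef]
  constructor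
  · intro h U g u hg hgu
    have hle : {Z : Set ↑U | Z ∈ irreducibleComponents ↑U ∧ u ∈ Z}.encard ≤
        Brnch.numGeomBranchesAt X x := by
      rw [Groth.Agent.S9753.result X x]
      exact le_iSup_of_le U (le_iSup_of_le g (le_iSup_of_le u
        (le_iSup_of_le ⟨hg, hgu⟩ le_rfl)))
    rw [h] at hle
    exact le_antisymm hle (hone U u)
  · intro h
    rw [Groth.Agent.S9753.result X x]
    apply le_antisymm
    · refine iSup_le fun U => iSup_le fun g => iSup_le fun u => iSup_le fun hgu => ?_
      exact (h U g u hgu.1 hgu.2).le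
    · have h1 := h X (𝟙 X) x inferInstance rfl
      rw [← h1]
      exact le_iSup_of_le X (le_iSup_of_le (𝟙 X) (le_iSup_of_le x
        (le_iSup_of_le ⟨inferInstance, rfl⟩ le_rfl)))

end Groth.Agent.S9782
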