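import Groth.Statements.S9791
import Groth.Agent.Lib.Seat85NormSmooth

set_option autoImplicit false
universe u
open CategoryTheory CategoryTheory.Limits AlgebraicGeometry
open FlatMor

namespace Groth.Agent.S9791

/-- In the case of integral schemes: let f : X ⟶ Y be a smooth morphism with X and Y integral, and let
X^ν ⟶ X and Y^ν ⟶ Y be the normalizations (in the function fields). Then X^ν is isomorphic over X to
the fibre product X ×_Y Y^ν, and such an isomorphism is unique. (The published statement requires
only that each quasi-compact open subset of Y meet finitely many irreducible components of Y, and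
also derives this for X; this row assumes X and Y integral, the case in which the normalization used
here is defined. The quasi-compactness and quasi-separatedness binders on Spec K(X) → X and Spec
K(Y) → Y always hold and are needed only to form the normalization.) -/
theorem result {X Y : Scheme.{u}} (f : X ⟶ Y) [Smooth f] [IsIntegral X] [IsIntegral Y]
    [QuasiCompact (X.fromSpecStalk (genericPoint X))] [QuasiSeparated (X.fromSpecStalk (genericPoint X))]
    [QuasiCompact (Y.fromSpecStalk (genericPoint Y))] [QuasiSeparated (Y.fromSpecStalk (genericPoint Y))] :
    ∃! e : Curv2.normalization X ≅ pullback f (Curv2.normalizationι Y),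
      e.hom ≫ pullback.fst f (Curv2.normalizationι Y) = Curv2.normalizationι X := by
  change ∃! e : (X.fromSpecStalk (genericPoint X)).normalization ≅
      pullback f (Y.fromSpecStalk (genericPoint Y)).fromNormalization,
    e.hom ≫ pullback.fst f (Y.fromSpecStalk (genericPoint Y)).fromNormalization =
      (X.fromSpecStalk (genericPoint X)).fromNormalization
  -- comparison of function fields along `f`
  have hηf : f (genericPoint X) = genericPoint Y :=
    Groth.Agent.Lib.Seat85.NormSmooth.map_genericPoint_of_flat f
  have hsp : f (genericPoint X) ⤳ genericPoint Y := hηf ▸ specializes_rfl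
  let t : Spec (X.presheaf.stalk (genericPoint X)) ⟶ Spec (Y.presheaf.stalk (genericPoint Y)) :=
    Spec.map (f.stalkMap (genericPoint X)) ≫ Spec.map (Y.presheaf.stalkSpecializes hsp)
  have ht : t ≫ Y.fromSpecStalk (genericPoint Y) = X.fromSpecStalk (genericPoint X) ≫ f := by
    rw [Category.assoc, Scheme.SpecMap_stalkSpecializes_fromSpecStalk,
      Scheme.SpecMap_stalkMap_fromSpecStalk]
  -- existence
  obtain ⟨φ, hφ⟩ := Groth.Agent.Lib.Seat85.NormSmooth.exists_iso_normalization_genericFibre f
  let e₀ : (X.fromSpecStalk (genericPoint X)).normalization ≅
      pullback f (Y.fromSpecStalk (genericPoint Y)).fromNormalization :=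
    φ ≪≫ asIso ((Y.fromSpecStalk (genericPoint Y)).normalizationPullback f) ≪≫
      pullbackSymmetry _ _
  have he₀ : e₀.hom ≫ pullback.fst f (Y.fromSpecStalk (genericPoint Y)).fromNormalization =
      (X.fromSpecStalk (genericPoint X)).fromNormalization := by
    simp only [e₀, Iso.trans_hom, asIso_hom, Category.assoc]
    rw [pullbackSymmetry_hom_comp_fst, Scheme.Hom.normalizationPullback_snd, hφ]
  refine ⟨e₀, he₀, ?_⟩
  intro e' he'
  ext1
  refine Scheme.Hom.normalization.hom_ext (X.fromSpecStalk (genericPoint X)) _ _
    (pullback.fst f (Y.fromSpecStalk (genericPoint Y)).fromNormalization) ?_ he' he₀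
  apply pullback.hom_ext
  · rw [Category.assoc, Category.assoc, he', he₀]
  · refine Groth.Agent.Lib.Seat85.NormSmooth.hom_ext_of_fac_genericPoint _ _ t ?_ ?_
    · rw [Category.assoc, Category.assoc]
      erw [← pullback.condition]
      rw [reassoc_of% he', ht]
      rw [Scheme.Hom.toNormalization_fromNormalization_assoc]
    · rw [Category.assoc, Category.assoc]
      erw [← pullback.condition]
      rw [reassoc_of% he₀, ht]
      rw [Scheme.Hom.toNormalization_fromNormalization_assoc]

end Groth.Agent.S9791
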