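import Groth.Statements.S9807
import Groth.Agent.Lib.Seat43ClosedPt
import Groth.Agent.Lib.Helper28RegLoc
import Groth.Agent.Lib.Helper5StalkSpec

set_option autoImplicit false
universe u
open AlgebraicGeometry CategoryTheory Limits TopologicalSpace
open Props

namespace Groth.Agent.S9807

/-- a localization of a regular local ring which is local is regular local -/
theorem isRegularLocalRing_of_isLocalization {R S : Type u} [CommRing R] [CommRing S] [Algebra R S]
    (M : Submonoid R) [IsLocalization M S] [IsRegularLocalRing R] [IsLocalRing S] :
    IsRegularLocalRing S := by
  haveI : IsNoetherianRing S := IsLocalization.isNoetherianRing M S inferInstance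
  haveI : IsRegularRing S := by
    rw [isRegularRing_iff]
    intro q hq
    haveI : (q.comap (algebraMap R S)).IsPrime := Ideal.comap_isPrime _ _
    have : IsLocalization.AtPrime (Localization.AtPrime q) (q.comap (algebraMap R S)) :=
      IsLocalization.isLocalization_isLocalization_atPrime_isLocalization M
        (Localization.AtPrime q) q
    haveI : IsRegularLocalRing (Localization.AtPrime (q.comap (algebraMap R S))) :=
      Groth.Agent.Lib.Helper28.isRegularLocalRing_localization_of_isRegularLocalRing R _
    exact IsRegularLocalRing.of_ringEquiv (IsLocalization.algEquiv
      (q.comap (algebraMap R S)).primeCompl (Localization.AtPrime (q.comap (algebraMap R S)))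
      (Localization.AtPrime q)).toRingEquiv
  exact IsRegularLocalRing.of_isRegularRing_of_isLocalRing S

/-- A locally Noetherian scheme is regular (all local rings regular) as soon as its local rings at
closed points are regular, and conversely. -/
theorem result (X : Scheme.{u}) [IsLocallyNoetherian X] :
    (∀ x : X, IsRegularLocalRing (X.presheaf.stalk x)) ↔
      ∀ x : X, IsClosed ({x} : Set X) → IsRegularLocalRing (X.presheaf.stalk x) := by
  constructor
  · intro h x _
    exact h x
  · intro h x
    obtain ⟨y, hxy, hy⟩ := Groth.Agent.Lib.Seat43.ClosedPt.exists_isClosed_specializes x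
    haveI := h y hy
    letI := (X.presheaf.stalkSpecializes hxy).hom.toAlgebra
    obtain ⟨M, hM⟩ := Groth.Agent.Lib.Helper5.StalkSpec.exists_isLocalization_stalkSpecializes X hxy
    exact isRegularLocalRing_of_isLocalization M

end Groth.Agent.S9807
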