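import Groth.Statements.S9808
import Groth.Agent.Lib.Seat43ClosedPt
import Groth.Agent.Lib.Helper28CMFib1
import Groth.Agent.Lib.Helper5StalkSpec

set_option autoImplicit false
universe u
open AlgebraicGeometry CategoryTheory Limits TopologicalSpace
open Props

namespace Groth.Agent.S9808

/-- a localization of a Cohen–Macaulay local ring which is local is Cohen–Macaulay local -/
theorem isCohenMacaulayLocalRing_of_isLocalization {R S : Type u} [CommRing R] [CommRing S]
    [Algebra R S] (M : Submonoid R) [IsLocalization M S] [LocCoh.IsCohenMacaulayLocalRing R]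
    [IsLocalRing S] : LocCoh.IsCohenMacaulayLocalRing S := by
  have hR : LocCoh.IsCohenMacaulayRing R :=
    Groth.Agent.Lib.Helper28.CMFib.isCohenMacaulayRing_of_isCohenMacaulayLocalRing R
  let q := IsLocalRing.maximalIdeal S
  haveI : (q.comap (algebraMap R S)).IsPrime := Ideal.comap_isPrime _ _
  have h1 : IsLocalization.AtPrime (Localization.AtPrime q) (q.comap (algebraMap R S)) :=
    IsLocalization.isLocalization_isLocalization_atPrime_isLocalization M
      (Localization.AtPrime q) q
  haveI h2 : LocCoh.IsCohenMacaulayLocalRing (Localization.AtPrime (q.comap (algebraMap R S))) :=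
    hR.isCohenMacaulayLocalRing_localization _
  haveI h3 : LocCoh.IsCohenMacaulayLocalRing (Localization.AtPrime q) :=
    Groth.Agent.Lib.Helper28.isCohenMacaulayLocalRing_of_ringEquiv (IsLocalization.algEquiv
      (q.comap (algebraMap R S)).primeCompl (Localization.AtPrime (q.comap (algebraMap R S)))
      (Localization.AtPrime q)).toRingEquiv
  have hunits : q.primeCompl ≤ IsUnit.submonoid S := by
    intro s hs
    change IsUnit s
    by_contra hns
    exact hs ((IsLocalRing.mem_maximalIdeal s).mpr hns)
  exact Groth.Agent.Lib.Helper28.isCohenMacaulayLocalRing_of_ringEquiv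
    (IsLocalization.atUnits S q.primeCompl (S := Localization.AtPrime q) hunits).symm.toRingEquiv

/-- A locally Noetherian scheme is Cohen-Macaulay (all local rings Cohen-Macaulay) as soon as its local
rings at closed points are Cohen-Macaulay, and conversely. -/
theorem result (X : Scheme.{u}) [IsLocallyNoetherian X] :
    (∀ x : X, LocCoh.IsCohenMacaulayLocalRing (X.presheaf.stalk x)) ↔
      ∀ x : X, IsClosed ({x} : Set X) → LocCoh.IsCohenMacaulayLocalRing (X.presheaf.stalk x) := by
  constructor
  · intro h x _
    exact h x
  · intro h x
    obtain ⟨y, hxy, hy⟩ := Groth.Agent.Lib.Seat43.ClosedPt.exists_isClosed_specializes x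
    haveI := h y hy
    letI := (X.presheaf.stalkSpecializes hxy).hom.toAlgebra
    obtain ⟨M, hM⟩ := Groth.Agent.Lib.Helper5.StalkSpec.exists_isLocalization_stalkSpecializes X hxy
    exact isCohenMacaulayLocalRing_of_isLocalization M

end Groth.Agent.S9808
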