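import Groth.Statements.S9837
import Groth.Agent.Lib.Seat93RSpDesc
set_option backward.isDefEq.respectTransparency.types false

set_option autoImplicit false
universe u
open CategoryTheory CategoryTheory.Limits AlgebraicGeometry

namespace Groth.Agent.S9837

open Groth.Agent.Lib.Seat93.RSpDesc Groth.Agent.Lib.Seat16.RSpPull Groth.Agent.Lib.Seat93.RSpBase

/-- Let f : X ⟶ Y be a morphism of schemes which is flat and surjective and whose underlying map of
topological spaces is open, and let F be an arbitrary O_Y-module (not assumed quasi-coherent). If
the pullback f^*F is an O_X-module of finite type, then F is of finite type. (The published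
statement is for a morphism of locally ringed spaces; this row is its case of schemes.) -/
theorem result {X Y : Scheme.{u}} (f : X ⟶ Y) [Flat f] [Surjective f]
    (hf : IsOpenMap f.base) (F : Y.Modules)
    (h : SheafOfModules.IsFiniteType (R := X.ringCatSheaf) ((Scheme.Modules.pullback f).obj F)) :
    SheafOfModules.IsFiniteType (R := Y.ringCatSheaf) F := by
  let c : Y.sheaf ⟶ ((TopologicalSpace.Opens.map f.base).sheafPushforwardContinuous CommRingCat.{u}
      (Opens.grothendieckTopology Y) (Opens.grothendieckTopology X)).obj X.sheaf := { hom := f.c }
  refine isFiniteType_of_isFiniteType_pull f.base X.sheaf Y.sheaf c F hf f.surjective (fun x => ?_) h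
  exact @Module.FaithfullyFlat.of_flat_of_isLocalHom (Y.presheaf.stalk (f x)) (X.presheaf.stalk x) _ _
    ((f.stalkMap x).hom.toAlgebra)
    (inferInstanceAs (IsLocalRing (Y.presheaf.stalk (f x))))
    (inferInstanceAs (IsLocalRing (X.presheaf.stalk x)))
    (Flat.stalkMap f x) (f.toLRSHom.prop x)

end Groth.Agent.S9837
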