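import Groth.Statements.S9848
import Groth.Agent.S9363
import Groth.Agent.S1492
import Groth.Agent.Lib.Seat27FlatDescent

set_option autoImplicit false
open CategoryTheory CategoryTheory.Limits AlgebraicGeometry Opposite
universe u
open Desc

namespace Groth.Agent.S9848

/-- Being syntomic is fpqc local on the base; the descent direction, stated for a single flat surjective
quasi-compact base change g : Y' ⟶ Y: if the base change X ×_Y Y' ⟶ Y' of f : X ⟶ Y is syntomic,
then f is syntomic. (With Zariski-locality on the target this gives the statement for arbitrary fpqc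
coverings; stability of syntomic morphisms under base change is the other direction.) -/
theorem result {X Y Y' : Scheme.{u}} (f : X ⟶ Y) (g : Y' ⟶ Y)
    [Flat g] [Surjective g] [QuasiCompact g] (h : Synt.IsSyntomicMor (pullback.snd f g)) :
    Synt.IsSyntomicMor f := by
  rw [Groth.Agent.S9363.result] at h ⊢
  have hflat' : Flat (pullback.snd f g) := by
    refine ⟨fun {V} hV {U} hU e => ?_⟩
    exact ((@Groth.Agent.S9287.result _ _ _ _ ((pullback.snd f g).appLE V U e).hom.toAlgebra).1
      (h ⟨U, hU⟩ ⟨V, hV⟩ e)).1
  have hflat : Flat f :=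
    MorphismProperty.of_pullback_snd_of_descendsAlong (P := @Flat)
      (Q := @Surjective ⊓ @Flat ⊓ @QuasiCompact) (f := f) (g := g)
      ⟨⟨inferInstance, inferInstance⟩, inferInstance⟩ hflat'
  have hlci := Groth.Agent.S1492.result f (pullback.snd f g) (pullback.fst f g) g
    (IsPullback.of_hasPullback f g)
    (fun U V hU hV hUV =>
      ((@Groth.Agent.S9287.result _ _ _ _ ((pullback.snd f g).appLE V U hUV).hom.toAlgebra).1
        (h ⟨U, hU⟩ ⟨V, hV⟩ hUV)).2)
  intro U V e
  exact (@Groth.Agent.S9287.result _ _ _ _ (f.appLE V.1 U.1 e).hom.toAlgebra).2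
    ⟨f.flat_appLE V.2 U.2 e, hlci U.1 V.1 U.2 V.2 e⟩

end Groth.Agent.S9848
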