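import Groth.Statements.S9935
import Groth.Agent.Lib.Seat43QcImage
import Groth.Agent.S9912
-- import your own Groth.Agent.* helpers here

set_option autoImplicit false
universe u
open CategoryTheory CategoryTheory.Limits AlgebraicGeometry
open AlgSp

namespace Groth.Agent.S9935

/-- A quasi-compact immersion of algebraic spaces factors as an open immersion followed by a closed
immersion. -/
theorem result {S : Scheme.{u}} {Z X : AlgSp.Space S}
    (i : Z ⟶ X) (hi : AlgSp.RepWith @IsImmersion i.hom) (hq : AlgSp.IsQuasiCompactMor i.hom) :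
    ∃ (Zbar : AlgSp.Space S) (j : Z ⟶ Zbar) (c : Zbar ⟶ X), j ≫ c = i ∧
      AlgSp.RepWith @IsOpenImmersion j.hom ∧ AlgSp.RepWith @IsClosedImmersion c.hom := by
  obtain ⟨V, p, hpe, hps⟩ := X.property.atlas
  obtain ⟨U, φ, pr, sq⟩ := hi.1 p
  have himm : IsImmersion φ.left := hi.2 _ _ φ sq
  have hqc : QuasiCompact φ.left :=
    (Groth.Agent.S9912.repWith_quasiCompact_of_isQuasiCompactMor i.hom hi.1 hq).2 _ _ φ sq
  obtain ⟨Zbar, c, q, hsch, sqq⟩ :=
    Groth.Agent.Lib.Seat43.QcImage.exists_isSchImage_chart i hi.1 p hpe hps φ pr sq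
  obtain ⟨j₀, hj₀⟩ := hsch.2.1
  have : Mono c.hom := Groth.Agent.S9928.mono_of_repWith @IsClosedImmersion
    (fun _ _ g hg => by have := hg; infer_instance) c.hom hsch.1
  let j : Z ⟶ Zbar := ObjectProperty.homMk j₀
  refine ⟨Zbar, j, c, ?_, ?_, hsch.1⟩
  · apply ObjectProperty.hom_ext
    exact hj₀
  -- the chart of `Zbar`
  have hqe : AlgSp.RepWith @Etale q :=
    (AlgSp.repWith_isStableUnderBaseChange (S := S) @Etale).of_isPullback sqq.flip hpe
  have hqs : AlgSp.RepWith @Surjective q :=
    (AlgSp.repWith_isStableUnderBaseChange (S := S) @Surjective).of_isPullback sqq.flip hps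
  let τ : U ⟶ Groth.Agent.Lib.Seat43.SchImage.idZo V φ.left.ker :=
    Over.homMk φ.left.toImage (by
      show φ.left.toImage ≫ φ.left.imageι ≫ V.hom = U.hom
      rw [← Category.assoc, φ.left.toImage_imageι, Over.w φ])
  have hτ : τ ≫ Groth.Agent.Lib.Seat43.SchImage.idι V φ.left.ker = φ := by
    apply Over.OverMorphism.ext
    exact φ.left.toImage_imageι
  have hcomm : (AlgSp.yon S).map τ ≫ q = pr ≫ j₀ := by
    rw [← cancel_mono c.hom, Category.assoc, sqq.w, ← Category.assoc, ← Functor.map_comp, hτ,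
      Category.assoc, hj₀, sq.w]
  have sqj : IsPullback pr ((AlgSp.yon S).map τ) j.hom q := by
    refine (IsPullback.of_right ?_ hcomm sqq.flip).flip
    rw [← Functor.map_comp, hτ, hj₀]
    exact sq.flip
  have hopen : IsOpenImmersion τ.left := inferInstanceAs (IsOpenImmersion φ.left.toImage)
  exact Groth.Agent.S9932.result @IsOpenImmersion (Or.inr (Or.inl rfl)) j _ q hqe hqs pr _ sqj
    ((AlgSp.repWith_yon_map_iff @IsOpenImmersion τ).2 hopen)

end Groth.Agent.S9935
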