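import Groth.Statements.S9942
import Groth.Agent.Lib.Helper12LocPCases
import Groth.Agent.Lib.Seat44MorBasics
import Groth.Agent.S10505
import Groth.Agent.S10533
import Groth.Agent.S9947
import Groth.Agent.S9874
import Groth.Agent.S10176
import Groth.Agent.S10177
-- import your own Groth.Agent.* helpers here

set_option autoImplicit false
universe u
open CategoryTheory CategoryTheory.Limits AlgebraicGeometry
open AlgSp

namespace Groth.Agent.S9942

/-- (3) ⇒ (2): if X x_Y V is an affine scheme for every affine scheme V etale over Y, then f : X -> Y is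
affine. -/
theorem result {S : Scheme.{u}} {X Y : AlgSp.Space S} (f : X ⟶ Y)
    (h : ∀ (V : Over S), IsAffine V.left → ∀ (b : (AlgSp.yon S).obj V ⟶ Y.obj), AlgSp.RepWith @Etale b →
      ∀ (P : AlgSp.Sp S) (fst : P ⟶ X.obj) (snd : P ⟶ (AlgSp.yon S).obj V), IsPullback fst snd f.hom b →
      ∃ (W : Over S), IsAffine W.left ∧ Nonempty ((AlgSp.yon S).obj W ≅ P)) :
    AlgSp.IsAffineMor f.hom := by
  have hgood := Groth.Agent.Lib.Helper12.LocPCases.good_flat.{u}
  have hgood' := Groth.Agent.Lib.Helper12.LocPCases.good_lfp.{u}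
  obtain ⟨U, p, hpe, hps⟩ := Y.property.atlas
  -- the affine opens of the atlas
  let ι : Type u := U.left.affineOpens
  let Vi : ι → Over S := fun i => Over.mk ((i : U.left.Opens).ι ≫ U.hom)
  let ji : ∀ i, Vi i ⟶ U := fun i => Over.homMk (i : U.left.Opens).ι rfl
  have hVi : ∀ i, IsAffine (Vi i).left := fun i => i.2
  let b : ∀ i, (AlgSp.yon S).obj (Vi i) ⟶ Y.obj := fun i => (AlgSp.yon S).map (ji i) ≫ p
  have hbe : ∀ i, AlgSp.RepWith @Etale (b i) := fun i =>
    (AlgSp.repWith_isMultiplicative (S := S) @Etale).comp_mem _ _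
      ((AlgSp.repWith_yon_map_iff @Etale (ji i)).2
        (show Etale (i : U.left.Opens).ι from inferInstance)) hpe
  let Yi : ι → AlgSp.Space S := fun i => ⟨(AlgSp.yon S).obj (Vi i), AlgSp.IsAlgSpace.yon_obj _⟩
  let bb : ∀ i, Yi i ⟶ Y := fun i => ObjectProperty.homMk (b i)
  have hcov : AlgSp.IsFpqcCover (fun i => (Yi i).obj) (fun i => (bb i).hom) := by
    refine Groth.Agent.S10505.result Y Yi bb ⟨fun i => ⟨?_, ?_⟩, ?_⟩
    · exact Groth.Agent.S9947.locP_of_repWith_etale _ hgood.hEt (b i) (hbe i)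
    · exact Groth.Agent.S9947.locP_of_repWith_etale _ hgood'.hEt (b i) (hbe i)
    · intro x
      obtain ⟨y, rfl⟩ := Groth.Agent.S10177.surjective_ofPt p hps x
      obtain ⟨_, ⟨W, hW, rfl⟩, hyW, -⟩ :=
        (U.left.isBasis_affineOpens).exists_subset_of_mem_open (Set.mem_univ y) isOpen_univ
      refine ⟨⟨W, hW⟩, AlgSp.Points.ofScheme _ ⟨y, hyW⟩, ?_⟩
      rw [← AlgSp.Points.ofPt_eq_map_ofScheme]
      exact Groth.Agent.S10176.ofPt_map_comp (ji ⟨W, hW⟩) p ⟨y, hyW⟩
  -- the base changes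
  have hPi : ∀ i, AlgSp.IsAlgSpace (pullback f.hom (b i)) := fun i =>
    Groth.Agent.S9874.isAlgSpace_of_isPullback Y.property.diag X.property
      (AlgSp.IsAlgSpace.yon_obj _) (IsPullback.of_hasPullback f.hom (b i))
  refine ((Groth.Agent.S10533.result S) (fun i => (Yi i).obj) (fun i => (bb i).hom)
    Y.property (fun i => (Yi i).property) hcov f.hom X.property
    (fun i => pullback f.hom (b i)) (fun i => pullback.snd f.hom (b i))
    (fun i => pullback.fst f.hom (b i)) hPi
    (fun i => IsPullback.of_hasPullback f.hom (b i))).2 (fun i => ?_)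
  obtain ⟨W, hW, ⟨e⟩⟩ := h (Vi i) (hVi i) (b i) (hbe i) _ _ _
    (IsPullback.of_hasPullback f.hom (b i))
  obtain ⟨w, hw⟩ := (AlgSp.yon S).map_surjective (e.hom ≫ pullback.snd f.hom (b i))
  have : IsAffineHom w.left := by
    have := hW
    have := hVi i
    infer_instance
  have h1 : AlgSp.IsAffineMor ((AlgSp.yon S).map w) :=
    Groth.Agent.Lib.Seat44.MorBasics.isAffineMor_yon_map w
  have h2 : pullback.snd f.hom (b i) = e.inv ≫ (AlgSp.yon S).map w := by
    rw [hw, Iso.inv_hom_id_assoc]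
  rw [h2]
  exact Groth.Agent.Lib.Seat44.MorBasics.isAffineMor_iso_comp e.inv h1

end Groth.Agent.S9942
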