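import Groth.Statements.S9945
import Groth.Agent.S9942
import Groth.Agent.S10185
-- import your own Groth.Agent.* helpers here

set_option autoImplicit false
universe u
open CategoryTheory CategoryTheory.Limits AlgebraicGeometry
open AlgSp

namespace Groth.Agent.S9945

/-- Over a base scheme with quasi-separated underlying space, every morphism from the spectrum of an
Artinian ring to an algebraic space quasi-separated over S is affine. (The published statement
assumes X quasi-separated in the absolute sense over any base; this row assumes the base
quasi-separated and X quasi-separated over it, which on such bases is the same condition.) -/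
theorem result {S : Scheme.{u}} [QuasiSeparatedSpace ↥S] (X : AlgSp.Space S)
    (hX : AlgSp.IsQuasiSeparatedSp X.obj) (A : Type u) [CommRing A] [IsArtinianRing A]
    (str : Spec (CommRingCat.of A) ⟶ S) (a : (AlgSp.yon S).obj (Over.mk str) ⟶ X.obj) :
    AlgSp.IsAffineMor a := by
  let T : Over S := Over.mk str
  let TT : AlgSp.Space S := ⟨(AlgSp.yon S).obj T, AlgSp.IsAlgSpace.yon_obj T⟩
  let aa : TT ⟶ X := ObjectProperty.homMk a
  refine Groth.Agent.S9942.result aa (fun V hV b hb P fst snd sq => ?_)
  -- the fibre product is a scheme `W`, étale over `Spec A`
  obtain ⟨W, w, pr, sqW⟩ := hb.1 a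
  obtain ⟨pr, rfl⟩ := (AlgSp.yon S).map_surjective pr
  have : Etale w.left := hb.2 _ _ w sqW
  -- `W` is quasi-compact
  have : CompactSpace ↥T.left := inferInstanceAs (CompactSpace ↥(Spec (CommRingCat.of A)))
  have : CompactSpace ↥V.left := by
    have := hV
    infer_instance
  have : CompactSpace ↥W.left :=
    Groth.Agent.S10185.result X hX T V W a b w pr sqW.flip
  -- `W` is locally Artinian, hence finite discrete, hence affine
  have : LocallyQuasiFinite w.left := by
    constructor
    intro U hU V' hV' e
    have h1 := w.left.etale_appLE hU hV' e
    algebraize [(w.left.appLE U V' e).hom]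
    have : Algebra.Etale Γ(T.left, U) Γ(W.left, V') := h1
    exact RingHom.quasiFinite_algebraMap.mpr inferInstance
  have : IsLocallyArtinian T.left :=
    (Scheme.isLocallyArtinianScheme_Spec (R := CommRingCat.of A)).2
      (inferInstanceAs (IsArtinianRing A))
  have : IsLocallyArtinian W.left := IsLocallyArtinian.of_locallyQuasiFinite w.left
  have : Finite ↥W.left := finite_of_compact_of_discrete
  refine ⟨W, inferInstance, ⟨?_⟩⟩
  exact sqW.flip.isoIsPullback _ _ sq

end Groth.Agent.S9945
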