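import Groth.Statements.S9946
import Mathlib
import Groth.Agent.Lib.Seat46EtCover
import Groth.Agent.S10537
import Groth.Agent.S9874
import Groth.Agent.Lib.Helper12ZarGlue

set_option autoImplicit false
universe u
open CategoryTheory CategoryTheory.Limits AlgebraicGeometry
open AlgSp

namespace Groth.Agent.S9946

/-- (3) ⇒ (1): if the base change of f along a surjective etale map from a scheme is quasi-affine, then
f is representable by schemes and quasi-affine. -/
theorem result {S : Scheme.{u}} {X Y : AlgSp.Space S} (f : X ⟶ Y)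
    (V : Over S) (p : (AlgSp.yon S).obj V ⟶ Y.obj) (hp : AlgSp.RepWith @Etale p) (hps : AlgSp.RepWith @Surjective p)
    {P : AlgSp.Sp S} (fst : P ⟶ X.obj) (snd : P ⟶ (AlgSp.yon S).obj V) (sq : IsPullback fst snd f.hom p)
    (h : AlgSp.IsQuasiAffineMor snd) : AlgSp.Representable f.hom ∧ AlgSp.IsQuasiAffineMor f.hom := by
  have hcov := Groth.Agent.Lib.Seat46.EtCover.isFpqcCover_of_etale_surjective Y.property p hp hps
  have hP : AlgSp.IsAlgSpace P :=
    Groth.Agent.S9874.isAlgSpace_of_isPullback Y.property.diag X.property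
      (AlgSp.IsAlgSpace.yon_obj V) sq
  have hqa : AlgSp.IsQuasiAffineMor f.hom :=
    ((Groth.Agent.S10537.result S) (fun _ : PUnit.{u + 1} => (AlgSp.yon S).obj V)
      (fun _ => p) Y.property (fun _ => AlgSp.IsAlgSpace.yon_obj V) hcov f.hom X.property
      (fun _ => P) (fun _ => snd) (fun _ => fst) (fun _ => hP) (fun _ => sq)).2 (fun _ => h)
  refine ⟨?_, hqa⟩
  have : AlgSp.RepWith (⊤ : MorphismProperty Scheme.{u}) f.hom := by
    refine Groth.Agent.Lib.Helper12.ZarGlue.repWith_of_affine ⊤ f.hom (fun Z hZ g => ?_)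
    obtain ⟨W, i, fst', sq', -⟩ := hqa hZ g
    exact ⟨W, i, fst', sq', trivial⟩
  exact this.1

end Groth.Agent.S9946
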