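import Groth.Statements.S9955
import Groth.Agent.Lib.Seat45QFinSp
import Groth.Agent.S9984
import Groth.Prelude.Def_AlgSpDec

set_option autoImplicit false
set_option linter.style.haveILetI false
universe u
open CategoryTheory CategoryTheory.Limits AlgebraicGeometry
open AlgSp

namespace Groth.Agent.S9955

/-- A morphism locally of finite type is locally quasi-finite if and only if all its fibres over
field-valued points have discrete spaces of points. -/
theorem result {S : Scheme.{u}} {X Y : AlgSp.Space S} (f : X ⟶ Y)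
    (hf : AlgSp.LocP @LocallyOfFiniteType f.hom) :
    AlgSp.LocP ((@LocallyQuasiFinite : MorphismProperty Scheme.{u}) ⊓ @LocallyOfFiniteType) f.hom ↔
      ∀ (k : Type u) [Field k] (str : Spec (CommRingCat.of k) ⟶ S) (y : (AlgSp.yon S).obj (Over.mk str) ⟶ Y.obj)
        (P : AlgSp.Sp S) (fst : P ⟶ X.obj) (snd : P ⟶ (AlgSp.yon S).obj (Over.mk str)),
        IsPullback fst snd f.hom y → DiscreteTopology (AlgSp.Points P) := by
  open Groth.Agent.Lib.Seat45.QFin in
  constructor
  · -- locally quasi-finite ⟹ discrete fibres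
    intro hlqf k _ str y P fst snd sq
    have hP : AlgSp.IsAlgSpace P :=
      Groth.Agent.S9874.isAlgSpace_of_isPullback Y.property.diag X.property (AlgSp.IsAlgSpace.yon_obj _) sq
    let P' : AlgSp.Space S := ⟨P, hP⟩
    let K' : AlgSp.Space S := (AlgSp.ofScheme S).obj (Over.mk str)
    let y' : K' ⟶ Y := ObjectProperty.homMk y
    let fst' : P' ⟶ X := ObjectProperty.homMk fst
    let snd' : P' ⟶ K' := ObjectProperty.homMk snd
    have sq' : IsPullback fst'.hom snd'.hom f.hom y'.hom := sq
    have hsnd : AlgSp.LocP ((@LocallyQuasiFinite : MorphismProperty Scheme.{u}) ⊓ @LocallyOfFiniteType) snd :=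
      Groth.Agent.S9984.result _ (Or.inr (Or.inr (Or.inr (Or.inr (Or.inr (Or.inl fun A B g => Iff.rfl))))))
        f y' fst' snd' sq' hlqf
    obtain ⟨T, c, hce, hcs⟩ := hP.atlas
    have hcomm : c ≫ snd = (AlgSp.yon S).map ((AlgSp.yon S).preimage (c ≫ snd)) ≫ 𝟙 _ := by
      rw [Functor.map_preimage, Category.comp_id]
    have hT := (hsnd c (𝟙 _) ((AlgSp.yon S).preimage (c ≫ snd)) hce (AlgSp.repWith_id _ _) hcomm).1
    haveI : LocallyQuasiFinite ((AlgSp.yon S).preimage (c ≫ snd)).left := hT
    haveI : DiscreteTopology ↥T.left := by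
      have hd := ((AlgSp.yon S).preimage (c ≫ snd)).left.isDiscrete_preimage
        (s := Set.univ) (Set.subsingleton_of_subsingleton (α := PrimeSpectrum k)).isDiscrete
      rw [Set.preimage_univ] at hd
      exact isDiscrete_univ_iff.1 hd
    rw [discreteTopology_iff_isOpen_singleton]
    intro p
    obtain ⟨t, rfl⟩ := Groth.Agent.S10177.surjective_ofPt c hcs p
    have := Groth.Agent.S10176.isOpenMap_ofPt c hce {t} (isOpen_discrete _)
    rwa [Set.image_singleton] at this
  · -- discrete fibres ⟹ locally quasi-finite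
    intro H U V a b h ha hb hc
    haveI : LocallyOfFiniteType h.left := hf a b h ha hb hc
    refine ⟨?_, inferInstance⟩
    rw [← Scheme.Hom.quasiFiniteLocus_eq_top_iff, ← top_le_iff]
    rintro u -
    refine (hasAtMor_qfNear_ofPt_iff X.property Y.property f.hom hf a b h ha hb hc u).1 ?_
    generalize AlgSp.Points.ofPt a u = x
    obtain ⟨ybar, hybar⟩ := AlgSp.Points.mk_surjective (AlgSp.Points.map f.hom x)
    have sq := IsPullback.of_hasPullback f.hom ybar.toHom
    have hP : AlgSp.IsAlgSpace (pullback f.hom ybar.toHom) :=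
      Groth.Agent.S9874.isAlgSpace_of_isPullback Y.property.diag X.property (AlgSp.IsAlgSpace.yon_obj _) sq
    haveI : DiscreteTopology (AlgSp.Points (pullback f.hom ybar.toHom)) :=
      H ybar.K ybar.str ybar.toHom _ _ _ sq
    let P' : AlgSp.Space S := ⟨pullback f.hom ybar.toHom, hP⟩
    let K' : AlgSp.Space S := (AlgSp.ofScheme S).obj ybar.pt
    let y' : K' ⟶ Y := ObjectProperty.homMk ybar.toHom
    let fst' : P' ⟶ X := ObjectProperty.homMk (pullback.fst f.hom ybar.toHom)
    let snd' : P' ⟶ K' := ObjectProperty.homMk (pullback.snd f.hom ybar.toHom)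
    have sq' : IsPullback fst'.hom snd'.hom f.hom y'.hom := sq
    have hsnd : AlgSp.LocP @LocallyOfFiniteType snd'.hom :=
      Groth.Agent.S9984.result _ (Or.inl rfl) f y' fst' snd' sq' hf
    have e1 : AlgSp.Points.map f.hom x = AlgSp.Points.map ybar.toHom
        (AlgSp.Points.ofScheme ybar.pt (default : ↥(Spec (CommRingCat.of ybar.K)))) := by
      rw [← AlgSp.Points.ofPt_eq_map_ofScheme, AlgSp.Points.ofPt_toHom, hybar]
    obtain ⟨x', hx'1, hx'2⟩ := Groth.Agent.S10175.exists_point_of_isPullback sq x _ e1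
    rw [← hx'1]
    refine (hasAtMor_qfNear_baseChange_iff X.property Y.property K'.property hP sq' hf hsnd x').2 ?_
    exact hasAtMor_qfNear_of_discrete hP K'.property snd'.hom hsnd x'

end Groth.Agent.S9955
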