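import Groth.Statements.S9960
import Groth.Agent.S10016
import Groth.Agent.S9912

set_option autoImplicit false
set_option backward.isDefEq.respectTransparency false
set_option backward.isDefEq.respectTransparency.types false
universe u
open CategoryTheory CategoryTheory.Limits AlgebraicGeometry
open AlgSp

namespace Groth.Agent.S9960

/-- The diagonal of a morphism locally of finite type is locally of finite presentation, and of finite
presentation when the morphism is also quasi-separated. -/
theorem result {S : Scheme.{u}} {X Y : AlgSp.Space S} (f : X ⟶ Y)
    (hf : AlgSp.LocP @LocallyOfFiniteType f.hom) :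
    AlgSp.LocP @LocallyOfFinitePresentation (pullback.diagonal f.hom) ∧
    (AlgSp.IsQuasiSeparatedMor f.hom → AlgSp.IsFinitePresentationMor (pullback.diagonal f.hom)) := by
  have h1 := Groth.Agent.S10016.locP_lfp_diagonal X Y f.hom hf
  refine ⟨h1, fun hqs => ⟨h1, ?_, ?_⟩⟩
  · have hP : IsAlgSpace (pullback f.hom f.hom) :=
      Groth.Agent.S9874.isAlgSpace_of_isPullback Y.property.diag X.property X.property
        (IsPullback.of_hasPullback f.hom f.hom)
    let PP : AlgSp.Space S := ⟨pullback f.hom f.hom, hP⟩
    let dd : X ⟶ PP := ObjectProperty.homMk (pullback.diagonal f.hom)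
    exact (Groth.Agent.S9912.result dd hqs.1).1 hqs
  · change RepWith @QuasiCompact (pullback.diagonal (pullback.diagonal f.hom))
    exact MorphismProperty.of_isIso _ _

end Groth.Agent.S9960
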