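import Groth.Statements.S9971
import Groth.Agent.Lib.Seat43ImmImage
import Groth.Agent.Lib.Helper12FieldBC
import Groth.Agent.S9912
import Groth.Agent.S9966
-- import your own Groth.Agent.* helpers here

set_option autoImplicit false
universe u
open CategoryTheory CategoryTheory.Limits AlgebraicGeometry
open AlgSp

namespace Groth.Agent.S9971

/-- A quasi-compact (or reduced-source) immersion is a scheme theoretically dense, topologically dense
open immersion into its scheme theoretic image. -/
theorem result {S : Scheme.{u}} {Z X Zbar : AlgSp.Space S} (h : Z ⟶ X)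
    (hh : AlgSp.RepWith @IsImmersion h.hom) (hq : AlgSp.IsQuasiCompactMor h.hom ∨ AlgSp.IsReducedSp Z.obj)
    (c : Zbar ⟶ X) (hc : AlgSp.IsSchImage h.hom c.hom) (h' : Z ⟶ Zbar) (fac : h' ≫ c = h) :
    AlgSp.RepWith @IsOpenImmersion h'.hom ∧ AlgSp.IsSchDense h'.hom ∧
      Dense (Set.range (AlgSp.Points.map h'.hom)) := by
  obtain ⟨V, p, hpe, hps⟩ := X.property.atlas
  obtain ⟨U₀, φ, pr, sq⟩ := hh.1 p
  have himm : IsImmersion φ.left := hh.2 _ _ φ sq
  have hfac : h'.hom ≫ c.hom = h.hom := congrArg (fun m => m.hom) fac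
  rcases hq with hq | hred
  · -- the quasi-compact case
    have hqc : QuasiCompact φ.left :=
      (Groth.Agent.S9912.repWith_quasiCompact_of_isQuasiCompactMor h.hom hh.1 hq).2 _ _ φ sq
    obtain ⟨Z₁, i₁, q₁, hsch₁, sqq₁⟩ :=
      Groth.Agent.Lib.Seat43.QcImage.exists_isSchImage_chart h hh.1 p hpe hps φ pr sq
    obtain ⟨e, he⟩ := Groth.Agent.Lib.Seat43.QcImage.isSchImage_unique Z₁.property Zbar.property
      hsch₁ hc
    have sqq : IsPullback (q₁ ≫ e.hom)
        ((AlgSp.yon S).map (Groth.Agent.Lib.Seat43.SchImage.idι V φ.left.ker)) c.hom p :=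
      IsPullback.of_iso sqq₁ (Iso.refl _) e (Iso.refl _) (Iso.refl _) (by simp) (by simp)
        (by simp [he]) (by simp)
    let τ : U₀ ⟶ Groth.Agent.Lib.Seat43.SchImage.idZo V φ.left.ker :=
      Over.homMk φ.left.toImage (by
        show φ.left.toImage ≫ φ.left.imageι ≫ V.hom = U₀.hom
        rw [← Category.assoc, φ.left.toImage_imageι, Over.w φ])
    have hτ : τ ≫ Groth.Agent.Lib.Seat43.SchImage.idι V φ.left.ker = φ := by
      apply Over.OverMorphism.ext
      exact φ.left.toImage_imageι
    have hopen : IsOpenImmersion τ.left := inferInstanceAs (IsOpenImmersion φ.left.toImage)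
    have hdom : IsSchemeTheoreticallyDominant τ.left :=
      Groth.Agent.Lib.Helper12.isSchemeTheoreticallyDominant_toImage φ.left
    have hτqc : QuasiCompact τ.left := inferInstanceAs (QuasiCompact φ.left.toImage)
    have hWι : τ.left.opensRange.ι = τ.left.isoOpensRange.inv ≫ τ.left :=
      (τ.left.isoOpensRange_inv_comp).symm
    have hWqc : QuasiCompact τ.left.opensRange.ι := by rw [hWι]; infer_instance
    have hWdom : IsSchemeTheoreticallyDominant τ.left.opensRange.ι := by
      rw [isSchemeTheoreticallyDominant_iff, hWι, Scheme.Hom.ker_comp_of_isIso,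
        τ.left.ker_eq_bot]
    have hdr : DenseRange τ.left := by
      have : IsDominant τ.left := inferInstanceAs (IsDominant φ.left.toImage)
      exact τ.left.denseRange
    exact Groth.Agent.Lib.Seat43.ImmImage.openImmersion_dense_of_chart h c hc.1 h' fac p hpe hps
      φ pr sq _ _ sqq τ hτ (Groth.Agent.Lib.Seat44.SchDense.dense_of_dominant _) hdr
  · -- the case of a reduced source
    have hred' := Groth.Agent.S9966.result h c hred hc
    obtain ⟨B, ι, q, sqq⟩ := hc.1.1 p
    have hιcl : IsClosedImmersion ι.left := hc.1.2 _ _ ι sqq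
    obtain ⟨τ, hτ'⟩ := (AlgSp.yon S).map_surjective
      (sqq.lift (pr ≫ h'.hom) ((AlgSp.yon S).map φ) (by rw [Category.assoc, hfac, sq.w]))
    have hτ : τ ≫ ι = φ := by
      apply (AlgSp.yon S).map_injective
      rw [Functor.map_comp, hτ', sqq.lift_snd]
    have hτl : τ.left ≫ ι.left = φ.left := congrArg (fun m => m.left) hτ
    have hqe : AlgSp.RepWith @Etale q :=
      (AlgSp.repWith_isStableUnderBaseChange (S := S) @Etale).of_isPullback sqq.flip hpe
    have hBred : IsReduced B.left :=
      Groth.Agent.Lib.Helper12.FieldBC.isReduced_of_chart hred'.2.2 q hqe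
    have : IsImmersion (τ.left ≫ ι.left) := hτl ▸ himm
    have hτimm : IsImmersion τ.left := IsImmersion.of_comp τ.left ι.left
    have hfun : (ι.left : B.left → V.left) ∘ (τ.left : U₀.left → B.left) = φ.left := by
      funext x
      show ι.left (τ.left x) = φ.left x
      rw [← Scheme.Hom.comp_apply, hτl]
    have hcl : Set.range ι.left = closure (Set.range ((ι.left : B.left → V.left) ∘ τ.left)) := by
      rw [hfun, ← Groth.Agent.Lib.Seat43.ImmImage.preimage_range_eq sq,
        ← Groth.Agent.Lib.Seat43.ImmImage.preimage_range_eq sqq, hred'.2.1,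
        (Groth.Agent.S10176.isOpenMap_ofPt p hpe).preimage_closure_eq_closure_preimage
          (AlgSp.Points.continuous_ofPt p)]
    have hlc : IsLocallyClosed (Set.range ((ι.left : B.left → V.left) ∘ τ.left)) := by
      rw [hfun]; exact φ.left.isLocallyClosed_range
    obtain ⟨hopen_range, hdr⟩ := Groth.Agent.Lib.Seat43.ImmImage.isOpen_range_and_denseRange
      τ.left ι.left ι.left.isClosedEmbedding hlc hcl
    have hopen : IsOpenImmersion τ.left :=
      Groth.Agent.Lib.Seat43.ImmImage.isOpenImmersion_of_isOpen_range τ.left hopen_range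
    have hdense : CInt.IsSchematicallyDense τ.left.opensRange :=
      Groth.Agent.Lib.Seat43.ImmImage.isSchematicallyDense_of_dense _ (by
        show Dense (Set.range τ.left)
        exact hdr)
    exact Groth.Agent.Lib.Seat43.ImmImage.openImmersion_dense_of_chart h c hc.1 h' fac p hpe hps
      φ pr sq ι q sqq τ hτ hdense hdr

end Groth.Agent.S9971
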