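import Groth.Statements.S9967
import Groth.Agent.S9971
import Groth.Agent.S9908
import Groth.Agent.S9906
import Groth.Agent.S10191
import Groth.Agent.S10194
import Groth.Agent.Lib.Helper12Proper
-- import your own Groth.Agent.* helpers here

set_option autoImplicit false
universe u
open CategoryTheory CategoryTheory.Limits AlgebraicGeometry
open AlgSp

namespace Groth.Agent.S9967

/-- For a separated f : X -> Y and a section s of f over a quasi-compact open V of Y, the scheme
theoretic image of s maps isomorphically to Y over V. -/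
theorem result {S : Scheme.{u}} {X Y V Y' : AlgSp.Space S} (f : X ⟶ Y) (j : V ⟶ Y)
    (hj : AlgSp.RepWith @IsOpenImmersion j.hom) (hjq : AlgSp.IsQuasiCompactMor j.hom) (hf : AlgSp.IsSeparatedMor f.hom)
    (s : V ⟶ X) (hs : s ≫ f = j) (c : Y' ⟶ X) (hc : AlgSp.IsSchImage s.hom c.hom)
    {P : AlgSp.Sp S} (fst : P ⟶ Y'.obj) (snd : P ⟶ V.obj) (sq : IsPullback fst snd (c ≫ f).hom j.hom) :
    IsIso snd := by
  have hsf : s.hom ≫ f.hom = j.hom := congrArg (fun m => m.hom) hs
  have hmono : ∀ {A B : AlgSp.Sp S} (g : A ⟶ B), AlgSp.RepWith @IsOpenImmersion g → Mono g :=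
    fun g hg => Groth.Agent.S9928.mono_of_repWith @IsOpenImmersion
      (fun _ _ k hk => by have : IsOpenImmersion k := hk; infer_instance) g hg
  have himm_of_closed : ∀ {A B : AlgSp.Sp S} (g : A ⟶ B),
      AlgSp.RepWith @IsClosedImmersion g → AlgSp.RepWith @IsImmersion g :=
    fun g hg => ⟨hg.1, fun T W a pr w sqw => by
      have : IsClosedImmersion w.left := hg.2 a pr w sqw
      exact (inferInstance : IsImmersion w.left)⟩
  have himm_of_open : ∀ {A B : AlgSp.Sp S} (g : A ⟶ B),
      AlgSp.RepWith @IsOpenImmersion g → AlgSp.RepWith @IsImmersion g :=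
    fun g hg => ⟨hg.1, fun T W a pr w sqw => by
      have : IsOpenImmersion w.left := hg.2 a pr w sqw
      exact (inferInstance : IsImmersion w.left)⟩
  -- `s` is a quasi-compact immersion: a closed immersion into `X_V` followed by an open immersion
  have sqXV := IsPullback.of_hasPullback (s.hom ≫ f.hom) f.hom
  have hXV : AlgSp.IsAlgSpace (pullback (s.hom ≫ f.hom) f.hom) :=
    Groth.Agent.S9874.isAlgSpace_of_isPullback Y.property.diag V.property X.property sqXV
  have hΓ : AlgSp.RepWith @IsClosedImmersion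
      (pullback.lift (𝟙 V.obj) s.hom (by simp) : V.obj ⟶ pullback (s.hom ≫ f.hom) f.hom) :=
    MorphismProperty.of_isPullback (P := AlgSp.RepWith @IsClosedImmersion)
      (pullback_lift_diagonal_isPullback s.hom f.hom) hf
  have ho : AlgSp.RepWith @IsOpenImmersion (pullback.snd (s.hom ≫ f.hom) f.hom) :=
    MorphismProperty.of_isPullback (P := AlgSp.RepWith @IsOpenImmersion) sqXV (hsf ▸ hj)
  have hoq : AlgSp.IsQuasiCompactMor (pullback.snd (s.hom ≫ f.hom) f.hom) :=
    Groth.Agent.Lib.Helper12.Proper.isQuasiCompactMor_baseChange sqXV (hsf ▸ hjq)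
  have e1 : s.hom = (pullback.lift (𝟙 V.obj) s.hom (by simp) :
      V.obj ⟶ pullback (s.hom ≫ f.hom) f.hom) ≫ pullback.snd (s.hom ≫ f.hom) f.hom := by
    rw [pullback.lift_snd]
  have hsimm : AlgSp.RepWith @IsImmersion s.hom := by
    rw [e1]
    exact (AlgSp.repWith_isMultiplicative (S := S) @IsImmersion).comp_mem _ _
      (himm_of_closed _ hΓ) (himm_of_open _ ho)
  have hsqc : AlgSp.IsQuasiCompactMor s.hom := by
    rw [e1]
    exact Groth.Agent.Lib.Helper12.Proper.isQuasiCompactMor_comp hXV X.property _ _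
      (Groth.Agent.Lib.Helper12.Proper.isQuasiCompactMor_of_isClosedImmersion _ hΓ) hoq
  -- the open immersion of `V` into the scheme theoretic image
  obtain ⟨s', hs'⟩ := hc.2.1
  let s'' : V ⟶ Y' := ObjectProperty.homMk s'
  have hfac : s'' ≫ c = s := by
    apply ObjectProperty.hom_ext
    exact hs'
  obtain ⟨hopen, -, hdr⟩ := Groth.Agent.S9971.result s hsimm (Or.inl hsqc) c hc s'' hfac
  -- the section of `snd`
  have hw : s' ≫ (c ≫ f).hom = 𝟙 V.obj ≫ j.hom := by
    show s' ≫ c.hom ≫ f.hom = 𝟙 V.obj ≫ j.hom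
    rw [← Category.assoc, hs', hsf, Category.id_comp]
  have hσ1 : sq.lift s' (𝟙 V.obj) hw ≫ fst = s' := sq.lift_fst _ _ _
  have hσ2 : sq.lift s' (𝟙 V.obj) hw ≫ snd = 𝟙 V.obj := sq.lift_snd _ _ _
  have hP : AlgSp.IsAlgSpace P :=
    Groth.Agent.S9874.isAlgSpace_of_isPullback Y.property.diag Y'.property V.property sq
  have hfst : AlgSp.RepWith @IsOpenImmersion fst :=
    MorphismProperty.of_isPullback (P := AlgSp.RepWith @IsOpenImmersion) sq.flip hj
  have : Mono fst := hmono _ hfst
  -- `σ` is an open immersion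
  have sqσ : IsPullback (𝟙 V.obj) (sq.lift s' (𝟙 V.obj) hw) s' fst := by
    refine IsPullback.of_isLimit' ⟨by rw [Category.id_comp, hσ1]⟩
      (PullbackCone.IsLimit.mk _ (fun t => t.fst) (fun t => by simp) (fun t => ?_)
        (fun t m hm1 _ => by simpa using hm1))
    rw [← cancel_mono fst, Category.assoc, hσ1]
    exact t.condition
  have hσopen : AlgSp.RepWith @IsOpenImmersion (sq.lift s' (𝟙 V.obj) hw) :=
    MorphismProperty.of_isPullback (P := AlgSp.RepWith @IsOpenImmersion) sqσ hopen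
  -- `σ` is a closed immersion
  have hcf : AlgSp.IsSeparatedMor (c ≫ f).hom := by
    have : Mono c.hom := Groth.Agent.S9928.mono_of_repWith @IsClosedImmersion
      (fun _ _ g hg => by have := hg; infer_instance) c.hom hc.1
    exact Groth.Agent.Lib.Helper12.Proper.isSeparatedMor_comp c.hom f.hom
      (Groth.Agent.Lib.Helper12.Proper.isSeparatedMor_of_mono c.hom) hf
  have hsnd : AlgSp.IsSeparatedMor snd :=
    Groth.Agent.Lib.Helper12.Proper.isSeparatedMor_baseChange sq hcf
  have hΓσ : AlgSp.RepWith @IsClosedImmersion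
      (pullback.lift (𝟙 V.obj) (sq.lift s' (𝟙 V.obj) hw) (by simp) :
        V.obj ⟶ pullback (sq.lift s' (𝟙 V.obj) hw ≫ snd) snd) :=
    MorphismProperty.of_isPullback (P := AlgSp.RepWith @IsClosedImmersion)
      (pullback_lift_diagonal_isPullback (sq.lift s' (𝟙 V.obj) hw) snd) hsnd
  have : IsIso (sq.lift s' (𝟙 V.obj) hw ≫ snd) := by rw [hσ2]; infer_instance
  have hσclosed : AlgSp.RepWith @IsClosedImmersion (sq.lift s' (𝟙 V.obj) hw) := by
    have e2 : sq.lift s' (𝟙 V.obj) hw =
        (pullback.lift (𝟙 V.obj) (sq.lift s' (𝟙 V.obj) hw) (by simp) :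
          V.obj ⟶ pullback (sq.lift s' (𝟙 V.obj) hw ≫ snd) snd) ≫
        pullback.snd (sq.lift s' (𝟙 V.obj) hw ≫ snd) snd := by
      rw [pullback.lift_snd]
    rw [e2]
    exact MorphismProperty.RespectsIso.postcomp _ _ _ hΓσ
  -- `σ` is surjective on points
  have hcl : IsClosed (Set.range (AlgSp.Points.map (sq.lift s' (𝟙 V.obj) hw))) :=
    (Groth.Agent.Lib.Helper12.Proper.isClosedMap_of_repWith_isClosedImmersion _
      hσclosed).isClosed_range
  have hfstopen : IsOpenMap (AlgSp.Points.map fst) :=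
    Groth.Agent.S9908.isOpenMap_map_of_repWith fst ⟨hfst.1, fun T W a pr w sqw => by
      have : IsOpenImmersion w.left := hfst.2 a pr w sqw
      exact (inferInstance : UniversallyOpen w.left)⟩
  have hfstinj : Function.Injective (AlgSp.Points.map fst) :=
    (Groth.Agent.S10191.result (Z := ⟨P, hP⟩) (X := Y') (ObjectProperty.homMk fst)
      (himm_of_open _ hfst)).1.injective
  have hsurj : Function.Surjective (AlgSp.Points.map (sq.lift s' (𝟙 V.obj) hw)) := by
    intro x
    by_contra hx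
    have hxO : x ∈ (Set.range (AlgSp.Points.map (sq.lift s' (𝟙 V.obj) hw)))ᶜ := hx
    have hOopen := hfstopen _ hcl.isOpen_compl
    obtain ⟨y, ⟨x', hx', rfl⟩, ⟨v, hv⟩⟩ :=
      hdr.inter_open_nonempty _ hOopen ⟨_, x, hxO, rfl⟩
    apply hx'
    refine ⟨v, hfstinj ?_⟩
    rw [← AlgSp.Points.map_comp, hσ1]
    exact hv
  have hσsurj : AlgSp.RepWith @Surjective (sq.lift s' (𝟙 V.obj) hw) :=
    Groth.Agent.S9906.repWith_surjective_of_surjective_map _ hσopen.1 hsurj
  have hσiso : IsIso (sq.lift s' (𝟙 V.obj) hw) :=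
    Groth.Agent.S10194.isIso_of_repWith_openImmersion_surjective _ hσopen hσsurj
  have e3 : snd = inv (sq.lift s' (𝟙 V.obj) hw) := by
    rw [← cancel_epi (sq.lift s' (𝟙 V.obj) hw), hσ2, IsIso.hom_inv_id]
  rw [e3]
  infer_instance

end Groth.Agent.S9967
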