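import Groth.Statements.S9969
import Groth.Agent.Lib.Seat43QcImage
import Groth.Agent.Lib.Seat44SchDenseSp
import Groth.Agent.S9912
-- import your own Groth.Agent.* helpers here

set_option autoImplicit false
universe u
open CategoryTheory CategoryTheory.Limits AlgebraicGeometry
open AlgSp

namespace Groth.Agent.S9969

/-- For a quasi-compact open subspace, scheme theoretic density is equivalent to the scheme theoretic
closure being everything. -/
theorem result {S : Scheme.{u}} {U X : AlgSp.Space S} (j : U ⟶ X)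
    (hj : AlgSp.RepWith @IsOpenImmersion j.hom) (hq : AlgSp.IsQuasiCompactMor j.hom) :
    AlgSp.IsSchDense j.hom ↔ AlgSp.IsSchImage j.hom (𝟙 X.obj) := by
  refine ⟨Groth.Agent.Lib.Seat44.SchDenseSp.isSchImage_id_of_isSchDense j.hom, fun hsch => ?_⟩
  obtain ⟨V, p, hpe, hps⟩ := X.property.atlas
  obtain ⟨U₀, φ, pr, sq⟩ := hj.1 p
  have hopen : IsOpenImmersion φ.left := hj.2 _ _ φ sq
  have hqc : QuasiCompact φ.left :=
    (Groth.Agent.S9912.repWith_quasiCompact_of_isQuasiCompactMor j.hom hj.1 hq).2 _ _ φ sq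
  obtain ⟨Z, i, q, hsch', sqq⟩ :=
    Groth.Agent.Lib.Seat43.QcImage.exists_isSchImage_chart j hj.1 p hpe hps φ pr sq
  obtain ⟨e, he⟩ := Groth.Agent.Lib.Seat43.QcImage.isSchImage_unique Z.property X.property
    hsch' hsch
  have hi : IsIso i.hom := by
    rw [← he, Category.comp_id]; infer_instance
  -- the kernel of `φ` vanishes
  have hιiso : IsIso ((AlgSp.yon S).map (Groth.Agent.Lib.Seat43.SchImage.idι V φ.left.ker)) :=
    (MorphismProperty.isomorphisms (AlgSp.Sp S)).of_isPullback sqq hi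
  have hι : IsIso (Groth.Agent.Lib.Seat43.SchImage.idι V φ.left.ker) :=
    isIso_of_fully_faithful (AlgSp.yon S) _
  have hι' : IsIso (φ.left.ker).subschemeι :=
    inferInstanceAs (IsIso ((Over.forget S).map (Groth.Agent.Lib.Seat43.SchImage.idι V φ.left.ker)))
  have hker : φ.left.ker = ⊥ := (Scheme.isIso_subschemeι_iff_eq_bot _).1 hι'
  -- the open subscheme
  let W : V.left.Opens := φ.left.opensRange
  have hWι : W.ι = φ.left.isoOpensRange.inv ≫ φ.left := (φ.left.isoOpensRange_inv_comp).symm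
  have hWqc : QuasiCompact W.ι := by rw [hWι]; infer_instance
  have hWdom : IsSchemeTheoreticallyDominant W.ι := by
    rw [isSchemeTheoreticallyDominant_iff, hWι, Scheme.Hom.ker_comp_of_isIso, hker]
  let ε : Over.mk (W.ι ≫ V.hom) ⟶ U₀ := Over.homMk φ.left.isoOpensRange.inv (by
    show φ.left.isoOpensRange.inv ≫ U₀.hom = W.ι ≫ V.hom
    rw [← Over.w φ, ← Category.assoc, φ.left.isoOpensRange_inv_comp])
  have hεφ : ε ≫ φ = (Over.homMk W.ι rfl : Over.mk (W.ι ≫ V.hom) ⟶ V) := by
    apply Over.OverMorphism.ext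
    exact φ.left.isoOpensRange_inv_comp
  have hεiso : IsIso ε := by
    have : IsIso ((Over.forget S).map ε) :=
      inferInstanceAs (IsIso φ.left.isoOpensRange.inv)
    exact isIso_of_reflects_iso ε (Over.forget S)
  have sqε : IsPullback ((AlgSp.yon S).map ε)
      ((AlgSp.yon S).map (Over.homMk W.ι rfl : Over.mk (W.ι ≫ V.hom) ⟶ V))
      ((AlgSp.yon S).map φ) (𝟙 _) :=
    IsPullback.of_horiz_isIso ⟨by rw [Category.comp_id, ← Functor.map_comp, hεφ]⟩
  have sqW := sqε.paste_horiz sq
  rw [Category.id_comp] at sqW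
  exact ⟨hj, V, p, W, (AlgSp.yon S).map ε ≫ pr, hpe, hps, sqW,
    Groth.Agent.Lib.Seat44.SchDense.dense_of_dominant W⟩

end Groth.Agent.S9969
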