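import Groth.Statements.S9978
import Groth.Agent.Lib.Seat43NagataAlgSp

set_option autoImplicit false
universe u
open CategoryTheory CategoryTheory.Limits AlgebraicGeometry
open AlgSp

namespace Groth.Agent.S9978

/-- An algebraic space locally of finite type over a Nagata algebraic space is Nagata. -/
theorem result {S : Scheme.{u}} {X Y : AlgSp.Space S} (f : X ⟶ Y)
    (hf : AlgSp.LocP @LocallyOfFiniteType f.hom)
    (hY : AlgSp.EtaleLocally (fun U => ∀ V : U.Opens, IsAffineOpen V → CAlg.IsNagata ↑Γ(U, V)) Y.obj) :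
    AlgSp.EtaleLocally (fun U => ∀ V : U.Opens, IsAffineOpen V → CAlg.IsNagata ↑Γ(U, V)) X.obj := by
  obtain ⟨V, q, hq1, hq2, hV⟩ := hY
  obtain ⟨U₀, p₀, hp1, hp2⟩ := X.property.atlas
  have hq : AlgSp.Representable q := hq1.rep
  let g : (AlgSp.yon S).obj U₀ ⟶ Y.obj := p₀ ≫ f.hom
  have sq := hq.isPullback g
  obtain ⟨h, hh⟩ := (AlgSp.yon S).map_surjective (hq.fst g)
  have e1 : AlgSp.RepWith @Etale ((AlgSp.yon S).map (hq.snd g)) :=
    (AlgSp.repWith_isStableUnderBaseChange (S := S) @Etale).of_isPullback sq hq1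
  have e2 : AlgSp.RepWith @Surjective ((AlgSp.yon S).map (hq.snd g)) :=
    (AlgSp.repWith_isStableUnderBaseChange (S := S) @Surjective).of_isPullback sq hq2
  have a1 : AlgSp.RepWith @Etale ((AlgSp.yon S).map (hq.snd g) ≫ p₀) :=
    (AlgSp.repWith_isMultiplicative (S := S) @Etale).comp_mem _ _ e1 hp1
  have a2 : AlgSp.RepWith @Surjective ((AlgSp.yon S).map (hq.snd g) ≫ p₀) :=
    (AlgSp.repWith_isMultiplicative (S := S) @Surjective).comp_mem _ _ e2 hp2
  have hw : ((AlgSp.yon S).map (hq.snd g) ≫ p₀) ≫ f.hom = (AlgSp.yon S).map h ≫ q := by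
    rw [hh, Category.assoc]
    exact sq.w.symm
  have hlft : LocallyOfFiniteType h.left := hf _ q h a1 hq1 hw
  exact ⟨hq.pullback g, (AlgSp.yon S).map (hq.snd g) ≫ p₀, a1, a2,
    Groth.Agent.Lib.Seat43.NagataAlgSp.nagata_of_lft h.left hV⟩

end Groth.Agent.S9978
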