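import Groth.Statements.S9987
import Groth.Agent.Lib.Seat48BCEt4

set_option autoImplicit false
universe u
open CategoryTheory CategoryTheory.Limits AlgebraicGeometry Opposite
open AlgSp

namespace Groth.Agent.S9987

/-- For a closed immersion i : Z ⟶ X of algebraic spaces over S (representable, every base change to a
scheme a closed immersion), the comparison map O_X ⟶ i_* O_Z of sheaves of rings on the small etale
site of X is locally surjective. (The published statement also asserts that i_* O_Z is a
quasi-coherent O_X-module and that the kernel of O_X ⟶ i_* O_Z is a quasi-coherent sheaf of ideals;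
those two assertions are the closed-immersion cases of the general facts that direct images along
quasi-compact quasi-separated morphisms preserve quasi-coherence and that the kernel ideal of a
quasi-compact morphism is quasi-coherent, a closed immersion being quasi-compact and separated, and
only the surjectivity is stated here.) -/
theorem result {S : Scheme.{u}} {Z X : AlgSp.Space S} (i : Z ⟶ X)
    (hi : AlgSp.RepWith @IsClosedImmersion i.hom) :
    Presheaf.IsLocallySurjective (AlgSp.etTop X.obj) (AlgSp.bcRingHom hi.1).hom := by
  constructor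
  intro U s
  refine (AlgSp.etTop X.obj).superset_covering ?_ (Groth.Agent.Lib.Seat48.BCEt.affCover X.obj U)
  rintro Y f ⟨V, g, k, hV, rfl⟩
  have hVa : IsAffine V.obj.left.left := hV
  have hcl : IsClosedImmersion (AlgSp.EtOver.bcπ hi.1 V).left :=
    hi.2 V.obj.hom _ _ (AlgSp.EtOver.isPullback_bcObj hi.1 V)
  obtain ⟨-, hsurj⟩ :=
    IsClosedImmersion.isAffine_surjective_of_isAffine (AlgSp.EtOver.bcπ hi.1 V).left
  -- the restriction of `s` to `V`
  let G := ((AlgSp.EtOver.bc hi.1).sheafPushforwardContinuous RingCat.{u + 1}
    (AlgSp.etTop X.obj) (AlgSp.etTop Z.obj)).obj (AlgSp.OEtRing Z.obj)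
  let sV : ULift.{u + 1} Γ(((AlgSp.EtOver.bc hi.1).obj V).obj.left.left, ⊤) := G.obj.map k.op s
  obtain ⟨t0, ht0⟩ := hsurj sV.down
  let tV : (AlgSp.OEtRing X.obj).obj.obj (op V) := ULift.up t0
  have htV : ((AlgSp.bcRingHom hi.1).hom.app (op V)) tV = G.obj.map k.op s := by
    apply ULift.ext
    exact ht0
  refine ⟨(AlgSp.OEtRing X.obj).obj.map g.op tV, ?_⟩
  have hnat := congrArg (fun φ => (ConcreteCategory.hom φ) tV)
    ((AlgSp.bcRingHom hi.1).hom.naturality g.op)
  simp only [ConcreteCategory.comp_apply] at hnat
  rw [hnat, htV]
  rw [← ConcreteCategory.comp_apply, ← G.obj.map_comp]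
  rfl

end Groth.Agent.S9987
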