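import Groth.Statements.S9989
import Mathlib
import Groth.Agent.Lib.Seat48IdealEt2

set_option autoImplicit false
universe u
open CategoryTheory CategoryTheory.Limits AlgebraicGeometry Opposite
open AlgSp

namespace Groth.Agent.S9989

/-- For closed subspaces i : Z ⟶ X and i' : Z' ⟶ X of an algebraic space cut out by sheaves of ideals I
and I', one has I ≤ I' exactly when i' factors through i. -/
theorem result {S : Scheme.{u}} {X Z Z' : AlgSp.Space S} (i : Z ⟶ X) (i' : Z' ⟶ X)
    (I I' : AlgSp.IdealEt X.obj) (h : AlgSp.IsCutOutBy I i.hom) (h' : AlgSp.IsCutOutBy I' i'.hom) :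
    I ≤ I' ↔ ∃ k : Z' ⟶ Z, k ≫ i = i' := by
  obtain ⟨hi, eI⟩ := h
  obtain ⟨hi', eI'⟩ := h'
  constructor
  · intro hle
    rw [← eI, ← eI'] at hle
    obtain ⟨V, φ, hφ, hφs⟩ := X.property.atlas
    obtain ⟨IV, hIV⟩ := Groth.Agent.Lib.Seat48.EffCartierSp.exists_isInvImage hi φ
    obtain ⟨IV', hIV'⟩ := Groth.Agent.Lib.Seat48.EffCartierSp.exists_isInvImage hi' φ
    have hVle : IV ≤ IV' :=
      Groth.Agent.Lib.Seat48.IdealEtFac.le_of_idealOfRep_le hi hi' hle φ hφ hIV hIV'
    obtain ⟨fst, sq⟩ := hIV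
    obtain ⟨fst', sq'⟩ := hIV'
    have hfe : AlgSp.RepWith @Etale fst' := MorphismProperty.of_isPullback sq'.flip hφ
    have hfs : AlgSp.RepWith @Surjective fst' := MorphismProperty.of_isPullback sq'.flip hφs
    have : Epi fst' := Groth.Agent.S9927.epi_of_repWith fst' hfe hfs
    have : Mono i.hom := Groth.Agent.S9928.mono_of_repWith @IsClosedImmersion
      (fun _ _ f hf => by have : IsClosedImmersion f := hf; infer_instance) i.hom hi
    -- the inclusion of closed subschemes of the chart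
    let inc : Groth.Agent.Lib.Seat48.EffCartierSp.subOver IV' ⟶
        Groth.Agent.Lib.Seat48.EffCartierSp.subOver IV :=
      Over.homMk (Scheme.IdealSheafData.inclusion hVle) (by
        show Scheme.IdealSheafData.inclusion hVle ≫ (IV.subschemeι ≫ V.hom) =
          IV'.subschemeι ≫ V.hom
        rw [← Category.assoc, Scheme.IdealSheafData.inclusion_subschemeι])
    have hinc : inc ≫ Groth.Agent.Lib.Seat48.EffCartierSp.subι IV =
        Groth.Agent.Lib.Seat48.EffCartierSp.subι IV' := by
      apply Over.OverMorphism.ext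
      exact Scheme.IdealSheafData.inclusion_subschemeι hVle
    have hd : ((AlgSp.yon S).map inc ≫ fst) ≫ i.hom = fst' ≫ i'.hom := by
      rw [Category.assoc, sq.w, ← Category.assoc, ← Functor.map_comp, hinc, sq'.w]
    obtain ⟨k, hk⟩ := Groth.Agent.Lib.Seat48.IdealEtFac.exists_factor_of_epi i.hom i'.hom fst'
      ((AlgSp.yon S).map inc ≫ fst) hd
    exact ⟨ObjectProperty.homMk k, ObjectProperty.hom_ext _ hk⟩
  · rintro ⟨k, hk⟩
    rw [← eI, ← eI']
    exact Groth.Agent.Lib.Seat48.IdealEtFac.idealOfRep_le_of_factor hi.1 hi'.1 k.hom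
      (congrArg (fun m => m.hom) hk)

end Groth.Agent.S9989
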