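import Groth.Statements.S9995
import Groth.Agent.Lib.Seat45QFinSp

set_option autoImplicit false
set_option linter.style.haveILetI false
universe u
open CategoryTheory CategoryTheory.Limits AlgebraicGeometry
open AlgSp

namespace Groth.Agent.S9995

/-- For a morphism f : X ⟶ Y of algebraic spaces of finite type and a point y of |Y|, the set of points
of |X| over y where f is quasi-finite is finite (in the neighbourhood sense, through some chart
diagram). -/
theorem result {S : Scheme.{u}} {X Y : AlgSp.Space S} (f : X ⟶ Y)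
    (hf : AlgSp.IsFiniteTypeMor f.hom) (y : AlgSp.Points Y.obj) :
    {x : AlgSp.Points X.obj | AlgSp.Points.map f.hom x = y ∧
      AlgSp.HasAtMor (fun U _ h u => ∃ W : U.Opens, u ∈ W ∧ LocallyQuasiFinite (W.ι ≫ h) ∧
        LocallyOfFiniteType (W.ι ≫ h)) f.hom x}.Finite := by
  open Groth.Agent.Lib.Seat45.QFin in
  obtain ⟨hlft, hqc⟩ := hf
  obtain ⟨V, b, v, hbe, hv, hVaff⟩ := exists_affine_chart Y.property y
  haveI : IsAffine V.left := hVaff
  obtain ⟨U, a, h, hae, hc, hUc, hlift⟩ :=
    exists_qc_chart_diagram_over X.property Y.property f.hom hqc b hbe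
  haveI : CompactSpace ↥U.left := hUc
  haveI : LocallyOfFiniteType h.left := hlft a b h hae hbe hc
  refine ((finite_quasiFiniteAt_fibre h.left v).image (AlgSp.Points.ofPt a)).subset ?_
  rintro x ⟨hxy, hx⟩
  obtain ⟨u, rfl, huv⟩ := hlift x v (by rw [hxy, hv])
  exact ⟨u, ⟨huv, (hasAtMor_qfNear_ofPt_iff X.property Y.property f.hom hlft a b h hae hbe hc u).1 hx⟩, rfl⟩

end Groth.Agent.S9995
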