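import Groth.Statements.S9997
import Mathlib
import Groth.Agent.Lib.Seat48IdealEt2
import Groth.Agent.Lib.Seat48IdealFG
import Groth.Agent.S9948

set_option autoImplicit false
universe u
open CategoryTheory CategoryTheory.Limits AlgebraicGeometry Opposite
open AlgSp

namespace Groth.Agent.S9997

/-- A closed immersion i : Z ⟶ X of algebraic spaces is (locally) of finite presentation if and only if
its sheaf of ideals is of finite type; finite type is rendered chart by chart, as finite generation
of the kernel ideal Ker(Γ(U, O_U) → Γ(Z ×_X U, O)) for every affine etale chart U of X (for a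
quasi-coherent sheaf of ideals the two readings agree by descent of finite generation along etale
coverings). -/
theorem result {S : Scheme.{u}} {Z X : AlgSp.Space S} (i : Z ⟶ X)
    (hi : AlgSp.RepWith @IsClosedImmersion i.hom) :
    AlgSp.LocP @LocallyOfFinitePresentation i.hom ↔
      ∀ (E : AlgSp.EtOver X.obj) (hE : IsAffine E.obj.left.left), ((AlgSp.idealOfRep hi.1).ideal E hE).FG := by
  have key := Groth.Agent.S9948.locP_iff_repWith @LocallyOfFinitePresentation
    (fun g hg => by have := hg; exact (inferInstance : LocallyOfFinitePresentation g))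
    X.property i.hom hi.1
  constructor
  · intro hloc E hE
    have hR := key.1 hloc
    have sq := AlgSp.EtOver.isPullback_bcObj hi.1 E
    have h1 : LocallyOfFinitePresentation (AlgSp.EtOver.bcπ hi.1 E).left := hR.2 _ _ _ sq
    have h2 : IsClosedImmersion (AlgSp.EtOver.bcπ hi.1 E).left := hi.2 _ _ _ sq
    exact Groth.Agent.Lib.Seat48.IdealFG.ker_appTop_fg_of_locallyOfFinitePresentation
      (AlgSp.EtOver.bcπ hi.1 E).left
  · intro hfg U V a b h ha hb hcomm
    obtain ⟨IV, hIV⟩ := Groth.Agent.Lib.Seat48.EffCartierSp.exists_isInvImage hi b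
    have hIVfg : ∀ V₁ : V.left.affineOpens, (IV.ideal V₁).FG := by
      intro V₁
      have h1 := Groth.Agent.Lib.Seat48.IdealEtSp.idealOfRep_openObj hi b hb V₁ hIV
      have h2 := hfg (Groth.Agent.Lib.Seat48.IdealEtSp.openObj b hb V₁.1) V₁.2
      rw [h1] at h2
      have hbij : Function.Bijective (V₁.1.ι.appLE V₁.1 ⊤ V₁.1.ι_preimage_self.ge).hom :=
        ConcreteCategory.bijective_of_isIso _
      let e := RingEquiv.ofBijective (V₁.1.ι.appLE V₁.1 ⊤ V₁.1.ι_preimage_self.ge).hom hbij
      have h3 := h2.map (e.symm : Γ((V₁.1 : Scheme.{u}), ⊤) →+* Γ(V.left, V₁.1))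
      have h4 : Ideal.map (e.symm : Γ((V₁.1 : Scheme.{u}), ⊤) →+* Γ(V.left, V₁.1))
          (Ideal.map (V₁.1.ι.appLE V₁.1 ⊤ V₁.1.ι_preimage_self.ge).hom (IV.ideal V₁)) =
          IV.ideal V₁ := by
        rw [Ideal.map_map]
        have : (e.symm : Γ((V₁.1 : Scheme.{u}), ⊤) →+* Γ(V.left, V₁.1)).comp
            (V₁.1.ι.appLE V₁.1 ⊤ V₁.1.ι_preimage_self.ge).hom = RingHom.id _ := by
          ext x
          exact e.symm_apply_apply x
        rw [this, Ideal.map_id]
      exact h4 ▸ h3
    obtain ⟨fst, sq⟩ := hIV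
    obtain ⟨l, hl⟩ := (AlgSp.yon S).map_surjective (sq.lift a ((AlgSp.yon S).map h) hcomm)
    have hl1 : (AlgSp.yon S).map l ≫ fst = a := by
      rw [hl]; exact sq.lift_fst _ _ _
    have hl2 : l ≫ Groth.Agent.Lib.Seat48.EffCartierSp.subι IV = h := by
      apply (AlgSp.yon S).map_injective
      rw [Functor.map_comp, hl]
      exact sq.lift_snd _ _ _
    have hfst : AlgSp.RepWith @Etale fst := MorphismProperty.of_isPullback sq.flip hb
    let EU : AlgSp.EtOver Z.obj := AlgSp.EtOver.mk a ha
    let EV : AlgSp.EtOver Z.obj := AlgSp.EtOver.mk fst hfst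
    have hlet : Etale l.left :=
      AlgSp.EtOver.etale_left (AlgSp.EtOver.homMk (E := EU) (E' := EV) l hl1)
    have hfp : LocallyOfFinitePresentation IV.subschemeι :=
      Groth.Agent.Lib.Seat48.IdealFG.locallyOfFinitePresentation_subschemeι IV hIVfg
    rw [← hl2]
    show LocallyOfFinitePresentation (l.left ≫ IV.subschemeι)
    infer_instance

end Groth.Agent.S9997
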